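import Cfsg.Statements.S2681
-- import your own Cfsg.Agent.* helpers here
import Mathlib
import Cfsg.Agent.Lib.Helper36.InvCentSp

set_option autoImplicit false
open Cfsg

namespace Cfsg.Agent.S2681

open Matrix Cfsg.Agent.Helper36.InvCentSp

/-- the order of the symplectic group in the shape of the statements -/
theorem card_sp' {F : Type*} [Field F] [Fintype F] {q : ℕ} (hF : Fintype.card F = q) (j : ℕ) :
    Nat.card ↥(Matrix.symplecticGroup (Fin j) F) =
      q ^ (j ^ 2) * ∏ i : Fin j, (q ^ (2 * ((i : ℕ) + 1)) - 1) := by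
  rw [Cfsg.Agent.Lead.card_symplecticGroup j, Nat.card_eq_fintype_card (α := F), hF,
    Fin.prod_univ_eq_prod_range (fun i => q ^ (2 * (i + 1)) - 1) j]

theorem exp_arith (j k : ℕ) :
    2 * (2 * j + k) * (2 * j) - (3 * (2 * j) ^ 2 - 2 * j) / 2 =
      (k + k) * (j + j) + (j + j + 1).choose 2 := by
  have h1 : 3 * (2 * j) ^ 2 - 2 * j = 2 * (6 * j ^ 2 - j) := by
    have : j ≤ 6 * j ^ 2 := by nlinarith
    have h2 : 3 * (2 * j) ^ 2 = 2 * (6 * j ^ 2) := by ring
    omega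
  have h3 : (j + j + 1).choose 2 = (2 * j + 1) * j := by
    rw [Nat.choose_two_right]
    have : (j + j + 1) * (j + j + 1 - 1) = 2 * ((2 * j + 1) * j) := by
      have : j + j + 1 - 1 = 2 * j := by omega
      rw [this]
      ring
    rw [this, Nat.mul_div_cancel_left _ (by norm_num : 0 < 2)]
  rw [h1, Nat.mul_div_cancel_left _ (by norm_num : 0 < 2), h3]
  have h4 : j ≤ 6 * j ^ 2 := by nlinarith
  have h5 : 2 * (2 * j + k) * (2 * j) = (k + k) * (j + j) + (2 * j + 1) * j + (6 * j ^ 2 - j) := by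
    zify [h4]
    ring
  omega

/-- Centraliser order of an involution t of Sp_2m(q), q even, with s = rank(t − 1) even and f(v, tv) = 0 for every v, f the symplectic form (type a_s): |C(t)| = q^(2ms − (3s² − s)/2) · |Sp_s(q)| · |Sp_(2m−2s)(q)|. -/
theorem result {F : Type*} [Field F] [Fintype F] [CharP F 2] {q : ℕ} (hF : Fintype.card F = q) {m s : ℕ} (t : Matrix.symplecticGroup (Fin m) F) (ht : t ^ 2 = 1) (ht1 : t ≠ 1) (hs : ((t : Matrix (Fin m ⊕ Fin m) (Fin m ⊕ Fin m) F) - 1).rank = s) (heven : Even s) (halt : ∀ v : Fin m ⊕ Fin m → F, Cfsg.sympForm m F v ((t : Matrix (Fin m ⊕ Fin m) (Fin m ⊕ Fin m) F).mulVec v) = 0) : Nat.card ↥(Subgroup.centralizer ({t} : Set ↥(Matrix.symplecticGroup (Fin m) F))) = q ^ (2 * m * s - (3 * s ^ 2 - s) / 2) * ((q : ℕ) ^ ((s / 2) ^ 2) * ∏ i : Fin (s / 2), (q ^ (2 * ((i : ℕ) + 1)) - 1)) * ((q : ℕ) ^ ((m - s) ^ 2) * ∏ i : Fin (m - s), (q ^ (2 * ((i : ℕ) + 1)) - 1)) := by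
  classical
  have htt : (t : Matrix (Fin m ⊕ Fin m) (Fin m ⊕ Fin m) F) * t.1 = 1 := by
    have := congrArg Subtype.val ht
    rwa [pow_two] at this
  have hsm : s ≤ m := by
    rw [← hs]
    exact Cfsg.Agent.S2593.rank_le_of_sq t.1 htt
  obtain ⟨j, hj⟩ := heven
  obtain ⟨k, hk⟩ : ∃ k, m = s + k := ⟨m - s, by omega⟩
  have hcard : Fintype.card (Fin m) = Fintype.card ((Fin j ⊕ Fin j) ⊕ Fin k) := by
    simp only [Fintype.card_sum, Fintype.card_fin]
    omega
  have e : Fin m ≃ (Fin j ⊕ Fin j) ⊕ Fin k := Fintype.equivOfCardEq hcard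
  have hmain := card_centralizer_of_data e (Matrix.J (Fin j) F) (Matrix.J (Fin j) F)
    (J_symm j) (J_mul_J j) t ht
    (by rw [hs]; simp only [Fintype.card_sum, Fintype.card_fin]; exact hj)
    (iff_of_true halt (J_alt j))
  rw [hmain]
  have h4 : Nat.card {S : Matrix (Fin j ⊕ Fin j) (Fin j ⊕ Fin j) F //
      S * Matrix.J (Fin j) F * Sᵀ = Matrix.J (Fin j) F} =
      Nat.card ↥(Matrix.symplecticGroup (Fin j) F) :=
    Nat.card_congr (Equiv.subtypeEquivRight (fun S => SymplecticGroup.mem_iff.symm))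
  rw [h4, card_sp' hF j, card_sp' hF k, hF]
  simp only [Fintype.card_sum, Fintype.card_fin]
  have hms : m - s = k := by omega
  have hs2 : s / 2 = j := by omega
  rw [hms, hs2, hk, hj, ← two_mul j, exp_arith j k, ← two_mul j]
  rw [pow_add]
  ring

end Cfsg.Agent.S2681
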