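import Cfsg.Statements.S2682
-- import your own Cfsg.Agent.* helpers here
import Mathlib
import Cfsg.Agent.Lib.Helper36.InvCentSp

set_option autoImplicit false
open Cfsg

namespace Cfsg.Agent.S2682

open Matrix Cfsg.Agent.Helper36.InvCentSp

/-- the order of the symplectic group in the shape of the statements -/
theorem card_sp' {F : Type*} [Field F] [Fintype F] {q : ℕ} (hF : Fintype.card F = q) (j : ℕ) :
    Nat.card ↥(Matrix.symplecticGroup (Fin j) F) =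
      q ^ (j ^ 2) * ∏ i : Fin j, (q ^ (2 * ((i : ℕ) + 1)) - 1) := by
  rw [Cfsg.Agent.Lead.card_symplecticGroup j, Nat.card_eq_fintype_card (α := F), hF,
    Fin.prod_univ_eq_prod_range (fun i => q ^ (2 * (i + 1)) - 1) j]

theorem exp_arith_c (j' k : ℕ) :
    (j' + 1) ^ 2 + ((k + k) * (j' + 1 + (j' + 1)) + (j' + 1 + (j' + 1) + 1).choose 2) =
      (2 * (2 * j' + 2 + k) * (2 * j' + 2) - (3 * (2 * j' + 2) ^ 2 - 3 * (2 * j' + 2)) / 2 - 1) +
        j' ^ 2 := by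
  have h1 : 3 * (2 * j' + 2) ^ 2 - 3 * (2 * j' + 2) = 2 * (3 * (j' + 1) * (2 * j' + 1)) := by
    have h2 : 3 * (2 * j' + 2) ^ 2 = 2 * (3 * (j' + 1) * (2 * j' + 1)) + 3 * (2 * j' + 2) := by
      ring
    omega
  have h3 : (j' + 1 + (j' + 1) + 1).choose 2 = (2 * j' + 3) * (j' + 1) := by
    rw [Nat.choose_two_right]
    have : (j' + 1 + (j' + 1) + 1) * (j' + 1 + (j' + 1) + 1 - 1) =
        2 * ((2 * j' + 3) * (j' + 1)) := by
      have : j' + 1 + (j' + 1) + 1 - 1 = 2 * j' + 2 := by omega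
      rw [this]
      ring
    rw [this, Nat.mul_div_cancel_left _ (by norm_num : 0 < 2)]
  rw [h1, Nat.mul_div_cancel_left _ (by norm_num : 0 < 2), h3]
  have h5 : 2 * (2 * j' + 2 + k) * (2 * j' + 2) =
      (j' + 1) * (2 * j' + 5 + 4 * k) + 3 * (j' + 1) * (2 * j' + 1) := by
    ring
  have h6 : (j' + 1) ^ 2 + ((k + k) * (j' + 1 + (j' + 1)) + (2 * j' + 3) * (j' + 1)) + 1 =
      (j' + 1) * (2 * j' + 5 + 4 * k) + j' ^ 2 := by
    ring
  have h7 : 1 ≤ (j' + 1) * (2 * j' + 5 + 4 * k) := by nlinarith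
  omega

/-- Centraliser order of an involution t of Sp_2m(q), q even, with s = rank(t − 1) even and f(v, tv) ≠ 0 for some v, f the symplectic form (type c_s): |C(t)| = q^(2ms − (3s² − 3s)/2 − 1) · |Sp_(s−2)(q)| · |Sp_(2m−2s)(q)|. -/
theorem result {F : Type*} [Field F] [Fintype F] [CharP F 2] {q : ℕ} (hF : Fintype.card F = q) {m s : ℕ} (t : Matrix.symplecticGroup (Fin m) F) (ht : t ^ 2 = 1) (hs : ((t : Matrix (Fin m ⊕ Fin m) (Fin m ⊕ Fin m) F) - 1).rank = s) (heven : Even s) (hna : ∃ v : Fin m ⊕ Fin m → F, Cfsg.sympForm m F v ((t : Matrix (Fin m ⊕ Fin m) (Fin m ⊕ Fin m) F).mulVec v) ≠ 0) : Nat.card ↥(Subgroup.centralizer ({t} : Set ↥(Matrix.symplecticGroup (Fin m) F))) = q ^ (2 * m * s - (3 * s ^ 2 - 3 * s) / 2 - 1) * ((q : ℕ) ^ (((s - 2) / 2) ^ 2) * ∏ i : Fin ((s - 2) / 2), (q ^ (2 * ((i : ℕ) + 1)) - 1)) * ((q : ℕ) ^ ((m - s) ^ 2) * ∏ i : Fin (m - s), (q ^ (2 * ((i : ℕ) + 1)) - 1)) := by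
  classical
  have htt : (t : Matrix (Fin m ⊕ Fin m) (Fin m ⊕ Fin m) F) * t.1 = 1 := by
    have := congrArg Subtype.val ht
    rwa [pow_two] at this
  have hsm : s ≤ m := by
    rw [← hs]
    exact Cfsg.Agent.S2593.rank_le_of_sq t.1 htt
  have hnalt : ¬ ∀ v : Fin m ⊕ Fin m → F, Cfsg.sympForm m F v
      ((t : Matrix (Fin m ⊕ Fin m) (Fin m ⊕ Fin m) F) *ᵥ v) = 0 := by
    intro halt
    obtain ⟨v, hv⟩ := hna
    exact hv (halt v)
  have hs0 : s ≠ 0 := by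
    intro h0
    rw [h0] at hs
    have h1 : (t : Matrix (Fin m ⊕ Fin m) (Fin m ⊕ Fin m) F) - 1 = 0 := by
      unfold Matrix.rank at hs
      have h2 := Submodule.finrank_eq_zero.mp hs
      have h3 := LinearMap.range_eq_bot.mp h2
      have h4 : Matrix.toLin' ((t : Matrix (Fin m ⊕ Fin m) (Fin m ⊕ Fin m) F) - 1) = 0 := h3
      exact (map_eq_zero_iff _ Matrix.toLin'.injective).mp h4
    have h5 : (t : Matrix (Fin m ⊕ Fin m) (Fin m ⊕ Fin m) F) = 1 := sub_eq_zero.mp h1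
    apply hnalt
    intro v
    rw [h5, one_mulVec]
    exact J_alt m v
  obtain ⟨j, hj⟩ := heven
  obtain ⟨j', rfl⟩ : ∃ j', j = j' + 1 := ⟨j - 1, by omega⟩
  obtain ⟨k, hk⟩ : ∃ k, m = s + k := ⟨m - s, by omega⟩
  have hcard : Fintype.card (Fin m) =
      Fintype.card ((Fin (j' + 1) ⊕ Fin (j' + 1)) ⊕ Fin k) := by
    simp only [Fintype.card_sum, Fintype.card_fin]
    omega
  have e : Fin m ≃ (Fin (j' + 1) ⊕ Fin (j' + 1)) ⊕ Fin k := Fintype.equivOfCardEq hcard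
  have hmain := card_centralizer_of_data e (betaC (j' + 1) F 0) (betaCi (j' + 1) F 0)
    (betaC_symm (j' + 1) 0) (betaC_mul_inv (j' + 1) 0) t ht
    (by rw [hs]; simp only [Fintype.card_sum, Fintype.card_fin]; omega)
    (iff_of_false hnalt (betaC_nonalt (j' + 1) 0))
  -- the order of the isometry group of the form
  have hO : Nat.card {X : Matrix (Fin (j' + 1) ⊕ Fin (j' + 1)) (Fin (j' + 1) ⊕ Fin (j' + 1)) F //
      X * betaC (j' + 1) F 0 * Xᵀ = betaC (j' + 1) F 0} =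
      q ^ ((j' + 1) ^ 2) * ∏ i : Fin j', (q ^ (2 * ((i : ℕ) + 1)) - 1) := by
    have h1 := card_O_betaC (F := F) (j' + 1) 0
    rw [card_sp' hF (j' + 1), Nat.card_eq_fintype_card (α := F), hF, Fin.prod_univ_castSucc,
      ← mul_assoc] at h1
    simp only [Fintype.card_sum, Fintype.card_fin, Fin.val_castSucc, Fin.val_last] at h1
    have h2 : j' + 1 + (j' + 1) = 2 * (j' + 1) := by ring
    rw [h2] at h1
    have hq : 2 ≤ q := by
      rw [← hF]
      exact Fintype.one_lt_card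
    have hpos : 0 < q ^ (2 * (j' + 1)) - 1 := by
      have h3 : 2 ^ (2 * (j' + 1)) ≤ q ^ (2 * (j' + 1)) := Nat.pow_le_pow_left hq _
      have h4 : 2 ≤ 2 ^ (2 * (j' + 1)) := by
        calc 2 = 2 ^ 1 := by norm_num
          _ ≤ 2 ^ (2 * (j' + 1)) := Nat.pow_le_pow_right (by norm_num) (by omega)
      omega
    exact Nat.eq_of_mul_eq_mul_right hpos h1
  rw [hmain, hO, card_sp' hF k, hF]
  simp only [Fintype.card_sum, Fintype.card_fin]
  have hms : m - s = k := by omega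
  have hs2 : (s - 2) / 2 = j' := by omega
  have hs3 : s = 2 * j' + 2 := by omega
  rw [hms, hs2, hk, hs3]
  have hexp := exp_arith_c j' k
  calc (q ^ (j' + 1) ^ 2 * ∏ i : Fin j', (q ^ (2 * ((i : ℕ) + 1)) - 1)) *
        ((q ^ k ^ 2 * ∏ i : Fin k, (q ^ (2 * ((i : ℕ) + 1)) - 1)) *
          (q ^ ((k + k) * (j' + 1 + (j' + 1))) * q ^ (j' + 1 + (j' + 1) + 1).choose 2))
      = q ^ ((j' + 1) ^ 2 + ((k + k) * (j' + 1 + (j' + 1)) + (j' + 1 + (j' + 1) + 1).choose 2)) *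
          (∏ i : Fin j', (q ^ (2 * ((i : ℕ) + 1)) - 1)) *
          (q ^ k ^ 2 * ∏ i : Fin k, (q ^ (2 * ((i : ℕ) + 1)) - 1)) := by
        rw [pow_add, pow_add]
        ring
    _ = _ := by
        rw [hexp, pow_add]
        ring

end Cfsg.Agent.S2682
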