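import Cfsg.Statements.S2683
-- import your own Cfsg.Agent.* helpers here
import Mathlib
import Cfsg.Agent.Lib.Helper36.InvCentOPlusB

set_option autoImplicit false
open Cfsg

namespace Cfsg.Agent.S2683

open Matrix Cfsg.Agent.Helper36 Cfsg.Agent.Helper36.InvCentSp Cfsg.Agent.Helper36.InvCentOPlus
  Cfsg.Agent.Helper36.InvCentOPlusB Cfsg.Agent.Helper36.PlusOrth Cfsg.Agent.S2168

/-- the order of the symplectic group in the shape of the statements -/
theorem card_sp' {F : Type*} [Field F] [Fintype F] {q : ℕ} (hF : Fintype.card F = q) (j : ℕ) :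
    Nat.card ↥(Matrix.symplecticGroup (Fin j) F) =
      q ^ (j ^ 2) * ∏ i : Fin j, (q ^ (2 * ((i : ℕ) + 1)) - 1) := by
  rw [Cfsg.Agent.Lead.card_symplecticGroup j, Nat.card_eq_fintype_card (α := F), hF,
    Fin.prod_univ_eq_prod_range (fun i => q ^ (2 * (i + 1)) - 1) j]

theorem choose_double (j : ℕ) : (j + j).choose 2 + j = 2 * j ^ 2 := by
  rcases j with _ | i
  · simp
  · rw [Nat.choose_two_right]
    have h1 : (i + 1 + (i + 1)) * (i + 1 + (i + 1) - 1) = 2 * ((i + 1) * (2 * i + 1)) := by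
      have : i + 1 + (i + 1) - 1 = 2 * i + 1 := by omega
      rw [this]
      ring
    rw [h1, Nat.mul_div_cancel_left _ (by norm_num : 0 < 2)]
    ring

theorem exp_arith (j k : ℕ) :
    2 * (2 * j + 1 + k) * (2 * j + 1 - 1) - (3 * (2 * j + 1) ^ 2 - 3 * (2 * j + 1)) / 2 =
      (j + j) * (k + 1 + (k + 1) - 1) + (j + j).choose 2 := by
  have h1 : 3 * (2 * j + 1) ^ 2 - 3 * (2 * j + 1) = 2 * (6 * j ^ 2 + 3 * j) := by
    have h2 : 3 * (2 * j + 1) ^ 2 = 2 * (6 * j ^ 2 + 3 * j) + 3 * (2 * j + 1) := by ring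
    omega
  rw [h1, Nat.mul_div_cancel_left _ (by norm_num : 0 < 2)]
  have h2 := choose_double j
  have h3 : 2 * j + 1 - 1 = 2 * j := by omega
  have h4 : k + 1 + (k + 1) - 1 = 2 * k + 1 := by omega
  rw [h3, h4]
  have h5 : 2 * (2 * j + 1 + k) * (2 * j) = (j + j) * (2 * k + 1) + 8 * j ^ 2 + 2 * j := by ring
  omega

/-- the arithmetic -/
theorem key {q : ℕ} (hq : 2 ≤ q) (j k N St : ℕ)
    (hN : 2 * N =
      (q ^ (j ^ 2) * ∏ i : Fin j, (q ^ (2 * ((i : ℕ) + 1)) - 1)) *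
        (St * (q ^ ((j + j) * (k + 1 + (k + 1) - 1)) * q ^ (j + j).choose 2)))
    (hSt : St * ((q ^ (k + 1) - 1) * q ^ (k + 1 - 1)) =
      2 * q ^ ((k + 1) * (k + 1 - 1)) * (q ^ (k + 1) - 1) *
        ∏ i ∈ Finset.range (k + 1 - 1), (q ^ (2 * (i + 1)) - 1)) :
    N = q ^ (2 * (2 * j + 1 + k) * (2 * j + 1 - 1) - (3 * (2 * j + 1) ^ 2 - 3 * (2 * j + 1)) / 2) *
        ((q : ℕ) ^ (((2 * j + 1 - 1) / 2) ^ 2) *
          ∏ i : Fin ((2 * j + 1 - 1) / 2), (q ^ (2 * ((i : ℕ) + 1)) - 1)) *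
      ((q : ℕ) ^ ((2 * j + 1 + k - (2 * j + 1)) ^ 2) *
        ∏ i : Fin (2 * j + 1 + k - (2 * j + 1)), (q ^ (2 * ((i : ℕ) + 1)) - 1)) := by
  have hs2 : (2 * j + 1 - 1) / 2 = j := by omega
  have hms : 2 * j + 1 + k - (2 * j + 1) = k := by omega
  rw [hs2, hms, exp_arith, pow_add]
  have hk1 : k + 1 - 1 = k := by omega
  rw [hk1] at hSt
  have hpos : 0 < (q ^ (k + 1) - 1) * q ^ k := by
    apply Nat.mul_pos
    · have : 2 ^ (k + 1) ≤ q ^ (k + 1) := Nat.pow_le_pow_left hq _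
      have h2 : 2 ≤ 2 ^ (k + 1) := by
        calc 2 = 2 ^ 1 := by norm_num
          _ ≤ 2 ^ (k + 1) := Nat.pow_le_pow_right (by norm_num) (by omega)
      omega
    · exact pow_pos (by omega) _
  have hSt' : St = 2 * q ^ (k ^ 2) * ∏ i ∈ Finset.range k, (q ^ (2 * (i + 1)) - 1) := by
    apply Nat.eq_of_mul_eq_mul_right hpos
    rw [hSt]
    have : (k + 1) * k = k ^ 2 + k := by ring
    rw [this, pow_add]
    ring
  apply Nat.eq_of_mul_eq_mul_left (by norm_num : 0 < 2)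
  rw [hN, hSt', Fin.prod_univ_eq_prod_range (fun i => q ^ (2 * (i + 1)) - 1) k]
  ring

/-- For the hyperbolic form Σ x_j y_j on F^(2m) over a finite field with q elements, q even (excluding m = 2 over the field of two elements), and an involution x of the orthogonal group with s = rank(x − 1) odd (type b_s; such x lie outside Ω): the elements of Ω (the commutator subgroup of the orthogonal group) commuting with x number q^(2m(s−1) − (3s² − 3s)/2) · |Sp_(s−1)(q)| · |Sp_(2m−2s)(q)|, where |Sp_2k(q)| = q^(k²) Π_(i=1)^k (q^(2i) − 1). -/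
theorem result {F : Type*} [Field F] [Fintype F] [CharP F 2] {q : ℕ} (hF : Fintype.card F = q) {m s : ℕ} (h : Fintype.card F ≠ 2 ∨ m ≠ 2) (x : ↥(Cfsg.isometryGroup F (Cfsg.quadFormPlus m F))) (hx : x ^ 2 = 1) (hs : (((x : Matrix.GeneralLinearGroup (Fin m ⊕ Fin m) F) : Matrix (Fin m ⊕ Fin m) (Fin m ⊕ Fin m) F) - 1).rank = s) (hodd : Odd s) : Nat.card {g : ↥(Cfsg.Omega F (Cfsg.quadFormPlus m F)) // (g : ↥(Cfsg.isometryGroup F (Cfsg.quadFormPlus m F))) * x = x * (g : ↥(Cfsg.isometryGroup F (Cfsg.quadFormPlus m F)))} = q ^ (2 * m * (s - 1) - (3 * s ^ 2 - 3 * s) / 2) * ((q : ℕ) ^ (((s - 1) / 2) ^ 2) * ∏ i : Fin ((s - 1) / 2), (q ^ (2 * ((i : ℕ) + 1)) - 1)) * ((q : ℕ) ^ ((m - s) ^ 2) * ∏ i : Fin (m - s), (q ^ (2 * ((i : ℕ) + 1)) - 1)) := by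
  classical
  have hxx : x * x = 1 := by
    rw [← pow_two]
    exact hx
  have hsm : s ≤ m := by
    rw [← hs]
    exact rank_le x hxx
  obtain ⟨j, hj⟩ := hodd
  obtain ⟨k, hk⟩ : ∃ k, m = s + k := ⟨m - s, by omega⟩
  subst hk
  subst hj
  have hm : 1 ≤ 2 * j + 1 + k := by omega
  have hcard : Fintype.card (Fin (2 * j + 1 + k)) =
      Fintype.card ((Fin j ⊕ Fin j) ⊕ Fin (k + 1)) := by
    simp only [Fintype.card_sum, Fintype.card_fin]
    omega
  have e : Fin (2 * j + 1 + k) ≃ (Fin j ⊕ Fin j) ⊕ Fin (k + 1) := Fintype.equivOfCardEq hcard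
  have hodd' : ¬ Even (Fintype.card (Fin j ⊕ Fin j) + 1) := by
    simp only [Fintype.card_sum, Fintype.card_fin]
    rw [Nat.not_even_iff_odd]
    exact ⟨j, by omega⟩
  have hmain := card_omega_centralizer_b hm h e (Matrix.J (Fin j) F) (Matrix.J (Fin j) F)
    (J_symm j) (J_mul_J j) (J_alt j) x hxx
    (by rw [hs]; simp only [Fintype.card_sum, Fintype.card_fin]; omega) hodd'
  have hstab := card_stab (pairVec F (k + 1) 0) (Q_pairVec 0)
  rw [Cfsg.Agent.S0287.result hF (k + 1) (by omega), hF] at hstab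
  have h4 : Nat.card {S : Matrix (Fin j ⊕ Fin j) (Fin j ⊕ Fin j) F //
      S * Matrix.J (Fin j) F * Sᵀ = Matrix.J (Fin j) F} =
      Nat.card ↥(Matrix.symplecticGroup (Fin j) F) :=
    Nat.card_congr (Equiv.subtypeEquivRight (fun S => SymplecticGroup.mem_iff.symm))
  rw [h4, card_sp' hF j, hF] at hmain
  simp only [Fintype.card_sum, Fintype.card_fin] at hmain
  have hq : 2 ≤ q := by
    rw [← hF]
    exact Fintype.one_lt_card
  exact key hq j k _ _ hmain hstab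

end Cfsg.Agent.S2683
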