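import Cfsg.Statements.S2684
-- import your own Cfsg.Agent.* helpers here
import Mathlib
import Cfsg.Agent.Lib.Helper36.InvCentOPlus

set_option autoImplicit false
open Cfsg

namespace Cfsg.Agent.S2684

open Matrix Cfsg.Agent.Helper36 Cfsg.Agent.Helper36.InvCentSp Cfsg.Agent.Helper36.InvCentOPlus
  Cfsg.Agent.Helper36.PlusOrth Cfsg.Agent.S2168

/-- the order of the symplectic group in the shape of the statements -/
theorem card_sp' {F : Type*} [Field F] [Fintype F] {q : ℕ} (hF : Fintype.card F = q) (j : ℕ) :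
    Nat.card ↥(Matrix.symplecticGroup (Fin j) F) =
      q ^ (j ^ 2) * ∏ i : Fin j, (q ^ (2 * ((i : ℕ) + 1)) - 1) := by
  rw [Cfsg.Agent.Lead.card_symplecticGroup j, Nat.card_eq_fintype_card (α := F), hF,
    Fin.prod_univ_eq_prod_range (fun i => q ^ (2 * (i + 1)) - 1) j]

theorem choose_double (j : ℕ) : (j + j).choose 2 + j = 2 * j ^ 2 := by
  rcases j with _ | i
  · simp
  · rw [Nat.choose_two_right]
    have h1 : (i + 1 + (i + 1)) * (i + 1 + (i + 1) - 1) = 2 * ((i + 1) * (2 * i + 1)) := by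
      have : i + 1 + (i + 1) - 1 = 2 * i + 1 := by omega
      rw [this]
      ring
    rw [h1, Nat.mul_div_cancel_left _ (by norm_num : 0 < 2)]
    ring

theorem exp_arith (j k : ℕ) :
    2 * (j + j + k) * (j + j) - (3 * (j + j) ^ 2 + (j + j)) / 2 =
      (k + k) * (j + j) + (j + j).choose 2 := by
  have h1 : 3 * (j + j) ^ 2 + (j + j) = 2 * (6 * j ^ 2 + j) := by ring
  rw [h1, Nat.mul_div_cancel_left _ (by norm_num : 0 < 2)]
  have h2 := choose_double j
  have h3 : 2 * (j + j + k) * (j + j) = (k + k) * (j + j) + 8 * j ^ 2 := by ring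
  omega

theorem card_OPlus_zero {F : Type*} [Field F] : Nat.card (OPlus 0 F) = 1 := by
  have : Subsingleton (OPlus 0 F) :=
    ⟨fun a b => Subtype.ext (Units.ext (Subsingleton.elim _ _))⟩
  exact Nat.card_of_subsingleton 1

/-- the arithmetic -/
theorem key {F : Type*} [Field F] [Fintype F] {q : ℕ} (hF : Fintype.card F = q) (j k N : ℕ)
    (hN : (if k = 0 then 1 else 2) * N =
      (q ^ (j ^ 2) * ∏ i : Fin j, (q ^ (2 * ((i : ℕ) + 1)) - 1)) *
        (Nat.card (OPlus k F) * (q ^ ((k + k) * (j + j)) * q ^ (j + j).choose 2))) :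
    N = q ^ (2 * (j + j + k) * (j + j) - (3 * (j + j) ^ 2 + (j + j)) / 2) *
        ((q : ℕ) ^ (((j + j) / 2) ^ 2) * ∏ i : Fin ((j + j) / 2), (q ^ (2 * ((i : ℕ) + 1)) - 1)) *
      (if j + j = j + j + k then 1 else
        q ^ ((j + j + k - (j + j)) * (j + j + k - (j + j) - 1)) * (q ^ (j + j + k - (j + j)) - 1) *
          ∏ i : Fin (j + j + k - (j + j) - 1), (q ^ (2 * ((i : ℕ) + 1)) - 1)) := by
  have hs2 : (j + j) / 2 = j := by omega
  have hms : j + j + k - (j + j) = k := by omega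
  rw [hs2, hms, exp_arith, pow_add]
  by_cases hk0 : k = 0
  · subst hk0
    rw [if_pos rfl, one_mul, card_OPlus_zero] at hN
    rw [if_pos (by omega), hN]
    ring
  · rw [if_neg hk0, Cfsg.Agent.S0287.result hF k (by omega)] at hN
    rw [if_neg (by omega)]
    apply Nat.eq_of_mul_eq_mul_left (by norm_num : 0 < 2)
    rw [hN, Fin.prod_univ_eq_prod_range (fun i => q ^ (2 * (i + 1)) - 1) (k - 1)]
    ring

/-- For the hyperbolic form Q = Σ x_j y_j on F^(2m) over a finite field with q elements, q even (excluding m = 2 over the field of two elements), and an involution x ≠ 1 of the orthogonal group with s = rank(x − 1) even and Q vanishing on the image of x − 1 (equivalently f(v, xv) = 0 for all v, where f(u, w) = Q(u + w) − Q(u) − Q(w) is the bilinear form of Q; type a_s, which lies in Ω): its centraliser in Ω (the commutator subgroup of the orthogonal group) has order q^(2ms − (3s² + s)/2) · |Sp_s(q)| · |Ω⁺_(2m−2s)(q)|, where |Ω⁺_2k(q)| = q^(k(k−1))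 (q^k − 1) Π_(i=1)^(k−1) (q^(2i) − 1) for k ≥ 1 and the last factor is 1 when s = m. -/
theorem result {F : Type*} [Field F] [Fintype F] [CharP F 2] {q : ℕ} (hF : Fintype.card F = q) {m s : ℕ} (h : Fintype.card F ≠ 2 ∨ m ≠ 2) (x : ↥(Cfsg.isometryGroup F (Cfsg.quadFormPlus m F))) (hx : x ^ 2 = 1) (hx1 : x ≠ 1) (hs : (((x : Matrix.GeneralLinearGroup (Fin m ⊕ Fin m) F) : Matrix (Fin m ⊕ Fin m) (Fin m ⊕ Fin m) F) - 1).rank = s) (heven : Even s) (halt : ∀ v : Fin m ⊕ Fin m → F, Cfsg.quadFormPlus m F ((((x : Matrix.GeneralLinearGroup (Fin m ⊕ Fin m) F) : Matrix (Fin m ⊕ Fin m) (Fin m ⊕ Fin m) F) - 1).mulVec v) = 0) : Nat.card {g : ↥(Cfsg.Omega F (Cfsg.quadFormPlus m F)) // (g : ↥(Cfsg.isometryGroup F (Cfsg.quadFormPlus m F))) * x = x * (g : ↥(Cfsg.isometryGroup F (Cfsg.quadFormPlus m F)))} = q ^ (2 * m * s - (3 * s ^ 2 + s) / 2) * ((q : ℕ) ^ ((s / 2) ^ 2) * ∏ i : Fin (s / 2), (q ^ (2 * ((i : ℕ) + 1)) - 1)) * (if s = m then 1 else q ^ ((m - s) * (m - s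 - 1)) * (q ^ (m - s) - 1) * ∏ i : Fin (m - s - 1), (q ^ (2 * ((i : ℕ) + 1)) - 1)) := by
  classical
  have hxx : x * x = 1 := by
    rw [← pow_two]
    exact hx
  have hsm : s ≤ m := by
    rw [← hs]
    exact rank_le x hxx
  have hs0 : s ≠ 0 := by
    intro h0
    apply hx1
    apply Subtype.ext
    apply Units.ext
    exact Cfsg.Agent.S2595.eq_one_of_rank_zero _ (by rw [hs, h0])
  have halt' : ∀ v, Bp m F v (actHom m F x v) = 0 := by
    intro v
    have h1 := halt v
    rw [sub_mulVec, one_mulVec, vsub_eq_add, isQuad_plus.add] at h1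
    have h2 : Cfsg.quadFormPlus m F
        (((x : Matrix.GeneralLinearGroup (Fin m ⊕ Fin m) F) :
          Matrix (Fin m ⊕ Fin m) (Fin m ⊕ Fin m) F) *ᵥ v) = Cfsg.quadFormPlus m F v :=
      (mem_O_iff _).mp x.2 v
    rw [h2, CharTwo.add_self_eq_zero, zero_add] at h1
    rw [isQuad_plus.symm, actHom_apply]
    exact h1
  obtain ⟨j, hj⟩ := heven
  obtain ⟨k, hk⟩ : ∃ k, m = s + k := ⟨m - s, by omega⟩
  subst hk
  subst hj
  have hm : 1 ≤ j + j + k := by omega
  have hcard : Fintype.card (Fin (j + j + k)) = Fintype.card ((Fin j ⊕ Fin j) ⊕ Fin k) := by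
    simp only [Fintype.card_sum, Fintype.card_fin]
  have e : Fin (j + j + k) ≃ (Fin j ⊕ Fin j) ⊕ Fin k := Fintype.equivOfCardEq hcard
  have hmain := card_omega_centralizer hm h e (Matrix.J (Fin j) F) (Matrix.J (Fin j) F)
    (J_symm j) (J_mul_J j) (J_alt j) x hxx
    (by rw [hs]; simp only [Fintype.card_sum, Fintype.card_fin]) halt'
  have h4 : Nat.card {S : Matrix (Fin j ⊕ Fin j) (Fin j ⊕ Fin j) F //
      S * Matrix.J (Fin j) F * Sᵀ = Matrix.J (Fin j) F} =
      Nat.card ↥(Matrix.symplecticGroup (Fin j) F) :=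
    Nat.card_congr (Equiv.subtypeEquivRight (fun S => SymplecticGroup.mem_iff.symm))
  rw [h4, card_sp' hF j, hF] at hmain
  simp only [Fintype.card_sum, Fintype.card_fin] at hmain
  exact key hF j k _ hmain

end Cfsg.Agent.S2684
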