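import Cfsg.Statements.S2685
-- import your own Cfsg.Agent.* helpers here
import Mathlib
import Cfsg.Agent.Lib.Helper36.InvCentOPlusC

set_option autoImplicit false
open Cfsg

namespace Cfsg.Agent.S2685

open Matrix Cfsg.Agent.Helper36 Cfsg.Agent.Helper36.InvCentSp Cfsg.Agent.Helper36.InvCentOPlus
  Cfsg.Agent.Helper36.InvCentOPlusB Cfsg.Agent.Helper36.InvCentOPlusC
  Cfsg.Agent.Helper36.PlusOrth Cfsg.Agent.S2168

/-- the order of the symplectic group in the shape of the statements -/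
theorem card_sp' {F : Type*} [Field F] [Fintype F] {q : ℕ} (hF : Fintype.card F = q) (j : ℕ) :
    Nat.card ↥(Matrix.symplecticGroup (Fin j) F) =
      q ^ (j ^ 2) * ∏ i : Fin j, (q ^ (2 * ((i : ℕ) + 1)) - 1) := by
  rw [Cfsg.Agent.Lead.card_symplecticGroup j, Nat.card_eq_fintype_card (α := F), hF,
    Fin.prod_univ_eq_prod_range (fun i => q ^ (2 * (i + 1)) - 1) j]

theorem choose_double (j : ℕ) : (j + j).choose 2 + j = 2 * j ^ 2 := by
  rcases j with _ | i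
  · simp
  · rw [Nat.choose_two_right]
    have h1 : (i + 1 + (i + 1)) * (i + 1 + (i + 1) - 1) = 2 * ((i + 1) * (2 * i + 1)) := by
      have : i + 1 + (i + 1) - 1 = 2 * i + 1 := by omega
      rw [this]
      ring
    rw [h1, Nat.mul_div_cancel_left _ (by norm_num : 0 < 2)]
    ring

theorem exp_arith (j k : ℕ) :
    2 * (2 * j + 2 + k) * (2 * j + 2 - 1) - (3 * (2 * j + 2) ^ 2 - 5 * (2 * j + 2)) / 2 - 1 =
      (j + j).choose 2 + 6 * j + 2 + 4 * (j * k) + 2 * k := by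
  have h1 : 3 * (2 * j + 2) ^ 2 - 5 * (2 * j + 2) = 2 * (6 * j ^ 2 + 7 * j + 1) := by
    have h2 : 3 * (2 * j + 2) ^ 2 = 2 * (6 * j ^ 2 + 7 * j + 1) + 5 * (2 * j + 2) := by ring
    omega
  rw [h1, Nat.mul_div_cancel_left _ (by norm_num : 0 < 2)]
  have h2 := choose_double j
  have h3 : 2 * j + 2 - 1 = 2 * j + 1 := by omega
  rw [h3]
  have h5 : 2 * (2 * j + 2 + k) * (2 * j + 1) =
      8 * j ^ 2 + 12 * j + 4 + 4 * (j * k) + 2 * k := by ring
  rw [h5]
  generalize j * k = Y at *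
  generalize j ^ 2 = X at *
  omega

/-- the arithmetic -/
theorem key {q : ℕ} (hq : 2 ≤ q) (j k N St : ℕ)
    (hN : 2 * N * (q ^ (j + j + 2 * k + 2) - q ^ (j + j)) =
      q ^ (j + j + 1) * ((q ^ (j ^ 2) * ∏ i : Fin j, (q ^ (2 * ((i : ℕ) + 1)) - 1)) *
        (St * (q ^ ((j + j) * (k + 2 + (k + 2) - 1)) * q ^ (j + j).choose 2))))
    (hSt : St * ((q ^ (k + 2) - 1) * q ^ (k + 2 - 1)) =
      2 * q ^ ((k + 2) * (k + 2 - 1)) * (q ^ (k + 2) - 1) *
        ∏ i ∈ Finset.range (k + 2 - 1), (q ^ (2 * (i + 1)) - 1)) :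
    N = q ^ (2 * (2 * j + 2 + k) * (2 * j + 2 - 1) -
          (3 * (2 * j + 2) ^ 2 - 5 * (2 * j + 2)) / 2 - 1) *
        ((q : ℕ) ^ (((2 * j + 2 - 2) / 2) ^ 2) *
          ∏ i : Fin ((2 * j + 2 - 2) / 2), (q ^ (2 * ((i : ℕ) + 1)) - 1)) *
      ((q : ℕ) ^ ((2 * j + 2 + k - (2 * j + 2)) ^ 2) *
        ∏ i : Fin (2 * j + 2 + k - (2 * j + 2)), (q ^ (2 * ((i : ℕ) + 1)) - 1)) := by
  have hs2 : (2 * j + 2 - 2) / 2 = j := by omega
  have hms : 2 * j + 2 + k - (2 * j + 2) = k := by omega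
  rw [hs2, hms, exp_arith]
  have hk1 : k + 2 - 1 = k + 1 := by omega
  have hk2 : k + 2 + (k + 2) - 1 = 2 * k + 3 := by omega
  rw [hk1] at hSt
  rw [hk2] at hN
  have hq0 : 0 < q := by omega
  have hpow : ∀ n, 1 ≤ n → 0 < q ^ n - 1 := by
    intro n hn
    have : 2 ^ n ≤ q ^ n := Nat.pow_le_pow_left hq _
    have h2 : 2 ≤ 2 ^ n := by
      calc 2 = 2 ^ 1 := by norm_num
        _ ≤ 2 ^ n := Nat.pow_le_pow_right (by norm_num) hn
    omega
  have hpos : 0 < (q ^ (k + 2) - 1) * q ^ (k + 1) :=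
    Nat.mul_pos (hpow _ (by omega)) (pow_pos hq0 _)
  have hSt' : St = 2 * q ^ ((k + 1) ^ 2) * ((∏ i ∈ Finset.range k, (q ^ (2 * (i + 1)) - 1)) *
      (q ^ (2 * (k + 1)) - 1)) := by
    apply Nat.eq_of_mul_eq_mul_right hpos
    rw [hSt, Finset.prod_range_succ]
    have : (k + 2) * (k + 1) = (k + 1) ^ 2 + (k + 1) := by ring
    rw [this, pow_add]
    ring
  have hsub : q ^ (j + j + 2 * k + 2) - q ^ (j + j) = q ^ (j + j) * (q ^ (2 * (k + 1)) - 1) := by
    rw [Nat.mul_sub, mul_one, ← pow_add]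
    congr 2
  rw [hsub, hSt'] at hN
  have hpos2 : 0 < 2 * (q ^ (j + j) * (q ^ (2 * (k + 1)) - 1)) :=
    Nat.mul_pos (by norm_num) (Nat.mul_pos (pow_pos hq0 _) (hpow _ (by omega)))
  apply Nat.eq_of_mul_eq_mul_left hpos2
  rw [Fin.prod_univ_eq_prod_range (fun i => q ^ (2 * (i + 1)) - 1) k]
  have hN' : 2 * (q ^ (j + j) * (q ^ (2 * (k + 1)) - 1)) * N =
      2 * N * (q ^ (j + j) * (q ^ (2 * (k + 1)) - 1)) := by ring
  rw [hN', hN]
  ring

/-- For the hyperbolic form Q = Σ x_j y_j on F^(2m) over a finite field with q elements, q even (excluding m = 2 over the field of two elements), and an involution x of the orthogonal group with s = rank(x − 1) even and Q not vanishing on the image of x − 1 (f(v, xv) ≠ 0 for some v, where f(u, w) = Q(u + w) − Q(u) − Q(w) is the bilinear form of Q; type c_s, which lies in Ω): its centraliser in Ω (the commutator subgroup of the orthogonal group) has order q^(2m(s−1) − (3s²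 − 5s)/2 − 1) · |Sp_(s−2)(q)| · |Sp_(2m−2s)(q)|. -/
theorem result {F : Type*} [Field F] [Fintype F] [CharP F 2] {q : ℕ} (hF : Fintype.card F = q) {m s : ℕ} (h : Fintype.card F ≠ 2 ∨ m ≠ 2) (x : ↥(Cfsg.isometryGroup F (Cfsg.quadFormPlus m F))) (hx : x ^ 2 = 1) (hs : (((x : Matrix.GeneralLinearGroup (Fin m ⊕ Fin m) F) : Matrix (Fin m ⊕ Fin m) (Fin m ⊕ Fin m) F) - 1).rank = s) (heven : Even s) (hna : ∃ v : Fin m ⊕ Fin m → F, Cfsg.quadFormPlus m F ((((x : Matrix.GeneralLinearGroup (Fin m ⊕ Fin m) F) : Matrix (Fin m ⊕ Fin m) (Fin m ⊕ Fin m) F) - 1).mulVec v) ≠ 0) : Nat.card {g : ↥(Cfsg.Omega F (Cfsg.quadFormPlus m F)) // (g : ↥(Cfsg.isometryGroup F (Cfsg.quadFormPlus m F))) * x = x * (g : ↥(Cfsg.isometryGroup F (Cfsg.quadFormPlus m F)))} = q ^ (2 * m * (s - 1) - (3 * s ^ 2 - 5 * s) / 2 - 1) * ((q : ℕ) ^ (((s - 2) / 2) ^ 2) * ∏ i : Fin ((s - 2) / 2), (q ^ (2 * ((i : ℕ) + 1)) - 1)) * ((q : ℕ) ^ ((m - s) ^ 2) *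 ∏ i : Fin (m - s), (q ^ (2 * ((i : ℕ) + 1)) - 1)) := by
  classical
  have hxx : x * x = 1 := by
    rw [← pow_two]
    exact hx
  have hsm : s ≤ m := by
    rw [← hs]
    exact rank_le x hxx
  have hna' : ¬ ∀ v, Bp m F v (actHom m F x v) = 0 := by
    intro hall
    obtain ⟨v, hv⟩ := hna
    apply hv
    rw [sub_mulVec, one_mulVec, vsub_eq_add, isQuad_plus.add]
    have h2 : Cfsg.quadFormPlus m F
        (((x : Matrix.GeneralLinearGroup (Fin m ⊕ Fin m) F) :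
          Matrix (Fin m ⊕ Fin m) (Fin m ⊕ Fin m) F) *ᵥ v) = Cfsg.quadFormPlus m F v :=
      (mem_O_iff _).mp x.2 v
    rw [h2, CharTwo.add_self_eq_zero, zero_add]
    have h3 := hall v
    rw [isQuad_plus.symm, actHom_apply] at h3
    exact h3
  have hs0 : s ≠ 0 := by
    intro h0
    obtain ⟨v, hv⟩ := hna
    apply hv
    have h1 := Cfsg.Agent.S2595.eq_one_of_rank_zero _ (by rw [hs, h0])
    rw [h1, sub_self, zero_mulVec]
    simp [Cfsg.quadFormPlus]
  obtain ⟨r, hr⟩ := heven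
  obtain ⟨j, hj⟩ : ∃ j, s = 2 * j + 2 := ⟨r - 1, by omega⟩
  obtain ⟨k, hk⟩ : ∃ k, m = s + k := ⟨m - s, by omega⟩
  subst hk
  subst hj
  have hm : 1 ≤ 2 * j + 2 + k := by omega
  have hcard : Fintype.card (Fin (2 * j + 2 + k)) =
      Fintype.card ((Fin j ⊕ Fin j) ⊕ Fin (k + 2)) := by
    simp only [Fintype.card_sum, Fintype.card_fin]
    omega
  have e : Fin (2 * j + 2 + k) ≃ (Fin j ⊕ Fin j) ⊕ Fin (k + 2) := Fintype.equivOfCardEq hcard
  have hodd' : ¬ Even (Fintype.card (Fin j ⊕ Fin j) + 1) := by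
    simp only [Fintype.card_sum, Fintype.card_fin]
    rw [Nat.not_even_iff_odd]
    exact ⟨j, by omega⟩
  have hmain := card_omega_centralizer_c hm h e (Matrix.J (Fin j) F) (Matrix.J (Fin j) F)
    (J_symm j) (J_mul_J j) (J_alt j) x hxx
    (by rw [hs]; simp only [Fintype.card_sum, Fintype.card_fin]; omega) hna' hodd'
  have hstab := card_stab (pairVec F (k + 2) 0) (Q_pairVec 0)
  rw [Cfsg.Agent.S0287.result hF (k + 2) (by omega), hF] at hstab
  have h4 : Nat.card {S : Matrix (Fin j ⊕ Fin j) (Fin j ⊕ Fin j) F //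
      S * Matrix.J (Fin j) F * Sᵀ = Matrix.J (Fin j) F} =
      Nat.card ↥(Matrix.symplecticGroup (Fin j) F) :=
    Nat.card_congr (Equiv.subtypeEquivRight (fun S => SymplecticGroup.mem_iff.symm))
  rw [h4, card_sp' hF j, hF] at hmain
  simp only [Fintype.card_sum, Fintype.card_fin] at hmain
  have hq : 2 ≤ q := by
    rw [← hF]
    exact Fintype.one_lt_card
  exact key hq j k _ _ hmain hstab

end Cfsg.Agent.S2685
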