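import Cfsg.Statements.S2689
import Cfsg.Agent.S2690

set_option autoImplicit false
open Cfsg

namespace Cfsg.Agent.S2689

/-- The automorphism group of a simple projective special linear group PSL_n(F) over a finite field (n ≥ 2; |F| ≥ 4 when n = 2) is generated by the automorphisms induced by invertible semilinear maps of F^n (the image of the projective semilinear group) together with the inverse-transpose automorphism. -/
theorem result {F : Type*} [Field F] [Fintype F] {p f : ℕ} [Fact p.Prime] (hF : Fintype.card F = p ^ f) (hf : 1 ≤ f) {n : ℕ} (hn : 2 ≤ n) (hs : n = 2 → 4 ≤ Fintype.card F) :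
    Cfsg.gammaPSL n F ⊔ Cfsg.autSubgroupOf (fun β : Matrix.ProjectiveSpecialLinearGroup (Fin n) F ≃* Matrix.ProjectiveSpecialLinearGroup (Fin n) F => Cfsg.IsInverseTransposeAutPSL β) = ⊤ := by
  rw [eq_top_iff]
  intro β _
  obtain ⟨δ, φ, γ, σ, hδ, hφ, hγ, hβ⟩ := Cfsg.Agent.S2690.result (F := F) hF hf (n := n) hn hs β
  have hδ' : δ ∈ Cfsg.gammaPSL n F := by
    obtain ⟨g, hg⟩ := hδ
    apply Subgroup.subset_closure
    refine ⟨g, RingEquiv.refl F, ?_⟩
    intro s s' hs'
    apply hg s s'
    rw [hs']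
    congr 2
  have hφ' : φ ∈ Cfsg.gammaPSL n F := by
    apply Subgroup.subset_closure
    refine ⟨1, σ, ?_⟩
    intro s s' hs'
    apply hφ s s'
    rw [hs', inv_one, Units.val_one, Matrix.one_mul, Matrix.mul_one]
  have hγ' : γ ∈ Cfsg.autSubgroupOf (fun β : Matrix.ProjectiveSpecialLinearGroup (Fin n) F ≃*
      Matrix.ProjectiveSpecialLinearGroup (Fin n) F => Cfsg.IsInverseTransposeAutPSL β) := by
    rcases hγ with rfl | hγ
    · exact Subgroup.one_mem _
    · exact Subgroup.subset_closure hγ
  rw [hβ]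
  exact Subgroup.mul_mem _ (Subgroup.mul_mem _ (Subgroup.mem_sup_left hδ') (Subgroup.mem_sup_left hφ'))
    (Subgroup.mem_sup_right hγ')

end Cfsg.Agent.S2689
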