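import Cfsg.Statements.S2691
import Mathlib
import Cfsg.Agent.Lib.Helper13.PSUEnd
import Cfsg.Agent.Lib.Helper5.PSUGr5
-- import your own Cfsg.Agent.* helpers here

set_option autoImplicit false
open Cfsg

namespace Cfsg.Agent.S2691

open Cfsg.Agent.Helper5.PSUAut Cfsg.Agent.Helper5.PSUGr

/-- The automorphism group of a simple projective special unitary group PSU_n(q), n ≥ 3, (n, q) ≠ (3, 2), realised over the field F with q² elements through the Hermitian form Σ uᵢ vᵢ^q, is generated by the automorphisms induced by the semilinear maps v ↦ g σ(v) with g a general unitary matrix and σ an automorphism of F (the image of the projective semilinear unitary group). -/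
theorem result {F : Type*} [Field F] [Fintype F] {p f q : ℕ} [Fact p.Prime] (hq : q = p ^ f) (hf : 1 ≤ f) (hF : Fintype.card F = q ^ 2) {n : ℕ} (hn : 3 ≤ n) (hs : ¬ (n = 3 ∧ q = 2)) :
    Cfsg.gammaPSU n F q = ⊤ := by
  rw [eq_top_iff]
  intro β _
  obtain ⟨a, σ, h⟩ := Cfsg.Agent.Helper13.PSUEnd.structU hF hn hs β
  obtain ⟨g, hg, hag⟩ := exists_GU_PhiU_eq hF hn hs a
  apply Subgroup.subset_closure
  refine ⟨g.1, σ, hg, ?_⟩
  intro s s' hss'
  rw [h, hag, MulAut.mul_apply, fieldAutPSU_mk, PhiU_mk]
  congr 1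
  apply Subtype.ext
  apply Subtype.ext
  rw [conjSU_val, sigmaSU_val]
  exact hss'.symm

end Cfsg.Agent.S2691
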