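import Cfsg.Statements.S2703
import Mathlib
import Cfsg.Agent.Lib.Helper13.PSLInvT

set_option autoImplicit false
open Cfsg

namespace Cfsg.Agent.S2703

/-- Let T = PSL_n(F) over the field with q elements, q odd, n = 2m ≥ 4 even, and ι the inverse-transpose automorphism. Its centralizer in G = Inndiag(T) (the image of PGL_n(F)) is isomorphic to the projective conformal orthogonal group of the plus-type form Σ xᵢ yᵢ in dimension n when n(q − 1)/4 is even, and to that of a minus-type form (Σ xᵢ yᵢ + z₁² + a z₁ z₂ + b z₂² with anisotropic binary part) when n(q − 1)/4 is odd. -/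
theorem result {F : Type*} [Field F] [Fintype F] (hodd : Odd (Fintype.card F)) {n m : ℕ} (hm : 2 ≤ m) (hnm : n = 2 * m) (ι : MulAut (Matrix.ProjectiveSpecialLinearGroup (Fin n) F)) (hι : Cfsg.IsInverseTransposeAutPSL ι) :
    (Even (n * (Fintype.card F - 1) / 4) → Nonempty (↥(Cfsg.inndiagPSL n F ⊓ Subgroup.centralizer {ι}) ≃* Cfsg.PGO F (Cfsg.quadFormPlus m F))) ∧ (¬ Even (n * (Fintype.card F - 1) / 4) → ∃ a b : F, (∀ z₁ z₂ : F, z₁ ^ 2 + a * z₁ * z₂ + b * z₂ ^ 2 = 0 → z₁ = 0 ∧ z₂ = 0) ∧ Nonempty (↥(Cfsg.inndiagPSL n F ⊓ Subgroup.centralizer {ι}) ≃* Cfsg.PGO F (Cfsg.quadFormMinus (m - 1) F a b))) := by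
  classical
  have h2 : (2 : F) ≠ 0 := by
    intro h
    have h1 : ringChar F = 2 :=
      CharP.ringChar_of_prime_eq_zero Nat.prime_two (by exact_mod_cast h)
    have h3 := FiniteField.even_card_of_char_two h1
    rcases hodd with ⟨k, hk⟩
    omega
  have hn : 0 < n := by omega
  obtain ⟨e0⟩ := Cfsg.Agent.Helper13.PSLInvT.cent_invT_equiv_pgo_dot hn h2 hι
  obtain ⟨t, ht⟩ := hodd
  have hval : n * (Fintype.card F - 1) / 4 = m * t := by
    rw [hnm, ht, Nat.add_sub_cancel]
    have : 2 * m * (2 * t) = 4 * (m * t) := by ring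
    rw [this, Nat.mul_div_cancel_left _ (by norm_num : 0 < 4)]
  rw [hval, Nat.even_mul]
  subst hnm
  constructor
  · intro hev
    have hcase : Even m ∨ IsSquare (-1 : F) := by
      rcases hev with h | h
      · exact Or.inl h
      · right
        rw [FiniteField.isSquare_neg_one_iff, ht]
        obtain ⟨s, hs⟩ := h
        omega
    have hiso := Cfsg.Agent.Helper13.PSLInvT.dot_fin_iso_plus (F := F) ⟨t, ht⟩ h2 m hcase
    obtain ⟨e1⟩ := hiso.pgo
    exact ⟨e0.trans e1⟩
  · intro hnev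
    rw [not_or, Nat.not_even_iff_odd, Nat.not_even_iff_odd] at hnev
    obtain ⟨hmodd, htodd⟩ := hnev
    have hns : ¬ IsSquare (-1 : F) := by
      rw [FiniteField.isSquare_neg_one_iff, ht, not_not]
      obtain ⟨s, hs⟩ := htodd
      omega
    refine ⟨0, 1, Cfsg.Agent.Helper13.PSLInvT.aniso_of_not_isSquare hns, ?_⟩
    have hiso := Cfsg.Agent.Helper13.PSLInvT.dot_fin_iso_minus (F := F) ⟨t, ht⟩ h2 m hmodd
    obtain ⟨e1⟩ := hiso.pgo
    exact ⟨e0.trans e1⟩

end Cfsg.Agent.S2703
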