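import Cfsg.Statements.S2706
import Cfsg.Agent.Lib.Helper5.PSUGr12

set_option autoImplicit false
open Cfsg

namespace Cfsg.Agent.S2706

/-- Let T = PSU_n(q) be simple with n = 2m + 1 ≥ 3 odd, realised over the field F with q² elements, and G = Inndiag(T) the image of PGU_n(q). Every involutory graph automorphism γ of T (an inner-diagonal automorphism times a standard field automorphism of even order, of order 2) has centralizer C_G(γ) isomorphic to the projective conformal orthogonal group of the form x₀² + Σ xᵢ yᵢ in dimension n over a field F₀ with q elements, and any two involutory graph automorphisms of T are G-conjugate. -/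
theorem result {F : Type*} [Field F] [Fintype F] {p f q : ℕ} [Fact p.Prime] (hq : q = p ^ f) (hf : 1 ≤ f) (hF : Fintype.card F = q ^ 2) {n : ℕ} (hn : 3 ≤ n) (hs : ¬ (n = 3 ∧ q = 2)) {m : ℕ} (hnm : n = 2 * m + 1) (F₀ : Type*) [Field F₀] [Fintype F₀] (hF₀ : Fintype.card F₀ = q) (γ γ' : MulAut (Cfsg.PSU n F q)) (hγ : Cfsg.IsGraphAutClassPSU γ) (hγ2 : orderOf γ = 2) (hγ' : Cfsg.IsGraphAutClassPSU γ') (hγ'2 : orderOf γ' = 2) :
    Nonempty (↥(Cfsg.inndiagPSU n F q ⊓ Subgroup.centralizer {γ}) ≃* Cfsg.PGO F₀ (Cfsg.quadFormOdd m F₀)) ∧ Cfsg.IsConjUnder (Cfsg.inndiagPSU n F q) γ γ' := by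
  classical
  open Matrix Cfsg.Agent.Helper13.PSLAut Cfsg.Agent.Helper13.SimForms
    Cfsg.Agent.Helper13.DotForm Cfsg.Agent.Helper13.GraphAutClasses Cfsg.Agent.Helper5.PSUAut
    Cfsg.Agent.Helper5.PSUGr in
  obtain ⟨ι₀⟩ := exists_ringHom_of_card hF hF₀
  have hodd : Odd n := ⟨m, hnm⟩
  obtain ⟨D, S₀, a, ha, rfl, hdet, hsym, hdat⟩ :=
    graph_invol_datum_odd hF hF₀ ι₀ hn hs hodd γ hγ hγ2
  obtain ⟨D', S₀', a', ha', rfl, hdet', hsym', hdat'⟩ :=
    graph_invol_datum_odd hF hF₀ ι₀ hn hs hodd γ' hγ' hγ'2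
  refine ⟨?_, conj_of_symm_odd hF hF₀ ι₀ hn hs hodd hdet hdet' hsym hsym' hdat hdat' a a' ha ha'⟩
  have e' : Fin n ≃ Cfsg.Agent.Helper43.GraphAutCent.Idx m :=
    Fintype.equivOfCardEq (by
      simp only [Fintype.card_sum, Fintype.card_unique, Fintype.card_fin]; omega)
  by_cases h2 : (2 : F₀) = 0
  · have : CharP F₀ 2 := CharTwo.of_one_ne_zero_of_two_eq_zero one_ne_zero h2
    set Sr : Matrix (Fin n) (Fin n) F₀ :=
      (Cfsg.Agent.Helper43.GraphAutCent.G2 m F₀).submatrix e' e' with hSr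
    have hSrsym : Srᵀ = Sr := by
      rw [hSr, Matrix.transpose_submatrix, Cfsg.Agent.Helper43.GraphAutCent.G2_transpose]
    have hG2det : (Cfsg.Agent.Helper43.GraphAutCent.G2 m F₀).det ≠ 0 :=
      Matrix.det_ne_zero_of_right_inverse Cfsg.Agent.Helper43.GraphAutCent.G2_mul_G2
    have hSrdet : Sr.det ≠ 0 := by
      rw [hSr, Matrix.det_submatrix_equiv_self]; exact hG2det
    have hSrne : Sr ≠ 0 := by
      intro h0
      apply hSrdet
      rw [h0]
      have : Nonempty (Fin n) := ⟨⟨0, by omega⟩⟩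
      exact Matrix.det_zero
    obtain ⟨Dr, hDr⟩ := exists_datum hF hF₀ ι₀ Sr hSrdet 1 one_ne_zero
      (Or.inl ⟨map_one _, hSrsym⟩)
    set ar : ↥(CU n F q) := ⟨aOf hF Dr, aOf_mem_CU hF hF₀ ι₀ one_ne_zero hDr⟩ with har
    obtain ⟨e0⟩ := Cfsg.Agent.Helper43.GraphAut.conj_cent_equiv (Cfsg.inndiagPSU n F q) _ _
      (conj_of_symm_odd hF hF₀ ι₀ hn hs hodd hdet hSrdet hsym hSrsym hdat hDr a ar ha rfl)
    obtain ⟨e1⟩ := cent_gamU_equiv hF hF₀ ι₀ hn hs one_ne_zero hSrne hDr ar rfl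
      (Cfsg.Geo.similarityGroup (F := F₀) (bform Sr)) (fun g => mem_bsim_iff Sr g)
    obtain ⟨e2⟩ := bsim_congr (LinearEquiv.funCongrLeft F₀ F₀ e') (bform Sr)
      (bform (Cfsg.Agent.Helper43.GraphAutCent.G2 m F₀))
      (fun u v => bform_submatrix e' _ u v)
    have hEq : Cfsg.Geo.similarityGroup (F := F₀)
        (bform (Cfsg.Agent.Helper43.GraphAutCent.G2 m F₀)) =
        Cfsg.Agent.Helper43.GraphAutCent.NTwo m F₀ := by
      ext h
      rw [mem_bsim_iff, Cfsg.Agent.Helper43.GraphAutCent.mem_NTwo]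
      have hh1 : h.1 * (h⁻¹).1 = 1 := by
        rw [← Units.val_mul, mul_inv_cancel, Units.val_one]
      have hh2 : (h⁻¹).1 * h.1 = 1 := by
        rw [← Units.val_mul, inv_mul_cancel, Units.val_one]
      constructor
      · rintro ⟨c, hc⟩
        exact ⟨c, (Cfsg.Agent.Helper43.GraphAutCongr.congr_inv_iff _ _ _ _ hh1 hh2
          Cfsg.Agent.Helper43.GraphAutCent.G2_mul_G2 Cfsg.Agent.Helper43.GraphAutCent.G2_mul_G2
          (c : F₀)).2 hc⟩
      · rintro ⟨c, hc⟩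
        exact ⟨c, (Cfsg.Agent.Helper43.GraphAutCongr.congr_inv_iff _ _ _ _ hh1 hh2
          Cfsg.Agent.Helper43.GraphAutCent.G2_mul_G2 Cfsg.Agent.Helper43.GraphAutCent.G2_mul_G2
          (c : F₀)).1 hc⟩
    rw [hEq] at e2
    obtain ⟨e3⟩ := Cfsg.Agent.Helper43.GraphAutCent.nTwo_equiv_sp (m := m) (F := F₀)
    obtain ⟨e4⟩ := Cfsg.Agent.S0304.result (F := F₀) m
    obtain ⟨e5⟩ := Cfsg.Agent.Helper43.GraphAutCent.iso_equiv_pgo (m := m) (F := F₀)
    exact ⟨((((e0.trans e1).trans e2).trans e3).trans e4.symm).trans e5⟩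
  · set Sr : Matrix (Fin n) (Fin n) F₀ :=
      (Cfsg.Agent.Helper43.GraphAutCent.P0 m F₀).submatrix e' e' with hSr
    have hSrsym : Srᵀ = Sr := by
      rw [hSr, Matrix.transpose_submatrix, Cfsg.Agent.Helper43.GraphAutCent.P0_transpose]
    have hP0det : (Cfsg.Agent.Helper43.GraphAutCent.P0 m F₀).det ≠ 0 :=
      Matrix.det_ne_zero_of_right_inverse (Cfsg.Agent.Helper43.GraphAutCent.P0_mul_G0 h2)
    have hSrdet : Sr.det ≠ 0 := by
      rw [hSr, Matrix.det_submatrix_equiv_self]; exact hP0det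
    have hSrne : Sr ≠ 0 := by
      intro h0
      apply hSrdet
      rw [h0]
      have : Nonempty (Fin n) := ⟨⟨0, by omega⟩⟩
      exact Matrix.det_zero
    obtain ⟨Dr, hDr⟩ := exists_datum hF hF₀ ι₀ Sr hSrdet 1 one_ne_zero
      (Or.inl ⟨map_one _, hSrsym⟩)
    set ar : ↥(CU n F q) := ⟨aOf hF Dr, aOf_mem_CU hF hF₀ ι₀ one_ne_zero hDr⟩ with har
    obtain ⟨e0⟩ := Cfsg.Agent.Helper43.GraphAut.conj_cent_equiv (Cfsg.inndiagPSU n F q) _ _
      (conj_of_symm_odd hF hF₀ ι₀ hn hs hodd hdet hSrdet hsym hSrsym hdat hDr a ar ha rfl)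
    obtain ⟨e1⟩ := cent_gamU_equiv hF hF₀ ι₀ hn hs one_ne_zero hSrne hDr ar rfl
      (Cfsg.Geo.quadSimilarityGroup (F := F₀) (formQ Sr))
      (fun g => mem_sim_formQ_iff h2 Sr hSrsym g)
    have hq : QIso (formQ Sr) (Cfsg.quadFormOdd m F₀) := by
      refine ⟨LinearEquiv.funCongrLeft F₀ F₀ e', fun v => ?_⟩
      rw [Cfsg.Agent.Helper43.GraphAutCent.quad_eq h2]
      exact bform_submatrix e' _ v v
    obtain ⟨e2⟩ := hq.pgo
    exact ⟨(e0.trans e1).trans e2⟩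

end Cfsg.Agent.S2706
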