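import Cfsg.Statements.S2713
import Cfsg.Agent.S2693
import Cfsg.Agent.Lib.Helper40.AutPSpFieldMain

set_option autoImplicit false
open Cfsg

namespace Cfsg.Agent.S2713

open Cfsg.Agent.Helper40.AutPSp in
/-- Let T = PSp_{2m}(F) be simple over a finite field (m ≥ 2, (2m, |F|) ≠ (4, 2)) and let x be a field automorphism of T of prime order r. Then an element y of the coset Inndiag(T)·x (y = δ x with δ in the image of the projective conformal symplectic group) has order r if and only if y is conjugate to x by an element of Inndiag(T). -/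
theorem result {F : Type*} [Field F] [Fintype F] {m : ℕ} (hm : 2 ≤ m) (hs : m = 2 → 3 ≤ Fintype.card F) (x δ : MulAut (Cfsg.PSp m F)) (hx : Cfsg.IsFieldAutClassPSp x) {r : ℕ} (hr : r.Prime) (hxr : orderOf x = r) (hδ : δ ∈ Cfsg.inndiagPSp m F) :
    orderOf (δ * x) = r ↔ Cfsg.IsConjUnder (Cfsg.inndiagPSp m F) x (δ * x) := by
  obtain ⟨p, hp⟩ := CharP.exists F
  have hpp : p.Prime := (CharP.char_is_prime_or_zero F p).resolve_right
    (fun h0 => by
      subst h0
      have := CharP.charP_to_charZero F
      exact not_finite F)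
  have hm1 : 1 ≤ m := by omega
  by_cases h2 : p = 2
  · subst h2
    exact coset_main_Sp' hm1 (inndiag_normal_of_char_two hm1) x δ hx hr hxr hδ
  · have : Fact p.Prime := ⟨hpp⟩
    have hS : StructSp m F :=
      gammaPSp_eq_top_iff.1 (Cfsg.Agent.S2693.result (F := F) (p := p) hm (fun _ => h2))
    exact coset_main_Sp' hm1 (inndiag_normal hS) x δ hx hr hxr hδ

end Cfsg.Agent.S2713
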