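import Cfsg.Statements.S2714
-- import your own Cfsg.Agent.* helpers here
import Cfsg.Agent.S2694
import Cfsg.Agent.Lib.Helper40.AutPOmFieldMain

set_option autoImplicit false
open Cfsg

namespace Cfsg.Agent.S2714

/-- Let T = Ω_{2m+1}(F) (m ≥ 3, |F| = p^f odd; realised as PΩ of the form x₀² + Σ xᵢ yᵢ), G = Inndiag(T) the image of the conformal orthogonal group in Aut(T), and x a field automorphism of T of prime order r. Then r divides f; C_G(x) is isomorphic to Inndiag(Ω_{2m+1}(F₀)) for a field F₀ with p^(f/r) elements; and the G-class of x is a single T-class when r is odd and the union of exactly two T-classes when r = 2. -/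
theorem result {F : Type*} [Field F] [Fintype F] {p f : ℕ} [Fact p.Prime] (hF : Fintype.card F = p ^ f) (hf : 1 ≤ f) (hodd : Odd (Fintype.card F)) {m : ℕ} (hm : 3 ≤ m) (x : MulAut (Cfsg.POmega F (Cfsg.quadFormOdd m F))) (hx : Cfsg.IsFieldAutClassPOmega (Cfsg.quadFormOdd m F) x) {r : ℕ} (hr : r.Prime) (hxr : orderOf x = r) (F₀ : Type*) [Field F₀] [Fintype F₀] (hF₀ : Fintype.card F₀ = p ^ (f / r)) :
    r ∣ f ∧ Nonempty (↥(Cfsg.inndiagPOmegaOdd m F ⊓ Subgroup.centralizer {x}) ≃* ↥(Cfsg.inndiagPOmegaOdd m F₀)) ∧ (Odd r → Cfsg.splitClassCount (Cfsg.inndiagPOmegaOdd m F) (Cfsg.Inn (Cfsg.POmega F (Cfsg.quadFormOdd m F))) x = 1) ∧ (r = 2 → Cfsg.splitClassCount (Cfsg.inndiagPOmegaOdd m F) (Cfsg.Inn (Cfsg.POmega F (Cfsg.quadFormOdd m F))) x = 2) := by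
  classical
  have hp : p.Prime := Fact.out
  have h2 := Cfsg.Agent.Helper5.OrthAut.two_ne_zero_of_odd_card hodd
  have hcard : Fintype.card (Unit ⊕ (Fin m ⊕ Fin m)) = 2 * m + 1 := by
    simp; ring
  -- the data over `F`
  have hfam := Cfsg.Agent.Helper43.stdOdd_isHypFamily F m
  have hnd := Cfsg.Agent.Helper43.stdOdd_nondegenerate F m h2
  have hperf := Cfsg.Agent.Helper5.OrthAut.hperf_of_hyp (Cfsg.Agent.Helper43.stdOdd F m) hnd _ _
    hfam hm (by rw [hcard]; omega)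
  have hcent := Cfsg.Agent.Helper5.OrthAut.hcent_of_hyp (Cfsg.Agent.Helper43.stdOdd F m) hfam hm
    (Cfsg.Agent.Lead.POmegaCard.hspan_odd m)
  have hidx := Cfsg.Agent.Lead.POmegaCard.index_omega_odd h2 (Cfsg.Agent.Helper43.stdOdd F m) hnd
    (by rw [hcard]; omega)
  -- the data over `F₀`
  have hpodd : Odd p := by
    rw [hF] at hodd
    exact (Nat.odd_pow_iff (by omega)).1 hodd
  have hodd₀ : Odd (Fintype.card F₀) := by
    rw [hF₀]
    exact hpodd.pow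
  have h2₀ := Cfsg.Agent.Helper5.OrthAut.two_ne_zero_of_odd_card hodd₀
  have hfam₀ := Cfsg.Agent.Helper43.stdOdd_isHypFamily F₀ m
  have hnd₀ := Cfsg.Agent.Helper43.stdOdd_nondegenerate F₀ m h2₀
  have hperf₀ := Cfsg.Agent.Helper5.OrthAut.hperf_of_hyp (Cfsg.Agent.Helper43.stdOdd F₀ m) hnd₀ _ _
    hfam₀ hm (by rw [hcard]; omega)
  have hcent₀ := Cfsg.Agent.Helper5.OrthAut.hcent_of_hyp (Cfsg.Agent.Helper43.stdOdd F₀ m) hfam₀ hm
    (Cfsg.Agent.Lead.POmegaCard.hspan_odd m)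
  exact Cfsg.Agent.Helper40.AutPOm.field_main_O' (Q₀ := Cfsg.Agent.Helper43.stdOdd F₀ m)
    (Q := Cfsg.Agent.Helper43.stdOdd F m) (Cfsg.quadFormOdd m F) (Cfsg.quadFormOdd m F₀)
    (Cfsg.Agent.Helper43.coe_stdOdd F m) (Cfsg.Agent.Helper43.coe_stdOdd F₀ m)
    (fun emb => Cfsg.Agent.Helper40.AutPOm.isBC_stdOdd m emb) h2
    (Cfsg.Agent.Helper40.AutPOm.qaut_odd m) hperf hcent hp hF hf
    (Cfsg.Agent.Helper40.AutPOm.rigData_odd h2 hm) (Cfsg.Agent.S2694.result hodd hm)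
    hnd hnd₀ hperf₀ hcent₀ m (by omega) hcard hidx
    (Cfsg.Agent.Helper40.AutPOm.hrep_of_hyp _ hfam₀ (by omega))
    x hx hr hxr hF₀

end Cfsg.Agent.S2714
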