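import Cfsg.Statements.S2719
import Cfsg.Agent.Lib.Helper14.MinusGraphSplit

set_option autoImplicit false
open Cfsg

namespace Cfsg.Agent.S2719

open Matrix QuadraticMap Cfsg.Agent.Helper43 Cfsg.Agent.Helper5.OrthAut

theorem result_aux {F : Type*} [Field F] [Fintype F] (hodd : Odd (Fintype.card F)) {m : ℕ}
    (hm : 3 ≤ m) (a b : F)
    (hab : (∀ z₁ z₂ : F, z₁ ^ 2 + a * z₁ * z₂ + b * z₂ ^ 2 = 0 → z₁ = 0 ∧ z₂ = 0))
    (Q' : ((Fin m ⊕ Fin m) ⊕ Fin 2 → F) → F) (hQ' : ⇑(stdMinus F m a b) = Q')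
    (γ : MulAut (Cfsg.POmega F Q')) (hγΓ : γ ∈ Cfsg.gammaPOmega F Q')
    (hγD : γ ∉ Cfsg.autSubgroupOf (fun β : Cfsg.POmega F Q' ≃* Cfsg.POmega F Q' =>
      ∃ g : GL ((Fin m ⊕ Fin m) ⊕ Fin 2) F,
        g ∈ Cfsg.Geo.quadSimilarityGroup (F := F) Q' ∧
        Cfsg.PreservesSingularClassesMinus m a b
          (g : Matrix ((Fin m ⊕ Fin m) ⊕ Fin 2) ((Fin m ⊕ Fin m) ⊕ Fin 2) F) ∧
        Cfsg.IsInducedBySemilinearPOmega Q' g (RingEquiv.refl F) β))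
    (hγ2 : orderOf γ = 2) :
    (Cfsg.splitClassCount (Cfsg.autSubgroupOf (fun β : Cfsg.POmega F Q' ≃* Cfsg.POmega F Q' =>
      ∃ g : GL ((Fin m ⊕ Fin m) ⊕ Fin 2) F,
        g ∈ Cfsg.Geo.quadSimilarityGroup (F := F) Q' ∧
        Cfsg.PreservesSingularClassesMinus m a b
          (g : Matrix ((Fin m ⊕ Fin m) ⊕ Fin 2) ((Fin m ⊕ Fin m) ⊕ Fin 2) F) ∧
        Cfsg.IsInducedBySemilinearPOmega Q' g (RingEquiv.refl F) β))
        (Cfsg.Inn (Cfsg.POmega F Q')) γ = 1 ∨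
      Cfsg.splitClassCount (Cfsg.autSubgroupOf (fun β : Cfsg.POmega F Q' ≃* Cfsg.POmega F Q' =>
      ∃ g : GL ((Fin m ⊕ Fin m) ⊕ Fin 2) F,
        g ∈ Cfsg.Geo.quadSimilarityGroup (F := F) Q' ∧
        Cfsg.PreservesSingularClassesMinus m a b
          (g : Matrix ((Fin m ⊕ Fin m) ⊕ Fin 2) ((Fin m ⊕ Fin m) ⊕ Fin 2) F) ∧
        Cfsg.IsInducedBySemilinearPOmega Q' g (RingEquiv.refl F) β))
        (Cfsg.Inn (Cfsg.POmega F Q')) γ = 2) ∧
    (¬ (Even m ∧ Fintype.card F % 4 = 1) →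
      Cfsg.splitClassCount (Cfsg.autSubgroupOf (fun β : Cfsg.POmega F Q' ≃* Cfsg.POmega F Q' =>
      ∃ g : GL ((Fin m ⊕ Fin m) ⊕ Fin 2) F,
        g ∈ Cfsg.Geo.quadSimilarityGroup (F := F) Q' ∧
        Cfsg.PreservesSingularClassesMinus m a b
          (g : Matrix ((Fin m ⊕ Fin m) ⊕ Fin 2) ((Fin m ⊕ Fin m) ⊕ Fin 2) F) ∧
        Cfsg.IsInducedBySemilinearPOmega Q' g (RingEquiv.refl F) β))
        (Cfsg.Inn (Cfsg.POmega F Q')) γ = 2) := by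
  subst hQ'
  have hfam := stdMinus_isHypFamily F m a b
  have hQ0 := hQ0_of_hyp (stdMinus F m a b) hfam (by omega)
  have haux := inndiag_minus_aux hodd m a b hab hQ0
  rw [haux] at hγD ⊢
  exact Cfsg.Agent.Helper14.MinusGraphSplit.main_aux hodd hm a b hab hQ0 γ hγΓ hγD hγ2

/-- Let T = PΩ⁻_{2m+2}(F) with m ≥ 3 and |F| = q odd (form with anisotropic binary part z₁² + a z₁ z₂ + b z₂²), G = Inndiag(T), and γ an involutory graph automorphism of T (an automorphism in the image of the semisimilarity group, not inner-diagonal, of order 2). Then the G-class of γ is either a single T-class or the union of exactly two T-classes, and it is the union of two unless m is even and q ≡ 1 (mod 4). -/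
theorem result {F : Type*} [Field F] [Fintype F] (hodd : Odd (Fintype.card F)) {m : ℕ} (hm : 3 ≤ m) (a b : F) (hab : (∀ z₁ z₂ : F, z₁ ^ 2 + a * z₁ * z₂ + b * z₂ ^ 2 = 0 → z₁ = 0 ∧ z₂ = 0)) (γ : MulAut (Cfsg.POmega F (Cfsg.quadFormMinus m F a b))) (hγ : Cfsg.IsGraphAutClassPOmegaMinus m a b γ) (hγ2 : orderOf γ = 2) :
    (Cfsg.splitClassCount (Cfsg.inndiagPOmegaMinus m F a b) (Cfsg.Inn (Cfsg.POmega F (Cfsg.quadFormMinus m F a b))) γ = 1 ∨ Cfsg.splitClassCount (Cfsg.inndiagPOmegaMinus m F a b) (Cfsg.Inn (Cfsg.POmega F (Cfsg.quadFormMinus m F a b))) γ = 2) ∧ (¬ (Even m ∧ Fintype.card F % 4 = 1) → Cfsg.splitClassCount (Cfsg.inndiagPOmegaMinus m F a b) (Cfsg.Inn (Cfsg.POmega F (Cfsg.quadFormMinus m F a b))) γ = 2) := by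
  exact result_aux hodd hm a b hab _ (coe_stdMinus F m a b) γ hγ.1 hγ.2.1 hγ2

end Cfsg.Agent.S2719
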