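import Cfsg.Statements.S2730
import Cfsg.Agent.S2693
import Cfsg.Agent.Lib.Helper14.LocalBalSpRed
import Cfsg.Agent.Lib.Helper14.SpExcTwoB

set_option autoImplicit false
open Cfsg

namespace Cfsg.Agent.S2730

open Cfsg.Agent.Helper40.AutPSp Cfsg.Agent.Helper14.LocalBal Cfsg.Agent.Helper14.SpExc in
/-- A criterion for the failure of local balance in almost simple groups whose socle is a projective symplectic group PSp_{2m}(F) (m ≥ 2, (2m, |F|) ≠ (4, 2)). Let F be a finite field of characteristic r and K the (simple) group in question; let A be a group of automorphisms of K containing all inner automorphisms, and x ∈ A an automorphism of prime order p ≠ r that is not inner-diagonal (not induced by a conformal symplectic matrix). Then the largest normal subgroup of C_A(x) of order prime to p is nontrivial if and only if x is a field automorphism of K (conjugate under Aut(K) to a non-identity standard field automorphism) and p does not divide the number of fixed points of x on K. -/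
theorem result {F : Type*} [Field F] [Fintype F] {r : ℕ} [Fact r.Prime] [CharP F r] {m : ℕ} (hm : 2 ≤ m) (hs : m = 2 → 3 ≤ Fintype.card F) (hK : IsSimpleGroup (Cfsg.PSp m F)) (A : Subgroup (MulAut (Cfsg.PSp m F))) (hinn : ∀ k : Cfsg.PSp m F, MulAut.conj k ∈ A) {p : ℕ} [Fact p.Prime] (hpr : p ≠ r) (x : MulAut (Cfsg.PSp m F)) (hxA : x ∈ A) (hord : orderOf x = p) (hnot : ¬ Cfsg.IsInnerDiagonalAutPSp x) :
    Cfsg.pPrimeCore p ↥(A ⊓ Subgroup.centralizer {x}) ≠ ⊥ ↔ (Cfsg.IsFieldAutClassPSp x ∧ Nat.Coprime p (Nat.card ↥(MonoidHom.eqLocus x.toMonoidHom (MonoidHom.id (Cfsg.PSp m F))))) := by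
  have hp : p.Prime := Fact.out
  have := hK
  have hm1 : 1 ≤ m := by omega
  by_cases hex : m = 2 ∧ r = 2
  · -- the exceptional case `Sp_4(2^a)`
    obtain ⟨hm2, hr2⟩ := hex
    subst hr2
    have hp2 : p ≠ 2 := hpr
    exact local_balance_Sp_of_std hm1 hp
      (fun τ hτ A' hA' => main_std_Sp hm hs (fun h => absurd rfl h)
        (fun n hn => mem_gammaSub_of_fixes hm hm2 n hn) hp hpr τ hτ A' hA')
      A hinn x hord (mem_gammaSub_of_order hm hm2 x hp hp2 hord) hnot
  · -- the generic case: `Aut(PSp) = PΓSp`
    have hS : StructSp m F :=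
      (gammaPSp_eq_top_iff).1 (Cfsg.Agent.S2693.result hm (fun h2 hr => hex ⟨h2, hr⟩))
    exact local_balance_Sp_of_std hm1 hp
      (fun τ hτ A' hA' => main_std_Sp hm hs (fun _ => hS)
        (fun n _ => (mem_gammaSub n).2 (hS n)) hp hpr τ hτ A' hA')
      A hinn x hord ((mem_gammaSub x).2 (hS x)) hnot

end Cfsg.Agent.S2730
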