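import Cfsg.Statements.S2735
-- import your own Cfsg.Agent.* helpers here
import Cfsg.Agent.S2694
import Cfsg.Agent.Lib.Helper40.AutPOmCoset

set_option autoImplicit false
open Cfsg

namespace Cfsg.Agent.S2735

/-- Let T = Ω_{2m+1}(F) (m ≥ 3, |F| odd) and x a field automorphism of T of prime order r. Then an element y of the coset Inndiag(T)·x (y = δ x with δ induced by a similarity of the form) has order r if and only if y is conjugate to x by an element of Inndiag(T). (T has no graph or graph-field automorphisms.) -/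
theorem result {F : Type*} [Field F] [Fintype F] (hodd : Odd (Fintype.card F)) {m : ℕ} (hm : 3 ≤ m) (x δ : MulAut (Cfsg.POmega F (Cfsg.quadFormOdd m F))) (hx : Cfsg.IsFieldAutClassPOmega (Cfsg.quadFormOdd m F) x) {r : ℕ} (hr : r.Prime) (hxr : orderOf x = r) (hδ : δ ∈ Cfsg.inndiagPOmegaOdd m F) :
    orderOf (δ * x) = r ↔ Cfsg.IsConjUnder (Cfsg.inndiagPOmegaOdd m F) x (δ * x) := by
  have h2 := Cfsg.Agent.Helper5.OrthAut.two_ne_zero_of_odd_card hodd
  have hfam := Cfsg.Agent.Helper43.stdOdd_isHypFamily F m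
  have hnd := Cfsg.Agent.Helper43.stdOdd_nondegenerate F m h2
  have hcard : Fintype.card (Unit ⊕ (Fin m ⊕ Fin m)) = 2 * m + 1 := by
    simp; ring
  have hperf := Cfsg.Agent.Helper5.OrthAut.hperf_of_hyp (Cfsg.Agent.Helper43.stdOdd F m) hnd _ _
    hfam hm (by rw [hcard]; omega)
  have hcent := Cfsg.Agent.Helper5.OrthAut.hcent_of_hyp (Cfsg.Agent.Helper43.stdOdd F m) hfam hm
    (Cfsg.Agent.Lead.POmegaCard.hspan_odd m)
  exact Cfsg.Agent.Helper40.AutPOm.coset_main_O' (Cfsg.Agent.Helper43.stdOdd F m)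
    (Cfsg.quadFormOdd m F) (Cfsg.Agent.Helper43.coe_stdOdd F m)
    (Cfsg.Agent.Helper40.AutPOm.qaut_odd m) hperf hcent
    (Cfsg.Agent.Helper40.AutPOm.rigData_odd h2 hm) h2 ⟨m, hcard⟩ hnd
    (Cfsg.Agent.S2694.result hodd hm) x δ hx hr hxr hδ

end Cfsg.Agent.S2735
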