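import Cfsg.Statements.S2736
-- import your own Cfsg.Agent.* helpers here
import Cfsg.Agent.S2695
import Cfsg.Agent.Lib.Helper40.OrthEvenFinal
import Cfsg.Agent.Lib.Helper40.OEV.A3
import Cfsg.Agent.Lib.Helper5.OrthLag7

set_option autoImplicit false
open Cfsg

namespace Cfsg.Agent.S2736

/-- Let T = PΩ⁺_{2m}(F) with m ≥ 5 (dimension ≠ 8) and x a field automorphism or a graph-field automorphism of T of prime order r. Then an element y of the coset Inndiag(T)·x (y = δ x with δ induced by a class-preserving similarity) has order r if and only if y is conjugate to x by an element of Inndiag(T). -/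
theorem result {F : Type*} [Field F] [Fintype F] {m : ℕ} (hm : 5 ≤ m) (x δ : MulAut (Cfsg.POmega F (Cfsg.quadFormPlus m F))) (hx : Cfsg.IsFieldAutClassPOmega (Cfsg.quadFormPlus m F) x ∨ Cfsg.IsGraphFieldAutClassPOmegaPlus m x) {r : ℕ} (hr : r.Prime) (hxr : orderOf x = r) (hδ : δ ∈ Cfsg.inndiagPOmegaPlus m F) :
    orderOf (δ * x) = r ↔ Cfsg.IsConjUnder (Cfsg.inndiagPOmegaPlus m F) x (δ * x) := by
  have hfam := Cfsg.Agent.Helper43.stdPlus_isHypFamily F m
  have hnd := Cfsg.Agent.Helper43.stdPlus_nondegenerate F m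
  have hcard : Fintype.card (Fin m ⊕ Fin m) = 2 * m := by
    simp; ring
  have hperf := Cfsg.Agent.Helper5.OrthAut.hperf_of_hyp (Cfsg.Agent.Helper43.stdPlus F m) hnd _ _
    hfam (by omega) (by rw [hcard]; omega)
  have hcent := Cfsg.Agent.Helper5.OrthAut.hcent_of_hyp (Cfsg.Agent.Helper43.stdPlus F m) hfam
    (by omega) (Cfsg.Agent.Lead.POmegaCard.hspan_plus m)
  -- a totally singular Lagrangian
  have hex : ∃ U₀ : Submodule F (Fin m ⊕ Fin m → F),
      Cfsg.Agent.Helper40.OrthEven.IsTSLag (Cfsg.Agent.Helper43.stdPlus F m) U₀ := by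
    refine ⟨Cfsg.Agent.Helper5.OrthAut.lagPlus F m, Cfsg.Agent.Helper5.OrthAut.isLag_lagPlus F m, ?_⟩
    intro v hv
    rw [Cfsg.Agent.Helper43.stdPlus_apply]
    unfold Cfsg.quadFormPlus
    apply Finset.sum_eq_zero
    intro i _
    rw [(Cfsg.Agent.Helper5.OrthAut.mem_lagPlus F m v).1 hv i, mul_zero]
  obtain ⟨χ, hχ1, hχ2, hχ3⟩ := Cfsg.Agent.Helper40.OEV.A3.exists_classChar
    (Cfsg.Agent.Helper43.stdPlus F m) hnd hex (Or.inr (by rw [hcard]; omega))
  -- the rational hyperbolic basis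
  have hrat : Cfsg.Agent.Helper40.OrthEven.RatHyp (Cfsg.Agent.Helper43.stdPlus F m) := by
    refine ⟨m, _, _, hfam, hcard.symm, by omega, ?_⟩
    intro τ i j
    constructor
    · by_cases hj : j = Sum.inl i
      · rw [hj, Pi.single_eq_same, map_one]
      · rw [Pi.single_eq_of_ne hj, map_zero]
    · by_cases hj : j = Sum.inr i
      · rw [hj, Pi.single_eq_same, map_one]
      · rw [Pi.single_eq_of_ne hj, map_zero]
  exact Cfsg.Agent.Helper40.OrthEven.coset_main_even' (Cfsg.Agent.Helper43.stdPlus F m)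
    (Cfsg.quadFormPlus m F) (Cfsg.Agent.Helper43.coe_stdPlus F m)
    (Cfsg.Agent.Helper40.AutPOm.qaut_plus m) hperf hcent ⟨χ, hχ1, hχ2, hχ3⟩ hnd hrat
    (Cfsg.Agent.Helper40.AutPOm.rigData_plus (by omega)) (Cfsg.Agent.S2695.result hm)
    x δ hx hr hxr hδ

end Cfsg.Agent.S2736
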