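import Cfsg.Statements.S2738
import Mathlib

set_option autoImplicit false
open Cfsg

namespace Cfsg.Agent.S2738

open Matrix

section Aux

variable {F : Type*} [Field F]

theorem two_eq_zero [Fintype F] (hF : Fintype.card F = 4) : (2 : F) = 0 := by
  have h4 : ((Fintype.card F : ℕ) : F) = 0 := Nat.cast_card_eq_zero F
  rw [hF] at h4
  have h : (2 : F) ^ 2 = 0 := by
    have : ((4 : ℕ) : F) = 2 ^ 2 := by norm_num
    rw [← this]; exact h4
  exact pow_eq_zero_iff (two_ne_zero) |>.mp h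

theorem exists_omega [Fintype F] (hF : Fintype.card F = 4) : ∃ ω : F, ω ≠ 1 ∧ ω ^ 2 + ω + 1 = 0 := by
  classical
  have hcard : Fintype.card Fˣ = 3 := by rw [Fintype.card_units, hF]
  have h1 : 1 < Fintype.card Fˣ := by rw [hcard]; norm_num
  obtain ⟨u, hu⟩ := Fintype.exists_ne_of_one_lt_card h1 (1 : Fˣ)
  have hu3 : u ^ 3 = 1 := by rw [← hcard]; exact pow_card_eq_one
  refine ⟨(u : F), fun h => hu (Units.ext h), ?_⟩
  have h3 : (u : F) ^ 3 = 1 := by
    have := congrArg (fun x : Fˣ => (x : F)) hu3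
    simpa using this
  have hne : (u : F) - 1 ≠ 0 := fun h => hu (Units.ext (sub_eq_zero.mp h))
  have : ((u : F) - 1) * ((u : F) ^ 2 + u + 1) = 0 := by linear_combination h3
  exact (mul_eq_zero.mp this).resolve_left hne

theorem mem_of_sq_eq_one {G : Type*} [Group G] (K : Subgroup G) [K.Normal] (hK : K.index = 3)
    (g : G) (hg : g ^ 2 = 1) : g ∈ K := by
  have hc : Nat.card (G ⧸ K) = 3 := by rw [← Subgroup.index_eq_card]; exact hK
  have h3 : (g : G ⧸ K) ^ 3 = 1 := by
    rw [← hc]; exact pow_card_eq_one'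
  have h2 : (g : G ⧸ K) ^ 2 = 1 := by rw [← QuotientGroup.mk_pow, hg]; rfl
  have : (g : G ⧸ K) = 1 := by
    calc (g : G ⧸ K) = (g : G ⧸ K) ^ 3 * ((g : G ⧸ K) ^ 2)⁻¹ := by group
      _ = 1 := by rw [h3, h2]; simp
  exact (QuotientGroup.eq_one_iff g).mp this

variable (ω : F)

def m1 : Matrix (Fin 3) (Fin 3) F := !![0, ω, 0; ω ^ 2, 0, 0; 0, 0, 1]
def m2 : Matrix (Fin 3) (Fin 3) F := !![0, 1, 0; 1, 0, 0; 0, 0, 1]
def m3 : Matrix (Fin 3) (Fin 3) F := !![1, 0, 0; 0, 0, ω ^ 2; 0, ω, 0]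
def m4 : Matrix (Fin 3) (Fin 3) F := !![1, 0, 0; 0, 0, 1; 0, 1, 0]

variable {ω}

theorem det_m1 (h2 : (2 : F) = 0) (hω : ω ^ 2 + ω + 1 = 0) : (m1 ω).det = 1 := by
  rw [m1, Matrix.det_fin_three]; simp; linear_combination (-(ω - 1)) * hω - h2
theorem det_m2 (h2 : (2 : F) = 0) : (m2 : Matrix (Fin 3) (Fin 3) F).det = 1 := by
  rw [m2, Matrix.det_fin_three]; simp; linear_combination  - h2
theorem det_m3 (h2 : (2 : F) = 0) (hω : ω ^ 2 + ω + 1 = 0) : (m3 ω).det = 1 := by
  rw [m3, Matrix.det_fin_three]; simp; linear_combination (-(ω - 1)) * hω - h2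
theorem det_m4 (h2 : (2 : F) = 0) : (m4 : Matrix (Fin 3) (Fin 3) F).det = 1 := by
  rw [m4, Matrix.det_fin_three]; simp; linear_combination  - h2

theorem m1_sq (hω : ω ^ 2 + ω + 1 = 0) : m1 ω * m1 ω = 1 := by
  have h3 : ω ^ 3 = 1 := by linear_combination (ω - 1) * hω
  ext i j
  fin_cases i <;> fin_cases j <;> simp [m1, Matrix.mul_apply, Fin.sum_univ_three] <;> linear_combination h3

theorem m2_sq : (m2 : Matrix (Fin 3) (Fin 3) F) * m2 = 1 := by
  ext i j
  fin_cases i <;> fin_cases j <;> simp [m2, Matrix.mul_apply, Fin.sum_univ_three]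

theorem m3_sq (hω : ω ^ 2 + ω + 1 = 0) : m3 ω * m3 ω = 1 := by
  have h3 : ω ^ 3 = 1 := by linear_combination (ω - 1) * hω
  ext i j
  fin_cases i <;> fin_cases j <;> simp [m3, Matrix.mul_apply, Fin.sum_univ_three] <;> linear_combination h3

theorem m4_sq : (m4 : Matrix (Fin 3) (Fin 3) F) * m4 = 1 := by
  ext i j
  fin_cases i <;> fin_cases j <;> simp [m4, Matrix.mul_apply, Fin.sum_univ_three]

theorem prod_eq (hω : ω ^ 2 + ω + 1 = 0) :
    m1 ω * m2 * (m3 ω * m4) = Matrix.scalar (Fin 3) ω := by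
  have h3 : ω ^ 3 = 1 := by linear_combination (ω - 1) * hω
  ext i j
  fin_cases i <;> fin_cases j <;>
    simp [m1, m2, m3, m4, Matrix.mul_apply, Fin.sum_univ_three] <;> linear_combination ω * h3

end Aux

theorem card_center (F : Type*) [Field F] [Fintype F] (hF : Fintype.card F = 4) :
    Nat.card ↥(Subgroup.center (Matrix.SpecialLinearGroup (Fin 3) F)) = 3 := by
  classical
  have e := Matrix.SpecialLinearGroup.center_equiv_rootsOfUnity' (n := Fin 3) (R := F) 0
  rw [Nat.card_congr e.toEquiv]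
  have hcard : Fintype.card Fˣ = 3 := by rw [Fintype.card_units, hF]
  have htop : rootsOfUnity (Fintype.card (Fin 3)) F = ⊤ := by
    rw [eq_top_iff]
    intro u _
    rw [mem_rootsOfUnity, Fintype.card_fin, ← hcard]
    exact pow_card_eq_one
  rw [htop, Subgroup.card_top, Nat.card_eq_fintype_card, hcard]

theorem no_complement (F : Type*) [Field F] [Fintype F] (hF : Fintype.card F = 4)
    (K : Subgroup (Matrix.SpecialLinearGroup (Fin 3) F))
    (hK : Subgroup.IsComplement' (Subgroup.center (Matrix.SpecialLinearGroup (Fin 3) F)) K) : False := by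
  have h2 := two_eq_zero hF
  obtain ⟨ω, hω1, hω⟩ := exists_omega hF
  -- K is normal
  have hnorm : K.Normal := by
    rw [← Subgroup.normalizer_eq_top_iff, eq_top_iff, ← hK.sup_eq_top]
    exact sup_le (Subgroup.center_le_normalizer _) Subgroup.le_normalizer
  have hidx : K.index = 3 := by rw [hK.index_eq_card, card_center F hF]
  let a1 : Matrix.SpecialLinearGroup (Fin 3) F := ⟨m1 ω, det_m1 h2 hω⟩
  let a2 : Matrix.SpecialLinearGroup (Fin 3) F := ⟨m2, det_m2 h2⟩
  let a3 : Matrix.SpecialLinearGroup (Fin 3) F := ⟨m3 ω, det_m3 h2 hω⟩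
  let a4 : Matrix.SpecialLinearGroup (Fin 3) F := ⟨m4, det_m4 h2⟩
  have ha1 : a1 ∈ K := mem_of_sq_eq_one K hidx a1 (by
    rw [pow_two]; apply Subtype.ext; exact m1_sq hω)
  have ha2 : a2 ∈ K := mem_of_sq_eq_one K hidx a2 (by
    rw [pow_two]; apply Subtype.ext; exact m2_sq)
  have ha3 : a3 ∈ K := mem_of_sq_eq_one K hidx a3 (by
    rw [pow_two]; apply Subtype.ext; exact m3_sq hω)
  have ha4 : a4 ∈ K := mem_of_sq_eq_one K hidx a4 (by
    rw [pow_two]; apply Subtype.ext; exact m4_sq)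
  have hprodK : a1 * a2 * (a3 * a4) ∈ K := K.mul_mem (K.mul_mem ha1 ha2) (K.mul_mem ha3 ha4)
  have hval : ((a1 * a2 * (a3 * a4) : Matrix.SpecialLinearGroup (Fin 3) F) : Matrix (Fin 3) (Fin 3) F)
      = Matrix.scalar (Fin 3) ω := prod_eq hω
  have hprodZ : a1 * a2 * (a3 * a4) ∈ Subgroup.center (Matrix.SpecialLinearGroup (Fin 3) F) := by
    rw [Matrix.SpecialLinearGroup.mem_center_iff]
    refine ⟨ω, ?_, hval.symm⟩
    rw [Fintype.card_fin]; linear_combination (ω - 1) * hω
  have hbot : a1 * a2 * (a3 * a4) = 1 := by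
    have := hK.disjoint.le_bot ⟨hprodZ, hprodK⟩
    simpa using this
  apply hω1
  have h00 := congrFun (congrFun (congrArg Subtype.val hbot) 0) 0
  rw [hval] at h00
  simpa using h00

/-- The special linear group SL(3, 4) has centre of order 3 and does not split over it: no subgroup is a complement to the centre (so SL(3, 4) is a non-split central extension of PSL(3, 4) by a group of order 3). -/
theorem result (F : Type*) [Field F] [Fintype F] (hF : Fintype.card F = 4) : Nat.card ↥(Subgroup.center (Matrix.SpecialLinearGroup (Fin 3) F)) = 3 ∧ ¬ ∃ K : Subgroup (Matrix.SpecialLinearGroup (Fin 3) F), Subgroup.IsComplement' (Subgroup.center (Matrix.SpecialLinearGroup (Fin 3) F)) K := by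
  refine ⟨card_center F hF, ?_⟩
  rintro ⟨K, hK⟩
  exact no_complement F hF K hK

end Cfsg.Agent.S2738
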