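import Cfsg.Statements.S2739
import Mathlib

set_option autoImplicit false
open scoped Pointwise
open Cfsg

namespace Cfsg.Agent.S2739

open Matrix

section LinAlg


variable {F : Type*} [Field F]

def tr3 (M : Matrix (Fin 3) (Fin 3) F) : F := M 0 0 + M 1 1 + M 2 2

def s3 (M : Matrix (Fin 3) (Fin 3) F) : F :=
  M 0 0 * M 1 1 - M 0 1 * M 1 0 + (M 0 0 * M 2 2 - M 0 2 * M 2 0) + (M 1 1 * M 2 2 - M 1 2 * M 2 1)

theorem cayley3 (M : Matrix (Fin 3) (Fin 3) F) :
    M * M * M = tr3 M • (M * M) - s3 M • M + M.det • (1 : Matrix (Fin 3) (Fin 3) F) := by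
  ext i j
  fin_cases i <;> fin_cases j <;>
    simp [tr3, s3, Matrix.mul_apply, Fin.sum_univ_three, Matrix.det_fin_three] <;> ring

theorem smul_one_inj {x y : F} (h : x • (1 : Matrix (Fin 3) (Fin 3) F) = y • 1) : x = y := by
  have := congrFun (congrFun h 0) 0
  simpa using this

theorem ns_lemma (M : Matrix (Fin 3) (Fin 3) F) (hns : ∀ r : F, M ≠ r • 1) (x y : F)
    (h : x • M = y • 1) : x = 0 ∧ y = 0 := by
  have hx : x = 0 := by
    by_contra hx
    apply hns (x⁻¹ * y)
    calc M = x⁻¹ • (x • M) := by rw [smul_smul, inv_mul_cancel₀ hx, one_smul]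
      _ = _ := by rw [h, smul_smul]
  refine ⟨hx, ?_⟩
  rw [hx, zero_smul] at h
  have := smul_one_inj (x := 0) (y := y) (by rw [zero_smul]; exact h)
  exact this.symm

theorem key1 (h2 : (2 : F) = 0) (hcube : ∀ α : F, α ≠ 0 → α ^ 3 = 1)
    (M : Matrix (Fin 3) (Fin 3) F) (hdet : M.det = 1) (hns : ∀ r : F, M ≠ r • 1)
    (μ : F) (hμ : M * M * M = μ • 1) (hμ0 : μ ≠ 0) : μ = 1 := by
  have hCH := cayley3 M
  rw [hμ, hdet, one_smul] at hCH
  by_cases ht : tr3 M = 0
  · rw [ht, zero_smul, zero_sub] at hCH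
    have h1 : s3 M • M = (1 - μ) • (1 : Matrix (Fin 3) (Fin 3) F) := by
      rw [sub_smul, one_smul, hCH]; module
    have := (ns_lemma M hns _ _ h1).2
    exact (sub_eq_zero.mp this).symm
  · obtain ⟨t, ht'⟩ : ∃ t, t = tr3 M := ⟨_, rfl⟩
    obtain ⟨s, hs'⟩ : ∃ s, s = s3 M := ⟨_, rfl⟩
    rw [← ht'] at ht hCH
    rw [← hs'] at hCH
    obtain ⟨α, hα⟩ : ∃ α, α = s / t := ⟨_, rfl⟩
    obtain ⟨β, hβ⟩ : ∃ β, β = (μ - 1) / t := ⟨_, rfl⟩
    have h1 : t • (M * M) = s • M + (μ - 1) • 1 := by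
      rw [sub_smul, one_smul, hCH]; module
    have hM2 : M * M = α • M + β • 1 := by
      calc M * M = t⁻¹ • (t • (M * M)) := by rw [smul_smul, inv_mul_cancel₀ ht, one_smul]
        _ = _ := by rw [h1, hα, hβ]; module
    have hM3 : M * M * M = (α ^ 2 + β) • M + (α * β) • 1 := by
      calc M * M * M = (α • M + β • 1) * M := by rw [hM2]
        _ = α • (M * M) + β • M := by simp [add_mul]
        _ = α • (α • M + β • 1) + β • M := by rw [hM2]
        _ = _ := by module
    rw [hμ] at hM3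
    have h3 : (α ^ 2 + β) • M = (μ - α * β) • (1 : Matrix (Fin 3) (Fin 3) F) := by
      rw [sub_smul, hM3]; module
    obtain ⟨h4, h5⟩ := ns_lemma M hns _ _ h3
    have hα0 : α ≠ 0 := by
      rintro h0
      apply hμ0
      rw [h0] at h5
      simpa using h5
    have hα3 := hcube α hα0
    have : μ = - α ^ 3 := by linear_combination h5 + α * h4
    rw [this, hα3]
    linear_combination -h2

theorem key2 (M : Matrix (Fin 3) (Fin 3) F) (hdet : M.det = 1) (hns : ∀ r : F, M ≠ r • 1)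
    (hμ : M * M * M = 1) : tr3 M = 0 ∧ s3 M = 0 := by
  have hCH := cayley3 M
  rw [hμ, hdet, one_smul] at hCH
  have h1 : tr3 M • (M * M) = s3 M • M := by
    have : tr3 M • (M * M) - s3 M • M = 0 := by
      exact add_eq_right.mp hCH.symm
    exact sub_eq_zero.mp this
  have h2 : tr3 M • M = s3 M • (1 : Matrix (Fin 3) (Fin 3) F) := by
    have := congrArg (fun Z => (M * M) * Z) h1
    simp only [Matrix.mul_smul] at this
    have e1 : M * M * (M * M) = M := by
      calc M * M * (M * M) = (M * M * M) * M := by simp only [Matrix.mul_assoc]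
        _ = M := by rw [hμ, one_mul]
    rw [e1, hμ] at this
    exact this
  exact ns_lemma M hns _ _ h2




theorem tr_sq (M : Matrix (Fin 3) (Fin 3) F) :
    (M * M) 0 0 + (M * M) 1 1 + (M * M) 2 2 = tr3 M ^ 2 - 2 * s3 M := by
  simp [Matrix.mul_apply, Fin.sum_univ_three, tr3, s3]; ring

theorem exists_eigvec (h2 : (2 : F) = 0) (M : Matrix (Fin 3) (Fin 3) F) (h3 : M * M * M = 1)
    (ht : tr3 M = 0) (hs : s3 M = 0) (e : F) (he : e ^ 3 = 1) :
    ∃ v : Fin 3 → F, v ≠ 0 ∧ M *ᵥ v = e • v := by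
  obtain ⟨E, hE⟩ : ∃ E, E = M * M + e • M + (e ^ 2) • (1 : Matrix (Fin 3) (Fin 3) F) := ⟨_, rfl⟩
  have hME : M * E = e • E := by
    have h3' : M * (M * M) = 1 := by rw [← Matrix.mul_assoc]; exact h3
    rw [hE, Matrix.mul_add, Matrix.mul_add, h3', Matrix.mul_smul, Matrix.mul_smul, Matrix.mul_one]
    have : (1 : Matrix (Fin 3) (Fin 3) F) = (e ^ 3) • 1 := by rw [he, one_smul]
    nth_rewrite 1 [this]
    module
  have htr : E 0 0 + E 1 1 + E 2 2 = e ^ 2 := by
    have h := tr_sq M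
    rw [ht, hs] at h
    have h00 : E 0 0 = (M * M) 0 0 + e * M 0 0 + e ^ 2 := by rw [hE]; simp
    have h11 : E 1 1 = (M * M) 1 1 + e * M 1 1 + e ^ 2 := by rw [hE]; simp
    have h22 : E 2 2 = (M * M) 2 2 + e * M 2 2 + e ^ 2 := by rw [hE]; simp
    have ht' : M 0 0 + M 1 1 + M 2 2 = 0 := ht
    rw [h00, h11, h22]
    linear_combination h + e * ht' + e ^ 2 * h2
  have he0 : e ≠ 0 := by
    rintro rfl
    simp at he
  have hcol : ∃ j, E.col j ≠ 0 := by
    by_contra hcon
    push Not at hcon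
    have h0 : ∀ i j, E i j = 0 := fun i j => congrFun (hcon j) i
    rw [h0, h0, h0] at htr
    apply he0
    have : e ^ 2 = 0 := by rw [← htr]; ring
    exact pow_eq_zero_iff (two_ne_zero) |>.mp this
  obtain ⟨j, hj⟩ := hcol
  refine ⟨E.col j, hj, ?_⟩
  ext i
  have := congrFun (congrFun hME i) j
  simp only [Matrix.mul_apply, Matrix.smul_apply] at this
  simp only [Matrix.mulVec, dotProduct, Matrix.col_apply, Pi.smul_apply]
  exact this

theorem diagonalize (h2 : (2 : F) = 0) (ω : F) (hω : ω ^ 2 + ω + 1 = 0)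
    (M : Matrix (Fin 3) (Fin 3) F) (h3 : M * M * M = 1)
    (ht : tr3 M = 0) (hs : s3 M = 0) :
    ∃ H : Matrix (Fin 3) (Fin 3) F, H.det = 1 ∧ M * H = H * Matrix.diagonal ![1, ω, ω ^ 2] := by
  have h10 : (1 : F) ≠ 0 := one_ne_zero
  have hω3 : ω ^ 3 = 1 := by linear_combination (ω - 1) * hω
  have hω0 : ω ≠ 0 := by
    rintro rfl
    simp at hω
  have hω1 : ω ≠ 1 := by
    rintro rfl
    apply h10
    linear_combination hω - h2
  obtain ⟨μs, hμs⟩ : ∃ μs : Fin 3 → F, μs = ![1, ω, ω ^ 2] := ⟨_, rfl⟩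
  have hinj : Function.Injective μs := by
    have h01 : (1 : F) ≠ ω := fun h => hω1 h.symm
    have h02 : (1 : F) ≠ ω ^ 2 := by
      intro h
      apply hω0
      linear_combination hω + h - h2
    have h12 : ω ≠ ω ^ 2 := by
      intro h
      have : ω * (ω - 1) = 0 := by linear_combination -h
      rcases mul_eq_zero.mp this with h' | h'
      · exact hω0 h'
      · exact hω1 (sub_eq_zero.mp h')
    have e0 : μs 0 = 1 := by rw [hμs]; rfl
    have e1 : μs 1 = ω := by rw [hμs]; rfl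
    have e2 : μs 2 = ω ^ 2 := by rw [hμs]; rfl
    intro i j hij
    fin_cases i <;> fin_cases j <;> first | rfl | (exfalso; simp only [Fin.mk_zero, Fin.mk_one, Fin.reduceFinMk, Fin.isValue, e0, e1, e2] at hij; first | exact h01 hij | exact h02 hij | exact h12 hij | exact h01 hij.symm | exact h02 hij.symm | exact h12 hij.symm)
  have hcube : ∀ i, μs i ^ 3 = 1 := by
    intro i
    rw [hμs]
    fin_cases i
    · simp
    · simpa using hω3
    · simp only [Fin.reduceFinMk, Matrix.cons_val]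
      rw [← pow_mul, mul_comm, pow_mul, hω3, one_pow]
  choose v hv0 hv using fun i => exists_eigvec h2 M h3 ht hs (μs i) (hcube i)
  have hli : LinearIndependent F v := by
    apply Module.End.eigenvectors_linearIndependent' (Matrix.toLin' M) μs hinj v
    intro i
    refine ⟨?_, hv0 i⟩
    rw [Module.End.mem_eigenspace_iff, Matrix.toLin'_apply]
    exact hv i
  obtain ⟨H, hH⟩ : ∃ H : Matrix (Fin 3) (Fin 3) F, H = Matrix.of (fun i j => v j i) := ⟨_, rfl⟩
  have hcolH : H.col = v := by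
    ext j i
    rw [hH]; rfl
  have hunit : IsUnit H := by
    rw [← Matrix.linearIndependent_cols_iff_isUnit, hcolH]
    exact hli
  have hdet : H.det ≠ 0 := by
    have := (Matrix.isUnit_iff_isUnit_det H).mp hunit
    exact this.ne_zero
  have hMH : M * H = H * Matrix.diagonal μs := by
    ext i j
    rw [Matrix.mul_diagonal, Matrix.mul_apply]
    have := congrFun (hv j) i
    simp only [Matrix.mulVec, dotProduct, Pi.smul_apply, smul_eq_mul] at this
    rw [hH]
    simp only [Matrix.of_apply]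
    rw [this, mul_comm]
  refine ⟨H * Matrix.diagonal ![(H.det)⁻¹, 1, 1], ?_, ?_⟩
  · rw [Matrix.det_mul, Matrix.det_diagonal, Fin.prod_univ_three]
    simp [hdet]
  · rw [← Matrix.mul_assoc, hMH, Matrix.mul_assoc, Matrix.mul_assoc, hμs,
      Matrix.diagonal_mul_diagonal, Matrix.diagonal_mul_diagonal]
    congr 2
    ext i
    fin_cases i <;> simp [mul_comm]


end LinAlg

section Grp


/-- conjugate of a cyclic group -/
theorem conj_smul_zpowers {G : Type*} [Group G] (h a : G) :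
    MulAut.conj h • Subgroup.zpowers a = Subgroup.zpowers (h * a * h⁻¹) := by
  rw [Subgroup.pointwise_smul_def]
  have : (MulDistribMulAction.toMonoidEnd (MulAut G) G (MulAut.conj h)) = (MulAut.conj h).toMonoidHom := rfl
  rw [this, MonoidHom.map_zpowers]
  rfl

theorem exists_gen {G : Type*} [Group G] (X : Subgroup G) (hX : Nat.card X = 3) :
    ∃ x : G, x ≠ 1 ∧ x ^ 3 = 1 ∧ X = Subgroup.zpowers x := by
  haveI : Fact (Nat.Prime 3) := ⟨Nat.prime_three⟩
  haveI : Finite X := Nat.finite_of_card_ne_zero (by rw [hX]; norm_num)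
  have hnt : Nontrivial X := by
    rw [← Finite.one_lt_card_iff_nontrivial, hX]; norm_num
  obtain ⟨x, hx⟩ := exists_ne (1 : X)
  have htop := zpowers_eq_top_of_prime_card hX hx
  refine ⟨(x : G), fun h => hx (Subtype.ext h), ?_, ?_⟩
  · have : x ^ 3 = 1 := by rw [← hX]; exact pow_card_eq_one'
    have := congrArg (fun y : X => (y : G)) this
    simpa using this
  · have h1 : (Subgroup.zpowers x).map X.subtype = Subgroup.zpowers (x : G) := by
      rw [MonoidHom.map_zpowers]; rfl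
    rw [← h1, htop, ← MonoidHom.range_eq_map, Subgroup.range_subtype]


end Grp

section Main

variable (F : Type*) [Field F] [Fintype F]

theorem two_eq_zero (hF : Fintype.card F = 4) : (2 : F) = 0 := by
  have h4 : ((Fintype.card F : ℕ) : F) = 0 := Nat.cast_card_eq_zero F
  rw [hF] at h4
  have h : (2 : F) ^ 2 = 0 := by
    have : ((4 : ℕ) : F) = 2 ^ 2 := by norm_num
    rw [← this]; exact h4
  exact pow_eq_zero_iff (two_ne_zero) |>.mp h

theorem cube_eq_one (hF : Fintype.card F = 4) (α : F) (hα : α ≠ 0) : α ^ 3 = 1 := by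
  classical
  have hcard : Fintype.card Fˣ = 3 := by rw [Fintype.card_units, hF]
  have hu3 : (Units.mk0 α hα) ^ 3 = 1 := by rw [← hcard]; exact pow_card_eq_one
  have := congrArg (fun x : Fˣ => (x : F)) hu3
  simpa using this

theorem exists_omega (hF : Fintype.card F = 4) : ∃ ω : F, ω ≠ 1 ∧ ω ^ 2 + ω + 1 = 0 := by
  classical
  have hcard : Fintype.card Fˣ = 3 := by rw [Fintype.card_units, hF]
  have h1 : 1 < Fintype.card Fˣ := by rw [hcard]; norm_num
  obtain ⟨u, hu⟩ := Fintype.exists_ne_of_one_lt_card h1 (1 : Fˣ)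
  have h3 : (u : F) ^ 3 = 1 := cube_eq_one F hF u u.ne_zero
  refine ⟨(u : F), fun h => hu (Units.ext h), ?_⟩
  have hne : (u : F) - 1 ≠ 0 := fun h => hu (Units.ext (sub_eq_zero.mp h))
  have : ((u : F) - 1) * ((u : F) ^ 2 + u + 1) = 0 := by linear_combination h3
  exact (mul_eq_zero.mp this).resolve_left hne

variable {F}

/-- the standard diagonal element -/
def a0 (ω : F) (hω : ω ^ 2 + ω + 1 = 0) : Matrix.SpecialLinearGroup (Fin 3) F :=
  ⟨Matrix.diagonal ![1, ω, ω ^ 2], by
    rw [Matrix.det_diagonal, Fin.prod_univ_three]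
    simp only [Matrix.cons_val_zero, Matrix.cons_val_one, Matrix.cons_val]
    linear_combination (ω - 1) * hω⟩

theorem main_lemma (hF : Fintype.card F = 4) (ω : F) (hω : ω ^ 2 + ω + 1 = 0)
    (X : Subgroup (Matrix.ProjectiveSpecialLinearGroup (Fin 3) F)) (hX : Nat.card ↥X = 3) :
    ∃ g : Matrix.ProjectiveSpecialLinearGroup (Fin 3) F,
      MulAut.conj g • Subgroup.zpowers (QuotientGroup.mk (a0 ω hω) :
        Matrix.ProjectiveSpecialLinearGroup (Fin 3) F) = X := by
  have h2 := two_eq_zero F hF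
  obtain ⟨x, hx1, hx3, hXx⟩ := exists_gen X hX
  obtain ⟨g, rfl⟩ := QuotientGroup.mk_surjective x
  have hgc : g ∉ Subgroup.center (Matrix.SpecialLinearGroup (Fin 3) F) := by
    intro h
    exact hx1 ((QuotientGroup.eq_one_iff g).mpr h)
  have hg3 : g ^ 3 ∈ Subgroup.center (Matrix.SpecialLinearGroup (Fin 3) F) := by
    rw [← QuotientGroup.eq_one_iff, QuotientGroup.mk_pow]
    exact hx3
  obtain ⟨M, hM⟩ : ∃ M : Matrix (Fin 3) (Fin 3) F, M = (g : Matrix (Fin 3) (Fin 3) F) := ⟨_, rfl⟩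
  have hdet : M.det = 1 := by rw [hM]; exact g.2
  have hns : ∀ r : F, M ≠ r • 1 := by
    intro r hr
    apply hgc
    rw [Matrix.SpecialLinearGroup.mem_center_iff]
    refine ⟨r, ?_, ?_⟩
    · have : (r • (1 : Matrix (Fin 3) (Fin 3) F)).det = 1 := by rw [← hr]; exact hdet
      rw [Matrix.det_smul, Matrix.det_one, mul_one] at this
      simpa using this
    · rw [← hM, hr]
      ext i j
      simp [Matrix.one_apply, Matrix.diagonal_apply]
  obtain ⟨μ, hμ3, hμ⟩ := Matrix.SpecialLinearGroup.mem_center_iff.mp hg3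
  have hμ' : M * M * M = μ • 1 := by
    have : ((g ^ 3 : Matrix.SpecialLinearGroup (Fin 3) F) : Matrix (Fin 3) (Fin 3) F) = M * M * M := by
      rw [hM, pow_succ, pow_two]; rfl
    rw [← this, ← hμ]
    ext i j
    simp [Matrix.one_apply, Matrix.diagonal_apply]
  have hμ0 : μ ≠ 0 := by
    rintro rfl
    simp at hμ3
  have hμ1 := key1 h2 (cube_eq_one F hF) M hdet hns μ hμ' hμ0
  rw [hμ1, one_smul] at hμ'
  obtain ⟨ht, hs⟩ := key2 M hdet hns hμ'
  obtain ⟨H, hHdet, hMH⟩ := diagonalize h2 ω hω M hμ' ht hs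
  let h : Matrix.SpecialLinearGroup (Fin 3) F := ⟨H, hHdet⟩
  have hgh : g * h = h * a0 ω hω := by
    apply Subtype.ext
    show (g : Matrix (Fin 3) (Fin 3) F) * H = H * Matrix.diagonal ![1, ω, ω ^ 2]
    rw [← hM]; exact hMH
  have hg : g = h * a0 ω hω * h⁻¹ := by
    rw [← hgh]; group
  refine ⟨QuotientGroup.mk h, ?_⟩
  rw [conj_smul_zpowers, hXx, hg]
  rfl

end Main

/-- In the projective special linear group PSL(3, 4) all subgroups of order 3 are conjugate. -/
theorem result (F : Type*) [Field F] [Fintype F] (hF : Fintype.card F = 4) (X Y : Subgroup (Matrix.ProjectiveSpecialLinearGroup (Fin 3) F)) (hX : Nat.card ↥X = 3) (hY : Nat.card ↥Y = 3) : ∃ g : Matrix.ProjectiveSpecialLinearGroup (Fin 3) F, MulAut.conj g • X = Y := by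
  obtain ⟨ω, _, hω⟩ := exists_omega F hF
  obtain ⟨g, hg⟩ := main_lemma hF ω hω X hX
  obtain ⟨h, hh⟩ := main_lemma hF ω hω Y hY
  refine ⟨h * g⁻¹, ?_⟩
  rw [← hg, ← hh, smul_smul, ← map_mul, inv_mul_cancel_right]

end Cfsg.Agent.S2739
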