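import Cfsg.Statements.S2759
import Mathlib
import Cfsg.Agent.Lib.Helper46.Involves
import Cfsg.Agent.Lib.Helper46.Involves2
import Cfsg.Agent.Lib.Helper46.S4Facts
import Cfsg.Agent.Lib.Helper46.S4Section4
import Cfsg.Agent.Lib.Helper46.Omega

set_option autoImplicit false
open Cfsg

namespace Cfsg.Agent.S2759

open Cfsg.Agent.Helper46

/-- `S₄` involved in `G` gives a 2-subgroup `T` with `S₃` involved in `N_G(T)/C_G(T)` -/
theorem exists_of_involves_S4 {G : Type*} [Group G] [Finite G]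
    (h : Cfsg.Involves (Equiv.Perm (Fin 4)) G) :
    ∃ T : Subgroup G, IsPGroup 2 ↥T ∧ Cfsg.Involves (Equiv.Perm (Fin 3))
      (↥(Subgroup.normalizer (T : Set G)) ⧸
        (Subgroup.centralizer (T : Set G)).subgroupOf (Subgroup.normalizer (T : Set G))) := by
  classical
  have : Fact (Nat.Prime 2) := ⟨Nat.prime_two⟩
  obtain ⟨K, f, hf⟩ := exists_surjective_of_involves h
  -- the preimage of the four-group
  let B : Subgroup ↥K := (s4ψ.ker).comap f
  have hBn : B.Normal := Subgroup.Normal.comap inferInstance f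
  let T₀ : Sylow 2 ↥B := default
  let T₀' : Subgroup ↥K := (T₀ : Subgroup ↥B).map B.subtype
  let T : Subgroup G := T₀'.map K.subtype
  have hT : IsPGroup 2 ↥T := (T₀.isPGroup'.map B.subtype).map K.subtype
  have hfrat : Subgroup.normalizer ((T₀' : Subgroup ↥K) : Set ↥K) ⊔ B = ⊤ :=
    Sylow.normalizer_sup_eq_top T₀
  -- `f` maps `T₀'` onto the four-group
  have hfT : ∀ v : Equiv.Perm (Fin 4), s4ψ v = 1 → ∃ t ∈ T₀', f t = v := by
    intro v hv
    have hsurj : Function.Surjective (f.subgroupComap s4ψ.ker) :=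
      MonoidHom.subgroupComap_surjective_of_surjective f _ hf
    have hdvd : ((T₀ : Subgroup ↥B).map (f.subgroupComap s4ψ.ker)).index ∣ (T₀ : Subgroup ↥B).index :=
      Subgroup.index_map_dvd _ hsurj
    have hnd : ¬ 2 ∣ (T₀ : Subgroup ↥B).index := T₀.not_dvd_index
    obtain ⟨a, ha⟩ := IsPGroup.iff_card.mp s4ψ_ker_isPGroup
    have hdvd2 : ((T₀ : Subgroup ↥B).map (f.subgroupComap s4ψ.ker)).index ∣ 2 ^ a := by
      rw [← ha]
      exact Subgroup.index_dvd_card _
    obtain ⟨b, -, hb⟩ := (Nat.dvd_prime_pow Nat.prime_two).mp hdvd2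
    have hb0 : b = 0 := by
      by_contra hb0
      apply hnd
      refine dvd_trans ?_ hdvd
      rw [hb]
      exact dvd_pow_self 2 hb0
    rw [hb0, pow_zero] at hb
    have htop := Subgroup.index_eq_one.mp hb
    have hmem : (⟨v, MonoidHom.mem_ker.mpr hv⟩ : ↥(s4ψ.ker)) ∈
        (T₀ : Subgroup ↥B).map (f.subgroupComap s4ψ.ker) := by
      rw [htop]
      exact Subgroup.mem_top _
    obtain ⟨b', hb', hb'v⟩ := Subgroup.mem_map.mp hmem
    refine ⟨(b' : ↥K), Subgroup.mem_map.mpr ⟨b', hb', rfl⟩, ?_⟩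
    exact congrArg Subtype.val hb'v
  -- the map from `N_K(T₀')` to `N_G(T)/C_G(T)`
  have hN : ∀ n : ↥(Subgroup.normalizer ((T₀' : Subgroup ↥K) : Set ↥K)),
      (((n : ↥K) : G)) ∈ Subgroup.normalizer ((T : Subgroup G) : Set G) := by
    intro n
    apply Subgroup.mem_normalizer_fintype
    intro t' ht'
    obtain ⟨t, ht, rfl⟩ := Subgroup.mem_map.mp (SetLike.mem_coe.mp ht')
    refine SetLike.mem_coe.mpr (Subgroup.mem_map.mpr ⟨(n : ↥K) * t * (n : ↥K)⁻¹, ?_, by simp⟩)
    exact (Subgroup.mem_normalizer_iff.mp n.2 t).mp ht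
  let ι : ↥(Subgroup.normalizer ((T₀' : Subgroup ↥K) : Set ↥K)) →*
      ↥(Subgroup.normalizer ((T : Subgroup G) : Set G)) :=
    MonoidHom.codRestrict (K.subtype.comp (Subgroup.subtype _)) _ hN
  let g := (QuotientGroup.mk' ((Subgroup.centralizer ((T : Subgroup G) : Set G)).subgroupOf
    (Subgroup.normalizer ((T : Subgroup G) : Set G)))).comp ι
  let φ' : ↥(Subgroup.normalizer ((T₀' : Subgroup ↥K) : Set ↥K)) →* Equiv.Perm (Fin 3) :=
    (s4ψ.comp f).comp (Subgroup.subtype _)
  have hφ'surj : Function.Surjective φ' := by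
    intro s
    obtain ⟨σ, hσ⟩ := s4ψ_surjective s
    obtain ⟨k, hk⟩ := hf σ
    obtain ⟨n, hn, b, hb, hnb⟩ := exists_mul_of_sup_eq_top hfrat k
    refine ⟨⟨n, hn⟩, ?_⟩
    change s4ψ (f n) = s
    have hb' : s4ψ (f b) = 1 := hb
    rw [← hσ, ← hk, hnb, map_mul, map_mul, hb', mul_one]
  have hker : g.rangeRestrict.ker ≤ φ'.ker := by
    rw [MonoidHom.ker_rangeRestrict]
    intro n hn
    rw [MonoidHom.mem_ker] at hn ⊢
    have hn1 : ι n ∈ (Subgroup.centralizer ((T : Subgroup G) : Set G)).subgroupOf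
        (Subgroup.normalizer ((T : Subgroup G) : Set G)) := by
      have := hn
      change (QuotientGroup.mk (ι n) : _ ⧸ _) = 1 at this
      exact (QuotientGroup.eq_one_iff _).mp this
    have hn2 : (((n : ↥K) : G)) ∈ Subgroup.centralizer ((T : Subgroup G) : Set G) :=
      Subgroup.mem_subgroupOf.mp hn1
    change s4ψ (f n) = 1
    apply s4ψ_ker_cent
    intro v hv
    obtain ⟨t, ht, rfl⟩ := hfT v hv
    have hcomm : t * (n : ↥K) = (n : ↥K) * t := by
      apply Subtype.ext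
      have h1 := Subgroup.mem_centralizer_iff.mp hn2 ((t : ↥K) : G)
        (Subgroup.mem_map.mpr ⟨t, ht, rfl⟩)
      exact h1
    rw [← map_mul, ← map_mul, hcomm]
  let ψ' : ↥(g.range) →* Equiv.Perm (Fin 3) :=
    g.rangeRestrict.liftOfSurjective g.rangeRestrict_surjective ⟨φ', hker⟩
  have hψ' : ∀ n, ψ' (g.rangeRestrict n) = φ' n := fun n =>
    MonoidHom.liftOfRightInverse_comp_apply _ _ _ ⟨φ', hker⟩ n
  refine ⟨T, hT, involves_of_surjective g.range ψ' ?_⟩
  intro s
  obtain ⟨n, hn⟩ := hφ'surj s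
  exact ⟨g.rangeRestrict n, by rw [hψ', hn]⟩

/-- For a finite group G, the symmetric group of degree 4 is involved in G if and only if there is a 2-subgroup T of G such that the symmetric group of degree 3 is involved in N(T)/C(T). -/
theorem result {G : Type*} [Group G] [Finite G] : Cfsg.Involves (Equiv.Perm (Fin 4)) G ↔ ∃ T : Subgroup G, IsPGroup 2 ↥T ∧ Cfsg.Involves (Equiv.Perm (Fin 3)) (↥(Subgroup.normalizer (T : Set G)) ⧸ (Subgroup.centralizer (T : Set G)).subgroupOf (Subgroup.normalizer (T : Set G))) := by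
  constructor
  · exact exists_of_involves_S4
  · rintro ⟨T, hT, h⟩
    exact involves_S4_of_involves_S3 T hT h

end Cfsg.Agent.S2759
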