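import Cfsg.Statements.S2761
import Mathlib

set_option autoImplicit false
open Cfsg

namespace Cfsg.Agent.S2761

/-- The affine plane over the field with two elements. -/
abbrev W := ZMod 2 × ZMod 2

theorem lastRow : ∀ M ∈ Cfsg.qd 2,
    (M : Matrix (Fin 3) (Fin 3) (ZMod 2)) 2 0 = 0 ∧
    (M : Matrix (Fin 3) (Fin 3) (ZMod 2)) 2 1 = 0 ∧
    (M : Matrix (Fin 3) (Fin 3) (ZMod 2)) 2 2 = 1 := by
  intro M hM
  unfold Cfsg.qd at hM
  induction hM using Subgroup.closure_induction with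
  | mem x hx => exact hx
  | one => simp
  | mul x y _ _ hx hy =>
    obtain ⟨hx0, hx1, hx2⟩ := hx
    obtain ⟨hy0, hy1, hy2⟩ := hy
    simp only [Matrix.SpecialLinearGroup.coe_mul, Matrix.mul_apply, Fin.sum_univ_three]
    rw [hx0, hx1, hx2, hy0, hy1, hy2]
    simp
  | inv x _ hx =>
    obtain ⟨hx0, hx1, hx2⟩ := hx
    have h := mul_inv_cancel x
    have hc : ∀ j, ((x * x⁻¹ : Matrix.SpecialLinearGroup (Fin 3) (ZMod 2)) :
        Matrix (Fin 3) (Fin 3) (ZMod 2)) 2 j = (1 : Matrix (Fin 3) (Fin 3) (ZMod 2)) 2 j := by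
      intro j
      rw [h]
      simp
    simp only [Matrix.SpecialLinearGroup.coe_mul, Matrix.mul_apply, Fin.sum_univ_three, hx0, hx1,
      hx2, zero_mul, one_mul, zero_add] at hc
    refine ⟨?_, ?_, ?_⟩
    · rw [hc 0]; simp
    · rw [hc 1]; simp
    · rw [hc 2]; simp

/-- The affine action of a matrix with last row `(0,0,1)` on the plane. -/
def actFun (M : Matrix (Fin 3) (Fin 3) (ZMod 2)) (v : W) : W :=
  (M 0 0 * v.1 + M 0 1 * v.2 + M 0 2, M 1 0 * v.1 + M 1 1 * v.2 + M 1 2)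

theorem actFun_one (v : W) : actFun 1 v = v := by
  simp [actFun]

theorem actFun_mul (M N : Matrix (Fin 3) (Fin 3) (ZMod 2))
    (hN : N 2 0 = 0 ∧ N 2 1 = 0 ∧ N 2 2 = 1) (v : W) :
    actFun (M * N) v = actFun M (actFun N v) := by
  obtain ⟨h0, h1, h2⟩ := hN
  simp only [actFun, Matrix.mul_apply, Fin.sum_univ_three, h0, h1, h2]
  ext
  · simp only; ring
  · simp only; ring

instance : MulAction ↥(Cfsg.qd 2) W where
  smul g v := actFun ((g : Matrix.SpecialLinearGroup (Fin 3) (ZMod 2)) :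
    Matrix (Fin 3) (Fin 3) (ZMod 2)) v
  one_smul v := actFun_one v
  mul_smul g h v := actFun_mul _ _ (lastRow h h.2) v

theorem smul_def (g : ↥(Cfsg.qd 2)) (v : W) :
    g • v = actFun ((g : Matrix.SpecialLinearGroup (Fin 3) (ZMod 2)) :
      Matrix (Fin 3) (Fin 3) (ZMod 2)) v := rfl

/-- The matrix of the transposition of the plane swapping `a` and `b`. -/
def swapMat (a b : W) : Matrix (Fin 3) (Fin 3) (ZMod 2) :=
  !![1 + (a.1 + b.1) * (a.2 + b.2), (a.1 + b.1) * (a.1 + b.1),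
      (a.1 + b.1) * (1 + (a.2 + b.2) * a.1 + (a.1 + b.1) * a.2);
    (a.2 + b.2) * (a.2 + b.2), 1 + (a.2 + b.2) * (a.1 + b.1),
      (a.2 + b.2) * (1 + (a.2 + b.2) * a.1 + (a.1 + b.1) * a.2);
    0, 0, 1]

theorem swapMat_det (a b : W) : (swapMat a b).det = 1 := by
  rw [Matrix.det_fin_three]
  revert a b
  decide

theorem swapMat_act : ∀ a b : W, a ≠ b → ∀ v : W, actFun (swapMat a b) v = Equiv.swap a b v := by
  decide

theorem swapMat_lastRow (a b : W) :
    swapMat a b 2 0 = 0 ∧ swapMat a b 2 1 = 0 ∧ swapMat a b 2 2 = 1 := by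
  refine ⟨rfl, rfl, rfl⟩

theorem faithful (g : ↥(Cfsg.qd 2)) (h : ∀ v : W, g • v = v) : g = 1 := by
  obtain ⟨h0, h1, h2⟩ := lastRow g g.2
  have e00 := h (0, 0)
  have e10 := h (1, 0)
  have e01 := h (0, 1)
  simp only [smul_def, actFun, Prod.mk.injEq, mul_zero, mul_one, zero_add, add_zero] at e00 e10 e01
  obtain ⟨a02, a12⟩ := e00
  obtain ⟨a00, a10⟩ := e10
  obtain ⟨a01, a11⟩ := e01
  rw [a02, add_zero] at a00 a01
  rw [a12, add_zero] at a10 a11
  apply Subtype.ext
  apply Subtype.ext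
  ext i j
  fin_cases i <;> fin_cases j <;> simp [*]

theorem range_eq_top : (MulAction.toPermHom ↥(Cfsg.qd 2) W).range = ⊤ := by
  rw [eq_top_iff, ← Equiv.Perm.closure_isSwap, Subgroup.closure_le]
  rintro σ ⟨a, b, hab, rfl⟩
  have hmem : (⟨swapMat a b, swapMat_det a b⟩ : Matrix.SpecialLinearGroup (Fin 3) (ZMod 2)) ∈
      Cfsg.qd 2 := Subgroup.subset_closure (swapMat_lastRow a b)
  refine ⟨⟨_, hmem⟩, ?_⟩
  ext v : 1
  exact swapMat_act a b hab v

theorem injective_toPermHom : Function.Injective (MulAction.toPermHom ↥(Cfsg.qd 2) W) := by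
  rw [injective_iff_map_eq_one]
  intro g hg
  apply faithful
  intro v
  have := congrArg (fun σ : Equiv.Perm W => σ v) hg
  simpa using this

/-- The group Qd(2), the natural semidirect product of an elementary abelian group of order 4 by SL₂(2) (realised as the affine subgroup of SL₃(2)), is isomorphic to the symmetric group of degree 4. -/
theorem result : Nonempty (↥(Cfsg.qd 2) ≃* Equiv.Perm (Fin 4)) := by
  have e1 : ↥(Cfsg.qd 2) ≃* Equiv.Perm W :=
    MulEquiv.ofBijective (MulAction.toPermHom ↥(Cfsg.qd 2) W)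
      ⟨injective_toPermHom, MonoidHom.range_eq_top.mp range_eq_top⟩
  have hcard : Fintype.card W = 4 := by decide
  exact ⟨e1.trans (Equiv.permCongrHom (Fintype.equivFinOfCardEq hcard))⟩

end Cfsg.Agent.S2761
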