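import Cfsg.Statements.S2762
import Cfsg.Agent.Lib.Helper46.Qd

set_option autoImplicit false
open Cfsg

namespace Cfsg.Agent.S2762

open Cfsg.Agent.Helper46 in
theorem block_eq_one_iff {F : Type*} [Field F] (M : ↥(Cfsg.qdOver F)) :
    qdBlock M = 1 ↔ qent M 0 0 = 1 ∧ qent M 0 1 = 0 ∧ qent M 1 0 = 0 ∧ qent M 1 1 = 1 := by
  constructor
  · intro h
    have e : ∀ i j : Fin 2, qent M (Fin.castSucc i) (Fin.castSucc j) = (1 : Matrix (Fin 2) (Fin 2) F) i j := by
      intro i j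
      rw [← qdBlock_apply, h]
      rfl
    exact ⟨by simpa using e 0 0, by simpa using e 0 1, by simpa using e 1 0, by simpa using e 1 1⟩
  · rintro ⟨h00, h01, h10, h11⟩
    apply Subtype.ext
    ext i j
    rw [qdBlock_apply]
    fin_cases i <;> fin_cases j
    · simpa using h00
    · simpa using h01
    · simpa using h10
    · simpa using h11

/-- Structure of Qd over a finite field F of characteristic p (the affine subgroup of SL₃(F)): its largest normal p-subgroup is the group of translations (matrices with upper-left block the identity), the block-diagonal matrices form a complement isomorphic to SL₂(F), and the translation subgroup is a natural SL₂(F)-module for that complement. -/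
theorem result {F : Type*} [Field F] [Fintype F] {p : ℕ} [Fact p.Prime] [CharP F p] : (∀ M : ↥(Cfsg.qdOver F), M ∈ Cfsg.pCore p ↥(Cfsg.qdOver F) ↔ ((M : Matrix.SpecialLinearGroup (Fin 3) F) : Matrix (Fin 3) (Fin 3) F) 0 0 = 1 ∧ ((M : Matrix.SpecialLinearGroup (Fin 3) F) : Matrix (Fin 3) (Fin 3) F) 0 1 = 0 ∧ ((M : Matrix.SpecialLinearGroup (Fin 3) F) : Matrix (Fin 3) (Fin 3) F) 1 0 = 0 ∧ ((M : Matrix.SpecialLinearGroup (Fin 3) F) : Matrix (Fin 3) (Fin 3) F) 1 1 = 1) ∧ ∃ K : Subgroup ↥(Cfsg.qdOver F), (∀ M : ↥(Cfsg.qdOver F), M ∈ K ↔ ((M : Matrix.SpecialLinearGroup (Fin 3) F) : Matrix (Fin 3) (Fin 3) F) 0 2 = 0 ∧ ((M : Matrix.SpecialLinearGroup (Fin 3) F) : Matrix (Fin 3) (Fin 3) F) 1 2 = 0) ∧ K ⊓ Cfsg.pCore p ↥(Cfsg.qdOver F) = ⊥ ∧ K ⊔ Cfsg.pCore p ↥(Cfsg.qdOver F) = ⊤ ∧ Nonempty (↥K ≃* Matrix.SpecialLinearGroup (Fin 2) F) ∧ Cfsg.IsNaturalSL2Module F (Cfsg.pCore p ↥(Cfsg.qdOver F)) K := by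
  have hcore := Cfsg.Agent.Helper46.pCore_qdOver (F := F) (p := p)
  rw [hcore]
  refine ⟨?_, Cfsg.Agent.Helper46.qdK F, ?_, Cfsg.Agent.Helper46.qdK_inf_ker, Cfsg.Agent.Helper46.qdK_sup_ker,
    ⟨Cfsg.Agent.Helper46.qdKEquiv F⟩, Cfsg.Agent.Helper46.isNatural_qd⟩
  · intro M
    rw [MonoidHom.mem_ker, Cfsg.Agent.Helper46.qdπ_apply]
    exact block_eq_one_iff M
  · intro M
    exact Cfsg.Agent.Helper46.mem_qdK_iff'

end Cfsg.Agent.S2762
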