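import Cfsg.Statements.S2781
import Mathlib
import Cfsg.Agent.Lib.Helper46.OrbitProd2
import Cfsg.Agent.Lib.Helper47.PRes

set_option autoImplicit false
open Cfsg

namespace Cfsg.Agent.S2781

open scoped commutatorElement

/-- Let H act faithfully by conjugation on the elementary abelian p-subgroup V of a finite group, let O^p(H) be the subgroup of H generated by its elements of order prime to p, and T a Sylow p-subgroup of O^p(H). If V is generated by the H-conjugates of C_V(T) (V is the smallest H-invariant subgroup containing C_V(T)), then V = [V, O^p(H)]·C_V(O^p(H)). -/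
theorem result {G : Type*} [Group G] [Finite G] {p : ℕ} [Fact p.Prime] (V H : Subgroup G) (hV : Cfsg.IsElementaryAbelian p V) (hHV : H ≤ Subgroup.normalizer (V : Set G)) (hf : H ⊓ Subgroup.centralizer (V : Set G) = ⊥) (R : Subgroup G) (hR : R = (Cfsg.pResidual p ↥H).map H.subtype) (S : Sylow p ↥R) (T : Subgroup G) (hT : T = ((S : Subgroup ↥R).map R.subtype)) (hgen : ∀ W : Subgroup G, H ≤ Subgroup.normalizer (W : Set G) → (V ⊓ Subgroup.centralizer ((T : Subgroup G) : Set G)) ≤ W → V ≤ W) : ⁅V, R⁆ ⊔ (V ⊓ Subgroup.centralizer ((R : Subgroup G) : Set G)) = V := by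
  have hVc : ∀ a ∈ V, ∀ b ∈ V, a * b = b * a := by
    intro a ha b hb
    have := hV.1.is_comm.comm (⟨a, ha⟩ : ↥V) ⟨b, hb⟩
    exact congrArg Subtype.val this
  have hVp : ∀ a ∈ V, a ^ p = 1 := hV.2
  have hRH : R ≤ H := by rw [hR]; exact Subgroup.map_subtype_le _
  have hRV : R ≤ Subgroup.normalizer (V : Set G) := hRH.trans hHV
  have hTR : T ≤ R := by rw [hT]; exact Subgroup.map_subtype_le _
  -- R is normalized by H
  have hHR : ∀ h ∈ H, ∀ r ∈ R, h * r * h⁻¹ ∈ R := by
    intro h hh r hr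
    rw [hR] at hr ⊢
    obtain ⟨r', hr', rfl⟩ := hr
    have hn : (Cfsg.pResidual p ↥H).Normal := Cfsg.Agent.Helper47.pResidual_normal
    exact ⟨⟨h, hh⟩ * r' * ⟨h, hh⟩⁻¹, hn.conj_mem r' hr' ⟨h, hh⟩, rfl⟩
  have hHVc : ∀ h ∈ H, ∀ v ∈ V, h * v * h⁻¹ ∈ V := Subgroup.le_normalizer_iff.mp hHV
  have hcomm_le : ⁅V, R⁆ ≤ V := by
    rw [Subgroup.commutator_le]
    intro v hv r hr
    have : ⁅v, r⁆ = v * (r * v⁻¹ * r⁻¹) := by rw [commutatorElement_def]; group
    rw [this]
    exact V.mul_mem hv (hHVc r (hRH hr) _ (V.inv_mem hv))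
  set W₀ : Subgroup G := ⁅V, R⁆ ⊔ (V ⊓ Subgroup.centralizer ((R : Subgroup G) : Set G)) with hW₀
  have hW₀V : W₀ ≤ V := sup_le hcomm_le inf_le_left
  apply le_antisymm hW₀V
  apply hgen W₀
  · -- H normalizes W₀
    rw [Subgroup.le_normalizer_iff]
    intro h hh k hk
    have hmap : W₀.map (MulAut.conj h).toMonoidHom ≤ W₀ := by
      rw [hW₀, Subgroup.map_sup]
      apply sup_le_sup
      · rw [Subgroup.map_commutator]
        apply Subgroup.commutator_mono
        · rintro _ ⟨v, hv, rfl⟩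
          exact hHVc h hh v hv
        · rintro _ ⟨r, hr, rfl⟩
          exact hHR h hh r hr
      · rintro _ ⟨b, hb, rfl⟩
        obtain ⟨hbV, hbC⟩ := Subgroup.mem_inf.mp hb
        refine Subgroup.mem_inf.mpr ⟨hHVc h hh b hbV, ?_⟩
        rw [Subgroup.mem_centralizer_iff]
        intro r hr
        have hr' : h⁻¹ * r * h ∈ R := by
          have := hHR h⁻¹ (H.inv_mem hh) r hr
          rwa [inv_inv] at this
        have h1 := Subgroup.mem_centralizer_iff.mp hbC _ hr'
        change r * (h * b * h⁻¹) = (h * b * h⁻¹) * r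
        calc r * (h * b * h⁻¹) = h * ((h⁻¹ * r * h) * b) * h⁻¹ := by group
          _ = h * (b * (h⁻¹ * r * h)) * h⁻¹ := by rw [h1]
          _ = (h * b * h⁻¹) * r := by group
    exact hmap ⟨k, hk, rfl⟩
  · -- C_V(T) ≤ W₀
    intro v hv
    obtain ⟨hvV, hvC⟩ := Subgroup.mem_inf.mp hv
    obtain ⟨N, hNV, w, hwV, m, hm, hNR, hNeq, hw⟩ :=
      Cfsg.Agent.Helper46.exists_orbProd_decomp V R T hVc hRV hTR hvV
        (fun s hs => Subgroup.mem_centralizer_iff.mp hvC s hs)
    -- m coprime to p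
    have hidx : T.relIndex R = (S : Subgroup ↥R).index := by
      rw [Subgroup.relIndex, hT]
      congr 1
      exact Subgroup.comap_map_eq_self_of_injective (Subgroup.subtype_injective R) _
    have hmp : m.Coprime p := by
      rw [Nat.coprime_comm, Nat.Prime.coprime_iff_not_dvd Fact.out]
      intro h
      exact S.not_dvd_index (hidx ▸ h.trans hm)
    have hwW : w ∈ ⁅V, R⁆ := by
      apply hw
      intro x hx
      have : v⁻¹ * (x * v * x⁻¹) = ⁅v⁻¹, x⁆ := by rw [commutatorElement_def]; group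
      rw [this]
      exact Subgroup.commutator_mem_commutator (V.inv_mem hvV) hx
    have hNW : N ∈ V ⊓ Subgroup.centralizer ((R : Subgroup G) : Set G) :=
      Subgroup.mem_inf.mpr ⟨hNV, Subgroup.mem_centralizer_iff.mpr hNR⟩
    have hvm : v ^ m ∈ W₀ := by
      have : v ^ m = N * w⁻¹ := by rw [hNeq, mul_inv_cancel_right]
      rw [this]
      exact W₀.mul_mem (Subgroup.mem_sup_right hNW) (W₀.inv_mem (Subgroup.mem_sup_left hwW))
    have hco : m.Coprime (orderOf v) :=
      Nat.Coprime.coprime_dvd_right (orderOf_dvd_of_pow_eq_one (hVp v hvV)) hmp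
    obtain ⟨j, hj⟩ := exists_pow_eq_self_of_coprime hco
    rw [← hj]
    exact W₀.pow_mem hvm j

end Cfsg.Agent.S2781
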