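import Cfsg.Statements.S2788
import Cfsg.Agent.Lib.Helper98.ModBound
import Cfsg.Agent.Lib.Helper98.ModBoundSL2

set_option autoImplicit false
open Cfsg

namespace Cfsg.Agent.S2788

open Cfsg.Agent.Helper98

/-- Let H act faithfully by conjugation on the elementary abelian p-subgroup V of a finite group with H ≅ SL₂(F), F a field with p^n elements, S a Sylow p-subgroup of H, and A ≤ S a subgroup of order at least 3 acting quadratically on V ([V, A, A] = 1). Then |V/C_V(a)| ≥ p^n for every nonidentity a ∈ A. -/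
theorem result {G : Type*} [Group G] [Finite G] {p : ℕ} [Fact p.Prime] (V H : Subgroup G) (hV : Cfsg.IsElementaryAbelian p V) (hHV : H ≤ Subgroup.normalizer (V : Set G)) (hf : H ⊓ Subgroup.centralizer (V : Set G) = ⊥) {F : Type*} [Field F] [Fintype F] (n : ℕ) (hF : Fintype.card F = p ^ n) (hiso : Nonempty (↥H ≃* Matrix.SpecialLinearGroup (Fin 2) F)) (S : Sylow p ↥H) (T : Subgroup G) (hT : T = ((S : Subgroup ↥H).map H.subtype)) (A : Subgroup G) (hA : A ≤ T) (hA3 : 3 ≤ Nat.card A) (hquad : ⁅⁅V, A⁆, A⁆ = ⊥) : ∀ a ∈ A, a ≠ 1 → p ^ n ≤ ((V ⊓ Subgroup.centralizer ({a} : Set G))).relIndex V := by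
  intro a haA ha1
  classical
  have hp : p.Prime := Fact.out
  have hVp : IsPGroup p V := by
    intro x
    refine ⟨1, ?_⟩
    apply Subtype.ext
    rw [pow_one, Subgroup.coe_pow, Subgroup.coe_one]
    exact hV.2 x.1 x.2
  have haT : a ∈ T := hA haA
  rw [hT] at haT
  obtain ⟨s, hsS, rfl⟩ := Subgroup.mem_map.mp haT
  obtain ⟨k, hk⟩ := S.isPGroup' ⟨s, hsS⟩
  have hsk : s ^ (p ^ k) = 1 := by
    have := congrArg Subtype.val hk
    simpa using this
  have hs1 : s ≠ 1 := by
    rintro rfl
    exact ha1 (map_one _)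
  have hfaith : ∀ h : H, h ≠ 1 → (h : G) ∉ Subgroup.centralizer (V : Set G) := by
    intro h hh hc
    apply hh
    have hm : (h : G) ∈ H ⊓ Subgroup.centralizer (V : Set G) := Subgroup.mem_inf.mpr ⟨h.2, hc⟩
    rw [hf] at hm
    exact Subtype.ext (Subgroup.mem_bot.mp hm)
  have hHN : ∀ h : H, (h : G) ∈ Subgroup.normalizer (V : Set G) := fun h => hHV h.2
  change p ^ n ≤ ((V ⊓ Subgroup.centralizer ({(s : G)} : Set G))).relIndex V
  by_cases hn : n ≤ 1
  · have h1 := ModBound.le_relIndex_of_not_centralizer V hVp (s : G) (hfaith s hs1)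
    rcases Nat.le_one_iff_eq_zero_or_eq_one.mp hn with h0 | h0
    · rw [h0, pow_zero]
      exact ModBound.relIndex_pos _ _
    · rw [h0, pow_one]
      exact h1
  · obtain ⟨e⟩ := hiso
    haveI : CharP F p := charP_of_card_eq_prime_pow hF
    obtain ⟨r, j, C0, hr, hrp, hr2, hC0, hprim⟩ := ModBoundSL2.exists_data (F := F) p n hF (by omega)
    have hodd : Odd (orderOf C0) := by
      rw [hC0]
      exact (hr.odd_of_ne_two hr2).pow
    have hcop : (orderOf C0).Coprime p := by
      rw [hC0]
      exact Nat.Coprime.pow_left _ ((Nat.coprime_primes hr hp).mpr hrp)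
    have h1 : orderOf C0 ≠ 1 := by
      rw [hC0]
      exact (Nat.one_lt_pow (by omega) hr.one_lt).ne'
    obtain ⟨g0, hg0⟩ := ModBoundSL2.exists_conj_order p (e s) k
      (by rw [← map_pow, hsk, map_one])
      (by
        intro h
        apply hs1
        exact e.injective (h.trans (map_one e).symm)) C0 hodd hcop h1
    set g : H := e.symm g0 with hg
    have hord : orderOf ((s * (g * s * g⁻¹)) ^ 2) = r ^ (j + 1) := by
      rw [← hC0, ← hg0, ← MulEquiv.orderOf_eq e]
      congr 1
      simp [hg]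
    have hordG : orderOf (((s : G) * ((g : G) * (s : G) * (g : G)⁻¹)) ^ 2) = r ^ (j + 1) := by
      rw [← hord, ← Subgroup.orderOf_coe]
      simp
    have hnc : (((s : G) * ((g : G) * (s : G) * (g : G)⁻¹)) ^ 2) ^ (r ^ j) ∉
        Subgroup.centralizer (V : Set G) := by
      have hne : ((s * (g * s * g⁻¹)) ^ 2) ^ (r ^ j) ≠ 1 := by
        intro h
        have hd := orderOf_dvd_of_pow_eq_one h
        rw [hord] at hd
        have hle := Nat.le_of_dvd (pow_pos hr.pos _) hd
        have hlt : r ^ j < r ^ (j + 1) := Nat.pow_lt_pow_right hr.one_lt (by omega)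
        omega
      have := hfaith _ hne
      simpa using this
    exact (ModBound.core_bound V hVp n r j hr hrp hprim (s : G) (g : G) (hHN s) (hHN g) 2
      hordG hnc).1

end Cfsg.Agent.S2788
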