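import Cfsg.Statements.S2792
import Cfsg.Agent.Lib.Helper57.YoshidaF
import Cfsg.Agent.Lib.Helper47.Frat
-- import your own Cfsg.Agent.* helpers here

set_option autoImplicit false
open Cfsg

namespace Cfsg.Agent.S2792
open Cfsg.Agent.Helper57.Yoshida

/-- Let S be a Sylow p-subgroup of the finite group G and W a subgroup of S weakly closed in S with respect to G. If S ∩ G' ≠ S ∩ (N_G(W))', then there are x ∈ S, z ∈ W and a maximal subgroup W₀ of W such that the iterated commutator [x, z; p−1] (with [x, z] = x⁻¹z⁻¹xz and [x, z; i+1] = [[x, z; i], z]) lies in W₀ but not in the Frattini subgroup of W₀; in particular [x, z; p−1] ≠ 1. -/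
theorem result {G : Type*} [Group G] [Finite G] {p : ℕ} [Fact p.Prime] (S : Sylow p G) (W : Subgroup G) (hW : Cfsg.IsWeaklyClosed W (S : Subgroup G)) (h : (S : Subgroup G) ⊓ commutator G ≠ (S : Subgroup G) ⊓ ⁅Subgroup.normalizer (W : Set G), Subgroup.normalizer (W : Set G)⁆) : ∃ x ∈ (S : Subgroup G), ∃ z ∈ W, ∃ W₀ : Subgroup ↥W, IsCoatom W₀ ∧ (fun y : G => y⁻¹ * z⁻¹ * y * z)^[p - 1] x ∈ W₀.map W.subtype ∧ (fun y : G => y⁻¹ * z⁻¹ * y * z)^[p - 1] x ∉ ((frattini ↥W₀).map W₀.subtype).map W.subtype := by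
  classical
  by_contra hcon
  push_neg at hcon
  apply h
  apply le_antisymm
  · apply focal_le_of_noSing S W hW
    intro A _ x hx z hz Y₁ hY₁Y hxY₁ hzY₁ hrel hnorm hcos ν hνp hmemu
    obtain ⟨hWS, hWwc⟩ := hW
    -- W is normalized by S
    have hSnorm : ∀ s ∈ (S : Subgroup G), ∀ w ∈ W, s⁻¹ * w * s ∈ W := by
      intro s hs w hw
      have h1 : W.map (MulAut.conj s⁻¹).toMonoidHom = W := by
        apply hWwc
        rintro _ ⟨q, hq, rfl⟩
        show s⁻¹ * q * s⁻¹⁻¹ ∈ (S : Subgroup G)
        rw [inv_inv]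
        exact (S : Subgroup G).mul_mem ((S : Subgroup G).mul_mem ((S : Subgroup G).inv_mem hs)
          (hWS hq)) hs
      rw [← h1]
      exact ⟨w, hw, by simp [MulAut.conj_apply]⟩
    have hWY : W ≤ W ⊔ Subgroup.zpowers x := le_sup_left
    -- the iterated commutator lies in W
    have hp1 : p - 1 = (p - 2) + 1 := by
      have := (Fact.out : p.Prime).two_le
      omega
    have hu1 : iterComm x z 1 ∈ W := by
      rw [iterComm_succ, iterComm_zero]
      have : x⁻¹ * z⁻¹ * x * z = (x⁻¹ * z⁻¹ * x) * z := by group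
      rw [this]
      exact W.mul_mem (hSnorm x hx _ (W.inv_mem hz)) hz
    have huW : iterComm x z (p - 1) ∈ W := by
      have key : ∀ k, iterComm x z (k + 1) ∈ W := by
        intro k
        induction k with
        | zero => exact hu1
        | succ k ih =>
          rw [iterComm_succ]
          exact W.mul_mem (W.mul_mem (W.mul_mem (W.inv_mem ih) (W.inv_mem hz)) ih) hz
      rw [hp1]
      exact key _
    set W₀ : Subgroup W := Y₁.subgroupOf W with hW₀
    have hcoatom : IsCoatom W₀ := by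
      constructor
      · intro htop
        apply hzY₁
        have : (⟨z, hz⟩ : W) ∈ W₀ := by rw [htop]; exact Subgroup.mem_top _
        exact Subgroup.mem_subgroupOf.mp this
      · intro K hK
        obtain ⟨k, hkK, hkW₀⟩ := SetLike.exists_of_lt hK
        rw [eq_top_iff]
        intro q _
        have hkY₁ : (k : G) ∉ Y₁ := fun hk => hkW₀ (Subgroup.mem_subgroupOf.mpr hk)
        obtain ⟨i, -, hi⟩ := hcos (k : G) (hWY k.2) hkY₁ (q : G) (hWY q.2)
        have h1 : (k ^ i)⁻¹ * q ∈ W₀ := by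
          rw [hW₀, Subgroup.mem_subgroupOf]
          exact hi
        have h2 : q = k ^ i * ((k ^ i)⁻¹ * q) := by group
        rw [h2]
        exact K.mul_mem (K.pow_mem hkK i) (hK.le h1)
    have hmem : (fun y : G => y⁻¹ * z⁻¹ * y * z)^[p - 1] x ∈ W₀.map W.subtype :=
      ⟨⟨iterComm x z (p - 1), huW⟩, Subgroup.mem_subgroupOf.mpr hmemu, rfl⟩
    obtain ⟨f₁, hf₁, hf₁u⟩ := hcon x hx z hz W₀ hcoatom hmem
    obtain ⟨f, hf, rfl⟩ := hf₁
    let θ : W₀ →* A := ν.comp
      { toFun := fun w₀ => ⟨((w₀ : W) : G), Subgroup.mem_subgroupOf.mp w₀.2⟩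
        map_one' := rfl
        map_mul' := fun _ _ => rfl }
    have hker := Cfsg.Agent.Helper47.frattini_le_ker_of_elementary (p := p) θ
      (fun a b => mul_comm _ _) (fun a => hνp _)
    have h1 : θ f = 1 := MonoidHom.mem_ker.mp (hker hf)
    rw [← h1]
    show ν _ = ν _
    congr 1
    apply Subtype.ext
    exact hf₁u.symm
  · apply inf_le_inf_left
    rw [commutator_def]
    exact Subgroup.commutator_mono le_top le_top

end Cfsg.Agent.S2792
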