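import Cfsg.Statements.S2804
import Mathlib
import Cfsg.Agent.Lib.Helper46.Coprime

set_option autoImplicit false
open Cfsg

namespace Cfsg.Agent.S2804

open Cfsg.Agent.Helper46
open scoped commutatorElement

variable {L : Type*} [Group L] {p : ℕ}

/-- For `K` subnormal, `V` an abelian normal `p`-subgroup and `x ∈ K` a `p'`-element,
`[V, x] ⊆ K`. -/
theorem commutator_mem_subnormal [Finite L] [Fact p.Prime] {V : Subgroup L} (hVn : V.Normal)
    (hVc : ∀ a ∈ V, ∀ b ∈ V, a * b = b * a) (hVp : ∀ u ∈ V, ∃ j : ℕ, u ^ p ^ j = 1)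
    {K : Subgroup L} (hK : K.IsSubnormal) :
    ∀ x ∈ K, (orderOf x).Coprime p → ∀ v ∈ V, ⁅v, x⁆ ∈ K := by
  induction hK with
  | top => intro x _ _ v _; exact Subgroup.mem_top _
  | step H K hle hKsub hN ih =>
    intro x hx hco v hv
    have hKN : K ≤ Subgroup.normalizer (H : Set L) :=
      (Subgroup.normal_subgroupOf_iff_le_normalizer hle).mp hN
    apply commutator_mem_of_coprime hVc (fun u hu => hVn.conj_mem u hu x) hv _ hco
      (orderOf_pos x).ne' hVp
    intro i
    have hwK : ⁅v, x⁆ ∈ K := ih x (hle hx) hco v hv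
    have hxi : x ^ i ∈ H := H.pow_mem hx i
    have h1 : ⁅v, x⁆ * x ^ i * ⁅v, x⁆⁻¹ ∈ H :=
      (Subgroup.mem_normalizer_iff.mp (hKN hwK) (x ^ i)).mp hxi
    rw [commutatorElement_def ⁅v, x⁆ (x ^ i)]
    exact H.mul_mem h1 (H.inv_mem hxi)

/-- The set of `r ∈ K` with `[V, r] ⊆ K` is a subgroup. -/
def commSub (V K : Subgroup L) : Subgroup L where
  carrier := {r | r ∈ K ∧ ∀ v ∈ V, ⁅v, r⁆ ∈ K}
  one_mem' := ⟨K.one_mem, fun v _ => by simp [commutatorElement_def]⟩
  mul_mem' := by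
    rintro r s ⟨hr, hr'⟩ ⟨hs, hs'⟩
    refine ⟨K.mul_mem hr hs, fun v hv => ?_⟩
    have : ⁅v, r * s⁆ = ⁅v, r⁆ * (r * ⁅v, s⁆ * r⁻¹) := by
      simp only [commutatorElement_def]; group
    rw [this]
    exact K.mul_mem (hr' v hv) (K.mul_mem (K.mul_mem hr (hs' v hv)) (K.inv_mem hr))
  inv_mem' := by
    rintro r ⟨hr, hr'⟩
    refine ⟨K.inv_mem hr, fun v hv => ?_⟩
    have : ⁅v, r⁻¹⁆ = r⁻¹ * ⁅v, r⁆⁻¹ * r := by
      simp only [commutatorElement_def]; group
    rw [this]
    exact K.mul_mem (K.mul_mem (K.inv_mem hr) (K.inv_mem (hr' v hv))) hr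

theorem conj_mem_pResidual_map {K : Subgroup L} {k : L} (hk : k ∈ K) :
    ∀ r ∈ (pResidual p ↥K).map K.subtype, k * r * k⁻¹ ∈ (pResidual p ↥K).map K.subtype := by
  rintro r ⟨r0, hr0, rfl⟩
  refine ⟨⟨k, hk⟩ * r0 * ⟨k, hk⟩⁻¹, ?_, rfl⟩
  unfold pResidual at hr0 ⊢
  induction hr0 using Subgroup.closure_induction with
  | mem z hz =>
    apply Subgroup.subset_closure
    have := (MulAut.conj (⟨k, hk⟩ : K)).orderOf_eq z
    rw [MulAut.conj_apply] at this
    show Nat.Coprime (orderOf (⟨k, hk⟩ * z * ⟨k, hk⟩⁻¹)) p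
    rw [this]; exact hz
  | one => simp
  | mul a b _ _ iha ihb =>
    have : (⟨k, hk⟩ : K) * (a * b) * ⟨k, hk⟩⁻¹ =
        (⟨k, hk⟩ * a * ⟨k, hk⟩⁻¹) * (⟨k, hk⟩ * b * ⟨k, hk⟩⁻¹) := by group
    rw [this]; exact Subgroup.mul_mem _ iha ihb
  | inv a _ iha =>
    have : (⟨k, hk⟩ : K) * a⁻¹ * ⟨k, hk⟩⁻¹ = (⟨k, hk⟩ * a * ⟨k, hk⟩⁻¹)⁻¹ := by group
    rw [this]; exact Subgroup.inv_mem _ iha

theorem mem_pResidual_map_of_coprime {K : Subgroup L} {y : L} (hy : y ∈ K)
    (hco : (orderOf y).Coprime p) : y ∈ (pResidual p ↥K).map K.subtype := by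
  refine ⟨⟨y, hy⟩, Subgroup.subset_closure ?_, rfl⟩
  show Nat.Coprime (orderOf (⟨y, hy⟩ : K)) p
  rwa [Subgroup.orderOf_mk]

/-- Let L be a finite group and p a prime with C_L(O_p(L)) ≤ O_p(L), V a p-reduced normal subgroup of L and K a subnormal subgroup of L. Then [V, O^p(K)] is contained in K and is a p-reduced normal subgroup of K, where O^p(K) is the subgroup of K generated by its elements of order prime to p. -/
theorem result {L : Type*} [Group L] [Finite L] {p : ℕ} [Fact p.Prime] (hchar : Subgroup.centralizer (Cfsg.pCore p L : Set L) ≤ Cfsg.pCore p L) (V : Subgroup L) (hV : Cfsg.IsPReducedNormal p V) (K : Subgroup L) (hK : K.IsSubnormal) : ⁅V, (Cfsg.pResidual p ↥K).map K.subtype⁆ ≤ K ∧ Cfsg.IsPReducedNormal p ((⁅V, (Cfsg.pResidual p ↥K).map K.subtype⁆).subgroupOf K) := by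
  obtain ⟨hVn, hVe, hCn, hVO⟩ := hV
  have hVc : ∀ a ∈ V, ∀ b ∈ V, a * b = b * a := by
    intro a ha b hb
    have := Subgroup.le_centralizer_iff_isMulCommutative.mpr hVe.1
    exact Subgroup.mem_centralizer_iff.mp (this hb) a ha
  have hVp : ∀ u ∈ V, ∃ j : ℕ, u ^ p ^ j = 1 := fun u hu => ⟨1, by rw [pow_one]; exact hVe.2 u hu⟩
  set R := (pResidual p ↥K).map K.subtype with hR
  set W := ⁅V, R⁆ with hW
  have hRK : R ≤ K := Subgroup.map_subtype_le _
  -- Claim 1
  have hRA : R ≤ commSub V K := by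
    rw [hR, pResidual, MonoidHom.map_closure, Subgroup.closure_le]
    rintro _ ⟨z, hz, rfl⟩
    refine ⟨z.2, fun v hv => ?_⟩
    apply commutator_mem_subnormal hVn hVc hVp hK _ z.2 _ v hv
    have hz' : Nat.Coprime (orderOf z) p := hz
    rwa [← Subgroup.orderOf_coe] at hz'
  have hWK : W ≤ K := by
    rw [hW, Subgroup.commutator_le]
    intro v hv r hr
    exact (hRA hr).2 v hv
  have hWV : W ≤ V := Subgroup.commutator_le_left V R
  refine ⟨hWK, ?_⟩
  -- Claim 2
  set Xs : Subgroup ↥K := W.subgroupOf K with hXs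
  have hconjW : ∀ k ∈ K, ∀ w ∈ W, k * w * k⁻¹ ∈ W := by
    intro k hk w hw
    have h1 : W.map (MulAut.conj k).toMonoidHom ≤ W := by
      rw [hW, Subgroup.map_commutator]
      apply Subgroup.commutator_mono
      · rintro _ ⟨v, hv, rfl⟩
        exact hVn.conj_mem v hv k
      · rintro _ ⟨r, hr, rfl⟩
        exact conj_mem_pResidual_map hk r hr
    exact h1 ⟨w, hw, rfl⟩
  have hXn : Xs.Normal := ⟨fun x hx k => hconjW k k.2 x hx⟩
  have hXe : IsElementaryAbelian p Xs := by
    refine ⟨?_, ?_⟩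
    · rw [← Subgroup.le_centralizer_iff_isMulCommutative]
      intro a ha
      rw [Subgroup.mem_centralizer_iff]
      intro b hb
      apply Subtype.ext
      exact hVc _ (hWV hb) _ (hWV ha)
    · intro a ha
      apply Subtype.ext
      have := hVe.2 _ (hWV ha)
      simpa using this
  have hXc : (Subgroup.centralizer (Xs : Set K)).Normal := Subgroup.normal_centralizer
  refine ⟨hXn, hXe, hXc, ?_⟩
  apply pCore_quotient_eq_bot_of
  intro D hD hpow
  set D' := D.map K.subtype with hD'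
  have hD'K : D' ≤ K := Subgroup.map_subtype_le _
  -- p'-elements of D' centralize V
  have hcentW : ∀ d : K, d ∈ Subgroup.centralizer (Xs : Set K) →
      (d : L) ∈ Subgroup.centralizer (W : Set L) := by
    intro d hd
    rw [Subgroup.mem_centralizer_iff]
    intro w hw
    have := Subgroup.mem_centralizer_iff.mp hd ⟨w, hWK hw⟩ hw
    exact congrArg Subtype.val this
  have hstep1 : ∀ y ∈ D', (orderOf y).Coprime p → y ∈ Subgroup.centralizer (V : Set L) := by
    rintro y ⟨y0, hy0, rfl⟩ hco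
    have hco0 : (orderOf y0).Coprime p := by rwa [← Subgroup.orderOf_coe]
    obtain ⟨k, hk⟩ := hpow y0 hy0
    have hy0c : y0 ∈ Subgroup.centralizer (Xs : Set K) := by
      obtain ⟨n, hn⟩ := exists_pow_eq_self_of_coprime (x := y0) (n := p ^ k)
        ((Nat.Coprime.pow_right k hco0).symm)
      rw [← hn]
      exact Subgroup.pow_mem _ hk n
    have hyW := hcentW y0 hy0c
    have hyR : (y0 : L) ∈ R := mem_pResidual_map_of_coprime y0.2 hco
    rw [Subgroup.mem_centralizer_iff]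
    intro v hv
    -- c := [v⁻¹, y]⁻¹ ...
    set y := (y0 : L) with hy
    set c := v⁻¹ * (y * v * y⁻¹) with hc
    have hcW : c ∈ W := by
      have h1 : ⁅v⁻¹, y⁆ ∈ W := Subgroup.commutator_mem_commutator (V.inv_mem hv) hyR
      have h2 : c = ⁅v⁻¹, y⁆ := by rw [hc, commutatorElement_def]; group
      rw [h2]; exact h1
    have hyc : y * c = c * y := (Subgroup.mem_centralizer_iff.mp hyW c hcW).symm
    have hconj : y * v * y⁻¹ = v * c := by rw [hc]; group
    have h3 := pow_eq_one_of_conj_eq_mul hconj hyc (pow_orderOf_eq_one y)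
    obtain ⟨j, hj⟩ := hVp c (hWV hcW)
    have hc1 : c = 1 := eq_one_of_pow_eq_one_of_coprime h3 hj hco
    rw [hc1, mul_one] at hconj
    calc v * y = (y * v * y⁻¹) * y := by rw [hconj]
      _ = y * v := by group
  -- D' is a p-group modulo C_L(V)
  have hstep2 : ∀ d ∈ D', ∃ k : ℕ, d ^ p ^ k ∈ Subgroup.centralizer (V : Set L) := by
    intro d hd
    have hpos : orderOf d ≠ 0 := (orderOf_pos d).ne'
    obtain ⟨k, m, hm, hkm⟩ :=
      Nat.exists_eq_pow_mul_and_not_dvd hpos p (Fact.out : p.Prime).ne_one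
    refine ⟨k, hstep1 _ (D'.pow_mem hd _) ?_⟩
    have hord : orderOf (d ^ p ^ k) = m := by
      rw [orderOf_pow' d (pow_ne_zero k (Fact.out : p.Prime).ne_zero), hkm,
        Nat.gcd_eq_right (Dvd.intro _ rfl)]
      exact Nat.mul_div_cancel_left m (pow_pos (Fact.out : p.Prime).pos k)
    rw [hord]
    exact ((Fact.out : p.Prime).coprime_iff_not_dvd.mpr hm).symm
  -- D' subnormal in L
  have hD'sub : D'.IsSubnormal := by
    apply Subgroup.IsSubnormal.trans hD'K _ hK
    have : D'.subgroupOf K = D := by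
      rw [hD', ← Subgroup.comap_subtype]
      exact Subgroup.comap_map_eq_self_of_injective K.subtype_injective D
    rw [this]
    exact hD.isSubnormal
  have hDbar : D'.map (QuotientGroup.mk' (Subgroup.centralizer (V : Set L))) ≤
      pCore p (L ⧸ Subgroup.centralizer (V : Set L)) := by
    apply subnormal_le_pCore (hD'sub.map (QuotientGroup.mk'_surjective _))
    rw [isPGroup_subgroup_iff]
    rintro _ ⟨d, hd, rfl⟩
    obtain ⟨k, hk⟩ := hstep2 d hd
    refine ⟨k, ?_⟩
    rw [QuotientGroup.mk'_apply, ← QuotientGroup.mk_pow]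
    exact (QuotientGroup.eq_one_iff _).mpr hk
  rw [hVO] at hDbar
  have hD'C : D' ≤ Subgroup.centralizer (V : Set L) := by
    intro d hd
    have : QuotientGroup.mk' (Subgroup.centralizer (V : Set L)) d ∈
        (⊥ : Subgroup (L ⧸ Subgroup.centralizer (V : Set L))) := hDbar ⟨d, hd, rfl⟩
    rw [Subgroup.mem_bot, QuotientGroup.mk'_apply] at this
    exact (QuotientGroup.eq_one_iff _).mp this
  intro d hd
  rw [Subgroup.mem_centralizer_iff]
  intro x hx
  apply Subtype.ext
  have h1 : (d : L) ∈ Subgroup.centralizer (V : Set L) := hD'C ⟨d, hd, rfl⟩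
  exact Subgroup.mem_centralizer_iff.mp h1 _ (hWV hx)

end Cfsg.Agent.S2804
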