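import Cfsg.Statements.S2807
import Cfsg.Agent.Lib.Helper57.YoshidaF
import Cfsg.Agent.Lib.Helper57.YoshidaH
import Cfsg.Agent.Lib.Helper47.Frat
-- import your own Cfsg.Agent.* helpers here

set_option autoImplicit false
open Cfsg

namespace Cfsg.Agent.S2807
open Cfsg.Agent.Helper57.Yoshida

theorem coe_iterComm {G : Type*} [Group G] (H : Subgroup G) (a b : H) (k : ℕ) :
    ((iterComm a b k : H) : G) = iterComm (a : G) (b : G) k := by
  induction k with
  | zero => rfl
  | succ k ih =>
    rw [iterComm_succ, iterComm_succ, ← ih]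
    rfl

/-- Let S be a Sylow p-subgroup of the finite group G. If S ∩ G' ≠ S ∩ (N_G(S))' (derived subgroups), then the wreath product Z_p ≀ Z_p — realised as a Sylow p-subgroup of the symmetric group of degree p² — is a homomorphic image of S. -/
theorem result {G : Type*} [Group G] [Finite G] {p : ℕ} [Fact p.Prime] (S : Sylow p G) (h : (S : Subgroup G) ⊓ commutator G ≠ (S : Subgroup G) ⊓ ⁅Subgroup.normalizer ((S : Subgroup G) : Set G), Subgroup.normalizer ((S : Subgroup G) : Set G)⁆) : ∃ (P : Sylow p (Equiv.Perm (Fin (p ^ 2)))) (f : ↥(S : Subgroup G) →* ↥(P : Subgroup (Equiv.Perm (Fin (p ^ 2))))), Function.Surjective f := by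
  classical
  have hpp : p.Prime := Fact.out
  by_contra hcon
  apply h
  apply le_antisymm
  · have hwcl : Cfsg.IsWeaklyClosed (S : Subgroup G) (S : Subgroup G) := by
      refine ⟨le_rfl, fun g hle => ?_⟩
      apply Subgroup.eq_of_le_of_card_ge hle
      rw [Subgroup.card_map_of_injective (MulAut.conj g).injective]
    apply focal_le_of_noSing S (S : Subgroup G) hwcl
    intro A _ x hx z hz Y₁ hY₁Y hxY₁ hzY₁ hrel hnorm hcos ν hνp hmemu
    by_contra hne
    apply hcon
    have hYS : (S : Subgroup G) ⊔ Subgroup.zpowers x = (S : Subgroup G) :=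
      sup_eq_left.mpr ((Subgroup.zpowers_le).mpr hx)
    rw [hYS] at hY₁Y hrel hnorm hcos
    have hT : IsPGroup p (S : Subgroup G) := S.2
    set M : Subgroup (S : Subgroup G) := Y₁.subgroupOf (S : Subgroup G) with hM
    have hidx : M.index = p := hrel
    haveI hMn : M.Normal := by
      constructor
      intro m hm t
      rw [hM, Subgroup.mem_subgroupOf] at hm ⊢
      have := hnorm ((t : G)⁻¹) ((S : Subgroup G).inv_mem t.2) (m : G) hm
      rw [inv_inv] at this
      exact this
    set z' : (S : Subgroup G) := ⟨z, hz⟩ with hz'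
    set x' : (S : Subgroup G) := ⟨x, hx⟩ with hx'
    have hx'M : x' ∈ M := Subgroup.mem_subgroupOf.mpr hxY₁
    have hu'M : iterComm x' z' (p - 1) ∈ M := by
      rw [hM, Subgroup.mem_subgroupOf, coe_iterComm]
      exact hmemu
    set ν' : M →* A := ν.comp (Subgroup.subgroupOfEquivOfLe hY₁Y).toMonoidHom with hν'
    have hν'u : ν' ⟨iterComm x' z' (p - 1), hu'M⟩ = ν ⟨iterComm x z (p - 1), hmemu⟩ := by
      rw [hν', MonoidHom.comp_apply]
      congr 1
      apply Subtype.ext
      show ((iterComm x' z' (p - 1) : (S : Subgroup G)) : G) = _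
      rw [coe_iterComm]
    set E : Subgroup A := ν'.range with hE
    haveI : Finite E := Finite.of_surjective ν'.rangeRestrict ν'.rangeRestrict_surjective
    have hEp : ∀ e : E, e ^ p = 1 := by
      rintro ⟨_, m, rfl⟩
      apply Subtype.ext
      show ν' m ^ p = 1
      rw [hν', MonoidHom.comp_apply]
      exact hνp _
    set a : E := ν'.rangeRestrict ⟨iterComm x' z' (p - 1), hu'M⟩ with ha
    have ha1 : a ≠ 1 := by
      intro h1
      apply hne
      rw [← hν'u]
      exact congrArg Subtype.val h1
    have hfr := Cfsg.Agent.Helper47.frattini_eq_bot_of_elementary (p := p) hEp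
    have hexE₀ : ∃ E₀ : Subgroup E, IsCoatom E₀ ∧ a ∉ E₀ := by
      by_contra hc
      push_neg at hc
      have hmem : a ∈ frattini E := by
        simp only [frattini, Order.radical, Subgroup.mem_iInf]
        exact fun H hH => hc H hH
      rw [hfr, Subgroup.mem_bot] at hmem
      exact ha1 hmem
    obtain ⟨E₀, hcoat, haE₀⟩ := hexE₀
    have hEpg : IsPGroup p E := fun e => ⟨1, by rw [pow_one]; exact hEp e⟩
    obtain ⟨Y', hE₀Y', -, hrel', -, -, -⟩ := exists_max_normal (p := p) (⊤ : Subgroup E) E₀
      (hEpg.to_subgroup ⊤) le_top hcoat.1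
    rw [Subgroup.relIndex_top_right] at hrel'
    have hY'E₀ : E₀ = Y' := by
      apply eq_of_le_of_not_lt hE₀Y'
      intro hlt
      have := hcoat.2 Y' hlt
      rw [this, Subgroup.index_top] at hrel'
      exact hpp.one_lt.ne hrel'
    have hE₀idx : E₀.index = p := by rw [hY'E₀]; exact hrel'
    have hB : Nat.card (E ⧸ E₀) = p := by rw [← Subgroup.index_eq_card, hE₀idx]
    set θ : M →* E ⧸ E₀ := (QuotientGroup.mk' E₀).comp ν'.rangeRestrict with hθ
    have hu : ∃ h : iterComm x' z' (p - 1) ∈ M, θ ⟨iterComm x' z' (p - 1), h⟩ ≠ 1 := by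
      refine ⟨hu'M, ?_⟩
      rw [hθ, MonoidHom.comp_apply, QuotientGroup.mk'_apply]
      intro h1
      exact haE₀ ((QuotientGroup.eq_one_iff _).mp h1)
    exact exists_surj_sylow hT M hidx z' hB θ x' hx'M hu
  · apply inf_le_inf_left
    rw [commutator_def]
    exact Subgroup.commutator_mono le_top le_top

end Cfsg.Agent.S2807
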