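import Cfsg.Statements.S2809
import Mathlib
import Cfsg.Agent.Lib.Helper47.Coprime

set_option autoImplicit false
open Cfsg

namespace Cfsg.Agent.S2809

open Subgroup Cfsg.Agent.Helper47
open scoped commutatorElement

theorem result {H : Type*} [Group H] [Finite H] {p : ℕ} [Fact p.Prime] (R : Subgroup H) (hR : IsPGroup p ↥R) (hC : Subgroup.centralizer (R : Set H) ≤ R) (L : Subgroup H) (hL : L ≤ Subgroup.normalizer (R : Set H)) (hnil : ∃ n : ℕ, Cfsg.iterCommutator R L n = ⊥) : IsPGroup p ↥L := by
  obtain ⟨n, hn⟩ := hnil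
  have hle : ∀ k, iterCommutator R L k ≤ R := by
    intro k
    induction k with
    | zero => exact le_rfl
    | succ k ih =>
      show ⁅iterCommutator R L k, L⁆ ≤ R
      exact (commutator_mono ih le_rfl).trans (le_normalizer_iff_commutator_le_left.1 hL)
  have hRpow : ∀ c ∈ R, ∃ k : ℕ, c ^ (p ^ k) = 1 := by
    intro c hc
    obtain ⟨k, hk⟩ := hR ⟨c, hc⟩
    exact ⟨k, by simpa using congrArg Subtype.val hk⟩
  apply isPGroup_of_forall_coprime_eq_one
  intro y hy m hm hym
  -- y centralizes every term of the chain
  have hcent : ∀ j, j ≤ n → iterCommutator R L (n - j) ≤ centralizer ({y} : Set H) := by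
    intro j
    induction j with
    | zero => intro _; simp [hn]
    | succ j ih =>
      intro hj
      have ih' := ih (Nat.le_of_succ_le hj)
      have hidx : n - j = (n - (j + 1)) + 1 := by omega
      intro a ha
      rw [mem_centralizer_singleton_iff]
      have hc1 : ⁅a, y⁆ ∈ iterCommutator R L (n - j) := by
        rw [hidx]
        exact commutator_mem_commutator ha hy
      have hcomm : Commute ⁅a, y⁆ y := by
        have := ih' hc1
        rw [mem_centralizer_singleton_iff] at this
        exact this
      obtain ⟨k, hk⟩ := hRpow _ (hle _ hc1)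
      have := commutator_eq_one_of_coprime hcomm hym hk hm
      exact (commutatorElement_eq_one_iff_mul_comm.1 this)
  have h0 := hcent n le_rfl
  rw [Nat.sub_self] at h0
  have hyC : y ∈ centralizer (R : Set H) := by
    rw [mem_centralizer_iff]
    intro r hr
    have := h0 (show r ∈ iterCommutator R L 0 from hr)
    rw [mem_centralizer_singleton_iff] at this
    exact this
  obtain ⟨k, hk⟩ := hRpow y (hC hyC)
  have h2 : orderOf y ∣ Nat.gcd m (p ^ k) :=
    Nat.dvd_gcd (orderOf_dvd_of_pow_eq_one hym) (orderOf_dvd_of_pow_eq_one hk)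
  have h3 : Nat.gcd m (p ^ k) = 1 := Nat.Coprime.pow_right k hm
  rw [h3, Nat.dvd_one, orderOf_eq_one_iff] at h2
  exact h2

end Cfsg.Agent.S2809
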