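import Cfsg.Statements.S2810
import Mathlib
import Cfsg.Agent.Lib.Helper47.Basic
import Cfsg.Agent.Lib.Helper47.Comm
import Cfsg.Agent.Lib.Helper47.Coprime

set_option autoImplicit false
open Cfsg

namespace Cfsg.Agent.S2810

open Subgroup Cfsg.Agent.Helper47
open scoped commutatorElement

theorem result {H : Type*} [Group H] [Finite H] {p : ℕ} [Fact p.Prime] (hchar : Subgroup.centralizer (Cfsg.pCore p H : Set H) ≤ Cfsg.pCore p H) (L : Subgroup H) (n : ℕ) (A : Fin (n + 1) → Subgroup H) (h0 : A 0 = ⊥) (hn : A (Fin.last n) = Cfsg.pCore p H) (hmono : Monotone A) (hnorm : ∀ i, (A i).Normal) (hcent : ∀ i : Fin n, ⁅A i.succ, L⁆ ≤ A i.castSucc) : L ≤ Cfsg.pCore p H := by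
  set C : Subgroup H := ⨅ i : Fin n, commStab (A i.succ) (A i.castSucc) with hCdef
  have hmemC : ∀ l, l ∈ C ↔ ∀ i : Fin n, ∀ v ∈ A i.succ, ⁅v, l⁆ ∈ A i.castSucc := by
    intro l
    rw [hCdef, mem_iInf]
    constructor
    · intro h i; exact (h i).2
    · intro h i
      refine ⟨?_, h i⟩
      haveI := hnorm i.castSucc
      rw [normalizer_eq_top]; exact mem_top _
  have hLC : L ≤ C := by
    intro l hl
    rw [hmemC]
    intro i v hv
    exact hcent i (commutator_mem_commutator hv hl)
  have hCn : C.Normal := by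
    constructor
    intro l hl h
    rw [hmemC] at hl ⊢
    intro i v hv
    have hv' : h⁻¹ * v * h ∈ A i.succ := by
      have := (hnorm i.succ).conj_mem v hv h⁻¹
      simpa using this
    have h1 := hl i _ hv'
    have h2 := (hnorm i.castSucc).conj_mem _ h1 h
    rw [conjugate_commutatorElement] at h2
    have h3 : h * (h⁻¹ * v * h) * h⁻¹ = v := by group
    rwa [h3] at h2
  have hOpow : ∀ c ∈ pCore p H, ∃ k : ℕ, c ^ (p ^ k) = 1 := by
    intro c hc
    obtain ⟨k, hk⟩ := (pCore_isPGroup (G := H) (p := p)) ⟨c, hc⟩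
    exact ⟨k, by simpa using congrArg Subtype.val hk⟩
  have hAO : ∀ i, A i ≤ pCore p H := fun i => hn ▸ hmono (Fin.le_last i)
  have hCp : IsPGroup p C := by
    apply isPGroup_of_forall_coprime_eq_one
    intro y hy m hm hym
    rw [hmemC] at hy
    have hstep : ∀ i : Fin (n + 1), A i ≤ centralizer ({y} : Set H) := by
      intro i
      induction i using Fin.induction with
      | zero => rw [h0]; exact bot_le
      | succ i ih =>
        intro a ha
        rw [mem_centralizer_singleton_iff]
        have hc1 := hy i a ha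
        have hcomm : Commute ⁅a, y⁆ y := by
          have := ih hc1
          rw [mem_centralizer_singleton_iff] at this
          exact this
        obtain ⟨k, hk⟩ := hOpow _ (hAO _ hc1)
        have := commutator_eq_one_of_coprime hcomm hym hk hm
        exact (commutatorElement_eq_one_iff_mul_comm.1 this)
    have hyC : y ∈ centralizer (pCore p H : Set H) := by
      rw [mem_centralizer_iff]
      intro r hr
      have := hstep (Fin.last n) (hn ▸ hr)
      rw [mem_centralizer_singleton_iff] at this
      exact this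
    obtain ⟨k, hk⟩ := hOpow y (hchar hyC)
    have h2 : orderOf y ∣ Nat.gcd m (p ^ k) :=
      Nat.dvd_gcd (orderOf_dvd_of_pow_eq_one hym) (orderOf_dvd_of_pow_eq_one hk)
    have h3 : Nat.gcd m (p ^ k) = 1 := Nat.Coprime.pow_right k hm
    rw [h3, Nat.dvd_one, orderOf_eq_one_iff] at h2
    exact h2
  exact hLC.trans (le_pCore hCn hCp)

end Cfsg.Agent.S2810
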