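import Cfsg.Statements.S2813
import Mathlib
import Cfsg.Agent.Lib.Helper47.Basic
import Cfsg.Agent.Lib.Helper47.Coprime

set_option autoImplicit false
open Cfsg

namespace Cfsg.Agent.S2813

open Subgroup Cfsg.Agent.Helper47
open scoped commutatorElement

theorem result {H : Type*} [Group H] [Finite H] {p : ℕ} [Fact p.Prime] (K : Subgroup H) (hO : Cfsg.pCore p ↥K = ⊥) (Y : Subgroup H) (hY : IsPGroup p ↥Y) (hYK : Y ≤ Subgroup.normalizer (K : Set H)) (hq : ⁅⁅K, Y⁆, Y⁆ = ⊥) : ⁅K, Y⁆ = ⊥ := by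
  have hAK : ⁅K, Y⁆ ≤ K := le_normalizer_iff_commutator_le_left.1 hYK
  have hKA : K ≤ normalizer ((⁅K, Y⁆ : Subgroup H) : Set H) := normalizer_commutator_ge_left K Y
  have hAC : ⁅K, Y⁆ ≤ centralizer (Y : Set H) := commutator_eq_bot_iff_le_centralizer.1 hq
  -- A is abelian via the three subgroups lemma
  have hAA : ⁅⁅K, Y⁆, ⁅K, Y⁆⁆ = ⊥ := by
    apply commutator_commutator_eq_bot_of_rotate
    · -- ⁅⁅Y, A⁆, K⁆ = ⊥
      have : ⁅Y, ⁅K, Y⁆⁆ = ⊥ := by rw [commutator_comm]; exact hq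
      rw [this, commutator_bot_left]
    · -- ⁅⁅A, K⁆, Y⁆ = ⊥
      have h1 : ⁅⁅K, Y⁆, K⁆ ≤ ⁅K, Y⁆ := le_normalizer_iff_commutator_le_left.1 hKA
      exact le_bot_iff.1 ((commutator_mono h1 le_rfl).trans hq.le)
  have hcommA : ∀ a ∈ ⁅K, Y⁆, ∀ b ∈ ⁅K, Y⁆, Commute a b := by
    intro a ha b hb
    have := commutator_eq_bot_iff_le_centralizer.1 hAA
    exact (mem_centralizer_iff.mp (this ha) b hb).symm
  -- every element of A is a p-element
  have hApow : ∀ a ∈ ⁅K, Y⁆, ∃ k : ℕ, a ^ (p ^ k) = 1 := by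
    intro a ha
    rw [Subgroup.commutator_def] at ha
    induction ha using closure_induction with
    | mem c hc =>
      obtain ⟨k, hk, y, hy, rfl⟩ := hc
      obtain ⟨e, he⟩ := hY ⟨y, hy⟩
      have hye : y ^ (p ^ e) = 1 := by simpa using congrArg Subtype.val he
      have hcomm : Commute ⁅k, y⁆ y := by
        have := hAC (commutator_mem_commutator hk hy)
        exact (mem_centralizer_iff.mp this y hy).symm
      exact ⟨e, commutator_pow_eq_one_of_commute hcomm hye⟩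
    | one => exact ⟨0, by simp⟩
    | mul a b ha hb iha ihb =>
      obtain ⟨k1, h1⟩ := iha
      obtain ⟨k2, h2⟩ := ihb
      have hab : Commute a b := hcommA a (by rw [Subgroup.commutator_def]; exact ha) b (by rw [Subgroup.commutator_def]; exact hb)
      refine ⟨k1 + k2, ?_⟩
      rw [hab.mul_pow, pow_add, pow_mul, h1, one_pow, one_mul, mul_comm (p ^ k1), pow_mul, h2, one_pow]
    | inv a ha iha =>
      obtain ⟨k, hk⟩ := iha
      exact ⟨k, by rw [inv_pow, hk, inv_one]⟩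
  have hAp : IsPGroup p ((⁅K, Y⁆).subgroupOf K) := by
    intro a
    obtain ⟨k, hk⟩ := hApow (a : K) a.2
    exact ⟨k, Subtype.ext (Subtype.ext (by simpa using hk))⟩
  have hAn : ((⁅K, Y⁆).subgroupOf K).Normal := normal_subgroupOf_of_le_normalizer hKA
  have hle := le_pCore hAn hAp
  rw [hO, le_bot_iff, subgroupOf_eq_bot] at hle
  exact (disjoint_of_le_iff_left_eq_bot hAK).mp hle

end Cfsg.Agent.S2813
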