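import Cfsg.Statements.S2814
import Mathlib
import Cfsg.Agent.Lib.Helper47.SubnCl
import Cfsg.Agent.Lib.Helper47.PRes
import Cfsg.Agent.Lib.Helper47.PIrr
import Cfsg.Agent.Lib.Helper47.Comm

set_option autoImplicit false
open Cfsg

namespace Cfsg.Agent.S2814

open Subgroup Cfsg.Agent.Helper47
open scoped commutatorElement

theorem result {H : Type*} [Group H] [Finite H] {p : ℕ} [Fact p.Prime] (A : Subgroup H) (K : Subgroup H) (hK : K = Cfsg.subnormalClosure A) : (Subgroup.normalClosure ((A.subgroupOf K : Subgroup ↥K) : Set ↥K)).map K.subtype = K ∧ Subgroup.normalizer (A : Set H) ≤ Subgroup.normalizer (K : Set H) ∧ A ⊔ (Cfsg.pResidual p ↥K).map K.subtype = K ∧ (IsPGroup p ↥A → ⁅(Cfsg.pResidual p ↥K).map K.subtype, A⁆ = (Cfsg.pResidual p ↥K).map K.subtype) := by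
  have hKsn : K.IsSubnormal := hK ▸ subnormalClosure_isSubnormal A
  have hAK : A ≤ K := hK ▸ le_subnormalClosure A
  have hmin : ∀ S : Subgroup H, S.IsSubnormal → A ≤ S → K ≤ S := fun S hS hAS =>
    hK ▸ subnormalClosure_le hS hAS
  -- subgroups of K that are subnormal in K and contain A equal K
  have hminK : ∀ S' : Subgroup K, S'.IsSubnormal → A.subgroupOf K ≤ S' → S'.map K.subtype = K := by
    intro S' hS' hAS'
    apply le_antisymm (map_subtype_le S')
    apply hmin _ (hS'.trans' hKsn)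
    intro a ha
    exact ⟨⟨a, hAK ha⟩, hAS' (by rw [mem_subgroupOf]; exact ha), rfl⟩
  have h1 : (normalClosure ((A.subgroupOf K : Subgroup ↥K) : Set ↥K)).map K.subtype = K :=
    hminK _ (normalClosure_normal).isSubnormal le_normalClosure
  have h2 : normalizer (A : Set H) ≤ normalizer (K : Set H) :=
    hK ▸ normalizer_le_normalizer_subnormalClosure A
  set R : Subgroup H := (pResidual p ↥K).map K.subtype with hR
  have hRK : R ≤ K := map_subtype_le _
  have h3 : A ⊔ R = K := by
    apply le_antisymm (sup_le hAK hRK)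
    -- image of A in K / O^p(K) is subnormal
    have hq : IsPGroup p (↥K ⧸ pResidual p ↥K) := isPGroup_quotient_of_pResidual_le _ le_rfl
    have hsn1 := isSubnormal_of_isPGroup hq ((A.subgroupOf K).map (QuotientGroup.mk' (pResidual p ↥K)))
    have hsn2 := hsn1.comap (QuotientGroup.mk' (pResidual p ↥K))
    rw [comap_map_eq, QuotientGroup.ker_mk'] at hsn2
    have := hminK _ hsn2 le_sup_left
    rw [Subgroup.map_sup, map_subgroupOf_eq_of_le hAK] at this
    exact this.ge
  refine ⟨h1, h2, h3, ?_⟩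
  intro hAp
  have hRn : K ≤ normalizer (R : Set H) := by
    intro k hk
    rw [mem_normalizer_iff]
    have hconj : ∀ k ∈ K, ∀ r ∈ R, k * r * k⁻¹ ∈ R := by
      rintro k hk _ ⟨r, hr, rfl⟩
      refine ⟨⟨k, hk⟩ * r * ⟨k, hk⟩⁻¹, ?_, rfl⟩
      exact (pResidual_normal (G := ↥K) (p := p)).conj_mem r hr ⟨k, hk⟩
    intro r
    constructor
    · exact hconj k hk r
    · intro h
      have := hconj k⁻¹ (inv_mem hk) _ h
      simpa [mul_assoc] using this
  have hAR : A ≤ normalizer (R : Set H) := hAK.trans hRn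
  have hR1R : ⁅R, A⁆ ≤ R := le_normalizer_iff_commutator_le_left.1 hAR
  apply le_antisymm hR1R
  -- A ⊔ [R, A] is normalized by A and R, hence normal in K
  have hA1 : A ≤ normalizer ((⁅R, A⁆ : Subgroup H) : Set H) := normalizer_commutator_ge_right R A
  have hR1 : R ≤ normalizer ((⁅R, A⁆ : Subgroup H) : Set H) := normalizer_commutator_ge_left R A
  have hRU : R ≤ normalizer ((⁅R, A⁆ ⊔ A : Subgroup H) : Set H) := by
    rw [le_normalizer_iff_commutator_le_right]
    apply commutator_sup_right_le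
    · exact (le_normalizer_iff_commutator_le_right.1 hR1).trans le_sup_left
    · exact le_sup_left
    · exact le_sup_left.trans le_normalizer
    · exact le_sup_right.trans le_normalizer
  have hAU : A ≤ normalizer ((⁅R, A⁆ ⊔ A : Subgroup H) : Set H) := le_sup_right.trans le_normalizer
  have hKU : K ≤ normalizer ((⁅R, A⁆ ⊔ A : Subgroup H) : Set H) := by
    rw [← h3]; exact sup_le hAU hRU
  have hUK : ⁅R, A⁆ ⊔ A ≤ K := sup_le (hR1R.trans hRK) hAK
  have hUsn : (⁅R, A⁆ ⊔ A : Subgroup H).IsSubnormal :=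
    IsSubnormal.step _ K hUK hKsn (normal_subgroupOf_of_le_normalizer hKU)
  have hKU' : K ≤ ⁅R, A⁆ ⊔ A := hmin _ hUsn le_sup_right
  have hRcl : R = closure {g : H | g ∈ K ∧ (orderOf g).Coprime p} := map_pResidual_eq_closure K
  have hfin : closure {g : H | g ∈ K ∧ (orderOf g).Coprime p} ≤ ⁅R, A⁆ := by
    rw [closure_le]
    rintro g ⟨hgK, hcop⟩
    exact mem_of_mem_sup_of_coprime hA1 hAp (hKU' hgK) hcop
  exact hRcl.le.trans hfin

end Cfsg.Agent.S2814
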