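import Mathlib
import Cfsg.Statements.S2815
import Cfsg.Agent.Lib.Helper47.FStarP
import Cfsg.Agent.Lib.Helper47.Conj

set_option autoImplicit false
open Cfsg

namespace Cfsg.Agent.S2815

/-- Let H be a finite group and p a prime dividing its order with O_p(H) = 1, and suppose K = O^p(H) (generated by the elements of order prime to p) is quasisimple. Then K = F*(H); for every nontrivial p-subgroup Y of H, K = [K, Y] and K lies in the subgroup generated by the K-conjugates of Y; every normal subgroup of H not containing K has order prime to p; and H is p-irreducible. -/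
theorem result {H : Type*} [Group H] [Finite H] {p : ℕ} [Fact p.Prime] (hp : p ∣ Nat.card H) (hO : Cfsg.pCore p H = ⊥) (hq : Cfsg.IsQuasisimple ↥(Cfsg.pResidual p H)) : Cfsg.pResidual p H = Cfsg.generalizedFittingSubgroup H ∧ (∀ Y : Subgroup H, IsPGroup p ↥Y → Y ≠ ⊥ → ⁅Cfsg.pResidual p H, Y⁆ = Cfsg.pResidual p H ∧ Cfsg.pResidual p H ≤ ⨆ k : ↥(Cfsg.pResidual p H), Y.map (MulAut.conj (k : H)).toMonoidHom) ∧ (∀ C : Subgroup H, C.Normal → ¬ Cfsg.pResidual p H ≤ C → (Nat.card ↥C).Coprime p) ∧ Cfsg.IsPIrreducible p H := by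
  have hKn : (Cfsg.pResidual p H).Normal := Helper47.pResidual_normal
  have hKcomp : Cfsg.IsComponent (Cfsg.pResidual p H) := ⟨hKn.isSubnormal, hq⟩
  have hZ := Helper47.card_inf_centralizer_coprime hO (Cfsg.pResidual p H)
  -- (c)
  have hc : ∀ C : Subgroup H, C.Normal → ¬ Cfsg.pResidual p H ≤ C → (Nat.card ↥C).Coprime p := by
    intro C hC hKC
    rcases Helper22.component_le_or_commutator_eq_bot hKcomp hC.isSubnormal with h | h
    · exact absurd h hKC
    · have := Helper47.le_inf_centralizer_of_commutator_eq_bot hO hq h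
      exact Nat.Coprime.coprime_dvd_left (Subgroup.card_dvd_of_le this) hZ
  refine ⟨Helper47.pResidual_eq_generalizedFittingSubgroup hO hq, ?_, hc, ?_, ?_⟩
  · -- (b)
    intro Y hY hYne
    have hKY : ⁅Cfsg.pResidual p H, Y⁆ = Cfsg.pResidual p H := by
      have hDK : ⁅Cfsg.pResidual p H, Y⁆ ≤ Cfsg.pResidual p H := Subgroup.commutator_le_left _ _
      rcases Helper22.quasisimple_le_or_commutator_eq_bot hq hDK
        (Helper1.le_normalizer_commutator_left _ _) with h | h
      · exact le_antisymm hDK h
      · exfalso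
        have h1 : ⁅⁅Cfsg.pResidual p H, Y⁆, Cfsg.pResidual p H⁆ = ⊥ := by
          rw [Subgroup.commutator_comm]; exact h
        have h2 : ⁅⁅Y, Cfsg.pResidual p H⁆, Cfsg.pResidual p H⁆ = ⊥ := by
          rw [Subgroup.commutator_comm Y]; exact h1
        have h3 := Subgroup.commutator_commutator_eq_bot_of_rotate h1 h2
        rw [Helper22.IsQuasisimple.commutator_eq hq] at h3
        have h4 := Helper47.le_inf_centralizer_of_commutator_eq_bot hO hq h3
        have h5 : (Nat.card ↥Y).Coprime p :=
          Nat.Coprime.coprime_dvd_left (Subgroup.card_dvd_of_le h4) hZ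
        exact hYne (Helper47.eq_bot_of_isPGroup_of_card_coprime hY h5)
    refine ⟨hKY, ?_⟩
    conv_lhs => rw [← hKY]
    rw [Subgroup.commutator_le]
    intro k hk y hy
    rw [commutatorElement_def]
    refine mul_mem ?_ (inv_mem ?_)
    · exact le_iSup (fun k : ↥(Cfsg.pResidual p H) => Y.map (MulAut.conj (k : H)).toMonoidHom)
        ⟨k, hk⟩ ⟨y, hy, rfl⟩
    · have := le_iSup (fun k : ↥(Cfsg.pResidual p H) => Y.map (MulAut.conj (k : H)).toMonoidHom)
        (1 : ↥(Cfsg.pResidual p H))
      apply this
      refine ⟨y, hy, ?_⟩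
      simp
  · -- not p-closed
    intro hcl
    obtain ⟨P⟩ : Nonempty (Sylow p H) := inferInstance
    have hPn := hcl P
    have hle := Helper46.le_pCore hPn P.isPGroup'
    rw [hO, le_bot_iff] at hle
    exact P.ne_bot_of_dvd_card hp hle
  · intro N hN hNcl
    by_contra hKN
    exact hNcl (Helper47.isPClosed_of_card_coprime (hc N hN hKN))

end Cfsg.Agent.S2815
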