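import Cfsg.Statements.S2818
import Mathlib
import Cfsg.Agent.Lib.Helper47.Frat

set_option autoImplicit false
open Cfsg

namespace Cfsg.Agent.S2818

open Subgroup Cfsg.Agent.Helper47
open scoped commutatorElement

theorem omegaOne_le {G : Type*} [Group G] (p : ℕ) (Z : Subgroup G) : omegaOne p Z ≤ Z :=
  (closure_le Z).2 fun _ hx => hx.1

theorem omegaOne_pow {G : Type*} [Group G] (p : ℕ) (Z : Subgroup G)
    (hZ : ∀ a ∈ Z, ∀ b ∈ Z, a * b = b * a) : ∀ x ∈ omegaOne p Z, x ^ p = 1 := by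
  intro x hx
  unfold omegaOne at hx
  induction hx using closure_induction with
  | mem c hc => exact hc.2
  | one => simp
  | mul a b ha hb iha ihb =>
    have hab : Commute a b := hZ a (omegaOne_le p Z ha) b (omegaOne_le p Z hb)
    rw [hab.mul_pow, iha, ihb, one_mul]
  | inv a _ iha => rw [inv_pow, iha, inv_one]

theorem result {G : Type*} [Group G] [Finite G] {p : ℕ} [Fact p.Prime] (P : Subgroup G) (hP : IsPGroup p ↥P) (H : Subgroup G) (hH : H ≤ Subgroup.normalizer (P : Set G)) (h : ⁅P, H⁆ ≤ Cfsg.omegaOne p (P ⊓ Subgroup.centralizer (P : Set G))) : ⁅(frattini ↥P).map P.subtype, H⁆ = ⊥ := by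
  rw [commutator_eq_bot_iff_le_centralizer]
  rintro _ ⟨x, hx, rfl⟩
  rw [mem_centralizer_iff]
  intro t ht
  have hZcomm : ∀ a ∈ P ⊓ centralizer (P : Set G), ∀ b ∈ P ⊓ centralizer (P : Set G), a * b = b * a := by
    intro a ha b hb
    exact (mem_centralizer_iff.mp hb.2 a ha.1)
  have hΩZ := omegaOne_le p (P ⊓ centralizer (P : Set G))
  have hΩpow := omegaOne_pow p (P ⊓ centralizer (P : Set G)) hZcomm
  have hmem : ∀ y : P, ⁅(y : G), t⁆ ∈ omegaOne p (P ⊓ centralizer (P : Set G)) :=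
    fun y => h (commutator_mem_commutator y.2 ht)
  -- the homomorphism y ↦ [y, t]
  let φ : P →* G := MonoidHom.mk' (fun y => ⁅(y : G), t⁆) (by
    intro a b
    show ⁅((a * b : P) : G), t⁆ = ⁅(a : G), t⁆ * ⁅(b : G), t⁆
    rw [coe_mul, commutatorElement_mul_left_eq_conj_mul]
    have hb := hΩZ (hmem b)
    have ha := hΩZ (hmem a)
    have h1 : (a : G) * ⁅(b : G), t⁆ * (a : G)⁻¹ = ⁅(b : G), t⁆ := by
      have := mem_centralizer_iff.mp hb.2 a a.2
      rw [this, mul_assoc, mul_inv_cancel, mul_one]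
    rw [h1]
    exact hZcomm _ hb _ ha)
  have hφ : ∀ y : P, φ y = ⁅(y : G), t⁆ := fun _ => rfl
  have hker := frattini_le_ker_of_elementary (p := p) φ
    (fun a b => by rw [hφ, hφ]; exact hZcomm _ (hΩZ (hmem a)) _ (hΩZ (hmem b)))
    (fun a => by rw [hφ]; exact hΩpow _ (hmem a))
  have := hker hx
  rw [MonoidHom.mem_ker, hφ, commutatorElement_eq_one_iff_mul_comm] at this
  exact this.symm

end Cfsg.Agent.S2818
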