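import Cfsg.Statements.S2819
import Mathlib
import Cfsg.Agent.Lib.Helper47.Frat
import Cfsg.Agent.Lib.Helper47.Comm
import Cfsg.Agent.Lib.Helper47.Coprime
import Cfsg.Agent.Lib.Helper47.PRes

set_option autoImplicit false
open Cfsg

namespace Cfsg.Agent.S2819

open Subgroup Cfsg.Agent.Helper47
open scoped commutatorElement

/-- If `y` normalizes `P` and all `[x,y]` (`x ∈ P`) have `p`-th power one, then `[Φ(P), y] ≤ P'`. -/
theorem commutator_frattini_mem {G : Type*} [Group G] [Finite G] {p : ℕ} [Fact p.Prime]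
    (P : Subgroup G) (y : G) (hy : y ∈ normalizer (P : Set G))
    (hpow : ∀ x ∈ P, ⁅x, y⁆ ^ p = 1) :
    ∀ x : P, x ∈ frattini ↥P → ⁅(x : G), y⁆ ∈ ⁅P, P⁆ := by
  have hmemP : ∀ x : P, ⁅(x : G), y⁆ ∈ P := by
    intro x
    have h1 : y * (x : G)⁻¹ * y⁻¹ ∈ P := (mem_normalizer_iff.mp hy _).mp (P.inv_mem x.2)
    have : ⁅(x : G), y⁆ = (x : G) * (y * (x : G)⁻¹ * y⁻¹) := by
      simp [commutatorElement_def, mul_assoc]
    rw [this]; exact P.mul_mem x.2 h1
  let ψ : P → Abelianization P := fun x => Abelianization.of ⟨⁅(x : G), y⁆, hmemP x⟩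
  have hmul : ∀ a b : P, ψ (a * b) = ψ a * ψ b := by
    intro a b
    have h1 : (⟨⁅((a * b : P) : G), y⁆, hmemP (a * b)⟩ : P) =
        a * ⟨⁅(b : G), y⁆, hmemP b⟩ * a⁻¹ * ⟨⁅(a : G), y⁆, hmemP a⟩ := by
      apply Subtype.ext
      simp only [coe_mul, InvMemClass.coe_inv]
      exact commutatorElement_mul_left_eq_conj_mul _ _ _
    show Abelianization.of _ = Abelianization.of _ * Abelianization.of _
    rw [h1, map_mul, map_mul, map_mul, map_inv]
    rw [mul_comm (Abelianization.of a), mul_assoc _ (Abelianization.of a), mul_inv_cancel, mul_one,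
      mul_comm]
  let φ : P →* Abelianization P := MonoidHom.mk' ψ hmul
  have hker := frattini_le_ker_of_elementary (p := p) φ (fun a b => mul_comm _ _) (by
    intro a
    show (Abelianization.of (⟨⁅(a : G), y⁆, hmemP a⟩ : P)) ^ p = 1
    rw [← map_pow]
    have : (⟨⁅(a : G), y⁆, hmemP a⟩ : P) ^ p = 1 := Subtype.ext (by simpa using hpow a a.2)
    rw [this, map_one])
  intro x hx
  have h1 := hker hx
  rw [MonoidHom.mem_ker] at h1
  have h2 : Abelianization.of (⟨⁅(x : G), y⁆, hmemP x⟩ : P) = 1 := h1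
  have h3 : (⟨⁅(x : G), y⁆, hmemP x⟩ : P) ∈ commutator P := by
    rw [← Abelianization.ker_of]
    exact h2
  rw [← map_subtype_commutator]
  exact ⟨_, h3, rfl⟩

theorem result {G : Type*} [Group G] [Finite G] {p : ℕ} [Fact p.Prime] (P : Subgroup G) (hP : IsPGroup p ↥P) (H : Subgroup G) (hH : H ≤ Subgroup.normalizer (P : Set G)) (Y : Subgroup G) (hYH : Y ≤ H) (hYc : Y ≤ Subgroup.centralizer ((⁅P, P⁆ : Subgroup G) : Set G)) (hel : Cfsg.IsElementaryAbelian p ⁅P, Y⁆) (NY : Subgroup G) (hNY : NY = (Subgroup.normalClosure ((Y.subgroupOf H : Subgroup ↥H) : Set ↥H)).map H.subtype) : (Cfsg.pResidual p ↥NY).map NY.subtype ≤ Subgroup.centralizer (((frattini ↥P).map P.subtype : Subgroup G) : Set G) := by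
  set Φ : Subgroup G := (frattini ↥P).map P.subtype with hΦ
  set P' : Subgroup G := ⁅P, P⁆ with hP'
  have hP'P : P' ≤ P := commutator_le_self P
  -- H normalizes P'
  have hHP' : ∀ h ∈ H, ∀ c ∈ P', h * c * h⁻¹ ∈ P' := by
    intro h hh c hc
    have h1 : P'.map (MulAut.conj h).toMonoidHom = P' := by
      rw [hP', map_commutator, conj_map_eq_of_mem_normalizer (hH hh)]
    rw [← h1]
    exact ⟨c, hc, by simp⟩
  -- the subgroup X
  set X : Subgroup G := centralizer (P' : Set G) ⊓ commStab Φ P' with hX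
  have hgen : ∀ h ∈ H, ∀ y ∈ Y, h * y * h⁻¹ ∈ X := by
    intro h hh y hy
    have hcent : h * y * h⁻¹ ∈ centralizer (P' : Set G) := by
      rw [mem_centralizer_iff]
      intro c hc
      have hc' : h⁻¹ * c * h ∈ P' := by
        have := hHP' h⁻¹ (inv_mem hh) c hc
        simpa using this
      have := mem_centralizer_iff.mp (hYc hy) _ hc'
      calc c * (h * y * h⁻¹) = h * ((h⁻¹ * c * h) * y) * h⁻¹ := by group
        _ = h * (y * (h⁻¹ * c * h)) * h⁻¹ := by rw [this]
        _ = h * y * h⁻¹ * c := by group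
    refine ⟨hcent, ?_, ?_⟩
    · exact centralizer_le_normalizer (P' : Set G) hcent
    · rintro _ ⟨x, hx, rfl⟩
      apply commutator_frattini_mem (p := p) P (h * y * h⁻¹) (hH (mul_mem (mul_mem hh (hYH hy)) (inv_mem hh))) _ x hx
      intro x' hx'
      have hx'' : h⁻¹ * x' * h ∈ P := by
        have := (mem_normalizer_iff.mp (hH (inv_mem hh)) x').mp hx'
        simpa using this
      have h1 : ⁅x', h * y * h⁻¹⁆ = h * ⁅h⁻¹ * x' * h, y⁆ * h⁻¹ := by
        rw [conjugate_commutatorElement]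
        congr 1 <;> group
      rw [h1, conj_pow, hel.2 _ (commutator_mem_commutator hx'' hy)]
      simp
  have hNYX : NY ≤ X := by
    rw [hNY, map_le_iff_le_comap, normalClosure, closure_le]
    intro z hz
    rw [Group.mem_conjugatesOfSet_iff] at hz
    obtain ⟨a, ha, hconj⟩ := hz
    rw [isConj_iff] at hconj
    obtain ⟨c, rfl⟩ := hconj
    show ((c * a * c⁻¹ : H) : G) ∈ X
    have : ((c * a * c⁻¹ : H) : G) = (c : G) * (a : G) * (c : G)⁻¹ := by simp
    rw [this]
    exact hgen c c.2 a (by simpa [mem_subgroupOf] using ha)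
  have hPpow : ∀ c ∈ P, ∃ k : ℕ, c ^ (p ^ k) = 1 := by
    intro c hc
    obtain ⟨k, hk⟩ := hP ⟨c, hc⟩
    exact ⟨k, by simpa using congrArg Subtype.val hk⟩
  rw [map_pResidual_eq_closure, closure_le]
  rintro g ⟨hgN, hcop⟩
  have hgX := hNYX hgN
  show g ∈ centralizer (Φ : Set G)
  rw [mem_centralizer_iff]
  intro x hx
  have hc1 : ⁅x, g⁆ ∈ P' := hgX.2.2 x hx
  have hcomm : Commute ⁅x, g⁆ g := (mem_centralizer_iff.mp hgX.1 _ hc1)
  obtain ⟨k, hk⟩ := hPpow _ (hP'P hc1)
  have := commutator_eq_one_of_coprime hcomm (pow_orderOf_eq_one g) hk hcop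
  exact (commutatorElement_eq_one_iff_mul_comm.1 this)

end Cfsg.Agent.S2819
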