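import Cfsg.Statements.S2820
import Mathlib
import Cfsg.Agent.Lib.Helper47.Subn

set_option autoImplicit false
open Cfsg

namespace Cfsg.Agent.S2820

open Subgroup Cfsg.Agent.Helper47

theorem result {H : Type*} [Group H] [Finite H] {p : ℕ} [Fact p.Prime] (A B : Subgroup H) (hA : A.IsSubnormal) (hB : B.IsSubnormal) (hAp : IsPGroup p ↥A) (hBres : (Cfsg.pResidual p ↥B).map B.subtype = B) : A ≤ Subgroup.normalizer (B : Set H) ∧ (Cfsg.pResidual p ↥(A ⊔ B)).map (A ⊔ B).subtype = B := by
  have hAO : A ≤ pCore p H := Cfsg.Agent.Helper22.subnormal_isPGroup_le_pCore hA hAp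
  have hAB : A ⊔ B ≤ B ⊔ pCore p H := sup_le (hAO.trans le_sup_right) le_sup_left
  have key : ∀ g : H, (orderOf g).Coprime p → g ∈ A ⊔ B → g ∈ B := fun g hcop hg =>
    mem_of_mem_sup_pCore_of_isSubnormal hB g hcop (hAB hg)
  have hBcl : B = closure {g : H | g ∈ B ∧ (orderOf g).Coprime p} := by
    rw [← map_pResidual_eq_closure]; exact hBres.symm
  constructor
  · have hconj : ∀ a ∈ A, ∀ b ∈ B, a * b * a⁻¹ ∈ B := by
      intro a ha b hb
      rw [hBcl] at hb
      induction hb using closure_induction with
      | mem c hc =>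
        apply key
        · have : a * c * a⁻¹ = MulAut.conj a c := by simp
          rw [this, MulEquiv.orderOf_eq]; exact hc.2
        · exact mul_mem (mul_mem (mem_sup_left ha) (mem_sup_right hc.1)) (inv_mem (mem_sup_left ha))
      | one => simp
      | mul x y _ _ ihx ihy =>
        have : a * (x * y) * a⁻¹ = (a * x * a⁻¹) * (a * y * a⁻¹) := by group
        rw [this]; exact mul_mem ihx ihy
      | inv x _ ihx =>
        have : a * x⁻¹ * a⁻¹ = (a * x * a⁻¹)⁻¹ := by group
        rw [this]; exact inv_mem ihx
    intro a ha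
    rw [mem_normalizer_iff]
    intro b
    constructor
    · exact hconj a ha b
    · intro h
      have := hconj a⁻¹ (inv_mem ha) _ h
      simpa [mul_assoc] using this
  · apply le_antisymm
    · rw [map_pResidual_eq_closure]
      conv_rhs => rw [hBcl]
      apply Subgroup.closure_mono
      rintro g ⟨hg, hcop⟩
      exact ⟨key g hcop hg, hcop⟩
    · conv_lhs => rw [← hBres]
      exact map_pResidual_mono le_sup_right

end Cfsg.Agent.S2820
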