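import Mathlib
import Cfsg.Statements.S2821
import Cfsg.Agent.Lib.Helper47.PRed
import Cfsg.Agent.Lib.Helper47.Basic

set_option autoImplicit false
open Cfsg

namespace Cfsg.Agent.S2821

/-- Let H be a finite group, p a prime, T a Sylow p-subgroup and L a subgroup of characteristic p containing T; let Y_L be the largest p-reduced normal subgroup of L (the join of the normal elementary abelian p-subgroups V of L with O_p(L/C_L(V)) = 1). Then T₀ := C_T(Y_L) is a Sylow p-subgroup of C_H(Y_L); moreover O_p(L) ≤ T₀ ≤ C_L(Y_L) and Ω₁(Z(T)) ≤ Z_L ≤ Y_L ≤ Ω₁(Z(O_p(L))), where Z_L is generated by the Ω₁(Z(S)) over the Sylow p-subgroups S of L. -/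
theorem result {H : Type*} [Group H] [Finite H] {p : ℕ} [Fact p.Prime] (T : Sylow p H) (L : Subgroup H) (hTL : (T : Subgroup H) ≤ L) (hL : Subgroup.centralizer (Cfsg.pCore p ↥L : Set ↥L) ≤ Cfsg.pCore p ↥L) (T₀ : Subgroup H) (hT₀ : T₀ = (T : Subgroup H) ⊓ Subgroup.centralizer (((Cfsg.largestPReducedOf p L) : Subgroup H) : Set H)) : (∃ P : Sylow p ↥(Subgroup.centralizer (((Cfsg.largestPReducedOf p L) : Subgroup H) : Set H)), (P : Subgroup ↥(Subgroup.centralizer (((Cfsg.largestPReducedOf p L) : Subgroup H) : Set H))) = T₀.subgroupOf (Subgroup.centralizer (((Cfsg.largestPReducedOf p L) : Subgroup H) : Set H))) ∧ (Cfsg.pCoreOf p L) ≤ T₀ ∧ T₀ ≤ L ⊓ Subgroup.centralizer (((Cfsg.largestPReducedOf p L) : Subgroup H) : Set H) ∧ (Cfsg.omegaOne p ((T : Subgroup H) ⊓ Subgroup.centralizer (((T : Subgroup H) : Subgroup H) : Set H))) ≤ Cfsg.sylowCenterClosure p L ∧ Cfsg.sylowCenterClosure p L ≤ (Cfsg.largestPReducedOf p L) ∧ (Cfsg.largestPReducedOf p L) ≤ (Cfsg.omegaOne p ((Cfsg.pCoreOf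 p L) ⊓ Subgroup.centralizer (((Cfsg.pCoreOf p L) : Subgroup H) : Set H))) := by
  subst hT₀
  have hLN : L ≤ Subgroup.normalizer ((Cfsg.largestPReducedOf p L : Subgroup H) : Set H) :=
    Helper48.le_normalizer_largestPReducedOf L
  have hTN : (T : Subgroup H) ≤ Subgroup.normalizer
      ((Subgroup.centralizer ((Cfsg.largestPReducedOf p L : Subgroup H) : Set H) : Subgroup H) : Set H) :=
    (hTL.trans hLN).trans (Helper47.normalizer_le_normalizer_centralizer _)
  have hQT : Cfsg.pCoreOf p L ≤ (T : Subgroup H) := by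
    rintro _ ⟨x, hx, rfl⟩
    have h1 : x ∈ ((T.subtype hTL : Sylow p ↥L) : Subgroup ↥L) := Helper46.pCore_le_sylow _ hx
    rw [Sylow.coe_subtype, Subgroup.mem_subgroupOf] at h1
    exact h1
  refine ⟨Helper47.exists_sylow_inf_of_le_normalizer T _ hTN, ?_, ?_, ?_, ?_, ?_⟩
  · exact le_inf hQT (Helper48.pCoreOf_le_centralizer_largestPReducedOf L)
  · exact inf_le_inf_right _ hTL
  · have h := le_iSup (fun S : Sylow p ↥L => Cfsg.omegaOne p (((S : Subgroup ↥L).map L.subtype) ⊓
      Subgroup.centralizer (((S : Subgroup ↥L).map L.subtype : Subgroup H) : Set H))) (T.subtype hTL)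
    have hmap : ((T.subtype hTL : Sylow p ↥L) : Subgroup ↥L).map L.subtype = (T : Subgroup H) := by
      rw [Sylow.coe_subtype, Subgroup.subgroupOf_map_subtype, inf_eq_left.mpr hTL]
    simp only [hmap] at h
    exact h
  · exact Helper47.sylowCenterClosure_le_largestPReducedOf L hL
  · rintro _ ⟨y, hy, rfl⟩
    have hy' := Helper48.largestPReduced_le_omegaZCore hy
    refine Subgroup.subset_closure ⟨⟨⟨y, hy'.1, rfl⟩, ?_⟩, ?_⟩
    · show L.subtype y ∈ Subgroup.centralizer ((Cfsg.pCoreOf p L : Subgroup H) : Set H)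
      rw [Subgroup.mem_centralizer_iff]
      rintro _ ⟨z, hz, rfl⟩
      have := Subgroup.mem_centralizer_iff.mp hy'.2.1 z hz
      exact congrArg Subtype.val this
    · have := hy'.2.2
      simpa using congrArg Subtype.val this

end Cfsg.Agent.S2821
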