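import Mathlib
import Cfsg.Statements.S2823
import Cfsg.Agent.Lib.Helper47.ZL

set_option autoImplicit false
open Cfsg

namespace Cfsg.Agent.S2823

/-- Let H be a finite group, p a prime, T a Sylow p-subgroup and L a subgroup of characteristic p containing T; let Z_L be the subgroup generated by the Ω₁(Z(S)) over the Sylow p-subgroups S of L and O^p(L) the subgroup generated by the elements of L of order prime to p. Then Z_L = Ω₁(Z(L))·[Z_L, O^p(L)] and [Z_L, L] = [Z_L, O^p(L)]. -/
theorem result {H : Type*} [Group H] [Finite H] {p : ℕ} [Fact p.Prime] (T : Sylow p H) (L : Subgroup H) (hTL : (T : Subgroup H) ≤ L) (hL : Subgroup.centralizer (Cfsg.pCore p ↥L : Set ↥L) ≤ Cfsg.pCore p ↥L) : Cfsg.sylowCenterClosure p L = (Cfsg.omegaOne p (L ⊓ Subgroup.centralizer ((L : Subgroup H) : Set H))) ⊔ ⁅Cfsg.sylowCenterClosure p L, (Cfsg.pResidual p ↥L).map L.subtype⁆ ∧ ⁅Cfsg.sylowCenterClosure p L, L⁆ = ⁅Cfsg.sylowCenterClosure p L, (Cfsg.pResidual p ↥L).map L.subtype⁆ := by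
  obtain ⟨h1, h2⟩ := Helper47.zClosure_structure (G := ↥L) (p := p) hL
  have htop := Helper47.map_subtype_top' L
  have hΩ : Cfsg.omegaOne p (L ⊓ Subgroup.centralizer ((L : Subgroup H) : Set H)) =
      (Helper47.omegaZ p (⊤ : Subgroup ↥L)).map L.subtype := by
    have := Helper47.omegaOne_map_inf_centralizer (p := p) L ⊤
    rwa [htop] at this
  rw [hΩ, Helper47.sylowCenterClosure_eq_map, ← Subgroup.map_commutator, ← Subgroup.map_sup]
  refine ⟨congrArg (Subgroup.map L.subtype) h1, ?_⟩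
  have h3 : ⁅(Helper47.zClosure p ↥L).map L.subtype, L⁆ =
      ⁅(Helper47.zClosure p ↥L).map L.subtype, (⊤ : Subgroup ↥L).map L.subtype⁆ := by
    rw [htop]
  rw [h3, ← Subgroup.map_commutator]
  exact congrArg (Subgroup.map L.subtype) h2

end Cfsg.Agent.S2823
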