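import Mathlib
import Cfsg.Statements.S2826
import Cfsg.Agent.Lib.Helper23.Average
import Cfsg.Agent.Lib.Helper23.Large
import Cfsg.Agent.Lib.Helper2.PResidual

set_option autoImplicit false
open Cfsg

namespace Cfsg.Agent.S2826

open Cfsg.Agent.Helper23
open scoped commutatorElement

/-- Let H be a finite group of characteristic p, T a Sylow p-subgroup, and V a normal elementary abelian p-subgroup of H containing Ω₁(Z(T)). Then C_H(Ω₁(Z(T))) = C_H([V, O^p(H)] ∩ Ω₁(Z(T))), O^p(H) being generated by the elements of order prime to p. -/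
theorem result {H : Type*} [Group H] [Finite H] {p : ℕ} [Fact p.Prime] (hH : Subgroup.centralizer (Cfsg.pCore p H : Set H) ≤ Cfsg.pCore p H) (T : Sylow p H) (V : Subgroup H) [V.Normal] (hV : Cfsg.IsElementaryAbelian p V) (hZV : (Cfsg.omegaOne p ((T : Subgroup H) ⊓ Subgroup.centralizer (((T : Subgroup H) : Subgroup H) : Set H))) ≤ V) : Subgroup.centralizer ((Cfsg.omegaOne p ((T : Subgroup H) ⊓ Subgroup.centralizer (((T : Subgroup H) : Subgroup H) : Set H))) : Set H) = Subgroup.centralizer (((⁅V, Cfsg.pResidual p H⁆ ⊓ (Cfsg.omegaOne p ((T : Subgroup H) ⊓ Subgroup.centralizer (((T : Subgroup H) : Subgroup H) : Set H)))) : Subgroup H) : Set H) := by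
  classical
  have hVn : V.Normal := inferInstance
  set Z := Cfsg.omegaOne p ((T : Subgroup H) ⊓ Subgroup.centralizer ((T : Subgroup H) : Set H))
    with hZ
  have hVc : ∀ a ∈ V, ∀ b ∈ V, a * b = b * a := by
    intro a ha b hb
    exact congrArg Subtype.val (hV.1.is_comm.comm ⟨a, ha⟩ ⟨b, hb⟩)
  have hVp : ∀ a ∈ V, a ^ p = 1 := hV.2
  have hVpg : IsPGroup p V := by
    intro a
    exact ⟨1, by rw [pow_one]; exact Subtype.ext (hVp a a.2)⟩
  have hVT : V ≤ (T : Subgroup H) := by
    obtain ⟨T', hT'⟩ := hVpg.exists_le_sylow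
    obtain ⟨g, rfl⟩ := MulAction.exists_smul_eq H T T'
    intro x hx
    have h1 : g * x * g⁻¹ ∈ V := hVn.conj_mem x hx g
    have h2 := hT' h1
    rw [mem_smul_sylow_iff] at h2
    have e : g⁻¹ * (g * x * g⁻¹) * g = x := by group
    rwa [e] at h2
  have hgenZ : ∀ x : H, x ∈ V → (∀ t ∈ (T : Subgroup H), t * x * t⁻¹ = x) → x ∈ Z := by
    intro x hx hxT
    apply Subgroup.subset_closure
    have hxC : x ∈ Subgroup.centralizer ((T : Subgroup H) : Set H) := by
      rw [Subgroup.mem_centralizer_iff]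
      intro t ht
      have := hxT t ht
      calc t * x = (t * x * t⁻¹) * t := by group
        _ = x * t := by rw [this]
    exact ⟨Subgroup.mem_inf.mpr ⟨hVT hx, hxC⟩, hVp x hx⟩
  have hZT : Z ≤ (T : Subgroup H) ⊓ Subgroup.centralizer ((T : Subgroup H) : Set H) := by
    rw [hZ, Cfsg.omegaOne, Subgroup.closure_le]
    intro x hx
    exact hx.1
  have hZfix : ∀ z ∈ Z, ∀ t ∈ (T : Subgroup H), t * z * t⁻¹ = z := by
    intro z hz t ht
    have := (Subgroup.mem_centralizer_iff.mp (hZT hz).2) t ht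
    rw [this]; group
  set W := ⁅V, Cfsg.pResidual p H⁆ with hW
  apply le_antisymm
  · exact Subgroup.centralizer_le inf_le_right
  · intro e he
    have hTD : (T : Subgroup H) ≤ Subgroup.centralizer ((W ⊓ Z : Subgroup H) : Set H) := by
      intro t ht
      rw [Subgroup.mem_centralizer_iff]
      intro z hz
      have := hZfix z hz.2 t ht
      calc z * t = (t * z * t⁻¹) * t := by rw [this]
        _ = t * z := by group
    have hidx : ¬ p ∣ (T : Subgroup H).relIndex
        (Subgroup.centralizer ((W ⊓ Z : Subgroup H) : Set H)) :=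
      fun h => T.not_dvd_index (h.trans (Subgroup.relIndex_dvd_index_of_le hTD))
    have hRn : (Cfsg.pResidual p H).Normal := Cfsg.Agent.Helper2.pResidual_normal p
    have key : ∀ z ∈ Z, ∀ d ∈ Subgroup.centralizer ((W ⊓ Z : Subgroup H) : Set H),
        d * z * d⁻¹ = z := by
      intro z hz
      apply fixed_of_sylow_fixed V hVc hVp _ (T : Subgroup H) hTD hidx W z (hZV hz) (hZfix z hz)
      · intro d _
        obtain ⟨s, hs, r, hr, hd⟩ :=
          Cfsg.Agent.Helper2.exists_mul_pResidual p (T : Subgroup H) T.not_dvd_index d⁻¹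
        have hd' : d = r⁻¹ * s⁻¹ := by
          rw [← inv_inv d, hd]; group
        have hs' := hZfix z hz s⁻¹ (inv_mem hs)
        have e1 : d * z * d⁻¹ = r⁻¹ * z * r := by
          rw [hd']
          calc r⁻¹ * s⁻¹ * z * (r⁻¹ * s⁻¹)⁻¹ = r⁻¹ * (s⁻¹ * z * s⁻¹⁻¹) * r := by group
            _ = r⁻¹ * z * r := by rw [hs']
        have e2 : z * (d * z * d⁻¹)⁻¹ = ⁅z, r⁻¹⁆ := by
          rw [e1, commutatorElement_def]; group
        rw [e2]
        exact Subgroup.commutator_mem_commutator (hZV hz) (inv_mem hr)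
      · intro w hwW hwV hwT d hd
        have hwZ : w ∈ Z := hgenZ w hwV hwT
        have := (Subgroup.mem_centralizer_iff.mp hd) w ⟨hwW, hwZ⟩
        calc d * w * d⁻¹ = (w * d) * d⁻¹ := by rw [this]
          _ = w := by group
    rw [Subgroup.mem_centralizer_iff]
    intro z hz
    have := key z hz e he
    calc z * e = (e * z * e⁻¹) * e := by rw [this]
      _ = e * z := by group

end Cfsg.Agent.S2826
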