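import Cfsg.Statements.S2827
import Mathlib
import Cfsg.Agent.Lib.Helper47.PIrr

set_option autoImplicit false
open Cfsg

namespace Cfsg.Agent.S2827

open Subgroup Cfsg.Agent.Helper47
open scoped commutatorElement

theorem result {H : Type*} [Group H] [Finite H] {p : ℕ} [Fact p.Prime] (hH : Cfsg.IsPIrreducible p H) (T : Sylow p H) : Subgroup.normalClosure ((T : Subgroup H) : Set H) = ⊤ ∧ commutator H ⊔ (T : Subgroup H) = ⊤ ∧ Cfsg.pResidual p H ≤ commutator H ∧ ∀ Y : Subgroup H, Y ≤ (T : Subgroup H) → (T : Subgroup H) ≤ Subgroup.normalizer (Y : Set H) → ¬ Y ≤ Cfsg.pCore p H → ⁅Cfsg.pResidual p H, Y⁆ = Cfsg.pResidual p H ∧ Cfsg.pResidual p H ≤ Subgroup.normalClosure (Y : Set H) := by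
  have h1 : normalClosure ((T : Subgroup H) : Set H) = ⊤ :=
    eq_top_of_sylow_le_of_isPIrreducible hH T _ le_normalClosure
  have h2 : commutator H ⊔ (T : Subgroup H) = ⊤ := by
    haveI : (commutator H ⊔ (T : Subgroup H)).Normal := Cfsg.Agent.Helper47.normal_of_commutator_le le_sup_left
    exact eq_top_of_sylow_le_of_isPIrreducible hH T _ le_sup_right
  refine ⟨h1, h2, pResidual_le_of_sup_eq_top T.isPGroup' h2, ?_⟩
  intro Y hYT hTY hYO
  have hYp : IsPGroup p Y := T.isPGroup'.to_le hYT
  have hRN : pResidual p H ≤ normalClosure (Y : Set H) := by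
    apply hH.2 _ inferInstance
    intro hcl
    exact hYO (le_pCore_of_le_isPClosed _ hcl hYp le_normalClosure)
  refine ⟨?_, hRN⟩
  set R := pResidual p H with hR
  set K := ⁅R, Y⁆ with hK
  have hKR : K ≤ R := commutator_le_left R Y
  have hYK : Y ≤ normalizer (K : Set H) := normalizer_commutator_ge_right R Y
  have hRK : R ≤ normalizer (K : Set H) := normalizer_commutator_ge_left R Y
  -- K ⊔ Y is normal in H
  have hTK : (T : Subgroup H) ≤ normalizer (K : Set H) := by
    intro t ht
    rw [mem_normalizer_iff_map_conj_eq, hK, map_commutator]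
    congr 1
    · exact conj_map_eq_of_mem_normalizer (by rw [normalizer_eq_top]; exact mem_top t)
    · exact conj_map_eq_of_mem_normalizer (hTY ht)
  have hTU : (T : Subgroup H) ≤ normalizer ((K ⊔ Y : Subgroup H) : Set H) :=
    (le_inf hTK hTY).trans (normalizer_inf_normalizer_le_normalizer_sup K Y)
  have hRU : R ≤ normalizer ((K ⊔ Y : Subgroup H) : Set H) := by
    rw [le_normalizer_iff_commutator_le_right]
    apply commutator_sup_right_le
    · exact (le_normalizer_iff_commutator_le_right.1 hRK).trans le_sup_left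
    · exact le_sup_left
    · exact le_sup_left.trans le_normalizer
    · exact le_sup_right.trans le_normalizer
  have hUn : (K ⊔ Y : Subgroup H).Normal := by
    rw [← normalizer_eq_top_iff, eq_top_iff, ← sylow_sup_pResidual_eq_top T]
    exact sup_le hTU hRU
  have hNU : normalClosure (Y : Set H) ≤ K ⊔ Y := normalClosure_le_normal (by exact_mod_cast (le_sup_right : Y ≤ K ⊔ Y))
  apply le_antisymm hKR
  rw [hR]
  unfold pResidual
  rw [closure_le]
  intro g hg
  have hgR : g ∈ R := mem_pResidual_of_coprime hg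
  exact mem_of_mem_sup_of_coprime hYK hYp (hNU (hRN hgR)) hg

end Cfsg.Agent.S2827
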