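import Cfsg.Statements.S2828
import Mathlib
import Cfsg.Agent.Lib.Helper47.PIrr
import Cfsg.Agent.Lib.Helper47.Quot

set_option autoImplicit false
open Cfsg

namespace Cfsg.Agent.S2828

open Subgroup Cfsg.Agent.Helper47
open scoped commutatorElement

variable {A B : Type*} [Group A] [Group B] {p : ℕ}

/-- generators of `O^p(A)` lying in `N ⊔ ker` lie in `N` -/
theorem pResidual_le_of_le_sup_ker [Finite A] [Fact p.Prime] (f : A →* B) (hker : IsPGroup p f.ker)
    (N : Subgroup A) [N.Normal] (h : pResidual p A ≤ N ⊔ f.ker) : pResidual p A ≤ N := by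
  have hle : f.ker ≤ normalizer (N : Set A) := by rw [normalizer_eq_top]; exact le_top
  have h' := h
  unfold pResidual at h ⊢
  rw [closure_le]
  intro g hg
  exact mem_of_mem_sup_of_coprime hle hker (h (Subgroup.subset_closure hg)) hg

theorem isPIrreducible_iff [Finite A] [Fact p.Prime] (f : A →* B) (hf : Function.Surjective f)
    (hker : IsPGroup p f.ker) : IsPIrreducible p A ↔ IsPIrreducible p B := by
  constructor
  · rintro ⟨h1, h2⟩
    refine ⟨fun h => h1 ((isPClosed_iff_of_surjective hf hker).2 h), fun N hN hNc => ?_⟩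
    haveI := hN
    have h3 : ¬ IsPClosed p (N.comap f) := by
      intro h
      apply hNc
      have := (isPClosed_map_iff f hker (N.comap f)).1 h
      rwa [map_comap_eq_self_of_surjective hf] at this
    have h4 := h2 (N.comap f) inferInstance h3
    rw [← map_pResidual_of_surjective hf, map_le_iff_le_comap]
    exact h4
  · rintro ⟨h1, h2⟩
    refine ⟨fun h => h1 ((isPClosed_iff_of_surjective hf hker).1 h), fun N hN hNc => ?_⟩
    haveI := hN
    have h3 : ¬ IsPClosed p (N.map f) := fun h => hNc ((isPClosed_map_iff f hker N).2 h)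
    have h4 := h2 (N.map f) (Subgroup.Normal.map hN f hf) h3
    rw [← map_pResidual_of_surjective hf, map_le_iff_le_comap, comap_map_eq] at h4
    exact pResidual_le_of_le_sup_ker f hker N h4

theorem isStronglyPIrreducible_iff [Finite A] [Fact p.Prime] (f : A →* B) (hf : Function.Surjective f)
    (hker : IsPGroup p f.ker) : IsStronglyPIrreducible p A ↔ IsStronglyPIrreducible p B := by
  constructor
  · rintro ⟨h1, h2⟩
    refine ⟨fun h => h1 ((isPClosed_iff_of_surjective hf hker).2 h), fun N hN hNc => ?_⟩
    haveI := hN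
    have h3 : ¬ ⁅N.comap f, (⊤ : Subgroup A)⁆ ≤ pCore p A := by
      intro h
      apply hNc
      have := map_mono (f := f) h
      rwa [map_commutator, map_comap_eq_self_of_surjective hf, map_top_of_surjective f hf,
        map_pCore_of_surjective hf hker] at this
    have h4 := h2 (N.comap f) inferInstance h3
    rw [← map_pResidual_of_surjective hf, map_le_iff_le_comap]
    exact h4
  · rintro ⟨h1, h2⟩
    refine ⟨fun h => h1 ((isPClosed_iff_of_surjective hf hker).1 h), fun N hN hNc => ?_⟩
    haveI := hN
    have h3 : ¬ ⁅N.map f, (⊤ : Subgroup B)⁆ ≤ pCore p B := by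
      intro h
      apply hNc
      rw [← map_top_of_surjective f hf, ← map_commutator, map_le_iff_le_comap,
        comap_pCore_of_surjective hf hker] at h
      exact h
    have h4 := h2 (N.map f) (Subgroup.Normal.map hN f hf) h3
    rw [← map_pResidual_of_surjective hf, map_le_iff_le_comap, comap_map_eq] at h4
    exact pResidual_le_of_le_sup_ker f hker N h4

theorem result {H : Type*} [Group H] [Finite H] {p : ℕ} [Fact p.Prime] (D : Subgroup H) [D.Normal] (hD : IsPGroup p ↥D) : (Cfsg.IsPIrreducible p H ↔ Cfsg.IsPIrreducible p (H ⧸ D)) ∧ (Cfsg.IsStronglyPIrreducible p H ↔ Cfsg.IsStronglyPIrreducible p (H ⧸ D)) := by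
  have hker : IsPGroup p (QuotientGroup.mk' D).ker := by rw [QuotientGroup.ker_mk']; exact hD
  exact ⟨isPIrreducible_iff (QuotientGroup.mk' D) (QuotientGroup.mk'_surjective D) hker,
    isStronglyPIrreducible_iff (QuotientGroup.mk' D) (QuotientGroup.mk'_surjective D) hker⟩

end Cfsg.Agent.S2828
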