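import Cfsg.Statements.S2830
import Mathlib
import Cfsg.Agent.Lib.Helper47.PIrr
import Cfsg.Agent.Lib.Helper47.Quot

set_option autoImplicit false
open Cfsg

namespace Cfsg.Agent.S2830

open Subgroup Cfsg.Agent.Helper47
open scoped commutatorElement

variable {A : Type*} [Group A] {p : ℕ}

theorem isPClosed_of_not_pResidual_le [Finite A] [Fact p.Prime] (hA : IsPIrreducible p A)
    (C : Subgroup A) [C.Normal] (hC : ¬ pResidual p A ≤ C) : IsPClosed p C := by
  by_contra h
  exact hC (hA.2 C inferInstance h)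

theorem pCore_quotient_eq_bot [Finite A] [Fact p.Prime] (hA : IsPIrreducible p A)
    (C : Subgroup A) [C.Normal] (hC : ¬ pResidual p A ≤ C) (hOC : pCore p A ≤ C) :
    pCore p (A ⧸ C) = ⊥ := by
  set D : Subgroup A := (pCore p (A ⧸ C)).comap (QuotientGroup.mk' C) with hD
  have hDpow : ∀ x ∈ D, ∃ e : ℕ, x ^ (p ^ e) ∈ C := by
    intro x hx
    obtain ⟨e, he⟩ := (pCore_isPGroup (G := A ⧸ C) (p := p)) ⟨QuotientGroup.mk' C x, hx⟩
    refine ⟨e, ?_⟩
    have h1 : (QuotientGroup.mk' C x) ^ (p ^ e) = 1 := by simpa using congrArg Subtype.val he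
    rw [← map_pow] at h1
    exact (QuotientGroup.eq_one_iff _).1 h1
  -- p'-elements of D lie in C
  have hDp' : ∀ g ∈ D, ∀ m : ℕ, m.Coprime p → g ^ m = 1 → g ∈ C := by
    intro g hg m hm hgm
    obtain ⟨e, he⟩ := hDpow g hg
    exact mem_of_pow_mem_of_coprime hm hgm he
  -- D is p-closed
  have hDcl : IsPClosed p D := by
    by_contra h
    apply hC
    have h1 := hA.2 D inferInstance h
    unfold pResidual at h1 ⊢
    rw [closure_le] at h1 ⊢
    intro g hg
    exact hDp' g (h1 hg) (orderOf g) hg (pow_orderOf_eq_one g)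
  -- p-elements of D lie in C
  have hDp : ∀ g ∈ D, ∀ e : ℕ, g ^ (p ^ e) = 1 → g ∈ C := by
    intro g hg e hge
    have hz : IsPGroup p (zpowers g) := by
      rw [isPGroup_iff_orderOf_dvd_pow]
      rintro ⟨y, hy⟩
      obtain ⟨k, rfl⟩ := mem_zpowers_iff.mp hy
      refine ⟨e, ?_⟩
      rw [Subgroup.orderOf_mk]
      apply orderOf_dvd_of_pow_eq_one
      rw [← zpow_natCast, ← zpow_mul, mul_comm, zpow_mul, zpow_natCast, hge, one_zpow]
    have h1 : zpowers g ≤ D := by rw [zpowers_le]; exact hg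
    exact hOC (le_pCore_of_le_isPClosed D hDcl hz h1 (mem_zpowers g))
  rw [eq_bot_iff]
  intro x hx
  obtain ⟨g, rfl⟩ := QuotientGroup.mk_surjective x
  rw [mem_bot, QuotientGroup.eq_one_iff]
  have hgD : g ∈ D := hx
  have hn : orderOf g ≠ 0 := (orderOf_pos g).ne'
  obtain ⟨e, m, hm, hnm⟩ := Nat.exists_eq_pow_mul_and_not_dvd hn p (Fact.out : p.Prime).ne_one
  have hcop : Nat.Coprime m p := (Nat.Coprime.symm ((Nat.Prime.coprime_iff_not_dvd Fact.out).2 hm))
  have h1 : g ^ (p ^ e) ∈ C := by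
    apply hDp' _ (D.pow_mem hgD _) m hcop
    rw [← pow_mul, ← hnm, pow_orderOf_eq_one]
  have h2 : g ^ m ∈ C := by
    apply hDp _ (D.pow_mem hgD _) e
    rw [← pow_mul, mul_comm, ← hnm, pow_orderOf_eq_one]
  have hcop2 : IsCoprime ((p ^ e : ℕ) : ℤ) (m : ℤ) :=
    Nat.isCoprime_iff_coprime.2 (Nat.Coprime.pow_right e hcop).symm
  obtain ⟨a, b, hab⟩ := hcop2
  have : g = (g ^ (p ^ e)) ^ a * (g ^ m) ^ b := by
    rw [← zpow_natCast, ← zpow_natCast g m, ← zpow_mul, ← zpow_mul, ← zpow_add,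
      mul_comm _ a, mul_comm _ b, hab, zpow_one]
  rw [this]
  exact C.mul_mem (C.zpow_mem h1 a) (C.zpow_mem h2 b)

theorem result {G : Type*} [Group G] [Finite G] {p : ℕ} [Fact p.Prime] (V H : Subgroup G) (hV : Cfsg.IsElementaryAbelian p V) (hHV : H ≤ Subgroup.normalizer (V : Set G)) (hH : Cfsg.IsPIrreducible p ↥H) (hnc : ¬ (Cfsg.pResidual p ↥H).map H.subtype ≤ Subgroup.centralizer (V : Set G)) [hn : ((Subgroup.centralizer (V : Set G)).subgroupOf H).Normal] : Cfsg.IsPClosed p ↥(H ⊓ Subgroup.centralizer (V : Set G)) ∧ (∀ T : Subgroup G, T ≤ H → IsPGroup p ↥T → T ⊓ Subgroup.centralizer (V : Set G) ≤ Cfsg.pCoreOf p H) ∧ (Cfsg.pCoreOf p H ≤ Subgroup.centralizer (V : Set G) → (∀ T : Subgroup G, T ≤ H → IsPGroup p ↥T → T ⊓ Subgroup.centralizer (V : Set G) = T ⊓ Cfsg.pCoreOf p H) ∧ Cfsg.pCore p (↥H ⧸ (Subgroup.centralizer (V : Set G)).subgroupOf H) = ⊥) := by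
  set C : Subgroup H := (centralizer (V : Set G)).subgroupOf H with hCdef
  have hC : ¬ pResidual p H ≤ C := by
    intro h
    apply hnc
    rw [map_le_iff_le_comap]
    exact h
  have hCcl : IsPClosed p C := isPClosed_of_not_pResidual_le hH C hC
  have h2 : ∀ T : Subgroup G, T ≤ H → IsPGroup p ↥T → T ⊓ centralizer (V : Set G) ≤ pCoreOf p H := by
    intro T hTH hT
    have hYp : IsPGroup p ((T ⊓ centralizer (V : Set G)).subgroupOf H) :=
      (hT.to_inf_left).comap_subtype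
    have hYC : (T ⊓ centralizer (V : Set G)).subgroupOf H ≤ C := by
      intro x hx
      rw [mem_subgroupOf] at hx ⊢
      exact hx.2
    have := le_pCore_of_le_isPClosed C hCcl hYp hYC
    intro x hx
    exact ⟨⟨x, hTH hx.1⟩, this (by rw [mem_subgroupOf]; exact hx), rfl⟩
  refine ⟨?_, h2, fun hO => ⟨fun T hTH hT => ?_, ?_⟩⟩
  · have heq : C = (H ⊓ centralizer (V : Set G)).subgroupOf H := by
      rw [hCdef, inf_subgroupOf_left]
    let e : C ≃* ↥(H ⊓ centralizer (V : Set G)) :=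
      (MulEquiv.subgroupCongr heq).trans (subgroupOfEquivOfLe inf_le_left)
    exact isPClosed_of_surjective (f := e.toMonoidHom) e.surjective hCcl
  · apply le_antisymm
    · exact le_inf inf_le_left (h2 T hTH hT)
    · exact le_inf inf_le_left (inf_le_right.trans hO)
  · apply pCore_quotient_eq_bot hH C hC
    intro x hx
    rw [hCdef, mem_subgroupOf]
    exact hO ⟨x, hx, rfl⟩

end Cfsg.Agent.S2830
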