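import Cfsg.Statements.S2831
import Mathlib
import Cfsg.Agent.Lib.Helper47.Minimal

set_option autoImplicit false
open Cfsg

namespace Cfsg.Agent.S2831

open Subgroup Cfsg.Agent.Helper47

theorem result {H : Type*} [Group H] [Finite H] {p : ℕ} [Fact p.Prime] (T : Sylow p H) (hmin : Cfsg.IsMinimalOver (T : Subgroup H)) : Cfsg.IsPIrreducible p H := by
  obtain ⟨hcl, huniq⟩ := hmin
  refine ⟨?_, ?_⟩
  · intro hpc
    haveI := hpc T
    rw [normalClosure_eq_self] at hcl
    obtain ⟨M, ⟨hMc, hTM⟩, -⟩ := huniq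
    rw [hcl, top_le_iff] at hTM
    exact hMc.1 hTM
  · intro N hN hNc
    by_contra hle
    apply hNc
    intro Q
    have hsup : N ⊔ (T : Subgroup H) ≠ ⊤ := fun h => hle (pResidual_le_of_sup_eq_top T.isPGroup' h)
    exact (sylow_map_normal_of_sup_ne_top T huniq N hsup Q).of_map_subtype

end Cfsg.Agent.S2831
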