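import Cfsg.Statements.S2832
import Mathlib
import Cfsg.Agent.Lib.Helper47.Minimal

set_option autoImplicit false
open Cfsg

namespace Cfsg.Agent.S2832

open Subgroup Cfsg.Agent.Helper47

theorem result {H : Type*} [Group H] [Finite H] {p : ℕ} [Fact p.Prime] (T : Sylow p H) (hmin : Cfsg.IsMinimalOver (T : Subgroup H)) (N : Subgroup H) [N.Normal] : IsPGroup p (H ⧸ N) ∨ Cfsg.IsMinimalOver ((T : Subgroup H).map (QuotientGroup.mk' N)) := by
  obtain ⟨hcl, M, ⟨hMc, hTM⟩, hMu⟩ := hmin
  by_cases hsup : N ⊔ (T : Subgroup H) = ⊤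
  · exact Or.inl (isPGroup_quotient_of_sup_eq_top T.isPGroup' hsup)
  · right
    have hsurj : Function.Surjective (QuotientGroup.mk' N) := QuotientGroup.mk'_surjective N
    obtain ⟨M', hM'c, hM'⟩ := (eq_top_or_exists_le_coatom (N ⊔ (T : Subgroup H))).resolve_left hsup
    have hMM' : M' = M := hMu M' ⟨hM'c, le_sup_right.trans hM'⟩
    have hNM : N ≤ M := hMM' ▸ (le_sup_left.trans hM')
    have hker : (QuotientGroup.mk' N).ker ≤ M := by rw [QuotientGroup.ker_mk']; exact hNM
    refine ⟨?_, M.map (QuotientGroup.mk' N), ⟨⟨?_, ?_⟩, map_mono hTM⟩, ?_⟩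
    · have := map_normalClosure ((T : Subgroup H) : Set H) (QuotientGroup.mk' N) hsurj
      rw [hcl, map_top_of_surjective _ hsurj] at this
      rw [this]; rfl
    · intro h
      have h2 := congrArg (comap (QuotientGroup.mk' N)) h
      rw [comap_map_eq_self hker, comap_top] at h2
      exact hMc.1 h2
    · intro K hK
      have h1 : M < K.comap (QuotientGroup.mk' N) := by
        rw [← comap_map_eq_self hker]
        exact (comap_lt_comap_of_surjective hsurj).2 hK
      have h2 := hMc.2 _ h1
      have h3 := congrArg (map (QuotientGroup.mk' N)) h2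
      rw [map_comap_eq_self_of_surjective hsurj, map_top_of_surjective _ hsurj] at h3
      exact h3
    · rintro K ⟨hKc, hTK⟩
      have h1 : IsCoatom (K.comap (QuotientGroup.mk' N)) := isCoatom_comap_of_surjective hsurj hKc
      have h2 : (T : Subgroup H) ≤ K.comap (QuotientGroup.mk' N) := map_le_iff_le_comap.1 hTK
      have h3 := hMu _ ⟨h1, h2⟩
      rw [← h3, map_comap_eq_self_of_surjective hsurj]

end Cfsg.Agent.S2832
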