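import Cfsg.Statements.S2833
import Mathlib
import Cfsg.Agent.Lib.Helper47.Comm

set_option autoImplicit false
open Cfsg

namespace Cfsg.Agent.S2833

open Subgroup Cfsg.Agent.Helper47
open scoped commutatorElement

theorem result {G : Type*} [Group G] [Finite G] (V L : Subgroup G) (hLV : L ≤ Subgroup.normalizer (V : Set G)) (X : Subgroup G) (hX : X ≤ L) (g : G) (hg : g ∈ L) (hq : ⁅⁅V, X⁆, X⁆ = ⊥) (hgen : X ⊔ X.map (MulAut.conj g).toMonoidHom = L) (W : Subgroup G) (hW : W = ⁅V, L⁆) : ⁅V, X⁆ ⊔ ⁅V, X.map (MulAut.conj g).toMonoidHom⁆ = W ∧ W ⊓ Subgroup.centralizer (X : Set G) = ⁅V, X⁆ ∧ W ⊓ Subgroup.centralizer (L : Set G) = ⁅V, X⁆ ⊓ ⁅V, X.map (MulAut.conj g).toMonoidHom⁆ := by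
  set X' := X.map (MulAut.conj g).toMonoidHom with hX'
  have hX'L : X' ≤ L := by rw [← hgen]; exact le_sup_right
  have hVg : V.map (MulAut.conj g).toMonoidHom = V := conj_map_eq_of_mem_normalizer (hLV hg)
  -- B = conj of A
  have hB : ⁅V, X'⁆ = (⁅V, X⁆).map (MulAut.conj g).toMonoidHom := by
    rw [map_commutator, hVg]
  have hq' : ⁅⁅V, X'⁆, X'⁆ = ⊥ := by
    rw [hB, hX', ← map_commutator, hq, Subgroup.map_bot]
  have hAV : ⁅V, X⁆ ≤ V := le_normalizer_iff_commutator_le_left.1 (hX.trans hLV)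
  have hBV : ⁅V, X'⁆ ≤ V := le_normalizer_iff_commutator_le_left.1 (hX'L.trans hLV)
  have hUV : ⁅V, X⁆ ⊔ ⁅V, X'⁆ ≤ V := sup_le hAV hBV
  have hXU : X ≤ normalizer ((⁅V, X⁆ ⊔ ⁅V, X'⁆ : Subgroup G) : Set G) :=
    le_normalizer_iff_commutator_le_left.2 ((commutator_mono hUV le_rfl).trans le_sup_left)
  have hX'U : X' ≤ normalizer ((⁅V, X⁆ ⊔ ⁅V, X'⁆ : Subgroup G) : Set G) :=
    le_normalizer_iff_commutator_le_left.2 ((commutator_mono hUV le_rfl).trans le_sup_right)
  have h1 : ⁅V, X⁆ ⊔ ⁅V, X'⁆ = W := by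
    rw [hW]
    apply le_antisymm
    · exact sup_le (commutator_mono le_rfl hX) (commutator_mono le_rfl hX'L)
    · rw [← hgen]
      exact commutator_sup_right_le le_sup_left le_sup_right hXU hX'U
  have hAC : ⁅V, X⁆ ≤ centralizer (X : Set G) := commutator_eq_bot_iff_le_centralizer.1 hq
  have hBC : ⁅V, X'⁆ ≤ centralizer (X' : Set G) := commutator_eq_bot_iff_le_centralizer.1 hq'
  -- elements centralizing L and lying in B are in A
  have hkey : ∀ b, b ∈ ⁅V, X'⁆ → b ∈ centralizer (X : Set G) → b ∈ ⁅V, X⁆ ∧ b ∈ centralizer (L : Set G) := by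
    intro b hb hbX
    have hbL : b ∈ centralizer (L : Set G) := by
      have : L ≤ centralizer ({b} : Set G) := by
        rw [← hgen]
        refine sup_le ?_ ?_
        · intro x hx
          rw [mem_centralizer_singleton_iff]
          exact (mem_centralizer_iff.mp hbX x hx)
        · intro x hx
          rw [mem_centralizer_singleton_iff]
          exact (mem_centralizer_iff.mp (hBC hb) x hx)
      rw [mem_centralizer_iff]
      intro l hl
      have := this hl
      rw [mem_centralizer_singleton_iff] at this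
      exact this
    refine ⟨?_, hbL⟩
    rw [hB] at hb
    obtain ⟨a, ha, rfl⟩ := hb
    have hcomm := mem_centralizer_iff.mp hbL g hg
    have : (MulAut.conj g).toMonoidHom a = a := by
      simp only [MulEquiv.toMonoidHom_eq_coe, MonoidHom.coe_coe, MulAut.conj_apply] at hcomm ⊢
      have h3 : g * a * g⁻¹ * g = g * a := by group
      rw [h3] at hcomm
      exact mul_left_cancel hcomm
    rw [this]; exact ha
  have hVA : V ≤ normalizer ((⁅V, X⁆ : Subgroup G) : Set G) := normalizer_commutator_ge_left V X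
  have h2 : W ⊓ centralizer (X : Set G) = ⁅V, X⁆ := by
    apply le_antisymm
    · rintro w ⟨hwW, hwX⟩
      rw [← h1] at hwW
      obtain ⟨a, ha, b, hb, rfl⟩ :=
        exists_mul_of_mem_sup_of_le_normalizer (hBV.trans hVA) hwW
      have hbX : b ∈ centralizer (X : Set G) := by
        have : b = a⁻¹ * (a * b) := by group
        rw [this]
        exact mul_mem (inv_mem (hAC ha)) hwX
      exact mul_mem ha (hkey b hb hbX).1
    · exact le_inf (h1 ▸ le_sup_left) hAC
  refine ⟨h1, h2, ?_⟩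
  apply le_antisymm
  · rintro w ⟨hwW, hwL⟩
    have hwX : w ∈ centralizer (X : Set G) := centralizer_le (by exact_mod_cast hX) hwL
    have hwA : w ∈ ⁅V, X⁆ := h2 ▸ (⟨hwW, hwX⟩ : w ∈ W ⊓ centralizer (X : Set G))
    refine ⟨hwA, ?_⟩
    rw [hB]
    refine ⟨w, hwA, ?_⟩
    have hcomm := mem_centralizer_iff.mp hwL g hg
    simp only [MulEquiv.toMonoidHom_eq_coe, MonoidHom.coe_coe, MulAut.conj_apply]
    rw [hcomm, mul_assoc, mul_inv_cancel, mul_one]
  · rintro w ⟨hwA, hwB⟩
    refine ⟨h1 ▸ le_sup_left (a := ⁅V, X⁆) hwA, ?_⟩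
    exact (hkey w hwB (hAC hwA)).2

end Cfsg.Agent.S2833
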