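import Mathlib
import Cfsg.Prelude.Def_LocalStructure
import Cfsg.Prelude.Def_Amalgam
import Cfsg.Prelude.Def_Solvable
import Cfsg.Agent.Lib.Helper47.LLemB

set_option autoImplicit false
open Cfsg

namespace Cfsg.Agent.S2834

/-- The L-Lemma: let H be a finite group with Sylow p-subgroup T such that H is T-minimal (generated by the conjugates of T, T in exactly one maximal subgroup M), and let A ≤ T with A not contained in O_p(H). Then there is a subgroup L of H containing A·O_p(H) such that (a) A·O_p(L) lies in exactly one maximal subgroup L₀ of L, and L₀ = L ∩ gMg⁻¹ for some g ∈ H; (b) L = ⟨A, xAx⁻¹⟩·O_p(L) for every x ∈ L outside L₀. -/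
theorem result {H : Type*} [Group H] [Finite H] {p : ℕ} [Fact p.Prime] (T : Sylow p H) (hmin : Cfsg.IsMinimalOver (T : Subgroup H)) (M : Subgroup H) (hM : IsCoatom M ∧ (T : Subgroup H) ≤ M) (A : Subgroup H) (hAT : A ≤ (T : Subgroup H)) (hA : ¬ A ≤ Cfsg.pCore p H) : ∃ L : Subgroup H, A ⊔ Cfsg.pCore p H ≤ L ∧ ∃ L₀ : Subgroup H, A ⊔ (Cfsg.pCoreOf p L) ≤ L₀ ∧ L₀ < L ∧ (∀ X : Subgroup H, A ⊔ (Cfsg.pCoreOf p L) ≤ X → X < L → X ≤ L₀) ∧ (∃ g : H, L₀ = L ⊓ ((M : Subgroup H).map (MulAut.conj (g : H)).toMonoidHom)) ∧ ∀ x ∈ L, x ∉ L₀ → (A ⊔ ((A : Subgroup H).map (MulAut.conj (x : H)).toMonoidHom)) ⊔ (Cfsg.pCoreOf p L) = L := by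
  classical
  have hTp : IsPGroup p ((T : Subgroup H)) := T.isPGroup'
  -- `O_p(⊤) = O_p(H)`
  have htop : Cfsg.pCoreOf p (⊤ : Subgroup H) = Cfsg.pCore p H := by
    apply le_antisymm
    · have hn : (Cfsg.pCoreOf p (⊤ : Subgroup H)).Normal :=
        Subgroup.normalizer_eq_top_iff.mp
          (top_le_iff.mp (Cfsg.Agent.Helper23.le_normalizer_pCoreOf (p := p) (⊤ : Subgroup H)))
      exact Cfsg.Agent.Helper47.le_pCore hn (Cfsg.Agent.Helper23.pCoreOf_isPGroup ⊤)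
    · have hn : (Cfsg.pCore p H).Normal := Cfsg.Agent.Helper47.pCore_normal'' p H
      exact Cfsg.Agent.Helper23.le_pCoreOf_of_normal_pgroup le_top
        Cfsg.Agent.Helper47.pCore_isPGroup (le_top.trans (Subgroup.normalizer_eq_top_iff.mpr hn).ge)
  -- the hypothesis of Theorem L for `⊤`, `M`, `T`
  have hyp : Cfsg.Agent.Helper47.LLem.Hyp p (⊤ : Subgroup H) M (T : Subgroup H) := by
    refine ⟨lt_top_iff_ne_top.mpr hM.1.1, ?_, hM.2, hTp, ?_⟩
    · intro hn
      have hMn : M.Normal := Subgroup.normalizer_eq_top_iff.mp (top_le_iff.mp hn)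
      have h1 : Subgroup.normalClosure ((T : Subgroup H) : Set H) ≤ M :=
        Subgroup.normalClosure_le_normal hM.2
      rw [hmin.1] at h1
      exact hM.1.1 (top_le_iff.mp h1)
    · intro X hTX hX
      obtain ⟨M', hM', hXM'⟩ := (eq_top_or_exists_le_coatom X).resolve_left hX.ne
      have e : M' = M := hmin.2.unique ⟨hM', hTX.trans hXM'⟩ hM
      rw [← e]
      exact hXM'
  have hA' : ¬ A ≤ Cfsg.pCoreOf p (⊤ : Subgroup H) := by rw [htop]; exact hA
  obtain ⟨L, g, -, -, hAL, h1, h2, h3, h4⟩ :=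
    Cfsg.Agent.Helper47.LLem.thmAt (p := p) (⊤ : Subgroup H) M (T : Subgroup H) A hyp le_top
      (hTp.to_le hAT) hA'
  rw [htop] at hAL
  exact ⟨L, hAL, L ⊓ Cfsg.Agent.Helper47.cj g M, h1, h2, h3, ⟨g, rfl⟩, h4⟩

end Cfsg.Agent.S2834
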