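import Cfsg.Statements.S2835
import Mathlib
import Cfsg.Agent.Lib.Helper47.Minimal

set_option autoImplicit false
open Cfsg

namespace Cfsg.Agent.S2835

open Subgroup Cfsg.Agent.Helper47
open scoped commutatorElement

theorem result {L : Type*} [Group L] [Finite L] {p : ℕ} [Fact p.Prime] (L₀ : Subgroup L) (hL₀ : IsCoatom L₀) (T : Sylow p ↥L₀) (Y : Subgroup L) (hYT : Y ≤ (T : Subgroup ↥L₀).map L₀.subtype) (hmin : Cfsg.IsMinimalOver Y) : Subgroup.normalizer (((T : Subgroup ↥L₀).map L₀.subtype : Subgroup L) : Set L) ≤ L₀ ∧ Cfsg.pCore p L ≤ L₀ ∧ (∃ P : Sylow p L, (P : Subgroup L) = (T : Subgroup ↥L₀).map L₀.subtype) ∧ Subgroup.normalizer (L₀ : Set L) = L₀ ∧ (∀ g : L, g ∉ L₀ → Y ⊔ Y.map (MulAut.conj g).toMonoidHom = ⊤) ∧ (IsMulCommutative ↥Y → ∀ g : L, g ∉ L₀ → Y ⊓ Y.map (MulAut.conj g).toMonoidHom = Y ⊓ Subgroup.center L) := by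
  obtain ⟨hcl, huniq⟩ := hmin
  set T' : Subgroup L := (T : Subgroup ↥L₀).map L₀.subtype with hT'
  have hT'L₀ : T' ≤ L₀ := map_subtype_le _
  have hYL₀ : Y ≤ L₀ := hYT.trans hT'L₀
  have hT'p : IsPGroup p T' := T.isPGroup'.map _
  -- principle (P)
  have hP : ∀ X : Subgroup L, Y ≤ X → X ≠ ⊤ → X ≤ L₀ := by
    intro X hYX hX
    obtain ⟨M', hM'c, hM'⟩ := (eq_top_or_exists_le_coatom X).resolve_left hX
    obtain ⟨M, -, hMu⟩ := huniq
    have h1 : M' = M := hMu M' ⟨hM'c, hYX.trans hM'⟩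
    have h2 : L₀ = M := hMu L₀ ⟨hL₀, hYL₀⟩
    rw [h2, ← h1]; exact hM'
  -- no proper normal subgroup contains Y
  have hnn : ∀ X : Subgroup L, X.Normal → Y ≤ X → X = ⊤ := by
    intro X hX hYX
    rw [eq_top_iff, ← hcl]
    exact normalClosure_le_normal (by exact_mod_cast hYX)
  have h1 : normalizer (T' : Set L) ≤ L₀ := by
    apply hP _ (hYT.trans le_normalizer)
    intro h
    have hn : T'.Normal := normalizer_eq_top_iff.mp h
    have := hnn T' hn hYT
    exact hL₀.1 (top_le_iff.mp (this ▸ hT'L₀))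
  have h4 : normalizer (L₀ : Set L) = L₀ := by
    rcases eq_or_lt_of_le (le_normalizer (H := L₀)) with h | h
    · exact h.symm
    · have := hL₀.2 _ h
      have hn : L₀.Normal := normalizer_eq_top_iff.mp this
      exact absurd (hnn L₀ hn hYL₀) hL₀.1
  have h3 : ∃ P : Sylow p L, (P : Subgroup L) = T' := by
    obtain ⟨P, hTP⟩ := hT'p.exists_le_sylow
    by_cases hPtop : (P : Subgroup L) = ⊤
    · exfalso
      have hLp : IsPGroup p L := by
        have := P.isPGroup'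
        rw [hPtop] at this
        exact this.of_equiv topEquiv
      haveI : Group.IsNilpotent L := hLp.isNilpotent
      have hn : L₀.Normal := (Group.normalizerCondition_of_isNilpotent).normal_of_coatom L₀ hL₀
      exact absurd (hnn L₀ hn hYL₀) hL₀.1
    · have hPL₀ : (P : Subgroup L) ≤ L₀ := hP _ (hYT.trans hTP) hPtop
      refine ⟨P, ?_⟩
      have h5 : (P : Subgroup L).subgroupOf L₀ = T := by
        apply T.is_maximal' P.isPGroup'.comap_subtype
        intro x hx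
        exact hTP ⟨x, hx, rfl⟩
      rw [hT', ← h5, map_subgroupOf_eq_of_le hPL₀]
  obtain ⟨P, hPT⟩ := h3
  have h2 : pCore p L ≤ L₀ := by
    have := pCore_le_sylow (G := L) (p := p) P
    exact (hPT ▸ this : pCore p L ≤ T').trans hT'L₀
  have h5 : ∀ g : L, g ∉ L₀ → Y ⊔ Y.map (MulAut.conj g).toMonoidHom = ⊤ := by
    intro g hg
    by_contra hne
    have hle := hP _ le_sup_left hne
    have hYg : Y.map (MulAut.conj g).toMonoidHom ≤ L₀ := le_sup_right.trans hle
    obtain ⟨M, ⟨hMc, hYgM⟩, hMu⟩ := existsUnique_coatom_conj huniq g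
    have e1 : L₀ = M := hMu L₀ ⟨hL₀, hYg⟩
    have e2 : L₀.map (MulAut.conj g).toMonoidHom = M :=
      hMu _ ⟨(OrderIso.isCoatom_iff (MulAut.conj g).mapSubgroup L₀).2 hL₀, map_mono hYL₀⟩
    have : g ∈ normalizer (L₀ : Set L) :=
      mem_normalizer_iff_map_conj_eq.mpr (e2.trans e1.symm)
    rw [h4] at this
    exact hg this
  refine ⟨h1, h2, ⟨P, hPT⟩, h4, h5, ?_⟩
  intro hYc g hg
  apply le_antisymm
  · intro x hx
    rw [mem_inf] at hx ⊢
    obtain ⟨hxY, hxYg⟩ := hx
    refine ⟨hxY, ?_⟩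
    have hc1 : Y ≤ centralizer ({x} : Set L) := by
      intro y hy
      rw [mem_centralizer_singleton_iff]
      have := hYc.is_comm.comm ⟨y, hy⟩ ⟨x, hxY⟩
      exact congrArg Subtype.val this
    have hc2 : Y.map (MulAut.conj g).toMonoidHom ≤ centralizer ({x} : Set L) := by
      rintro _ ⟨y, hy, rfl⟩
      obtain ⟨x', hx', rfl⟩ := hxYg
      rw [mem_centralizer_singleton_iff]
      have := hYc.is_comm.comm ⟨y, hy⟩ ⟨x', hx'⟩
      have h' : y * x' = x' * y := congrArg Subtype.val this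
      simp only [MulEquiv.toMonoidHom_eq_coe, MonoidHom.coe_coe, MulAut.conj_apply]
      calc g * y * g⁻¹ * (g * x' * g⁻¹) = g * (y * x') * g⁻¹ := by group
        _ = g * (x' * y) * g⁻¹ := by rw [h']
        _ = g * x' * g⁻¹ * (g * y * g⁻¹) := by group
    have hc : (⊤ : Subgroup L) ≤ centralizer ({x} : Set L) := (h5 g hg) ▸ sup_le hc1 hc2
    rw [mem_center_iff]
    intro z
    have := hc (mem_top z)
    rw [mem_centralizer_singleton_iff] at this
    exact this
  · intro x hx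
    rw [mem_inf] at hx ⊢
    obtain ⟨hxY, hxZ⟩ := hx
    refine ⟨hxY, x, hxY, ?_⟩
    simp only [MulEquiv.toMonoidHom_eq_coe, MonoidHom.coe_coe, MulAut.conj_apply]
    rw [mem_center_iff] at hxZ
    rw [hxZ g, mul_assoc, mul_inv_cancel, mul_one]

end Cfsg.Agent.S2835
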