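import Mathlib
import Cfsg.Statements.S2836
import Cfsg.Agent.Lib.Helper23.YMin

set_option autoImplicit false
open Cfsg

namespace Cfsg.Agent.S2836

open Cfsg.Agent.Helper23

/-- Let L be a finite group, L₀ a maximal subgroup, T a Sylow p-subgroup of L₀, Y ≤ T, and suppose L is Y-minimal. Let D be the intersection of the conjugates of L₀ (the core of L₀). Then D contains O_p(L) and D/O_p(L) is the Frattini subgroup of L/O_p(L), so D is p-closed; and every normal subgroup N of L contained in L₀ is p-closed with N/O_p(N) a nilpotent group of order prime to p. -/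
theorem result {L : Type*} [Group L] [Finite L] {p : ℕ} [Fact p.Prime] (L₀ : Subgroup L) (hL₀ : IsCoatom L₀) (T : Sylow p ↥L₀) (Y : Subgroup L) (hYT : Y ≤ (T : Subgroup ↥L₀).map L₀.subtype) (hmin : Cfsg.IsMinimalOver Y) : (Cfsg.pCore p L ≤ L₀.normalCore ∧ (L₀.normalCore).map (QuotientGroup.mk' (Cfsg.pCore p L)) = frattini (L ⧸ Cfsg.pCore p L) ∧ Cfsg.IsPClosed p ↥(L₀.normalCore)) ∧ ∀ (N : Subgroup L) [N.Normal], N ≤ L₀ → Cfsg.IsPClosed p ↥N ∧ Group.IsNilpotent (↥N ⧸ Cfsg.pCore p ↥N) ∧ (Nat.card (↥N ⧸ Cfsg.pCore p ↥N)).Coprime p := by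
  classical
  have hTp : IsPGroup p ((T : Subgroup ↥L₀).map L₀.subtype) := T.2.map _
  have hYp : IsPGroup p Y := hTp.to_le hYT
  have hYL : Y ≤ L₀ := hYT.trans (Subgroup.map_subtype_le _)
  obtain ⟨hncl, M₀, ⟨hM₀c, hM₀Y⟩, hM₀u⟩ := hmin
  have huniq : ∀ M : Subgroup L, IsCoatom M → Y ≤ M → M = L₀ := fun M hM hYM =>
    (hM₀u M ⟨hM, hYM⟩).trans (hM₀u L₀ ⟨hL₀, hYL⟩).symm
  obtain ⟨S, hYS⟩ := hYp.exists_le_sylow
  have hOL : Cfsg.pCore p L ≤ L₀ := yMin_pCore_le hL₀ hYp hYL hncl huniq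
  have hOD : Cfsg.pCore p L ≤ L₀.normalCore := Subgroup.normal_le_normalCore.mpr hOL
  have hF := yMin_map_normalCore_eq_frattini hL₀ S hYS huniq (Cfsg.pCore p L) rfl hOL
  have hDn : (L₀.normalCore).Normal := Subgroup.normalCore_normal L₀
  refine ⟨⟨hOD, hF,
    (yMin_normal_sub hL₀ S hYS huniq L₀.normalCore (Subgroup.normalCore_le L₀)).1⟩, ?_⟩
  intro N _ hN
  obtain ⟨hcl, hcore, hidx⟩ := yMin_normal_sub hL₀ S hYS huniq N hN
  refine ⟨hcl, ?_, ?_⟩
  · have hND : N ≤ L₀.normalCore := Subgroup.normal_le_normalCore.mpr hN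
    let ψ : ↥N →* L ⧸ Cfsg.pCore p L := (QuotientGroup.mk' (Cfsg.pCore p L)).comp N.subtype
    have hker : ψ.ker = Cfsg.pCore p ↥N := by
      rw [hcore]
      ext x
      simp [ψ, MonoidHom.mem_ker, Subgroup.mem_subgroupOf, QuotientGroup.eq_one_iff]
    have hrange : ψ.range ≤ frattini (L ⧸ Cfsg.pCore p L) := by
      rw [← hF]
      rintro _ ⟨x, rfl⟩
      exact Subgroup.mem_map_of_mem _ (hND x.2)
    have hnil : Group.IsNilpotent ↥(frattini (L ⧸ Cfsg.pCore p L)) := frattini_nilpotent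
    have hnil2 : Group.IsNilpotent ↥(ψ.range.subgroupOf (frattini (L ⧸ Cfsg.pCore p L))) :=
      inferInstance
    have hnil3 : Group.IsNilpotent ↥ψ.range :=
      Group.nilpotent_of_mulEquiv (Subgroup.subgroupOfEquivOfLe hrange)
    have hnil4 : Group.IsNilpotent (↥N ⧸ ψ.ker) :=
      Group.nilpotent_of_mulEquiv (QuotientGroup.quotientKerEquivRange ψ).symm
    exact Group.nilpotent_of_mulEquiv (QuotientGroup.quotientMulEquivOfEq hker)
  · rw [← Subgroup.index_eq_card]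
    exact ((Nat.Prime.coprime_iff_not_dvd Fact.out).mpr hidx).symm

end Cfsg.Agent.S2836
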