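import Mathlib
import Cfsg.Statements.S2837
import Cfsg.Agent.Lib.Helper23.YMin2
import Cfsg.Agent.Lib.Helper2.PGroup
import Cfsg.Agent.Lib.Helper47.Frat

set_option autoImplicit false
open Cfsg

namespace Cfsg.Agent.S2837

open Cfsg.Agent.Helper23
open scoped commutatorElement

/-- Let L be a finite group of characteristic p, L₀ a maximal subgroup, Y an elementary abelian p-subgroup of L₀ with L Y-minimal and O_p(L) ≤ N_L(Y). Put A = the normal closure of O_p(L) ∩ Y in L. Then for every g ∈ L outside L₀: Φ(A) = A' = [A ∩ Y, A] = [A ∩ Y, A ∩ gYg⁻¹] ≤ C_Y(L), and Y ∩ gYg⁻¹ = (A ∩ Y) ∩ (A ∩ gYg⁻¹) = C_Y(L) = C_A(L). -/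
theorem result {L : Type*} [Group L] [Finite L] {p : ℕ} [Fact p.Prime] (hchar : Subgroup.centralizer (Cfsg.pCore p L : Set L) ≤ Cfsg.pCore p L) (L₀ : Subgroup L) (hL₀ : IsCoatom L₀) (Y : Subgroup L) (hYL₀ : Y ≤ L₀) (hYel : Cfsg.IsElementaryAbelian p Y) (hmin : Cfsg.IsMinimalOver Y) (hOY : Cfsg.pCore p L ≤ Subgroup.normalizer (Y : Set L)) (A : Subgroup L) (hA : A = Subgroup.normalClosure (((Cfsg.pCore p L ⊓ Y : Subgroup L)) : Set L)) (g : L) (hg : g ∉ L₀) : (frattini ↥A).map A.subtype = ⁅A, A⁆ ∧ ⁅A, A⁆ = ⁅A ⊓ Y, A⁆ ∧ ⁅A ⊓ Y, A⁆ = ⁅A ⊓ Y, A ⊓ Y.map (MulAut.conj g).toMonoidHom⁆ ∧ ⁅A ⊓ Y, A⁆ ≤ Y ⊓ Subgroup.center L ∧ Y ⊓ Y.map (MulAut.conj g).toMonoidHom = Y ⊓ Subgroup.center L ∧ (A ⊓ Y) ⊓ (A ⊓ Y.map (MulAut.conj g).toMonoidHom) = Y ⊓ Subgroup.center L ∧ A ⊓ Subgroup.center L = Y ⊓ Subgroup.center L := by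
  classical
  have hQn : (Cfsg.pCore p L).Normal := pCore_normal' p L
  have hQp : IsPGroup p (Cfsg.pCore p L) := pCore_isPGroup p L
  obtain ⟨hncl, M₀, ⟨hM₀c, hM₀Y⟩, hM₀u⟩ := hmin
  have huniq : ∀ M : Subgroup L, IsCoatom M → Y ≤ M → M = L₀ := fun M hM hYM =>
    (hM₀u M ⟨hM, hYM⟩).trans (hM₀u L₀ ⟨hL₀, hYL₀⟩).symm
  have hYc : ∀ a ∈ Y, ∀ b ∈ Y, a * b = b * a := by
    intro a ha b hb
    exact congrArg Subtype.val (hYel.1.is_comm.comm ⟨a, ha⟩ ⟨b, hb⟩)
  set Q := Cfsg.pCore p L with hQdef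
  set Yg := Y.map (MulAut.conj g).toMonoidHom with hYg
  have hYgc : ∀ a ∈ Yg, ∀ b ∈ Yg, a * b = b * a := by
    intro a ha b hb
    have ha' : g⁻¹ * a * g ∈ Y := mem_cj.mp ha
    have hb' : g⁻¹ * b * g ∈ Y := mem_cj.mp hb
    have h := hYc _ ha' _ hb'
    calc a * b = g * ((g⁻¹ * a * g) * (g⁻¹ * b * g)) * g⁻¹ := by group
      _ = g * ((g⁻¹ * b * g) * (g⁻¹ * a * g)) * g⁻¹ := by rw [h]
      _ = b * a := by group
  have htop : Y ⊔ Yg = ⊤ := yMin_sup_cj_eq_top hL₀ hYL₀ hncl huniq hg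
  have hQYg : Q ≤ Subgroup.normalizer (Yg : Set L) := by
    intro q hq
    rw [hYg, mem_normalizer_cj]
    apply hOY
    have := hQn.conj_mem q hq g⁻¹
    simpa using this
  have hcen : ∀ x : L, (∀ y ∈ Y, x * y = y * x) → (∀ y ∈ Yg, x * y = y * x) →
      x ∈ Subgroup.center L := by
    intro x h1 h2
    have hle : (⊤ : Subgroup L) ≤ Subgroup.centralizer {x} := by
      rw [← htop]
      apply sup_le
      · intro y hy
        rw [Subgroup.mem_centralizer_iff]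
        intro z hz
        rw [Set.mem_singleton_iff] at hz
        subst hz
        exact h1 y hy
      · intro y hy
        rw [Subgroup.mem_centralizer_iff]
        intro z hz
        rw [Set.mem_singleton_iff] at hz
        subst hz
        exact h2 y hy
    rw [Subgroup.mem_center_iff]
    intro z
    have := hle (Subgroup.mem_top z)
    rw [Subgroup.mem_centralizer_iff] at this
    exact (this x rfl).symm
  have hZ1 : Y ⊓ Yg ≤ Subgroup.center L := by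
    intro x hx
    exact hcen x (fun y hy => hYc x hx.1 y hy) (fun y hy => hYgc x hx.2 y hy)
  have hZ2 : Y ⊓ Subgroup.center L ≤ Yg := by
    intro z hz
    rw [hYg, mem_cj]
    have hc := Subgroup.mem_center_iff.mp hz.2
    have : g⁻¹ * z * g = z := by
      rw [mul_assoc, ← hc g]; group
    rw [this]; exact hz.1
  have hZ3 : Yg ⊓ Subgroup.center L ≤ Y := by
    intro z hz
    have h1 : g⁻¹ * z * g ∈ Y := mem_cj.mp hz.1
    have hc := Subgroup.mem_center_iff.mp hz.2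
    have : g⁻¹ * z * g = z := by
      rw [mul_assoc, ← hc g]; group
    rwa [this] at h1
  have h5 : Y ⊓ Yg = Y ⊓ Subgroup.center L :=
    le_antisymm (le_inf inf_le_left hZ1) (le_inf inf_le_left hZ2)
  have hZQ : Subgroup.center L ≤ Q := (Subgroup.center_le_centralizer _).trans hchar
  -- the two factors
  have hBn : ((Q ⊓ Y) ⊔ (Q ⊓ Yg)).Normal := by
    rw [← Subgroup.normalizer_eq_top_iff, eq_top_iff, ← htop]
    apply sup_le
    · exact le_normalizer_inf_sup_inf Q Y Yg hYc hOY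
    · have := le_normalizer_inf_sup_inf Q Yg Y hYgc hQYg
      rwa [sup_comm] at this
  have hAB : A = (Q ⊓ Y) ⊔ (Q ⊓ Yg) := by
    rw [hA]
    apply le_antisymm
    · apply Subgroup.normalClosure_le_normal
      exact (le_sup_left : Q ⊓ Y ≤ (Q ⊓ Y) ⊔ (Q ⊓ Yg))
    · apply sup_le
      · exact Subgroup.le_normalClosure
      · intro x hx
        have hx' : g⁻¹ * x * g ∈ Q ⊓ Y := by
          refine ⟨?_, mem_cj.mp hx.2⟩
          have := hQn.conj_mem x hx.1 g⁻¹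
          simpa using this
        have h1 : g⁻¹ * x * g ∈ Subgroup.normalClosure ((Q ⊓ Y : Subgroup L) : Set L) :=
          Subgroup.le_normalClosure hx'
        have h2 := (Subgroup.normalClosure_normal (s := ((Q ⊓ Y : Subgroup L) : Set L))).conj_mem
          _ h1 g
        have e : g * (g⁻¹ * x * g) * g⁻¹ = x := by group
        rwa [e] at h2
  clear hA
  subst hAB
  have hninf : ∀ V : Subgroup L, Subgroup.normalizer (V : Set L) ≤
      Subgroup.normalizer ((Q ⊓ V : Subgroup L) : Set L) := by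
    intro V a ha
    rw [Subgroup.mem_set_normalizer_iff] at ha ⊢
    intro x
    have hnQ : x ∈ Q ↔ a * x * a⁻¹ ∈ Q :=
      ⟨fun hx => hQn.conj_mem x hx a, fun hx => by
        have := hQn.conj_mem _ hx a⁻¹
        simpa [mul_assoc] using this⟩
    show x ∈ Q ⊓ V ↔ a * x * a⁻¹ ∈ Q ⊓ V
    have hV : x ∈ V ↔ a * x * a⁻¹ ∈ V := ha x
    rw [Subgroup.mem_inf, Subgroup.mem_inf, ← hnQ, ← hV]
  have hn1 : Q ⊓ Y ≤ Subgroup.normalizer ((Q ⊓ Yg : Subgroup L) : Set L) :=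
    (inf_le_left.trans hQYg).trans (hninf Yg)
  have hn2 : Q ⊓ Yg ≤ Subgroup.normalizer ((Q ⊓ Y : Subgroup L) : Set L) :=
    (inf_le_left.trans hOY).trans (hninf Y)
  have hBQ : (Q ⊓ Y) ⊔ (Q ⊓ Yg) ≤ Q := sup_le inf_le_left inf_le_left
  have hBY : ((Q ⊓ Y) ⊔ (Q ⊓ Yg)) ⊓ Y = Q ⊓ Y :=
    le_antisymm (le_inf (inf_le_left.trans hBQ) inf_le_right) (le_inf le_sup_left inf_le_right)
  have hBYg : ((Q ⊓ Y) ⊔ (Q ⊓ Yg)) ⊓ Yg = Q ⊓ Yg :=
    le_antisymm (le_inf (inf_le_left.trans hBQ) inf_le_right) (le_inf le_sup_right inf_le_right)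
  have hC1 : ⁅Q ⊓ Y, Q ⊓ Yg⁆ ≤ (Q ⊓ Y) ⊓ (Q ⊓ Yg) := by
    rw [Subgroup.commutator_le]
    intro a ha b hb
    refine Subgroup.mem_inf.mpr ⟨?_, ?_⟩
    · have hb' := hn2 hb
      rw [Subgroup.mem_set_normalizer_iff] at hb'
      have e : ⁅a, b⁆ = a * (b * a⁻¹ * b⁻¹) := by
        simp only [commutatorElement_def]; group
      rw [e]
      exact mul_mem ha ((hb' a⁻¹).mp (inv_mem ha))
    · have ha' := hn1 ha
      rw [Subgroup.mem_set_normalizer_iff] at ha'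
      rw [commutatorElement_def]
      exact mul_mem ((ha' b).mp hb) (inv_mem hb)
  have hCcen : ⁅Q ⊓ Y, Q ⊓ Yg⁆ ≤ Y ⊓ Subgroup.center L := by
    refine hC1.trans ?_
    rw [← h5]
    exact inf_le_inf inf_le_right inf_le_right
  have hCn : (⁅Q ⊓ Y, Q ⊓ Yg⁆).Normal := by
    refine ⟨fun n hn x => ?_⟩
    have := Subgroup.mem_center_iff.mp (hCcen hn).2 x
    have e : x * n * x⁻¹ = n := by rw [this]; group
    rw [e]; exact hn
  have hBcl : (Q ⊓ Y) ⊔ (Q ⊓ Yg) =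
      Subgroup.closure (((Q ⊓ Y : Subgroup L) : Set L) ∪ ((Q ⊓ Yg : Subgroup L) : Set L)) := by
    rw [Subgroup.closure_union, Subgroup.closure_eq, Subgroup.closure_eq]
  have hgen : ∀ a ∈ (((Q ⊓ Y : Subgroup L) : Set L) ∪ ((Q ⊓ Yg : Subgroup L) : Set L)),
      ∀ b ∈ (((Q ⊓ Y : Subgroup L) : Set L) ∪ ((Q ⊓ Yg : Subgroup L) : Set L)),
      ⁅a, b⁆ ∈ ⁅Q ⊓ Y, Q ⊓ Yg⁆ := by
    rintro a (ha | ha) b (hb | hb)
    · have : ⁅a, b⁆ = 1 := by
        rw [commutatorElement_eq_one_iff_mul_comm]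
        exact hYc a ha.2 b hb.2
      rw [this]; exact one_mem _
    · exact Subgroup.commutator_mem_commutator ha hb
    · have h := Subgroup.commutator_mem_commutator hb ha
      have := inv_mem h
      rwa [commutatorElement_inv] at this
    · have : ⁅a, b⁆ = 1 := by
        rw [commutatorElement_eq_one_iff_mul_comm]
        exact hYgc a ha.2 b hb.2
      rw [this]; exact one_mem _
  have hBB : ⁅(Q ⊓ Y) ⊔ (Q ⊓ Yg), (Q ⊓ Y) ⊔ (Q ⊓ Yg)⁆ = ⁅Q ⊓ Y, Q ⊓ Yg⁆ := by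
    apply le_antisymm
    · rw [Subgroup.commutator_le]
      intro a ha b hb
      rw [hBcl] at ha hb
      exact commutator_mem_of_closure _ _ hgen ha hb
    · exact Subgroup.commutator_mono le_sup_left le_sup_right
  have hBB2 : ⁅Q ⊓ Y, (Q ⊓ Y) ⊔ (Q ⊓ Yg)⁆ = ⁅Q ⊓ Y, Q ⊓ Yg⁆ := by
    apply le_antisymm
    · rw [← hBB]
      exact Subgroup.commutator_mono le_sup_left le_rfl
    · exact Subgroup.commutator_mono le_rfl le_sup_right
  have hZB : Y ⊓ Subgroup.center L ≤ (Q ⊓ Y) ⊔ (Q ⊓ Yg) := by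
    intro z hz
    exact Subgroup.mem_sup_left ⟨hZQ hz.2, hz.1⟩
  rw [hBY, hBYg, hBB, hBB2]
  refine ⟨?_, rfl, rfl, hCcen, h5, ?_, ?_⟩
  · rw [← hBB, ← Subgroup.map_subtype_commutator]
    congr 1
    have hBp : IsPGroup p ↥((Q ⊓ Y) ⊔ (Q ⊓ Yg)) := hQp.to_le hBQ
    have hYgpow : ∀ b ∈ Yg, b ^ p = 1 := by
      intro b hb
      have h1 : (g⁻¹ * b * g) ^ p = 1 := hYel.2 _ (mem_cj.mp hb)
      have e : b = g * (g⁻¹ * b * g) * g⁻¹ := by group
      rw [e, conj_pow, h1]; group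
    apply le_antisymm
    · have h := Cfsg.Agent.Helper47.frattini_le_ker_of_elementary (p := p)
        (Abelianization.of : ↥((Q ⊓ Y) ⊔ (Q ⊓ Yg)) →* Abelianization ↥((Q ⊓ Y) ⊔ (Q ⊓ Yg)))
        (fun x y => mul_comm _ _) ?_
      · rwa [Abelianization.ker_of] at h
      · intro x
        obtain ⟨a, ha, b, hb, hxab⟩ := mem_sup_of_le_normalizer hn1 x.2
        have hx : x = (⟨a, Subgroup.mem_sup_left ha⟩ : ↥((Q ⊓ Y) ⊔ (Q ⊓ Yg))) *
            ⟨b, Subgroup.mem_sup_right hb⟩ := Subtype.ext hxab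
        rw [hx, map_mul, mul_pow, ← map_pow, ← map_pow]
        have e1 : (⟨a, Subgroup.mem_sup_left ha⟩ : ↥((Q ⊓ Y) ⊔ (Q ⊓ Yg))) ^ p = 1 :=
          Subtype.ext (hYel.2 a ha.2)
        have e2 : (⟨b, Subgroup.mem_sup_right hb⟩ : ↥((Q ⊓ Y) ⊔ (Q ⊓ Yg))) ^ p = 1 :=
          Subtype.ext (hYgpow b hb.2)
        rw [e1, e2, map_one, mul_one]
    · exact Cfsg.Agent.Helper2.commutator_le_frattini hBp
  · apply le_antisymm
    · rw [← h5]
      exact inf_le_inf inf_le_right inf_le_right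
    · intro z hz
      exact ⟨⟨hZQ hz.2, hz.1⟩, ⟨hZQ hz.2, hZ2 hz⟩⟩
  · apply le_antisymm
    · intro z hz
      refine ⟨?_, hz.2⟩
      obtain ⟨a, ha, b, hb, hzab⟩ := mem_sup_of_le_normalizer hn1 hz.1
      have hzc := Subgroup.mem_center_iff.mp hz.2
      have hbc : b ∈ Subgroup.center L := by
        apply hcen
        · intro y hy
          have h1 := hzc y
          rw [hzab] at h1
          have h2 : y * a = a * y := hYc y hy a ha.2
          have : a * (y * b) = a * (b * y) := by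
            calc a * (y * b) = (a * y) * b := by group
              _ = y * a * b := by rw [h2]
              _ = y * (a * b) := by group
              _ = a * b * y := h1
              _ = a * (b * y) := by group
          exact (mul_left_cancel this).symm
        · intro y hy
          exact hYgc b hb.2 y hy
      have hbY : b ∈ Y := hZ3 ⟨hb.2, hbc⟩
      rw [hzab]
      exact mul_mem ha.2 hbY
    · exact le_inf hZB inf_le_right

end Cfsg.Agent.S2837
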