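import Cfsg.Statements.S2839
import Mathlib
import Cfsg.Agent.Lib.Helper47.WC2

set_option autoImplicit false
open Cfsg

namespace Cfsg.Agent.S2839

open Subgroup Cfsg.Agent.Helper47

theorem map_cj {H H' : Type*} [Group H] [Group H'] (f : H →* H') (g : H) (Q : Subgroup H) :
    (cj g Q).map f = cj (f g) (Q.map f) := by
  unfold cj
  rw [map_map, map_map]
  congr 1
  ext x
  simp

theorem result {H : Type*} [Group H] [Finite H] {p : ℕ} [Fact p.Prime] (Q : Subgroup H) (hQp : IsPGroup p ↥Q) (hQ1 : Q ≠ ⊥) (hwc : Cfsg.IsWeaklyClosedSubgroup p Q) (K : Subgroup H) (hQK : Q ≤ K) (N' : Subgroup H) [N'.Normal] : Cfsg.IsWeaklyClosedSubgroup p (Q.subgroupOf K) ∧ (∀ g : H, ((Q : Subgroup H).map (MulAut.conj (g : H)).toMonoidHom) ≤ K → ∃ k ∈ K, ((Q : Subgroup H).map (MulAut.conj (g : H)).toMonoidHom) = ((Q : Subgroup H).map (MulAut.conj (k : H)).toMonoidHom)) ∧ Cfsg.IsParabolic p ((Subgroup.normalizer ((Q : Subgroup H) : Set H)).subgroupOf K) ∧ (N' ⊓ Subgroup.normalizer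 ((Q : Subgroup H) : Set H)) ⊔ (Cfsg.pResidual p ↥N').map N'.subtype = N' ∧ Cfsg.IsWeaklyClosedSubgroup p (Q.map (QuotientGroup.mk' N')) := by
  have hU := wcu_of_isWeaklyClosedSubgroup hwc
  have hA := wca_of_wcu hQp hU
  refine ⟨?_, ?_, ?_, ?_, ?_⟩
  · have hwK : WCU p (Q.subgroupOf K) := by
      intro R hR k₁ k₂ h1 h2
      apply map_injective K.subtype_injective
      rw [map_subtype_cj, map_subtype_cj, map_subgroupOf_eq_of_le hQK]
      apply hU (R.map K.subtype) (hR.map _)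
      · have := map_mono (f := K.subtype) h1
        rwa [map_subtype_cj, map_subgroupOf_eq_of_le hQK] at this
      · have := map_mono (f := K.subtype) h2
        rwa [map_subtype_cj, map_subgroupOf_eq_of_le hQK] at this
    exact isWeaklyClosedSubgroup_of_wcu (hQp.comap_subtype (K := K)) hwK
  · intro g hg
    exact exists_cj_eq_of_wcu hQp hU K hQK g hg
  · obtain ⟨T, hT⟩ := (hQp.comap_subtype (K := K)).exists_le_sylow
    refine ⟨T, ?_⟩
    have hQT : Q ≤ (T : Subgroup K).map K.subtype := by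
      intro q hq
      exact ⟨⟨q, hQK hq⟩, hT (show (⟨q, hQK hq⟩ : K) ∈ comap K.subtype Q from hq), rfl⟩
    have := le_normalizer_of_wca hA _ (T.isPGroup'.map _) hQT
    intro x hx
    rw [mem_subgroupOf]
    exact this ⟨x, hx, rfl⟩
  · exact inf_normalizer_sup_pResidual_eq hQp hA N'
  · obtain ⟨T, hQT, hT⟩ := hwc
    have hsurj : Function.Surjective (QuotientGroup.mk' N') := QuotientGroup.mk'_surjective N'
    refine ⟨T.mapSurjective hsurj, map_mono hQT, ?_⟩
    intro gbar hgbar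
    obtain ⟨g, rfl⟩ := hsurj gbar
    rw [Sylow.coe_mapSurjective] at hgbar
    change cj (QuotientGroup.mk' N' g) (Q.map (QuotientGroup.mk' N')) ≤ _ at hgbar
    change cj (QuotientGroup.mk' N' g) (Q.map (QuotientGroup.mk' N')) = _
    rw [← map_cj] at hgbar ⊢
    rw [map_le_iff_le_comap, comap_map_eq, QuotientGroup.ker_mk'] at hgbar
    -- T is a Sylow of X = T ⊔ N'
    obtain ⟨x, hx, hle⟩ := exists_le_cj_sylow_of_le ((T : Subgroup H) ⊔ N')
      (T.subtype le_sup_left) (cj_isPGroup (a := g) hQp) hgbar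
    rw [Sylow.coe_subtype, map_subgroupOf_eq_of_le le_sup_left] at hle
    rw [sup_comm] at hx
    obtain ⟨n, hn, t, ht, rfl⟩ := mem_sup_of_normal_left.mp hx
    rw [cj_mul, cj_eq_self_of_mem ht] at hle
    have h3 : cj n⁻¹ (cj g Q) ≤ (T : Subgroup H) := by rw [cj_le_iff, inv_inv]; exact hle
    rw [← cj_mul] at h3
    have h4 : cj (n⁻¹ * g) Q = Q := hT (n⁻¹ * g) h3
    rw [cj_mul, cj_eq_iff, inv_inv] at h4
    rw [h4, map_cj]
    have : (QuotientGroup.mk' N') n = 1 := (QuotientGroup.eq_one_iff n).2 hn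
    rw [this, cj_one]

end Cfsg.Agent.S2839
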