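import Cfsg.Statements.S2840
import Mathlib
import Cfsg.Agent.Lib.Helper47.WC3

set_option autoImplicit false
open Cfsg

namespace Cfsg.Agent.S2840

open Subgroup Cfsg.Agent.Helper47

theorem result {H : Type*} [Group H] [Finite H] {p : ℕ} [Fact p.Prime] (Q : Subgroup H) (hQp : IsPGroup p ↥Q) (hQ1 : Q ≠ ⊥) (hwc : Cfsg.IsWeaklyClosedSubgroup p Q) (K : Subgroup H) (hQK : Q ≤ K) (Kc : Subgroup H) (hKc : Kc = Cfsg.weakClosure Q K) : Kc = ⨆ k : ↥K, ((Q : Subgroup H).map (MulAut.conj ((k : H) : H)).toMonoidHom) ∧ Kc = (Cfsg.subnormalClosure (Q.subgroupOf K)).map K.subtype := by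
  have hU := wcu_of_isWeaklyClosedSubgroup hwc
  have h1 : Kc = ⨆ k : ↥K, cj (k : H) Q := by
    rw [hKc]
    unfold weakClosure
    apply le_antisymm
    · apply iSup_le
      rintro ⟨g, hg⟩
      obtain ⟨k, hk, hgk⟩ := exists_cj_eq_of_wcu hQp hU K hQK g hg
      show cj g Q ≤ _
      rw [hgk]
      exact le_iSup (fun k : K => cj (k : H) Q) ⟨k, hk⟩
    · apply iSup_le
      intro k
      have hk : cj (k : H) Q ≤ K := by
        have := cj_mono (a := (k : H)) hQK
        rwa [cj_eq_self_of_mem k.2] at this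
      exact le_iSup (fun g : {g : H // Q.map (MulAut.conj g).toMonoidHom ≤ K} =>
        Q.map (MulAut.conj (g : H)).toMonoidHom) ⟨k, hk⟩
  refine ⟨h1, ?_⟩
  have h2 := subnormalClosure_eq_iSup_cj (Q := Q.subgroupOf K) (hQp.comap_subtype (K := K))
    (wcu_subgroupOf hU hQK)
  rw [h1, h2, Subgroup.map_iSup]
  congr 1
  ext k
  rw [map_subtype_cj, map_subgroupOf_eq_of_le hQK]

end Cfsg.Agent.S2840
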