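import Cfsg.Statements.S2841
import Mathlib
import Cfsg.Agent.Lib.Helper23.Weak

set_option autoImplicit false
open Cfsg

namespace Cfsg.Agent.S2841

open Cfsg.Agent.Helper23
open scoped commutatorElement

/-- Let Q be a nontrivial p-subgroup of the finite group H that is a weakly closed subgroup and N a normal subgroup of H. Then N = N_N(Q)·[N, Q] and [N, Q] = (Q ∩ [N, Q])·[N, Q, Q]. -/
theorem result {H : Type*} [Group H] [Finite H] {p : ℕ} [Fact p.Prime] (Q : Subgroup H) (hQp : IsPGroup p ↥Q) (hQ1 : Q ≠ ⊥) (hwc : Cfsg.IsWeaklyClosedSubgroup p Q) (N' : Subgroup H) [N'.Normal] : (∀ n : H, n ∈ N' → ∃ a ∈ N' ⊓ Subgroup.normalizer ((Q : Subgroup H) : Set H), ∃ b ∈ ⁅N', Q⁆, n = a * b) ∧ (∀ c : H, c ∈ ⁅N', Q⁆ → ∃ a ∈ Q ⊓ ⁅N', Q⁆, ∃ b ∈ ⁅⁅N', Q⁆, Q⁆, c = a * b) := by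
  have hW := weaklyClosedAll_of_isWeaklyClosedSubgroup hwc
  set R := ⁅N', Q⁆ with hR
  have hRN : R ≤ N' := Subgroup.commutator_le_left N' Q
  have hQNQ : Q ≤ Subgroup.normalizer (Q : Set H) := Subgroup.le_normalizer
  -- anything normalizing Q normalizes R
  have hNR : Subgroup.normalizer (Q : Set H) ≤ Subgroup.normalizer (R : Set H) := by
    intro a ha
    rw [mem_normalizer_iff_cj_eq]
    unfold cj
    rw [hR, Subgroup.map_commutator]
    have e1 : Subgroup.map (MulAut.conj a).toMonoidHom N' = N' :=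
      cj_eq_of_mem_normalizer (by rw [Subgroup.normalizer_eq_top]; exact Subgroup.mem_top a)
    have e2 : Subgroup.map (MulAut.conj a).toMonoidHom Q = Q := cj_eq_of_mem_normalizer ha
    rw [e1, e2]
  have hQR : Q ≤ Subgroup.normalizer (R : Set H) := hQNQ.trans hNR
  -- part (1)
  have h1 : ∀ n : H, n ∈ N' → ∃ a ∈ N' ⊓ Subgroup.normalizer ((Q : Subgroup H) : Set H),
      ∃ b ∈ R, n = a * b := by
    intro n hn
    have hcj : cj Q n ≤ Q ⊔ R := by
      intro x hx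
      have hx' := mem_cj.mp hx
      -- x = n * (n⁻¹ x n) * n⁻¹ = ⁅n, q⁆ * q with q = n⁻¹ x n
      have e : x = ⁅n, n⁻¹ * x * n⁆ * (n⁻¹ * x * n) := by
        rw [commutatorElement_def]; group
      rw [e]
      exact Subgroup.mul_mem _
        ((le_sup_right : R ≤ Q ⊔ R) (Subgroup.commutator_mem_commutator hn hx'))
        ((le_sup_left : Q ≤ Q ⊔ R) hx')
    obtain ⟨k, hk, hkeq⟩ := exists_cj_eq_of_le hQp hW (le_sup_left : Q ≤ Q ⊔ R) n hcj
    obtain ⟨q, hq, b, hb, hkqb⟩ := mem_sup_of_le_normalizer hQR hk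
    -- a' = k⁻¹ n normalizes Q
    have ha' : k⁻¹ * n ∈ Subgroup.normalizer (Q : Set H) := by
      rw [mem_normalizer_iff_cj_eq, ← cj_cj, hkeq, cj_cj, inv_mul_cancel, cj_one]
    have hqa' : q * (k⁻¹ * n) ∈ Subgroup.normalizer (Q : Set H) :=
      Subgroup.mul_mem _ (hQNQ hq) ha'
    have hb' : (k⁻¹ * n)⁻¹ * b * (k⁻¹ * n) ∈ R := by
      have := hNR (Subgroup.inv_mem _ ha')
      rw [Subgroup.mem_set_normalizer_iff] at this
      have h2 := (this b).mp hb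
      simpa using h2
    have hn_eq : n = q * (k⁻¹ * n) * ((k⁻¹ * n)⁻¹ * b * (k⁻¹ * n)) := by
      have : q * (k⁻¹ * n) * ((k⁻¹ * n)⁻¹ * b * (k⁻¹ * n)) = (q * b) * (k⁻¹ * n) := by group
      rw [this, ← hkqb]; group
    refine ⟨q * (k⁻¹ * n), Subgroup.mem_inf.mpr ⟨?_, hqa'⟩, _, hb', hn_eq⟩
    have : q * (k⁻¹ * n) = n * ((k⁻¹ * n)⁻¹ * b * (k⁻¹ * n))⁻¹ :=
      eq_mul_inv_of_mul_eq hn_eq.symm
    rw [this]
    exact N'.mul_mem hn (N'.inv_mem (hRN hb'))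
  refine ⟨h1, ?_⟩
  -- part (2)
  have hRQ_le : ⁅R, Q⁆ ≤ R := by
    rw [Subgroup.commutator_le]
    intro r hr q hq
    rw [commutatorElement_def]
    have := hQR hq
    rw [Subgroup.mem_set_normalizer_iff] at this
    have h2 : q * r⁻¹ * q⁻¹ ∈ R := (this r⁻¹).mp (R.inv_mem hr)
    have e : r * q * r⁻¹ * q⁻¹ = r * (q * r⁻¹ * q⁻¹) := by group
    rw [e]; exact R.mul_mem hr h2
  have hQRQ : Q ≤ Subgroup.normalizer ((⁅R, Q⁆ : Subgroup H) : Set H) := by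
    intro a ha
    rw [mem_normalizer_iff_cj_eq]
    unfold cj
    rw [Subgroup.map_commutator]
    have e1 : Subgroup.map (MulAut.conj a).toMonoidHom R = R := cj_eq_of_mem_normalizer (hQR ha)
    have e2 : Subgroup.map (MulAut.conj a).toMonoidHom Q = Q := cj_eq_of_mem_normalizer (hQNQ ha)
    rw [e1, e2]
  have hRle : R ≤ Q ⊔ ⁅R, Q⁆ := by
    rw [hR, Subgroup.commutator_le]
    intro n hn q hq
    obtain ⟨a, ha, b, hb, hnab⟩ := h1 n⁻¹ (N'.inv_mem hn)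
    have haN := (Subgroup.mem_inf.mp ha).2
    -- n = b⁻¹ a⁻¹
    have hn_eq : n = b⁻¹ * a⁻¹ := by
      have : n = (n⁻¹)⁻¹ := by simp
      rw [this, hnab]; group
    set q' := a⁻¹ * q * a with hq'
    have hq'Q : q' ∈ Q := by
      have := Subgroup.inv_mem _ haN
      rw [Subgroup.mem_set_normalizer_iff] at this
      have h2 := (this q).mp hq
      simpa using h2
    have e : ⁅n, q⁆ = ⁅b⁻¹, q'⁆ * (q' * q⁻¹) := by
      rw [commutatorElement_def, commutatorElement_def, hn_eq, hq']; group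
    rw [e]
    exact Subgroup.mul_mem _
      ((le_sup_right : ⁅R, Q⁆ ≤ Q ⊔ ⁅R, Q⁆) (Subgroup.commutator_mem_commutator (R.inv_mem hb) hq'Q))
      ((le_sup_left : Q ≤ Q ⊔ ⁅R, Q⁆) (Q.mul_mem hq'Q (Q.inv_mem hq)))
  intro c hc
  obtain ⟨q, hq, b, hb, hcqb⟩ := mem_sup_of_le_normalizer hQRQ (hRle hc)
  refine ⟨q, Subgroup.mem_inf.mpr ⟨hq, ?_⟩, b, hb, hcqb⟩
  have : q = c * b⁻¹ := by rw [hcqb]; group
  rw [this]
  exact R.mul_mem hc (R.inv_mem (hRQ_le hb))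

end Cfsg.Agent.S2841
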