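import Cfsg.Statements.S2844
import Mathlib
import Cfsg.Agent.Lib.Helper23.Large

set_option autoImplicit false
open Cfsg

namespace Cfsg.Agent.S2844

open Cfsg.Agent.Helper23

variable {H : Type*} [Group H]

theorem le_largeBullet [Finite H] {p : ℕ} [Fact p.Prime] {Q : Subgroup H} (hQp : IsPGroup p Q) :
    Q ≤ Cfsg.largeBullet p Q := by
  unfold Cfsg.largeBullet Cfsg.pCoreOf
  have hle : Q ≤ Subgroup.normalizer (Q : Set H) := Subgroup.le_normalizer
  have hmem : Q.subgroupOf (Subgroup.normalizer (Q : Set H)) ∈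
      {N : Subgroup ↥(Subgroup.normalizer (Q : Set H)) | N.Normal ∧ IsPGroup p N} := by
    refine ⟨Subgroup.normal_in_normalizer, ?_⟩
    exact hQp.comap_subtype
  have h1 : Q.subgroupOf (Subgroup.normalizer (Q : Set H)) ≤
      Cfsg.pCore p ↥(Subgroup.normalizer (Q : Set H)) := le_sSup hmem
  have h2 := Subgroup.map_mono (f := (Subgroup.normalizer (Q : Set H)).subtype) h1
  rwa [Subgroup.map_subgroupOf_eq_of_le hle] at h2

theorem largeBullet_isPGroup [Finite H] {p : ℕ} [Fact p.Prime] (Q : Subgroup H) :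
    IsPGroup p ↥(Cfsg.largeBullet p Q) := by
  unfold Cfsg.largeBullet Cfsg.pCoreOf
  exact (pCore_isPGroup p _).map _

theorem normalizer_le_normalizer_largeBullet {p : ℕ} (Q : Subgroup H) :
    Subgroup.normalizer (Q : Set H) ≤ Subgroup.normalizer ((Cfsg.largeBullet p Q : Subgroup H) : Set H) := by
  unfold Cfsg.largeBullet Cfsg.pCoreOf
  have hn : (Cfsg.pCore p ↥(Subgroup.normalizer (Q : Set H))).Normal := pCore_normal' p _
  intro n hn'
  rw [Subgroup.mem_set_normalizer_iff]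
  intro x
  simp only [SetLike.mem_coe, Subgroup.mem_map, Subgroup.coe_subtype]
  constructor
  · rintro ⟨y, hy, rfl⟩
    exact ⟨⟨n, hn'⟩ * y * ⟨n, hn'⟩⁻¹, hn.conj_mem y hy _, by simp⟩
  · rintro ⟨y, hy, hyx⟩
    refine ⟨⟨n, hn'⟩⁻¹ * y * ⟨n, hn'⟩, ?_, ?_⟩
    · have := hn.conj_mem y hy (⟨n, hn'⟩⁻¹)
      simpa using this
    · simp only [Subgroup.coe_mul, Subgroup.coe_inv, hyx]
      group

/-- Let Q be a nontrivial large p-subgroup of the finite group H and Q• = O_p(N_H(Q)). Then for every g ∈ H outside N_H(Q): C_H(Q) ∩ C_H(gQg⁻¹) = 1, C_H(Q•) ∩ C_H(gQ•g⁻¹) = 1, Z(Q) ∩ Z(gQg⁻¹) = 1 and Z(Q•) ∩ Z(gQ•g⁻¹) = 1; moreover N_H(Q) = N_H(Q•) and Q• is large in H. -/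
theorem result {H : Type*} [Group H] [Finite H] {p : ℕ} [Fact p.Prime] (Q : Subgroup H) (hQp : IsPGroup p ↥Q) (hQ1 : Q ≠ ⊥) (hL : Cfsg.IsLarge Q) (Qb : Subgroup H) (hQb : Qb = Cfsg.largeBullet p Q) : (∀ g : H, g ∉ Subgroup.normalizer ((Q : Subgroup H) : Set H) → Subgroup.centralizer ((Q : Subgroup H) : Set H) ⊓ Subgroup.centralizer ((((Q : Subgroup H).map (MulAut.conj (g : H)).toMonoidHom) : Subgroup H) : Set H) = ⊥ ∧ Subgroup.centralizer ((Qb : Subgroup H) : Set H) ⊓ Subgroup.centralizer ((((Qb : Subgroup H).map (MulAut.conj (g : H)).toMonoidHom) : Subgroup H) : Set H) = ⊥ ∧ (Q ⊓ Subgroup.centralizer ((Q : Subgroup H) : Set H)) ⊓ (((Q : Subgroup H).map (MulAut.conj (g : H)).toMonoidHom) ⊓ Subgroup.centralizer ((((Q : Subgroup H).map (MulAut.conj (g : H)).toMonoidHom) : Subgroup H) : Set H)) = ⊥ ∧ (Qb ⊓ Subgroup.centralizer ((Qb : Subgroup H) : Set H)) ⊓ (((Qb : Subgroup H).map (MulAut.conj (g : H)).toMonoidHom) ⊓ Subgroup.centralizer ((((Qb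 : Subgroup H).map (MulAut.conj (g : H)).toMonoidHom) : Subgroup H) : Set H)) = ⊥) ∧ Subgroup.normalizer ((Q : Subgroup H) : Set H) = Subgroup.normalizer ((Qb : Subgroup H) : Set H) ∧ Cfsg.IsLarge Qb := by
  subst hQb
  have hQle : Q ≤ Cfsg.largeBullet p Q := le_largeBullet hQp
  have hQbp : IsPGroup p ↥(Cfsg.largeBullet p Q) := largeBullet_isPGroup Q
  have hQb1 : Cfsg.largeBullet p Q ≠ ⊥ := by
    intro h
    apply hQ1
    rw [eq_bot_iff, ← h]; exact hQle
  have hCle : Subgroup.centralizer ((Cfsg.largeBullet p Q : Subgroup H) : Set H) ≤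
      Subgroup.centralizer (Q : Set H) := Subgroup.centralizer_le hQle
  -- (a)
  have ha : ∀ g : H, g ∉ Subgroup.normalizer (Q : Set H) →
      Subgroup.centralizer (Q : Set H) ⊓ Subgroup.centralizer (cj Q g : Set H) = ⊥ := by
    intro g hg
    by_contra hne
    exact hg (mem_normalizer_of_large hQp hQ1 hL g _ hne inf_le_left inf_le_right)
  -- normalizers agree
  have hN : Subgroup.normalizer (Q : Set H) =
      Subgroup.normalizer ((Cfsg.largeBullet p Q : Subgroup H) : Set H) := by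
    apply le_antisymm (normalizer_le_normalizer_largeBullet Q)
    have hZne := inf_centralizer_ne_bot hQbp hQb1
    have hZle : Cfsg.largeBullet p Q ⊓ Subgroup.centralizer ((Cfsg.largeBullet p Q : Subgroup H) : Set H)
        ≤ Subgroup.centralizer (Q : Set H) := inf_le_right.trans hCle
    exact (normalizer_le_normalizer_inf_centralizer _).trans (hL.2 _ hZle hZne)
  refine ⟨?_, hN, ?_⟩
  · intro g hg
    have h1 := ha g hg
    have h2 : Subgroup.centralizer ((Cfsg.largeBullet p Q : Subgroup H) : Set H) ⊓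
        Subgroup.centralizer (cj (Cfsg.largeBullet p Q) g : Set H) = ⊥ := by
      rw [eq_bot_iff, ← h1]
      exact inf_le_inf hCle (Subgroup.centralizer_le (cj_mono hQle g))
    refine ⟨h1, h2, ?_, ?_⟩
    · rw [eq_bot_iff, ← h1]
      exact inf_le_inf inf_le_right inf_le_right
    · rw [eq_bot_iff, ← h2]
      exact inf_le_inf inf_le_right inf_le_right
  · refine ⟨hCle.trans (hL.1.trans hQle), ?_⟩
    intro U hU hU1
    rw [← hN]
    exact hL.2 U (hU.trans hCle) hU1

end Cfsg.Agent.S2844
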