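import Mathlib
import Cfsg.Prelude.Def_LocalStructure
import Cfsg.Agent.Lib.Helper47.BasicProp3

set_option autoImplicit false
open Cfsg

namespace Cfsg.Agent.S2846

/-- Let Q be a nontrivial large p-subgroup of the finite group H, S a Sylow p-subgroup containing Q, and L a subgroup containing S with O_p(L) ≠ 1 and C_H(O_p(L)) ≤ O_p(L). Then there are a subgroup M containing S having the basic property (M ∈ 𝔐_H, writing Y_X for the largest p-reduced normal subgroup of X and 𝓛_H for the set of subgroups X with O_p(X) ≠ 1 and C_H(O_p(X)) ≤ O_p(X): M ∈ 𝓛_H, M·C_H(Y_M) is the only maximal member of 𝓛_H containing M and its largest p-reduced normal subgroup is again Y_M, C_M(Y_M) is p-closed, and the image of C_M(Y_M) in M/O_p(M) lies in the Frattini subgroup of M/O_p(M)) and a subgroup L* with S ≤ L* ≤ M, O_p(L*) ≠ 1, C_H(O_p(L*)) ≤ O_p(L*), such that L·C_H(Y_L) = L*·C_H(Y_L), the weak closures of Q in L and in L* agree and lie in that of M, and Y_L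 = Y_{L*} ≤ Y_M. If moreover Q is not normal in L, then Q is normal in neither L* nor M. -/
theorem result {H : Type*} [Group H] [Finite H] {p : ℕ} [Fact p.Prime] (Q : Subgroup H) (hQp : IsPGroup p ↥Q) (hQ1 : Q ≠ ⊥) (hLg : Cfsg.IsLarge Q) (S : Sylow p H) (hQS : Q ≤ (S : Subgroup H)) (L : Subgroup H) (hSL : (S : Subgroup H) ≤ L) (hL : L ∈ Cfsg.charPSubgroups p H) : ∃ M Ls : Subgroup H, (S : Subgroup H) ≤ M ∧ Cfsg.IsInFrakM p M ∧ (S : Subgroup H) ≤ Ls ∧ Ls ≤ M ∧ Ls ∈ Cfsg.charPSubgroups p H ∧ L ⊔ Subgroup.centralizer (((Cfsg.largestPReducedOf p L) : Subgroup H) : Set H) = Ls ⊔ Subgroup.centralizer (((Cfsg.largestPReducedOf p L) : Subgroup H) : Set H) ∧ Cfsg.weakClosure Q L = Cfsg.weakClosure Q Ls ∧ Cfsg.weakClosure Q Ls ≤ Cfsg.weakClosure Q M ∧ (Cfsg.largestPReducedOf p L) = (Cfsg.largestPReducedOf p Ls) ∧ (Cfsg.largestPReducedOf p Ls) ≤ (Cfsg.largestPReducedOf p M) ∧ (¬ L ≤ Subgroup.normalizer ((Q : Subgroup H) : Set H) → ¬ Ls ≤ Subgroup.normalizer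 ((Q : Subgroup H) : Set H) ∧ ¬ M ≤ Subgroup.normalizer ((Q : Subgroup H) : Set H)) := by
  have hloc : ∀ W : Subgroup H, IsPGroup p W → W ≠ ⊥ →
      (S : Subgroup H) ≤ Subgroup.normalizer (W : Set H) →
      Subgroup.normalizer (W : Set H) ∈ Cfsg.charPSubgroups p H :=
    fun W hW hW1 hSN => Helper47.normalizer_mem_charP S Q hQp hQ1 hLg hW hW1 hSN
  obtain ⟨M, Ls, hSM, hM, hSLs, hLsM, hLs, hY, hYM, hfac⟩ :=
    Helper47.exists_basic_property S hloc hSL hL
  have hU : Helper47.WCU p Q := Helper47.wcu_of_isLarge hQp hQ1 hLg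
  have hYp : IsPGroup p (Cfsg.largestPReducedOf p L) :=
    (Helper48.isPGroup_pCoreOf L).to_le (Helper47.largestPReducedOf_le_pCoreOf L)
  have hY1 : Cfsg.largestPReducedOf p L ≠ ⊥ := Helper47.largestPReducedOf_ne_bot S hL hSL
  have hLN : L ≤ Subgroup.normalizer ((Cfsg.largestPReducedOf p L : Subgroup H) : Set H) :=
    Helper47.le_normalizer_YM L
  have hLsN : Ls ≤ Subgroup.normalizer ((Cfsg.largestPReducedOf p L : Subgroup H) : Set H) := by
    rw [hY]; exact Helper47.le_normalizer_YM Ls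
  have hC : Subgroup.centralizer ((Cfsg.largestPReducedOf p L : Subgroup H) : Set H) ≤
      Subgroup.normalizer (Q : Set H) :=
    Helper47.centralizer_le_normalizer_of_isLarge hQp hLg hYp hY1 ((hQS.trans hSL).trans hLN)
  have hLC := hLN.trans (Helper47.normalizer_le_normalizer_centralizer (Cfsg.largestPReducedOf p L))
  have hLsC := hLsN.trans (Helper47.normalizer_le_normalizer_centralizer (Cfsg.largestPReducedOf p L))
  have hL1 : L ≤ Ls ⊔ Subgroup.centralizer ((Cfsg.largestPReducedOf p L : Subgroup H) : Set H) := by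
    rw [← hfac]; exact le_sup_left
  have hL2 : Ls ≤ L ⊔ Subgroup.centralizer ((Cfsg.largestPReducedOf p L : Subgroup H) : Set H) := by
    rw [hfac]; exact le_sup_left
  refine ⟨M, Ls, hSM, hM, hSLs, hLsM, hLs, hfac, le_antisymm ?_ ?_, Helper47.weakClosure_mono' hLsM,
    hY, hY ▸ hYM, ?_⟩
  · exact Helper47.weakClosure_le_of_le_sup hQp hU (hQS.trans hSL) (hQS.trans hSLs) hC hLsC hL1
  · exact Helper47.weakClosure_le_of_le_sup hQp hU (hQS.trans hSLs) (hQS.trans hSL) hC hLC hL2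
  · intro hLNQ
    have h1 : ¬ Ls ≤ Subgroup.normalizer (Q : Set H) := fun h => hLNQ (hL1.trans (sup_le h hC))
    exact ⟨h1, fun h => h1 (hLsM.trans h)⟩

end Cfsg.Agent.S2846
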