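import Mathlib
import Cfsg.Prelude.Def_LocalStructure
import Cfsg.Agent.Lib.Helper47.BasicProp2

set_option autoImplicit false
open Cfsg

namespace Cfsg.Agent.S2847

/-- Let H be a finite group of parabolic characteristic p, T a Sylow p-subgroup and L a subgroup containing T with O_p(L) ≠ 1 and C_H(O_p(L)) ≤ O_p(L). Then there are M ≥ T with the basic property (M ∈ 𝔐_H) and L* with T ≤ L* ≤ M, O_p(L*) ≠ 1, C_H(O_p(L*)) ≤ O_p(L*), such that Y_L = Y_{L*} ≤ Y_M and L·C_H(Y_L) = L*·C_H(Y_L), Y denoting largest p-reduced normal subgroups. -/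
theorem result {H : Type*} [Group H] [Finite H] {p : ℕ} [Fact p.Prime] (hH : Cfsg.IsOfParabolicCharacteristic p H) (T : Sylow p H) (L : Subgroup H) (hTL : (T : Subgroup H) ≤ L) (hL : L ∈ Cfsg.charPSubgroups p H) : ∃ M Ls : Subgroup H, (T : Subgroup H) ≤ M ∧ Cfsg.IsInFrakM p M ∧ (T : Subgroup H) ≤ Ls ∧ Ls ≤ M ∧ Ls ∈ Cfsg.charPSubgroups p H ∧ (Cfsg.largestPReducedOf p L) = (Cfsg.largestPReducedOf p Ls) ∧ (Cfsg.largestPReducedOf p L) ≤ (Cfsg.largestPReducedOf p M) ∧ L ⊔ Subgroup.centralizer (((Cfsg.largestPReducedOf p L) : Subgroup H) : Set H) = Ls ⊔ Subgroup.centralizer (((Cfsg.largestPReducedOf p L) : Subgroup H) : Set H) := by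
  have hloc : ∀ W : Subgroup H, IsPGroup p W → W ≠ ⊥ →
      (T : Subgroup H) ≤ Subgroup.normalizer (W : Set H) →
      Subgroup.normalizer (W : Set H) ∈ Cfsg.charPSubgroups p H := by
    intro W hW hW1 hTN
    have hc : Helper47.CharPSub p (Subgroup.normalizer (W : Set H)) := hH W hW hW1 ⟨T, hTN⟩
    have hWO : W ≤ Cfsg.pCoreOf p (Subgroup.normalizer (W : Set H)) :=
      Helper47.le_pCoreOf Subgroup.le_normalizer le_rfl hW
    rw [Helper47.mem_charPSubgroups_iff]
    refine ⟨fun h => hW1 (le_bot_iff.mp (h ▸ hWO)), ?_⟩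
    have h1 : Subgroup.centralizer (Cfsg.pCoreOf p (Subgroup.normalizer (W : Set H)) : Set H) ≤
        Subgroup.normalizer (W : Set H) :=
      (Subgroup.centralizer_le (by exact_mod_cast hWO)).trans
        (Subgroup.centralizer_le_normalizer _)
    exact (le_inf h1 le_rfl).trans hc.inf_centralizer_le
  exact Helper47.exists_basic_property T hloc hTL hL

end Cfsg.Agent.S2847
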