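import Cfsg.Statements.S2848
import Cfsg.Agent.Lib.Helper48.PReduced

set_option autoImplicit false
open Cfsg

namespace Cfsg.Agent.S2848

open Cfsg.Agent.Helper48

/-- Standing hypotheses: G a finite group, S a Sylow p-subgroup, Q a nontrivial large p-subgroup of G contained in S (C_G(Q) ≤ Q and N_G(U) ≤ N_G(Q) for all nontrivial U ≤ C_G(Q)), and M a subgroup containing S with the basic property (M ∈ 𝔐_G(S)); Y_M denotes the largest p-reduced normal subgroup of M and M† = M·C_G(Y_M). Then O_p(M) is a weakly closed subgroup of M† (for p): it is the only M†-conjugate of itself inside some Sylow p-subgroup of M† containing it. -/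
theorem result {G : Type*} [Group G] [Finite G] {p : ℕ} [Fact p.Prime] (S : Sylow p G) (Q : Subgroup G) (hQp : IsPGroup p ↥Q) (hQ1 : Q ≠ ⊥) (hQS : Q ≤ (S : Subgroup G)) (hQ : Cfsg.IsLarge Q) (M : Subgroup G) (hSM : (S : Subgroup G) ≤ M) (hM : Cfsg.IsInFrakM p M) : Cfsg.IsWeaklyClosedSubgroup p (((Cfsg.pCoreOf p M)).subgroupOf (M ⊔ Subgroup.centralizer (((Cfsg.largestPReducedOf p M) : Subgroup G) : Set G))) := by
  set Y := largestPReducedOf p M with hY
  set C := Subgroup.centralizer (Y : Set G) with hC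
  set Md := M ⊔ C with hMd
  set O := pCoreOf p M with hO
  have hclosed : IsPClosed p ↥(M ⊓ C) := hM.2.2.2.2.1
  have hSMd : (S : Subgroup G) ≤ Md := hSM.trans le_sup_left
  -- `O ≤ S`
  have hOS : O ≤ (S : Subgroup G) := by
    rintro _ ⟨x, hx, rfl⟩
    have := Helper46.pCore_le_sylow (S.subtype hSM) hx
    exact this
  have hOM : O ≤ M := pCoreOf_le M
  have hOC : O ≤ C := pCoreOf_le_centralizer_largestPReducedOf M
  have hOp : IsPGroup p O := isPGroup_pCoreOf M
  -- `Md` normalizes `C`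
  have hMdY : Md ≤ Subgroup.normalizer (Y : Set G) := sup_centralizer_le_normalizer_largestPReducedOf M
  have hconjC : ∀ g ∈ Md, ∀ c ∈ C, g * c * g⁻¹ ∈ C := by
    intro g hg c hc
    rw [hC, Subgroup.mem_centralizer_iff]
    intro y hy
    have hy' : g⁻¹ * y * g⁻¹⁻¹ ∈ Y := (Subgroup.mem_normalizer_iff.mp (inv_mem (hMdY hg)) y).mp hy
    rw [inv_inv] at hy'
    have := Subgroup.mem_centralizer_iff.mp hc _ hy'
    calc y * (g * c * g⁻¹) = g * ((g⁻¹ * y * g) * c) * g⁻¹ := by group
      _ = g * (c * (g⁻¹ * y * g)) * g⁻¹ := by rw [this]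
      _ = g * c * g⁻¹ * y := by group
  -- the normal Sylow subgroup of `M ⊓ C`
  obtain ⟨P0⟩ : Nonempty (Sylow p ↥(M ⊓ C)) := inferInstance
  have hP0n : (P0 : Subgroup ↥(M ⊓ C)).Normal := hclosed P0
  -- every `p`-subgroup of `M ⊓ C` lies in `P0`
  have hle : ∀ H : Subgroup G, H ≤ M ⊓ C → IsPGroup p H → H ≤ (P0 : Subgroup ↥(M ⊓ C)).map (M ⊓ C).subtype := by
    intro H hH hHp
    have h1 : IsPGroup p (H.subgroupOf (M ⊓ C)) := hHp.comap_subtype
    obtain ⟨P', hP'⟩ := h1.exists_le_sylow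
    have hPP : P' = P0 := by
      haveI := Sylow.unique_of_normal P0 hP0n
      exact Subsingleton.elim _ _
    have h2 : H.subgroupOf (M ⊓ C) ≤ (P0 : Subgroup ↥(M ⊓ C)) := hPP ▸ hP'
    intro x hx
    exact ⟨⟨x, hH hx⟩, h2 (show (⟨x, hH hx⟩ : ↥(M ⊓ C)) ∈ H.subgroupOf (M ⊓ C) from hx), rfl⟩
  set P1 := (P0 : Subgroup ↥(M ⊓ C)).map (M ⊓ C).subtype with hP1
  have hP1p : IsPGroup p P1 := P0.isPGroup'.map _
  have hP1MC : P1 ≤ M ⊓ C := by
    rintro _ ⟨x, -, rfl⟩
    exact x.2
  -- `P1` is normalized by `M`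
  have hP1M : ∀ m ∈ M, ∀ x ∈ P1, m * x * m⁻¹ ∈ P1 := by
    intro m hm x hx
    have hmap : P1.map (MulAut.conj m).toMonoidHom ≤ P1 := by
      apply hle
      · rintro _ ⟨y, hy, rfl⟩
        have hy' := hP1MC hy
        refine ⟨?_, ?_⟩
        · simp only [MulEquiv.coe_toMonoidHom, MulAut.conj_apply]
          exact M.mul_mem (M.mul_mem hm hy'.1) (M.inv_mem hm)
        · simp only [MulEquiv.coe_toMonoidHom, MulAut.conj_apply]
          exact hconjC m (le_sup_left (a := M) hm) y hy'.2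
      · exact hP1p.map _
    exact hmap ⟨x, hx, by simp⟩
  -- hence `P1 ≤ O`
  have hP1O : P1 ≤ O := by
    have hn : (P1.subgroupOf M).Normal := by
      constructor
      intro x hx m
      rw [Subgroup.mem_subgroupOf] at hx ⊢
      simpa using hP1M m m.2 x hx
    have hp' : IsPGroup p (P1.subgroupOf M) := hP1p.comap_subtype
    have := Helper46.le_pCore hn hp'
    intro x hx
    exact ⟨⟨x, (hP1MC hx).1⟩, this (show (⟨x, (hP1MC hx).1⟩ : M) ∈ P1.subgroupOf M from hx), rfl⟩
  -- main claim in `G`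
  have main : ∀ g ∈ Md, O.map (MulAut.conj g).toMonoidHom ≤ (S : Subgroup G) →
      O.map (MulAut.conj g).toMonoidHom = O := by
    intro g hg hgS
    have h1 : O.map (MulAut.conj g).toMonoidHom ≤ M ⊓ C := by
      rintro x hx
      refine ⟨hSM (hgS hx), ?_⟩
      obtain ⟨y, hy, rfl⟩ := hx
      simp only [MulEquiv.coe_toMonoidHom, MulAut.conj_apply]
      exact hconjC g hg y (hOC hy)
    have h2 : O.map (MulAut.conj g).toMonoidHom ≤ O := (hle _ h1 (hOp.map _)).trans hP1O
    have hcard : Nat.card (O.map (MulAut.conj g).toMonoidHom) = Nat.card O := by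
      have := Subgroup.equivMapOfInjective O (MulAut.conj g).toMonoidHom (MulAut.conj g).injective
      exact (Nat.card_congr this.toEquiv).symm
    exact Subgroup.eq_of_le_of_card_ge h2 (by rw [hcard])
  refine ⟨S.subtype hSMd, ?_, ?_⟩
  · intro x hx
    rw [Sylow.coe_subtype, Subgroup.mem_subgroupOf]
    exact hOS (Subgroup.mem_subgroupOf.mp hx)
  · intro g hg
    have hg' : O.map (MulAut.conj (g : G)).toMonoidHom ≤ (S : Subgroup G) := by
      rintro _ ⟨y, hy, rfl⟩
      have hyMd : y ∈ Md := le_sup_left (a := M) (hOM hy)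
      have : (MulAut.conj g).toMonoidHom ⟨y, hyMd⟩ ∈ (S.subtype hSMd : Subgroup Md) :=
        hg ⟨⟨y, hyMd⟩, Subgroup.mem_subgroupOf.mpr hy, rfl⟩
      rw [Sylow.coe_subtype, Subgroup.mem_subgroupOf] at this
      simpa using this
    have hmain := main g g.2 hg'
    ext x
    constructor
    · rintro ⟨y, hy, rfl⟩
      have hy' : (y : G) ∈ O := hy
      rw [Subgroup.mem_subgroupOf]
      have : (MulAut.conj (g : G)).toMonoidHom (y : G) ∈ O.map (MulAut.conj (g : G)).toMonoidHom :=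
        ⟨y, hy', rfl⟩
      rw [hmain] at this
      simpa using this
    · intro hx
      rw [Subgroup.mem_subgroupOf] at hx
      rw [← hmain] at hx
      obtain ⟨y, hy, hyx⟩ := hx
      have hyMd : y ∈ Md := le_sup_left (a := M) (hOM hy)
      refine ⟨⟨y, hyMd⟩, Subgroup.mem_subgroupOf.mpr hy, ?_⟩
      apply Subtype.ext
      simpa using hyx

end Cfsg.Agent.S2848
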