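import Cfsg.Statements.S2849
import Cfsg.Agent.Lib.Helper48.PReduced

set_option autoImplicit false
open Cfsg

namespace Cfsg.Agent.S2849

open Cfsg.Agent.Helper48

/-- Standing hypotheses: G a finite group, S a Sylow p-subgroup, Q a nontrivial large p-subgroup of G contained in S (C_G(Q) ≤ Q and N_G(U) ≤ N_G(Q) for all nontrivial U ≤ C_G(Q)), and M a subgroup containing S with the basic property (M ∈ 𝔐_G(S)); Y_M denotes the largest p-reduced normal subgroup of M and M† = M·C_G(Y_M). Suppose Y_M is asymmetric in G. Then for every subgroup R with Y_M ≤ R ≤ M†, the normal closure of Y_M in N_G(R) is elementary abelian. -/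
theorem result {G : Type*} [Group G] [Finite G] {p : ℕ} [Fact p.Prime] (S : Sylow p G) (Q : Subgroup G) (hQp : IsPGroup p ↥Q) (hQ1 : Q ≠ ⊥) (hQS : Q ≤ (S : Subgroup G)) (hQ : Cfsg.IsLarge Q) (M : Subgroup G) (hSM : (S : Subgroup G) ≤ M) (hM : Cfsg.IsInFrakM p M) (hasym : ¬ Cfsg.IsSymmetricIn (Cfsg.largestPReducedOf p M)) (R : Subgroup G) (hYR : (Cfsg.largestPReducedOf p M) ≤ R) (hRM : R ≤ (M ⊔ Subgroup.centralizer (((Cfsg.largestPReducedOf p M) : Subgroup G) : Set G))) : Cfsg.IsElementaryAbelian p ((Subgroup.normalClosure ((((Cfsg.largestPReducedOf p M)).subgroupOf (Subgroup.normalizer ((R : Subgroup G) : Set G)) : Subgroup ↥(Subgroup.normalizer ((R : Subgroup G) : Set G))) : Set ↥(Subgroup.normalizer ((R : Subgroup G) : Set G)))).map (Subgroup.normalizer ((R : Subgroup G) : Set G)).subtype) := by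
  set Y := largestPReducedOf p M with hY
  set N := Subgroup.normalizer (R : Set G) with hN
  have hYe : IsElementaryAbelian p Y := isElementaryAbelian_largestPReducedOf M
  have hRY : R ≤ Subgroup.normalizer (Y : Set G) :=
    hRM.trans (sup_centralizer_le_normalizer_largestPReducedOf M)
  -- conjugates of `Y` under `N` commute with `Y`
  have key : ∀ g ∈ N, ∀ y ∈ Y, ∀ y' ∈ Y, y * (g * y' * g⁻¹) = (g * y' * g⁻¹) * y := by
    intro g hg
    set Yg := Y.map (MulAut.conj g).toMonoidHom with hYg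
    have hYgR : Yg ≤ R := by
      rintro _ ⟨y, hy, rfl⟩
      simp only [MulEquiv.coe_toMonoidHom, MulAut.conj_apply]
      exact (Subgroup.mem_normalizer_iff.mp hg y).mp (hYR hy)
    -- `Yg` normalizes `Y`
    have h1 : ⁅Y, Yg⁆ ≤ Y := by
      rw [Subgroup.commutator_le]
      intro a ha b hb
      -- `⁅a, b⁆ = a * (b * a⁻¹ * b⁻¹)`
      have hb' : b ∈ Subgroup.normalizer (Y : Set G) := hRY (hYgR hb)
      have : b * a⁻¹ * b⁻¹ ∈ Y := (Subgroup.mem_normalizer_iff.mp hb' a⁻¹).mp (inv_mem ha)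
      have h := mul_mem ha this
      rw [commutatorElement_def]
      convert h using 1
      group
    -- `Y` normalizes `Yg`
    have h2 : ⁅Y, Yg⁆ ≤ Yg := by
      rw [Subgroup.commutator_le]
      intro a ha b hb
      obtain ⟨y, hy, rfl⟩ := hb
      simp only [MulEquiv.coe_toMonoidHom, MulAut.conj_apply]
      -- `g⁻¹ a g ∈ R` normalizes `Y`
      have ha' : g⁻¹ * a * g⁻¹⁻¹ ∈ R := (Subgroup.mem_normalizer_iff.mp (inv_mem hg) a).mp (hYR ha)
      rw [inv_inv] at ha'
      have ha'' := hRY ha'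
      have h3 : (g⁻¹ * a * g) * y * (g⁻¹ * a * g)⁻¹ ∈ Y := (Subgroup.mem_normalizer_iff.mp ha'' y).mp hy
      have h4 : (g⁻¹ * a * g) * y * (g⁻¹ * a * g)⁻¹ * y⁻¹ ∈ Y := mul_mem h3 (inv_mem hy)
      refine ⟨_, h4, ?_⟩
      simp only [MulEquiv.coe_toMonoidHom, MulAut.conj_apply]
      rw [commutatorElement_def]
      group
    have h3 : ⁅Y, Yg⁆ = ⊥ := by
      by_contra hne
      exact hasym ⟨g, hne, le_inf h1 h2⟩
    intro y hy y' hy'
    have := Subgroup.commutator_eq_bot_iff_le_centralizer.mp h3 hy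
    rw [Subgroup.mem_centralizer_iff] at this
    exact (this _ ⟨y', hy', rfl⟩).symm
  -- the generating set
  set T : Set G := {x | ∃ g ∈ N, ∃ y ∈ Y, x = g * y * g⁻¹} with hT
  have hcomm : ∀ a ∈ T, ∀ b ∈ T, a * b = b * a := by
    rintro a ⟨g, hg, y, hy, rfl⟩ b ⟨g', hg', y', hy', rfl⟩
    have := key (g⁻¹ * g') (mul_mem (inv_mem hg) hg') y hy y' hy'
    calc g * y * g⁻¹ * (g' * y' * g'⁻¹) = g * (y * (g⁻¹ * g' * y' * (g⁻¹ * g')⁻¹)) * g⁻¹ := by group
      _ = g * ((g⁻¹ * g' * y' * (g⁻¹ * g')⁻¹) * y) * g⁻¹ := by rw [this]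
      _ = g' * y' * g'⁻¹ * (g * y * g⁻¹) := by group
  have hpow : ∀ a ∈ T, a ^ p = 1 := by
    rintro a ⟨g, hg, y, hy, rfl⟩
    rw [conj_pow, hYe.2 y hy, mul_one, mul_inv_cancel]
  have hE := isElementaryAbelian_closure_of_comm T hcomm hpow
  have hle : (Subgroup.normalClosure ((Y.subgroupOf N : Subgroup N) : Set N)).map N.subtype ≤
      Subgroup.closure T := by
    rw [Subgroup.map_le_iff_le_comap]
    have hnorm : ((Subgroup.closure T).comap N.subtype).Normal := by
      constructor
      intro x hx n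
      rw [Subgroup.mem_comap] at hx ⊢
      -- conjugation by `n` preserves `closure T`
      have : Subgroup.closure T ≤ (Subgroup.closure T).comap (MulAut.conj (n : G)).toMonoidHom := by
        rw [Subgroup.closure_le]
        rintro _ ⟨g, hg, y, hy, rfl⟩
        rw [SetLike.mem_coe, Subgroup.mem_comap]
        apply Subgroup.subset_closure
        refine ⟨n * g, mul_mem n.2 hg, y, hy, ?_⟩
        simp only [MulEquiv.coe_toMonoidHom, MulAut.conj_apply]
        group
      have := this hx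
      rw [Subgroup.mem_comap] at this
      simpa using this
    apply Subgroup.normalClosure_le_normal
    intro x hx
    rw [SetLike.mem_coe, Subgroup.mem_comap]
    apply Subgroup.subset_closure
    exact ⟨1, one_mem _, x, hx, by simp⟩
  refine ⟨?_, fun a ha => hE.2 a (hle ha)⟩
  rw [← Subgroup.le_centralizer_iff_isMulCommutative]
  intro a ha
  rw [Subgroup.mem_centralizer_iff]
  intro b hb
  have := hE.1
  exact setLike_mul_comm (s := Subgroup.closure T) (hle hb) (hle ha)

end Cfsg.Agent.S2849
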