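import Mathlib
import Cfsg.Agent.Lib.Helper47.MSSAsym6

set_option autoImplicit false
open Cfsg

namespace Cfsg.Agent.S2854

/-- Standing hypotheses: G a finite group, S a Sylow p-subgroup, Q a nontrivial large p-subgroup of G contained in S, M a subgroup containing S with the basic property (M ∈ 𝔐_G(S)); Y_M the largest p-reduced normal subgroup of M and M† = M·C_G(Y_M). Suppose Y_M is asymmetric in G, H ∈ ℌ_G(O_p(M)), and H ≤ N_G(gQg⁻¹) for some g ∈ G. Then gQg⁻¹ ≤ O_p(H·gQg⁻¹) ≤ N_G(O_p(M)) ≤ N_G(Y_M) = M†; H is normal in H·gQg⁻¹ with O^p(H) = O^p(H·gQg⁻¹); and H·gQg⁻¹ is p-irreducible. -/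
theorem result {G : Type*} [Group G] [Finite G] {p : ℕ} [Fact p.Prime] (S : Sylow p G) (Q : Subgroup G) (hQp : IsPGroup p ↥Q) (hQ1 : Q ≠ ⊥) (hQS : Q ≤ (S : Subgroup G)) (hQ : Cfsg.IsLarge Q) (M : Subgroup G) (hSM : (S : Subgroup G) ≤ M) (hM : Cfsg.IsInFrakM p M) (hasym : ¬ Cfsg.IsSymmetricIn (Cfsg.largestPReducedOf p M)) (H : Subgroup G) (hH : Cfsg.IsInFrakH p M H) (g : G) (hHQ : H ≤ Subgroup.normalizer ((((Q : Subgroup G).map (MulAut.conj (g : G)).toMonoidHom) : Subgroup G) : Set G)) : ((Q : Subgroup G).map (MulAut.conj (g : G)).toMonoidHom) ≤ Cfsg.pCoreOf p (H ⊔ ((Q : Subgroup G).map (MulAut.conj (g : G)).toMonoidHom)) ∧ Cfsg.pCoreOf p (H ⊔ ((Q : Subgroup G).map (MulAut.conj (g : G)).toMonoidHom)) ≤ Subgroup.normalizer (((Cfsg.pCoreOf p M) : Subgroup G) : Set G) ∧ Subgroup.normalizer (((Cfsg.pCoreOf p M) : Subgroup G) : Set G) ≤ Subgroup.normalizer (((Cfsg.largestPReducedOf p M) : Subgroup G) : Set G) ∧ Subgroup.normalizer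 (((Cfsg.largestPReducedOf p M) : Subgroup G) : Set G) = (M ⊔ Subgroup.centralizer (((Cfsg.largestPReducedOf p M) : Subgroup G) : Set G)) ∧ (H.subgroupOf (H ⊔ ((Q : Subgroup G).map (MulAut.conj (g : G)).toMonoidHom))).Normal ∧ (Cfsg.pResidual p ↥H).map H.subtype = (Cfsg.pResidual p ↥(H ⊔ ((Q : Subgroup G).map (MulAut.conj (g : G)).toMonoidHom))).map (H ⊔ ((Q : Subgroup G).map (MulAut.conj (g : G)).toMonoidHom)).subtype ∧ Cfsg.IsPIrreducible p ↥(H ⊔ ((Q : Subgroup G).map (MulAut.conj (g : G)).toMonoidHom)) := by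
  open Cfsg.Agent.Helper47 in
  exact (by
    have h : Std p S Q M := ⟨hQp, hQ1, hQS, hQ, hSM, hM⟩
    have hR : IsPGroup p (cj g Q) := cj_isPGroup hQp
    have hBH : BM p M ≤ H := hH.2.1
    have h1 : cj g Q ≤ pCoreOf p (H ⊔ cj g Q) :=
      le_pCoreOf le_sup_right (sup_le hHQ Subgroup.le_normalizer) hR
    have h2 : pCoreOf p (H ⊔ cj g Q) ≤ Subgroup.normalizer (BM p M : Set G) :=
      h.pCoreOf_le_normalizer_BM hasym (hBH.trans le_sup_left)
    have h3 : Subgroup.normalizer (BM p M : Set G) ≤ Subgroup.normalizer (YM p M : Set G) :=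
      h.normalizer_BM_le_dag.trans (dag_le_normalizer_YM M)
    have h4 : Subgroup.normalizer (YM p M : Set G) = dag p M := by
      apply le_antisymm _ (dag_le_normalizer_YM M)
      by_cases hY : YM p M = ⊥
      · rw [dag_eq_top_of_YM_eq_bot hY]; exact le_top
      · exact h.normalizer_le_dag ((BM_isPGroup (p := p) M).to_le (YM_le_BM M)) hY
          (le_normalizer_YM M)
    have h5 : (H.subgroupOf (H ⊔ cj g Q)).Normal :=
      Subgroup.normal_subgroupOf_of_le_normalizer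
        (sup_le Subgroup.le_normalizer (h.frakH_sup_normal hasym hH hR hHQ))
    exact ⟨h1, h2, h3, h4, h5, h.frakH_pResOf_sup hasym hH hR hHQ,
      h.frakH_sup_isPIrreducible hasym hH hR hHQ⟩)

end Cfsg.Agent.S2854
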