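import Cfsg.Statements.S2872
import Cfsg.Agent.Lib.Helper48.TransferInv

set_option autoImplicit false
open Cfsg

namespace Cfsg.Agent.S2872

open Cfsg.Agent.Helper48

/-- Let S be a Sylow 2-subgroup of the finite group G. Then G has a proper normal subgroup of 2-power index (O²(G) ≠ G), or Ω₁(Z(S)) is contained in the Frattini subgroup of S, or N_G(S) acts nontrivially on Ω₁(Z(S)) by conjugation. -/
theorem result {G : Type*} [Group G] [Finite G] (S : Sylow 2 G) : Cfsg.pResidual 2 G ≠ ⊤ ∨ Cfsg.omegaOne 2 ((S : Subgroup G) ⊓ Subgroup.centralizer ((S : Subgroup G) : Set G)) ≤ (frattini ↥(S : Subgroup G)).map (S : Subgroup G).subtype ∨ ∃ g ∈ Subgroup.normalizer ((S : Subgroup G) : Set G), ∃ z ∈ Cfsg.omegaOne 2 ((S : Subgroup G) ⊓ Subgroup.centralizer ((S : Subgroup G) : Set G)), g * z * g⁻¹ ≠ z := by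
  classical
  haveI : Fact (Nat.Prime 2) := ⟨Nat.prime_two⟩
  by_contra hcon
  push Not at hcon
  obtain ⟨hA, hB, hC⟩ := hcon
  -- an involution of `Z(S)` outside `Φ(S)`
  have hex : ∃ z, z ∈ (S : Subgroup G) ⊓ Subgroup.centralizer ((S : Subgroup G) : Set G) ∧ z ^ 2 = 1 ∧
      z ∉ (frattini ↥(S : Subgroup G)).map (S : Subgroup G).subtype := by
    by_contra hno
    push Not at hno
    apply hB
    unfold omegaOne
    rw [Subgroup.closure_le]
    rintro x ⟨hx1, hx2⟩
    exact hno x hx1 hx2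
  obtain ⟨z, hz1, hz2, hz3⟩ := hex
  have hzS : z ∈ (S : Subgroup G) := hz1.1
  have hzc : ∀ s ∈ (S : Subgroup G), s * z = z * s := fun s hs =>
    Subgroup.mem_centralizer_iff.mp hz1.2 s hs
  have hzF : (⟨z, hzS⟩ : ↥(S : Subgroup G)) ∉ frattini ↥(S : Subgroup G) := fun h => hz3 ⟨_, h, rfl⟩
  obtain ⟨K, hK, hzK⟩ : ∃ K : Subgroup ↥(S : Subgroup G), IsCoatom K ∧ (⟨z, hzS⟩ : ↥(S : Subgroup G)) ∉ K := by
    by_contra hno
    push Not at hno
    apply hzF
    unfold frattini Order.radical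
    simp only [Subgroup.mem_iInf]
    exact hno
  have hKidx : K.index = 2 := index_of_isCoatom_of_isPGroup S.isPGroup' hK
  set ϕ := signHomOfIndexTwo K hKidx with hϕ
  have hϕz : ϕ ⟨z, hzS⟩ = -1 := signHomOfIndexTwo_of_not_mem _ _ _ hzK
  have hzΩ : z ∈ Cfsg.omegaOne 2 ((S : Subgroup G) ⊓ Subgroup.centralizer ((S : Subgroup G) : Set G)) :=
    Subgroup.subset_closure ⟨hz1, hz2⟩
  have hN : ∀ n ∈ Subgroup.normalizer ((S : Subgroup G) : Set G), n⁻¹ * z * n = z := by
    intro n hn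
    have := hC n⁻¹ (inv_mem hn) z hzΩ
    rwa [inv_inv] at this
  have hV := transfer_central_involution (S : Subgroup G) S.isPGroup' S.not_dvd_index ϕ z hzS hzc hz2 hN hϕz
  have hle : pResidual 2 G ≤ (MonoidHom.transfer ϕ).ker := by
    unfold pResidual
    rw [Subgroup.closure_le]
    intro g hg
    rw [SetLike.mem_coe, MonoidHom.mem_ker]
    have h1 : (MonoidHom.transfer ϕ g) ^ (orderOf g) = 1 := by
      rw [← map_pow, pow_orderOf_eq_one, map_one]
    have h2 : (MonoidHom.transfer ϕ g) ^ 2 = 1 := Int.units_sq _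
    have h3 := Nat.dvd_gcd (orderOf_dvd_of_pow_eq_one h1) (orderOf_dvd_of_pow_eq_one h2)
    have hg' : Nat.gcd (orderOf g) 2 = 1 := hg
    rw [hg'] at h3
    exact orderOf_eq_one_iff.mp (Nat.dvd_one.mp h3)
  rw [hA] at hle
  have := hle (Subgroup.mem_top z)
  rw [MonoidHom.mem_ker, hV] at this
  exact absurd this (by decide)

end Cfsg.Agent.S2872
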