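import Cfsg.Statements.S2873
import Mathlib
import Cfsg.Agent.Lib.Helper55.Cores
-- import your own Cfsg.Agent.* helpers here

set_option autoImplicit false
open Cfsg

set_option linter.unusedSectionVars false

namespace Cfsg.Agent.S2873

open DihedralGroup

/-- Involutions of a dihedral group of odd degree are reflections. -/
theorem dih_invol {r : ℕ} [NeZero r] (hodd : Odd r) (x : DihedralGroup r) (hx : orderOf x = 2) :
    ∃ i, x = sr i := by
  rcases x with k | k
  · exfalso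
    have h1 : orderOf (DihedralGroup.r k) ∣ r := by
      rw [DihedralGroup.orderOf_r]
      exact Nat.div_dvd_of_dvd (Nat.gcd_dvd_left _ _)
    rw [hx] at h1
    obtain ⟨m, hm⟩ := hodd
    omega
  · exact ⟨k, rfl⟩

/-- Two reflections of a dihedral group of odd degree are conjugate. -/
theorem dih_conj {r : ℕ} [NeZero r] (hodd : Odd r) (i j : ZMod r) :
    ∃ d : DihedralGroup r, d * sr i * d⁻¹ = sr j := by
  obtain ⟨m, hm⟩ := hodd
  refine ⟨DihedralGroup.r ((i - j) * ((m + 1 : ℕ) : ZMod r)), ?_⟩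
  rw [DihedralGroup.inv_r, DihedralGroup.r_mul_sr, DihedralGroup.sr_mul_r]
  congr 1
  have h2 : ((2 * (m + 1) : ℕ) : ZMod r) = 1 := by
    have : 2 * (m + 1) = r + 1 := by omega
    rw [this]
    push_cast
    simp
  push_cast at h2 ⊢
  linear_combination (j - i) * h2

/-- the product of two distinct reflections has order `r` when `r` is prime. -/
theorem dih_sr_mul_sr {r : ℕ} [hr : Fact r.Prime] (i j : ZMod r) (hij : i ≠ j) :
    orderOf (sr i * sr j) = r := by
  rw [DihedralGroup.sr_mul_sr]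
  apply orderOf_eq_prime
  · rw [DihedralGroup.r_pow]
    simp
  · intro h
    rw [DihedralGroup.one_def] at h
    injection h with h
    exact hij (sub_eq_zero.mp h).symm

section main

variable {G : Type*} [Group G] [Finite G] {r : ℕ} [hrp : Fact r.Prime]

/-- An element of order `r` generates a conjugate of the Sylow subgroup `R` of order `r`. -/
theorem exists_conj_of_orderOf (R : Sylow r G) (hR : Nat.card R = r) (y : G) (hy : orderOf y = r) :
    ∃ g : G, ∀ x : G, x ∈ Subgroup.zpowers y ↔ g⁻¹ * x * g ∈ (R : Subgroup G) := by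
  have hp : IsPGroup r (Subgroup.zpowers y) :=
    IsPGroup.of_card (n := 1) (by rw [Nat.card_zpowers, hy, pow_one])
  obtain ⟨P, hP⟩ := hp.exists_le_sylow
  obtain ⟨g, hg⟩ := MulAction.exists_smul_eq G R P
  have hcard : Nat.card (P : Subgroup G) = r := by
    exact ((Sylow.card_eq_multiplicity P).trans (Sylow.card_eq_multiplicity R).symm).trans hR
  have heq : Subgroup.zpowers y = (P : Subgroup G) := by
    apply Subgroup.eq_of_le_of_card_ge hP
    rw [hcard, Nat.card_zpowers, hy]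
  refine ⟨g, fun x => ?_⟩
  rw [heq, ← hg, Sylow.coe_subgroup_smul, Subgroup.mem_pointwise_smul_iff_inv_smul_mem]
  simp [MulAut.smul_def, mul_assoc]

/-- The data of the statement. -/
structure Setup (G : Type*) [Group G] (r : ℕ) where
  Q : Subgroup G
  Qn : Q.Normal
  Q2 : IsPGroup 2 Q
  π : G →* DihedralGroup r
  πsurj : Function.Surjective π
  πker : π.ker = Q
  R : Sylow r G
  hC : Q ⊓ Subgroup.centralizer ((R : Subgroup G) : Set G) = ⊥

namespace Setup

variable (S : Setup G r)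

theorem mem_Q_iff (x : G) : x ∈ S.Q ↔ S.π x = 1 := by
  rw [← S.πker, MonoidHom.mem_ker]

theorem R_inf_Q (hr : r ≠ 2) : (S.R : Subgroup G) ⊓ S.Q = ⊥ := by
  rw [← disjoint_iff]
  exact IsPGroup.disjoint_of_ne r 2 hr _ _ S.R.isPGroup' S.Q2

theorem card_G : Nat.card G = 2 * r * Nat.card S.Q := by
  have := S.Qn
  rw [Subgroup.card_eq_card_quotient_mul_card_subgroup S.Q]
  congr 1
  have e : G ⧸ S.Q ≃* DihedralGroup r := by
    have h1 := QuotientGroup.quotientKerEquivOfSurjective S.π S.πsurj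
    exact (QuotientGroup.quotientMulEquivOfEq S.πker).symm.trans h1
  rw [Nat.card_congr e.toEquiv, DihedralGroup.nat_card]

/-- elements of `R` map to rotations. -/
theorem π_R_rot (hr : r ≠ 2) (y : G) (hy : y ∈ (S.R : Subgroup G)) : ∃ k, S.π y = DihedralGroup.r k := by
  rcases h : S.π y with k | k
  · exact ⟨k, rfl⟩
  · exfalso
    have h1 : orderOf (S.π y) ∣ orderOf y := orderOf_map_dvd _ _
    rw [h, DihedralGroup.orderOf_sr] at h1
    obtain ⟨j, hj⟩ := (IsPGroup.iff_orderOf.mp S.R.isPGroup') ⟨y, hy⟩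
    rw [Subgroup.orderOf_mk] at hj
    rw [hj] at h1
    have := (Nat.Prime.dvd_of_dvd_pow Nat.prime_two h1)
    exact hr ((Nat.prime_dvd_prime_iff_eq Nat.prime_two hrp.out).mp this).symm

theorem card_R (hr : r ≠ 2) : Nat.card (S.R : Subgroup G) = r := by
  have hdvd : r ∣ Nat.card G := by rw [S.card_G]; exact Dvd.intro (2 * Nat.card S.Q) (by ring)
  have hne : (S.R : Subgroup G) ≠ ⊥ := S.R.ne_bot_of_dvd_card hdvd
  -- `π` is injective on `R`, with image in the rotation subgroup of order `r`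
  have hinj : Function.Injective (S.π.comp (S.R : Subgroup G).subtype) := by
    rw [injective_iff_map_eq_one]
    intro y hy
    have h1 : (y : G) ∈ (S.R : Subgroup G) ⊓ S.Q :=
            Subgroup.mem_inf.mpr ⟨y.2, (S.mem_Q_iff _).mpr hy⟩
    rw [S.R_inf_Q hr] at h1
    exact Subtype.ext h1
  have hle : (S.π.comp (S.R : Subgroup G).subtype).range ≤ Subgroup.zpowers (DihedralGroup.r (1 : ZMod r)) := by
    rintro _ ⟨y, rfl⟩
    obtain ⟨k, hk⟩ := S.π_R_rot hr y y.2
    change S.π y ∈ _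
    rw [hk, ← ZMod.natCast_zmod_val k, ← DihedralGroup.r_one_pow]
    exact Subgroup.pow_mem _ (Subgroup.mem_zpowers _) _
  have h2 : Nat.card (S.π.comp (S.R : Subgroup G).subtype).range ∣ r := by
    have := Subgroup.card_dvd_of_le hle
    rwa [Nat.card_zpowers, DihedralGroup.orderOf_r_one] at this
  rw [← Nat.card_congr (MonoidHom.ofInjective hinj).toEquiv] at h2
  rcases (Nat.dvd_prime hrp.out).mp h2 with h3 | h3
  · exfalso
    apply hne
    exact (Subgroup.card_eq_one).mp h3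
  · exact h3

/-- The normalizer of `R`. -/
abbrev N : Subgroup G := Subgroup.normalizer ((S.R : Subgroup G) : Set G)

theorem N_inf_Q (hr : r ≠ 2) : S.N ⊓ S.Q = ⊥ := by
  have := S.Qn
  rw [eq_bot_iff]
  intro x hx
  obtain ⟨hxN, hxQ⟩ := Subgroup.mem_inf.mp hx
  rw [Subgroup.mem_bot]
  have hcent : x ∈ S.Q ⊓ Subgroup.centralizer ((S.R : Subgroup G) : Set G) := by
    refine Subgroup.mem_inf.mpr ⟨hxQ, ?_⟩
    rw [Subgroup.mem_centralizer_iff]
    intro y hy
    have hy' : y ∈ (S.R : Subgroup G) := hy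
    have h1 : x * y * x⁻¹ * y⁻¹ ∈ (S.R : Subgroup G) ⊓ S.Q := by
      refine Subgroup.mem_inf.mpr ⟨?_, ?_⟩
      · exact mul_mem ((Subgroup.mem_normalizer_iff.mp hxN y).mp hy') (inv_mem hy')
      · have : x * y * x⁻¹ * y⁻¹ = x * (y * x⁻¹ * y⁻¹) := by group
        rw [this]
        exact mul_mem hxQ (this_normal_conj y x hxQ)
    rw [S.R_inf_Q hr, Subgroup.mem_bot] at h1
    calc y * x = (x * y * x⁻¹ * y⁻¹)⁻¹ * (x * y) := by group
      _ = x * y := by rw [h1]; group
  rw [S.hC] at hcent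
  exact hcent
where
  this_normal_conj (y x : G) (hx : x ∈ S.Q) : y * x⁻¹ * y⁻¹ ∈ S.Q :=
    S.Qn.conj_mem _ (inv_mem hx) y

theorem π_inj_on_N (hr : r ≠ 2) (x y : G) (hx : x ∈ S.N) (hy : y ∈ S.N) (h : S.π x = S.π y) :
    x = y := by
  have h1 : x⁻¹ * y ∈ S.N ⊓ S.Q := by
    refine Subgroup.mem_inf.mpr ⟨mul_mem (inv_mem hx) hy, ?_⟩
    rw [S.mem_Q_iff, map_mul, map_inv, h, inv_mul_cancel]
  rw [S.N_inf_Q hr, Subgroup.mem_bot] at h1
  exact (inv_mul_eq_one.mp h1)

theorem N_sup_Q (hr : r ≠ 2) : S.N ⊔ S.Q = ⊤ := by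
  have := S.Qn
  -- the preimage of the rotation subgroup
  set Rot : Subgroup (DihedralGroup r) := Subgroup.zpowers (DihedralGroup.r (1 : ZMod r)) with hRot
  have hcardRot : Nat.card Rot = r := by rw [Nat.card_zpowers, DihedralGroup.orderOf_r_one]
  have hRotn : Rot.Normal := by
    apply Subgroup.normal_of_index_eq_two
    have := Subgroup.card_mul_index Rot
    rw [hcardRot, DihedralGroup.nat_card] at this
    have hpos : 0 < r := hrp.out.pos
    nlinarith
  set M : Subgroup G := Rot.comap S.π with hM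
  have hMn : M.Normal := hRotn.comap _
  have hRM : (S.R : Subgroup G) ≤ M := by
    intro y hy
    obtain ⟨k, hk⟩ := S.π_R_rot hr y hy
    rw [hM, Subgroup.mem_comap, hk, ← ZMod.natCast_zmod_val k, ← DihedralGroup.r_one_pow]
    exact Subgroup.pow_mem _ (Subgroup.mem_zpowers _) _
  have hfr := Sylow.normalizer_sup_eq_top' S.R hRM
  -- `M ≤ R ⊔ Q`
  have hMle : M ≤ S.N ⊔ S.Q := by
    intro m hm
    -- the image of `R` is all of `Rot`
    have himg : (S.R : Subgroup G).map S.π = Rot := by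
      apply Subgroup.eq_of_le_of_card_ge
      · rintro _ ⟨y, hy, rfl⟩
        exact hRM hy
      · rw [hcardRot]
        have hinj : Function.Injective (S.π.comp (S.R : Subgroup G).subtype) := by
          rw [injective_iff_map_eq_one]
          intro y hy
          have h1 : (y : G) ∈ (S.R : Subgroup G) ⊓ S.Q :=
            Subgroup.mem_inf.mpr ⟨y.2, (S.mem_Q_iff _).mpr hy⟩
          rw [S.R_inf_Q hr] at h1
          exact Subtype.ext h1
        have h2 : Nat.card ((S.R : Subgroup G).map S.π) = Nat.card (S.R : Subgroup G) := by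
          have e1 : (S.π.comp (S.R : Subgroup G).subtype).range = (S.R : Subgroup G).map S.π := by
            rw [MonoidHom.range_comp, Subgroup.range_subtype]
          rw [← e1, ← Nat.card_congr (MonoidHom.ofInjective hinj).toEquiv]
        rw [h2, S.card_R hr]
    have hm' : S.π m ∈ (S.R : Subgroup G).map S.π := by rw [himg]; exact hm
    obtain ⟨y, hy, hym⟩ := hm'
    have hq : y⁻¹ * m ∈ S.Q := by
      rw [S.mem_Q_iff, map_mul, map_inv, hym, inv_mul_cancel]
    have : m = y * (y⁻¹ * m) := by group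
    rw [this]
    exact mul_mem (Subgroup.mem_sup_left (Subgroup.le_normalizer hy)) (Subgroup.mem_sup_right hq)
  rw [eq_top_iff, ← hfr]
  exact sup_le le_sup_left hMle

theorem π_surj_on_N (hr : r ≠ 2) (d : DihedralGroup r) : ∃ x ∈ S.N, S.π x = d := by
  have := S.Qn
  obtain ⟨g, rfl⟩ := S.πsurj d
  have hg : g ∈ S.N ⊔ S.Q := by rw [S.N_sup_Q hr]; exact Subgroup.mem_top g
  rw [← SetLike.mem_coe, Subgroup.mul_normal] at hg
  obtain ⟨n, hn, q, hq, rfl⟩ := hg
  refine ⟨n, hn, ?_⟩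
  rw [map_mul, (S.mem_Q_iff q).mp hq, mul_one]

/-- An element of `Q` commuting with an element of order `r` is trivial. -/
theorem eq_one_of_commute (hr : r ≠ 2) (y c : G) (hy : orderOf y = r) (hc : c ∈ S.Q)
    (hcy : c * y = y * c) : c = 1 := by
  have := S.Qn
  obtain ⟨g, hg⟩ := exists_conj_of_orderOf S.R (S.card_R hr) y hy
  have h1 : g⁻¹ * c * g ∈ S.Q ⊓ Subgroup.centralizer ((S.R : Subgroup G) : Set G) := by
    refine Subgroup.mem_inf.mpr ⟨?_, ?_⟩
    · have := S.Qn.conj_mem c hc g⁻¹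
      simpa using this
    · rw [Subgroup.mem_centralizer_iff]
      intro x hx
      have hx' : x ∈ (S.R : Subgroup G) := hx
      have h2 : g * x * g⁻¹ ∈ Subgroup.zpowers y := by
        rw [hg]
        have : g⁻¹ * (g * x * g⁻¹) * g = x := by group
        rw [this]; exact hx'
      obtain ⟨k, hk⟩ := h2
      have h3 : c * (g * x * g⁻¹) = (g * x * g⁻¹) * c := by
        rw [← hk]
        have : Commute c y := hcy
        exact (this.zpow_right k).eq
      calc x * (g⁻¹ * c * g) = g⁻¹ * ((g * x * g⁻¹) * c) * g := by group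
        _ = g⁻¹ * (c * (g * x * g⁻¹)) * g := by rw [h3]
        _ = g⁻¹ * c * g * x := by group
  rw [S.hC, Subgroup.mem_bot] at h1
  have : c = g * (g⁻¹ * c * g) * g⁻¹ := by group
  rw [this, h1]; group

/-- **Key lemma**: a pair of "involutions" over two distinct reflections is simultaneously
`Q`-conjugate to the corresponding pair in `N`. -/
theorem key (hr : r ≠ 2) (a a' b b' : G) (ha : a ∈ S.N) (ha' : a' ∈ S.N) (i i' : ZMod r)
    (hii : i ≠ i') (hπa : S.π a = sr i) (hπa' : S.π a' = sr i') (hπb : S.π b = sr i)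
    (hπb' : S.π b' = sr i') (hb : b * b = 1) (hb' : b' * b' = 1) :
    ∃ q ∈ S.Q, b = q * a * q⁻¹ ∧ b' = q * a' * q⁻¹ := by
  have := S.Qn
  set w := b * b' with hw
  have hπw : S.π w = sr i * sr i' := by rw [hw, map_mul, hπb, hπb']
  have hord : orderOf (S.π w) = r := by rw [hπw]; exact dih_sr_mul_sr i i' hii
  obtain ⟨k, hk⟩ := IsPGroup.iff_card.mp S.Q2
  -- `v = w ^ r ∈ Q`
  have hv : w ^ r ∈ S.Q := by
    rw [S.mem_Q_iff, map_pow]
    have := pow_orderOf_eq_one (S.π w)
    rw [hord] at this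
    exact this
  -- `y = w ^ |Q|` has order `r`
  have hy : orderOf (w ^ Nat.card S.Q) = r := by
    apply orderOf_eq_prime
    · rw [← pow_mul, mul_comm, pow_mul]
      have := pow_card_eq_one' (G := S.Q) (x := ⟨w ^ r, hv⟩)
      exact congrArg Subtype.val this
    · intro h
      have h1 : (S.π w) ^ Nat.card S.Q = 1 := by rw [← map_pow, h, map_one]
      have h2 := orderOf_dvd_of_pow_eq_one h1
      rw [hord, hk] at h2
      have := (Nat.Prime.dvd_of_dvd_pow hrp.out h2)
      exact hr ((Nat.prime_dvd_prime_iff_eq hrp.out Nat.prime_two).mp this)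
  have hv1 : w ^ r = 1 := by
    apply S.eq_one_of_commute hr _ _ hy hv
    exact ((Commute.refl w).pow_pow r (Nat.card S.Q)).eq
  have hw1 : w ≠ 1 := by
    intro h
    rw [h, map_one, orderOf_one] at hord
    exact hrp.out.one_lt.ne hord
  have how : orderOf w = r := orderOf_eq_prime hv1 hw1
  obtain ⟨g, hg⟩ := exists_conj_of_orderOf S.R (S.card_R hr) w how
  -- `b` and `b'` invert `w`
  have hbinv : b⁻¹ = b := inv_eq_of_mul_eq_one_right hb
  have hb'inv : b'⁻¹ = b' := inv_eq_of_mul_eq_one_right hb'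
  have hbw : b * w * b⁻¹ = w⁻¹ := by
    rw [hw, hbinv, mul_inv_rev, hbinv, hb'inv]
    calc b * (b * b') * b = (b * b) * b' * b := by group
      _ = b' * b := by rw [hb]; group
  have hb'w : b' * w * b'⁻¹ = w⁻¹ := by
    rw [hw, hb'inv, mul_inv_rev, hbinv, hb'inv]
    calc b' * (b * b') * b' = b' * b * (b' * b') := by group
      _ = b' * b := by rw [hb']; group
  -- an element inverting `w` is conjugated into `N` by `g`
  have hnorm : ∀ c : G, c * w * c⁻¹ = w⁻¹ → g⁻¹ * c * g ∈ S.N := by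
    intro c hc
    have hcz : ∀ x, x ∈ Subgroup.zpowers w → c * x * c⁻¹ ∈ Subgroup.zpowers w := by
      rintro _ ⟨m, rfl⟩
      have : c * w ^ m * c⁻¹ = (w ^ m)⁻¹ := by
        rw [← conj_zpow, hc, inv_zpow]
      rw [this]
      exact inv_mem ⟨m, rfl⟩
    have hc' : c⁻¹ * w * c⁻¹⁻¹ = w⁻¹ := by
      have : w = c⁻¹ * w⁻¹ * c := by rw [← hc]; group
      calc c⁻¹ * w * c⁻¹⁻¹ = c⁻¹ * w * c := by group
        _ = (c⁻¹ * w⁻¹ * c)⁻¹ := by group
        _ = w⁻¹ := by rw [← this]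
    have hcz' : ∀ x, x ∈ Subgroup.zpowers w → c⁻¹ * x * c⁻¹⁻¹ ∈ Subgroup.zpowers w := by
      rintro _ ⟨m, rfl⟩
      have : c⁻¹ * w ^ m * c⁻¹⁻¹ = (w ^ m)⁻¹ := by
        rw [← conj_zpow, hc', inv_zpow]
      rw [this]
      exact inv_mem ⟨m, rfl⟩
    rw [Subgroup.mem_normalizer_iff]
    intro x
    have e1 : g⁻¹ * c * g * x * (g⁻¹ * c * g)⁻¹ = g⁻¹ * (c * (g * x * g⁻¹) * c⁻¹) * g := by group
    rw [e1]
    have key1 : ∀ z : G, z ∈ (S.R : Subgroup G) ↔ g * z * g⁻¹ ∈ Subgroup.zpowers w := by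
      intro z
      rw [hg]
      have : g⁻¹ * (g * z * g⁻¹) * g = z := by group
      rw [this]
    constructor
    · intro hx
      have h1 := hcz _ ((key1 x).mp hx)
      exact (hg _).mp h1
    · intro hx
      have h1 := (hg _).mpr hx
      have h2 := hcz' _ h1
      have e2 : c⁻¹ * (c * (g * x * g⁻¹) * c⁻¹) * c⁻¹⁻¹ = g * x * g⁻¹ := by group
      rw [e2] at h2
      exact (key1 x).mpr h2
  -- write `g = q * n`
  have hgmem : g ∈ S.Q ⊔ S.N := by rw [sup_comm, S.N_sup_Q hr]; exact Subgroup.mem_top g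
  rw [← SetLike.mem_coe, Subgroup.normal_mul] at hgmem
  obtain ⟨q, hq, n, hn, rfl⟩ := hgmem
  refine ⟨q, hq, ?_, ?_⟩
  · have h1 := hnorm b hbw
    have h2 : q⁻¹ * b * q ∈ S.N := by
      have : q⁻¹ * b * q = n * ((q * n)⁻¹ * b * (q * n)) * n⁻¹ := by group
      rw [this]
      exact mul_mem (mul_mem hn h1) (inv_mem hn)
    have h3 : S.π (q⁻¹ * b * q) = S.π a := by
      rw [map_mul, map_mul, map_inv, (S.mem_Q_iff q).mp hq, hπb, hπa]; simp
    have h4 := S.π_inj_on_N hr _ _ h2 ha h3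
    rw [← h4]; group
  · have h1 := hnorm b' hb'w
    have h2 : q⁻¹ * b' * q ∈ S.N := by
      have : q⁻¹ * b' * q = n * ((q * n)⁻¹ * b' * (q * n)) * n⁻¹ := by group
      rw [this]
      exact mul_mem (mul_mem hn h1) (inv_mem hn)
    have h3 : S.π (q⁻¹ * b' * q) = S.π a' := by
      rw [map_mul, map_mul, map_inv, (S.mem_Q_iff q).mp hq, hπb', hπa']; simp
    have h4 := S.π_inj_on_N hr _ _ h2 ha' h3
    rw [← h4]; group

/-- conjugacy of involutions outside `Q`. -/
theorem conj_invol (hr : r ≠ 2) (a : G) (ha : a ∈ S.N) (hoa : orderOf a = 2) (b : G)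
    (hob : orderOf b = 2) (hbQ : b ∉ S.Q) : ∃ g : G, g * a * g⁻¹ = b := by
  have hne : NeZero r := ⟨hrp.out.ne_zero⟩
  have hodd : Odd r := hrp.out.odd_of_ne_two hr
  have haQ : a ∉ S.Q := by
    intro h
    have h1 : a ∈ S.N ⊓ S.Q := Subgroup.mem_inf.mpr ⟨ha, h⟩
    rw [S.N_inf_Q hr, Subgroup.mem_bot] at h1
    rw [h1, orderOf_one] at hoa
    omega
  have hord : ∀ x : G, orderOf x = 2 → x ∉ S.Q → orderOf (S.π x) = 2 := by
    intro x hx hxQ
    apply orderOf_eq_prime
    · rw [← map_pow, ← hx, pow_orderOf_eq_one, map_one]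
    · intro h
      exact hxQ ((S.mem_Q_iff x).mpr h)
  obtain ⟨i, hi⟩ := dih_invol hodd _ (hord a hoa haQ)
  obtain ⟨j, hj⟩ := dih_invol hodd _ (hord b hob hbQ)
  obtain ⟨a', ha', hπa'⟩ := S.π_surj_on_N hr (sr (i + 1))
  have ha'2 : a' * a' = 1 := by
    apply S.π_inj_on_N hr _ _ (mul_mem ha' ha') (one_mem _)
    rw [map_mul, hπa', map_one, DihedralGroup.sr_mul_sr, sub_self, DihedralGroup.one_def]
  obtain ⟨d, hd⟩ := dih_conj hodd j i
  obtain ⟨g₀, rfl⟩ := S.πsurj d
  have hb2 : b * b = 1 := by rw [← pow_two, ← hob, pow_orderOf_eq_one]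
  have hb₁ : (g₀ * b * g₀⁻¹) * (g₀ * b * g₀⁻¹) = 1 := by
    calc (g₀ * b * g₀⁻¹) * (g₀ * b * g₀⁻¹) = g₀ * (b * b) * g₀⁻¹ := by group
      _ = 1 := by rw [hb2]; group
  have hπb₁ : S.π (g₀ * b * g₀⁻¹) = sr i := by
    rw [map_mul, map_mul, map_inv, hj, hd]
  have hii : i ≠ i + 1 := by
    intro h
    have : (1 : ZMod r) = 0 := by linear_combination -h
    have hfact : Fact (1 < r) := ⟨hrp.out.one_lt⟩
    exact one_ne_zero this
  obtain ⟨q, _, hq1, _⟩ := S.key hr a a' (g₀ * b * g₀⁻¹) a' ha ha' i (i + 1) hii hi hπa' hπb₁ hπa'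
    hb₁ ha'2
  refine ⟨g₀⁻¹ * q, ?_⟩
  calc g₀⁻¹ * q * a * (g₀⁻¹ * q)⁻¹ = g₀⁻¹ * (q * a * q⁻¹) * g₀ := by group
    _ = g₀⁻¹ * (g₀ * b * g₀⁻¹) * g₀ := by rw [hq1]
    _ = b := by group

theorem card_cent_sq (hr : r ≠ 2) (a : G) (ha : a ∈ S.N) (hoa : orderOf a = 2) :
    Nat.card ↥(S.Q ⊓ Subgroup.centralizer ({a} : Set G)) ^ 2 = Nat.card S.Q := by
  have hne : NeZero r := ⟨hrp.out.ne_zero⟩
  have hodd : Odd r := hrp.out.odd_of_ne_two hr
  have hQn := S.Qn
  have haQ : a ∉ S.Q := by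
    intro h
    have h1 : a ∈ S.N ⊓ S.Q := Subgroup.mem_inf.mpr ⟨ha, h⟩
    rw [S.N_inf_Q hr, Subgroup.mem_bot] at h1
    rw [h1, orderOf_one] at hoa
    omega
  have hπa2 : orderOf (S.π a) = 2 := by
    apply orderOf_eq_prime
    · rw [← map_pow, ← hoa, pow_orderOf_eq_one, map_one]
    · intro h
      exact haQ ((S.mem_Q_iff a).mpr h)
  obtain ⟨i, hi⟩ := dih_invol hodd _ hπa2
  obtain ⟨a', ha', hπa'⟩ := S.π_surj_on_N hr (sr (i + 1))
  have ha2 : a * a = 1 := by rw [← pow_two, ← hoa, pow_orderOf_eq_one]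
  have ha'2 : a' * a' = 1 := by
    apply S.π_inj_on_N hr _ _ (mul_mem ha' ha') (one_mem _)
    rw [map_mul, hπa', map_one, DihedralGroup.sr_mul_sr, sub_self, DihedralGroup.one_def]
  have ha'Q : a' ∉ S.Q := by
    intro h
    have := (S.mem_Q_iff a').mp h
    rw [hπa'] at this
    rw [DihedralGroup.one_def] at this
    cases this
  have hoa' : orderOf a' = 2 := by
    apply orderOf_eq_prime
    · rw [pow_two]; exact ha'2
    · intro h
      exact ha'Q (h ▸ one_mem _)
  have hii : i ≠ i + 1 := by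
    intro h
    have : (1 : ZMod r) = 0 := by linear_combination -h
    have hfact : Fact (1 < r) := ⟨hrp.out.one_lt⟩
    exact one_ne_zero this
  -- `a * a'` has order `r`
  have hoaa : orderOf (a * a') = r := by
    have h1 : orderOf (S.π (a * a')) = r := by
      rw [map_mul, hi, hπa']; exact dih_sr_mul_sr i (i + 1) hii
    apply orderOf_eq_prime
    · apply S.π_inj_on_N hr _ _ (pow_mem (mul_mem ha ha') r) (one_mem _)
      rw [map_pow, map_one]
      have := pow_orderOf_eq_one (S.π (a * a'))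
      rw [h1] at this
      exact this
    · intro h
      rw [h, map_one, orderOf_one] at h1
      exact hrp.out.one_lt.ne h1
  set A := S.Q ⊓ Subgroup.centralizer ({a} : Set G) with hA
  set A' := S.Q ⊓ Subgroup.centralizer ({a'} : Set G) with hA'
  have memA : ∀ x, x ∈ A ↔ x ∈ S.Q ∧ a * x = x * a := by
    intro x
    rw [hA, Subgroup.mem_inf, Subgroup.mem_centralizer_iff]
    simp
  have memA' : ∀ x, x ∈ A' ↔ x ∈ S.Q ∧ a' * x = x * a' := by
    intro x
    rw [hA', Subgroup.mem_inf, Subgroup.mem_centralizer_iff]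
    simp
  -- the product map is a bijection
  let f : A × A' → S.Q := fun p =>
    ⟨(p.1 : G) * (p.2 : G), mul_mem ((memA _).mp p.1.2).1 ((memA' _).mp p.2.2).1⟩
  have hf : Function.Bijective f := by
    constructor
    · rintro ⟨c₁, c₁'⟩ ⟨c₂, c₂'⟩ h
      have h0 : (c₁ : G) * (c₁' : G) = (c₂ : G) * (c₂' : G) := congrArg Subtype.val h
      set x : G := (c₂ : G)⁻¹ * (c₁ : G) with hx
      have hx' : x = (c₂' : G) * (c₁' : G)⁻¹ := by
        rw [hx]
        calc (c₂ : G)⁻¹ * (c₁ : G) = (c₂ : G)⁻¹ * ((c₁ : G) * (c₁' : G)) * (c₁' : G)⁻¹ := by group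
          _ = (c₂ : G)⁻¹ * ((c₂ : G) * (c₂' : G)) * (c₁' : G)⁻¹ := by rw [h0]
          _ = (c₂' : G) * (c₁' : G)⁻¹ := by group
      have hxA : x ∈ A := mul_mem (inv_mem c₂.2) c₁.2
      have hxA' : x ∈ A' := by rw [hx']; exact mul_mem c₂'.2 (inv_mem c₁'.2)
      have hx1 : x = 1 := by
        apply S.eq_one_of_commute hr (a * a') x hoaa ((memA x).mp hxA).1
        have e1 := ((memA x).mp hxA).2
        have e2 := ((memA' x).mp hxA').2
        calc x * (a * a') = (x * a) * a' := by group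
          _ = (a * x) * a' := by rw [e1]
          _ = a * (x * a') := by group
          _ = a * (a' * x) := by rw [e2]
          _ = a * a' * x := by group
      have e3 : (c₁ : G) = (c₂ : G) := by
        have : (c₁ : G) = (c₂ : G) * x := by rw [hx]; group
        rw [this, hx1, mul_one]
      have e4 : (c₁' : G) = (c₂' : G) := by
        rw [e3] at h0
        exact mul_left_cancel h0
      exact Prod.ext (Subtype.ext e3) (Subtype.ext e4)
    · rintro ⟨q, hq⟩
      have hb' : (q * a' * q⁻¹) * (q * a' * q⁻¹) = 1 := by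
        calc (q * a' * q⁻¹) * (q * a' * q⁻¹) = q * (a' * a') * q⁻¹ := by group
          _ = 1 := by rw [ha'2]; group
      have hπb' : S.π (q * a' * q⁻¹) = sr (i + 1) := by
        rw [map_mul, map_mul, map_inv, (S.mem_Q_iff q).mp hq, hπa']; simp
      obtain ⟨q₁, hq₁, h1, h2⟩ := S.key hr a a' a (q * a' * q⁻¹) ha ha' i (i + 1) hii hi hπa' hi
        hπb' ha2 hb'
      have hq₁A : q₁ ∈ A := by
        rw [memA]
        refine ⟨hq₁, ?_⟩
        calc a * q₁ = (q₁ * a * q₁⁻¹) * q₁ := by rw [← h1]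
          _ = q₁ * a := by group
      have hq₂A' : q₁⁻¹ * q ∈ A' := by
        rw [memA']
        refine ⟨mul_mem (inv_mem hq₁) hq, ?_⟩
        have e : a' = q₁⁻¹ * (q * a' * q⁻¹) * q₁ := by rw [h2]; group
        calc a' * (q₁⁻¹ * q) = (q₁⁻¹ * (q * a' * q⁻¹) * q₁) * (q₁⁻¹ * q) := by rw [← e]
          _ = q₁⁻¹ * q * a' := by group
      refine ⟨(⟨q₁, hq₁A⟩, ⟨q₁⁻¹ * q, hq₂A'⟩), ?_⟩
      apply Subtype.ext
      change q₁ * (q₁⁻¹ * q) = q
      group
  have hcard : Nat.card S.Q = Nat.card A * Nat.card A' := by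
    rw [← Nat.card_congr (Equiv.ofBijective f hf), Nat.card_prod]
  -- `A` and `A'` are conjugate
  obtain ⟨g, hg⟩ := S.conj_invol hr a ha hoa a' hoa' ha'Q
  have hAA' : Nat.card A = Nat.card A' := by
    refine Nat.card_congr
      { toFun := fun x => ⟨g * (x : G) * g⁻¹, ?_⟩
        invFun := fun y => ⟨g⁻¹ * (y : G) * g, ?_⟩
        left_inv := fun x => Subtype.ext (by simp [mul_assoc])
        right_inv := fun y => Subtype.ext (by simp [mul_assoc]) }
    · rw [memA']
      obtain ⟨h1, h2⟩ := (memA _).mp x.2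
      refine ⟨S.Qn.conj_mem _ h1 g, ?_⟩
      rw [← hg]
      calc g * a * g⁻¹ * (g * (x : G) * g⁻¹) = g * (a * (x : G)) * g⁻¹ := by group
        _ = g * ((x : G) * a) * g⁻¹ := by rw [h2]
        _ = g * (x : G) * g⁻¹ * (g * a * g⁻¹) := by group
    · rw [memA]
      obtain ⟨h1, h2⟩ := (memA' _).mp y.2
      refine ⟨by simpa using S.Qn.conj_mem _ h1 g⁻¹, ?_⟩
      have ea : a = g⁻¹ * a' * g := by rw [← hg]; group
      rw [ea]
      calc g⁻¹ * a' * g * (g⁻¹ * (y : G) * g) = g⁻¹ * (a' * (y : G)) * g := by group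
        _ = g⁻¹ * ((y : G) * a') * g := by rw [h2]
        _ = g⁻¹ * (y : G) * g * (g⁻¹ * a' * g) := by group
  rw [hcard, ← hAA', pow_two]

end Setup

end main


/-- Let G be a finite group and r an odd prime such that G ⧸ O₂(G) is dihedral of order 2r, and let R be a Sylow r-subgroup of G with C_{O₂(G)}(R) = 1. Then N_G(R) is dihedral of order 2r; for any involution a of N_G(R), every involution of G outside O₂(G) is conjugate to a; and |C_{O₂(G)}(a)|² = |O₂(G)|. -/
theorem result {G : Type*} [Group G] [Finite G] {r : ℕ} [Fact r.Prime] (hr : r ≠ 2) [hN : (Cfsg.pCore 2 G).Normal] (hquot : Nonempty (G ⧸ Cfsg.pCore 2 G ≃* DihedralGroup r)) (R : Sylow r G) (hC : Cfsg.pCore 2 G ⊓ Subgroup.centralizer ((R : Subgroup G) : Set G) = ⊥) : Nonempty (↥(Subgroup.normalizer ((R : Subgroup G) : Set G)) ≃* DihedralGroup r) ∧ ∀ a : G, a ∈ Subgroup.normalizer ((R : Subgroup G) : Set G) → orderOf a = 2 → (∀ b : G, orderOf b = 2 → b ∉ Cfsg.pCore 2 G → ∃ g : G,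 g * a * g⁻¹ = b) ∧ Nat.card ↥(Cfsg.pCore 2 G ⊓ Subgroup.centralizer ({a} : Set G)) ^ 2 = Nat.card ↥(Cfsg.pCore 2 G) := by
  obtain ⟨e⟩ := hquot
  have hQ2 : IsPGroup 2 (Cfsg.pCore 2 G) := Cfsg.Agent.Helper55.isPGroup_pCore
  let π : G →* DihedralGroup r := e.toMonoidHom.comp (QuotientGroup.mk' (Cfsg.pCore 2 G))
  have hsurj : Function.Surjective π := e.surjective.comp (QuotientGroup.mk'_surjective _)
  have hker : π.ker = Cfsg.pCore 2 G := by
    ext x
    rw [MonoidHom.mem_ker]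
    change e (QuotientGroup.mk' (Cfsg.pCore 2 G) x) = 1 ↔ _
    rw [EmbeddingLike.map_eq_one_iff, QuotientGroup.mk'_apply, QuotientGroup.eq_one_iff]
  let S : Setup G r := ⟨Cfsg.pCore 2 G, hN, hQ2, π, hsurj, hker, R, hC⟩
  refine ⟨?_, fun a ha hoa => ⟨fun b hob hbQ => S.conj_invol hr a ha hoa b hob hbQ,
    S.card_cent_sq hr a ha hoa⟩⟩
  refine ⟨MulEquiv.ofBijective (π.comp S.N.subtype) ⟨?_, ?_⟩⟩
  · intro x y h
    exact Subtype.ext (S.π_inj_on_N hr x y x.2 y.2 h)
  · intro d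
    obtain ⟨x, hx, hxd⟩ := S.π_surj_on_N hr d
    exact ⟨⟨x, hx⟩, hxd⟩

end Cfsg.Agent.S2873
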