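import Cfsg.Statements.S2874
import Mathlib
import Cfsg.Agent.Lib.Helper71.A4GL2
import Cfsg.Agent.Lib.Helper71.A4GL2Sylow

set_option autoImplicit false
open Cfsg

namespace Cfsg.Agent.S2874

open Cfsg.Agent.Helper71.A4GL2

/-- the alternating group of degree 4 -/
abbrev A := ↥(alternatingGroup (Fin 4))

set_option maxRecDepth 100000 in
set_option synthInstance.maxSize 10000 in
set_option synthInstance.maxHeartbeats 400000 in
theorem a4_struct : ∃ c v : A, c ^ 3 = 1 ∧ v ^ 2 = 1 ∧ v ≠ 1 ∧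
    c * (c * v * c⁻¹) * c⁻¹ = v * (c * v * c⁻¹) ∧
    ∀ h : A, ∃ i : Fin 3, ∃ e₁ e₂ : Fin 2,
      h = v ^ (e₁ : ℕ) * (c * v * c⁻¹) ^ (e₂ : ℕ) * c ^ (i : ℕ) := by decide

/-- the relations between an element `g` of order 3 and an involution `x` of the four-group of a
copy of `A₄` -/
def Rel {G : Type*} [Group G] (g x : G) : Prop :=
  g ^ 3 = 1 ∧ x ^ 2 = 1 ∧ x ≠ 1 ∧ g * (g * x * g⁻¹) * g⁻¹ = x * (g * x * g⁻¹)

section rel

variable {G : Type*} [Group G] {g x : G}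

theorem Rel.conj (h : Rel g x) (a : G) : Rel (a * g * a⁻¹) (a * x * a⁻¹) := by
  obtain ⟨h1, h2, h3, h4⟩ := h
  refine ⟨?_, ?_, ?_, ?_⟩
  · rw [conj_pow, h1]; group
  · rw [conj_pow, h2]; group
  · intro h
    apply h3
    have e : x = a⁻¹ * (a * x * a⁻¹) * a := by group
    rw [e, h]; group
  · have e1 : a * g * a⁻¹ * (a * g * a⁻¹ * (a * x * a⁻¹) * (a * g * a⁻¹)⁻¹) * (a * g * a⁻¹)⁻¹ =
        a * (g * (g * x * g⁻¹) * g⁻¹) * a⁻¹ := by group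
    have e2 : a * x * a⁻¹ * (a * g * a⁻¹ * (a * x * a⁻¹) * (a * g * a⁻¹)⁻¹) =
        a * (x * (g * x * g⁻¹)) * a⁻¹ := by group
    rw [e1, e2, h4]

theorem Rel.next (h : Rel g x) : Rel g (g * x * g⁻¹) := by
  have := h.conj g
  rwa [mul_inv_cancel_right] at this

theorem Rel.x_ne_y (h : Rel g x) : x ≠ g * x * g⁻¹ := by
  intro hxy
  obtain ⟨-, -, h3, h4⟩ := h
  rw [← hxy, ← hxy] at h4
  apply h3
  have : x * 1 = x * x := by rw [mul_one]; exact h4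
  exact (mul_left_cancel this).symm

theorem Rel.y_ne_z (h : Rel g x) : g * x * g⁻¹ ≠ g * (g * x * g⁻¹) * g⁻¹ := by
  intro hyz
  exact h.x_ne_y (mul_left_cancel (mul_right_cancel hyz))

theorem Rel.x_ne_z (h : Rel g x) : x ≠ g * (g * x * g⁻¹) * g⁻¹ := by
  intro hxz
  obtain ⟨-, -, h3, h4⟩ := h
  rw [h4] at hxz
  have h1 : x * 1 = x * (g * x * g⁻¹) := by rw [mul_one]; exact hxz
  have h2 : g * x * g⁻¹ = 1 := (mul_left_cancel h1).symm
  apply h3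
  have e : x = g⁻¹ * (g * x * g⁻¹) * g := by group
  rw [e, h2]; group

theorem Rel.g_ne_one (h : Rel g x) : g ≠ 1 := by
  intro hg
  apply h.x_ne_y
  rw [hg]; group

theorem Rel.map {G' : Type*} [Group G'] (f : G →* G') (hf : Function.Injective f) (h : Rel g x) :
    Rel (f g) (f x) := by
  obtain ⟨h1, h2, h3, h4⟩ := h
  refine ⟨?_, ?_, ?_, ?_⟩
  · rw [← map_pow, h1, map_one]
  · rw [← map_pow, h2, map_one]
  · intro h
    apply h3
    apply hf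
    rw [h, map_one]
  · have := congrArg f h4
    simpa only [map_mul, map_inv] using this

end rel

/-- generators and relations of a copy of `A₄` -/
theorem exists_gens {G : Type*} [Group G] (H : Subgroup G) (φ : ↥H ≃* A) :
    ∃ g x : G, g ∈ H ∧ x ∈ H ∧ Rel g x ∧ ∀ h ∈ H, ∃ i : Fin 3, ∃ e₁ e₂ : Fin 2,
      h = x ^ (e₁ : ℕ) * (g * x * g⁻¹) ^ (e₂ : ℕ) * g ^ (i : ℕ) := by
  obtain ⟨c, v, hc, hv, hv1, hrel, hall⟩ := a4_struct
  let ψ : A →* G := H.subtype.comp φ.symm.toMonoidHom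
  have hψ : Function.Injective ψ := by
    intro a b hab
    have : (φ.symm a : G) = (φ.symm b : G) := hab
    exact φ.symm.injective (Subtype.ext this)
  have hmem : ∀ a : A, ψ a ∈ H := fun a => (φ.symm a).2
  refine ⟨ψ c, ψ v, hmem c, hmem v, Rel.map ψ hψ ⟨hc, hv, hv1, hrel⟩, ?_⟩
  intro h hh
  obtain ⟨i, e₁, e₂, he⟩ := hall (φ ⟨h, hh⟩)
  refine ⟨i, e₁, e₂, ?_⟩
  have h1 : ψ (φ ⟨h, hh⟩) = h := by
    show ((φ.symm (φ ⟨h, hh⟩) : ↥H) : G) = h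
    rw [MulEquiv.symm_apply_apply]
  rw [← h1, he]
  simp only [map_mul, map_pow, map_inv]

section gl

variable {k : ℕ}

theorem Rel.form (hk : 2 ≤ k) {g x : GL (Fin 2) (ZMod (2 ^ k))} (h : Rel g x) :
    ∃ m : Fin 3, (x : Matrix (Fin 2) (Fin 2) (ZMod (2 ^ k))) =
      1 + ((2 : ZMod (2 ^ k)) ^ (k - 1)) • E (ZMod (2 ^ k)) m := by
  obtain ⟨h1, h2, h3, h4⟩ := h
  have hinv : g⁻¹ = g * g := by
    apply inv_eq_of_mul_eq_one_right
    rw [← h1, pow_succ, pow_succ, pow_one, mul_assoc]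
  have m1 : (g : Matrix (Fin 2) (Fin 2) (ZMod (2 ^ k))) * g * g = 1 := by
    have := congrArg Units.val h1
    rw [Units.val_pow_eq_pow_val, Units.val_one] at this
    rw [← this, pow_succ, pow_succ, pow_one]
  have m2 : (x : Matrix (Fin 2) (Fin 2) (ZMod (2 ^ k))) * x = 1 := by
    have := congrArg Units.val h2
    rw [Units.val_pow_eq_pow_val, Units.val_one] at this
    rw [← this, pow_succ, pow_one]
  have m4 : (g : Matrix (Fin 2) (Fin 2) (ZMod (2 ^ k))) * (g * x * (g * g)) * (g * g) =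
      x * (g * x * (g * g)) := by
    rw [hinv] at h4
    have := congrArg Units.val h4
    simpa only [Units.val_mul] using this
  have mne : (x : Matrix (Fin 2) (Fin 2) (ZMod (2 ^ k))) ≠ 1 := fun hh => h3 (Units.ext hh)
  exact invol_form k hk _ _ m1 m2 m4 mne

theorem fin3_pigeon : ∀ i j l m : Fin 3, i ≠ j → i ≠ l → j ≠ l → m = i ∨ m = j ∨ m = l := by
  decide

theorem Rel.cover (hk : 2 ≤ k) {g x : GL (Fin 2) (ZMod (2 ^ k))} (h : Rel g x)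
    (u : GL (Fin 2) (ZMod (2 ^ k))) (m : Fin 3)
    (hu : (u : Matrix (Fin 2) (Fin 2) (ZMod (2 ^ k))) =
      1 + ((2 : ZMod (2 ^ k)) ^ (k - 1)) • E (ZMod (2 ^ k)) m) :
    u = x ∨ u = g * x * g⁻¹ ∨ u = g * (g * x * g⁻¹) * g⁻¹ := by
  obtain ⟨m₁, hm₁⟩ := h.form hk
  obtain ⟨m₂, hm₂⟩ := h.next.form hk
  obtain ⟨m₃, hm₃⟩ := h.next.next.form hk
  have d12 : m₁ ≠ m₂ := by
    intro e
    apply h.x_ne_y
    apply Units.ext
    rw [hm₁, hm₂, e]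
  have d13 : m₁ ≠ m₃ := by
    intro e
    apply h.x_ne_z
    apply Units.ext
    rw [hm₁, hm₃, e]
  have d23 : m₂ ≠ m₃ := by
    intro e
    apply h.y_ne_z
    apply Units.ext
    rw [hm₂, hm₃, e]
  rcases fin3_pigeon m₁ m₂ m₃ m d12 d13 d23 with e | e | e
  · left
    apply Units.ext
    rw [hu, hm₁, e]
  · right; left
    apply Units.ext
    rw [hu, hm₂, e]
  · right; right
    apply Units.ext
    rw [hu, hm₃, e]

end gl

/-- For k ≥ 2, any two subgroups of GL₂(ℤ/2ᵏℤ) (the automorphism group of the homocyclic group ℤ/2ᵏ × ℤ/2ᵏ) that are isomorphic to the alternating group of degree 4 are conjugate. -/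
theorem result (k : ℕ) (hk : 2 ≤ k) (H₁ H₂ : Subgroup (GL (Fin 2) (ZMod (2 ^ k)))) (h₁ : Nonempty (↥H₁ ≃* ↥(alternatingGroup (Fin 4)))) (h₂ : Nonempty (↥H₂ ≃* ↥(alternatingGroup (Fin 4)))) : ∃ g : GL (Fin 2) (ZMod (2 ^ k)), H₂ = H₁.map (MulAut.conj g).toMonoidHom := by
  obtain ⟨φ₁⟩ := h₁
  obtain ⟨φ₂⟩ := h₂
  obtain ⟨g₁, x₁, hg₁, hx₁, hR₁, hW₁⟩ := exists_gens H₁ φ₁
  obtain ⟨g₂, x₂, hg₂, hx₂, hR₂, hW₂⟩ := exists_gens H₂ φ₂
  obtain ⟨a, ha⟩ := exists_conj_mem_zpowers k (by omega) g₁ g₂ hR₁.1 hR₂.1 hR₂.g_ne_one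
  have hag : a * g₁ * a⁻¹ ∈ H₂ := (Subgroup.zpowers_le.mpr hg₂) ha
  have hR := hR₁.conj a
  obtain ⟨m, hm⟩ := hR.form hk
  have hax : a * x₁ * a⁻¹ ∈ H₂ := by
    rcases hR₂.cover hk (a * x₁ * a⁻¹) m hm with e | e | e <;> rw [e]
    · exact hx₂
    · exact H₂.mul_mem (H₂.mul_mem hg₂ hx₂) (H₂.inv_mem hg₂)
    · exact H₂.mul_mem (H₂.mul_mem hg₂ (H₂.mul_mem (H₂.mul_mem hg₂ hx₂) (H₂.inv_mem hg₂)))
        (H₂.inv_mem hg₂)
  refine ⟨a, ?_⟩
  have hle : H₁.map (MulAut.conj a).toMonoidHom ≤ H₂ := by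
    rintro _ ⟨h, hh, rfl⟩
    obtain ⟨i, e₁, e₂, rfl⟩ := hW₁ h hh
    simp only [MulEquiv.coe_toMonoidHom, map_mul, map_pow, map_inv, MulAut.conj_apply]
    exact H₂.mul_mem (H₂.mul_mem (H₂.pow_mem hax _)
      (H₂.pow_mem (H₂.mul_mem (H₂.mul_mem hag hax) (H₂.inv_mem hag)) _)) (H₂.pow_mem hag _)
  symm
  apply Subgroup.eq_of_le_of_card_ge hle
  rw [Subgroup.card_map_of_injective (MulAut.conj a).injective, Nat.card_congr φ₁.toEquiv,
    Nat.card_congr φ₂.toEquiv]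

end Cfsg.Agent.S2874
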