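import Cfsg.Statements.S2880
import Cfsg.Agent.Lib.Helper48.Extra2

set_option autoImplicit false
open Cfsg

namespace Cfsg.Agent.S2880

open Cfsg.Agent.Helper48
open Classical

/-- Let E be an extraspecial 2-group of order 2^(2m+1) of plus type, that is, containing an elementary abelian subgroup of order 2^(m+1) (equivalently, a central product of m dihedral groups of order 8). Then E has exactly 2^(2m) − 2^m elements of order 4. -/
theorem result {E : Type*} [Group E] [Finite E] (m : ℕ) (hm : 1 ≤ m) (hE : Cfsg.IsExtraspecial 2 E) (hcard : Nat.card E = 2 ^ (2 * m + 1)) (hplus : ∃ A : Subgroup E, Cfsg.IsElementaryAbelian 2 A ∧ Nat.card A = 2 ^ (m + 1)) : Nat.card {x : E // orderOf x = 4} = 2 ^ (2 * m) - 2 ^ m := by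
  haveI : Fintype E := Fintype.ofFinite E
  have h : Ex2 E := Ex2.of_extraspecial hE
  obtain ⟨A, hA, hAcard⟩ := hplus
  obtain ⟨c, hcZ, hc1, hcc, hall⟩ := h.exists_c
  have hAA : Nat.card A * Nat.card A = 2 * Nat.card E := by
    rw [hAcard, hcard]; ring
  have hI := h.two_mul_card_sq_eq_one A hA hAA
  rw [hcard, hAcard] at hI
  -- order 4 iff square nontrivial
  have hord : ∀ x : E, orderOf x = 4 ↔ ¬ x ^ 2 = 1 := by
    intro x
    constructor
    · intro h4 h2
      have := orderOf_dvd_of_pow_eq_one h2
      rw [h4] at this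
      omega
    · intro h2
      have h4 : x ^ 2 ^ (1 + 1) = 1 := by
        have : x ^ 2 ^ (1 + 1) = x ^ 2 * x ^ 2 := by rw [← pow_add]; norm_num
        rw [this]
        rcases hall _ (h.sq_mem_center x) with h1 | h1
        · exact absurd h1 h2
        · rw [h1, hcc]
      have := orderOf_eq_prime_pow (p := 2) (n := 1) (by simpa using h2) h4
      simpa using this
  have hcount : Nat.card {x : E // orderOf x = 4} =
      (Finset.univ.filter (fun x : E => ¬ x ^ 2 = 1)).card := by
    rw [Nat.card_eq_fintype_card, Fintype.card_subtype]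
    congr 1
    ext x
    simp only [Finset.mem_filter, Finset.mem_univ, true_and]
    exact hord x
  have hsum : (Finset.univ.filter (fun x : E => x ^ 2 = 1)).card +
      (Finset.univ.filter (fun x : E => ¬ x ^ 2 = 1)).card = 2 ^ (2 * m + 1) := by
    rw [Finset.card_filter_add_card_filter_not, Finset.card_univ, ← Nat.card_eq_fintype_card, hcard]
  rw [hcount]
  have e1 : 2 ^ (2 * m + 1) = 2 * 2 ^ (2 * m) := by rw [pow_succ]; ring
  have e2 : 2 ^ (m + 1) = 2 * 2 ^ m := by rw [pow_succ]; ring
  rw [e1] at hsum hI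
  rw [e2] at hI
  omega

end Cfsg.Agent.S2880
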