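import Cfsg.Statements.S2881
import Cfsg.Agent.S2880

set_option autoImplicit false
open Cfsg

namespace Cfsg.Agent.S2881

open Classical

theorem four_dvd_of_five_dvd (m : ℕ) (h : 5 ∣ 2 ^ (2 * m) - 2 ^ m) : 4 ∣ m := by
  have e : 2 ^ (2 * m) - 2 ^ m = 2 ^ m * (2 ^ m - 1) := by
    rw [Nat.mul_sub, mul_one, ← pow_add]
    congr 2
    ring
  rw [e] at h
  have hcop : Nat.Coprime 5 (2 ^ m) := Nat.Coprime.pow_right m (by norm_num)
  have h1 : 5 ∣ 2 ^ m - 1 := hcop.dvd_of_dvd_mul_left h
  have hpos : 1 ≤ 2 ^ m := Nat.one_le_two_pow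
  have h2 : 2 ^ m % 5 = 1 := by omega
  have key : ∀ q r : ℕ, 2 ^ (4 * q + r) % 5 = 2 ^ r % 5 := by
    intro q r
    rw [pow_add, pow_mul, Nat.mul_mod, Nat.pow_mod]
    norm_num
  have hm : m = 4 * (m / 4) + m % 4 := (Nat.div_add_mod m 4).symm
  rw [hm, key] at h2
  have hr : m % 4 < 4 := Nat.mod_lt _ (by norm_num)
  apply Nat.dvd_of_mod_eq_zero
  generalize m % 4 = r at h2 hr
  clear hm key e h h1 hcop hpos
  interval_cases r
  · rfl
  · norm_num at h2
  · norm_num at h2
  · norm_num at h2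

/-- Let E be an extraspecial 2-group of order 2^(2m+1) of plus type (containing an elementary abelian subgroup of order 2^(m+1)), and let ω be an automorphism of E of order 5 whose fixed points are exactly the centre of E. Then m is divisible by 4. -/
theorem result {E : Type*} [Group E] [Finite E] (m : ℕ) (hm : 1 ≤ m) (hE : Cfsg.IsExtraspecial 2 E) (hcard : Nat.card E = 2 ^ (2 * m + 1)) (hplus : ∃ A : Subgroup E, Cfsg.IsElementaryAbelian 2 A ∧ Nat.card A = 2 ^ (m + 1)) (ω : E ≃* E) (hω : orderOf ω = 5) (hfix : ∀ x : E, ω x = x ↔ x ∈ Subgroup.center E) : 4 ∣ m := by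
  haveI : Fintype E := Fintype.ofFinite E
  haveI : Fact (Nat.Prime 5) := ⟨by norm_num⟩
  have hN := Cfsg.Agent.S2880.result m hm hE hcard hplus
  apply four_dvd_of_five_dvd
  rw [← hN]
  -- the permutation induced by `ω` on the elements of order 4
  let σ : Equiv.Perm {x : E // orderOf x = 4} :=
    ω.toEquiv.subtypeEquiv (fun x => by
      show orderOf x = 4 ↔ orderOf (ω x) = 4
      rw [MulEquiv.orderOf_eq])
  have hσval : ∀ (n : ℕ) (x : {x : E // orderOf x = 4}), ((σ ^ n) x : E) = (ω ^ n) (x : E) := by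
    intro n
    induction n with
    | zero => intro x; simp
    | succ n ih =>
      intro x
      rw [pow_succ', Equiv.Perm.mul_apply, pow_succ']
      show ω ((σ ^ n) x : E) = _
      rw [ih]
      rfl
  have hσ5 : σ ^ 5 ^ 1 = 1 := by
    ext x
    rw [pow_one, hσval, ← hω, pow_orderOf_eq_one]
    rfl
  have hmod := Equiv.Perm.card_compl_support_modEq (p := 5) (n := 1) hσ5
  have hempty : (Equiv.Perm.support σ)ᶜ = ∅ := by
    ext x
    simp only [Finset.mem_compl, Equiv.Perm.mem_support, ne_eq, not_not, Finset.notMem_empty,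
      iff_false]
    intro hx
    have h1 : ω (x : E) = x := congrArg Subtype.val hx
    have h2 : (x : E) ∈ Subgroup.center E := (hfix _).mp h1
    have h3 : (⟨(x : E), h2⟩ : Subgroup.center E) ^ 2 = 1 := by
      rw [← hE.2]; exact pow_card_eq_one'
    have h4 : (x : E) ^ 2 = 1 := by
      have := congrArg Subtype.val h3
      simpa using this
    have h5 := orderOf_dvd_of_pow_eq_one h4
    rw [x.2] at h5
    omega
  rw [hempty, Finset.card_empty] at hmod
  rw [Nat.card_eq_fintype_card]
  exact (Nat.modEq_zero_iff_dvd.mp hmod.symm)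

end Cfsg.Agent.S2881
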