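import Cfsg.Statements.S2882
import Cfsg.Agent.Lib.Helper91.M24Syl2Norm

set_option autoImplicit false
open Cfsg

namespace Cfsg.Agent.S2882
open Cfsg.Agent.Helper7 Cfsg.Agent.Helper91
open scoped Pointwise

theorem gens_good : GoodTabs M24 syl24Gens := goodTabs_M24_of_ok syl24Gens_ok

theorem hgoodL : GoodTabs M24 (syl24Keys.map unkey) := by
  rw [← syl24_eq]
  exact goodTabs_spanTabs gens_good

theorem honeL : idTab ∈ syl24Keys.map unkey := by
  rw [← syl24_eq]
  exact idTab_mem_spanTabs _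

theorem hmulL : ∀ l1 ∈ syl24Keys.map unkey, ∀ l2 ∈ syl24Keys.map unkey,
    mulTab l1 l2 ∈ syl24Keys.map unkey := by
  rw [← syl24_eq]
  exact spanTabs_mul_closed gens_good (spanTabs_of_pcOK gens_good syl24Gens_pc).1

theorem hndL : (syl24Keys.map unkey).Nodup := by
  rw [← syl24_eq]
  exact (spanTabs_of_pcOK gens_good syl24Gens_pc).2

theorem hlenL : (syl24Keys.map unkey).length = 2 ^ 10 := by
  rw [← syl24_eq, length_spanTabs]
  rfl

/-- The explicit Sylow 2-subgroup. -/
abbrev P0 : Subgroup ↥M24 := tabSubgroup M24 (syl24Keys.map unkey) hgoodL honeL hmulL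

theorem card_P0 : Nat.card ↥P0 = 2 ^ 10 := by
  rw [card_tabSubgroup hgoodL honeL hmulL hndL, hlenL]

theorem claim7 : NClaim hgoodL honeL hmulL [4, 3, 1, 5, 2, 23, 0] := by
  intro g _ hfix
  have hmem : (g : Equiv.Perm GolayPt) ∈ stabL M24 ([23, 0, 1, 2, 3, 5, 4].map pt) := by
    rw [mem_stabL]
    refine ⟨g.2, ?_⟩
    intro b hb
    simp only [List.map_cons, List.map_nil, List.mem_cons, List.not_mem_nil, or_false] at hb
    rcases hb with rfl | rfl | rfl | rfl | rfl | rfl | rfl <;> exact hfix _ (by simp)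
  rw [m24_stab7, Subgroup.mem_bot] at hmem
  have : g = 1 := Subtype.ext hmem
  rw [this]
  exact Subgroup.one_mem _

theorem claim0 : NClaim hgoodL honeL hmulL [] := by
  apply nclaim_step hgoodL honeL hmulL (A := []) (by simp) (by simp) (by norm_num) syl24_step0
  apply nclaim_step hgoodL honeL hmulL (A := [0]) (by simp) (by simp) (by norm_num) syl24_step1
  apply nclaim_step hgoodL honeL hmulL (A := [0]) (by simp) (by simp) (by norm_num) syl24_step2
  apply nclaim_step hgoodL honeL hmulL (A := [2, 0]) (by simp) (by simp) (by norm_num) syl24_step3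
  apply nclaim_step hgoodL honeL hmulL (A := [5, 2, 23, 0]) (by simp) (by simp) (by norm_num)
    syl24_step4
  apply nclaim_step hgoodL honeL hmulL (A := [1, 0]) (by simp) (by simp) (by norm_num) syl24_step5
  apply nclaim_step hgoodL honeL hmulL (A := [3, 1, 5, 2, 23, 0]) (by simp) (by simp) (by norm_num)
    syl24_step6
  exact claim7

theorem normalizer_P0 : Subgroup.normalizer ((P0 : Subgroup ↥M24) : Set ↥M24) = P0 :=
  le_antisymm (fun g hg => claim0 g hg (by simp)) Subgroup.le_normalizer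

/-- In the Mathieu group of degree 24 (realised as the automorphism group of the extended binary Golay code) every Sylow 2-subgroup is self-normalizing. -/
theorem result (S : Sylow 2 ↥Cfsg.M24) : Subgroup.normalizer ((S : Subgroup ↥Cfsg.M24) : Set ↥Cfsg.M24) = (S : Subgroup ↥Cfsg.M24) := by
  have : Fact (Nat.Prime 2) := ⟨Nat.prime_two⟩
  have hP : IsPGroup 2 ↥P0 := IsPGroup.of_card card_P0
  obtain ⟨Q, hPQ⟩ := hP.exists_le_sylow
  have hfac : (Nat.card ↥M24).factorization 2 ≤ 10 := by
    by_contra hlt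
    push Not at hlt
    have h : 2 ^ 11 ∣ Nat.card ↥M24 := (pow_dvd_pow 2 hlt).trans (Nat.ordProj_dvd _ 2)
    rw [card_M24] at h
    revert h
    decide
  have hQ : P0 = (Q : Subgroup ↥M24) :=
    Subgroup.eq_of_le_of_card_ge hPQ (by
      rw [Q.card_eq_multiplicity, card_P0]
      exact Nat.pow_le_pow_right (by norm_num) hfac)
  have hNQ : Subgroup.normalizer ((Q : Subgroup ↥M24) : Set ↥M24) = (Q : Subgroup ↥M24) := by
    rw [← hQ]
    exact normalizer_P0
  obtain ⟨c, hc⟩ := MulAction.exists_smul_eq ↥M24 Q S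
  subst hc
  apply le_antisymm _ Subgroup.le_normalizer
  intro x hx
  have hx' : x • (c • Q) = c • Q := Sylow.smul_eq_iff_mem_normalizer.mpr hx
  have h2' : (c⁻¹ * x * c) • Q = Q := by
    rw [mul_smul, mul_smul, hx', inv_smul_smul]
  have h2 : c⁻¹ * x * c ∈ (Q : Subgroup ↥M24) := by
    have h3 : c⁻¹ * x * c ∈ Subgroup.normalizer ((Q : Subgroup ↥M24) : Set ↥M24) :=
      Sylow.smul_eq_iff_mem_normalizer.mp h2'
    rwa [hNQ] at h3
  rw [Sylow.coe_subgroup_smul]
  have := Subgroup.smul_mem_pointwise_smul _ (MulAut.conj c) _ h2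
  rw [MulAut.smul_def, MulAut.conj_apply] at this
  have e : c * (c⁻¹ * x * c) * c⁻¹ = x := by group
  rwa [e] at this

end Cfsg.Agent.S2882
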