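import Cfsg.Statements.S2896
import Mathlib
import Cfsg.Agent.Lib.Helper54.CharPFStar
-- import your own Cfsg.Agent.* helpers here

set_option autoImplicit false
open Cfsg

namespace Cfsg.Agent.S2896

open Cfsg.Agent.Helper54

theorem mem_smul_sylow_iff {G : Type*} [Group G] {p : ℕ} (g : G) (S : Sylow p G) (x : G) :
    x ∈ ((g • S : Sylow p G) : Subgroup G) ↔ g⁻¹ * x * g ∈ (S : Subgroup G) := by
  rw [Sylow.smul_def, Sylow.pointwise_smul_def, Subgroup.mem_pointwise_smul_iff_inv_smul_mem,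
    ← map_inv, MulAut.smul_def, MulAut.conj_apply, inv_inv]

/-- (L1) -/
theorem isCharP_normalizer_of_centralizer {G : Type*} [Group G] [Finite G] {p : ℕ} [Fact p.Prime]
    (R : Subgroup G) (hR : IsPGroup p R) (z : G)
    (hz : ∃ h : z ∈ Subgroup.normalizer (R : Set G),
      (⟨z, h⟩ : ↥(Subgroup.normalizer (R : Set G))) ∈ Cfsg.pCore p ↥(Subgroup.normalizer (R : Set G)))
    (hRz : ∀ r ∈ R, r * z = z * r)
    (hΓ : IsCharP p ↥(Subgroup.centralizer ({z} : Set G))) :
    IsCharP p ↥(Subgroup.normalizer (R : Set G)) := by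
  apply isCharP_normalizer_of_le R hR (Subgroup.centralizer ({z} : Set G)) hΓ
  · intro r hr
    rw [Subgroup.mem_centralizer_iff]
    intro s hs
    rw [Set.mem_singleton_iff] at hs
    subst hs
    exact (hRz r hr).symm
  · intro n hn
    obtain ⟨h, hzc⟩ := hz
    have h1 := (Subgroup.mem_centralizer_iff.mp hn) _ hzc
    rw [Subgroup.mem_centralizer_iff]
    intro s hs
    rw [Set.mem_singleton_iff] at hs
    subst hs
    exact congrArg Subtype.val h1

/-- (L2) -/
theorem isCharP_centralizer_conj {G : Type*} [Group G] {p : ℕ} (g z : G)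
    (h : IsCharP p ↥(Subgroup.centralizer ({z} : Set G))) :
    IsCharP p ↥(Subgroup.centralizer ({g * z * g⁻¹} : Set G)) := by
  have e1 : ↥(Subgroup.centralizer ({z} : Set G)) ≃*
      ↥((Subgroup.centralizer ({z} : Set G)).map ((MulAut.conj g : G ≃* G) : G →* G)) :=
    (MulAut.conj g : G ≃* G).subgroupMap _
  have h2 : (Subgroup.centralizer ({z} : Set G)).map ((MulAut.conj g : G ≃* G) : G →* G) =
      Subgroup.centralizer ({g * z * g⁻¹} : Set G) := by
    ext x
    constructor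
    · rintro ⟨y, hy, rfl⟩
      rw [Subgroup.mem_centralizer_iff]
      intro s hs
      rw [Set.mem_singleton_iff] at hs
      subst hs
      have h3 : z * y = y * z := (Subgroup.mem_centralizer_iff.mp hy) z rfl
      show g * z * g⁻¹ * (g * y * g⁻¹) = g * y * g⁻¹ * (g * z * g⁻¹)
      calc g * z * g⁻¹ * (g * y * g⁻¹) = g * (z * y) * g⁻¹ := by group
        _ = g * (y * z) * g⁻¹ := by rw [h3]
        _ = g * y * g⁻¹ * (g * z * g⁻¹) := by group
    · intro hx
      have h3 : g * z * g⁻¹ * x = x * (g * z * g⁻¹) := (Subgroup.mem_centralizer_iff.mp hx) _ rfl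
      refine ⟨g⁻¹ * x * g, ?_, ?_⟩
      · rw [SetLike.mem_coe, Subgroup.mem_centralizer_iff]
        intro s hs
        rw [Set.mem_singleton_iff] at hs
        subst hs
        calc s * (g⁻¹ * x * g) = g⁻¹ * (g * s * g⁻¹ * x) * g := by group
          _ = g⁻¹ * (x * (g * s * g⁻¹)) * g := by rw [h3]
          _ = g⁻¹ * x * g * s := by group
      · show g * (g⁻¹ * x * g) * g⁻¹ = x
        group
  exact (h.of_mulEquiv e1).of_mulEquiv (MulEquiv.subgroupCongr h2)

/-- (L4) -/
theorem exists_conj_sylow {G : Type*} [Group G] [Finite G] {p : ℕ} [Fact p.Prime] (S T : Sylow p G) :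
    ∃ g : G, ∀ x : G, x ∈ (T : Subgroup G) ↔ g⁻¹ * x * g ∈ (S : Subgroup G) := by
  obtain ⟨g, hg⟩ := MulAction.exists_smul_eq G S T
  refine ⟨g, fun x => ?_⟩
  rw [← hg]
  exact mem_smul_sylow_iff g S x

theorem orderOf_conj' {G : Type*} [Group G] (g x : G) : orderOf (g⁻¹ * x * g) = orderOf x := by
  have h := (MulAut.conj g⁻¹ : G ≃* G).orderOf_eq x
  rw [MulAut.conj_apply, inv_inv] at h
  exact h

theorem part1 {G : Type*} [Group G] [Finite G] {p : ℕ} [Fact p.Prime] (S : Sylow p G) (X : Subgroup G)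
    (hX : X ≤ (S : Subgroup G)) (z : G) (hzX : z ∈ X) (hzc : ∀ x ∈ X, x * z = z * x)
    (hF : Cfsg.generalizedFittingSubgroup ↥(Subgroup.centralizer ({z} : Set G)) =
      Cfsg.pCore p ↥(Subgroup.centralizer ({z} : Set G))) :
    Cfsg.generalizedFittingSubgroup ↥(Subgroup.normalizer (X : Set G)) =
      Cfsg.pCore p ↥(Subgroup.normalizer (X : Set G)) := by
  have hXp : IsPGroup p X := S.isPGroup'.to_le hX
  rw [← isCharP_iff_generalizedFittingSubgroup_eq] at hF ⊢
  apply isCharP_normalizer_of_centralizer X hXp z ?_ hzc hF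
  refine ⟨Subgroup.le_normalizer hzX, ?_⟩
  have hXN : X.subgroupOf (Subgroup.normalizer (X : Set G)) ≤
      Cfsg.pCore p ↥(Subgroup.normalizer (X : Set G)) :=
    le_pCore Subgroup.normal_in_normalizer hXp.comap_subtype
  exact hXN (Subgroup.mem_subgroupOf.mpr hzX)

theorem dvd_card_of_ne_bot {G : Type*} [Group G] [Finite G] {p : ℕ} [Fact p.Prime] (A : Subgroup G)
    (hA : IsPGroup p A) (hA1 : A ≠ ⊥) : p ∣ Nat.card A := by
  obtain ⟨n, hn⟩ := IsPGroup.iff_card.mp hA
  rcases n with _ | n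
  · rw [pow_zero, Subgroup.card_eq_one] at hn
    exact absurd hn hA1
  · rw [hn, pow_succ]
    exact Dvd.intro_left _ rfl

theorem part3 {G : Type*} [Group G] [Finite G] {p : ℕ} [Fact p.Prime] (S : Sylow p G)
    (h : ∀ z : G, z ∈ (S : Subgroup G) → orderOf z = p →
      Cfsg.generalizedFittingSubgroup ↥(Subgroup.centralizer ({z} : Set G)) =
        Cfsg.pCore p ↥(Subgroup.centralizer ({z} : Set G)))
    (T : Subgroup G) (hT : IsPGroup p T) (hT1 : T ≠ ⊥) :
    IsCharP p ↥(Subgroup.normalizer (T : Set G)) := by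
  set N := Subgroup.normalizer (T : Set G) with hN
  set Q := Cfsg.pCore p ↥N with hQ
  have hQp : IsPGroup p Q := isPGroup_pCore
  have hTQ : T.subgroupOf N ≤ Q := le_pCore Subgroup.normal_in_normalizer hT.comap_subtype
  have hQ1 : Nontrivial Q := by
    obtain ⟨⟨t, ht⟩, ht1⟩ := (Subgroup.ne_bot_iff_exists_ne_one (H := T)).mp hT1
    refine ⟨⟨⟨⟨t, Subgroup.le_normalizer ht⟩, hTQ (Subgroup.mem_subgroupOf.mpr ht)⟩, 1, ?_⟩⟩
    intro h2
    apply ht1
    have h3 := congrArg (fun q : Q => ((q : N) : G)) h2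
    apply Subtype.ext
    simpa using h3
  have hZ1 : Subgroup.center Q ≠ ⊥ := by
    have := hQp.center_nontrivial
    exact (Subgroup.nontrivial_iff_ne_bot _).mp this
  have hZp : IsPGroup p (Subgroup.center Q) := hQp.to_subgroup _
  obtain ⟨c, hc⟩ := exists_prime_orderOf_dvd_card' p (dvd_card_of_ne_bot _ hZp hZ1)
  set z' : G := (((c : Q) : N) : G) with hz'
  have hz'o : orderOf z' = p := by
    rw [hz', Subgroup.orderOf_coe, Subgroup.orderOf_coe, Subgroup.orderOf_coe]
    exact hc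
  have hzp : IsPGroup p (Subgroup.zpowers z') := by
    apply IsPGroup.of_card (n := 1)
    rw [Nat.card_zpowers, hz'o, pow_one]
  obtain ⟨P, hP⟩ := hzp.exists_le_sylow
  obtain ⟨g, hg⟩ := exists_conj_sylow S P
  have hzS : g⁻¹ * z' * g ∈ (S : Subgroup G) := (hg z').mp (hP (Subgroup.mem_zpowers z'))
  have hzo : orderOf (g⁻¹ * z' * g) = p := by rw [orderOf_conj']; exact hz'o
  have h1 := h _ hzS hzo
  rw [← isCharP_iff_generalizedFittingSubgroup_eq] at h1
  have h2 := isCharP_centralizer_conj g _ h1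
  have h3 : g * (g⁻¹ * z' * g) * g⁻¹ = z' := by group
  rw [h3] at h2
  apply isCharP_normalizer_of_centralizer T hT z' ?_ ?_ h2
  · exact ⟨((c : Q) : N).2, (c : Q).2⟩
  · intro r hr
    have hr' : (⟨r, Subgroup.le_normalizer hr⟩ : N) ∈ Q := hTQ (Subgroup.mem_subgroupOf.mpr hr)
    have h4 := (Subgroup.mem_center_iff.mp c.2) ⟨_, hr'⟩
    have h5 := congrArg (fun q : Q => ((q : N) : G)) h4
    exact h5

theorem part2_mp {G : Type*} [Group G] [Finite G] {p : ℕ} [Fact p.Prime] (S : Sylow p G)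
    (hpar : Cfsg.IsOfParabolicCharacteristic p G) (z : G) (hz1 : z ≠ 1)
    (hz : z ∈ Cfsg.omegaOne p ((S : Subgroup G) ⊓ Subgroup.centralizer ((S : Subgroup G) : Set G))) :
    Cfsg.generalizedFittingSubgroup ↥(Subgroup.centralizer ({z} : Set G)) =
      Cfsg.pCore p ↥(Subgroup.centralizer ({z} : Set G)) := by
  have hzZ : z ∈ (S : Subgroup G) ⊓ Subgroup.centralizer ((S : Subgroup G) : Set G) := by
    have h1 : Cfsg.omegaOne p ((S : Subgroup G) ⊓ Subgroup.centralizer ((S : Subgroup G) : Set G)) ≤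
        (S : Subgroup G) ⊓ Subgroup.centralizer ((S : Subgroup G) : Set G) := by
      unfold Cfsg.omegaOne
      rw [Subgroup.closure_le]
      intro x hx
      exact hx.1
    exact h1 hz
  have hzS : z ∈ (S : Subgroup G) := (Subgroup.mem_inf.mp hzZ).1
  have hzc : ∀ s ∈ (S : Subgroup G), s * z = z * s :=
    fun s hs => (Subgroup.mem_centralizer_iff.mp (Subgroup.mem_inf.mp hzZ).2) s hs
  set R := Subgroup.zpowers z with hRdef
  have hRp : IsPGroup p R := S.isPGroup'.to_le (Subgroup.zpowers_le.mpr hzS)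
  have hR1 : R ≠ ⊥ := by
    intro h
    apply hz1
    have h2 : z ∈ R := Subgroup.mem_zpowers z
    rw [h, Subgroup.mem_bot] at h2
    exact h2
  have hcent : ∀ x : G, x ∈ Subgroup.centralizer (R : Set G) ↔ x ∈ Subgroup.centralizer ({z} : Set G) := by
    intro x
    rw [Subgroup.mem_centralizer_iff, Subgroup.mem_centralizer_iff]
    constructor
    · intro h y hy
      rw [Set.mem_singleton_iff] at hy
      subst hy
      exact h _ (Subgroup.mem_zpowers _)
    · intro h y hy
      obtain ⟨k, rfl⟩ := Subgroup.mem_zpowers_iff.mp hy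
      have h2 : Commute z x := h z rfl
      exact (h2.zpow_left k).eq
  have hSN : (S : Subgroup G) ≤ Subgroup.normalizer (R : Set G) := by
    intro s hs
    apply Subgroup.centralizer_le_normalizer
    rw [hcent, Subgroup.mem_centralizer_iff]
    intro y hy
    rw [Set.mem_singleton_iff] at hy
    subst hy
    exact (hzc s hs).symm
  have hN : IsCharP p ↥(Subgroup.normalizer (R : Set G)) := hpar R hRp hR1 ⟨S, hSN⟩
  have h1 : IsCharP p ↥((Subgroup.centralizer (R : Set G)).subgroupOf (Subgroup.normalizer (R : Set G))) :=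
    hN.of_normal _
  have h2 : IsCharP p ↥(Subgroup.centralizer (R : Set G)) :=
    h1.of_mulEquiv (Subgroup.subgroupOfEquivOfLe (Subgroup.centralizer_le_normalizer _))
  have h3 : Subgroup.centralizer (R : Set G) = Subgroup.centralizer ({z} : Set G) := Subgroup.ext hcent
  have h4 : IsCharP p ↥(Subgroup.centralizer ({z} : Set G)) := h2.of_mulEquiv (MulEquiv.subgroupCongr h3)
  exact isCharP_iff_generalizedFittingSubgroup_eq.mp h4

theorem part2_mpr' {G : Type*} [Group G] [Finite G] {p : ℕ} [hp : Fact p.Prime] (S : Sylow p G)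
    (h : ∀ z : G, z ∈ (S : Subgroup G) → z ∈ Subgroup.centralizer ((S : Subgroup G) : Set G) →
      orderOf z = p → IsCharP p ↥(Subgroup.centralizer ({z} : Set G))) :
    Cfsg.IsOfParabolicCharacteristic p G := by
  rintro R hR hR1 ⟨T, hTN⟩
  show IsCharP p ↥(Subgroup.normalizer (R : Set G))
  set N := Subgroup.normalizer (R : Set G) with hN
  set Q := Cfsg.pCore p ↥N with hQ
  have hQp : IsPGroup p Q := isPGroup_pCore
  have hQn : Q.Normal := pCore_normal' p
  have hRQ : R.subgroupOf N ≤ Q := le_pCore Subgroup.normal_in_normalizer hR.comap_subtype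
  set P : Sylow p ↥N := T.subtype hTN with hP
  have hQP : Q ≤ (P : Subgroup N) := pCore_le_sylow P
  have hPcoe : (P : Subgroup N) = (T : Subgroup G).subgroupOf N := T.coe_subtype hTN
  have hnil : Group.IsNilpotent (P : Subgroup N) := P.isPGroup'.isNilpotent
  set K : Subgroup (P : Subgroup N) := Q.subgroupOf (P : Subgroup N) with hK
  have hKn : K.Normal := inferInstance
  have hK1 : K ≠ ⊥ := by
    obtain ⟨⟨r, hr⟩, hr1⟩ := (Subgroup.ne_bot_iff_exists_ne_one (H := R)).mp hR1
    intro hKbot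
    have hrQ : (⟨r, Subgroup.le_normalizer hr⟩ : N) ∈ Q := hRQ (Subgroup.mem_subgroupOf.mpr hr)
    have h2 : (⟨⟨r, Subgroup.le_normalizer hr⟩, hQP hrQ⟩ : ↥(P : Subgroup N)) ∈ K :=
      Subgroup.mem_subgroupOf.mpr hrQ
    rw [hKbot, Subgroup.mem_bot] at h2
    apply hr1
    apply Subtype.ext
    have h3 := congrArg (fun q : ↥(P : Subgroup N) => ((q : N) : G)) h2
    simpa using h3
  have h2 := normal_inf_center_ne_bot K hK1
  have hAp : IsPGroup p ↥(K ⊓ Subgroup.center ↥(P : Subgroup N)) := P.isPGroup'.to_subgroup _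
  obtain ⟨a, ha⟩ := exists_prime_orderOf_dvd_card' p (dvd_card_of_ne_bot _ hAp h2)
  set z' : G := (((a : ↥(P : Subgroup N)) : N) : G) with hz'
  have hz'o : orderOf z' = p := by
    rw [hz', Subgroup.orderOf_coe, Subgroup.orderOf_coe, Subgroup.orderOf_coe]
    exact ha
  have hz'T : z' ∈ (T : Subgroup G) := by
    have h3 : ((a : ↥(P : Subgroup N)) : N) ∈ (P : Subgroup N) := (a : ↥(P : Subgroup N)).2
    exact Subgroup.mem_subgroupOf.mp (hPcoe.le h3)
  have hz'Q : ((a : ↥(P : Subgroup N)) : N) ∈ Q := Subgroup.mem_subgroupOf.mp (Subgroup.mem_inf.mp a.2).1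
  have hz'c : ∀ t ∈ (T : Subgroup G), t * z' = z' * t := by
    intro t ht
    have htP : (⟨t, hTN ht⟩ : N) ∈ (P : Subgroup N) :=
      hPcoe.ge (Subgroup.mem_subgroupOf.mpr ht)
    have h3 := (Subgroup.mem_center_iff.mp (Subgroup.mem_inf.mp a.2).2) ⟨_, htP⟩
    exact congrArg (fun q : ↥(P : Subgroup N) => ((q : N) : G)) h3
  obtain ⟨g, hg⟩ := exists_conj_sylow S T
  have hzS : g⁻¹ * z' * g ∈ (S : Subgroup G) := (hg z').mp hz'T
  have hzc : g⁻¹ * z' * g ∈ Subgroup.centralizer ((S : Subgroup G) : Set G) := by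
    rw [Subgroup.mem_centralizer_iff]
    intro s hs
    have h3 : g * s * g⁻¹ ∈ (T : Subgroup G) := by
      rw [hg]
      have h4 : g⁻¹ * (g * s * g⁻¹) * g = s := by group
      rw [h4]
      exact hs
    have h4 := hz'c _ h3
    calc s * (g⁻¹ * z' * g) = g⁻¹ * ((g * s * g⁻¹) * z') * g := by group
      _ = g⁻¹ * (z' * (g * s * g⁻¹)) * g := by rw [h4]
      _ = g⁻¹ * z' * g * s := by group
  have hzo : orderOf (g⁻¹ * z' * g) = p := by rw [orderOf_conj']; exact hz'o
  have h1 := h _ hzS hzc hzo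
  have h5 := isCharP_centralizer_conj g _ h1
  have h6 : g * (g⁻¹ * z' * g) * g⁻¹ = z' := by group
  rw [h6] at h5
  apply isCharP_normalizer_of_centralizer R hR z' ⟨((a : ↥(P : Subgroup N)) : N).2, hz'Q⟩ ?_ h5
  intro r hr
  have hrQ : (⟨r, Subgroup.le_normalizer hr⟩ : N) ∈ Q := hRQ (Subgroup.mem_subgroupOf.mpr hr)
  have hrP := hPcoe.le (hQP hrQ)
  exact hz'c r (Subgroup.mem_subgroupOf.mp hrP)

theorem part2_mpr {G : Type*} [Group G] [Finite G] {p : ℕ} [hp : Fact p.Prime] (S : Sylow p G)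
    (h : ∀ z : G, z ≠ 1 →
      z ∈ Cfsg.omegaOne p ((S : Subgroup G) ⊓ Subgroup.centralizer ((S : Subgroup G) : Set G)) →
      Cfsg.generalizedFittingSubgroup ↥(Subgroup.centralizer ({z} : Set G)) =
        Cfsg.pCore p ↥(Subgroup.centralizer ({z} : Set G))) :
    Cfsg.IsOfParabolicCharacteristic p G := by
  apply part2_mpr' S
  intro z hzS hzc hzo
  have hz1 : z ≠ 1 := by
    intro h3
    rw [h3, orderOf_one] at hzo
    exact hp.out.one_lt.ne hzo
  have hzΩ : z ∈ Cfsg.omegaOne p ((S : Subgroup G) ⊓ Subgroup.centralizer ((S : Subgroup G) : Set G)) := by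
    apply Subgroup.subset_closure
    refine ⟨Subgroup.mem_inf.mpr ⟨hzS, hzc⟩, ?_⟩
    rw [← hzo]
    exact pow_orderOf_eq_one _
  have h1 := h _ hz1 hzΩ
  rw [← isCharP_iff_generalizedFittingSubgroup_eq] at h1
  exact h1

/-- Let p be a prime dividing the order of the finite group G, S a Sylow p-subgroup of G and X a subgroup of S. (i) If some nontrivial element z of the centre of X has F*(C_G(z)) = O_p(C_G(z)), then F*(N_G(X)) = O_p(N_G(X)). (ii) G has parabolic characteristic p if and only if F*(C_G(z)) = O_p(C_G(z)) for every nontrivial z ∈ Ω₁(Z(S)). (iii) If F*(C_G(z)) = O_p(C_G(z)) for every element z of S of order p, then G has local characteristic p. -/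
theorem result {G : Type*} [Group G] [Finite G] {p : ℕ} [Fact p.Prime] (hdiv : p ∣ Nat.card G) (S : Sylow p G) (X : Subgroup G) (hX : X ≤ (S : Subgroup G)) : (∀ z : G, z ≠ 1 → z ∈ X → (∀ x ∈ X, x * z = z * x) → Cfsg.generalizedFittingSubgroup ↥(Subgroup.centralizer ({z} : Set G)) = Cfsg.pCore p ↥(Subgroup.centralizer ({z} : Set G)) → Cfsg.generalizedFittingSubgroup ↥(Subgroup.normalizer (X : Set G)) = Cfsg.pCore p ↥(Subgroup.normalizer (X : Set G))) ∧ (Cfsg.IsOfParabolicCharacteristic p G ↔ ∀ z : G, z ≠ 1 → z ∈ Cfsg.omegaOne p ((S : Subgroup G) ⊓ Subgroup.centralizer ((S : Subgroup G) : Set G)) → Cfsg.generalizedFittingSubgroup ↥(Subgroup.centralizer ({z} : Set G)) = Cfsg.pCore p ↥(Subgroup.centralizer ({z} : Set G))) ∧ ((∀ z : G, z ∈ (S : Subgroup G) → orderOf z = p → Cfsg.generalizedFittingSubgroup ↥(Subgroup.centralizer ({z} : Set G)) = Cfsg.pCore p ↥(Subgroup.centralizer ({z} : Set G))) → Cfsg.IsOfLocalCharacteristic p G) := by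
  refine ⟨?_, ⟨?_, ?_⟩, ?_⟩
  · intro z _ hzX hzc hF
    exact part1 S X hX z hzX hzc hF
  · intro hpar z hz1 hz
    exact part2_mp S hpar z hz1 hz
  · intro h
    exact part2_mpr S h
  · intro h
    exact ⟨hdiv, fun T hT hT1 => part3 S h T hT hT1⟩

end Cfsg.Agent.S2896
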