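import Cfsg.Statements.S2897
import Mathlib
import Cfsg.Agent.Lib.Helper54.CharPFStar
import Cfsg.Agent.S2896
-- import your own Cfsg.Agent.* helpers here

set_option autoImplicit false
open Cfsg

namespace Cfsg.Agent.S2897

/-- Let p be a prime dividing the order of the finite group G, suppose G has parabolic characteristic p, let S be a Sylow p-subgroup of G and G₁ a normal subgroup of G. If Ω₁(Z(S ∩ G₁)) is nontrivial and contained in Ω₁(Z(S)), then G₁ has parabolic characteristic p. -/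
theorem result {G : Type*} [Group G] [Finite G] {p : ℕ} [Fact p.Prime] (hdiv : p ∣ Nat.card G) (hG : Cfsg.IsOfParabolicCharacteristic p G) (S : Sylow p G) (G₁ : Subgroup G) [G₁.Normal] (hne : Cfsg.omegaOne p (((S : Subgroup G) ⊓ G₁) ⊓ Subgroup.centralizer (((S : Subgroup G) ⊓ G₁ : Subgroup G) : Set G)) ≠ ⊥) (hle : Cfsg.omegaOne p (((S : Subgroup G) ⊓ G₁) ⊓ Subgroup.centralizer (((S : Subgroup G) ⊓ G₁ : Subgroup G) : Set G)) ≤ Cfsg.omegaOne p ((S : Subgroup G) ⊓ Subgroup.centralizer ((S : Subgroup G) : Set G))) : Cfsg.IsOfParabolicCharacteristic p ↥G₁ := by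
  classical
  have P₁ : Sylow p ↥G₁ := Classical.arbitrary _
  apply Cfsg.Agent.S2896.part2_mpr' P₁
  intro z₁ hz₁P hz₁c hz₁o
  have hG₁n : G₁.Normal := inferInstance
  have hP₁'p : IsPGroup p ((P₁ : Subgroup ↥G₁).map G₁.subtype) := P₁.isPGroup'.map _
  obtain ⟨P, hP⟩ := hP₁'p.exists_le_sylow
  obtain ⟨g, hg⟩ := Cfsg.Agent.S2896.exists_conj_sylow S P
  have hmax : ∀ x : ↥G₁, (x : G) ∈ (P : Subgroup G) → x ∈ (P₁ : Subgroup ↥G₁) := by
    intro x hx
    have hQp : IsPGroup p ((P : Subgroup G).subgroupOf G₁) := P.isPGroup'.comap_subtype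
    have hle' : (P₁ : Subgroup ↥G₁) ≤ (P : Subgroup G).subgroupOf G₁ := by
      intro y hy
      rw [Subgroup.mem_subgroupOf]
      exact hP (Subgroup.mem_map_of_mem _ hy)
    have h1 := P₁.is_maximal' hQp hle'
    rw [← h1]
    exact Subgroup.mem_subgroupOf.mpr hx
  have hzP : (z₁ : G) ∈ (P : Subgroup G) := hP (Subgroup.mem_map_of_mem G₁.subtype hz₁P)
  have hz₀S : g⁻¹ * (z₁ : G) * g ∈ (S : Subgroup G) := (hg _).mp hzP
  have hz₀G₁ : g⁻¹ * (z₁ : G) * g ∈ G₁ := by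
    have h1 := hG₁n.conj_mem (z₁ : G) z₁.2 g⁻¹
    simpa using h1
  have hz₀o : orderOf (g⁻¹ * (z₁ : G) * g) = p := by
    rw [Cfsg.Agent.S2896.orderOf_conj', Subgroup.orderOf_coe]
    exact hz₁o
  have hz₀c : g⁻¹ * (z₁ : G) * g ∈ Subgroup.centralizer (((S : Subgroup G) ⊓ G₁ : Subgroup G) : Set G) := by
    rw [Subgroup.mem_centralizer_iff]
    intro s hs
    have hs' := Subgroup.mem_inf.mp hs
    have h1 : g * s * g⁻¹ ∈ (P : Subgroup G) := by
      rw [hg]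
      have h0 : g⁻¹ * (g * s * g⁻¹) * g = s := by group
      rw [h0]
      exact hs'.1
    have h2 : g * s * g⁻¹ ∈ G₁ := hG₁n.conj_mem s hs'.2 g
    have h3 : (⟨g * s * g⁻¹, h2⟩ : ↥G₁) ∈ (P₁ : Subgroup ↥G₁) := hmax ⟨_, h2⟩ h1
    have h4 := (Subgroup.mem_centralizer_iff.mp hz₁c) _ h3
    have h5 : (g * s * g⁻¹) * (z₁ : G) = (z₁ : G) * (g * s * g⁻¹) := congrArg Subtype.val h4
    calc s * (g⁻¹ * (z₁ : G) * g) = g⁻¹ * ((g * s * g⁻¹) * (z₁ : G)) * g := by group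
      _ = g⁻¹ * ((z₁ : G) * (g * s * g⁻¹)) * g := by rw [h5]
      _ = g⁻¹ * (z₁ : G) * g * s := by group
  have hz₀Ω : g⁻¹ * (z₁ : G) * g ∈ Cfsg.omegaOne p (((S : Subgroup G) ⊓ G₁) ⊓
      Subgroup.centralizer (((S : Subgroup G) ⊓ G₁ : Subgroup G) : Set G)) := by
    apply Subgroup.subset_closure
    refine ⟨Subgroup.mem_inf.mpr ⟨Subgroup.mem_inf.mpr ⟨hz₀S, hz₀G₁⟩, hz₀c⟩, ?_⟩
    rw [← hz₀o]
    exact pow_orderOf_eq_one _
  have hz₀1 : g⁻¹ * (z₁ : G) * g ≠ 1 := by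
    intro h3
    rw [h3, orderOf_one] at hz₀o
    exact (Fact.out : p.Prime).one_lt.ne hz₀o
  have h1 := Cfsg.Agent.S2896.part2_mp S hG _ hz₀1 (hle hz₀Ω)
  rw [← Cfsg.Agent.Helper54.isCharP_iff_generalizedFittingSubgroup_eq] at h1
  have h2 := Cfsg.Agent.S2896.isCharP_centralizer_conj g _ h1
  have h3 : g * (g⁻¹ * (z₁ : G) * g) * g⁻¹ = (z₁ : G) := by group
  rw [h3] at h2
  have h4 : Cfsg.Agent.Helper54.IsCharP p
      ↥(G₁.subgroupOf (Subgroup.centralizer ({(z₁ : G)} : Set G))) := h2.of_normal _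
  have e : ↥(G₁.subgroupOf (Subgroup.centralizer ({(z₁ : G)} : Set G))) ≃*
      ↥((Subgroup.centralizer ({(z₁ : G)} : Set G)).subgroupOf G₁) :=
    Cfsg.Agent.Helper54.subgroupOfSwap G₁ _
  have h5 : (Subgroup.centralizer ({(z₁ : G)} : Set G)).subgroupOf G₁ =
      Subgroup.centralizer ({z₁} : Set ↥G₁) := by
    ext y
    rw [Subgroup.mem_subgroupOf, Subgroup.mem_centralizer_iff, Subgroup.mem_centralizer_iff]
    constructor
    · intro h s hs
      rw [Set.mem_singleton_iff] at hs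
      subst hs
      exact Subtype.ext (h _ rfl)
    · intro h s hs
      rw [Set.mem_singleton_iff] at hs
      subst hs
      exact congrArg Subtype.val (h z₁ rfl)
  exact (h4.of_mulEquiv e).of_mulEquiv (MulEquiv.subgroupCongr h5)

end Cfsg.Agent.S2897
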