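import Cfsg.Statements.S2898
import Cfsg.Agent.Lib.Helper48.SPE
import Cfsg.Agent.Lib.Helper48.Cores
import Cfsg.Agent.Lib.Helper48.CoprimeGen

set_option autoImplicit false
open Cfsg

namespace Cfsg.Agent.S2898

open Cfsg.Agent.Helper48 Subgroup

/-- In a group of parabolic characteristic 2, the odd core meets trivially the normalizer of every
nontrivial 2-subgroup which is normalized by a Sylow 2-subgroup. -/
theorem oddCore_inf_normalizer_eq_bot {G : Type*} [Group G] [Finite G]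
    (hG : Cfsg.IsOfParabolicCharacteristic 2 G) (S : Sylow 2 G) (R : Subgroup G)
    (hR : IsPGroup 2 R) (hR1 : R ≠ ⊥) (hSR : (S : Subgroup G) ≤ normalizer (R : Set G)) :
    Cfsg.oddCore G ⊓ normalizer (R : Set G) = ⊥ := by
  haveI : Fact (Nat.Prime 2) := ⟨Nat.prime_two⟩
  have hchar := hG R hR hR1 ⟨S, hSR⟩
  set N := normalizer (R : Set G) with hN
  set K := Cfsg.oddCore G with hK
  set D : Subgroup N := K.subgroupOf N with hD
  have hDn : D.Normal := (pPrimeCore_normal 2 G).subgroupOf N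
  set P := pCore 2 ↥N with hP
  have hPn : P.Normal := pCore_normal 2 _
  have hcop : Nat.Coprime (Nat.card D) (Nat.card P) := by
    have h1 : Nat.card D ∣ Nat.card K := by
      have e1 : Nat.card D = Nat.card (D.map N.subtype) :=
        (Subgroup.card_map_of_injective (Subgroup.subtype_injective N)).symm
      rw [e1, hD, Subgroup.subgroupOf_map_subtype]
      exact Subgroup.card_dvd_of_le inf_le_left
    have hKc : (Nat.card K).Coprime 2 := pPrimeCore_card_coprime 2
    obtain ⟨k, hk⟩ := (isPGroup_pCore 2 ↥N).exists_card_eq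
    rw [hk]
    exact Nat.Coprime.pow_right k (Nat.Coprime.coprime_dvd_left h1 hKc)
  have hinf : D ⊓ P = ⊥ := disjoint_iff.mp (Subgroup.disjoint_of_coprime_natCard hcop)
  have hcomm : ⁅D, P⁆ = ⊥ := by
    rw [eq_bot_iff, ← hinf]
    exact commutator_le_inf D P
  have hDP : D ≤ centralizer (P : Set N) := commutator_eq_bot_iff_le_centralizer.mp hcomm
  have hDbot : D = ⊥ := by
    rw [eq_bot_iff, ← hinf]
    exact le_inf le_rfl (hDP.trans hchar)
  rw [eq_bot_iff]
  intro x hx
  have hxD : (⟨x, hx.2⟩ : N) ∈ D := hx.1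
  rw [hDbot, mem_bot] at hxD
  rw [mem_bot]
  exact congrArg Subtype.val hxD

/-- An involution acting fixed-point-freely on a normal subgroup inverts it. -/
theorem inverts_of_fixedPointFree {G : Type*} [Group G] [Finite G] (K : Subgroup G) [hK : K.Normal]
    (z : G) (hz : z * z = 1) (hfree : K ⊓ centralizer ({z} : Set G) = ⊥) :
    ∀ k ∈ K, z * k * z⁻¹ = k⁻¹ := by
  have hz' : z⁻¹ = z := inv_eq_of_mul_eq_one_left hz
  let φ : K → K := fun k => ⟨(k : G)⁻¹ * (z * k * z⁻¹), K.mul_mem (K.inv_mem k.2) (hK.conj_mem k k.2 z)⟩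
  have hinj : Function.Injective φ := by
    intro k l hkl
    have h1 : (k : G)⁻¹ * (z * k * z⁻¹) = (l : G)⁻¹ * (z * l * z⁻¹) := congrArg Subtype.val hkl
    have h2 : (l : G) * (k : G)⁻¹ ∈ K ⊓ centralizer ({z} : Set G) := by
      refine Subgroup.mem_inf.mpr ⟨K.mul_mem l.2 (K.inv_mem k.2), ?_⟩
      rw [mem_centralizer_singleton_iff]
      have h3 : (l : G) * ((k : G)⁻¹ * (z * k * z⁻¹)) = z * l * z⁻¹ := by rw [h1]; group
      calc (l : G) * (k : G)⁻¹ * z = (l : G) * ((k : G)⁻¹ * (z * k * z⁻¹)) * (z * (k : G)⁻¹) := by group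
        _ = z * l * z⁻¹ * (z * (k : G)⁻¹) := by rw [h3]
        _ = z * ((l : G) * (k : G)⁻¹) := by group
    rw [hfree, mem_bot] at h2
    apply Subtype.ext
    have : (l : G) = k := by
      have h4 : (l : G) = (l : G) * (k : G)⁻¹ * k := by group
      rw [h4, h2, one_mul]
    exact this.symm
  have hsurj : Function.Surjective φ := Finite.injective_iff_surjective.mp hinj
  intro k hk
  obtain ⟨k₀, hk₀⟩ := hsurj ⟨k, hk⟩
  have h1 : (k₀ : G)⁻¹ * (z * k₀ * z⁻¹) = k := congrArg Subtype.val hk₀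
  rw [← h1, hz']
  have e1 : z * ((k₀ : G)⁻¹ * (z * k₀ * z)) * z = z * (k₀ : G)⁻¹ * z * k₀ * (z * z) := by group
  have e2 : ((k₀ : G)⁻¹ * (z * k₀ * z))⁻¹ = z⁻¹ * (k₀ : G)⁻¹ * z⁻¹ * k₀ := by group
  rw [e1, e2, hz, mul_one, hz']

/-- Let G be a finite group of even order with parabolic characteristic 2. If the centre of G ⧸ O(G) is trivial, then O(G) = 1. -/
theorem result {G : Type*} [Group G] [Finite G] (h2 : 2 ∣ Nat.card G) (hG : Cfsg.IsOfParabolicCharacteristic 2 G) [hN : (Cfsg.oddCore G).Normal] (hZ : Subgroup.center (G ⧸ Cfsg.oddCore G) = ⊥) : Cfsg.oddCore G = ⊥ := by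
  haveI : Fact (Nat.Prime 2) := ⟨Nat.prime_two⟩
  set K := Cfsg.oddCore G with hK
  obtain ⟨S⟩ : Nonempty (Sylow 2 G) := inferInstance
  have hS1 : (S : Subgroup G) ≠ ⊥ := S.ne_bot_of_dvd_card h2
  haveI hSnt : Nontrivial (S : Subgroup G) := (Subgroup.nontrivial_iff_ne_bot _).mpr hS1
  have hcen : Nontrivial (center (S : Subgroup G)) := S.isPGroup'.center_nontrivial
  obtain ⟨n, hn0, hcard⟩ :=
    (S.isPGroup'.to_subgroup (center (S : Subgroup G))).nontrivial_iff_card.mp hcen
  obtain ⟨z0, hz0⟩ := exists_prime_orderOf_dvd_card' 2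
    (show 2 ∣ Nat.card (center (S : Subgroup G)) by rw [hcard]; exact dvd_pow_self 2 hn0.ne')
  set z : G := ((z0 : (S : Subgroup G)) : G) with hz
  have hzS : z ∈ (S : Subgroup G) := (z0 : (S : Subgroup G)).2
  have hzc : ∀ s ∈ (S : Subgroup G), s * z = z * s := by
    intro s hs
    have := Subgroup.mem_center_iff.mp z0.2 ⟨s, hs⟩
    exact congrArg Subtype.val this
  have hz2 : orderOf z = 2 := by
    rw [hz, Subgroup.orderOf_coe, Subgroup.orderOf_coe]; exact hz0
  have hz1 : z ≠ 1 := by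
    intro h
    rw [h, orderOf_one] at hz2
    omega
  have hzz : z * z = 1 := by
    rw [← pow_two, ← hz2]; exact pow_orderOf_eq_one z
  -- `K ∩ C(z) = 1`
  have hKz : K ⊓ centralizer ({z} : Set G) = ⊥ := by
    have hSN : (S : Subgroup G) ≤ normalizer ((zpowers z : Subgroup G) : Set G) := by
      intro s hs
      apply centralizer_singleton_le_normalizer_zpowers z
      rw [mem_centralizer_singleton_iff]
      exact hzc s hs
    have := oddCore_inf_normalizer_eq_bot hG S (zpowers z) (isPGroup_zpowers_of_orderOf hz2)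
      (zpowers_ne_bot.mpr hz1) hSN
    rw [eq_bot_iff, ← this]
    exact inf_le_inf_left _ (centralizer_singleton_le_normalizer_zpowers z)
  have hinv : ∀ k ∈ K, z * k * z⁻¹ = k⁻¹ := inverts_of_fixedPointFree K z hzz hKz
  have hz' : z⁻¹ = z := inv_eq_of_mul_eq_one_left hzz
  set C := centralizer (K : Set G) with hC
  have hCn : C.Normal := Subgroup.normal_centralizer
  by_cases hC2 : 2 ∣ Nat.card C
  · -- `C` has even order
    obtain ⟨t0, ht0⟩ := exists_prime_orderOf_dvd_card' 2 hC2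
    set t : G := (t0 : G) with ht
    have ht2 : orderOf t = 2 := by rw [ht, Subgroup.orderOf_coe]; exact ht0
    have ht1 : t ≠ 1 := by
      intro h
      rw [h, orderOf_one] at ht2
      omega
    obtain ⟨g, -, hg⟩ := exists_conj_mem_sylow S (H := ⊤) le_top
      (Q := zpowers t) (isPGroup_zpowers_of_orderOf ht2) le_top
    set R := C ⊓ (S : Subgroup G) with hR
    have htR : g * t * g⁻¹ ∈ R := ⟨hCn.conj_mem t t0.2 g, hg t (mem_zpowers t)⟩
    have hR1 : R ≠ ⊥ := by
      intro h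
      rw [h, mem_bot] at htR
      apply ht1
      have : t = g⁻¹ * (g * t * g⁻¹) * g := by group
      rw [this, htR]; group
    have hRp : IsPGroup 2 R := S.isPGroup'.to_le inf_le_right
    have hSR : (S : Subgroup G) ≤ normalizer (R : Set G) := by
      intro s hs
      apply mem_normalizer_inf'
      · rw [Subgroup.normalizer_eq_top]; exact mem_top s
      · exact le_normalizer hs
    have hbot := oddCore_inf_normalizer_eq_bot hG S R hRp hR1 hSR
    rw [eq_bot_iff, ← hbot]
    refine le_inf le_rfl ?_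
    intro k hk
    apply centralizer_le_normalizer
    rw [mem_centralizer_iff]
    intro r hr
    exact (mem_centralizer_iff.mp hr.1 k hk).symm
  · -- `C` has odd order
    exfalso
    have hCK : C ≤ K := le_pPrimeCore hCn ((Nat.Prime.coprime_iff_not_dvd Nat.prime_two).mpr hC2).symm
    have hcomm : ∀ g : G, z * g * z⁻¹ * g⁻¹ ∈ C := by
      intro g
      rw [hC, mem_centralizer_iff]
      intro k hk
      have hk' : g⁻¹ * k * g ∈ K := by
        have := hN.conj_mem k hk g⁻¹
        rwa [inv_inv] at this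
      have h1 := hinv _ hk'
      have h2 := hinv k⁻¹ (K.inv_mem hk)
      rw [inv_inv] at h2
      -- `(z g z⁻¹ g⁻¹) k (z g z⁻¹ g⁻¹)⁻¹ = k`
      have h3 : z * g * z⁻¹ * g⁻¹ * k * (z * g * z⁻¹ * g⁻¹)⁻¹ = k := by
        calc z * g * z⁻¹ * g⁻¹ * k * (z * g * z⁻¹ * g⁻¹)⁻¹
            = z * (g * (z⁻¹ * (g⁻¹ * k * g) * z) * g⁻¹) * z⁻¹ := by group
          _ = z * (g * (z * (g⁻¹ * k * g) * z⁻¹) * g⁻¹) * z⁻¹ := by rw [hz']
          _ = z * (g * (g⁻¹ * k * g)⁻¹ * g⁻¹) * z⁻¹ := by rw [h1]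
          _ = z * k⁻¹ * z⁻¹ := by group
          _ = k := h2
      calc k * (z * g * z⁻¹ * g⁻¹)
          = (z * g * z⁻¹ * g⁻¹ * k * (z * g * z⁻¹ * g⁻¹)⁻¹) * (z * g * z⁻¹ * g⁻¹) := by rw [h3]
        _ = z * g * z⁻¹ * g⁻¹ * k := by group
    have hzcen : (QuotientGroup.mk z : G ⧸ K) ∈ center (G ⧸ K) := by
      rw [Subgroup.mem_center_iff]
      intro y
      obtain ⟨g, rfl⟩ := QuotientGroup.mk_surjective y
      have h1 : (QuotientGroup.mk (z * g * z⁻¹ * g⁻¹) : G ⧸ K) = 1 :=
        (QuotientGroup.eq_one_iff _).mpr (hCK (hcomm g))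
      have h2 : z * g = (z * g * z⁻¹ * g⁻¹) * (g * z) := by group
      have h3 : (QuotientGroup.mk (z * g) : G ⧸ K) = QuotientGroup.mk (g * z) := by
        rw [h2, QuotientGroup.mk_mul, h1, one_mul]
      exact h3.symm
    rw [hZ, mem_bot, QuotientGroup.eq_one_iff] at hzcen
    have : z ∈ K ⊓ centralizer ({z} : Set G) :=
      Subgroup.mem_inf.mpr ⟨hzcen, by rw [mem_centralizer_singleton_iff]⟩
    rw [hKz, mem_bot] at this
    exact hz1 this

end Cfsg.Agent.S2898
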