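import Cfsg.Statements.S3802
import Mathlib

set_option autoImplicit false
open Cfsg

namespace Cfsg.Agent.S3802

variable {G : Type*} [Group G]

/-- Relative subnormality inside a fixed ambient group. -/
inductive SN : Subgroup G → Subgroup G → Prop
  | refl (K : Subgroup G) : SN K K
  | step (N M K : Subgroup G) : N ≤ M → M ≤ Subgroup.normalizer (N : Set G) → SN M K → SN N K

lemma SN.le {N K : Subgroup G} (h : SN N K) : N ≤ K := by
  induction h with
  | refl => exact le_rfl
  | step N M K hNM _ _ ih => exact hNM.trans ih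

lemma SN.of_isSubnormal {N : Subgroup G} (h : N.IsSubnormal) : SN N ⊤ := by
  induction h with
  | top => exact SN.refl _
  | step H K h_le hSubn hN ih =>
    exact SN.step H K ⊤ h_le ((Subgroup.normal_subgroupOf_iff_le_normalizer h_le).mp hN) ih

lemma SN.cases_proper {N K : Subgroup G} (h : SN N K) :
    N = K ∨ ∃ K', K' ≠ K ∧ K' ≤ K ∧ K ≤ Subgroup.normalizer (K' : Set G) ∧ SN N K' := by
  induction h with
  | refl => left; rfl
  | step N M K hNM hnorm hMK ih =>
    rcases ih with rfl | ⟨K', hne, hle, hnK, hsn⟩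
    · by_cases hNK : N = M
      · left; exact hNK
      · right; exact ⟨N, hNK, hNM, hnorm, SN.refl N⟩
    · right; exact ⟨K', hne, hle, hnK, SN.step N M K' hNM hnorm hsn⟩

/-- conjugate of a subgroup -/
def cj (g : G) (B : Subgroup G) : Subgroup G := B.map (MulAut.conj g).toMonoidHom

lemma mem_cj (g y : G) (B : Subgroup G) : y ∈ cj g B ↔ g⁻¹ * y * g ∈ B := by
  unfold cj
  constructor
  · rintro ⟨h, hh, rfl⟩
    simpa [MulAut.conj_apply, mul_assoc] using hh
  · intro h
    refine ⟨g⁻¹ * y * g, h, ?_⟩
    simp [MulAut.conj_apply, mul_assoc]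

lemma cj_mul (a b : G) (B : Subgroup G) : cj (a * b) B = cj a (cj b B) := by
  ext y
  rw [mem_cj, mem_cj, mem_cj]
  have : (a * b)⁻¹ * y * (a * b) = b⁻¹ * (a⁻¹ * y * a) * b := by group
  rw [this]

lemma cj_one (B : Subgroup G) : cj 1 B = B := by
  ext y
  rw [mem_cj]; simp

lemma cj_mono (g : G) {B D : Subgroup G} (h : B ≤ D) : cj g B ≤ cj g D := Subgroup.map_mono h

lemma cj_inv_cj (g : G) (B : Subgroup G) : cj g⁻¹ (cj g B) = B := by
  rw [← cj_mul, inv_mul_cancel, cj_one]

lemma cj_cj_inv (g : G) (B : Subgroup G) : cj g (cj g⁻¹ B) = B := by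
  rw [← cj_mul, mul_inv_cancel, cj_one]

lemma cj_eq_self (g : G) (B : Subgroup G) (hg : g ∈ Subgroup.normalizer (B : Set G)) : cj g B = B := by
  ext y
  rw [mem_cj]
  have hg' := Subgroup.inv_mem _ hg
  rw [Subgroup.mem_normalizer_iff] at hg'
  have := hg' y
  simp only [inv_inv] at this
  exact this.symm

lemma mem_normalizer_of_conj_le [Finite G] (P : Subgroup G) (h : G)
    (hle : ∀ x ∈ P, h * x * h⁻¹ ∈ P) : h ∈ Subgroup.normalizer (P : Set G) := by
  have h1 : cj h P ≤ P := by
    rintro _ ⟨x, hx, rfl⟩
    exact hle x hx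
  have h2 : cj h P = P := by
    apply Subgroup.eq_of_le_of_card_ge h1
    unfold cj
    rw [Subgroup.card_map_of_injective (MulAut.conj h).injective]
  rw [Subgroup.mem_normalizer_iff]
  intro x
  constructor
  · exact hle x
  · intro hx
    have : h * x * h⁻¹ ∈ cj h P := by rw [h2]; exact hx
    rw [mem_cj] at this
    simpa [mul_assoc] using this

lemma le_normalizer_cj (g : G) (B K' : Subgroup G) (hK' : K' ≤ Subgroup.normalizer (B : Set G))
    (hg : g ∈ Subgroup.normalizer (K' : Set G)) : K' ≤ Subgroup.normalizer ((cj g B : Subgroup G) : Set G) := by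
  intro k hk
  rw [Subgroup.mem_normalizer_iff]
  intro y
  rw [mem_cj, mem_cj]
  have hk' : g⁻¹ * k * g ∈ K' := by
    have hg' := Subgroup.inv_mem _ hg
    rw [Subgroup.mem_normalizer_iff] at hg'
    have := (hg' k).mp hk
    simpa using this
  have hn := hK' hk'
  rw [Subgroup.mem_normalizer_iff] at hn
  have := hn (g⁻¹ * y * g)
  have e : g⁻¹ * k * g * (g⁻¹ * y * g) * (g⁻¹ * k * g)⁻¹ = g⁻¹ * (k * y * k⁻¹) * g := by group
  rw [e] at this
  exact this

theorem wielandt [Finite G] : ∀ (n : ℕ) (K : Subgroup G), Nat.card K = n → ∀ (C A N : Subgroup G),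
    C ≤ N → K ≤ Subgroup.normalizer (C : Set G) → C < A → A ≤ K → K ≤ Subgroup.normalizer (A : Set G) →
    (∀ B : Subgroup G, C ≤ B → B ≤ A → K ≤ Subgroup.normalizer (B : Set G) → B = C ∨ B = A) →
    SN N K → A ≤ Subgroup.normalizer (N : Set G) := by
  intro n
  induction n using Nat.strong_induction_on with
  | _ n ih =>
  intro K hK C A N hCN hKC hCA hAK hKA hmin hsn
  rcases hsn.cases_proper with rfl | ⟨K', hne, hK'K, hKK', hsn'⟩
  · exact hAK.trans Subgroup.le_normalizer
  · have hNK' : N ≤ K' := hsn'.le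
    have hCK' : C ≤ K' := hCN.trans hNK'
    have hDnorm : K ≤ Subgroup.normalizer ((A ⊓ K' : Subgroup G) : Set G) := by
      intro k hk
      have h1 := hKA hk
      have h2 := hKK' hk
      rw [Subgroup.mem_normalizer_iff] at h1 h2 ⊢
      intro x
      rw [Subgroup.mem_inf, Subgroup.mem_inf, ← h1 x, ← h2 x]
    rcases hmin (A ⊓ K') (le_inf hCA.le hCK') inf_le_left hDnorm with hD | hD
    · -- A ⊓ K' = C : A centralizes K' modulo C
      intro a ha
      apply mem_normalizer_of_conj_le
      intro x hx
      have hxK' : x ∈ K' := hNK' hx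
      have hxK : x ∈ K := hK'K hxK'
      have haK : a ∈ K := hAK ha
      have h1 : a * x * a⁻¹ * x⁻¹ ∈ A := by
        have hn := hKA hxK
        rw [Subgroup.mem_normalizer_iff] at hn
        have h2 : x * a⁻¹ * x⁻¹ ∈ A := (hn a⁻¹).mp (A.inv_mem ha)
        have : a * x * a⁻¹ * x⁻¹ = a * (x * a⁻¹ * x⁻¹) := by group
        rw [this]; exact A.mul_mem ha h2
      have h2 : a * x * a⁻¹ * x⁻¹ ∈ K' := by
        have hn := hKK' haK
        rw [Subgroup.mem_normalizer_iff] at hn
        exact K'.mul_mem ((hn x).mp hxK') (K'.inv_mem hxK')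
      have h3 : a * x * a⁻¹ * x⁻¹ ∈ C := by
        rw [← hD]; exact ⟨h1, h2⟩
      have : a * x * a⁻¹ = (a * x * a⁻¹ * x⁻¹) * x := by group
      rw [this]
      exact N.mul_mem (hCN h3) hx
    · -- A ≤ K'
      have hAK' : A ≤ K' := by rw [← hD]; exact inf_le_right
      have hcard : Nat.card K' < n := by
        rw [← hK]
        by_contra hcon
        rw [not_lt] at hcon
        exact hne (Subgroup.eq_of_le_of_card_ge hK'K hcon)
      let P : Subgroup G → Prop := fun B => C < B ∧ B ≤ A ∧ K' ≤ Subgroup.normalizer (B : Set G)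
      have hPA : P A := ⟨hCA, le_rfl, hK'K.trans hKA⟩
      obtain ⟨B, hBA, hBmin⟩ := exists_minimal_le_of_wellFoundedLT P A hPA
      obtain ⟨⟨hCB, _, hK'B⟩, hBm⟩ := hBmin
      -- each conjugate normalizes N
      have hconj : ∀ g ∈ K, cj g B ≤ Subgroup.normalizer (N : Set G) := by
        intro g hg
        have hgC : cj g C = C := cj_eq_self g C (hKC hg)
        have hgA : cj g A = A := cj_eq_self g A (hKA hg)
        have hgiC : cj g⁻¹ C = C := cj_eq_self g⁻¹ C (hKC (K.inv_mem hg))
        apply ih (Nat.card K') hcard K' rfl C (cj g B) N hCN (hK'K.trans hKC)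
        · -- C < cj g B
          constructor
          · rw [← hgC]; exact cj_mono g hCB.le
          · intro hle
            have : B ≤ C := by
              have := cj_mono g⁻¹ hle
              rwa [cj_inv_cj, hgiC] at this
            exact (not_le_of_gt hCB) this
        · -- cj g B ≤ K'
          calc cj g B ≤ cj g A := cj_mono g hBA
            _ = A := hgA
            _ ≤ K' := hAK'
        · exact le_normalizer_cj g B K' hK'B (hKK' hg)
        · -- minimality
          intro B₂ hCB₂ hB₂ hK'B₂
          have h3C : C ≤ cj g⁻¹ B₂ := by rw [← hgiC]; exact cj_mono _ hCB₂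
          have h3B : cj g⁻¹ B₂ ≤ B := by
            have := cj_mono g⁻¹ hB₂
            rwa [cj_inv_cj] at this
          have h3K : K' ≤ Subgroup.normalizer ((cj g⁻¹ B₂ : Subgroup G) : Set G) :=
            le_normalizer_cj g⁻¹ B₂ K' hK'B₂ (hKK' (K.inv_mem hg))
          by_cases hlt : C < cj g⁻¹ B₂
          · right
            have hP3 : P (cj g⁻¹ B₂) := ⟨hlt, h3B.trans hBA, h3K⟩
            have : B ≤ cj g⁻¹ B₂ := hBm hP3 h3B
            have heq : cj g⁻¹ B₂ = B := le_antisymm h3B this
            rw [← heq, cj_cj_inv]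
          · left
            have heq : cj g⁻¹ B₂ = C := by
              by_contra hne'
              exact hlt (lt_of_le_of_ne h3C (Ne.symm hne'))
            have := congrArg (cj g) heq
            rwa [cj_cj_inv, hgC] at this
        · exact hsn'
      -- the join
      set J : Subgroup G := ⨆ g : K, cj (g : G) B with hJ
      have hBJ : B ≤ J := by
        have := le_iSup (fun g : K => cj (g : G) B) 1
        simpa [cj_one] using this
      have hJA : J ≤ A := by
        apply iSup_le
        intro g
        calc cj (g : G) B ≤ cj (g : G) A := cj_mono _ hBA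
          _ = A := cj_eq_self _ A (hKA g.2)
      have hJnorm : K ≤ Subgroup.normalizer (J : Set G) := by
        intro k hk
        apply mem_normalizer_of_conj_le
        intro x hx
        have h1 : k * x * k⁻¹ ∈ cj k J := by
          rw [mem_cj]
          have : k⁻¹ * (k * x * k⁻¹) * k = x := by group
          rw [this]; exact hx
        have h2 : cj k J ≤ J := by
          unfold cj
          rw [hJ, Subgroup.map_iSup]
          apply iSup_le
          intro g
          have : Subgroup.map (MulAut.conj k).toMonoidHom (cj (g : G) B) = cj (k * g) B := by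
            rw [cj_mul]; rfl
          rw [this]
          exact le_iSup (fun g : K => cj (g : G) B) ⟨k * g, K.mul_mem hk g.2⟩
        exact h2 h1
      rcases hmin J (hCB.le.trans hBJ) hJA hJnorm with hJC | hJA'
      · exfalso
        rw [hJC] at hBJ
        exact (not_le_of_gt hCB) hBJ
      · rw [← hJA']
        apply iSup_le
        intro g
        exact hconj g g.2

/-- Let G be a finite group, M a maximal subgroup of G and N a subnormal subgroup of G contained in M. Then N is contained in every conjugate of M, that is, N lies in the core of M in G. -/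
theorem result {G : Type*} [Group G] [Finite G] (M N : Subgroup G) (hM : IsCoatom M) (hN : N.IsSubnormal) (hNM : N ≤ M) :
    N ≤ Subgroup.normalCore M := by
  set C := M.normalCore with hC
  have hCM : C ≤ M := M.normalCore_le
  have hCn : C.Normal := inferInstance
  have hN' : (N ⊔ C).IsSubnormal := by
    have h1 := (hN.map (QuotientGroup.mk'_surjective C)).comap (QuotientGroup.mk' C)
    rwa [Subgroup.comap_map_eq, QuotientGroup.ker_mk'] at h1
  have hsn : SN (N ⊔ C) ⊤ := SN.of_isSubnormal hN'
  have hCtop : C < ⊤ := lt_of_le_of_lt hCM hM.lt_top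
  let P : Subgroup G → Prop := fun B => C < B ∧ B.Normal
  obtain ⟨A, _, hAmin⟩ := exists_minimal_le_of_wellFoundedLT P ⊤ ⟨hCtop, inferInstance⟩
  obtain ⟨⟨hCA, hAn⟩, hAm⟩ := hAmin
  have hAM : ¬ A ≤ M := by
    intro hle
    have : A ≤ C := Subgroup.normal_le_normalCore.mpr hle
    exact (not_le_of_gt hCA) this
  have htop : M ⊔ A = ⊤ := by
    apply hM.2
    apply lt_of_le_of_ne le_sup_left
    intro h
    apply hAM
    rw [h]; exact le_sup_right
  have hnormA : A ≤ Subgroup.normalizer ((N ⊔ C : Subgroup G) : Set G) := by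
    apply wielandt (Nat.card (⊤ : Subgroup G)) ⊤ rfl C A (N ⊔ C) le_sup_right
    · rw [Subgroup.normalizer_eq_top_iff.mpr hCn]
    · exact hCA
    · exact le_top
    · rw [Subgroup.normalizer_eq_top_iff.mpr hAn]
    · intro B hCB hBA hB
      have hBn : B.Normal := Subgroup.normalizer_eq_top_iff.mp (top_le_iff.mp hB)
      by_cases hlt : C < B
      · right
        exact le_antisymm hBA (hAm ⟨hlt, hBn⟩ hBA)
      · left
        by_contra hne
        exact hlt (lt_of_le_of_ne hCB (Ne.symm hne))
    · exact hsn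
  intro x hx b
  have hb : b ∈ M ⊔ A := by rw [htop]; trivial
  rw [Subgroup.mem_sup_of_normal_right] at hb
  obtain ⟨m, hm, a, ha, rfl⟩ := hb
  have h1 : a * x * a⁻¹ ∈ N ⊔ C := by
    have := hnormA ha
    rw [Subgroup.mem_normalizer_iff] at this
    exact (this x).mp (Subgroup.mem_sup_left hx)
  have h2 : a * x * a⁻¹ ∈ M := (sup_le hNM hCM) h1
  have : m * a * x * (m * a)⁻¹ = m * (a * x * a⁻¹) * m⁻¹ := by group
  rw [this]
  exact M.mul_mem (M.mul_mem hm h2) (M.inv_mem hm)

end Cfsg.Agent.S3802
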