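import Cfsg.Statements.S2905
import Cfsg.Agent.S3802
import Cfsg.Agent.Lib.Helper47.PRes
import Cfsg.Agent.Lib.Helper48.Cores
import Cfsg.Agent.Lib.Helper48.PMinimal
import Cfsg.Agent.Lib.Helper64.Basic

set_option autoImplicit false
open Cfsg

namespace Cfsg.Agent.S2905

open Cfsg.Agent.Helper47 Cfsg.Agent.Helper48 Cfsg.Agent.Helper64 in
/-- Let P be a finite p-minimal group (a Sylow p-subgroup S is not normal and lies in a unique maximal subgroup M of P) and let F be the normal core of M. Then: every subnormal subgroup N of P contained in M satisfies N ∩ S ≤ O_p(P); if O^p(P) has a normal Sylow p-subgroup then the order of P has at most two prime divisors; every normal subgroup N of P either contains O^p(P) or is contained in F; and O^p(P)F ⧸ F is a minimal normal subgroup of P ⧸ F. -/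
theorem result {P : Type*} [Group P] [Finite P] {p : ℕ} [Fact p.Prime] (hP : Cfsg.IsPMinimal p P) (S : Sylow p P) (M : Subgroup P) (hM : IsCoatom M) (hSM : (S : Subgroup P) ≤ M) [hF : M.normalCore.Normal] : (∀ N : Subgroup P, N.IsSubnormal → N ≤ M → N ⊓ (S : Subgroup P) ≤ Cfsg.pCore p P) ∧ ((∀ T : Sylow p ↥(Cfsg.pResidual p P), (T : Subgroup ↥(Cfsg.pResidual p P)).Normal) → (Nat.card P).primeFactors.card ≤ 2) ∧ (∀ N : Subgroup P, N.Normal → Cfsg.pResidual p P ≤ N ∨ N ≤ M.normalCore) ∧ (∀ N : Subgroup P, N.Normal → M.normalCore ≤ N → N ≤ Cfsg.pResidual p P ⊔ M.normalCore → N = M.normalCore ∨ N = Cfsg.pResidual p P ⊔ M.normalCore) ∧ M.normalCore < Cfsg.pResidual p P ⊔ M.normalCore := by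
  classical
  have hp : p.Prime := Fact.out
  have hMtop : M ≠ ⊤ := hM.1
  have hA : ∀ H : Subgroup P, (S : Subgroup P) ≤ H → H ≠ ⊤ → H ≤ M :=
    fun H hSH hH => le_coatom_of_isPMinimal hP S M hM hSM hSH hH
  have hSD : (S : Subgroup P) ⊔ Cfsg.pResidual p P = ⊤ := sylow_sup_pResidual_eq_top S
  have hFM : M.normalCore ≤ M := M.normalCore_le
  have hDM : ¬ Cfsg.pResidual p P ≤ M := fun h => hMtop (top_le_iff.mp (hSD ▸ sup_le hSM h))
  have h3 : ∀ N : Subgroup P, N.Normal → Cfsg.pResidual p P ≤ N ∨ N ≤ M.normalCore := by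
    intro N hN
    by_cases hNS : (S : Subgroup P) ⊔ N = ⊤
    · left
      apply pResidual_le_of_isPGroup_quotient N
      have h1 : N.index = N.relIndex S := by
        rw [← Subgroup.relIndex_top_right, ← hNS, Subgroup.relIndex_sup_right]
      obtain ⟨k, hk⟩ := IsPGroup.iff_card.mp S.2
      have h2 : N.index ∣ p ^ k := by rw [h1, ← hk]; exact Subgroup.relIndex_dvd_card N S
      obtain ⟨j, -, hj⟩ := (Nat.dvd_prime_pow hp).mp h2
      exact IsPGroup.of_card (by rw [← Subgroup.index_eq_card]; exact hj)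
    · right
      have : (S : Subgroup P) ⊔ N ≤ M := hA _ le_sup_left hNS
      exact Subgroup.normal_le_normalCore.mpr (le_sup_right.trans this)
  refine ⟨?_, ?_, h3, ?_, ?_⟩
  · intro N hN hNM
    have hNF : N ≤ M.normalCore := Cfsg.Agent.S3802.result M N hM hN hNM
    have h1 : N ⊓ (S : Subgroup P) ≤ (S : Subgroup P) ⊓ M.normalCore := by
      rw [inf_comm]; exact inf_le_inf_left _ hNF
    refine h1.trans ?_
    have h2 : Subgroup.normalizer (((S : Subgroup P) ⊓ M.normalCore : Subgroup P) : Set P)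
        ⊔ M.normalCore = ⊤ := normalizer_inf_sup_eq_top S M.normalCore
    have h3' : (S : Subgroup P) ≤
        Subgroup.normalizer (((S : Subgroup P) ⊓ M.normalCore : Subgroup P) : Set P) :=
      le_normalizer_inf_normal _ _
    have h4 : Subgroup.normalizer (((S : Subgroup P) ⊓ M.normalCore : Subgroup P) : Set P) = ⊤ := by
      by_contra hne
      have := hA _ h3' hne
      exact hMtop (top_le_iff.mp (h2 ▸ sup_le this hFM))
    have h5 : ((S : Subgroup P) ⊓ M.normalCore).Normal := Subgroup.normalizer_eq_top_iff.mp h4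
    exact le_pCore h5 (S.2.to_le inf_le_left)
  · intro hT
    obtain ⟨T⟩ : Nonempty (Sylow p ↥(Cfsg.pResidual p P)) := inferInstance
    exact card_primeFactors_le_two_of_normal_sylow S M hMtop hSM hA (Cfsg.pResidual p P) hSD T (hT T)
  · intro N hN hFN hND
    rcases h3 N hN with h | h
    · right; exact le_antisymm hND (sup_le h hFN)
    · left; exact le_antisymm h hFN
  · refine lt_of_le_of_ne le_sup_right (fun h => hDM ?_)
    calc Cfsg.pResidual p P ≤ Cfsg.pResidual p P ⊔ M.normalCore := le_sup_left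
      _ = M.normalCore := h.symm
      _ ≤ M := hFM

end Cfsg.Agent.S2905
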