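import Cfsg.Statements.S2906
import Cfsg.Agent.S2905
import Cfsg.Agent.S3802
import Cfsg.Agent.Lib.Helper48.PMinimalComp2

set_option autoImplicit false
open Cfsg

namespace Cfsg.Agent.S2906

open Cfsg.Agent.Helper47 Cfsg.Agent.Helper48 in
/-- Let P be a finite p-minimal group with O_p(P) = 1, S a Sylow p-subgroup of P and K a component of P. Then O^p(P) = F*(P) = E(P) is generated by the S-conjugates of K, and the subgroup K·N_S(K) is again p-minimal. -/
theorem result {P : Type*} [Group P] [Finite P] {p : ℕ} [Fact p.Prime] (hP : Cfsg.IsPMinimal p P) (hOp : Cfsg.pCore p P = ⊥) (S : Sylow p P) (K : Subgroup P) (hK : Cfsg.IsComponent K) : Cfsg.pResidual p P = Cfsg.generalizedFittingSubgroup P ∧ Cfsg.generalizedFittingSubgroup P = Cfsg.layer P ∧ Cfsg.layer P = ⨆ s : ↥(S : Subgroup P), K.map (MulAut.conj (s : P)).toMonoidHom ∧ Cfsg.IsPMinimal p ↥(K ⊔ ((S : Subgroup P) ⊓ Subgroup.normalizer (K : Set P))) := by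
  classical
  obtain ⟨M, ⟨hM, hSM⟩, -⟩ := (hP S).2
  have hMtop : M ≠ ⊤ := hM.1
  have hA : ∀ H : Subgroup P, (S : Subgroup P) ≤ H → H ≠ ⊤ → H ≤ M :=
    fun H hSH hH => le_coatom_of_isPMinimal hP S M hM hSM hSH hH
  obtain ⟨h1, -, h3, -, -⟩ := Cfsg.Agent.S2905.result hP S M hM hSM
  have hSD : (S : Subgroup P) ⊔ Cfsg.pResidual p P = ⊤ := sylow_sup_pResidual_eq_top S
  have hFM : M.normalCore ≤ M := M.normalCore_le
  have hFn : M.normalCore.Normal := inferInstance
  have hFS : (S : Subgroup P) ⊓ M.normalCore = ⊥ := by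
    have := h1 M.normalCore hFn.isSubnormal hFM
    rw [hOp, le_bot_iff, inf_comm] at this
    exact this
  have hFnil : Group.IsNilpotent M.normalCore :=
    isNilpotent_of_normal_le_of_inf_sylow_eq_bot S M hMtop hA M.normalCore hFM hFS
  have hFsol : Group.IsSolvable M.normalCore := inferInstance
  have hcompM : ∀ K' : Subgroup P, Cfsg.IsComponent K' → ¬ K' ≤ M := by
    intro K' hK' hle
    have hK'F : K' ≤ M.normalCore := Cfsg.Agent.S3802.result M K' hM hK'.1 hle
    exact Cfsg.Agent.Helper22.IsComponent.not_le_of_isSolvable hK' hFsol hK'F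
  have hEn : (Cfsg.layer P).Normal := inferInstance
  have hDE : Cfsg.pResidual p P ≤ Cfsg.layer P := by
    rcases h3 (Cfsg.layer P) hEn with h | h
    · exact h
    · exact absurd ((Cfsg.Agent.Helper22.IsComponent.le_layer hK).trans (h.trans hFM)) (hcompM K hK)
  have hED : Cfsg.layer P ≤ Cfsg.pResidual p P := le_pResidual_of_isPerfect (Cfsg.layer P)
  have hEeq : Cfsg.pResidual p P = Cfsg.layer P := le_antisymm hDE hED
  have hFit : Cfsg.fittingSubgroup P ≤ Cfsg.pResidual p P := fittingSubgroup_le_pResidual hOp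
  have hb : Cfsg.generalizedFittingSubgroup P = Cfsg.layer P := by
    unfold Cfsg.generalizedFittingSubgroup
    exact le_antisymm (sup_le le_rfl (hFit.trans hDE)) le_sup_left
  have h3' : ∀ N : Subgroup P, N.Normal → Cfsg.layer P ≤ N ∨ N ≤ M := by
    intro N hN
    rcases h3 N hN with h | h
    · left; exact hEeq ▸ h
    · right; exact h.trans hFM
  -- the orbit block
  have hLE : Cfsg.Agent.Helper30.orbitBlock (S : Subgroup P) K ≤ Cfsg.layer P :=
    Cfsg.Agent.Helper30.orbitBlock_le_layer _ K hK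
  have hKL : K ≤ Cfsg.Agent.Helper30.orbitBlock (S : Subgroup P) K :=
    Cfsg.Agent.Helper30.le_orbitBlock _ K
  have hSL : (S : Subgroup P) ≤
      Subgroup.normalizer ((Cfsg.Agent.Helper30.orbitBlock (S : Subgroup P) K : Subgroup P) : Set P) :=
    Cfsg.Agent.Helper30.le_normalizer_orbitBlock _ K
  have hEL : Cfsg.layer P ≤
      Subgroup.normalizer ((Cfsg.Agent.Helper30.orbitBlock (S : Subgroup P) K : Subgroup P) : Set P) := by
    unfold Cfsg.layer
    apply sSup_le
    intro K' hK'
    by_cases hex : ∃ t ∈ (S : Subgroup P), K' = Cfsg.Agent.Helper30.cj t K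
    · obtain ⟨t, ht, rfl⟩ := hex
      exact (Cfsg.Agent.Helper30.cj_le_orbitBlock _ K ht).trans Subgroup.le_normalizer
    · push Not at hex
      have := Cfsg.Agent.Helper30.orbitBlock_le_centralizer_orbitBlock (S : Subgroup P) K K' hK hK' hex
      exact (Cfsg.Agent.Helper30.le_orbitBlock _ K').trans
        (this.trans (Subgroup.centralizer_le_normalizer _))
  have hLn : (Cfsg.Agent.Helper30.orbitBlock (S : Subgroup P) K).Normal := by
    rw [← Subgroup.normalizer_eq_top_iff]
    apply top_le_iff.mp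
    rw [← hSD]
    exact sup_le hSL (hEeq ▸ hEL)
  have hLeq : Cfsg.layer P = Cfsg.Agent.Helper30.orbitBlock (S : Subgroup P) K := by
    apply le_antisymm _ hLE
    rcases h3' _ hLn with h | h
    · exact h
    · exact absurd (hKL.trans h) (hcompM K hK)
  refine ⟨hEeq.trans hb.symm, hb, hLeq, ?_⟩
  exact isPMinimal_component_sup S M hSM hA h3' K hK (hcompM K hK)

end Cfsg.Agent.S2906
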