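import Cfsg.Statements.S2907

set_option autoImplicit false
open Cfsg
open scoped commutatorElement

namespace Cfsg.Agent.S2907

open Subgroup

/-- Let X be a finite semi-extraspecial p-group and x an element of X outside the centre. Then the index of C_X(x) in X equals the order of Z(X), and the commutators [x, y], y ∈ X, form exactly the centre Z(X). -/
theorem result {X : Type*} [Group X] [Finite X] {p : ℕ} [Fact p.Prime] (hX : Cfsg.IsSemiExtraspecial p X) (x : X) (hx : x ∉ Subgroup.center X) : (Subgroup.centralizer ({x} : Set X)).index = Nat.card ↥(Subgroup.center X) ∧ {z : X | ∃ y : X, z = x * y * x⁻¹ * y⁻¹} = (Subgroup.center X : Set X) := by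
  obtain ⟨⟨hp, hfrat, hcomm⟩, hsemi⟩ := hX
  set Z := Subgroup.center X with hZ
  have hcZ : ∀ a b : X, ⁅a, b⁆ ∈ Z := by
    intro a b
    have : ⁅a, b⁆ ∈ _root_.commutator X := by
      rw [_root_.commutator_def]
      exact Subgroup.commutator_mem_commutator (mem_top a) (mem_top b)
    rw [hcomm] at this
    exact this
  -- the homomorphism `y ↦ [x, y]`
  let κ : X →* X := MonoidHom.mk' (fun y => ⁅x, y⁆) (by
    intro a b
    have h1 := Subgroup.mem_center_iff.mp (hcZ x b)
    have h2 : ⁅x, a * b⁆ = ⁅x, a⁆ * (a * ⁅x, b⁆ * a⁻¹) := by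
      simp only [commutatorElement_def]; group
    rw [h2, h1 a, mul_inv_cancel_right])
  have hκ : ∀ y, κ y = ⁅x, y⁆ := fun y => rfl
  have hker : κ.ker = Subgroup.centralizer ({x} : Set X) := by
    ext y
    rw [MonoidHom.mem_ker, hκ, commutatorElement_eq_one_iff_mul_comm, mem_centralizer_singleton_iff]
    exact eq_comm
  have hrangeZ : κ.range ≤ Z := by
    rintro _ ⟨y, rfl⟩
    exact hcZ x y
  -- the range is the whole centre
  have hrange : κ.range = Z := by
    by_contra hne
    have hlt : (κ.range).subgroupOf Z ≠ ⊤ := by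
      intro h
      apply hne
      apply le_antisymm hrangeZ
      intro z hz
      have : (⟨z, hz⟩ : Z) ∈ (κ.range).subgroupOf Z := by rw [h]; exact mem_top _
      exact this
    obtain ⟨M, hM, hIM⟩ := (IsCoatomic.eq_top_or_exists_le_coatom ((κ.range).subgroupOf Z)).resolve_left hlt
    set Y := M.map Z.subtype with hY
    have hYZ : Y ≤ Z := by
      rintro _ ⟨y, -, rfl⟩
      exact y.2
    have hYM : Y.subgroupOf Z = M := by
      ext y
      rw [mem_subgroupOf, hY]
      constructor
      · rintro ⟨y', hy', hyy⟩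
        have : y' = y := Subtype.ext hyy
        rwa [← this]
      · intro hy
        exact ⟨y, hy, rfl⟩
    obtain ⟨hYn, hext⟩ := hsemi Y hYZ (by rw [hYM]; exact hM)
    have hIY : κ.range ≤ Y := by
      intro i hi
      have : (⟨i, hrangeZ hi⟩ : Z) ∈ M := hIM (show (⟨i, hrangeZ hi⟩ : Z) ∈ (κ.range).subgroupOf Z from hi)
      exact ⟨⟨i, hrangeZ hi⟩, this, rfl⟩
    have hxc : (QuotientGroup.mk x : X ⧸ Y) ∈ center (X ⧸ Y) := by
      rw [Subgroup.mem_center_iff]
      intro g'
      obtain ⟨g, rfl⟩ := QuotientGroup.mk_surjective g'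
      have h1 : (QuotientGroup.mk ⁅x, g⁆ : X ⧸ Y) = 1 :=
        (QuotientGroup.eq_one_iff _).mpr (hIY ⟨g, rfl⟩)
      have h2 : x * g = ⁅x, g⁆ * (g * x) := by
        rw [commutatorElement_def]; group
      have h3 : (QuotientGroup.mk (x * g) : X ⧸ Y) = QuotientGroup.mk (g * x) := by
        rw [h2, QuotientGroup.mk_mul, h1, one_mul]
      exact h3.symm
    have hcq : _root_.commutator (X ⧸ Y) = (_root_.commutator X).map (QuotientGroup.mk' Y) := by
      rw [_root_.commutator_def, _root_.commutator_def, Subgroup.map_commutator,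
        Subgroup.map_top_of_surjective _ (QuotientGroup.mk'_surjective Y)]
    rw [← hext.1.2.2, hcq, hcomm] at hxc
    obtain ⟨w, hw, hwx⟩ := hxc
    have h4 : w⁻¹ * x ∈ Y := by
      rw [← QuotientGroup.eq]
      exact hwx
    have h5 : x = w * (w⁻¹ * x) := by group
    apply hx
    rw [h5]
    exact Z.mul_mem hw (hYZ h4)
  constructor
  · rw [← hker, Subgroup.index_ker, hrange]
  · rw [← hrange]
    ext z
    simp only [Set.mem_ofPred_eq, MonoidHom.coe_range, Set.mem_range]
    constructor
    · rintro ⟨y, rfl⟩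
      exact ⟨y, by rw [hκ, commutatorElement_def]⟩
    · rintro ⟨y, rfl⟩
      exact ⟨y, by rw [hκ, commutatorElement_def]⟩

end Cfsg.Agent.S2907
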