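import Cfsg.Statements.S2908
import Cfsg.Agent.Lib.Helper52.FrattiniCoprime

set_option autoImplicit false
open Cfsg
open scoped commutatorElement

namespace Cfsg.Agent.S2908

open Subgroup

/-- Let P be a p-subgroup of a finite group, normalized by a p-subgroup A and by a subgroup B of order prime to p that commutes elementwise with A. If [P, B] ≤ [P, A], then B centralizes P. -/
theorem result {G : Type*} [Group G] [Finite G] {p : ℕ} [Fact p.Prime] (P A B : Subgroup G) (hP : IsPGroup p ↥P) (hA : IsPGroup p ↥A) (hB : ¬ p ∣ Nat.card ↥B) (hnA : A ≤ Subgroup.normalizer (P : Set G)) (hnB : B ≤ Subgroup.normalizer (P : Set G)) (hAB : ⁅A, B⁆ = ⊥) (hcomm : ⁅P, B⁆ ≤ ⁅P, A⁆) : ⁅P, B⁆ = ⊥ := by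
  set T := P ⊔ A with hT
  have hTp : IsPGroup p T := by
    rw [hT, sup_comm]
    exact hA.to_sup_of_normal_right' hP hnA
  have hBA : B ≤ centralizer (A : Set G) := by
    rw [Subgroup.commutator_comm] at hAB
    exact Subgroup.commutator_eq_bot_iff_le_centralizer.mp hAB
  have hBT : B ≤ normalizer (T : Set G) := by
    intro b hb
    apply normalizer_inf_normalizer_le_normalizer_sup
    exact Subgroup.mem_inf.mpr ⟨hnB hb, (centralizer_le_normalizer (A : Set G)) (hBA hb)⟩
  have hTB : ⁅T, B⁆ ≤ ⁅T, T⁆ := by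
    rw [Subgroup.commutator_le]
    intro t ht b hb
    have ht' : t ∈ ((P ⊔ A : Subgroup G) : Set G) := ht
    rw [coe_mul_of_right_le_normalizer_left P A hnA] at ht'
    obtain ⟨x, hx, a, ha, rfl⟩ := ht'
    have hab : b * a = a * b := (mem_centralizer_iff.mp (hBA hb) a ha).symm
    have e : ⁅x * a, b⁆ = ⁅x, b⁆ := by
      rw [commutatorElement_def, commutatorElement_def]
      calc x * a * b * (x * a)⁻¹ * b⁻¹ = x * (a * b) * a⁻¹ * x⁻¹ * b⁻¹ := by group
        _ = x * (b * a) * a⁻¹ * x⁻¹ * b⁻¹ := by rw [hab]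
        _ = x * b * x⁻¹ * b⁻¹ := by group
    rw [e]
    have h1 : ⁅x, b⁆ ∈ ⁅P, A⁆ := hcomm (Subgroup.commutator_mem_commutator hx hb)
    exact Subgroup.commutator_mono (le_sup_left : P ≤ T) (le_sup_right : A ≤ T) h1
  have hcen := Cfsg.Agent.Helper52.le_centralizer_of_commutator_le_commutator T B hTp hB hBT hTB
  rw [Subgroup.commutator_eq_bot_iff_le_centralizer]
  exact le_sup_left.trans hcen

end Cfsg.Agent.S2908
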