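import Cfsg.Statements.S2909
import Cfsg.Agent.S2908
import Cfsg.Agent.Lib.Helper49.PxQ
import Cfsg.Agent.Lib.Helper48.CoprimeGen

set_option autoImplicit false
open Cfsg
open scoped commutatorElement

namespace Cfsg.Agent.S2909

open Subgroup Cfsg.Agent.Helper48

/-- If `X` normalizes `F` and `Y` centralizes `F` then `[X, Y]` centralizes `F`. -/
theorem commutator_le_centralizer_of_normalizer {G : Type*} [Group G] (F X Y : Subgroup G)
    (hX : X ≤ normalizer (F : Set G)) (hY : Y ≤ centralizer (F : Set G)) :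
    ⁅X, Y⁆ ≤ centralizer (F : Set G) := by
  rw [Subgroup.commutator_le]
  intro x hx y hy
  rw [mem_centralizer_iff]
  intro f hf
  have hf' : x⁻¹ * f * x ∈ F := by
    have := (mem_normalizer_iff.mp (inv_mem (hX hx)) f).mp hf
    rwa [inv_inv] at this
  have h1 : y * (x⁻¹ * f * x) = (x⁻¹ * f * x) * y := (mem_centralizer_iff.mp (hY hy) _ hf').symm
  have h2 : Commute y f := (mem_centralizer_iff.mp (hY hy) _ hf).symm
  have hinv : y⁻¹ * f = f * y⁻¹ := h2.inv_left.eq
  rw [commutatorElement_def]
  symm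
  calc x * y * x⁻¹ * y⁻¹ * f = x * y * x⁻¹ * (y⁻¹ * f) := by group
    _ = x * y * x⁻¹ * (f * y⁻¹) := by rw [hinv]
    _ = x * (y * (x⁻¹ * f * x)) * x⁻¹ * y⁻¹ := by group
    _ = x * ((x⁻¹ * f * x) * y) * x⁻¹ * y⁻¹ := by rw [h1]
    _ = f * (x * y * x⁻¹ * y⁻¹) := by group

/-- The "centralizer of `E` modulo `W`" as a subgroup. -/
def stabMod {G : Type*} [Group G] (E W : Subgroup G) : Subgroup G where
  carrier := {g | g ∈ normalizer (W : Set G) ∧ g ∈ normalizer (E : Set G) ∧
    ∀ e ∈ E, g * e * g⁻¹ * e⁻¹ ∈ W}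
  one_mem' := ⟨one_mem _, one_mem _, fun e _ => by simp⟩
  mul_mem' := by
    rintro g h ⟨hg1, hg2, hg3⟩ ⟨hh1, hh2, hh3⟩
    refine ⟨mul_mem hg1 hh1, mul_mem hg2 hh2, fun e he => ?_⟩
    have he' : h * e * h⁻¹ ∈ E := (mem_normalizer_iff.mp hh2 e).mp he
    have h1 := hg3 _ he'
    have h2 := hh3 e he
    have : g * h * e * (g * h)⁻¹ * e⁻¹ =
        (g * (h * e * h⁻¹) * g⁻¹ * (h * e * h⁻¹)⁻¹) * (h * e * h⁻¹ * e⁻¹) := by group
    rw [this]
    exact mul_mem h1 h2
  inv_mem' := by
    rintro g ⟨hg1, hg2, hg3⟩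
    refine ⟨inv_mem hg1, inv_mem hg2, fun e he => ?_⟩
    have he' : g⁻¹ * e * g ∈ E := by
      have := (mem_normalizer_iff.mp (inv_mem hg2) e).mp he
      rwa [inv_inv] at this
    have h1 := hg3 _ he'
    have : g⁻¹ * e * g⁻¹⁻¹ * e⁻¹ = (g * (g⁻¹ * e * g) * g⁻¹ * (g⁻¹ * e * g)⁻¹)⁻¹ := by group
    rw [this]
    exact inv_mem h1

theorem mem_stabMod {G : Type*} [Group G] {E W : Subgroup G} {g : G} :
    g ∈ stabMod E W ↔ g ∈ normalizer (W : Set G) ∧ g ∈ normalizer (E : Set G) ∧
      ∀ e ∈ E, g * e * g⁻¹ * e⁻¹ ∈ W := Iff.rfl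

theorem conj_mem_stabMod {G : Type*} [Group G] {E W : Subgroup G} {x t : G}
    (hxW : x ∈ normalizer (W : Set G)) (hxE : x ∈ normalizer (E : Set G))
    (ht : t ∈ stabMod E W) : x * t * x⁻¹ ∈ stabMod E W := by
  obtain ⟨ht1, ht2, ht3⟩ := ht
  refine ⟨mul_mem (mul_mem hxW ht1) (inv_mem hxW), mul_mem (mul_mem hxE ht2) (inv_mem hxE),
    fun e he => ?_⟩
  have he' : x⁻¹ * e * x ∈ E := by
    have := (mem_normalizer_iff.mp (inv_mem hxE) e).mp he
    rwa [inv_inv] at this
  have h1 := ht3 _ he'
  have h2 : x * (t * (x⁻¹ * e * x) * t⁻¹ * (x⁻¹ * e * x)⁻¹) * x⁻¹ ∈ W :=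
    (mem_normalizer_iff.mp hxW _).mp h1
  have : x * t * x⁻¹ * e * (x * t * x⁻¹)⁻¹ * e⁻¹ =
      x * (t * (x⁻¹ * e * x) * t⁻¹ * (x⁻¹ * e * x)⁻¹) * x⁻¹ := by group
  rw [this]
  exact h2

theorem mem_normalizer_commutator' {G : Type*} [Group G] {H K : Subgroup G} {x : G}
    (hH : x ∈ normalizer (H : Set G)) (hK : x ∈ normalizer (K : Set G)) :
    x ∈ normalizer ((⁅H, K⁆ : Subgroup G) : Set G) := by
  rw [mem_normalizer_iff_map_conj_eq] at hH hK ⊢
  rw [Subgroup.map_commutator, hH, hK]

/-- Let p be a prime, E a normal p-subgroup of the finite group G, and U a non-cyclic elementary abelian p-subgroup of G such that either C_E(U) = C_E(u) for every nontrivial u ∈ U, or [E, U] = [E, ⟨u⟩] for every nontrivial u ∈ U. If R is a subgroup of order prime to p normalized by U, then [R, U] centralizes E. -/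
theorem result {G : Type*} [Group G] [Finite G] {p : ℕ} [Fact p.Prime] (E : Subgroup G) [E.Normal] (hE : IsPGroup p ↥E) (U : Subgroup G) (hU : Cfsg.IsElementaryAbelian p U) (hnc : ¬ IsCyclic ↥U) (hcond : (∀ u ∈ U, u ≠ 1 → E ⊓ Subgroup.centralizer (U : Set G) = E ⊓ Subgroup.centralizer ({u} : Set G)) ∨ (∀ u ∈ U, u ≠ 1 → ⁅E, U⁆ = ⁅E, Subgroup.zpowers u⁆)) (R : Subgroup G) (hR : ¬ p ∣ Nat.card ↥R) (hRU : U ≤ Subgroup.normalizer (R : Set G)) : ⁅R, U⁆ ≤ Subgroup.centralizer (E : Set G) := by
  have hp := (Fact.out : p.Prime)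
  set C := centralizer (E : Set G) with hC
  haveI hCn : C.Normal := Subgroup.normal_centralizer
  have hUc : ∀ x ∈ U, ∀ y ∈ U, x * y = y * x := fun x hx y hy => by
    have := hU.1
    exact setLike_mul_comm (s := U) hx hy
  have hUp : ∀ x ∈ U, x ^ p = 1 := hU.2
  have hUpg : IsPGroup p U := by
    rintro ⟨x, hx⟩
    exact ⟨1, Subtype.ext (by simpa using hUp x hx)⟩
  obtain ⟨k, hk⟩ := IsPGroup.iff_card.mp hUpg
  have hk2 : 2 ≤ k := by
    by_contra hlt
    apply hnc
    have hk01 : k = 0 ∨ k = 1 := by omega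
    rcases hk01 with rfl | rfl
    · haveI : Subsingleton U := (Nat.card_eq_one_iff_unique.mp (by simpa using hk)).1
      exact isCyclic_of_subsingleton
    · exact isCyclic_of_prime_card (p := p) (by simpa using hk)
  have hcard : p ^ 2 ≤ Nat.card U := by
    rw [hk]; exact Nat.pow_le_pow_right hp.pos hk2
  have hRcop : (Nat.card R).Coprime p := ((Nat.Prime.coprime_iff_not_dvd hp).mpr hR).symm
  have hNE : ∀ x : G, x ∈ normalizer (E : Set G) := fun x => by
    rw [Subgroup.normalizer_eq_top]; exact mem_top x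
  -- the subgroup of elements whose commutators with `U` centralize `E`
  set L : Subgroup G := (centralizer ((U.map (QuotientGroup.mk' C) : Subgroup (G ⧸ C)) :
    Set (G ⧸ C))).comap (QuotientGroup.mk' C) with hL
  have hLmem : ∀ r, r ∈ L ↔ ∀ v ∈ U, ⁅r, v⁆ ∈ C := by
    intro r
    rw [hL, mem_comap, mem_centralizer_iff]
    constructor
    · intro h v hv
      have h1 := h _ ⟨v, hv, rfl⟩
      rw [← QuotientGroup.eq_one_iff, commutatorElement_def]
      simp only [QuotientGroup.mk'_apply] at h1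
      simp only [QuotientGroup.mk_mul, QuotientGroup.mk_inv]
      rw [← h1]; group
    · rintro h _ ⟨v, hv, rfl⟩
      have h1 := h v hv
      rw [← QuotientGroup.eq_one_iff, commutatorElement_def] at h1
      simp only [QuotientGroup.mk_mul, QuotientGroup.mk_inv] at h1
      simp only [QuotientGroup.mk'_apply]
      have h2 : (QuotientGroup.mk r : G ⧸ C) * QuotientGroup.mk v =
          ((QuotientGroup.mk r : G ⧸ C) * QuotientGroup.mk v * (QuotientGroup.mk r)⁻¹ *
            (QuotientGroup.mk v)⁻¹) * (QuotientGroup.mk v * QuotientGroup.mk r) := by group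
      rw [h2, h1, one_mul]
  have key : ∀ u ∈ U, u ≠ 1 → R ⊓ centralizer ({u} : Set G) ≤ L := by
    intro u hu hu1
    set Ru := R ⊓ centralizer ({u} : Set G) with hRu
    set D := ⁅Ru, U⁆ with hD
    suffices hDC : D ≤ C by
      intro r hr
      rw [hLmem]
      intro v hv
      exact hDC (commutator_mem_commutator hr hv)
    have hUnRu : U ≤ normalizer (Ru : Set G) := by
      intro v hv
      apply mem_normalizer_inf' (hRU hv)
      exact mem_normalizer_centralizer_singleton (hUc v hv u hu)
    have hDRu : D ≤ Ru := Cfsg.Agent.Helper24.commutator_le_of_le_normalizer Ru U hUnRu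
    have hDR : D ≤ R := hDRu.trans inf_le_left
    have hDu : D ≤ centralizer ({u} : Set G) := hDRu.trans inf_le_right
    have hDcop : (Nat.card D).Coprime p :=
      Nat.Coprime.coprime_dvd_left (card_dvd_of_le hDR) hRcop
    set A := zpowers u with hA
    have hou : orderOf u = p := orderOf_eq_prime (hUp u hu) hu1
    have hAp : IsPGroup p A := isPGroup_zpowers_of_orderOf hou
    have hAD : A ≤ centralizer (D : Set G) := by
      rw [zpowers_le, mem_centralizer_iff]
      intro d hd
      exact (mem_centralizer_singleton_iff.mp (hDu hd))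
    have hAE : A ≤ normalizer (E : Set G) := fun x _ => hNE x
    have hDE : D ≤ normalizer (E : Set G) := fun x _ => hNE x
    rcases hcond with ha | hb
    · have hF := ha u hu hu1
      apply Cfsg.Agent.Helper49.thompson_PxQ p A D E hAp hDcop hE hAD hAE hDE
      have h1 : E ⊓ centralizer (A : Set G) ≤ E ⊓ centralizer (U : Set G) := by
        rw [hF]
        apply inf_le_inf_left
        apply centralizer_le
        intro x hx
        rw [Set.mem_singleton_iff] at hx
        rw [hx]
        exact mem_zpowers u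
      refine h1.trans ?_
      rw [le_centralizer_iff]
      apply commutator_le_centralizer_of_normalizer _ Ru U
      · intro x hx
        rw [hF]
        apply mem_normalizer_inf' (hNE x)
        exact le_normalizer hx.2
      · rw [← le_centralizer_iff]
        exact inf_le_right
    · have hW := hb u hu hu1
      set W := ⁅E, U⁆ with hWdef
      have hUT : U ≤ stabMod E W := by
        intro v hv
        refine ⟨mem_normalizer_commutator' (hNE v) (le_normalizer hv), hNE v, fun e he => ?_⟩
        have : v * e * v⁻¹ * e⁻¹ = ⁅v, e⁆ := by rw [commutatorElement_def]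
        rw [this, hWdef, Subgroup.commutator_comm]
        exact commutator_mem_commutator hv he
      have hRuN : ∀ x ∈ Ru, ∀ t ∈ stabMod E W, x * t * x⁻¹ ∈ stabMod E W := by
        intro x hx t ht
        apply conj_mem_stabMod _ (hNE x) ht
        rw [hW]
        apply mem_normalizer_commutator' (hNE x)
        apply centralizer_singleton_le_normalizer_zpowers u
        exact hx.2
      have hDT : D ≤ stabMod E W := by
        rw [hD, Subgroup.commutator_le]
        intro x hx v hv
        have h1 := hRuN x hx v (hUT hv)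
        have h2 := (stabMod E W).mul_mem h1 ((stabMod E W).inv_mem (hUT hv))
        rw [commutatorElement_def]
        exact h2
      have hED : ⁅E, D⁆ ≤ ⁅E, A⁆ := by
        rw [← hW, Subgroup.commutator_le]
        intro e he d hd
        have h1 := (hDT hd).2.2 e he
        have h2 : ⁅e, d⁆ = (d * e * d⁻¹ * e⁻¹)⁻¹ := by
          rw [commutatorElement_def]; group
        rw [h2]
        exact inv_mem h1
      have hbot := Cfsg.Agent.S2908.result E A D hE hAp
        ((Nat.Prime.coprime_iff_not_dvd hp).mp hDcop.symm) hAE hDE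
        (Subgroup.commutator_eq_bot_iff_le_centralizer.mpr hAD) hED
      rw [Subgroup.commutator_comm, Subgroup.commutator_eq_bot_iff_le_centralizer] at hbot
      exact hbot
  have hRL : R ≤ L := le_of_forall_inf_centralizer_le U R L hUc hUp hcard hRU hRcop key
  rw [Subgroup.commutator_le]
  intro r hr v hv
  exact (hLmem r).mp (hRL hr) v hv

end Cfsg.Agent.S2909
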