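import Cfsg.Statements.S2910
import Mathlib
import Cfsg.Agent.Lib.Helper87.OmegaLemma
import Cfsg.Agent.Lib.Helper2.Frobenius
import Cfsg.Agent.Lib.Helper2.PComplement

set_option autoImplicit false
open Cfsg

namespace Cfsg.Agent.S2910

open Cfsg.Agent.Helper2 Cfsg.Agent.Helper87

theorem result {G : Type*} [Group G] [Finite G] {p : ℕ} [Fact p.Prime] (hp : p ≠ 2) (hdiv : p ∣ Nat.card G) (P : Sylow p G) (hZ : Cfsg.omegaOne p (P : Subgroup G) ≤ Subgroup.center G) : Cfsg.HasNormalPComplement p G ∧ ¬ Cfsg.IsQuasisimple G := by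
  have hpp : p.Prime := Fact.out
  have hF : FrobCond p G := by
    apply frobCond_of_sylow P
    intro Q hQP g hgN hgo
    have hinv : ∀ x ∈ Q, MulAut.conj g x ∈ Q := by
      intro x hx
      rw [MulAut.conj_apply]
      exact (Subgroup.mem_normalizer_iff.mp hgN x).mp hx
    have hpow : ∀ x ∈ Q, ((MulAut.conj g) ^ (orderOf g)) x = x := by
      intro x _
      rw [← map_pow, pow_orderOf_eq_one, map_one]
      rfl
    have hfix : ∀ x ∈ Q, x ^ omegaExp p = 1 → MulAut.conj g x = x := by
      intro x hx hxp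
      rw [omegaExp_odd hp] at hxp
      have hxO : x ∈ Cfsg.omegaOne p (P : Subgroup G) :=
        Subgroup.subset_closure ⟨hQP hx, hxp⟩
      have hxZ := hZ hxO
      rw [Subgroup.mem_center_iff] at hxZ
      rw [MulAut.conj_apply, hxZ g]
      group
    have key := omega_lemma (MulAut.conj g) (orderOf g) hgo Q (P.isPGroup'.to_le hQP) hinv hpow hfix
    rw [Subgroup.mem_centralizer_iff]
    intro h hh
    have := key h hh
    rw [MulAut.conj_apply] at this
    calc h * g = (g * h * g⁻¹) * g := by rw [this]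
      _ = g * h := by group
  have hN := frobenius p hF
  refine ⟨hN, ?_⟩
  rintro ⟨hperf, -⟩
  obtain ⟨N, hNn, hNc⟩ := (hasNormalPComplement_iff P).mp hN
  have hidx : N.index = Nat.card (P : Subgroup G) := hNc.symm.index_eq_card
  obtain ⟨k, hk⟩ := IsPGroup.iff_card.mp P.isPGroup'
  have hk0 : k ≠ 0 := by
    intro h0
    rw [h0, pow_zero] at hk
    have := P.card_eq_multiplicity
    rw [hk] at this
    have hfac : (Nat.card G).factorization p = 0 := by
      by_contra hne
      have : 1 < p ^ (Nat.card G).factorization p := Nat.one_lt_pow hne hpp.one_lt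
      omega
    have := (Nat.factorization_eq_zero_iff _ _).mp hfac
    rcases this with h | h | h
    · exact h hpp
    · exact h hdiv
    · exact Nat.card_pos.ne' h
  have hcardQ : Nat.card (G ⧸ N) = p ^ k := by
    rw [← hk, ← hidx]; rfl
  have hnil : Group.IsNilpotent (G ⧸ N) := (IsPGroup.of_card hcardQ).isNilpotent
  have hnt : Nontrivial (G ⧸ N) := by
    rw [← Finite.one_lt_card_iff_nontrivial, hcardQ]
    exact Nat.one_lt_pow hk0 hpp.one_lt
  exact Group.IsPerfect.not_isNilpotent (G ⧸ N) hnil

end Cfsg.Agent.S2910
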