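import Cfsg.Statements.S2911
import Cfsg.Agent.S2872
import Cfsg.Agent.Lib.Helper47.PRes

set_option autoImplicit false
open Cfsg
open scoped commutatorElement

namespace Cfsg.Agent.S2911

/-- The model group `Z₂ × D₈`. -/
abbrev TT := Multiplicative (ZMod 2) × DihedralGroup 4

/-- Generator of the `Z₂` factor. -/
def aT : TT := (Multiplicative.ofAdd 1, 1)
/-- The nontrivial commutator. -/
def cT : TT := (1, DihedralGroup.r 2)

set_option maxRecDepth 100000 in
theorem center_TT : ∀ t : TT, (∀ u : TT, u * t = t * u) → t = 1 ∨ t = aT ∨ t = cT ∨ t = aT * cT := by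
  decide

set_option maxRecDepth 100000 in
theorem comm_TT : ∀ x y : TT, ⁅x, y⁆ = 1 ∨ ⁅x, y⁆ = cT := by
  decide

theorem cT_eq_comm : cT = ⁅((1, DihedralGroup.r 1) : TT), ((1, DihedralGroup.sr 0) : TT)⁆ := by
  decide

theorem facts_TT : (∀ u : TT, u * aT = aT * u) ∧ aT ^ 2 = 1 ∧ aT.1 ≠ 1 ∧ cT ≠ 1 ∧ aT ≠ 1 ∧
    aT * cT ≠ 1 ∧ aT ≠ cT ∧ aT * cT * cT = aT ∧ cT ^ 2 = 1 ∧ aT * cT ≠ cT := by
  decide

theorem isCoatom_of_index_two {P : Type*} [Group P] [Finite P] {K : Subgroup P}
    (hK : K.index = 2) : IsCoatom K := by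
  constructor
  · intro h
    rw [h, Subgroup.index_top] at hK
    omega
  · intro L hKL
    have h1 := Subgroup.relIndex_mul_index hKL.le
    rw [hK] at h1
    have h2 : L.index ∣ 2 := Dvd.intro_left _ h1
    rcases (Nat.dvd_prime Nat.prime_two).mp h2 with h3 | h3
    · exact Subgroup.index_eq_one.mp h3
    · exfalso
      rw [h3] at h1
      have h4 : K.relIndex L = 1 := by omega
      exact (not_le_of_gt hKL) (Subgroup.relIndex_eq_one.mp h4)

theorem exists_index_two_of_pResidual_ne_top {G : Type*} [Group G] [Finite G]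
    (h : Cfsg.pResidual 2 G ≠ ⊤) : ∃ H : Subgroup G, H.index = 2 := by
  haveI : Fact (Nat.Prime 2) := ⟨Nat.prime_two⟩
  set R := Cfsg.pResidual 2 G with hR
  have hQ : IsPGroup 2 (G ⧸ R) := Helper47.isPGroup_quotient_of_pResidual_le R le_rfl
  have hnt : Nontrivial (G ⧸ R) := by
    by_contra hnt
    rw [not_nontrivial_iff_subsingleton] at hnt
    exact h (QuotientGroup.subgroup_eq_top_of_subsingleton R hnt)
  obtain ⟨n, hn0, hcard⟩ := hQ.nontrivial_iff_card.mp hnt
  obtain ⟨K, hK⟩ := Sylow.exists_subgroup_card_pow_prime 2 (n := n - 1) (G := G ⧸ R)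
    (by rw [hcard]; exact pow_dvd_pow 2 (Nat.sub_le n 1))
  have hidx : K.index = 2 := by
    have h1 := K.card_mul_index
    rw [hK, hcard] at h1
    have h2 : 2 ^ n = 2 ^ (n - 1) * 2 := by
      rw [← pow_succ]; congr 1; omega
    rw [h2] at h1
    exact Nat.eq_of_mul_eq_mul_left (by positivity) h1
  refine ⟨K.comap (QuotientGroup.mk' R), ?_⟩
  rw [Subgroup.index_comap_of_surjective _ (QuotientGroup.mk'_surjective R)]
  exact hidx

/-- A finite group whose Sylow 2-subgroups are isomorphic to the direct product of a group of order 2 and a dihedral group of order 8 has a subgroup of index two. -/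
theorem result {G : Type*} [Group G] [Finite G] (S : Sylow 2 G) (hS : Nonempty (↥(S : Subgroup G) ≃* Multiplicative (ZMod 2) × DihedralGroup 4)) : ∃ H : Subgroup G, H.index = 2 := by
  classical
  haveI : Fact (Nat.Prime 2) := ⟨Nat.prime_two⟩
  obtain ⟨e⟩ := hS
  obtain ⟨ha_c, ha2, ha1, hc1, ha_ne, hac_ne, ha_ne_c, hacc, hc2, hac_ne_c⟩ := facts_TT
  rcases Cfsg.Agent.S2872.result S with hA | hB | hC
  · exact exists_index_two_of_pResidual_ne_top hA
  · -- `Ω₁ Z(S) ≤ Φ(S)` is impossible
    exfalso
    set a' : ↥(S : Subgroup G) := e.symm aT with ha'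
    have ha'c : ∀ s : ↥(S : Subgroup G), s * a' = a' * s := by
      intro s
      apply e.injective
      rw [map_mul, map_mul, ha', e.apply_symm_apply]
      exact ha_c _
    have ha'2 : a' ^ 2 = 1 := by
      apply e.injective
      rw [map_pow, ha', e.apply_symm_apply, map_one]
      exact ha2
    have hmem : (a' : G) ∈ Cfsg.omegaOne 2 ((S : Subgroup G) ⊓ Subgroup.centralizer ((S : Subgroup G) : Set G)) := by
      apply Subgroup.subset_closure
      have hcen : (a' : G) ∈ Subgroup.centralizer ((S : Subgroup G) : Set G) := by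
        rw [Subgroup.mem_centralizer_iff]
        intro s hs
        exact congrArg Subtype.val (ha'c ⟨s, hs⟩)
      refine ⟨Subgroup.mem_inf.mpr ⟨a'.2, hcen⟩, ?_⟩
      have := congrArg Subtype.val ha'2
      simpa using this
    obtain ⟨b, hb, hba⟩ := hB hmem
    have hba' : b = a' := Subtype.ext hba
    rw [hba'] at hb
    -- the kernel of the projection to `Z₂`
    set f : ↥(S : Subgroup G) →* Multiplicative (ZMod 2) :=
      (MonoidHom.fst (Multiplicative (ZMod 2)) (DihedralGroup 4)).comp e.toMonoidHom with hf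
    have hfs : Function.Surjective f := by
      intro u
      refine ⟨e.symm (u, 1), ?_⟩
      simp [hf]
    have hidx : f.ker.index = 2 := by
      rw [Subgroup.index_ker, MonoidHom.range_eq_top.mpr hfs, Subgroup.card_top]
      simp [Nat.card_eq_fintype_card]
    have hcoat : IsCoatom f.ker := isCoatom_of_index_two hidx
    have := frattini_le_coatom hcoat hb
    rw [MonoidHom.mem_ker] at this
    apply ha1
    simpa [hf, ha'] using this
  · -- `N_G(S)` centralizes `Z(S)`
    exfalso
    obtain ⟨g, hg, z, hz, hgz⟩ := hC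
    set Z := (S : Subgroup G) ⊓ Subgroup.centralizer ((S : Subgroup G) : Set G) with hZ
    have hΩZ : Cfsg.omegaOne 2 Z ≤ Z := by
      unfold omegaOne
      rw [Subgroup.closure_le]
      intro x hx
      exact hx.1
    -- conjugation by elements of the normalizer preserves `S` and `Z`
    have hconjS : ∀ n ∈ Subgroup.normalizer ((S : Subgroup G) : Set G), ∀ s ∈ (S : Subgroup G),
        n * s * n⁻¹ ∈ (S : Subgroup G) := fun n hn s hs =>
      (Subgroup.mem_normalizer_iff.mp hn s).mp hs
    have hconjZ : ∀ n ∈ Subgroup.normalizer ((S : Subgroup G) : Set G), ∀ s ∈ Z,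
        n * s * n⁻¹ ∈ Z := by
      intro n hn s hs
      refine Subgroup.mem_inf.mpr ⟨hconjS n hn s hs.1, ?_⟩
      rw [Subgroup.mem_centralizer_iff]
      intro t ht
      have ht' : n⁻¹ * t * n⁻¹⁻¹ ∈ (S : Subgroup G) := hconjS n⁻¹ (inv_mem hn) t ht
      rw [inv_inv] at ht'
      have := Subgroup.mem_centralizer_iff.mp hs.2 _ ht'
      calc t * (n * s * n⁻¹) = n * ((n⁻¹ * t * n) * s) * n⁻¹ := by group
        _ = n * (s * (n⁻¹ * t * n)) * n⁻¹ := by rw [this]
        _ = n * s * n⁻¹ * t := by group
    -- the element `c'`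
    set c' : ↥(S : Subgroup G) := e.symm cT with hc'
    have hc'1 : (c' : G) ≠ 1 := by
      intro h
      have h1 : c' = 1 := Subtype.ext h
      have h2 : e c' = 1 := by rw [h1, map_one]
      rw [hc', e.apply_symm_apply] at h2
      exact hc1 h2
    have hc'2 : (c' : G) ^ 2 = 1 := by
      have h1 : c' ^ 2 = 1 := by
        apply e.injective
        rw [map_pow, hc', e.apply_symm_apply, map_one]
        exact hc2
      have := congrArg Subtype.val h1
      simpa using this
    -- `c'` is fixed by the normalizer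
    have hfixc : ∀ n ∈ Subgroup.normalizer ((S : Subgroup G) : Set G), n * (c' : G) * n⁻¹ = c' := by
      intro n hn
      set x' : ↥(S : Subgroup G) := e.symm ((1, DihedralGroup.r 1) : TT) with hx'
      set y' : ↥(S : Subgroup G) := e.symm ((1, DihedralGroup.sr 0) : TT) with hy'
      have hcxy : c' = ⁅x', y'⁆ := by
        apply e.injective
        rw [map_commutatorElement, hc', hx', hy', e.apply_symm_apply, e.apply_symm_apply,
          e.apply_symm_apply]
        exact cT_eq_comm
      set x'' : ↥(S : Subgroup G) := ⟨n * x' * n⁻¹, hconjS n hn _ x'.2⟩ with hx''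
      set y'' : ↥(S : Subgroup G) := ⟨n * y' * n⁻¹, hconjS n hn _ y'.2⟩ with hy''
      have hval : ((⁅x'', y''⁆ : ↥(S : Subgroup G)) : G) = n * (c' : G) * n⁻¹ := by
        rw [hcxy]
        simp only [commutatorElement_def, Subgroup.coe_mul, Subgroup.coe_inv, hx'', hy'']
        group
      rcases comm_TT (e x'') (e y'') with h1 | h1
      · exfalso
        rw [← map_commutatorElement] at h1
        have h2 : ⁅x'', y''⁆ = 1 := e.injective (by rw [h1, map_one])
        rw [h2] at hval
        apply hc'1
        have : n * (c' : G) * n⁻¹ = 1 := hval.symm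
        have h3 : (c' : G) = n⁻¹ * (n * (c' : G) * n⁻¹) * n := by group
        rw [h3, this]; group
      · rw [← map_commutatorElement] at h1
        have h2 : ⁅x'', y''⁆ = c' := by
          apply e.injective
          rw [h1, hc', e.apply_symm_apply]
        rw [← hval, h2]
    -- images of central elements
    have hcentral : ∀ w : ↥(S : Subgroup G), (w : G) ∈ Z →
        e w = 1 ∨ e w = aT ∨ e w = cT ∨ e w = aT * cT := by
      intro w hw
      apply center_TT
      intro u
      have h1 : e.symm u * w = w * e.symm u := by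
        apply Subtype.ext
        have := Subgroup.mem_centralizer_iff.mp hw.2 (e.symm u : G) (e.symm u).2
        simpa using this
      have := congrArg e h1
      rwa [map_mul, map_mul, e.apply_symm_apply] at this
    have hzZ : z ∈ Z := hΩZ hz
    set z₁ := g * z * g⁻¹ with hz₁
    have hz₁Z : z₁ ∈ Z := hconjZ g hg z hzZ
    have hz_ne1 : z ≠ 1 := by
      intro h
      apply hgz
      rw [hz₁, h]; group
    have hz₁_ne1 : z₁ ≠ 1 := by
      intro h
      apply hz_ne1
      have h3 : z = g⁻¹ * z₁ * g := by rw [hz₁]; group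
      rw [h3, h]; group
    have hz_ne_c : z ≠ (c' : G) := by
      intro h
      apply hgz
      rw [hz₁, h]
      exact hfixc g hg
    have hz₁_ne_c : z₁ ≠ (c' : G) := by
      intro h
      apply hz_ne_c
      have h3 : z = g⁻¹ * z₁ * g := by rw [hz₁]; group
      rw [h3, h]
      have := hfixc g⁻¹ (inv_mem hg)
      rwa [inv_inv] at this
    -- translate to `TT`
    have hez := hcentral ⟨z, hzZ.1⟩ hzZ
    have hez₁ := hcentral ⟨z₁, hz₁Z.1⟩ hz₁Z
    have hez_ne1 : e ⟨z, hzZ.1⟩ ≠ 1 := by
      intro h
      apply hz_ne1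
      have : (⟨z, hzZ.1⟩ : ↥(S : Subgroup G)) = 1 := e.injective (by rw [h, map_one])
      exact congrArg Subtype.val this
    have hez₁_ne1 : e ⟨z₁, hz₁Z.1⟩ ≠ 1 := by
      intro h
      apply hz₁_ne1
      have : (⟨z₁, hz₁Z.1⟩ : ↥(S : Subgroup G)) = 1 := e.injective (by rw [h, map_one])
      exact congrArg Subtype.val this
    have hez_nec : e ⟨z, hzZ.1⟩ ≠ cT := by
      intro h
      apply hz_ne_c
      have : (⟨z, hzZ.1⟩ : ↥(S : Subgroup G)) = c' := by
        apply e.injective; rw [h, hc', e.apply_symm_apply]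
      exact congrArg Subtype.val this
    have hez₁_nec : e ⟨z₁, hz₁Z.1⟩ ≠ cT := by
      intro h
      apply hz₁_ne_c
      have : (⟨z₁, hz₁Z.1⟩ : ↥(S : Subgroup G)) = c' := by
        apply e.injective; rw [h, hc', e.apply_symm_apply]
      exact congrArg Subtype.val this
    have hne : e ⟨z₁, hz₁Z.1⟩ ≠ e ⟨z, hzZ.1⟩ := by
      intro h
      apply hgz
      have := e.injective h
      exact congrArg Subtype.val this
    have hrel : e ⟨z₁, hz₁Z.1⟩ = e ⟨z, hzZ.1⟩ * cT := by
      rcases hez with h | h | h | h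
      · exact absurd h hez_ne1
      · rcases hez₁ with h' | h' | h' | h'
        · exact absurd h' hez₁_ne1
        · exact absurd (h'.trans h.symm) hne
        · exact absurd h' hez₁_nec
        · rw [h, h']
      · exact absurd h hez_nec
      · rcases hez₁ with h' | h' | h' | h'
        · exact absurd h' hez₁_ne1
        · rw [h, h', hacc]
        · exact absurd h' hez₁_nec
        · exact absurd (h'.trans h.symm) hne
    have hrel' : z₁ = z * (c' : G) := by
      have : (⟨z₁, hz₁Z.1⟩ : ↥(S : Subgroup G)) = ⟨z, hzZ.1⟩ * c' := by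
        apply e.injective
        rw [map_mul, hrel, hc', e.apply_symm_apply]
      exact congrArg Subtype.val this
    -- powers of `g`
    have hpow : ∀ j : ℕ, g ^ j * z * (g ^ j)⁻¹ = z * (c' : G) ^ j := by
      intro j
      induction j with
      | zero => simp
      | succ j ih =>
        have hgc : ∀ i : ℕ, g * (c' : G) ^ i * g⁻¹ = (c' : G) ^ i := by
          intro i
          rw [← conj_pow, hfixc g hg]
        calc g ^ (j + 1) * z * (g ^ (j + 1))⁻¹
            = g * (g ^ j * z * (g ^ j)⁻¹) * g⁻¹ := by rw [pow_succ']; group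
          _ = g * (z * (c' : G) ^ j) * g⁻¹ := by rw [ih]
          _ = (g * z * g⁻¹) * (g * (c' : G) ^ j * g⁻¹) := by group
          _ = z * (c' : G) * (c' : G) ^ j := by rw [← hz₁, hrel', hgc]
          _ = z * (c' : G) ^ (j + 1) := by rw [pow_succ']; group
    obtain ⟨k, m, hm, hkm⟩ := Nat.exists_eq_two_pow_mul_odd (orderOf_pos g).ne'
    set h := g ^ m with hh
    have hh2 : h ^ (2 ^ k) = 1 := by
      rw [hh, ← pow_mul, mul_comm, ← hkm, pow_orderOf_eq_one]
    have hhN : h ∈ Subgroup.normalizer ((S : Subgroup G) : Set G) := pow_mem hg m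
    have hhP : IsPGroup 2 (Subgroup.zpowers h) := by
      obtain ⟨j, -, hj⟩ := (Nat.dvd_prime_pow Nat.prime_two).mp (orderOf_dvd_of_pow_eq_one hh2)
      apply IsPGroup.of_card (n := j)
      rw [Nat.card_zpowers, hj]
    have hhS : h ∈ (S : Subgroup G) := by
      have h1 : h ∈ Subgroup.zpowers h ⊓ Subgroup.normalizer ((S : Subgroup G) : Set G) :=
        ⟨Subgroup.mem_zpowers h, hhN⟩
      have h1' : h ∈ Subgroup.zpowers h ⊓ (S : Subgroup G) := by
        rw [← hhP.inf_normalizer_sylow S]
        exact h1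
      exact h1'.2
    have h1 := hpow m
    rw [← hh] at h1
    have h2 : h * z * h⁻¹ = z := by
      have := Subgroup.mem_centralizer_iff.mp hzZ.2 h hhS
      rw [this]; group
    rw [h2] at h1
    have h3 : (c' : G) ^ m = c' := by
      obtain ⟨i, hi⟩ := hm
      rw [hi, pow_succ, pow_mul, hc'2, one_pow, one_mul]
    rw [h3] at h1
    apply hc'1
    have := mul_left_cancel (a := z) (b := 1) (c := (c' : G)) (by rw [mul_one]; exact h1)
    exact this.symm

end Cfsg.Agent.S2911
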