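import Cfsg.Statements.S2929
import Cfsg.Agent.Lib.Helper49.ThreeCycles
import Cfsg.Agent.Lib.Helper49.FStarQS
import Cfsg.Agent.S4337
import Cfsg.Agent.S1323

set_option autoImplicit false
open Cfsg

namespace Cfsg.Agent.S2929

open Equiv Equiv.Perm Subgroup
open Cfsg.Agent.Helper49
open scoped commutatorElement

section General

variable {α : Type*} [Fintype α] [DecidableEq α] (H : Subgroup (Perm α))

/-- The 3-cycles of `H`. -/
def T3 : Set (Perm α) := {c | c.IsThreeCycle ∧ c ∈ H}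

/-- The subgroup generated by the 3-cycles of `H`. -/
def N3 : Subgroup (Perm α) := closure (T3 H)

theorem T3_isThreeCycle : ∀ c ∈ T3 H, c.IsThreeCycle := fun _ hc => hc.1

theorem N3_le : N3 H ≤ H := (closure_le _).2 (fun _ hc => hc.2)

theorem N3_conj_mem {h : Perm α} (hh : h ∈ H) {x : Perm α} (hx : x ∈ N3 H) :
    h * x * h⁻¹ ∈ N3 H := by
  unfold N3 at hx ⊢
  induction hx using Subgroup.closure_induction with
  | mem c hc =>
    apply Subgroup.subset_closure
    refine ⟨?_, H.mul_mem (H.mul_mem hh hc.2) (H.inv_mem hh)⟩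
    have := hc.1
    rwa [IsThreeCycle, ← cycleType_conj (τ := h)] at this
  | one => simp
  | mul a b _ _ ha hb =>
    have : h * (a * b) * h⁻¹ = (h * a * h⁻¹) * (h * b * h⁻¹) := by group
    rw [this]; exact mul_mem ha hb
  | inv a _ ha =>
    have : h * a⁻¹ * h⁻¹ = (h * a * h⁻¹)⁻¹ := by group
    rw [this]; exact inv_mem ha

open Classical in
/-- The orbit of `a` under `N3 H`, as a finset. -/
noncomputable def orb (a : α) : Finset α :=
  Finset.univ.filter (fun y => ∃ σ ∈ N3 H, σ a = y)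

theorem mem_orb {a y : α} : y ∈ orb H a ↔ ∃ σ ∈ N3 H, σ a = y := by
  unfold orb; simp

theorem self_mem_orb (a : α) : a ∈ orb H a := (mem_orb H).2 ⟨1, one_mem _, rfl⟩

theorem orb_inv {a : α} : ∀ c ∈ T3 H, ∀ x ∈ orb H a, c x ∈ orb H a := by
  intro c hc x hx
  obtain ⟨σ, hσ, rfl⟩ := (mem_orb H).1 hx
  exact (mem_orb H).2 ⟨c * σ, mul_mem (Subgroup.subset_closure hc) hσ, rfl⟩

theorem orb_inv' {a : α} : ∀ σ ∈ N3 H, ∀ x, σ x ∈ orb H a ↔ x ∈ orb H a := by
  intro σ hσ x
  constructor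
  · intro hx
    obtain ⟨τ, hτ, hτx⟩ := (mem_orb H).1 hx
    refine (mem_orb H).2 ⟨σ⁻¹ * τ, mul_mem (inv_mem hσ) hτ, ?_⟩
    rw [Perm.mul_apply, hτx]; simp
  · intro hx
    obtain ⟨τ, hτ, rfl⟩ := (mem_orb H).1 hx
    exact (mem_orb H).2 ⟨σ * τ, mul_mem hσ hτ, rfl⟩

theorem orb_trans {a : α} : ∀ x ∈ orb H a, ∀ y ∈ orb H a, ∃ σ ∈ closure (T3 H), σ x = y := by
  intro x hx y hy
  obtain ⟨σ, hσ, rfl⟩ := (mem_orb H).1 hx
  obtain ⟨τ, hτ, rfl⟩ := (mem_orb H).1 hy
  refine ⟨τ * σ⁻¹, mul_mem hτ (inv_mem hσ), ?_⟩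
  rw [Perm.mul_apply]; simp

/-- The subgroup generated by the 3-cycles of `H` supported in the orbit of `a`. -/
noncomputable def NΔ (a : α) : Subgroup (Perm α) :=
  closure {c | c ∈ T3 H ∧ ∀ x, c x ≠ x → x ∈ orb H a}

theorem NΔ_le_N3 (a : α) : NΔ H a ≤ N3 H := closure_mono (fun _ hc => hc.1)

/-- If `a` is moved by some 3-cycle of `H`, then `NΔ a` is the alternating group on the orbit. -/
theorem NΔ_eq_altOn {a : α} (ha : ∃ c ∈ T3 H, c a ≠ a) : NΔ H a = altOn (orb H a) := by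
  apply le_antisymm
  · exact closure_le_altOn (T3 H) (T3_isThreeCycle H) (orb H a)
  · obtain ⟨c, hc, hca⟩ := ha
    exact altOn_le_closure (T3 H) (T3_isThreeCycle H) (orb H a) (orb_inv H) (orb_trans H)
      ⟨c, hc, a, self_mem_orb H a, hca⟩

omit [DecidableEq α] in
/-- Two permutations commuting with a cycle `c` commute on the support of `c`. -/
theorem comm_on_support {c u v : Perm α} (hc : c.IsCycle) (hu : u * c = c * u) (hv : v * c = c * v)
    {x : α} (hx : c x ≠ x) : u (v x) = v (u x) := by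
  have hu' : ∀ y, u (c y) = c (u y) := fun y => by
    have := congrArg (fun f : Perm α => f y) hu; simpa using this
  have hv' : ∀ y, v (c y) = c (v y) := fun y => by
    have := congrArg (fun f : Perm α => f y) hv; simpa using this
  have hupow : ∀ (k : ℕ) y, u ((c ^ k) y) = (c ^ k) (u y) := by
    intro k
    induction k with
    | zero => intro y; simp
    | succ k ih => intro y; rw [pow_succ', Perm.mul_apply, hu', ih, Perm.mul_apply]
  have hvpow : ∀ (k : ℕ) y, v ((c ^ k) y) = (c ^ k) (v y) := by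
    intro k
    induction k with
    | zero => intro y; simp
    | succ k ih => intro y; rw [pow_succ', Perm.mul_apply, hv', ih, Perm.mul_apply]
  have hux : c (u x) ≠ u x := by rw [← hu']; exact fun h => hx (u.injective h)
  have hvx : c (v x) ≠ v x := by rw [← hv']; exact fun h => hx (v.injective h)
  obtain ⟨s, hs⟩ := hc.exists_pow_eq hx hux
  obtain ⟨t, ht⟩ := hc.exists_pow_eq hx hvx
  rw [← ht, hupow, ← hs, hvpow, ← ht, ← Perm.mul_apply, ← Perm.mul_apply, ← pow_add, ← pow_add,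
    add_comm]

/-- A permutation preserving `Δ` normalizes `altOn Δ`. -/
theorem altOn_conj_mem {Δ : Finset α} {σ τ : Perm α} (hσ : ∀ x, σ x ∈ Δ ↔ x ∈ Δ)
    (hτ : τ ∈ altOn Δ) : σ * τ * σ⁻¹ ∈ altOn Δ := by
  obtain ⟨h1, h2⟩ := hτ
  refine ⟨fun x hx => ?_, by simp [h2, mul_comm]⟩
  have hx' : τ (σ⁻¹ x) ≠ σ⁻¹ x := by
    intro h
    apply hx
    rw [Perm.mul_apply, Perm.mul_apply, h]; simp
  have := h1 _ hx'
  rw [← hσ] at this
  simpa using this

omit [Fintype α] in
theorem cyc_apply_ne {k : ℕ} (ι : Fin k × Fin 3 ↪ α) (i : Fin k) (j : Fin 3) :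
    cyc ι i (ι (i, j)) ≠ ι (i, j) := by
  have h01 : ι (i, 0) ≠ ι (i, 1) := by intro h; have := ι.injective h; simp at this
  have h02 : ι (i, 0) ≠ ι (i, 2) := by intro h; have := ι.injective h; simp at this
  have h12 : ι (i, 1) ≠ ι (i, 2) := by intro h; have := ι.injective h; simp at this
  unfold cyc
  set_option linter.unusedSimpArgs false in
  fin_cases j <;>
    simp [Perm.mul_apply, swap_apply_def, h01, h02, h12, h01.symm, h02.symm, h12.symm]

/-- A 3-cycle of `H` moving no point of the orbit commutes with `altOn` of the orbit. -/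
theorem commute_of_not_moving {a : α} {c : Perm α} (hc : ∀ x ∈ orb H a, c x = x) {τ : Perm α}
    (hτ : τ ∈ altOn (orb H a)) : c * τ = τ * c := by
  have hdis : Perm.Disjoint c τ := by
    intro x
    by_cases hx : x ∈ orb H a
    · exact Or.inl (hc x hx)
    · right
      by_contra h
      exact hx (hτ.1 x h)
  exact hdis.commute.eq

/-! ### Inside the group `↥H` -/

instance M_normal : ((N3 H).subgroupOf H).Normal := by
  refine ⟨fun x hx g => ?_⟩
  rw [mem_subgroupOf] at hx ⊢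
  simpa using N3_conj_mem H g.2 hx

theorem K_le_M (a : α) : (NΔ H a).subgroupOf H ≤ (N3 H).subgroupOf H :=
  comap_mono (NΔ_le_N3 H a)

theorem M_le_normalizer_K {a : α} (ha : ∃ c ∈ T3 H, c a ≠ a) :
    (N3 H).subgroupOf H ≤ normalizer (((NΔ H a).subgroupOf H : Subgroup ↥H) : Set ↥H) := by
  have key : ∀ σ ∈ N3 H, ∀ τ ∈ NΔ H a, σ * τ * σ⁻¹ ∈ NΔ H a := by
    intro σ hσ τ hτ
    rw [NΔ_eq_altOn H ha] at hτ ⊢
    exact altOn_conj_mem (orb_inv' H σ hσ) hτ
  intro x hx
  rw [mem_subgroupOf] at hx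
  rw [mem_normalizer_iff]
  intro y
  rw [mem_subgroupOf, mem_subgroupOf]
  constructor
  · intro hy
    simpa using key _ hx _ hy
  · intro hy
    have := key _ (inv_mem hx) _ hy
    simpa [mul_assoc] using this

/-- The subgroup `NΔ a` inside `↥H` is isomorphic to the alternating group on the orbit. -/
noncomputable def KEquiv {a : α} (ha : ∃ c ∈ T3 H, c a ≠ a) :
    ↥((NΔ H a).subgroupOf H) ≃* ↥(alternatingGroup {x // x ∈ orb H a}) :=
  ((subgroupOfEquivOfLe ((NΔ_le_N3 H a).trans (N3_le H))).trans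
    (MulEquiv.subgroupCongr (NΔ_eq_altOn H ha))).trans (altOnEquiv (orb H a)).symm

theorem K_quasisimple {a : α} (ha : ∃ c ∈ T3 H, c a ≠ a) (h5 : 5 ≤ (orb H a).card) :
    Cfsg.IsQuasisimple ↥((NΔ H a).subgroupOf H) := by
  have h5' : 5 ≤ Nat.card {x // x ∈ orb H a} := by
    rw [Nat.card_eq_fintype_card, Fintype.card_coe]; exact h5
  have : IsSimpleGroup (alternatingGroup {x // x ∈ orb H a}) := alternatingGroup.isSimpleGroup h5'
  have : Group.IsPerfect (alternatingGroup {x // x ∈ orb H a}) :=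
    ⟨commutator_alternatingGroup_eq_top h5'⟩
  have hq : Cfsg.IsQuasisimple (alternatingGroup {x // x ∈ orb H a}) :=
    Cfsg.Agent.S1323.quasisimple_of_simple_perfect
  exact Cfsg.Agent.Helper21.isQuasisimple_of_mulEquiv (KEquiv H ha).symm hq

theorem K_solvable {a : α} (h4 : (orb H a).card ≤ 4) :
    Group.IsSolvable ↥((NΔ H a).subgroupOf H) := by
  have h1 : Group.IsSolvable ↥(NΔ H a) := by
    unfold NΔ
    apply Cfsg.Agent.S4337.isSolvable_closure_of_support _ (orb H a) h4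
    intro g hg x hx
    exact hg.2 x (mem_support.1 hx)
  exact Group.isSolvable_of_isSolvable_injective
    (f := (subgroupOfEquivOfLe ((NΔ_le_N3 H a).trans (N3_le H))).toMonoidHom)
    (subgroupOfEquivOfLe ((NΔ_le_N3 H a).trans (N3_le H))).injective

/-! ### Case 1: a large orbit -/

theorem case1 (hF : Cfsg.IsQuasisimple ↥(Cfsg.generalizedFittingSubgroup ↥H)) {a : α}
    (ha : ∃ c ∈ T3 H, c a ≠ a) (h5 : 5 ≤ (orb H a).card) :
    (NΔ H a).subgroupOf H = Cfsg.generalizedFittingSubgroup ↥H :=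
  eq_fstar_of_quasisimple hF _ ((N3 H).subgroupOf H) (K_le_M H a) (M_le_normalizer_K H ha)
    (K_quasisimple H ha h5)

theorem case1_support {a : α} (ha : ∃ c ∈ T3 H, c a ≠ a)
    (hK : (NΔ H a).subgroupOf H = Cfsg.generalizedFittingSubgroup ↥H) {c : Perm α}
    (hc : c ∈ T3 H) : ∀ x, c x ≠ x → x ∈ orb H a := by
  by_contra hcon
  push Not at hcon
  obtain ⟨x, hx, hxo⟩ := hcon
  have hfix : ∀ y ∈ orb H a, c y = y := by
    intro y hy
    by_contra hne
    exact hxo (support_subset_of_threeCycle hc.1 (orb_inv H c hc) hy hne x hx)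
  have hcent : (⟨c, hc.2⟩ : ↥H) ∈
      centralizer ((Cfsg.generalizedFittingSubgroup ↥H : Subgroup ↥H) : Set ↥H) := by
    rw [← hK, mem_centralizer_iff]
    intro y hy
    rw [SetLike.mem_coe, mem_subgroupOf, NΔ_eq_altOn H ha] at hy
    apply Subtype.ext
    exact (commute_of_not_moving H hfix hy).symm
  have := Cfsg.Agent.Helper21.centralizer_generalizedFittingSubgroup_le hcent
  rw [← hK, mem_subgroupOf, NΔ_eq_altOn H ha] at this
  exact hxo (this.1 x hx)

/-! ### Case 2: all orbits small -/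

theorem case2 (hF : Cfsg.IsQuasisimple ↥(Cfsg.generalizedFittingSubgroup ↥H))
    (h4 : ∀ a, (∃ c ∈ T3 H, c a ≠ a) → (orb H a).card ≤ 4) :
    ∀ ℓ ∈ Cfsg.generalizedFittingSubgroup ↥H, ∀ c ∈ T3 H, (ℓ : Perm α) * c = c * (ℓ : Perm α) := by
  intro ℓ hℓ c hc
  have hne : ∃ a, c a ≠ a := by
    by_contra h
    push Not at h
    exact hc.1.ne_one (Equiv.ext h)
  obtain ⟨a, hca⟩ := hne
  have ha : ∃ c ∈ T3 H, c a ≠ a := ⟨c, hc, hca⟩
  have hcomm := commutator_fstar_eq_bot_of_solvable hF _ ((N3 H).subgroupOf H) (K_le_M H a)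
    (M_le_normalizer_K H ha) (K_solvable H (h4 a ha))
  rw [commutator_eq_bot_iff_le_centralizer] at hcomm
  have hcK : (⟨c, hc.2⟩ : ↥H) ∈ (NΔ H a).subgroupOf H := by
    rw [mem_subgroupOf]
    apply Subgroup.subset_closure
    exact ⟨hc, support_subset_of_threeCycle hc.1 (orb_inv H c hc) (self_mem_orb H a) hca⟩
  have := (mem_centralizer_iff.1 (hcomm hℓ)) _ hcK
  have := congrArg Subtype.val this
  simpa using this.symm

theorem case2_false {k : ℕ} (hF : Cfsg.IsQuasisimple ↥(Cfsg.generalizedFittingSubgroup ↥H))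
    (ι : Fin k × Fin 3 ↪ α) (hι : ∀ i, cyc ι i ∈ H) (hcard : Fintype.card α ≤ k * 3 + 4)
    (hcomm : ∀ ℓ ∈ Cfsg.generalizedFittingSubgroup ↥H, ∀ c ∈ T3 H,
      (ℓ : Perm α) * c = c * (ℓ : Perm α)) : False := by
  set L₀ : Subgroup (Perm α) := (Cfsg.generalizedFittingSubgroup ↥H).map H.subtype with hL₀
  have hLL : ⁅L₀, L₀⁆ = L₀ := by
    rw [hL₀, ← map_commutator, Cfsg.Agent.Helper22.IsQuasisimple.commutator_eq hF]
  have hcomm' : ∀ σ ∈ L₀, ∀ i, σ * cyc ι i = cyc ι i * σ := by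
    rintro _ ⟨ℓ, hℓ, rfl⟩ i
    exact hcomm ℓ hℓ _ ⟨cyc_isThreeCycle ι i, hι i⟩
  -- `L₀` fixes the points of the triples
  have hfix : ∀ σ ∈ L₀, ∀ p, σ (ι p) = ι p := by
    let Fix : Subgroup (Perm α) := ⨅ p, MulAction.stabilizer (Perm α) (ι p)
    have hle : ⁅L₀, L₀⁆ ≤ Fix := by
      rw [commutator_le]
      intro σ hσ τ hτ
      rw [Subgroup.mem_iInf]
      rintro ⟨i, j⟩
      rw [MulAction.mem_stabilizer_iff]
      show ⁅σ, τ⁆ (ι (i, j)) = ι (i, j)
      have hcyc := (cyc_isThreeCycle ι i).isCycle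
      have hσi : σ⁻¹ * cyc ι i = cyc ι i * σ⁻¹ := by
        have := hcomm' σ hσ i
        rw [inv_mul_eq_iff_eq_mul, ← mul_assoc, this, mul_assoc, mul_inv_cancel, mul_one]
      have hτi : τ⁻¹ * cyc ι i = cyc ι i * τ⁻¹ := by
        have := hcomm' τ hτ i
        rw [inv_mul_eq_iff_eq_mul, ← mul_assoc, this, mul_assoc, mul_inv_cancel, mul_one]
      have := comm_on_support hcyc hσi hτi (cyc_apply_ne ι i j)
      rw [commutatorElement_def, Perm.mul_apply, Perm.mul_apply, Perm.mul_apply, this]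
      simp
    intro σ hσ p
    have hσ' : σ ∈ Fix := hle (hLL.symm ▸ hσ)
    have := (Subgroup.mem_iInf.1 hσ') p
    exact MulAction.mem_stabilizer_iff.1 this
  -- hence `L₀` is supported on at most four points
  set R : Finset α := Finset.univ \ (Finset.univ.map ι) with hR
  have hRcard : R.card ≤ 4 := by
    rw [hR, Finset.card_sdiff_of_subset (Finset.subset_univ _), Finset.card_map, Finset.card_univ,
      Finset.card_univ, Fintype.card_prod, Fintype.card_fin, Fintype.card_fin]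
    omega
  have hsupp : ∀ σ ∈ (L₀ : Set (Perm α)), σ.support ⊆ R := by
    intro σ hσ x hx
    rw [hR, Finset.mem_sdiff]
    refine ⟨Finset.mem_univ _, fun hmem => ?_⟩
    obtain ⟨p, _, rfl⟩ := Finset.mem_map.1 hmem
    exact (mem_support.1 hx) (hfix σ hσ p)
  have hsol := Cfsg.Agent.S4337.isSolvable_closure_of_support (L₀ : Set (Perm α)) R hRcard hsupp
  rw [Subgroup.closure_eq] at hsol
  have hsolF : Group.IsSolvable ↥(Cfsg.generalizedFittingSubgroup ↥H) :=
    Group.isSolvable_of_isSolvable_injective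
      (f := ((Cfsg.generalizedFittingSubgroup ↥H).equivMapOfInjective H.subtype
        H.subtype_injective).toMonoidHom)
      ((Cfsg.generalizedFittingSubgroup ↥H).equivMapOfInjective H.subtype
        H.subtype_injective).injective
  exact Cfsg.Agent.Helper21.quasisimple_not_isSolvable hF hsolF

end General

/-- Let n ≥ 5 and let H be a subgroup of the symmetric group of degree n whose generalized Fitting subgroup F*(H) is quasisimple. If H contains a Sylow 3-subgroup of the symmetric group, then F*(H) is isomorphic to an alternating group of degree m for some m ∈ {n − 2, n − 1, n}. -/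
theorem result (n : ℕ) (hn : 5 ≤ n) (H : Subgroup (Equiv.Perm (Fin n))) (hF : Cfsg.IsQuasisimple ↥(Cfsg.generalizedFittingSubgroup ↥H)) (hS : ∃ P : Sylow 3 (Equiv.Perm (Fin n)), (P : Subgroup (Equiv.Perm (Fin n))) ≤ H) : ∃ m : ℕ, (m = n - 2 ∨ m = n - 1 ∨ m = n) ∧ Nonempty (↥(Cfsg.generalizedFittingSubgroup ↥H) ≃* ↥(alternatingGroup (Fin m))) := by
  obtain ⟨P, hP⟩ := hS
  obtain ⟨ι, hι⟩ := exists_cyc_mem_sylow n P
  have hιH : ∀ i, cyc ι i ∈ H := fun i => hP (hι i)
  have hιT : ∀ i, cyc ι i ∈ T3 H := fun i => ⟨cyc_isThreeCycle ι i, hιH i⟩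
  by_cases hcase : ∃ a, (∃ c ∈ T3 H, c a ≠ a) ∧ 5 ≤ (orb H a).card
  · obtain ⟨a, ha, h5⟩ := hcase
    have hK := case1 H hF ha h5
    have hsub : Finset.univ.map ι ⊆ orb H a := by
      intro y hy
      obtain ⟨⟨i, j⟩, _, rfl⟩ := Finset.mem_map.1 hy
      exact case1_support H ha hK (hιT i) _ (cyc_apply_ne ι i j)
    have hcard1 : n / 3 * 3 ≤ (orb H a).card := by
      have := Finset.card_le_card hsub
      simpa [Finset.card_map, Fintype.card_prod] using this
    have hcard2 : (orb H a).card ≤ n := by simpa using (orb H a).card_le_univ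
    refine ⟨(orb H a).card, by omega, ⟨?_⟩⟩
    exact ((MulEquiv.subgroupCongr hK).symm.trans (KEquiv H ha)).trans
      (Equiv.altCongrHom (orb H a).equivFin)
  · exfalso
    push Not at hcase
    have h4 : ∀ a, (∃ c ∈ T3 H, c a ≠ a) → (orb H a).card ≤ 4 := fun a ha => by
      have := hcase a ha; omega
    exact case2_false H hF ι hιH (by simp only [Fintype.card_fin]; omega) (case2 H hF h4)

end Cfsg.Agent.S2929
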