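import Cfsg.Statements.S2930
import Cfsg.Agent.Lib.Helper89.PMinAlt.Main
import Cfsg.Agent.Lib.Helper22.Bender
import Cfsg.Agent.Lib.Helper71.AutAlt

set_option autoImplicit false
open Cfsg

namespace Cfsg.Agent.S2930

open Cfsg.Agent.Helper22 in
/-- A Sylow `3`-subgroup lies in `F*(X)` when `F*(X)` is an alternating group of degree `≥ 5`. -/
theorem sylow_le_fstar {X : Type*} [Group X] [Finite X] (n : ℕ) (hn : 5 ≤ n)
    (φ : ↥(Cfsg.generalizedFittingSubgroup X) ≃* ↥(alternatingGroup (Fin n)))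
    (s : X) (k : ℕ) (hs : s ^ 3 ^ k = 1) : s ∈ Cfsg.generalizedFittingSubgroup X := by
  let Θ : X →* MulAut (alternatingGroup (Fin n)) :=
    (MulAut.congr φ).toMonoidHom.comp
      (MulAut.conjNormal (H := Cfsg.generalizedFittingSubgroup X))
  have hΘ : (Θ s) ^ 3 ^ k = 1 := by rw [← map_pow, hs, map_one]
  have hodd : Odd (orderOf (Θ s)) := by
    have hdvd := orderOf_dvd_of_pow_eq_one hΘ
    obtain ⟨j, -, hj⟩ := (Nat.dvd_prime_pow Nat.prime_three).mp hdvd
    rw [hj]
    exact Odd.pow (by decide)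
  obtain ⟨σ, hσ⟩ := Cfsg.Agent.Helper71.AutAlt.mem_range_of_odd_order n hn (Θ s) hodd
  have hinj := Cfsg.Agent.Helper71.AutAlt.conjNormal_injective (α := Fin n)
    (by rw [Fintype.card_fin]; omega)
  have hσodd : Odd (orderOf σ) := by
    rw [← orderOf_injective _ hinj σ, hσ]; exact hodd
  have hσsign : Equiv.Perm.sign σ = 1 := by
    rcases Int.units_eq_one_or (Equiv.Perm.sign σ) with h | h
    · exact h
    · exfalso
      have h1 : Equiv.Perm.sign σ ^ orderOf σ = 1 := by
        rw [← map_pow, pow_orderOf_eq_one, map_one]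
      rw [h, hσodd.neg_one_pow] at h1
      exact absurd h1 (by decide)
  let a : alternatingGroup (Fin n) := ⟨σ, Equiv.Perm.mem_alternatingGroup.mpr hσsign⟩
  let f₀ : ↥(Cfsg.generalizedFittingSubgroup X) := φ.symm a
  -- `s` and `f₀` induce the same conjugation on `F*(X)`
  have hconj : ∀ y : ↥(Cfsg.generalizedFittingSubgroup X),
      s * (y : X) * s⁻¹ = (f₀ : X) * (y : X) * (f₀ : X)⁻¹ := by
    intro y
    have h1 : (Θ s) (φ y) = a * φ y * a⁻¹ := by
      rw [← hσ]
      apply Subtype.ext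
      simp [a, MulAut.conjNormal_apply]
    have h2 : (Θ s) (φ y) = φ (MulAut.conjNormal s y) := by
      simp [Θ, MulAut.congr]
    have h3 : MulAut.conjNormal s y = f₀ * y * f₀⁻¹ := by
      apply φ.injective
      rw [← h2, h1, map_mul, map_mul, map_inv]
      simp [f₀]
    have h4 := congrArg (Subtype.val) h3
    rw [MulAut.conjNormal_apply] at h4
    simpa using h4
  have hcent : (f₀ : X)⁻¹ * s ∈ Subgroup.centralizer
      ((Cfsg.generalizedFittingSubgroup X : Subgroup X) : Set X) := by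
    rw [Subgroup.mem_centralizer_iff]
    intro y hy
    have := hconj ⟨y, hy⟩
    simp only at this
    calc y * ((f₀ : X)⁻¹ * s) = (f₀ : X)⁻¹ * ((f₀ : X) * y * (f₀ : X)⁻¹) * s := by group
      _ = (f₀ : X)⁻¹ * (s * y * s⁻¹) * s := by rw [this]
      _ = (f₀ : X)⁻¹ * s * y := by group
  have hmem := centralizer_generalizedFittingSubgroup_le hcent
  have : s = (f₀ : X) * ((f₀ : X)⁻¹ * s) := by group
  rw [this]
  exact Subgroup.mul_mem _ f₀.2 hmem

open Cfsg.Agent.Helper22 in
/-- Let X be a finite 3-minimal group (a Sylow 3-subgroup is not normal and lies in a unique maximal subgroup) whose generalized Fitting subgroup is isomorphic to an alternating group of degree n ≥ 5. Then X = F*(X), and n = 6, n = 9, or n = 3ᵃ + 1 for some a ≥ 2. -/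
theorem result {X : Type*} [Group X] [Finite X] (hX : Cfsg.IsPMinimal 3 X) (n : ℕ) (hn : 5 ≤ n) (hF : Nonempty (↥(Cfsg.generalizedFittingSubgroup X) ≃* ↥(alternatingGroup (Fin n)))) : Cfsg.generalizedFittingSubgroup X = ⊤ ∧ (n = 6 ∨ n = 9 ∨ ∃ a : ℕ, 2 ≤ a ∧ n = 3 ^ a + 1) := by
  obtain ⟨φ⟩ := hF
  have : Fact (Nat.Prime 3) := ⟨Nat.prime_three⟩
  let S : Sylow 3 X := default
  obtain ⟨hSn, hSu⟩ := hX S
  have hSF : (S : Subgroup X) ≤ Cfsg.generalizedFittingSubgroup X := by
    intro s hs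
    obtain ⟨k, hk⟩ := S.isPGroup' ⟨s, hs⟩
    exact sylow_le_fstar n hn φ s k (by
      have := congrArg Subtype.val hk
      simpa using this)
  have hFtop : Cfsg.generalizedFittingSubgroup X = ⊤ := by
    by_contra hne
    have hN : Subgroup.normalizer ((S : Subgroup X) : Set X) ≠ ⊤ := by
      intro h
      exact hSn (Subgroup.normalizer_eq_top_iff.mp h)
    obtain ⟨M₁, hM₁, hFM₁⟩ := (eq_top_or_exists_le_coatom _).resolve_left hne
    obtain ⟨M₂, hM₂, hNM₂⟩ := (eq_top_or_exists_le_coatom _).resolve_left hN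
    have h12 : M₁ = M₂ := hSu.unique ⟨hM₁, hSF.trans hFM₁⟩
      ⟨hM₂, Subgroup.le_normalizer.trans hNM₂⟩
    have htop := Sylow.normalizer_sup_eq_top' S hSF
    apply hM₂.1
    rw [eq_top_iff, ← htop]
    exact sup_le hNM₂ (h12 ▸ hFM₁)
  refine ⟨hFtop, ?_⟩
  let e : X ≃* ↥(alternatingGroup (Fin n)) :=
    (Subgroup.topEquiv.symm.trans (MulEquiv.subgroupCongr hFtop.symm)).trans φ
  have hP : IsPGroup 3 ((S : Subgroup X).map e.toMonoidHom) := S.isPGroup'.map _
  have huniq : ∀ M₁ M₂ : Subgroup (alternatingGroup (Fin n)), IsCoatom M₁ →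
      (S : Subgroup X).map e.toMonoidHom ≤ M₁ → IsCoatom M₂ →
      (S : Subgroup X).map e.toMonoidHom ≤ M₂ → M₁ = M₂ := by
    intro M₁ M₂ h1 h1' h2 h2'
    have c1 : IsCoatom (M₁.comap e.toMonoidHom) :=
      (OrderIso.isCoatom_iff (MulEquiv.comapSubgroup e) M₁).mpr h1
    have c2 : IsCoatom (M₂.comap e.toMonoidHom) :=
      (OrderIso.isCoatom_iff (MulEquiv.comapSubgroup e) M₂).mpr h2
    have := hSu.unique ⟨c1, Subgroup.map_le_iff_le_comap.mp h1'⟩
      ⟨c2, Subgroup.map_le_iff_le_comap.mp h2'⟩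
    exact Subgroup.comap_injective e.surjective this
  have := Cfsg.Agent.Helper89.PMinAlt.card_of_unique_coatom (α := Fin n)
    (by rw [Nat.card_eq_fintype_card, Fintype.card_fin]; exact hn) _ hP huniq
  rwa [Nat.card_eq_fintype_card, Fintype.card_fin] at this

end Cfsg.Agent.S2930
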