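import Cfsg.Statements.S2931
import Cfsg.Agent.S0288
import Cfsg.Agent.Lib.Helper14.IsomTransfer
import Cfsg.Agent.Lib.Helper37.ExcG
import Cfsg.Agent.Lib.Helper37.ExcI
import Cfsg.Agent.Lib.Helper37.ExcJ

set_option autoImplicit false
open Cfsg

namespace Cfsg.Agent.S2931

/-- The Sylow 2-subgroups of the alternating group of degree 8 and of PSp₄(3) are isomorphic, and so are the Sylow 2-subgroups of the symmetric group of degree 8 and of the full isometry group of a non-degenerate quadratic form of minus type in dimension 6 over the field with 2 elements. -/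
theorem result (F : Type) [Field F] [Fintype F] (hF : Fintype.card F = 3) (K : Type) [Field K] [Fintype K] (hK : Fintype.card K = 2) (a b : K) (hab : ∀ z₁ z₂ : K, z₁ ^ 2 + a * z₁ * z₂ + b * z₂ ^ 2 = 0 → z₁ = 0 ∧ z₂ = 0) (P : Sylow 2 ↥(alternatingGroup (Fin 8))) (Q : Sylow 2 (Cfsg.PSp 2 F)) (P' : Sylow 2 (Equiv.Perm (Fin 8))) (Q' : Sylow 2 ↥(Cfsg.isometryGroup K (Cfsg.quadFormMinus 2 K a b))) : Nonempty (↥(P : Subgroup ↥(alternatingGroup (Fin 8))) ≃* ↥(Q : Subgroup (Cfsg.PSp 2 F))) ∧ Nonempty (↥(P' : Subgroup (Equiv.Perm (Fin 8))) ≃* ↥(Q' : Subgroup ↥(Cfsg.isometryGroup K (Cfsg.quadFormMinus 2 K a b)))) := by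
  classical
  constructor
  · -- the alternating group of degree 8 and `PSp_4(3)`
    obtain ⟨⟨e⟩, hcP⟩ := Cfsg.Agent.Helper37.Exc.psp_equiv_P40 hF
    obtain ⟨X, _, f₁, f₂, hf₁, hf₂, hX⟩ := Cfsg.Agent.Helper37.Exc.part1_exists
    have hcPSp : Nat.card (Cfsg.PSp 2 F) = 25920 := by rw [Nat.card_congr e.toEquiv, hcP]
    have : Finite (Cfsg.PSp 2 F) := Nat.finite_of_card_ne_zero (by rw [hcPSp]; norm_num)
    have hcA : Nat.card (alternatingGroup (Fin 8)) = 20160 := by
      rw [nat_card_alternatingGroup, Nat.card_eq_fintype_card, Fintype.card_fin]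
      decide
    obtain ⟨eP⟩ := Cfsg.Agent.Helper37.Exc.sylow_transfer 2 P f₂ hf₂ (by
      rw [hX, hcA, show (20160 : ℕ) = 2 ^ 6 * 315 from rfl,
        Cfsg.Agent.Helper37.Exc.factorization_two 6 315 (by decide)]
      norm_num)
    obtain ⟨eQ⟩ := Cfsg.Agent.Helper37.Exc.sylow_transfer 2 Q (e.symm.toMonoidHom.comp f₁)
      (e.symm.injective.comp hf₁) (by
      rw [hX, hcPSp, show (25920 : ℕ) = 2 ^ 6 * 405 from rfl,
        Cfsg.Agent.Helper37.Exc.factorization_two 6 405 (by decide)]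
      norm_num)
    exact ⟨eP.symm.trans eQ⟩
  · -- the symmetric group of degree 8 and `O_6^-(2)`
    let e₀ : K ≃+* ZMod 2 := (ZMod.ringEquivOfPrime K Nat.prime_two hK).symm
    have h01 : ∀ x : K, x = 0 ∨ x = 1 := by
      intro x
      have hz : ∀ y : ZMod 2, y = 0 ∨ y = 1 := by decide
      rcases hz (e₀ x) with h | h
      · left
        exact (map_eq_zero_iff e₀ e₀.injective).1 h
      · right
        exact (map_eq_one_iff e₀ e₀.injective).1 h
    have h2 : (1 : K) + 1 = 0 := by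
      apply e₀.injective
      rw [map_add, map_one, map_zero]
      decide
    have hb : b = 1 := by
      rcases h01 b with h | h
      · exfalso
        have := (hab 0 1 (by rw [h]; ring)).2
        exact one_ne_zero this
      · exact h
    have ha : a = 1 := by
      rcases h01 a with h | h
      · exfalso
        have := (hab 1 1 (by rw [h, hb]; linear_combination h2)).1
        exact one_ne_zero this
      · exact h
    have hQ : ∀ v, Cfsg.Agent.Helper37.Exc.QM (e₀ ∘ v) = e₀ (Cfsg.quadFormMinus 2 K a b v) := by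
      intro v
      rw [ha, hb]
      unfold Cfsg.Agent.Helper37.Exc.QM Cfsg.quadFormMinus
      simp only [Function.comp_apply, map_add, map_mul, map_pow, map_sum, map_one]
    let e₂ := Cfsg.Agent.Helper14.isometryGroupEquiv e₀ (Cfsg.quadFormMinus 2 K a b)
      Cfsg.Agent.Helper37.Exc.QM hQ
    have hcK : Nat.card (Cfsg.isometryGroup K (Cfsg.quadFormMinus 2 K a b)) = 51840 := by
      have h := Cfsg.Agent.S0288.result hK 3 (by norm_num) a b hab
      have h3 : (2 : ℕ) * 2 ^ (3 * (3 - 1)) * (2 ^ 3 + 1) *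
          ∏ i ∈ Finset.range (3 - 1), (2 ^ (2 * (i + 1)) - 1) = 51840 := by decide
      rw [h3] at h
      exact h
    have hcZ : Nat.card (Cfsg.isometryGroup (ZMod 2) Cfsg.Agent.Helper37.Exc.QM) = 51840 := by
      rw [← Nat.card_congr e₂.toEquiv, hcK]
    have : Finite (Cfsg.isometryGroup K (Cfsg.quadFormMinus 2 K a b)) :=
      Nat.finite_of_card_ne_zero (by rw [hcK]; norm_num)
    have : Finite (Cfsg.isometryGroup (ZMod 2) Cfsg.Agent.Helper37.Exc.QM) :=
      Nat.finite_of_card_ne_zero (by rw [hcZ]; norm_num)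
    have hle : Cfsg.Agent.Helper37.Exc.P27 ≤ Cfsg.Agent.Helper37.Exc.pi3.range := by
      unfold Cfsg.Agent.Helper37.Exc.P27
      rw [Subgroup.closure_le]
      rintro x (rfl | rfl | rfl | rfl | rfl | rfl)
      · exact ⟨Cfsg.Agent.Helper37.Exc.r0, rfl⟩
      · exact ⟨Cfsg.Agent.Helper37.Exc.r1, rfl⟩
      · exact ⟨Cfsg.Agent.Helper37.Exc.r2, rfl⟩
      · exact ⟨Cfsg.Agent.Helper37.Exc.r3, rfl⟩
      · exact ⟨Cfsg.Agent.Helper37.Exc.r4, rfl⟩
      · exact ⟨Cfsg.Agent.Helper37.Exc.r5, rfl⟩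
    obtain ⟨hinj, hrange⟩ := Cfsg.Agent.Helper37.Exc.hom_range_eq Cfsg.Agent.Helper37.Exc.pi3
      Cfsg.Agent.Helper37.Exc.P27 hle (by rw [hcZ]; exact Cfsg.Agent.Helper37.Exc.card_P27)
    let e₃ : Cfsg.isometryGroup (ZMod 2) Cfsg.Agent.Helper37.Exc.QM ≃*
        Cfsg.Agent.Helper37.Exc.P27 :=
      (MonoidHom.ofInjective hinj).trans (MulEquiv.subgroupCongr hrange)
    obtain ⟨X, _, f₁, f₂, hf₁, hf₂, hX⟩ := Cfsg.Agent.Helper37.Exc.part2_exists
    have hcS : Nat.card (Equiv.Perm (Fin 8)) = 40320 := by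
      rw [Nat.card_perm, Nat.card_eq_fintype_card, Fintype.card_fin]
      decide
    obtain ⟨eP⟩ := Cfsg.Agent.Helper37.Exc.sylow_transfer 2 P'
      ((Subgroup.subtype ⊤).comp f₂) ((Subgroup.subtype_injective _).comp hf₂) (by
      rw [hX, hcS, show (40320 : ℕ) = 2 ^ 7 * 315 from rfl,
        Cfsg.Agent.Helper37.Exc.factorization_two 7 315 (by decide)]
      norm_num)
    obtain ⟨eQ⟩ := Cfsg.Agent.Helper37.Exc.sylow_transfer 2 Q'
      (e₂.symm.toMonoidHom.comp (e₃.symm.toMonoidHom.comp f₁))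
      (e₂.symm.injective.comp (e₃.symm.injective.comp hf₁)) (by
      rw [hX, hcK, show (51840 : ℕ) = 2 ^ 7 * 405 from rfl,
        Cfsg.Agent.Helper37.Exc.factorization_two 7 405 (by decide)]
      norm_num)
    exact ⟨eP.symm.trans eQ⟩

end Cfsg.Agent.S2931
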