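import Cfsg.Statements.S2933
import Mathlib
import Cfsg.Agent.Lib.Helper39.T64C
import Cfsg.Agent.Lib.Helper39.T64F
import Cfsg.Agent.Lib.Helper39.P2A
import Cfsg.Agent.Lib.Helper39.P2D
import Cfsg.Agent.Lib.Helper39.P2G
import Cfsg.Agent.Lib.Helper39.P2H

set_option autoImplicit false
set_option linter.style.haveILetI false
set_option linter.unusedVariables false
open Cfsg

namespace Cfsg.Agent.S2933

/-- Let T be a 2-subgroup of a finite group G, V ≤ Z(T) a four-group, and t, ρ ∈ N_G(V) ∩ N_G(T) elements of order 2 and 3 with t commuting with ρ and with V. If [V, ρ] = V and C_T(t) = V, then T is elementary abelian of order 16, or homocyclic of rank 2 (ℤ/2ⁿ × ℤ/2ⁿ for some n ≥ 1), or isomorphic to a Sylow 2-subgroup of PSL₃(4) or of PSU₃(4). -/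
theorem result {G : Type*} [Group G] [Finite G] (T V : Subgroup G) (hT : IsPGroup 2 ↥T) (hVT : V ≤ T ⊓ Subgroup.centralizer (T : Set G)) (hV : Nat.card ↥V = 4 ∧ ∀ v ∈ V, v ^ 2 = 1) (t ρ : G) (ht : orderOf t = 2) (hρ : orderOf ρ = 3) (htn : t ∈ Subgroup.normalizer (V : Set G) ⊓ Subgroup.normalizer (T : Set G)) (hρn : ρ ∈ Subgroup.normalizer (V : Set G) ⊓ Subgroup.normalizer (T : Set G)) (htρ : t * ρ = ρ * t) (htV : t ∈ Subgroup.centralizer (V : Set G)) (hVρ : ⁅V, Subgroup.zpowers ρ⁆ = V) (hCt : T ⊓ Subgroup.centralizer ({t} : Set G) = V) : (Nat.card ↥T = 16 ∧ ∀ x ∈ T, x ^ 2 = 1) ∨ (∃ n : ℕ, 1 ≤ n ∧ Nonempty (↥T ≃* Multiplicative (ZMod (2 ^ n)) × Multiplicative (ZMod (2 ^ n)))) ∨ (∃ (F : Type) (_ : Field F) (_ : Fintype F), Fintype.card F = 4 ∧ ∀ P : Sylow 2 (Matrix.ProjectiveSpecialLinearGroup (Fin 3) F), Nonempty (↥T ≃* ↥(P : Subgroup (Matrix.ProjectiveSpecialLinearGroup (Fin 3) F)))) ∨ (∃ (F : Type) (_ : Field F) (_ : Fintype F), Fintype.card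 F = 16 ∧ ∀ P : Sylow 2 (Cfsg.PSU 3 F 4), Nonempty (↥T ≃* ↥(P : Subgroup (Cfsg.PSU 3 F 4)))) := by
  classical
  haveI : Fact (Nat.Prime 2) := ⟨Nat.prime_two⟩
  have hVT' : V ≤ T := fun v hv => (Subgroup.mem_inf.mp (hVT hv)).1
  have htn' := Subgroup.mem_inf.mp htn
  have hρn' := Subgroup.mem_inf.mp hρn
  have hpd := Cfsg.Agent.Helper39.P2G.pd_of_hyp T V hT hV.1 t ρ ht hρ htn'.2 hρn'.2 hρn'.1 htρ hVρ hCt
  rcases Cfsg.Agent.Helper39.P2D.abelian_or_setup hpd with hab | hS
  · rcases Cfsg.Agent.Helper39.P2A.abelian_cases hab hpd with ⟨h16, hsq⟩ | ⟨x, hx⟩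
    · left
      refine ⟨h16, fun x hx => ?_⟩
      have := hsq ⟨x, hx⟩
      rw [pow_two]
      exact congrArg Subtype.val this
    · right; left
      obtain ⟨n, hn1, hiso⟩ := Cfsg.Agent.Helper39.P2A.homocyclic hT hab hpd.fpf3 x hx
      refine ⟨n, hn1 ?_, hiso⟩
      rintro rfl
      have htop : (⊤ : Subgroup ↥T) = ⊥ := by
        rw [← hx, map_one]
        simp
      have hcard : Nat.card ↥T = 1 := by
        rw [← Subgroup.card_top (G := ↥T), htop, Subgroup.card_bot]
      have hle : Nat.card ↥V ≤ Nat.card ↥T := Subgroup.card_le_of_le hVT'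
      have := hV.1
      omega
  · by_cases hinv : ∃ a : ↥T, a ∉ Subgroup.center ↥T ∧ a * a = 1
    · right; right; left
      obtain ⟨a, haZ, haa⟩ := hinv
      obtain ⟨b, hbb, hab⟩ := Cfsg.Agent.Helper39.T64C.exists_second hS haZ haa
      have hF : Nat.card (GaloisField 2 2) = 2 ^ 2 := GaloisField.card 2 2 (by norm_num)
      letI : Fintype (GaloisField 2 2) := Fintype.ofFinite _
      have hF' : Fintype.card (GaloisField 2 2) = 4 := by
        rw [← Nat.card_eq_fintype_card, hF]; norm_num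
      obtain ⟨P, ⟨e⟩⟩ := Cfsg.Agent.Helper39.T64F.exists_iso_sylow hS haa hbb hab hF'
      refine ⟨GaloisField 2 2, inferInstance, inferInstance, hF', fun P' => ?_⟩
      obtain ⟨g, hg⟩ := MulAction.exists_smul_eq
        (Matrix.ProjectiveSpecialLinearGroup (Fin 3) (GaloisField 2 2)) P P'
      rw [← hg]
      exact ⟨e.trans (Sylow.equivSMul P g)⟩
    · right; right; right
      push Not at hinv
      have hF : Nat.card (GaloisField 2 4) = 2 ^ 4 := GaloisField.card 2 4 (by norm_num)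
      letI : Fintype (GaloisField 2 4) := Fintype.ofFinite _
      have hF' : Fintype.card (GaloisField 2 4) = 16 := by
        rw [← Nat.card_eq_fintype_card, hF]; norm_num
      have hK : Fintype.card (GaloisField 2 4) = 4 ^ 2 := by rw [hF']; norm_num
      refine ⟨GaloisField 2 4, inferInstance, inferInstance, hF', fun P => ?_⟩
      exact Cfsg.Agent.Helper39.P2H.iso_sylow_PSU hK hS
        (fun x hx => by
          by_contra hxZ
          exact hinv x hxZ hx) P

end Cfsg.Agent.S2933
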