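import Cfsg.Statements.S2934
import Cfsg.Agent.Lib.Helper73.OneInvolB
import Cfsg.Agent.Lib.Helper63.HeisES

set_option autoImplicit false
open Cfsg

namespace Cfsg.Agent.S2934

open Cfsg.Agent.Helper73.OneInvol

/-- Let p be an odd prime, W a finite 2-group and E a non-cyclic abelian p-subgroup of Aut(W) such that, for every nontrivial e ∈ E, the fixed points of e in W contain at most one involution. Then E has order 9, W is extraspecial of order 2⁵, 2⁷ or 2⁹, and the common fixed points of E in W form exactly the centre Z(W). -/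
theorem result {W : Type*} [Group W] [Finite W] (hW : IsPGroup 2 W) {p : ℕ} [Fact p.Prime] (hp : p ≠ 2) (E : Subgroup (MulAut W)) (hE : IsPGroup p ↥E) (hab : IsMulCommutative ↥E) (hnc : ¬ IsCyclic ↥E) (hfix : ∀ e ∈ E, e ≠ 1 → ∀ x y : W, orderOf x = 2 → orderOf y = 2 → e x = x → e y = y → x = y) : Nat.card ↥E = 9 ∧ Cfsg.IsExtraspecial 2 W ∧ (Nat.card W = 2 ^ 5 ∨ Nat.card W = 2 ^ 7 ∨ Nat.card W = 2 ^ 9) ∧ {x : W | ∀ e ∈ E, e x = x} = (Subgroup.center W : Set W) := by
  classical
  -- the semidirect product
  let φ : ↥E →* MulAut W := E.subtype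
  let G := W ⋊[φ] ↥E
  have : Finite (MulAut W) := Finite.of_injective (fun f : MulAut W => (f : W → W))
    (fun f g h => MulEquiv.ext (congrFun h))
  have : Finite G := Finite.of_equiv (W × ↥E) SemidirectProduct.equivProd.symm
  let iW : W →* G := SemidirectProduct.inl
  let iE : ↥E →* G := SemidirectProduct.inr
  have hiW : Function.Injective iW := SemidirectProduct.inl_injective
  have hiE : Function.Injective iE := SemidirectProduct.inr_injective
  let Wt : Subgroup G := iW.range
  let Et : Subgroup G := iE.range
  let eW : W ≃* Wt := MonoidHom.ofInjective hiW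
  let eE : ↥E ≃* Et := MonoidHom.ofInjective hiE
  have hconj : ∀ (e : ↥E) (x : W), iE e * iW x * (iE e)⁻¹ = iW ((e : MulAut W) x) := by
    intro e x
    have := SemidirectProduct.inl_aut (φ := φ) e x
    rw [map_inv] at this
    exact this.symm
  have hcomm_iff : ∀ (e : ↥E) (x : W), iE e * iW x = iW x * iE e ↔ (e : MulAut W) x = x := by
    intro e x
    constructor
    · intro h
      apply hiW
      rw [← hconj, h, mul_inv_cancel_right]
    · intro h
      have := hconj e x
      rw [h] at this
      calc iE e * iW x = (iE e * iW x * (iE e)⁻¹) * iE e := by rw [inv_mul_cancel_right]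
        _ = iW x * iE e := by rw [this]
  have S : Setup Wt Et p :=
    { normal := by
        show (SemidirectProduct.inl : W →* G).range.Normal
        rw [SemidirectProduct.range_inl_eq_ker_rightHom]
        infer_instance
      hW := hW.of_equiv eW
      hp := Fact.out
      hp2 := hp
      hE := hE.of_equiv eE
      comm := by
        rintro _ ⟨a, rfl⟩ _ ⟨b, rfl⟩
        show iE a * iE b = iE b * iE a
        rw [← map_mul, ← map_mul, hab.is_comm.comm a b]
      ncyc := by
        intro hc
        apply hnc
        exact (MulEquiv.isCyclic eE).mpr hc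
      faith := by
        rintro _ ⟨e, rfl⟩ h
        have : e = 1 := by
          apply Subtype.ext
          apply MulEquiv.ext
          intro x
          exact (hcomm_iff e x).mp (h _ ⟨x, rfl⟩)
        show iE e = 1
        rw [this, map_one]
      fix := by
        rintro _ ⟨e, rfl⟩ he1 _ ⟨x, rfl⟩ _ ⟨y, rfl⟩ hx hy hex hey
        have he1' : (e : MulAut W) ≠ 1 := by
          intro h
          apply he1
          have : e = 1 := Subtype.ext h
          show iE e = 1
          rw [this, map_one]
        have hx' : orderOf x = 2 := by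
          rw [← hx]; exact (orderOf_injective iW hiW x).symm
        have hy' : orderOf y = 2 := by
          rw [← hy]; exact (orderOf_injective iW hiW y).symm
        have := hfix (e : MulAut W) e.2 he1' x y hx' hy' ((hcomm_iff e x).mp hex)
          ((hcomm_iff e y).mp hey)
        show iW x = iW y
        rw [this] }
  obtain ⟨h1, h2, h3, h4⟩ := internal S
  refine ⟨?_, ?_, ?_, ?_⟩
  · rw [← h1]; exact Nat.card_congr eE.toEquiv
  · exact Cfsg.Agent.Helper63.isExtraspecial_of_mulEquiv eW.symm h2
  · rw [Nat.card_congr eW.toEquiv]; exact h3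
  · ext x
    rw [SetLike.mem_coe, Subgroup.mem_center_iff]
    show (∀ e ∈ E, e x = x) ↔ _
    have key := h4 (iW x) ⟨x, rfl⟩
    constructor
    · intro h y
      have h' : ∀ e ∈ Et, e * iW x = iW x * e := by
        rintro _ ⟨e, rfl⟩
        exact (hcomm_iff e x).mpr (h (e : MulAut W) e.2)
      have := key.mp h' (iW y) ⟨y, rfl⟩
      rw [← map_mul, ← map_mul] at this
      exact hiW this
    · intro h e he
      have h' : ∀ w ∈ Wt, w * iW x = iW x * w := by
        rintro _ ⟨y, rfl⟩
        show iW y * iW x = iW x * iW y
        rw [← map_mul, ← map_mul, h y]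
      exact (hcomm_iff ⟨e, he⟩ x).mp (key.mpr h' (iE ⟨e, he⟩) ⟨⟨e, he⟩, rfl⟩)

end Cfsg.Agent.S2934
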