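import Cfsg.Statements.S2939
import Cfsg.Agent.Lib.Helper49.SylCtl

set_option autoImplicit false
open Cfsg
open Pointwise

namespace Cfsg.Agent.S2939

open Cfsg.Agent.Helper33 Cfsg.Agent.Helper49

variable {G : Type*} [Group G]

theorem take_prod_succ {n : ℕ} (y : Fin n → G) (k : ℕ) (hk : k < n) :
    ((List.ofFn y).take (k + 1)).prod = ((List.ofFn y).take k).prod * y ⟨k, hk⟩ := by
  rw [List.prod_take_succ _ _ (by simpa using hk)]
  simp

theorem take_prod_all {n : ℕ} (y : Fin n → G) :
    ((List.ofFn y).take n).prod = (List.ofFn y).prod := by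
  rw [List.take_of_length_le (by simp)]

theorem telescoping {n : ℕ} (u : ℕ → G) (h0 : u 0 = 1) (k : ℕ) (hk : k ≤ n) :
    ((List.ofFn (fun i : Fin n => (u i)⁻¹ * u (i + 1))).take k).prod = u k := by
  induction k with
  | zero => simp [h0]
  | succ k ih =>
    rw [take_prod_succ _ k hk, ih (Nat.le_of_succ_le hk)]
    simp

theorem conjRight_subset_iff (g : G) (A : Set G) (H : Subgroup G) :
    Cfsg.conjRight g A ⊆ (H : Set G) ↔ A ⊆ ((MulAut.conj g • H : Subgroup G) : Set G) := by
  unfold Cfsg.conjRight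
  rw [Set.image_subset_iff]
  constructor
  · intro h a ha
    exact mem_conj_smul.mpr (h ha)
  · intro h a ha
    exact mem_conj_smul.mp (h ha)

theorem forward [Finite G] {p : ℕ} [Fact p.Prime] (𝓕 : Set (Subgroup G))
    (h𝓕 : Cfsg.IsNormalSet 𝓕) (hc : Cfsg.ControlsSylowIntersections p 𝓕) :
    Cfsg.FamilyStronglyControlsFusion p 𝓕 := by
  intro S A g hAS hne hAg
  have hAT : A ⊆ ((MulAut.conj g • (S : Subgroup G) : Subgroup G) : Set G) :=
    (conjRight_subset_iff g A _).mp hAg
  by_cases hTS : (g • S : Sylow p G) = S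
  · -- g normalizes S
    have hgN : g ∈ Subgroup.normalizer ((S : Subgroup G) : Set G) := by
      rw [mem_normalizer_iff_smul_eq]
      have := congrArg (fun P : Sylow p G => (P : Subgroup G)) hTS
      exact this
    refine ⟨0, Fin.elim0, Fin.elim0, g, hgN, fun i => i.elim0, by simp, fun i => i.elim0⟩
  · have hint : (S : Subgroup G) ⊓ ((g • S : Sylow p G) : Subgroup G) ≠ ⊥ := by
      obtain ⟨a, haA, ha1⟩ := hne
      intro h
      have : a ∈ (S : Subgroup G) ⊓ ((g • S : Sylow p G) : Subgroup G) := ⟨hAS haA, hAT haA⟩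
      rw [h] at this
      exact ha1 (Subgroup.mem_bot.mp this)
    obtain ⟨n, c, X, x, hc0, hcn, hstep⟩ := hc S (g • S) (fun h => hTS h.symm) hint
    let x' : ℕ → G := fun k => if h : k < n then x ⟨k, h⟩ else 1
    let w : ℕ → G := fun k => Nat.rec (1 : G) (fun j r => x' j * r) k
    have hw0 : w 0 = 1 := rfl
    have hws : ∀ k, w (k + 1) = x' k * w k := fun k => rfl
    have hx' : ∀ i : Fin n, x' i = x i := by
      intro i
      simp only [x', i.2, dite_true]
    have hci : ∀ i : Fin (n + 1), ((c i : Sylow p G) : Subgroup G) =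
        MulAut.conj (w i) • (S : Subgroup G) := by
      intro i
      induction i using Fin.induction with
      | zero => rw [hc0]; simp [hw0]
      | succ i ih =>
        obtain ⟨-, -, -, hconj, -⟩ := hstep i
        rw [subgroupConjRight_eq] at hconj
        have h1 : ((c i.succ : Sylow p G) : Subgroup G) =
            MulAut.conj (x i) • ((c i.castSucc : Sylow p G) : Subgroup G) := by
          rw [← hconj, conj_smul_inv_smul]
        rw [h1, ih, ← conj_mul_smul]
        have : (i.succ : ℕ) = (i : ℕ) + 1 := Fin.val_succ i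
        rw [this, hws, hx']
        simp
    have hAint : ∀ a ∈ A, a ∈ (S : Subgroup G) ⊓ ((g • S : Sylow p G) : Subgroup G) :=
      fun a ha => ⟨hAS ha, hAT ha⟩
    have hlast : MulAut.conj (w n) • (S : Subgroup G) = MulAut.conj g • (S : Subgroup G) := by
      have := hci (Fin.last n)
      rw [hcn] at this
      have h' : ((g • S : Sylow p G) : Subgroup G) = MulAut.conj g • (S : Subgroup G) := rfl
      rw [h'] at this
      simpa using this.symm
    have hy₀ : (w n)⁻¹ * g ∈ Subgroup.normalizer ((S : Subgroup G) : Set G) := by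
      rw [mem_normalizer_iff_smul_eq, conj_mul_smul, ← hlast, conj_inv_smul_smul]
    refine ⟨n, fun i => MulAut.conj (w i)⁻¹ • X i, fun i => (w i)⁻¹ * w (i + 1), (w n)⁻¹ * g,
      hy₀, ?_, ?_, ?_⟩
    · intro i
      obtain ⟨hX1, -, hx, -, -⟩ := hstep i
      constructor
      · have := sylowMembers_conj 𝓕 h𝓕 _ (X i) (w i)⁻¹ hX1
        have h2 := hci i.castSucc
        rw [Fin.val_castSucc] at h2
        rwa [h2, conj_inv_smul_smul] at this
      · show (w i)⁻¹ * w (i + 1) ∈ MulAut.conj (w i)⁻¹ • X i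
        rw [hws, hx']
        have : (w i)⁻¹ * (x i * w i) = (w i)⁻¹ * x i * (w i)⁻¹⁻¹ := by group
        rw [this]
        exact conj_mem_conj_smul hx
    · have := telescoping (n := n) w hw0 n le_rfl
      rw [take_prod_all] at this
      rw [this]; group
    · intro i
      have hi : (i : ℕ) + 1 ≤ n := i.2
      rw [telescoping (n := n) w hw0 _ hi]
      obtain ⟨-, -, hx, -, hle⟩ := hstep i
      apply Set.subset_inter
      · apply (conjRight_subset_iff _ A (S : Subgroup G)).mpr
        have h2 := hci i.succ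
        rw [Fin.val_succ] at h2
        rw [← h2]
        intro a ha
        exact (hle (hAint a ha)).1
      · show Cfsg.conjRight (w (i + 1)) A ⊆ ((MulAut.conj (w i)⁻¹ • X i : Subgroup G) : Set G)
        rw [conjRight_subset_iff, ← conj_mul_smul, hws, hx']
        have : x i * w i * (w i)⁻¹ = x i := by group
        rw [this, conj_smul_eq_self_of_mem hx]
        intro a ha
        exact (hle (hAint a ha)).2

theorem backward [Finite G] {p : ℕ} [Fact p.Prime] (𝓕 : Set (Subgroup G))
    (h𝓕 : Cfsg.IsNormalSet 𝓕) (hf : Cfsg.FamilyStronglyControlsFusion p 𝓕) :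
    Cfsg.ControlsSylowIntersections p 𝓕 := by
  intro S T hne hint
  obtain ⟨g, hg⟩ := MulAction.exists_smul_eq G S T
  have hgT : MulAut.conj g • (S : Subgroup G) = (T : Subgroup G) := by
    rw [← hg]; rfl
  set A : Set G := (((S : Subgroup G) ⊓ (T : Subgroup G) : Subgroup G) : Set G) with hA
  have hAS : A ⊆ ((S : Subgroup G) : Set G) := fun a ha => ha.1
  have hAne : ∃ a ∈ A, a ≠ 1 := by
    obtain ⟨a, ha1⟩ := (Subgroup.ne_bot_iff_exists_ne_one).mp hint
    exact ⟨(a : G), a.2, fun h1 => ha1 (Subtype.ext h1)⟩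
  have hAg : Cfsg.conjRight g A ⊆ ((S : Subgroup G) : Set G) := by
    rw [conjRight_subset_iff, hgT]
    exact fun a ha => ha.2
  obtain ⟨n, Y, y, y₀, hy₀, hY, hgy, htake⟩ := hf S A g hAS hAne hAg
  let v : ℕ → G := fun k => ((List.ofFn y).take k).prod
  have hv0 : v 0 = 1 := by simp [v]
  have hvs : ∀ i : Fin n, v (i + 1) = v i * y i := fun i => take_prod_succ y i i.2
  have hvn : v n = g * y₀⁻¹ := by
    have : v n = (List.ofFn y).prod := take_prod_all y
    rw [this, hgy]; group
  refine ⟨n, fun i => v i • S, fun i => MulAut.conj (v (i + 1)) • Y i,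
    fun i => v (i + 1) * (v i)⁻¹, ?_, ?_, ?_⟩
  · simp [hv0]
  · apply Sylow.ext
    have h1 : ((v (Fin.last n : Fin (n + 1)) • S : Sylow p G) : Subgroup G) =
        MulAut.conj (v n) • (S : Subgroup G) := rfl
    rw [h1, hvn, conj_mul_smul, smul_eq_of_mem_normalizer (Subgroup.inv_mem _ hy₀), hgT]
  · intro i
    have hcoe1 : ((v (i.castSucc : Fin (n + 1)) • S : Sylow p G) : Subgroup G) =
        MulAut.conj (v i) • (S : Subgroup G) := rfl
    have hcoe2 : ((v (i.succ : Fin (n + 1)) • S : Sylow p G) : Subgroup G) =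
        MulAut.conj (v (i + 1)) • (S : Subgroup G) := rfl
    have hXeq : MulAut.conj (v (i + 1)) • Y i = MulAut.conj (v i) • Y i := by
      rw [hvs, conj_mul_smul, conj_smul_eq_self_of_mem (hY i).2]
    refine ⟨?_, ?_, ?_, ?_, ?_⟩
    · show MulAut.conj (v (i + 1)) • Y i ∈ _
      rw [hcoe1, hXeq]
      exact sylowMembers_conj 𝓕 h𝓕 _ _ _ (hY i).1
    · show MulAut.conj (v (i + 1)) • Y i ∈ _
      rw [hcoe2]
      exact sylowMembers_conj 𝓕 h𝓕 _ _ _ (hY i).1
    · show v (i + 1) * (v i)⁻¹ ∈ MulAut.conj (v (i + 1)) • Y i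
      rw [hXeq, hvs]
      have : v i * y i * (v i)⁻¹ ∈ MulAut.conj (v i) • Y i := conj_mem_conj_smul (hY i).2
      exact this
    · show Cfsg.subgroupConjRight (v (i + 1) * (v i)⁻¹) _ = _
      rw [hcoe1, hcoe2, subgroupConjRight_eq, ← conj_mul_smul]
      have : (v (i + 1) * (v i)⁻¹)⁻¹ * v (i + 1) = v i := by group
      rw [this]
    · show _ ≤ _ ⊓ MulAut.conj (v (i + 1)) • Y i
      rw [hcoe2]
      have h1 := htake i
      have h2 : Cfsg.conjRight (v (i + 1)) A ⊆ ((S : Subgroup G) : Set G) :=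
        fun a ha => (h1 ha).1
      have h3 : Cfsg.conjRight (v (i + 1)) A ⊆ ((Y i : Subgroup G) : Set G) :=
        fun a ha => (h1 ha).2
      rw [conjRight_subset_iff] at h2 h3
      intro a ha
      exact ⟨h2 ha, h3 ha⟩

/-- Let p be a prime dividing the order of the finite group G and 𝓕 a family of subgroups of G closed under conjugation, with conjugates taken as X^g = g⁻¹Xg. Then 𝓕 controls Sylow p-intersections in G (any two distinct Sylow p-subgroups S and T with S ∩ T ≠ 1 are joined by a chain S = S₀, S₁, …, Sₙ = T of Sylow p-subgroups where, for each i, some member Xᵢ of 𝓕 meets both S_{i-1} and Sᵢ in Sylow p-subgroups of Xᵢ, satisfies S ∩ T ≤ Sᵢ ∩ Xᵢ, and contains an element xᵢ with Sᵢ^{xᵢ} = S_{i-1}) if and only if 𝓕 strongly controls p-fusion in G (whenever A is a subset of a Sylow p-subgroup S, A contains an element other than 1, and A^g ⊆ S, the element g factorises as g = y₁⋯yₙy with y ∈ N_G(S) and each yᵢ in a member Yᵢ of 𝓕 that meets S in a Sylow p-subgroup of Yᵢ,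 with A^{y₁⋯yᵢ} ⊆ S ∩ Yᵢ for each i). -/
theorem result {G : Type*} [Group G] [Finite G] {p : ℕ} [Fact p.Prime] (hdiv : p ∣ Nat.card G) (𝓕 : Set (Subgroup G)) (h𝓕 : Cfsg.IsNormalSet 𝓕) : Cfsg.ControlsSylowIntersections p 𝓕 ↔ Cfsg.FamilyStronglyControlsFusion p 𝓕 := by
  exact ⟨forward 𝓕 h𝓕, backward 𝓕 h𝓕⟩

end Cfsg.Agent.S2939
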