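import Cfsg.Statements.S2940
import Cfsg.Agent.Lib.Helper33.Syl

set_option autoImplicit false
open Cfsg
open Pointwise

namespace Cfsg.Agent.S2940

open Cfsg.Agent.Helper33

/-- Let S be a Sylow p-subgroup of the finite group G and G₁, G₂ subgroups containing S with G = G₁G₂. Then for every g ∈ G there is a Sylow p-subgroup U of G with S ∩ S^g ≤ U ≤ G₁ ∩ G₂^g (conjugates taken as X^g = g⁻¹Xg). -/
theorem result {G : Type*} [Group G] [Finite G] {p : ℕ} [Fact p.Prime] (S : Sylow p G) (G₁ G₂ : Subgroup G) (h1 : (S : Subgroup G) ≤ G₁) (h2 : (S : Subgroup G) ≤ G₂) (hfact : ∀ g : G, ∃ g₁ ∈ G₁, ∃ g₂ ∈ G₂, g = g₁ * g₂) (g : G) : ∃ U : Sylow p G, (S : Subgroup G) ⊓ Cfsg.subgroupConjRight g (S : Subgroup G) ≤ (U : Subgroup G) ∧ (U : Subgroup G) ≤ G₁ ⊓ Cfsg.subgroupConjRight g G₂ := by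
  obtain ⟨g₁, hg₁, g₂, hg₂, hg⟩ := hfact g⁻¹
  -- g⁻¹ = g₁ g₂
  have hconj : ∀ X : Subgroup G, Cfsg.subgroupConjRight g X = MulAut.conj g⁻¹ • X := fun X => rfl
  rw [hconj, hconj]
  set H : Subgroup G := G₁ ⊓ MulAut.conj g⁻¹ • G₂ with hH
  -- the Sylow subgroup S^{g₁⁻¹} lies in H
  have hG₂ : MulAut.conj g⁻¹ • G₂ = MulAut.conj g₁ • G₂ := by
    rw [hg, conj_mul_smul, conj_smul_eq_self_of_mem hg₂]
  have hS' : MulAut.conj g₁ • (S : Subgroup G) ≤ H := by
    apply le_inf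
    · have := conj_smul_le_conj_smul (g := g₁) h1
      rwa [conj_smul_eq_self_of_mem hg₁] at this
    · rw [hG₂]
      exact conj_smul_le_conj_smul h2
  have hSyl' : IsSylIn p (MulAut.conj g₁ • (S : Subgroup G)) H := by
    have := (isSylIn_top S).conj g₁
    rw [conj_smul_top] at this
    exact this.of_le hS' le_top
  -- D = S ∩ S^g is a p-subgroup of H
  have hDp : IsPGroup p ((S : Subgroup G) ⊓ MulAut.conj g⁻¹ • (S : Subgroup G) : Subgroup G) :=
    S.isPGroup'.to_le inf_le_left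
  have hDH : (S : Subgroup G) ⊓ MulAut.conj g⁻¹ • (S : Subgroup G) ≤ H :=
    inf_le_inf h1 (conj_smul_le_conj_smul h2)
  obtain ⟨T, hT, hDT⟩ := exists_isSylIn_ge hDp hDH
  have hcard : Nat.card T = Nat.card (S : Subgroup G) := by
    rw [hT.card_eq hSyl', card_conj_smul]
  have hcard' : Nat.card T = p ^ (Nat.card G).factorization p := by
    rw [hcard]; exact S.card_eq_multiplicity
  refine ⟨Sylow.ofCard T hcard', ?_, ?_⟩
  · exact hDT
  · exact hT.le

end Cfsg.Agent.S2940
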