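import Cfsg.Statements.S2941
import Cfsg.Agent.Lib.Helper49.InvSylow

set_option autoImplicit false
open Cfsg
open scoped commutatorElement
open Pointwise

namespace Cfsg.Agent.S2941

variable {G : Type*} [Group G]

/-- `J` normalizes `⁅K, J⁆`. -/
theorem right_le_normalizer_commutator (K J : Subgroup G) :
    J ≤ Subgroup.normalizer ((⁅K, J⁆ : Subgroup G) : Set G) := by
  have key : ∀ j' ∈ J, ∀ x ∈ ⁅K, J⁆, j' * x * j'⁻¹ ∈ ⁅K, J⁆ := by
    intro j' hj' x hx
    have hmap : (⁅K, J⁆).map (MulAut.conj j').toMonoidHom ≤ ⁅K, J⁆ := by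
      rw [Subgroup.commutator_def, MonoidHom.map_closure, Subgroup.closure_le]
      rintro _ ⟨_, ⟨k, hk, j, hj, rfl⟩, rfl⟩
      -- j' ⁅k,j⁆ j'⁻¹ = ⁅k, j'⁆⁻¹ * ⁅k, j' * j⁆
      have e : (MulAut.conj j').toMonoidHom ⁅k, j⁆ = ⁅k, j'⁆⁻¹ * ⁅k, j' * j⁆ := by
        simp only [MulEquiv.toMonoidHom_eq_coe, MonoidHom.coe_coe, MulAut.conj_apply,
          commutatorElement_def]
        group
      rw [e]
      exact Subgroup.mul_mem _ (Subgroup.inv_mem _ (Subgroup.commutator_mem_commutator hk hj'))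
        (Subgroup.commutator_mem_commutator hk (J.mul_mem hj' hj))
    exact hmap ⟨x, hx, rfl⟩
  intro j' hj'
  rw [Subgroup.mem_normalizer_iff]
  intro x
  constructor
  · exact key j' hj' x
  · intro hx
    have := key j'⁻¹ (J.inv_mem hj') _ hx
    simpa [mul_assoc] using this

/-- If `J` normalizes `K`, then `(k * j) ^ n ∈ K * j ^ n`. -/
theorem mul_pow_mem (K J : Subgroup G) (hJK : J ≤ Subgroup.normalizer (K : Set G))
    (k j : G) (hk : k ∈ K) (hj : j ∈ J) (n : ℕ) : (k * j) ^ n * (j ^ n)⁻¹ ∈ K := by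
  induction n with
  | zero => simp
  | succ n ih =>
    have h1 : j ^ n * k * (j ^ n)⁻¹ ∈ K :=
      (Subgroup.mem_normalizer_iff.mp (hJK (J.pow_mem hj n)) k).mp hk
    have e : (k * j) ^ (n + 1) * (j ^ (n + 1))⁻¹ =
        ((k * j) ^ n * (j ^ n)⁻¹) * (j ^ n * k * (j ^ n)⁻¹) := by
      rw [pow_succ, pow_succ]; group
    rw [e]
    exact K.mul_mem ih h1

/-- Odd-order elements of `K ⊔ J` lie in `K` when `J` is a 2-group normalizing `K`. -/
theorem odd_mem_of_mem_sup [Finite G] (K J : Subgroup G)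
    (hJK : J ≤ Subgroup.normalizer (K : Set G)) (hJ : IsPGroup 2 J)
    (x : G) (hx : x ∈ K ⊔ J) (hodd : Odd (orderOf x)) : x ∈ K := by
  -- x = k * j
  have hx' : x ∈ (K : Set G) * (J : Set G) := by
    have : ((K ⊔ J : Subgroup G) : Set G) = (K : Set G) * (J : Set G) :=
      Subgroup.coe_mul_of_right_le_normalizer_left K J hJK
    rw [← this]; exact hx
  obtain ⟨k, hk, j, hj, rfl⟩ := hx'
  change Odd (orderOf (k * j)) at hodd
  obtain ⟨a, ha⟩ := hJ ⟨j, hj⟩
  have ha' : j ^ (2 ^ a) = 1 := by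
    have := congrArg Subtype.val ha
    simpa using this
  have h1 := mul_pow_mem K J hJK k j hk hj (2 ^ a)
  rw [ha', inv_one, mul_one] at h1
  -- gcd (orderOf x) (2^a) = 1
  have hcop : Nat.Coprime (2 ^ a) (orderOf (k * j)) :=
    Nat.Coprime.pow_left a (Nat.coprime_two_left.mpr hodd)
  -- use zpow version
  have hz : (k * j) ^ ((2 ^ a : ℕ) * (2 ^ a).gcdA (orderOf (k * j)) +
      (orderOf (k * j) : ℕ) * (2 ^ a).gcdB (orderOf (k * j)) : ℤ) = k * j := by
    have := Nat.gcd_eq_gcd_ab (2 ^ a) (orderOf (k * j))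
    rw [hcop] at this
    rw [← this]
    simp
  rw [zpow_add, zpow_mul, zpow_mul, zpow_natCast, zpow_natCast, pow_orderOf_eq_one, one_zpow,
    mul_one] at hz
  show k * j ∈ K
  rw [← hz]
  exact K.zpow_mem h1 _

/-- Let G be a finite group of characteristic 2 type in which every 2-local subgroup is solvable and the centralizer of Ω₁(Z(S)) lies in N_G(S) for every Sylow 2-subgroup S, and let T be a nontrivial 2-subgroup and K a J(T)-component (J the Thompson subgroup generated by the elementary abelian 2-subgroups of largest order). If a subgroup Q is normalized by ⟨K, J(T)⟩ and normalizes J(T), then Q normalizes K. -/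
theorem result {G : Type*} [Group G] [Finite G] (hL : Cfsg.IsCharacteristicTwoType G) (hN : ∀ N : Subgroup G, Cfsg.IsTwoLocal N → Group.IsSolvable ↥N)
    (hZ : ∀ S : Sylow 2 G, Subgroup.centralizer (Cfsg.omegaCenterOf (S : Subgroup G) : Set G) ≤ Subgroup.normalizer ((S : Subgroup G) : Set G)) (T : Subgroup G) (hT : IsPGroup 2 ↥T) (hT1 : T ≠ ⊥) (K : Subgroup G) (hK : Cfsg.IsJComponent T K)
    (Q : Subgroup G) (hQ1 : K ⊔ Cfsg.thompsonSubgroupOf 2 T ≤ Subgroup.normalizer (Q : Set G)) (hQ2 : Q ≤ Subgroup.normalizer (Cfsg.thompsonSubgroupOf 2 T : Set G)) :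
    Q ≤ Subgroup.normalizer (K : Set G) := by
  obtain ⟨hKodd, hKJ, -, -, -, -⟩ := hK
  set J : Subgroup G := Cfsg.thompsonSubgroupOf 2 T with hJdef
  have hJT : J ≤ T := by
    rw [hJdef]; unfold Cfsg.thompsonSubgroupOf; exact Subgroup.map_subtype_le _
  have hJ2 : IsPGroup 2 J := hT.to_le hJT
  have hJK : J ≤ Subgroup.normalizer (K : Set G) := by
    have := right_le_normalizer_commutator K J
    rwa [hKJ] at this
  set L : Subgroup G := K ⊔ J with hLdef
  -- L is generated by L-conjugates of J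
  set Jstar : Subgroup G := Subgroup.closure {x | ∃ l ∈ L, ∃ j ∈ J, x = l * j * l⁻¹} with hJstar
  have hJsL : Jstar ≤ L := by
    rw [hJstar, Subgroup.closure_le]
    rintro _ ⟨l, hl, j, hj, rfl⟩
    exact L.mul_mem (L.mul_mem hl (le_sup_right (a := K) hj)) (L.inv_mem hl)
  have hJJs : J ≤ Jstar := by
    intro j hj
    apply Subgroup.subset_closure
    exact ⟨1, L.one_mem, j, hj, by simp⟩
  have hKJs : K ≤ Jstar := by
    rw [← hKJ, Subgroup.commutator_le]
    intro k hk j hj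
    have h1 : k * j * k⁻¹ ∈ Jstar :=
      Subgroup.subset_closure ⟨k, le_sup_left (b := J) hk, j, hj, rfl⟩
    have h2 : j⁻¹ ∈ Jstar := Jstar.inv_mem (hJJs hj)
    have := Jstar.mul_mem h1 h2
    rwa [commutatorElement_def]
  have hLJs : L = Jstar := le_antisymm (sup_le hKJs hJJs) hJsL
  -- Q normalizes L
  have hQL : Q ≤ Subgroup.normalizer (L : Set G) := by
    intro q hq
    apply Helper49.mem_normalizer_of_conj_le
    intro x hx
    have hmap : Jstar.map (MulAut.conj q).toMonoidHom ≤ L := by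
      rw [hJstar, MonoidHom.map_closure, Subgroup.closure_le]
      rintro _ ⟨_, ⟨l, hl, j, hj, rfl⟩, rfl⟩
      have hq₁ : l⁻¹ * q * l⁻¹⁻¹ ∈ Q :=
        (Subgroup.mem_normalizer_iff.mp (hQ1 (L.inv_mem hl)) q).mp hq
      have hj₁ : (l⁻¹ * q * l⁻¹⁻¹) * j * (l⁻¹ * q * l⁻¹⁻¹)⁻¹ ∈ J :=
        (Subgroup.mem_normalizer_iff.mp (hQ2 hq₁) j).mp hj
      have e : (MulAut.conj q).toMonoidHom (l * j * l⁻¹) =
          l * ((l⁻¹ * q * l⁻¹⁻¹) * j * (l⁻¹ * q * l⁻¹⁻¹)⁻¹) * l⁻¹ := by
        simp only [MulEquiv.toMonoidHom_eq_coe, MonoidHom.coe_coe, MulAut.conj_apply]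
        group
      rw [e]
      exact L.mul_mem (L.mul_mem hl (le_sup_right (a := K) hj₁)) (L.inv_mem hl)
    rw [hLJs] at hx
    exact hmap ⟨x, hx, rfl⟩
  -- K is generated by the odd-order elements of L
  have hKgen : K = Subgroup.closure {g : G | g ∈ L ∧ Odd (orderOf g)} := by
    apply le_antisymm
    · conv_lhs => rw [← hKodd]
      apply Subgroup.closure_mono
      rintro g ⟨hg, hodd⟩
      exact ⟨le_sup_left (b := J) hg, hodd⟩
    · rw [Subgroup.closure_le]
      rintro g ⟨hg, hodd⟩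
      exact odd_mem_of_mem_sup K J hJK hJ2 g hg hodd
  intro q hq
  apply Helper49.mem_normalizer_of_conj_le
  intro x hx
  have hmap : K.map (MulAut.conj q).toMonoidHom ≤ K := by
    conv_lhs => rw [hKgen]
    rw [MonoidHom.map_closure, Subgroup.closure_le]
    rintro _ ⟨g, ⟨hg, hodd⟩, rfl⟩
    rw [hKgen]
    apply Subgroup.subset_closure
    refine ⟨?_, ?_⟩
    · exact (Subgroup.mem_normalizer_iff.mp (hQL hq) g).mp hg
    · have : orderOf ((MulAut.conj q).toMonoidHom g) = orderOf g :=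
        orderOf_injective (MulAut.conj q).toMonoidHom (MulAut.conj q).injective g
      rw [this]; exact hodd
  exact hmap ⟨x, hx, rfl⟩

end Cfsg.Agent.S2941
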