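import Cfsg.Statements.S2943
import Cfsg.Agent.Lib.Helper10.JCompTrU

set_option autoImplicit false
open Cfsg

namespace Cfsg.Agent.S2943

/-- Let G be a finite group of characteristic 2 type in which every 2-local subgroup is solvable and the centralizer of Ω₁(Z(S)) lies in N_G(S) for every Sylow 2-subgroup S, and let T be a nontrivial 2-subgroup (below, J is the Thompson subgroup generated by the elementary abelian 2-subgroups of largest order), L a subgroup in which T is a Sylow 2-subgroup with J(T) not contained in O₂(L) and C_G(O₂(L)) ≤ O₂(L), and K a J(T)-component contained in L. If Z(T) meets W_K = [Ω₁(Z(O₂(K))), K] nontrivially, then T normalizes K. -/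
theorem result {G : Type*} [Group G] [Finite G] (hL : Cfsg.IsCharacteristicTwoType G) (hN : ∀ N : Subgroup G, Cfsg.IsTwoLocal N → Group.IsSolvable ↥N)
    (hZ : ∀ S : Sylow 2 G, Subgroup.centralizer (Cfsg.omegaCenterOf (S : Subgroup G) : Set G) ≤ Subgroup.normalizer ((S : Subgroup G) : Set G)) (T : Subgroup G) (hT : IsPGroup 2 ↥T) (hT1 : T ≠ ⊥) (L : Subgroup G) (hLT : L ∈ Cfsg.jOvergroups T)
    (K : Subgroup G) (hK : Cfsg.IsJComponent T K) (hKL : K ≤ L)
    (hZW : T ⊓ Subgroup.centralizer (T : Set G) ⊓ Cfsg.wOf K ≠ ⊥) : T ≤ Subgroup.normalizer (K : Set G) := by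
  obtain ⟨TL, hTLeq, hS⟩ := Cfsg.Agent.Helper10.JCompTr.exists_setup hN hZ hT1 hLT
  obtain ⟨hJ1, hJ2, hJ3⟩ := Cfsg.Agent.Helper10.JCompTr.thompson_props hLT.1 TL hTLeq
  obtain ⟨Hh, N, F⟩ := hS.ffdata
  have hTLle : T ≤ L := hLT.1.1
  have hJL : Cfsg.thompsonSubgroupOf 2 T ≤ L := by
    unfold Cfsg.thompsonSubgroupOf
    exact (Subgroup.map_subtype_le _).trans hTLle
  have c := Cfsg.Agent.Helper10.JCompTr.comp_of_isJComponent hT hK hKL hJL
  have hWK : Cfsg.wOf K ≤ K :=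
    (Cfsg.Agent.Helper50.JComp.JD.of_isJComponent hK hT).WK
  obtain ⟨⟨z, hz⟩, hz1'⟩ := (Subgroup.ne_bot_iff_exists_ne_one).mp hZW
  have hz1 : z ≠ 1 := fun hh => hz1' (Subtype.ext hh)
  have hzW : z ∈ Cfsg.wOf K := (Subgroup.mem_inf.mp hz).2
  have hzc : z ∈ Subgroup.centralizer (T : Set G) := (Subgroup.mem_inf.mp (Subgroup.mem_inf.mp hz).1).2
  intro t ht
  have ht'T : (⟨t, hTLle ht⟩ : ↥L) ∈ (TL : Subgroup ↥L) := by
    rw [hTLeq, Subgroup.mem_subgroupOf]; exact ht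
  have ht'n := hJ2 ht'T
  have c' := c.conj ht'n
  have hzL : z ∈ L := hKL (hWK hzW)
  have hW : (Cfsg.wOf K).subgroupOf L ⊓
      ((Cfsg.wOf K).subgroupOf L).map (MulAut.conj (⟨t, hTLle ht⟩ : ↥L)).toMonoidHom ≠ ⊥ := by
    intro hbot
    have hmem : (⟨z, hzL⟩ : ↥L) ∈ (Cfsg.wOf K).subgroupOf L ⊓
        ((Cfsg.wOf K).subgroupOf L).map (MulAut.conj (⟨t, hTLle ht⟩ : ↥L)).toMonoidHom := by
      refine Subgroup.mem_inf.mpr ⟨Subgroup.mem_subgroupOf.mpr hzW, ⟨⟨z, hzL⟩,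
        Subgroup.mem_subgroupOf.mpr hzW, ?_⟩⟩
      apply Subtype.ext
      have := Subgroup.mem_centralizer_iff.mp hzc t ht
      simp only [MulEquiv.coe_toMonoidHom, MulAut.conj_apply, Subgroup.coe_mul, Subgroup.coe_inv]
      rw [this]; group
    rw [hbot, Subgroup.mem_bot] at hmem
    exact hz1 (congrArg Subtype.val hmem)
  have heq := Cfsg.Agent.Helper10.JCompUniq.eq_of_inf_ne_bot hS F hJ1 hJ2 hJ3 c c' hW
  apply Cfsg.Agent.Helper49.mem_normalizer_of_conj_le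
  intro k hk
  have hk' : (⟨k, hKL hk⟩ : ↥L) ∈ K.subgroupOf L := Subgroup.mem_subgroupOf.mpr hk
  have h1 : (MulAut.conj (⟨t, hTLle ht⟩ : ↥L)).toMonoidHom ⟨k, hKL hk⟩ ∈ K.subgroupOf L := by
    rw [heq]
    exact Subgroup.mem_map_of_mem _ hk'
  rw [Subgroup.mem_subgroupOf] at h1
  simpa using h1

end Cfsg.Agent.S2943
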