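import Cfsg.Statements.S5306

set_option autoImplicit false
open Cfsg

namespace Cfsg.Agent.S5306

variable {X : Type*} [Group X]

/-- unfolded elementary abelian predicate for subgroups of `X` -/
def EA (p : ℕ) (A : Subgroup X) : Prop :=
  (∀ a ∈ A, ∀ b ∈ A, a * b = b * a) ∧ ∀ a ∈ A, a ^ p = 1

theorem isElementaryAbelian_iff {Y : Type*} [Group Y] (p : ℕ) (A : Subgroup Y) :
    IsElementaryAbelian p A ↔ EA p A := by
  unfold IsElementaryAbelian EA
  rw [isMulCommutative_iff]
  constructor
  · rintro ⟨h1, h2⟩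
    refine ⟨fun a ha b hb => ?_, h2⟩
    have := h1 ⟨a, ha⟩ ⟨b, hb⟩
    exact congrArg Subtype.val this
  · rintro ⟨h1, h2⟩
    refine ⟨fun a b => ?_, h2⟩
    exact Subtype.ext (h1 a a.2 b b.2)

theorem EA_map {Y : Type*} [Group Y] (p : ℕ) (f : X →* Y) (hf : Function.Injective f) (A : Subgroup X) :
    EA p (A.map f) ↔ EA p A := by
  unfold EA
  constructor
  · rintro ⟨h1, h2⟩
    refine ⟨fun a ha b hb => ?_, fun a ha => ?_⟩
    · apply hf
      rw [map_mul, map_mul]
      exact h1 _ (Subgroup.mem_map_of_mem f ha) _ (Subgroup.mem_map_of_mem f hb)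
    · apply hf
      rw [map_pow, map_one]
      exact h2 _ (Subgroup.mem_map_of_mem f ha)
  · rintro ⟨h1, h2⟩
    refine ⟨?_, ?_⟩
    · rintro _ ⟨a, ha, rfl⟩ _ ⟨b, hb, rfl⟩
      rw [← map_mul, ← map_mul, h1 a ha b hb]
    · rintro _ ⟨a, ha, rfl⟩
      rw [← map_pow, h2 a ha, map_one]

/-- the elementary abelian subgroups of `P` of largest order, viewed in `X` -/
def maxEA (p : ℕ) (P : Subgroup X) : Set (Subgroup X) :=
  {A | A ≤ P ∧ EA p A ∧ ∀ B : Subgroup X, B ≤ P → EA p B → Nat.card B ≤ Nat.card A}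

theorem card_map_subtype (P : Subgroup X) (A : Subgroup P) :
    Nat.card (A.map P.subtype) = Nat.card A :=
  (Nat.card_congr (A.equivMapOfInjective P.subtype P.subtype_injective).toEquiv).symm

theorem map_subtype_mem_maxEA (p : ℕ) (P : Subgroup X) (A : Subgroup P) :
    A.map P.subtype ∈ maxEA p P ↔ A ∈ maxElementaryAbelianSubgroups p P := by
  unfold maxEA maxElementaryAbelianSubgroups
  simp only [Set.mem_ofPred_eq]
  constructor
  · rintro ⟨-, h2, h3⟩
    refine ⟨(isElementaryAbelian_iff p A).2 ((EA_map p P.subtype P.subtype_injective A).1 h2), ?_⟩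
    intro B hB
    have := h3 (B.map P.subtype) (Subgroup.map_subtype_le B)
      ((EA_map p P.subtype P.subtype_injective B).2 ((isElementaryAbelian_iff p B).1 hB))
    rwa [card_map_subtype, card_map_subtype] at this
  · rintro ⟨h2, h3⟩
    refine ⟨Subgroup.map_subtype_le A,
      (EA_map p P.subtype P.subtype_injective A).2 ((isElementaryAbelian_iff p A).1 h2), ?_⟩
    intro B hBP hB
    have hB' : (B.subgroupOf P).map P.subtype = B := by
      rw [Subgroup.subgroupOf_map_subtype]; exact inf_eq_left.2 hBP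
    have := h3 (B.subgroupOf P) ((isElementaryAbelian_iff p _).2
      ((EA_map p P.subtype P.subtype_injective _).1 (by rw [hB']; exact hB)))
    rw [card_map_subtype]
    rw [← hB', card_map_subtype]
    exact this

theorem thompsonSubgroupOf_eq (p : ℕ) (P : Subgroup X) :
    thompsonSubgroupOf p P = sSup (maxEA p P) := by
  unfold thompsonSubgroupOf thompsonSubgroup
  apply le_antisymm
  · rw [Subgroup.map_le_iff_le_comap]
    apply sSup_le
    intro A hA
    rw [← Subgroup.map_le_iff_le_comap]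
    exact le_sSup ((map_subtype_mem_maxEA p P A).2 hA)
  · apply sSup_le
    intro B hB
    have hB' : (B.subgroupOf P).map P.subtype = B := by
      rw [Subgroup.subgroupOf_map_subtype]; exact inf_eq_left.2 hB.1
    rw [← hB']
    apply Subgroup.map_mono
    apply le_sSup
    rw [← map_subtype_mem_maxEA, hB']
    exact hB

theorem card_map_equiv (e : X ≃* X) (A : Subgroup X) :
    Nat.card (A.map e.toMonoidHom) = Nat.card A :=
  (Nat.card_congr (A.equivMapOfInjective e.toMonoidHom e.injective).toEquiv).symm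

theorem map_symm_map (e : X ≃* X) (A : Subgroup X) :
    (A.map e.toMonoidHom).map e.symm.toMonoidHom = A := by
  ext x
  constructor
  · rintro ⟨_, ⟨a, ha, rfl⟩, rfl⟩
    simpa using ha
  · intro hx
    exact ⟨e x, ⟨x, hx, rfl⟩, by simp⟩

theorem map_map_symm (e : X ≃* X) (A : Subgroup X) :
    (A.map e.symm.toMonoidHom).map e.toMonoidHom = A := by
  have := map_symm_map e.symm A
  simpa using this

theorem maxEA_map (p : ℕ) (e : X ≃* X) (P A : Subgroup X) (hA : A ∈ maxEA p P) :
    A.map e.toMonoidHom ∈ maxEA p (P.map e.toMonoidHom) := by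
  obtain ⟨h1, h2, h3⟩ := hA
  refine ⟨Subgroup.map_mono h1, (EA_map p e.toMonoidHom e.injective A).2 h2, ?_⟩
  intro B hB hBE
  have hB' : B.map e.symm.toMonoidHom ≤ P := by
    have := Subgroup.map_mono (f := e.symm.toMonoidHom) hB
    rwa [map_symm_map] at this
  have := h3 _ hB' ((EA_map p e.symm.toMonoidHom e.symm.injective B).2 hBE)
  rwa [card_map_equiv, ← card_map_equiv e A] at this

theorem thompson_map (p : ℕ) (e : X ≃* X) (P : Subgroup X) :
    thompsonSubgroupOf p (P.map e.toMonoidHom) = (thompsonSubgroupOf p P).map e.toMonoidHom := by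
  rw [thompsonSubgroupOf_eq, thompsonSubgroupOf_eq]
  apply le_antisymm
  · apply sSup_le
    intro B hB
    have h := maxEA_map p e.symm _ B hB
    rw [map_symm_map] at h
    have h2 : B.map e.symm.toMonoidHom ≤ sSup (maxEA p P) := le_sSup h
    have h3 := Subgroup.map_mono (f := e.toMonoidHom) h2
    rwa [map_map_symm] at h3
  · rw [Subgroup.map_le_iff_le_comap]
    apply sSup_le
    intro A hA
    rw [← Subgroup.map_le_iff_le_comap]
    exact le_sSup (maxEA_map p e P A hA)

theorem thompson_eq_of_le (p : ℕ) (e : X ≃* X) (P : Subgroup X) [Finite X]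
    (h : thompsonSubgroupOf p P ≤ P.map e.toMonoidHom) :
    thompsonSubgroupOf p (P.map e.toMonoidHom) = thompsonSubgroupOf p P := by
  symm
  apply Subgroup.eq_of_le_of_card_ge
  · rw [thompsonSubgroupOf_eq p P] at h ⊢
    rw [thompsonSubgroupOf_eq]
    apply sSup_le
    intro A hA
    apply le_sSup
    refine ⟨(le_sSup hA).trans h, hA.2.1, ?_⟩
    intro B hB hBE
    have hB' : B.map e.symm.toMonoidHom ≤ P := by
      have := Subgroup.map_mono (f := e.symm.toMonoidHom) hB
      rwa [map_symm_map] at this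
    have := hA.2.2 _ hB' ((EA_map p e.symm.toMonoidHom e.symm.injective B).2 hBE)
    rwa [card_map_equiv] at this
  · rw [thompson_map, card_map_equiv]

/-- Let P be a Sylow p-subgroup of the finite group X and J = J(P) its Thompson subgroup (generated by the elementary abelian subgroups of P of largest order). If x and y lie in the centre of J and y = g x g⁻¹ for some g in X, then y = n x n⁻¹ for some n in the normalizer N_X(J). -/
theorem result {X : Type*} [Group X] [Finite X] (p : ℕ) [Fact p.Prime] (P : Sylow p X) (J : Subgroup X) (hJ : J = Cfsg.thompsonSubgroupOf p (P : Subgroup X))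
    (x y : X) (hx : x ∈ J ∧ ∀ j ∈ J, Commute j x) (hy : y ∈ J ∧ ∀ j ∈ J, Commute j y) (g : X) (hg : g * x * g⁻¹ = y) :
    ∃ n ∈ Subgroup.normalizer (J : Set X), n * x * n⁻¹ = y := by
  -- key facts on Thompson subgroups of Sylow subgroups
  have hJP : J ≤ (P : Subgroup X) := by
    rw [hJ]; unfold thompsonSubgroupOf; exact Subgroup.map_subtype_le _
  have key : ∀ (k : X) (P' : Sylow p X), J.map (MulAut.conj k).toMonoidHom ≤ P' →
      thompsonSubgroupOf p (P' : Subgroup X) = J.map (MulAut.conj k).toMonoidHom := by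
    intro k P' hk
    obtain ⟨h, hh⟩ := MulAction.exists_smul_eq X (k • P) P'
    have hP' : (P' : Subgroup X) = ((k • P : Sylow p X) : Subgroup X).map (MulAut.conj h).toMonoidHom := by
      rw [← hh]; rfl
    have hkP : ((k • P : Sylow p X) : Subgroup X) = (P : Subgroup X).map (MulAut.conj k).toMonoidHom := rfl
    have hJk : thompsonSubgroupOf p ((k • P : Sylow p X) : Subgroup X) = J.map (MulAut.conj k).toMonoidHom := by
      rw [hkP, thompson_map, ← hJ]
    rw [hP', thompson_eq_of_le, hJk]
    rw [hJk, ← hP']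
    exact hk
  -- the centralizer of y
  set C : Subgroup X := Subgroup.centralizer {y} with hC
  have hJC : J ≤ C := by
    intro j hj
    rw [hC, Subgroup.mem_centralizer_singleton_iff]
    exact (hy.2 j hj).eq
  have hJ2C : J.map (MulAut.conj g).toMonoidHom ≤ C := by
    rintro _ ⟨j, hj, rfl⟩
    rw [hC, Subgroup.mem_centralizer_singleton_iff]
    have := (hx.2 j hj).eq
    show (g * j * g⁻¹) * y = y * (g * j * g⁻¹)
    rw [← hg]
    calc g * j * g⁻¹ * (g * x * g⁻¹) = g * (j * x) * g⁻¹ := by group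
      _ = g * (x * j) * g⁻¹ := by rw [this]
      _ = g * x * g⁻¹ * (g * j * g⁻¹) := by group
  have hJp : IsPGroup p J := P.isPGroup'.to_le hJP
  have hJ2p : IsPGroup p (J.map (MulAut.conj g).toMonoidHom) := hJp.map _
  obtain ⟨R, hR⟩ := (hJp.comap_subtype (K := C)).exists_le_sylow
  obtain ⟨R2, hR2⟩ := (hJ2p.comap_subtype (K := C)).exists_le_sylow
  obtain ⟨c, hc⟩ := MulAction.exists_smul_eq C R2 R
  have hRp : IsPGroup p ((R : Subgroup C).map C.subtype) := R.isPGroup'.map _
  obtain ⟨P', hP'⟩ := hRp.exists_le_sylow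
  have h1 : J ≤ P' := by
    intro j hj
    apply hP'
    exact ⟨⟨j, hJC hj⟩, hR (by simpa [Subgroup.mem_subgroupOf] using hj), rfl⟩
  have h2 : J.map (MulAut.conj ((c : X) * g)).toMonoidHom ≤ P' := by
    rintro _ ⟨j, hj, rfl⟩
    apply hP'
    have hj2 : (⟨g * j * g⁻¹, hJ2C ⟨j, hj, rfl⟩⟩ : C) ∈ (R2 : Subgroup C) := by
      apply hR2
      show g * j * g⁻¹ ∈ J.map (MulAut.conj g).toMonoidHom
      exact ⟨j, hj, rfl⟩
    have hj3 : c * (⟨g * j * g⁻¹, hJ2C ⟨j, hj, rfl⟩⟩ : C) * c⁻¹ ∈ (R : Subgroup C) := by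
      rw [← hc]
      exact ⟨_, hj2, rfl⟩
    refine ⟨_, hj3, ?_⟩
    simp [mul_assoc]
  have h1' : J.map (MulAut.conj (1 : X)).toMonoidHom = J := by
    ext z; simp
  have e1 := key 1 P' (by rw [h1']; exact h1)
  have e2 := key ((c : X) * g) P' h2
  have e3 : J.map (MulAut.conj ((c : X) * g)).toMonoidHom = J := by
    rw [← e2, e1, h1']
  refine ⟨(c : X) * g, ?_, ?_⟩
  · rw [Subgroup.mem_normalizer_iff_map_conj_eq]
    exact e3
  · have hcy : (c : X) * y = y * c := by
      have h := c.2
      simp only [hC] at h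
      exact Subgroup.mem_centralizer_singleton_iff.1 h
    calc (c : X) * g * x * ((c : X) * g)⁻¹ = c * (g * x * g⁻¹) * (c : X)⁻¹ := by group
      _ = c * y * (c : X)⁻¹ := by rw [hg]
      _ = y := by rw [hcy]; group

end Cfsg.Agent.S5306
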