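import Cfsg.Statements.S2947
import Cfsg.Agent.Lib.Helper33.Syl
import Cfsg.Agent.Lib.Helper49.PPrimeCore
import Cfsg.Agent.S5306

set_option autoImplicit false
open Cfsg
open Pointwise

namespace Cfsg.Agent.S2947

open Cfsg.Agent.Helper33

variable {G : Type*} [Group G]

/-- A nontrivial `2`-group has even order. -/
theorem even_card_of_two_group [Finite G] (T : Subgroup G) (hT : IsPGroup 2 T) (hne : T ≠ ⊥) :
    Even (Nat.card T) := by
  obtain ⟨k, hk⟩ := IsPGroup.iff_card.mp hT
  rw [hk]
  have hk0 : k ≠ 0 := by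
    rintro rfl
    rw [pow_zero] at hk
    exact hne (Subgroup.card_eq_one.mp hk)
  exact (Nat.even_pow.mpr ⟨even_two, hk0⟩)

/-- In a strongly embedded subgroup, normalizers of nontrivial 2-subgroups are contained. -/
theorem normalizer_le_of_stronglyEmbedded [Finite G] (M : Subgroup G)
    (hSE : Cfsg.IsStronglyEmbedded M) (R : Subgroup G) (hR : IsPGroup 2 R) (hne : R ≠ ⊥)
    (hRM : R ≤ M) : Subgroup.normalizer (R : Set G) ≤ M := by
  intro g hg
  by_contra hgM
  have hodd := hSE.2.2 g hgM
  have hle : R ≤ M ⊓ M.map (MulAut.conj g).toMonoidHom := by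
    intro r hr
    refine ⟨hRM hr, ?_⟩
    have h1 : g⁻¹ * r * g⁻¹⁻¹ ∈ R :=
      (Subgroup.mem_normalizer_iff.mp (Subgroup.inv_mem _ hg) r).mp hr
    refine ⟨g⁻¹ * r * g⁻¹⁻¹, hRM h1, ?_⟩
    simp [MulAut.conj_apply, mul_assoc]
  have hdvd : Nat.card R ∣ Nat.card ↥(M ⊓ M.map (MulAut.conj g).toMonoidHom) :=
    Subgroup.card_dvd_of_le hle
  have heven := even_card_of_two_group R hR hne
  have : Even (Nat.card ↥(M ⊓ M.map (MulAut.conj g).toMonoidHom)) :=
    heven.trans_dvd hdvd
  exact (Nat.not_even_iff_odd.mpr hodd) this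

/-- In a strongly embedded subgroup `M`, every 2-group containing a nontrivial 2-subgroup of `M`
lies in `M`. -/
theorem two_group_le_of_stronglyEmbedded [Finite G] (M : Subgroup G)
    (hSE : Cfsg.IsStronglyEmbedded M) (T T₁ : Subgroup G) (hT₁ : IsPGroup 2 T₁) (hne : T ≠ ⊥)
    (hTM : T ≤ M) (hTT₁ : T ≤ T₁) : T₁ ≤ M := by
  have : Fact (Nat.Prime 2) := ⟨Nat.prime_two⟩
  by_contra hcon
  set T' : Subgroup G := T₁ ⊓ M with hT'
  have hT'ne : T' ≠ T₁ := by
    intro h
    apply hcon
    rw [← h]; exact inf_le_right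
  have hT'p : IsPGroup 2 T' := hT₁.to_le inf_le_left
  have hT'bot : T' ≠ ⊥ := by
    intro h
    apply hne
    have : T ≤ T' := le_inf hTT₁ hTM
    rw [h] at this
    exact le_bot_iff.mp this
  have hgrow := IsSylIn.normalizer_growth (p := 2) hT₁ (inf_le_left : T' ≤ T₁) hT'ne
  have hN := normalizer_le_of_stronglyEmbedded M hSE T' hT'p hT'bot inf_le_right
  have : T₁ ⊓ Subgroup.normalizer (T' : Set G) ≤ T' :=
    le_inf inf_le_left (inf_le_right.trans hN)
  exact absurd hgrow (not_lt_of_ge this)

/-- The normalizer of a Sylow subgroup normalizes its Thompson subgroup. -/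
theorem normalizer_le_normalizer_thompson (p : ℕ) (S : Subgroup G) :
    Subgroup.normalizer (S : Set G) ≤
      Subgroup.normalizer ((Cfsg.thompsonSubgroupOf p S : Subgroup G) : Set G) := by
  intro g hg
  rw [Subgroup.mem_normalizer_iff_map_conj_eq] at hg ⊢
  have h := Cfsg.Agent.S5306.thompson_map p (MulAut.conj g) S
  have hg' : Subgroup.map (MulEquiv.toMonoidHom (MulAut.conj g)) S = S := hg
  rw [hg'] at h
  exact h.symm

/-- Let G be a finite group of characteristic 2 type in which every 2-local subgroup is solvable and the centralizer of Ω₁(Z(S)) lies in N_G(S) for every Sylow 2-subgroup S; suppose O₂(G) = 1, fix a Sylow 2-subgroup S and a 2-local subgroup M containing N_G(J(S)) (J the Thompson subgroup generated by the elementary abelian 2-subgroups of largest order). Then M is strongly embedded in G (a proper subgroup of even order whose intersection with each conjugate by an element outside M has odd order) if and only if no nontrivial 2-subgroup of M lies in a 2-local subgroup of G not contained in M. -/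
theorem result {G : Type*} [Group G] [Finite G] (hL : Cfsg.IsCharacteristicTwoType G) (hN : ∀ N : Subgroup G, Cfsg.IsTwoLocal N → Group.IsSolvable ↥N)
    (hZ : ∀ S : Sylow 2 G, Subgroup.centralizer (Cfsg.omegaCenterOf (S : Subgroup G) : Set G) ≤ Subgroup.normalizer ((S : Subgroup G) : Set G)) (hO : Cfsg.pCore 2 G = ⊥) (S : Sylow 2 G) (M : Subgroup G) (hM : Cfsg.IsTwoLocal M)
    (hMJ : Subgroup.normalizer (Cfsg.thompsonSubgroupOf 2 (S : Subgroup G) : Set G) ≤ M) :
    Cfsg.IsStronglyEmbedded M ↔ Cfsg.straddlingTwoSubgroups M = ∅ := by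
  have : Fact (Nat.Prime 2) := ⟨Nat.prime_two⟩
  constructor
  · intro hSE
    rw [Set.eq_empty_iff_forall_notMem]
    rintro T ⟨hTp, hTne, hTM, L, ⟨R, hRp, hRne, rfl⟩, hTL, hLM⟩
    apply hLM
    have hTR : IsPGroup 2 (T ⊔ R : Subgroup G) := IsPGroup.to_sup_of_normal_right' hTp hRp hTL
    have h1 : T ⊔ R ≤ M :=
      two_group_le_of_stronglyEmbedded M hSE T (T ⊔ R) hTR hTne hTM le_sup_left
    exact normalizer_le_of_stronglyEmbedded M hSE R hRp hRne (le_sup_right.trans h1)
  · intro hemp
    obtain ⟨T₀, hT₀p, hT₀ne, hMeq⟩ := hM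
    have hT₀M : T₀ ≤ M := by rw [hMeq]; exact Subgroup.le_normalizer
    have hSM : (S : Subgroup G) ≤ M :=
      (Subgroup.le_normalizer.trans (normalizer_le_normalizer_thompson 2 (S : Subgroup G))).trans hMJ
    have hNSM : Subgroup.normalizer ((S : Subgroup G) : Set G) ≤ M :=
      (normalizer_le_normalizer_thompson 2 (S : Subgroup G)).trans hMJ
    refine ⟨?_, ?_, ?_⟩
    · intro htop
      apply hT₀ne
      have hn : T₀.Normal := by
        rw [← Subgroup.normalizer_eq_top_iff, ← hMeq, htop]
      have := Helper49.le_pCore 2 T₀ hn hT₀p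
      rw [hO] at this
      exact le_bot_iff.mp this
    · exact (even_card_of_two_group T₀ hT₀p hT₀ne).trans_dvd (Subgroup.card_dvd_of_le hT₀M)
    · intro g hgM
      by_contra hodd
      have heven : Even (Nat.card ↥(M ⊓ M.map (MulAut.conj g).toMonoidHom)) :=
        Nat.not_odd_iff_even.mp hodd
      have h2 : 2 ∣ Nat.card ↥(M ⊓ M.map (MulAut.conj g).toMonoidHom) := heven.two_dvd
      obtain ⟨t, ht⟩ := exists_prime_orderOf_dvd_card' 2 h2
      -- the subgroup generated by t
      set T : Subgroup G := Subgroup.zpowers (t : G) with hT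
      have hto : orderOf (t : G) = 2 := by rw [Subgroup.orderOf_coe]; exact ht
      have hTp : IsPGroup 2 T := by
        rw [IsPGroup.iff_card]
        exact ⟨1, by rw [hT, Nat.card_zpowers, hto, pow_one]⟩
      have hTne : T ≠ ⊥ := by
        intro h
        rw [hT, Subgroup.zpowers_eq_bot] at h
        rw [h, orderOf_one] at hto
        exact absurd hto (by norm_num)
      have hTle : T ≤ M ⊓ M.map (MulAut.conj g).toMonoidHom := by
        rw [hT, Subgroup.zpowers_le]; exact t.2
      -- M^g is 2-local
      have hMg : Cfsg.IsTwoLocal (M.map (MulAut.conj g).toMonoidHom) := by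
        refine ⟨T₀.map (MulAut.conj g).toMonoidHom, hT₀p.map _, ?_, ?_⟩
        · intro h
          exact hT₀ne ((Subgroup.map_eq_bot_iff_of_injective _ (MulAut.conj g).injective).mp h)
        · rw [hMeq]
          exact Subgroup.map_equiv_normalizer_eq T₀ (MulAut.conj g)
      have hle : M.map (MulAut.conj g).toMonoidHom ≤ M := by
        by_contra hnle
        have : T ∈ Cfsg.straddlingTwoSubgroups M :=
          ⟨hTp, hTne, hTle.trans inf_le_left, _, hMg, hTle.trans inf_le_right, hnle⟩
        rw [hemp] at this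
        exact this
      have heq : MulAut.conj g • M = M := by
        apply Subgroup.eq_of_le_of_card_ge hle
        have := card_conj_smul g M
        exact this.symm.le
      -- Frattini
      have hS1 : IsSylIn 2 (S : Subgroup G) M := (isSylIn_top S).of_le hSM le_top
      have hS2 : IsSylIn 2 (MulAut.conj g • (S : Subgroup G)) M := by
        have := hS1.conj g
        rwa [heq] at this
      obtain ⟨x, hxM, hx⟩ := hS1.exists_conj_eq hS2
      rw [← conj_mul_smul] at hx
      have hxg : x * g ∈ Subgroup.normalizer ((S : Subgroup G) : Set G) :=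
        mem_normalizer_iff_smul_eq.mpr hx
      have hxgM : x * g ∈ M := hNSM hxg
      apply hgM
      have : g = x⁻¹ * (x * g) := by group
      rw [this]
      exact M.mul_mem (M.inv_mem hxM) hxgM

end Cfsg.Agent.S2947
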