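import Cfsg.Statements.S2949
import Cfsg.Agent.Lib.Helper49.JStraddle
import Cfsg.Agent.Lib.Helper50.JCompB10

set_option autoImplicit false
open Cfsg

namespace Cfsg.Agent.S2949

/-- Let G be a finite group of characteristic 2 type in which every 2-local subgroup is solvable and the centralizer of Ω₁(Z(S)) lies in N_G(S) for every Sylow 2-subgroup S; suppose O₂(G) = 1, fix a Sylow 2-subgroup S and a 2-local subgroup M containing N_G(J(S)) (J the Thompson subgroup generated by the elementary abelian 2-subgroups of largest order). For every T maximal (for the order of a largest elementary abelian subgroup, then the order of J(T), then the order of T) among the nontrivial 2-subgroups of M lying in a 2-local subgroup not inside M, there is a J(T)-component K not contained in M with J(T) the Thompson subgroup of every Sylow 2-subgroup of N_G(W_K) containing J(T), and O₂(⟨K, T⟩) ≠ 1. -/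
theorem result {G : Type*} [Group G] [Finite G] (hL : Cfsg.IsCharacteristicTwoType G) (hN : ∀ N : Subgroup G, Cfsg.IsTwoLocal N → Group.IsSolvable ↥N)
    (hZ : ∀ S : Sylow 2 G, Subgroup.centralizer (Cfsg.omegaCenterOf (S : Subgroup G) : Set G) ≤ Subgroup.normalizer ((S : Subgroup G) : Set G)) (hO : Cfsg.pCore 2 G = ⊥) (S : Sylow 2 G) (M : Subgroup G) (hM : Cfsg.IsTwoLocal M)
    (hMJ : Subgroup.normalizer (Cfsg.thompsonSubgroupOf 2 (S : Subgroup G) : Set G) ≤ M) (T : Subgroup G) (hT : T ∈ Cfsg.maxStraddlingTwoSubgroups M) :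
    (Cfsg.jComponentsOutside M T).Nonempty := by
  have : Fact (Nat.Prime 2) := ⟨Nat.prime_two⟩
  obtain ⟨hT2, hT1, hTM, L, hL2, hTL, hLM⟩ := hT.1
  obtain ⟨T₀, hT₀, hTT₀⟩ := Cfsg.Agent.Helper49.JStraddle.exists_sylowTwoIn_ge hTL hT2
  have hJT : Cfsg.thompsonSubgroupOf 2 T ≤ T := by
    unfold Cfsg.thompsonSubgroupOf; exact Subgroup.map_subtype_le _
  obtain ⟨-, -, -, h4⟩ := Cfsg.Agent.Helper49.JStraddle.straddle_parts hL hN hZ hO S M hM hMJ T hT L
    hL2 hLM T₀ hT₀ (hJT.trans hTT₀)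
  have hLT : L ∈ Cfsg.jOvergroups T := h4 hTL
  have hNJ := Cfsg.Agent.Helper49.JStraddle.normalizer_thompson_le S hMJ hT
  obtain ⟨K, hK, hKL, hKM⟩ := Cfsg.Agent.Helper50.JComp.exists_jcomponent_not_le hN hZ hLT hNJ hLM
  have hD := Cfsg.Agent.Helper50.JComp.JD.of_isJComponent hK hT2
  refine ⟨K, ⟨hK, ?_⟩, hKM, ?_⟩
  · intro S' hJS hSyl
    have hW2 : Cfsg.IsTwoLocal (Subgroup.normalizer (Cfsg.wOf K : Set G)) := by
      refine ⟨Cfsg.wOf K, Cfsg.Agent.Helper50.JComp.isPGroup_two_of_sq hK.2.2.2.2.2, ?_, rfl⟩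
      intro h0
      have h1 := hK.2.2.2.2.1
      rw [h0, Subgroup.card_bot] at h1
      omega
    have hKW : K ≤ Subgroup.normalizer (Cfsg.wOf K : Set G) := le_sup_left.trans hD.XnW
    have hWM : ¬ Subgroup.normalizer (Cfsg.wOf K : Set G) ≤ M := fun h => hKM (hKW.trans h)
    exact (Cfsg.Agent.Helper49.JStraddle.straddle_parts hL hN hZ hO S M hM hMJ T hT _ hW2 hWM S' hSyl
      hJS).1.symm
  · intro h0
    have hR1 : Cfsg.pCoreOf 2 L ≠ ⊥ := by
      intro hR
      apply hT1
      rw [eq_bot_iff]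
      intro t _
      have h1 : t ∈ Subgroup.centralizer ((Cfsg.pCoreOf 2 L : Subgroup G) : Set G) := by
        rw [hR, Subgroup.mem_centralizer_iff]
        intro y hy
        have hy1 : y = 1 := hy
        rw [hy1]; simp
      have := hLT.2.2 h1
      rwa [hR] at this
    apply hR1
    rw [eq_bot_iff, ← h0]
    have hRT : Cfsg.pCoreOf 2 L ≤ T := by
      obtain ⟨TL, hTLeq, hS⟩ := Cfsg.Agent.Helper10.JCompTr.exists_setup hN hZ hT1 hLT
      unfold Cfsg.pCoreOf
      rintro _ ⟨r, hr, rfl⟩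
      have h2 := hS.Q_le_T hr
      rw [hTLeq, Subgroup.mem_subgroupOf] at h2
      exact h2
    apply Cfsg.Agent.Helper23.le_pCoreOf_of_normal_pgroup (hRT.trans le_sup_right)
      (Cfsg.Agent.Helper23.pCoreOf_isPGroup L)
    exact (sup_le hKL hTL).trans (Cfsg.Agent.Helper23.le_normalizer_pCoreOf L)

end Cfsg.Agent.S2949
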