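import Cfsg.Statements.S2955
import Cfsg.Agent.Lib.Helper49.SylCtl

set_option autoImplicit false
open Cfsg
open Pointwise

namespace Cfsg.Agent.S2955

open Cfsg.Agent.Helper33 Cfsg.Agent.Helper49

/-- Let p be a prime dividing the order of the finite group G and 𝓕 a conjugation-closed family of subgroups that controls Sylow p-intersections in G. Suppose the Sylow p-subgroups of G are chain-connected: any two of them are joined by a chain of Sylow p-subgroups, consecutive ones distinct with nontrivial intersection, all containing the intersection of the two ends (equivalently, the graph on the Sylow p-subgroups whose edges are the distinct pairs meeting nontrivially is connected). Then for every Sylow p-subgroup S, G is generated by N_G(S) together with the members of 𝓕 that meet S in a Sylow p-subgroup of themselves. -/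
theorem result {G : Type*} [Group G] [Finite G] (p : ℕ) [Fact p.Prime] (hdiv : p ∣ Nat.card G)
    (𝓕 : Set (Subgroup G)) (h𝓕 : Cfsg.IsNormalSet 𝓕) (hc : Cfsg.ControlsSylowIntersections p 𝓕)
    (hconn : Cfsg.IsSylowChainConnected p G) (S : Sylow p G) :
    (⨆ X ∈ Cfsg.sylowMembers p 𝓕 (S : Subgroup G), X) ⊔ Subgroup.normalizer ((S : Subgroup G) : Set G) = ⊤ := by
  set K : Subgroup G :=
    (⨆ X ∈ Cfsg.sylowMembers p 𝓕 (S : Subgroup G), X) ⊔
      Subgroup.normalizer ((S : Subgroup G) : Set G) with hK
  have hmemK : ∀ X ∈ Cfsg.sylowMembers p 𝓕 (S : Subgroup G), X ≤ K := by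
    intro X hX
    exact (le_iSup₂ (f := fun (X : Subgroup G) (_ : X ∈ Cfsg.sylowMembers p 𝓕 (S : Subgroup G)) => X)
      X hX).trans le_sup_left
  have hNK : Subgroup.normalizer ((S : Subgroup G) : Set G) ≤ K := le_sup_right
  -- the relation
  let R : Sylow p G → Prop := fun T => ∃ k ∈ K, MulAut.conj k • (S : Subgroup G) = (T : Subgroup G)
  have hR0 : R S := ⟨1, K.one_mem, by simp⟩
  -- link step
  have hlink : ∀ (d d' : Sylow p G) (X : Subgroup G) (x : G), R d →
      X ∈ Cfsg.sylowMembers p 𝓕 (d : Subgroup G) → x ∈ X →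
      Cfsg.subgroupConjRight x (d' : Subgroup G) = (d : Subgroup G) → R d' := by
    rintro d d' X x ⟨k, hk, hkd⟩ hX hx hconj
    have h1 := sylowMembers_conj 𝓕 h𝓕 _ X k⁻¹ hX
    rw [← hkd, conj_inv_smul_smul] at h1
    have h2 : MulAut.conj k⁻¹ • X ≤ K := hmemK _ h1
    have h3 : k⁻¹ * x * k⁻¹⁻¹ ∈ K := h2 (conj_mem_conj_smul hx)
    have hxK : x ∈ K := by
      have := K.mul_mem (K.mul_mem hk h3) (K.inv_mem hk)
      have e : k * (k⁻¹ * x * k⁻¹⁻¹) * k⁻¹ = x := by group
      rwa [e] at this
    refine ⟨x * k, K.mul_mem hxK hk, ?_⟩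
    rw [conj_mul_smul, hkd, ← hconj, subgroupConjRight_eq, conj_smul_inv_smul]
  -- a control chain preserves R
  have hchain : ∀ (T T' : Sylow p G), R T → T ≠ T' → (T : Subgroup G) ⊓ (T' : Subgroup G) ≠ ⊥ →
      R T' := by
    intro T T' hT hne hint
    obtain ⟨n, c, X, x, hc0, hcn, hstep⟩ := hc T T' hne hint
    have hall : ∀ i : Fin (n + 1), R (c i) := by
      intro i
      induction i using Fin.induction with
      | zero => rw [hc0]; exact hT
      | succ i ih =>
        obtain ⟨hX1, -, hx, hconj, -⟩ := hstep i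
        exact hlink (c i.castSucc) (c i.succ) (X i) (x i) ih hX1 hx hconj
    rw [← hcn]
    exact hall (Fin.last n)
  -- all Sylow subgroups are in R
  have hRall : ∀ T : Sylow p G, R T := by
    intro T
    obtain ⟨n, c, hc0, hcn, -, hstep⟩ := hconn S T
    have hall : ∀ i : Fin (n + 1), R (c i) := by
      intro i
      induction i using Fin.induction with
      | zero => rw [hc0]; exact hR0
      | succ i ih =>
        exact hchain _ _ ih (hstep i).1 (hstep i).2
    rw [← hcn]
    exact hall (Fin.last n)
  rw [eq_top_iff]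
  intro g _
  obtain ⟨k, hk, hkS⟩ := hRall (g • S)
  have hcoe : ((g • S : Sylow p G) : Subgroup G) = MulAut.conj g • (S : Subgroup G) := rfl
  rw [hcoe] at hkS
  have h1 : MulAut.conj (k⁻¹ * g) • (S : Subgroup G) = (S : Subgroup G) := by
    rw [conj_mul_smul, ← hkS, conj_inv_smul_smul]
  have h2 : k⁻¹ * g ∈ K := hNK (mem_normalizer_iff_smul_eq.mpr h1)
  have := K.mul_mem hk h2
  have e : k * (k⁻¹ * g) = g := by group
  rwa [e] at this

end Cfsg.Agent.S2955
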