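import Cfsg.Statements.S2956
import Cfsg.Agent.Lib.Helper49.SylChain

set_option autoImplicit false
open Cfsg
open Pointwise

namespace Cfsg.Agent.S2956

open Cfsg.Agent.Helper33 Cfsg.Agent.Helper49

variable {G : Type*} [Group G] [Finite G] {p : ℕ} [Fact p.Prime]

theorem card_lt_of_lt {M N : Subgroup G} (h : M < N) : Nat.card M < Nat.card N := by
  have hle := Subgroup.card_le_of_le h.le
  rcases hle.lt_or_eq with h1 | h1
  · exact h1
  · exact absurd (Subgroup.eq_of_le_of_card_ge h.le h1.ge) h.ne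

/-- Every `p`-local subgroup lies in a maximal `p`-local subgroup. -/
theorem exists_maxPLocal_ge (N : Subgroup G) (hN : Cfsg.IsPLocal p N) :
    ∃ M, Cfsg.IsMaximalPLocal p M ∧ N ≤ M := by
  obtain ⟨M, ⟨hM1, hM2⟩, hM⟩ := Set.exists_max_image {M : Subgroup G | Cfsg.IsPLocal p M ∧ N ≤ M}
    (fun A : Subgroup G => Nat.card A) (Set.toFinite _) ⟨N, hN, le_rfl⟩
  refine ⟨M, ⟨hM1, ?_⟩, hM2⟩
  intro N' hN' hMN'
  have := hM N' ⟨hN', hM2.trans hMN'⟩
  exact (Subgroup.eq_of_le_of_card_ge hMN' this).symm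

/-- A `p`-subgroup of `M` lies in a Sylow subgroup of `M`, which is the intersection with `M`
of a Sylow subgroup of `G`. -/
theorem exists_sylow_pair (Q M : Subgroup G) (hQ : IsPGroup p Q) (hQM : Q ≤ M) :
    ∃ M₁ R : Subgroup G, IsSylIn p M₁ M ∧ Q ≤ M₁ ∧ IsSylIn p R ⊤ ∧ M₁ ≤ R ∧ R ⊓ M = M₁ := by
  obtain ⟨M₁, hM₁, hQM₁⟩ := exists_isSylIn_ge hQ hQM
  obtain ⟨R, hR, hM₁R⟩ := exists_isSylIn_ge (p := p) hM₁.2.1 (le_top : M₁ ≤ ⊤)
  refine ⟨M₁, R, hM₁, hQM₁, hR, hM₁R, ?_⟩
  exact hM₁.eq_of_le (hR.2.1.to_le inf_le_left) inf_le_right (le_inf hM₁R hM₁.1)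

/-- The family of the statement. -/
def fam (p : ℕ) (f : Subgroup G → Set (Subgroup G)) : Set (Subgroup G) :=
  Cfsg.functorFamily p f ⊤ ∪ {M | Cfsg.IsMaximalPLocal p M ∧ ¬ Cfsg.IsFunctorRegular p f M}

theorem link_of_fstep_top {f : Subgroup G → Set (Subgroup G)} (hf : Cfsg.IsNormalizerFunctor p f)
    {D c c' : Subgroup G} (h : FStep p f ⊤ D c c') : Link p (fam p f) D c c' := by
  have hc' := h.isSylIn_right
  obtain ⟨hc, F, hF, x, hx, hconj, hD⟩ := h
  obtain ⟨hfc1, -⟩ := hf c hc.2.1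
  obtain ⟨hFc, hNc⟩ := hfc1 F hF
  set X : Subgroup G := ⊤ ⊓ Subgroup.normalizer (F : Set G) with hX
  have hcX : c ≤ X := le_inf le_top (Subgroup.le_normalizer.trans hNc)
  have hc'X : c' ≤ X := by
    rw [hconj]
    have := conj_smul_le_conj_smul (g := x) hcX
    rwa [conj_smul_eq_self_of_mem hx] at this
  refine ⟨hc, hc', X, x, Or.inl ?_, ?_, ?_, hx, hconj, le_inf hD (hD.trans hc'X)⟩
  · refine ⟨sylOfTop (isSylIn_subgroupOf_top hc), F, ?_, rfl⟩
    rw [coe_sylOfTop, map_subtype_subgroupOf_of_le le_top]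
    exact hF
  · rw [inf_eq_left.mpr hcX]; exact hc.of_le hcX le_top
  · rw [inf_eq_left.mpr hc'X]; exact hc'.of_le hc'X le_top

theorem link_of_singular {f : Subgroup G → Set (Subgroup G)} {M D R : Subgroup G}
    (hM : Cfsg.IsMaximalPLocal p M) (hsing : ¬ Cfsg.IsFunctorRegular p f M)
    (hR : IsSylIn p R ⊤) (hRM : IsSylIn p (R ⊓ M) M) (m : G) (hm : m ∈ M)
    (hD : D ≤ MulAut.conj m • (R ⊓ M)) : Link p (fam p f) D R (MulAut.conj m • R) := by
  have hR' : IsSylIn p (MulAut.conj m • R) ⊤ := by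
    have := hR.conj m
    rwa [conj_smul_top] at this
  have h1 : MulAut.conj m • (R ⊓ M) = MulAut.conj m • R ⊓ M := by
    rw [conj_smul_inf, conj_smul_eq_self_of_mem hm]
  refine ⟨hR, hR', M, m, Or.inr ⟨hM, hsing⟩, hRM, ?_, hm, rfl, ?_⟩
  · rw [← h1]
    have := hRM.conj m
    rwa [conj_smul_eq_self_of_mem hm] at this
  · rw [← h1]; exact hD

/-- Outer induction hypothesis at level `D`. -/
def OuterIH (p : ℕ) (f : Subgroup G → Set (Subgroup G)) (D : Subgroup G) : Prop :=
  ∀ c d : Subgroup G, IsSylIn p c ⊤ → IsSylIn p d ⊤ →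
    Nat.card D < Nat.card (c ⊓ d : Subgroup G) →
    Relation.ReflTransGen (Link p (fam p f) (c ⊓ d)) c d

theorem OuterIH.use {f : Subgroup G → Set (Subgroup G)} {D : Subgroup G} (h : OuterIH p f D)
    {c d : Subgroup G} (hc : IsSylIn p c ⊤) (hd : IsSylIn p d ⊤) (Q : Subgroup G)
    (hQ : Q ≤ c ⊓ d) (hcard : Nat.card D < Nat.card Q) (hD : D ≤ c ⊓ d) :
    Relation.ReflTransGen (Link p (fam p f) D) c d :=
  linked_mono (h c d hc hd (hcard.trans_le (Subgroup.card_le_of_le hQ))) hD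

/-- Inner statement at level `j`. -/
def InnerStmt (p : ℕ) (f : Subgroup G → Set (Subgroup G)) (D : Subgroup G) (j : ℕ) : Prop :=
  ∀ M R : Subgroup G, ∀ x : G, Cfsg.IsMaximalPLocal p M → IsSylIn p R ⊤ → x ∈ M →
    IsSylIn p (R ⊓ M) M → Nat.card D < Nat.card (R ⊓ M : Subgroup G) →
    D ≤ (R ⊓ M) ⊓ MulAut.conj x • (R ⊓ M) →
    Nat.card G - Nat.card (R ⊓ M : Subgroup G) = j →
    Relation.ReflTransGen (Link p (fam p f) D) R (MulAut.conj x • R)

theorem conj_isSylIn_top {R : Subgroup G} (hR : IsSylIn p R ⊤) (y : G) :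
    IsSylIn p (MulAut.conj y • R) ⊤ := by
  have := hR.conj y
  rwa [conj_smul_top] at this

/-- The sub-claim: one lifted step. -/
theorem sc {f : Subgroup G → Set (Subgroup G)} (hf : Cfsg.IsNormalizerFunctor p f)
    (hf1 : ∀ P : Subgroup G, IsPGroup p ↥P → P ≠ ⊥ → ∀ F ∈ f P, F ≠ ⊥)
    (D : Subgroup G) (hD : D ≠ ⊥) (hout : OuterIH p f D) (j : ℕ)
    (hin : ∀ j' < j, InnerStmt p f D j')
    (M R' : Subgroup G) (hR' : IsSylIn p R' ⊤)
    (hE : IsSylIn p (R' ⊓ M) M) (hcard : Nat.card D < Nat.card (R' ⊓ M : Subgroup G))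
    (hj : Nat.card G - Nat.card (R' ⊓ M : Subgroup G) = j)
    (F : Subgroup G) (hF : F ∈ f (R' ⊓ M)) (y : G)
    (hy : y ∈ M ⊓ Subgroup.normalizer (F : Set G))
    (hDE : D ≤ R' ⊓ M) (hDE' : D ≤ MulAut.conj y • (R' ⊓ M)) :
    Relation.ReflTransGen (Link p (fam p f) D) R' (MulAut.conj y • R') := by
  set E : Subgroup G := R' ⊓ M with hEdef
  have hEp : IsPGroup p E := hE.2.1
  obtain ⟨hfE1, -⟩ := hf E hEp
  obtain ⟨hFE, hNE⟩ := hfE1 F hF
  by_cases hER : E = R'
  · -- full Sylow: one step in the family of normalizers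
    apply Relation.ReflTransGen.single
    apply link_of_fstep_top hf
    refine ⟨hR', F, ?_, y, ⟨Subgroup.mem_top y, hy.2⟩, rfl, ?_⟩
    · rw [← hER]; exact hF
    · rw [← hER]; exact hDE'
  · -- go up to a bigger maximal p-local
    have hEne : E ≠ ⊥ := by
      intro h
      apply hD
      rw [h] at hDE
      exact le_bot_iff.mp hDE
    have hFne : F ≠ ⊥ := hf1 E hEp hEne F hF
    have hFp : IsPGroup p F := hEp.to_le hFE
    set K : Subgroup G := Subgroup.normalizer (F : Set G) with hK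
    have hKloc : Cfsg.IsPLocal p K := ⟨F, hFp, hFne, rfl⟩
    obtain ⟨M', hM', hKM'⟩ := exists_maxPLocal_ge K hKloc
    set Q : Subgroup G := R' ⊓ K with hQ
    have hQp : IsPGroup p Q := hR'.2.1.to_le inf_le_left
    have hEQ : E ≤ Q := le_inf inf_le_left (Subgroup.le_normalizer.trans hNE)
    have hgrow := IsSylIn.normalizer_growth (p := p) hR'.2.1 (inf_le_left : E ≤ R') hER
    have hEQlt : Nat.card E < Nat.card Q := by
      have h1 : R' ⊓ Subgroup.normalizer (E : Set G) ≤ Q := inf_le_inf_left _ hNE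
      exact (card_lt_of_lt hgrow).trans_le (Subgroup.card_le_of_le h1)
    obtain ⟨M'₁, R₀, hM'₁, hQM'₁, hR₀, hM'₁R₀, hR₀M'⟩ :=
      exists_sylow_pair Q M' hQp (inf_le_right.trans hKM')
    have hyM' : y ∈ M' := hKM' hy.2
    have hcardQ : Nat.card Q ≤ Nat.card M'₁ := Subgroup.card_le_of_le hQM'₁
    -- the inner induction hypothesis applies to M'
    have hjlt : Nat.card G - Nat.card (R₀ ⊓ M' : Subgroup G) < j := by
      rw [hR₀M', ← hj]
      have h1 : Nat.card E < Nat.card M'₁ := hEQlt.trans_le hcardQ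
      have h2 : Nat.card M'₁ ≤ Nat.card G := Subgroup.card_le_card_group M'₁
      omega
    have hDQ : D ≤ Q := hDE.trans hEQ
    have hDQ' : D ≤ MulAut.conj y • Q := hDE'.trans (conj_smul_le_conj_smul hEQ)
    have hmid : Relation.ReflTransGen (Link p (fam p f) D) R₀ (MulAut.conj y • R₀) := by
      apply hin _ hjlt M' R₀ y hM' hR₀ hyM'
      · rw [hR₀M']; exact hM'₁
      · rw [hR₀M']; exact (hcard.trans hEQlt).trans_le hcardQ
      · rw [hR₀M']
        exact le_inf (hDQ.trans hQM'₁) (hDQ'.trans (conj_smul_le_conj_smul hQM'₁))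
      · rfl
    have hQR₀ : Q ≤ R₀ := hQM'₁.trans hM'₁R₀
    have hfirst : Relation.ReflTransGen (Link p (fam p f) D) R' R₀ :=
      hout.use hR' hR₀ Q (le_inf inf_le_left hQR₀) (hcard.trans hEQlt) (le_inf (hDE.trans inf_le_left) (hDQ.trans hQR₀))
    have hlast : Relation.ReflTransGen (Link p (fam p f) D) (MulAut.conj y • R₀)
        (MulAut.conj y • R') := by
      apply hout.use (conj_isSylIn_top hR₀ y) (conj_isSylIn_top hR' y) (MulAut.conj y • Q)
      · exact le_inf (conj_smul_le_conj_smul hQR₀) (conj_smul_le_conj_smul inf_le_left)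
      · rw [card_conj_smul]; exact hcard.trans hEQlt
      · exact le_inf (hDQ'.trans (conj_smul_le_conj_smul hQR₀))
          (hDQ'.trans (conj_smul_le_conj_smul inf_le_left))
    exact (hfirst.trans hmid).trans hlast

theorem inner {f : Subgroup G → Set (Subgroup G)} (hf : Cfsg.IsNormalizerFunctor p f)
    (hf1 : ∀ P : Subgroup G, IsPGroup p ↥P → P ≠ ⊥ → ∀ F ∈ f P, F ≠ ⊥)
    (D : Subgroup G) (hD : D ≠ ⊥) (hout : OuterIH p f D) : ∀ j, InnerStmt p f D j := by
  intro j
  induction j using Nat.strong_induction_on with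
  | _ j ih =>
  intro M R x hM hR hxM hRM hcard hDle hj
  set R₁ : Subgroup G := R ⊓ M with hR₁
  by_cases hreg : Cfsg.IsFunctorRegular p f M
  · have hchain := (regular_iff hf M).mp hreg
    set R₂ : Subgroup G := MulAut.conj x • R₁ with hR₂def
    have hR₂ : IsSylIn p R₂ M := by
      have := hRM.conj x
      rwa [conj_smul_eq_self_of_mem hxM] at this
    have hR₂le : R₂ ≤ MulAut.conj x • R := conj_smul_le_conj_smul inf_le_left
    have hR₂card : Nat.card R₂ = Nat.card R₁ := card_conj_smul x R₁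
    by_cases h12 : R₁ = R₂
    · apply hout.use hR (conj_isSylIn_top hR x) R₁ _ hcard
      · exact le_inf (hDle.trans (inf_le_left.trans inf_le_left))
          (hDle.trans (inf_le_right.trans hR₂le))
      · refine le_inf inf_le_left ?_
        have : R₁ ≤ MulAut.conj x • R := h12 ▸ hR₂le
        exact this
    · have hint : R₁ ⊓ R₂ ≠ ⊥ := by
        intro h
        apply hD
        rw [h] at hDle
        exact le_bot_iff.mp hDle
      have hc := hchain R₁ R₂ hRM hR₂ h12 hint
      have lift : ∀ E : Subgroup G, Relation.ReflTransGen (FStep p f M (R₁ ⊓ R₂)) R₁ E →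
          ∃ RE : Subgroup G, IsSylIn p RE ⊤ ∧ RE ⊓ M = E ∧
            Relation.ReflTransGen (Link p (fam p f) D) R RE ∧ D ≤ E := by
        intro E hE
        induction hE with
        | refl => exact ⟨R, hR, rfl, Relation.ReflTransGen.refl, hDle.trans inf_le_left⟩
        | tail hab hbc ih' =>
          rename_i b c
          obtain ⟨RE, hRE, hREM, hL, hDE⟩ := ih'
          obtain ⟨hbS, F, hF, y, hy, hconj, hD₁⟩ := hbc
          have hbcard : Nat.card b = Nat.card R₁ := hbS.card_eq hRM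
          have hDc : D ≤ c := hDle.trans hD₁
          refine ⟨MulAut.conj y • RE, conj_isSylIn_top hRE y, ?_, hL.trans ?_, hDc⟩
          · rw [hconj, ← hREM, conj_smul_inf, conj_smul_eq_self_of_mem hy.1]
          · apply sc hf hf1 D hD hout j ih M RE hRE
            · rw [hREM]; exact hbS
            · rw [hREM, hbcard]; exact hcard
            · rw [hREM, hbcard]; exact hj
            · rw [hREM]; exact hF
            · exact hy
            · rw [hREM]; exact hDE
            · rw [hREM, ← hconj]; exact hDc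
      obtain ⟨Rf, hRf, hRfM, hL, -⟩ := lift R₂ hc
      apply hL.trans
      apply hout.use hRf (conj_isSylIn_top hR x) R₂ _ (by rw [hR₂card]; exact hcard)
      · have h1 : D ≤ R₂ := hDle.trans inf_le_right
        exact le_inf (h1.trans (hRfM ▸ inf_le_left)) (h1.trans hR₂le)
      · exact le_inf (hRfM ▸ inf_le_left) hR₂le
  · exact Relation.ReflTransGen.single
      (link_of_singular hM hreg hR hRM x hxM (hDle.trans inf_le_right))

theorem outer {f : Subgroup G → Set (Subgroup G)} (hf : Cfsg.IsNormalizerFunctor p f)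
    (hf1 : ∀ P : Subgroup G, IsPGroup p ↥P → P ≠ ⊥ → ∀ F ∈ f P, F ≠ ⊥) :
    ∀ n : ℕ, ∀ c d : Subgroup G, IsSylIn p c ⊤ → IsSylIn p d ⊤ → c ⊓ d ≠ ⊥ →
      Nat.card G - Nat.card (c ⊓ d : Subgroup G) = n →
      Relation.ReflTransGen (Link p (fam p f) (c ⊓ d)) c d := by
  intro n
  induction n using Nat.strong_induction_on with
  | _ n ih =>
  intro S T hS hT hint hn
  by_cases hST : S = T
  · subst hST; exact Relation.ReflTransGen.refl
  set D : Subgroup G := S ⊓ T with hDdef
  have hout : OuterIH p f D := by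
    intro c d hc hd hcard
    have hne : c ⊓ d ≠ ⊥ := by
      intro h
      rw [h, Subgroup.card_bot] at hcard
      have : 0 < Nat.card D := Nat.card_pos
      omega
    apply ih (Nat.card G - Nat.card (c ⊓ d : Subgroup G)) _ c d hc hd hne rfl
    have h1 : Nat.card (c ⊓ d : Subgroup G) ≤ Nat.card G := Subgroup.card_le_card_group _
    omega
  have hcardST : Nat.card S = Nat.card T := hS.card_eq hT
  have hDS : D ≠ S := by
    intro h
    apply hST
    have h1 : S ≤ T := by
      have : D ≤ T := inf_le_right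
      rwa [h] at this
    exact Subgroup.eq_of_le_of_card_ge h1 hcardST.symm.le
  have hDT : D ≠ T := by
    intro h
    apply hST
    have h1 : T ≤ S := by
      have : D ≤ S := inf_le_left
      rwa [h] at this
    exact (Subgroup.eq_of_le_of_card_ge h1 hcardST.le).symm
  have hDp : IsPGroup p D := hS.2.1.to_le inf_le_left
  set N : Subgroup G := Subgroup.normalizer (D : Set G) with hN
  have hNloc : Cfsg.IsPLocal p N := ⟨D, hDp, hint, rfl⟩
  obtain ⟨M, hM, hNM⟩ := exists_maxPLocal_ge N hNloc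
  have hgS := IsSylIn.normalizer_growth (p := p) hS.2.1 (inf_le_left : D ≤ S) hDS
  have hgT := IsSylIn.normalizer_growth (p := p) hT.2.1 (inf_le_right : D ≤ T) hDT
  obtain ⟨S₁, S', hS₁, hQS₁, hS', hS₁S', hS'M⟩ :=
    exists_sylow_pair (S ⊓ N) M (hS.2.1.to_le inf_le_left) (inf_le_right.trans hNM)
  obtain ⟨T₁, T', hT₁, hQT₁, hT', hT₁T', hT'M⟩ :=
    exists_sylow_pair (T ⊓ N) M (hT.2.1.to_le inf_le_left) (inf_le_right.trans hNM)
  obtain ⟨m, hmM, hm⟩ := hT₁.exists_conj_eq hS₁
  have hcardS₁ : Nat.card D < Nat.card S₁ :=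
    (card_lt_of_lt hgS).trans_le (Subgroup.card_le_of_le hQS₁)
  have hcardT₁ : Nat.card D < Nat.card T₁ :=
    (card_lt_of_lt hgT).trans_le (Subgroup.card_le_of_le hQT₁)
  have hDS₁ : D ≤ S₁ := hgS.le.trans hQS₁
  have hDT₁ : D ≤ T₁ := hgT.le.trans hQT₁
  have l1 : Relation.ReflTransGen (Link p (fam p f) D) S S' :=
    hout.use hS hS' (S ⊓ N) (le_inf inf_le_left (hQS₁.trans hS₁S')) (card_lt_of_lt hgS)
      (le_inf inf_le_left (hDS₁.trans hS₁S'))
  have l2 : Relation.ReflTransGen (Link p (fam p f) D) S' (MulAut.conj m • S') := by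
    apply inner hf hf1 D hint hout _ M S' m hM hS' hmM
    · rw [hS'M]; exact hS₁
    · rw [hS'M]; exact hcardS₁
    · rw [hS'M, hm]; exact le_inf hDS₁ hDT₁
    · rfl
  have hT₁le : T₁ ≤ MulAut.conj m • S' := by
    rw [← hm]; exact conj_smul_le_conj_smul hS₁S'
  have l3 : Relation.ReflTransGen (Link p (fam p f) D) (MulAut.conj m • S') T' :=
    hout.use (conj_isSylIn_top hS' m) hT' T₁ (le_inf hT₁le hT₁T') hcardT₁
      (le_inf (hDT₁.trans hT₁le) (hDT₁.trans hT₁T'))
  have l4 : Relation.ReflTransGen (Link p (fam p f) D) T' T :=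
    hout.use hT' hT (T ⊓ N) (le_inf (hQT₁.trans hT₁T') inf_le_left) (card_lt_of_lt hgT)
      (le_inf (hDT₁.trans hT₁T') inf_le_right)
  exact ((l1.trans l2).trans l3).trans l4

/-- Let p be a prime dividing the order of the finite group G, and f an assignment to every p-subgroup P of a set f(P) of subgroups of P, each normalized by N_G(P), compatible with conjugation, such that for P ≠ 1 the members of f(P) are nontrivial. Let 𝓕 be the family of the normalizers N_G(F) of the members F of f(S) over the Sylow p-subgroups S of G, and 𝓕' the family of the maximal p-local subgroups M of G that are singular for f (the corresponding family of normalizers inside M does not control Sylow p-intersections in M). Then 𝓕 ∪ 𝓕' controls Sylow p-intersections in G. -/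
theorem result {G : Type*} [Group G] [Finite G] (p : ℕ) [Fact p.Prime] (hdiv : p ∣ Nat.card G)
    (f : Subgroup G → Set (Subgroup G)) (hf : Cfsg.IsNormalizerFunctor p f)
    (hf1 : ∀ P : Subgroup G, IsPGroup p ↥P → P ≠ ⊥ → ∀ F ∈ f P, F ≠ ⊥)
    (𝓕 𝓕' : Set (Subgroup G)) (h𝓕 : 𝓕 = Cfsg.functorFamily p f ⊤)
    (h𝓕' : 𝓕' = {M | Cfsg.IsMaximalPLocal p M ∧ ¬ Cfsg.IsFunctorRegular p f M}) :
    Cfsg.ControlsSylowIntersections p (𝓕 ∪ 𝓕') := by
  subst h𝓕 h𝓕'
  apply controls_of_linked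
  intro c d hc hd _ hint
  exact outer hf hf1 _ c d hc hd hint rfl

end Cfsg.Agent.S2956
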