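import Cfsg.Statements.S2957
import Cfsg.Agent.Lib.Helper49.SylChain
import Cfsg.Agent.S2940

set_option autoImplicit false
open Cfsg
open Pointwise

namespace Cfsg.Agent.S2957

open Cfsg.Agent.Helper33 Cfsg.Agent.Helper49

/-- Let p be a prime dividing the order of the finite group G, f an equivariant assignment of a set of subgroups f(P) of P to every p-subgroup P, each normalized by N_G(P), and S a Sylow p-subgroup. If G = G₁G₂ for subgroups G₁, G₂ both containing S and both regular for f (in each Gᵢ, the family of normalizers in Gᵢ of the members of f(P), P a Sylow p-subgroup of Gᵢ, controls Sylow p-intersections), then G itself is regular for f. -/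
theorem result {G : Type*} [Group G] [Finite G] (p : ℕ) [Fact p.Prime] (hdiv : p ∣ Nat.card G)
    (f : Subgroup G → Set (Subgroup G)) (hf : Cfsg.IsNormalizerFunctor p f) (S : Sylow p G)
    (G₁ G₂ : Subgroup G) (h₁ : (S : Subgroup G) ≤ G₁) (h₂ : (S : Subgroup G) ≤ G₂)
    (hprod : ∀ g : G, ∃ g₁ ∈ G₁, ∃ g₂ ∈ G₂, g = g₁ * g₂)
    (hr₁ : Cfsg.IsFunctorRegular p f G₁) (hr₂ : Cfsg.IsFunctorRegular p f G₂) :
    Cfsg.IsFunctorRegular p f ⊤ := by
  have hR₁ := (regular_iff hf G₁).mp hr₁
  have hR₂ := (regular_iff hf G₂).mp hr₂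
  have hST : IsSylIn p (S : Subgroup G) ⊤ := isSylIn_top S
  have hS₁ : IsSylIn p (S : Subgroup G) G₁ := hST.of_le h₁ le_top
  have hS₂ : IsSylIn p (S : Subgroup G) G₂ := hST.of_le h₂ le_top
  -- main claim for pairs (S, T)
  have main : ∀ T : Subgroup G, IsSylIn p T ⊤ → (S : Subgroup G) ⊓ T ≠ ⊥ →
      Relation.ReflTransGen (FStep p f ⊤ ((S : Subgroup G) ⊓ T)) (S : Subgroup G) T := by
    intro T hT hint
    obtain ⟨b, -, hb⟩ := hT.exists_conj_eq hST
    -- hb : conj b • S = T
    obtain ⟨U, hU1, hU2⟩ := Cfsg.Agent.S2940.result S G₁ G₂ h₁ h₂ hprod b⁻¹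
    rw [subgroupConjRight_eq, inv_inv, hb] at hU1
    rw [subgroupConjRight_eq, inv_inv] at hU2
    have hUT : IsSylIn p (U : Subgroup G) ⊤ := isSylIn_top U
    have hU₁ : IsSylIn p (U : Subgroup G) G₁ := hUT.of_le (hU2.trans inf_le_left) le_top
    have hSTU : (S : Subgroup G) ⊓ T ≤ (S : Subgroup G) ⊓ (U : Subgroup G) :=
      le_inf inf_le_left hU1
    have hSTU' : (S : Subgroup G) ⊓ T ≤ (U : Subgroup G) ⊓ T := le_inf hU1 inf_le_right
    -- chain 1
    have c1 : Relation.ReflTransGen (FStep p f ⊤ ((S : Subgroup G) ⊓ T)) (S : Subgroup G)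
        (U : Subgroup G) := by
      by_cases hSU : (S : Subgroup G) = (U : Subgroup G)
      · rw [← hSU]
      · have hint1 : (S : Subgroup G) ⊓ (U : Subgroup G) ≠ ⊥ := by
          intro h
          apply hint
          have := hSTU
          rw [h] at this
          exact le_bot_iff.mp this
        have := hR₁ _ _ hS₁ hU₁ hSU hint1
        exact flinked_mono (linked_to_top S h₁ this) hSTU
    -- chain 2
    have c2 : Relation.ReflTransGen (FStep p f ⊤ ((S : Subgroup G) ⊓ T)) (U : Subgroup G) T := by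
      set U' : Subgroup G := MulAut.conj b⁻¹ • (U : Subgroup G) with hU'
      have hU'G₂ : U' ≤ G₂ := by
        have := conj_smul_le_conj_smul (g := b⁻¹) (hU2.trans inf_le_right)
        rwa [conj_inv_smul_smul] at this
      have hU'T : IsSylIn p U' ⊤ := by
        have := hUT.conj b⁻¹
        rwa [conj_smul_top] at this
      have hU'₂ : IsSylIn p U' G₂ := hU'T.of_le hU'G₂ le_top
      have hbU' : MulAut.conj b • U' = (U : Subgroup G) := by
        rw [hU', conj_smul_inv_smul]
      by_cases hUS : U' = (S : Subgroup G)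
      · have : (U : Subgroup G) = T := by rw [← hbU', hUS, hb]
        rw [this]
      · have hint2 : U' ⊓ (S : Subgroup G) ≠ ⊥ := by
          intro h
          apply hint
          have h3 : MulAut.conj b • (U' ⊓ (S : Subgroup G)) = (U : Subgroup G) ⊓ T := by
            rw [conj_smul_inf, hbU', hb]
          rw [h] at h3
          have h4 : (U : Subgroup G) ⊓ T = ⊥ := by
            rw [← h3]; exact conj_smul_eq_bot_iff.mpr rfl
          have := hSTU'
          rw [h4] at this
          exact le_bot_iff.mp this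
        have h5 := linked_to_top S h₂ (hR₂ _ _ hU'₂ hS₂ hUS hint2)
        have h6 := flinked_conj_top hf h5 b
        rw [conj_smul_inf, hbU', hb] at h6
        exact flinked_mono h6 hSTU'
    exact c1.trans c2
  -- general pairs
  apply (regular_iff hf ⊤).mpr
  intro c d hc hd hne hint
  obtain ⟨a, -, ha⟩ := hc.exists_conj_eq hST
  -- ha : conj a • S = c
  set d₀ : Subgroup G := MulAut.conj a⁻¹ • d with hd₀
  have hd₀T : IsSylIn p d₀ ⊤ := by
    have := hd.conj a⁻¹
    rwa [conj_smul_top] at this
  have had₀ : MulAut.conj a • d₀ = d := by rw [hd₀, conj_smul_inv_smul]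
  have hinf : MulAut.conj a • ((S : Subgroup G) ⊓ d₀) = c ⊓ d := by
    rw [conj_smul_inf, ha, had₀]
  have hint0 : (S : Subgroup G) ⊓ d₀ ≠ ⊥ := by
    intro h
    apply hint
    rw [← hinf, h]
    exact conj_smul_eq_bot_iff.mpr rfl
  have h1 := flinked_conj_top hf (main d₀ hd₀T hint0) a
  rw [hinf, ha, had₀] at h1
  exact h1

end Cfsg.Agent.S2957
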