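import Cfsg.Statements.S2958

set_option autoImplicit false
open Cfsg

namespace Cfsg.Agent.S2958

/-- Let X, A, B be subgroups of a group G such that G is generated by the conjugates of X and every conjugate of X is contained in A or in B. Then A = G or B = G. -/
theorem result {G : Type*} [Group G] (X A B : Subgroup G) (hgen : (⨆ g : G, X.map (MulAut.conj g).toMonoidHom) = ⊤) (hcover : ∀ g : G, X.map (MulAut.conj g).toMonoidHom ≤ A ∨ X.map (MulAut.conj g).toMonoidHom ≤ B) : A = ⊤ ∨ B = ⊤ := by
  classical
  by_cases hA : ∀ g, X.map (MulAut.conj g).toMonoidHom ≤ A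
  · left
    rw [eq_top_iff, ← hgen]
    exact iSup_le hA
  · right
    obtain ⟨h, hh⟩ := not_forall.mp hA
    have hconj : ∀ k g : G, (X.map (MulAut.conj g).toMonoidHom).map (MulAut.conj k).toMonoidHom
        = X.map (MulAut.conj (k * g)).toMonoidHom := by
      intro k g
      rw [Subgroup.map_map]
      congr 1
      ext x
      simp [MulAut.conj_apply, mul_assoc]
    let D : Subgroup G := ⨆ g : {g : G // ¬ X.map (MulAut.conj g).toMonoidHom ≤ A},
      X.map (MulAut.conj g.1).toMonoidHom
    have hDB : D ≤ B := iSup_le (fun g => (hcover g.1).resolve_left g.2)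
    have hle : ∀ g : G, ¬ X.map (MulAut.conj g).toMonoidHom ≤ A →
        X.map (MulAut.conj g).toMonoidHom ≤ D := fun g hg =>
      le_iSup (fun g : {g : G // ¬ X.map (MulAut.conj g).toMonoidHom ≤ A} =>
        X.map (MulAut.conj g.1).toMonoidHom) ⟨g, hg⟩
    -- every conjugate normalizes D (one direction)
    have hstep : ∀ g : G, ∀ k ∈ X.map (MulAut.conj g).toMonoidHom, ∀ x ∈ D, k * x * k⁻¹ ∈ D := by
      intro g k hk x hx
      by_cases hg : X.map (MulAut.conj g).toMonoidHom ≤ A
      · have hkA : k ∈ A := hg hk
        have hmap : D.map (MulAut.conj k).toMonoidHom ≤ D := by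
          simp only [D, Subgroup.map_iSup]
          refine iSup_le (fun g' => ?_)
          rw [hconj]
          apply hle
          intro hcontra
          apply g'.2
          have : X.map (MulAut.conj g'.1).toMonoidHom
              = (X.map (MulAut.conj (k * g'.1)).toMonoidHom).map (MulAut.conj k⁻¹).toMonoidHom := by
            rw [hconj]; simp
          rw [this]
          rintro y ⟨z, hz, rfl⟩
          have hzA : z ∈ A := hcontra hz
          simp only [MulEquiv.coe_toMonoidHom, MulAut.conj_apply]
          exact A.mul_mem (A.mul_mem (A.inv_mem hkA) hzA) (by simpa using hkA)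
        apply hmap
        exact ⟨x, hx, by simp [MulAut.conj_apply]⟩
      · have hkD : k ∈ D := hle g hg hk
        exact D.mul_mem (D.mul_mem hkD hx) (D.inv_mem hkD)
    have hnorm : Subgroup.normalizer (D : Set G) = ⊤ := by
      rw [eq_top_iff, ← hgen]
      refine iSup_le (fun g k hk => ?_)
      rw [Subgroup.mem_normalizer_iff]
      intro x
      constructor
      · exact hstep g k hk x
      · intro hx
        have := hstep g k⁻¹ (Subgroup.inv_mem _ hk) _ hx
        simpa [mul_assoc] using this
    have hDn : D.Normal := Subgroup.normalizer_eq_top_iff.mp hnorm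
    have hDtop : D = ⊤ := by
      rw [eq_top_iff, ← hgen]
      refine iSup_le (fun g => ?_)
      have h1 : X.map (MulAut.conj h).toMonoidHom ≤ D := hle h hh
      have h2 : X.map (MulAut.conj g).toMonoidHom
          = (X.map (MulAut.conj h).toMonoidHom).map (MulAut.conj (g * h⁻¹)).toMonoidHom := by
        rw [hconj]; simp
      rw [h2]
      rintro y ⟨z, hz, rfl⟩
      simp only [MulEquiv.coe_toMonoidHom, MulAut.conj_apply]
      exact hDn.conj_mem z (h1 hz) (g * h⁻¹)
    rw [eq_top_iff, ← hDtop]
    exact hDB

end Cfsg.Agent.S2958
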