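import Cfsg.Statements.S2959
import Cfsg.Agent.Lib.Helper49.CharP

set_option autoImplicit false
open Cfsg
open scoped commutatorElement

namespace Cfsg.Agent.S2959

/-- Let G be a finite group of characteristic p, that is C_G(O_p(G)) ≤ O_p(G), with p prime, and let L be a subgroup of G normalized by O_p(G). Then L has characteristic p: C_L(O_p(L)) ≤ O_p(L). -/
theorem result {G : Type*} [Group G] [Finite G] {p : ℕ} [Fact p.Prime] (hG : Subgroup.centralizer (Cfsg.pCore p G : Set G) ≤ Cfsg.pCore p G) (L : Subgroup G) (hL : Cfsg.pCore p G ≤ Subgroup.normalizer (L : Set G)) : Subgroup.centralizer (Cfsg.pCore p ↥L : Set ↥L) ≤ Cfsg.pCore p ↥L := by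
  have hPn : (Cfsg.pCore p G).Normal := Helper49.pCore_normal' p
  have hPp : IsPGroup p (Cfsg.pCore p G) := Helper49.pCore_isPGroup p
  have hULn : (Cfsg.pCore p ↥L).Normal := Helper49.pCore_normal' p
  have hXn : (Subgroup.centralizer (Cfsg.pCore p ↥L : Set ↥L)).Normal := Subgroup.normal_centralizer
  apply Helper49.le_pCore p _ hXn
  apply Helper49.isPGroup_of_pprime_elements_trivial
  intro y hy hyo
  -- P ⊓ L ≤ O_p(L)
  have hPL : (Cfsg.pCore p G).subgroupOf L ≤ Cfsg.pCore p ↥L := by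
    apply Helper49.le_pCore p _ (Subgroup.normal_subgroupOf)
    exact hPp.comap_subtype
  have hyG : (orderOf (y : G)).Coprime p := by
    rw [Subgroup.orderOf_coe]; exact hyo
  set A : Subgroup G := Subgroup.zpowers (y : G) with hA
  have hAL : A ≤ L := by
    rw [hA, Subgroup.zpowers_le]; exact y.2
  have hAcard : (Nat.card A).Coprime (Nat.card (Cfsg.pCore p G)) := by
    obtain ⟨m, hm⟩ := IsPGroup.iff_card.mp hPp
    rw [hm, hA, Nat.card_zpowers]
    exact Nat.Coprime.pow_right m hyG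
  have hAN : A ≤ Subgroup.normalizer ((Cfsg.pCore p G : Subgroup G) : Set G) := by
    rw [Subgroup.normalizer_eq_top]; exact le_top
  -- ⁅P, A⁆ ≤ P ⊓ L
  have h1 : ⁅Cfsg.pCore p G, A⁆ ≤ Cfsg.pCore p G ⊓ L := by
    rw [Subgroup.commutator_le]
    intro x hx a ha
    refine ⟨?_, ?_⟩
    · have : ⁅x, a⁆ = x * (a * x⁻¹ * a⁻¹) := by rw [commutatorElement_def]; group
      rw [this]
      exact Subgroup.mul_mem _ hx (hPn.conj_mem _ (Subgroup.inv_mem _ hx) a)
    · have haL : a ∈ L := hAL ha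
      have h2 : x * a * x⁻¹ ∈ L := (Subgroup.mem_normalizer_iff.mp (hL hx) a).mp haL
      rw [commutatorElement_def]
      exact L.mul_mem h2 (L.inv_mem haL)
  -- A centralizes P ⊓ L
  have h2 : Cfsg.pCore p G ⊓ L ≤ Subgroup.centralizer (A : Set G) := by
    intro z hz
    have hzU : (⟨z, hz.2⟩ : L) ∈ Cfsg.pCore p ↥L := hPL (Subgroup.mem_subgroupOf.mpr hz.1)
    have hcomm : (⟨z, hz.2⟩ : L) * y = y * ⟨z, hz.2⟩ :=
      (Subgroup.mem_centralizer_iff.mp hy) _ hzU
    have hcomm' : z * (y : G) = (y : G) * z := by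
      have := congrArg Subtype.val hcomm
      simpa using this
    rw [Subgroup.mem_centralizer_iff]
    intro a ha
    obtain ⟨k, rfl⟩ := Subgroup.mem_zpowers_iff.mp ha
    have hc : Commute (y : G) z := hcomm'.symm
    exact (hc.zpow_left k).eq
  have h3 : ⁅⁅Cfsg.pCore p G, A⁆, A⁆ = ⊥ := by
    rw [Subgroup.commutator_eq_bot_iff_le_centralizer]
    exact h1.trans h2
  have h4 := Cfsg.Agent.Helper24.le_centralizer_of_coprime (Cfsg.pCore p G) A hAN hAcard h3
  have hyP : (y : G) ∈ Cfsg.pCore p G := hG (h4 (Subgroup.mem_zpowers _))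
  have := Helper49.eq_one_of_mem_pgroup_of_coprime _ hPp (y : G) hyP hyG
  exact Subtype.ext (by simpa using this)

end Cfsg.Agent.S2959
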