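import Cfsg.Statements.S2961
import Cfsg.Agent.Lib.Helper49.CharP
import Cfsg.Agent.Lib.Helper49.InvSylow

set_option autoImplicit false
open Cfsg

namespace Cfsg.Agent.S2961

variable {G : Type*} [Group G]

/-- Elements of `L` acting trivially on `B / Z`. -/
def quotStab (L B Z : Subgroup G) (hZ : L ≤ Subgroup.normalizer (Z : Set G)) : Subgroup G where
  carrier := {l | l ∈ L ∧ ∀ x ∈ B, l * x * l⁻¹ * x⁻¹ ∈ Z}
  one_mem' := ⟨L.one_mem, by intro x _; simp⟩
  mul_mem' := by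
    rintro l m ⟨hl, hl'⟩ ⟨hm, hm'⟩
    refine ⟨L.mul_mem hl hm, ?_⟩
    intro x hx
    have h1 : l * (m * x * m⁻¹ * x⁻¹) * l⁻¹ ∈ Z :=
      (Subgroup.mem_normalizer_iff.mp (hZ hl) _).mp (hm' x hx)
    have h2 := Z.mul_mem h1 (hl' x hx)
    have : l * m * x * (l * m)⁻¹ * x⁻¹ = l * (m * x * m⁻¹ * x⁻¹) * l⁻¹ * (l * x * l⁻¹ * x⁻¹) := by
      group
    rw [this]; exact h2
  inv_mem' := by
    rintro l ⟨hl, hl'⟩
    refine ⟨L.inv_mem hl, ?_⟩
    intro x hx
    have h1 : (l * x * l⁻¹ * x⁻¹)⁻¹ ∈ Z := Z.inv_mem (hl' x hx)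
    have h2 : l⁻¹ * (l * x * l⁻¹ * x⁻¹)⁻¹ * l⁻¹⁻¹ ∈ Z :=
      (Subgroup.mem_normalizer_iff.mp (hZ (L.inv_mem hl)) _).mp h1
    have : l⁻¹ * x * l⁻¹⁻¹ * x⁻¹ = l⁻¹ * (l * x * l⁻¹ * x⁻¹)⁻¹ * l⁻¹⁻¹ := by group
    rw [this]; exact h2

theorem mem_quotStab (L B Z : Subgroup G) (hZ : L ≤ Subgroup.normalizer (Z : Set G)) (l : G) :
    l ∈ quotStab L B Z hZ ↔ l ∈ L ∧ ∀ x ∈ B, l * x * l⁻¹ * x⁻¹ ∈ Z := Iff.rfl

theorem quotStab_normalized [Finite G] (L B Z : Subgroup G)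
    (hZ : L ≤ Subgroup.normalizer (Z : Set G))
    (hB : L ≤ Subgroup.normalizer (B : Set G)) :
    L ≤ Subgroup.normalizer ((quotStab L B Z hZ : Subgroup G) : Set G) := by
  intro g hg
  apply Helper49.mem_normalizer_of_conj_le
  rintro l ⟨hl, hl'⟩
  refine ⟨L.mul_mem (L.mul_mem hg hl) (L.inv_mem hg), ?_⟩
  intro x hx
  have hx' : g⁻¹ * x * g⁻¹⁻¹ ∈ B :=
    (Subgroup.mem_normalizer_iff.mp (hB (L.inv_mem hg)) x).mp hx
  have h1 := hl' _ hx'
  have h2 : g * (l * (g⁻¹ * x * g⁻¹⁻¹) * l⁻¹ * (g⁻¹ * x * g⁻¹⁻¹)⁻¹) * g⁻¹ ∈ Z :=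
    (Subgroup.mem_normalizer_iff.mp (hZ hg) _).mp h1
  have : g * l * g⁻¹ * x * (g * l * g⁻¹)⁻¹ * x⁻¹ =
      g * (l * (g⁻¹ * x * g⁻¹⁻¹) * l⁻¹ * (g⁻¹ * x * g⁻¹⁻¹)⁻¹) * g⁻¹ := by group
  rw [this]; exact h2

/-- `L` normalizes `P ⊓ L` when `P` is normal. -/
theorem le_normalizer_inf_of_normal (P L : Subgroup G) [hP : P.Normal] :
    L ≤ Subgroup.normalizer ((P ⊓ L : Subgroup G) : Set G) := by
  intro l hl
  rw [Subgroup.mem_normalizer_iff]
  intro x
  constructor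
  · rintro ⟨hxP, hxL⟩
    exact ⟨hP.conj_mem x hxP l, L.mul_mem (L.mul_mem hl hxL) (L.inv_mem hl)⟩
  · rintro ⟨hxP, hxL⟩
    refine ⟨?_, ?_⟩
    · have := hP.conj_mem _ hxP l⁻¹
      simpa [mul_assoc] using this
    · have := L.mul_mem (L.mul_mem (L.inv_mem hl) hxL) hl
      simpa [mul_assoc] using this

/-- If `L` normalizes `A` and `B` then it normalizes `A ⊓ B`. -/
theorem le_normalizer_inf (L A B : Subgroup G)
    (hA : L ≤ Subgroup.normalizer (A : Set G)) (hB : L ≤ Subgroup.normalizer (B : Set G)) :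
    L ≤ Subgroup.normalizer ((A ⊓ B : Subgroup G) : Set G) := by
  intro l hl
  rw [Subgroup.mem_normalizer_iff]
  intro x
  rw [Subgroup.mem_inf, Subgroup.mem_inf, ← Subgroup.mem_normalizer_iff.mp (hA hl) x,
    ← Subgroup.mem_normalizer_iff.mp (hB hl) x]

/-- Let G be a finite group of characteristic p (C_G(O_p(G)) ≤ O_p(G)), p prime, T a Sylow p-subgroup of G and Q a normal subgroup of T with C_T(Q) ≤ Q. Then every subgroup L of G containing Q has characteristic p: C_L(O_p(L)) ≤ O_p(L). -/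
theorem result {G : Type*} [Group G] [Finite G] {p : ℕ} [Fact p.Prime] (hG : Subgroup.centralizer (Cfsg.pCore p G : Set G) ≤ Cfsg.pCore p G) (T : Sylow p G) (Q : Subgroup G) (hQT : Q ≤ (T : Subgroup G)) (hQn : (T : Subgroup G) ≤ Subgroup.normalizer (Q : Set G)) (hC : (T : Subgroup G) ⊓ Subgroup.centralizer (Q : Set G) ≤ Q) (L : Subgroup G) (hQL : Q ≤ L) : Subgroup.centralizer (Cfsg.pCore p ↥L : Set ↥L) ≤ Cfsg.pCore p ↥L := by
  have hPn : (Cfsg.pCore p G).Normal := Helper49.pCore_normal' p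
  have hPp : IsPGroup p (Cfsg.pCore p G) := Helper49.pCore_isPGroup p
  have hPT : Cfsg.pCore p G ≤ (T : Subgroup G) :=
    Helper49.normal_pgroup_le_sylow _ hPp T
  have hQp : IsPGroup p Q := T.2.to_le hQT
  have hULn : (Cfsg.pCore p ↥L).Normal := Helper49.pCore_normal' p
  have hULp : IsPGroup p (Cfsg.pCore p ↥L) := Helper49.pCore_isPGroup p
  have hXn : (Subgroup.centralizer (Cfsg.pCore p ↥L : Set ↥L)).Normal := Subgroup.normal_centralizer
  set P := Cfsg.pCore p G with hPdef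
  set P₁ : Subgroup G := P ⊓ L with hP₁
  set UL : Subgroup G := (Cfsg.pCore p ↥L).map L.subtype with hUL
  set P₂ : Subgroup G := P ⊓ Subgroup.centralizer (P₁ : Set G) with hP₂
  set Z₂ : Subgroup G := P₁ ⊓ Subgroup.centralizer (P₁ : Set G) with hZ₂
  have hULpG : IsPGroup p UL := hULp.map _
  -- P₁ ≤ UL
  have hP₁UL : P₁ ≤ UL := by
    have h1 : P.subgroupOf L ≤ Cfsg.pCore p ↥L := by
      apply Helper49.le_pCore p _ (Subgroup.normal_subgroupOf)
      exact hPp.comap_subtype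
    intro z hz
    exact ⟨⟨z, hz.2⟩, h1 (Subgroup.mem_subgroupOf.mpr hz.1), rfl⟩
  -- normalizer facts
  have hLP₁ : L ≤ Subgroup.normalizer (P₁ : Set G) := le_normalizer_inf_of_normal P L
  have hLC₁ : L ≤ Subgroup.normalizer ((Subgroup.centralizer (P₁ : Set G) : Subgroup G) : Set G) :=
    hLP₁.trans (Helper49.normalizer_le_normalizer_centralizer P₁)
  have hLP : L ≤ Subgroup.normalizer (P : Set G) := by
    rw [Subgroup.normalizer_eq_top]; exact le_top
  have hLP₂ : L ≤ Subgroup.normalizer (P₂ : Set G) := le_normalizer_inf L _ _ hLP hLC₁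
  have hLZ₂ : L ≤ Subgroup.normalizer (Z₂ : Set G) := le_normalizer_inf L _ _ hLP₁ hLC₁
  have hZ₂p : IsPGroup p Z₂ := hPp.to_le (inf_le_left.trans inf_le_left)
  -- Claim A
  have claimA : ∀ y : G, y ∈ L → (orderOf y).Coprime p →
      y ∈ Subgroup.centralizer (P₁ : Set G) → (∀ x ∈ P₂, y * x * y⁻¹ * x⁻¹ ∈ Z₂) → y = 1 := by
    intro y hyL hyo hyc hyZ
    -- y centralizes P₂
    have h1 : ∀ x ∈ P₂, x * y = y * x := by
      intro x hx
      have hz : x * y * x⁻¹ * y⁻¹ ∈ Z₂ := by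
        have h2 := Z₂.inv_mem (hyZ x hx)
        have : (y * x * y⁻¹ * x⁻¹)⁻¹ = x * y * x⁻¹ * y⁻¹ := by group
        rwa [this] at h2
      have hcz : (x * y * x⁻¹ * y⁻¹) * y = y * (x * y * x⁻¹ * y⁻¹) :=
        (Subgroup.mem_centralizer_iff.mp hyc) _ hz.1
      have hcop : (orderOf y).Coprime (Nat.card Z₂) := by
        obtain ⟨m, hm⟩ := IsPGroup.iff_card.mp hZ₂p
        rw [hm]; exact Nat.Coprime.pow_right m hyo
      exact Cfsg.Agent.Helper24.commute_of_comm_commute_of_coprime Z₂ x y hz hcz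
        (orderOf y) (pow_orderOf_eq_one y) hcop
    set A : Subgroup G := Subgroup.zpowers y with hA
    have hAc : (Nat.card A).Coprime p := by rw [hA, Nat.card_zpowers]; exact hyo
    have hcentA : ∀ S : Subgroup G, (∀ x ∈ S, x * y = y * x) →
        S ≤ Subgroup.centralizer (A : Set G) := by
      intro S hS x hx
      rw [Subgroup.mem_centralizer_iff]
      intro a ha
      obtain ⟨k, rfl⟩ := Subgroup.mem_zpowers_iff.mp ha
      have hc : Commute y x := (hS x hx).symm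
      exact (hc.zpow_left k).eq
    have h2 : P₁ ≤ Subgroup.centralizer (A : Set G) :=
      hcentA P₁ (fun x hx => ((Subgroup.mem_centralizer_iff.mp hyc) x hx))
    have h3 : P₂ ≤ Subgroup.centralizer (A : Set G) := hcentA P₂ h1
    have h4 := Helper49.thompson_PxQ p P₁ A P (hPp.to_le inf_le_left) hAc hPp h2
      (by rw [Subgroup.normalizer_eq_top]; exact le_top)
      (by rw [Subgroup.normalizer_eq_top]; exact le_top) h3
    have hyP : y ∈ P := hG (h4 (Subgroup.mem_zpowers y))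
    exact Helper49.eq_one_of_mem_pgroup_of_coprime _ hPp y hyP hyo
  -- the subgroups N and M
  set N : Subgroup G := quotStab L P₂ Z₂ hLZ₂ with hN
  have hLN : L ≤ Subgroup.normalizer (N : Set G) := quotStab_normalized L P₂ Z₂ hLZ₂ hLP₂
  have hNL : N ≤ L := fun l hl => hl.1
  set XG : Subgroup G := L ⊓ Subgroup.centralizer (UL : Set G) with hXG
  have hLUL : L ≤ Subgroup.normalizer (UL : Set G) := by
    intro l hl
    apply Helper49.mem_normalizer_of_conj_le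
    intro y hy
    exact Helper49.conj_mem_map_pCore p L l (Subgroup.le_normalizer hl) y hy
  have hLXG : L ≤ Subgroup.normalizer (XG : Set G) :=
    le_normalizer_inf L _ _ Subgroup.le_normalizer
      (hLUL.trans (Helper49.normalizer_le_normalizer_centralizer UL))
  set M : Subgroup G := XG ⊓ N with hM
  have hLM : L ≤ Subgroup.normalizer (M : Set G) := le_normalizer_inf L _ _ hLXG hLN
  have hML : M ≤ L := inf_le_right.trans hNL
  have hMp : IsPGroup p M := by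
    apply Helper49.isPGroup_of_pprime_elements_trivial
    rintro y ⟨hyX, hyN⟩ hyo
    apply claimA y hyX.1 hyo
    · exact Subgroup.centralizer_le (show (P₁ : Set G) ⊆ UL from hP₁UL) hyX.2
    · exact hyN.2
  -- M ≤ UL
  have hMUL : M ≤ UL := by
    have hMn : (M.subgroupOf L).Normal := by
      rw [Subgroup.normal_subgroupOf_iff_le_normalizer hML]
      exact hLM
    have h1 : M.subgroupOf L ≤ Cfsg.pCore p ↥L :=
      Helper49.le_pCore p _ hMn hMp.comap_subtype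
    intro z hz
    exact ⟨⟨z, hML hz⟩, h1 (Subgroup.mem_subgroupOf.mpr hz), rfl⟩
  -- Q ≤ N
  have hQN : Q ≤ N := by
    intro q hq
    refine ⟨hQL hq, ?_⟩
    intro x hx
    have hxT : x ∈ (T : Subgroup G) := hPT hx.1
    have hxQ : x * q⁻¹ * x⁻¹ ∈ Q := (Subgroup.mem_normalizer_iff.mp (hQn hxT) _).mp (Q.inv_mem hq)
    have e1 : q * x * q⁻¹ * x⁻¹ = q * (x * q⁻¹ * x⁻¹) := by group
    have hcL : q * x * q⁻¹ * x⁻¹ ∈ L := by
      rw [e1]; exact L.mul_mem (hQL hq) (hQL hxQ)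
    have hcP₂ : q * x * q⁻¹ * x⁻¹ ∈ P₂ := by
      have := (Subgroup.mem_normalizer_iff.mp (hLP₂ (hQL hq)) x).mp hx
      exact P₂.mul_mem this (P₂.inv_mem hx)
    exact ⟨⟨hcP₂.1, hcL⟩, hcP₂.2⟩
  -- p'-elements of XG are trivial
  have hXGtriv : ∀ y ∈ XG, (orderOf y).Coprime p → y = 1 := by
    intro y hy hyo
    apply Helper49.pprime_element_trivial_of_charp hG Q hQp
      ((inf_le_inf_right _ hPT).trans hC) y _ hyo
    rw [Subgroup.mem_centralizer_iff]
    intro q hq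
    -- ⁅q, y⁆ ∈ M
    have hqN : q ∈ N := hQN hq
    have hqL : q ∈ L := hQL hq
    have hc1 : q * y * q⁻¹ * y⁻¹ ∈ N := by
      have : y * q⁻¹ * y⁻¹ ∈ N :=
        (Subgroup.mem_normalizer_iff.mp (hLN hy.1) _).mp (N.inv_mem hqN)
      have e : q * y * q⁻¹ * y⁻¹ = q * (y * q⁻¹ * y⁻¹) := by group
      rw [e]; exact N.mul_mem hqN this
    have hc2 : q * y * q⁻¹ * y⁻¹ ∈ XG := by
      have : q * y * q⁻¹ ∈ XG := (Subgroup.mem_normalizer_iff.mp (hLXG hqL) _).mp hy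
      exact XG.mul_mem this (XG.inv_mem hy)
    have hcUL : q * y * q⁻¹ * y⁻¹ ∈ UL := hMUL ⟨hc2, hc1⟩
    have hcomm : (q * y * q⁻¹ * y⁻¹) * y = y * (q * y * q⁻¹ * y⁻¹) :=
      (Subgroup.mem_centralizer_iff.mp hy.2) _ hcUL
    have hcop : (orderOf y).Coprime (Nat.card UL) := by
      obtain ⟨m, hm⟩ := IsPGroup.iff_card.mp hULpG
      rw [hm]; exact Nat.Coprime.pow_right m hyo
    exact Cfsg.Agent.Helper24.commute_of_comm_commute_of_coprime UL q y hcUL hcomm
      (orderOf y) (pow_orderOf_eq_one y) hcop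
  -- conclude
  apply Helper49.le_pCore p _ hXn
  apply Helper49.isPGroup_of_pprime_elements_trivial
  intro y hy hyo
  have hyG : (orderOf (y : G)).Coprime p := by
    rw [Subgroup.orderOf_coe]; exact hyo
  have hyXG : (y : G) ∈ XG := by
    refine Subgroup.mem_inf.mpr ⟨y.2, ?_⟩
    rw [Subgroup.mem_centralizer_iff]
    rintro _ ⟨u, hu, rfl⟩
    have := (Subgroup.mem_centralizer_iff.mp hy) u hu
    have h2 := congrArg Subtype.val this
    simpa using h2
  have := hXGtriv _ hyXG hyG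
  exact Subtype.ext (by simpa using this)

end Cfsg.Agent.S2961
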