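import Cfsg.Statements.S2963

set_option autoImplicit false
open Cfsg
open Pointwise

namespace Cfsg.Agent.S2963

/-- The join of a point stabilizer with a subgroup containing a transposition moving that point is
everything. -/
theorem sup_eq_top {n : ℕ} (a a' : Fin n) (haa' : a ≠ a') (H : Subgroup (Equiv.Perm (Fin n)))
    (hH : Equiv.swap a a' ∈ H) :
    MulAction.stabilizer (Equiv.Perm (Fin n)) a ⊔ H = ⊤ := by
  set K := MulAction.stabilizer (Equiv.Perm (Fin n)) a ⊔ H with hK
  have hstab : ∀ x y : Fin n, x ≠ a → y ≠ a → Equiv.swap x y ∈ K := by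
    intro x y hx hy
    apply Subgroup.mem_sup_left
    rw [MulAction.mem_stabilizer_iff]
    exact Equiv.swap_apply_of_ne_of_ne hx.symm hy.symm
  have hay : ∀ y : Fin n, y ≠ a → Equiv.swap a y ∈ K := by
    intro y hy
    by_cases hya' : y = a'
    · rw [hya']; exact Subgroup.mem_sup_right hH
    · have h1 : Equiv.swap a' y ∈ K := hstab a' y haa'.symm hy
      have h2 : Equiv.swap a a' ∈ K := Subgroup.mem_sup_right hH
      have h3 := K.mul_mem (K.mul_mem h1 h2) (K.inv_mem h1)
      have h4 : Equiv.swap a' y * Equiv.swap a a' * (Equiv.swap a' y)⁻¹ =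
          Equiv.swap (Equiv.swap a' y a) (Equiv.swap a' y a') :=
        (Equiv.swap_apply_apply (Equiv.swap a' y) a a').symm
      rw [h4, Equiv.swap_apply_of_ne_of_ne haa' (Ne.symm hy), Equiv.swap_apply_left] at h3
      exact h3
  rw [eq_top_iff, ← Equiv.Perm.closure_isSwap, Subgroup.closure_le]
  rintro σ ⟨x, y, hxy, rfl⟩
  by_cases hx : x = a
  · subst hx
    exact hay y (Ne.symm hxy)
  · by_cases hy : y = a
    · subst hy
      rw [Equiv.swap_comm]
      exact hay x hx
    · exact hstab x y hx hy

/-- Let n be odd. If the symmetric group of degree n is a minimal parabolic group for the prime 2, that is, a Sylow 2-subgroup is not normal and lies in exactly one maximal subgroup, then n = 2^m + 1 for some natural number m. -/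
theorem result (n : ℕ) (hn : Odd n) (h : Cfsg.IsPMinimal 2 (Equiv.Perm (Fin n))) : ∃ m : ℕ, n = 2 ^ m + 1 := by
  have : Fact (Nat.Prime 2) := ⟨Nat.prime_two⟩
  obtain ⟨S⟩ : Nonempty (Sylow 2 (Equiv.Perm (Fin n))) := inferInstance
  obtain ⟨hSn, M, ⟨hMco, hSM⟩, hMuniq⟩ := h S
  -- S fixes a point
  have hfix : (MulAction.fixedPoints (S : Subgroup (Equiv.Perm (Fin n))) (Fin n)).Nonempty := by
    apply S.isPGroup'.nonempty_fixed_point_of_prime_not_dvd_card
    rw [Nat.card_eq_fintype_card, Fintype.card_fin]
    exact fun h2 => (Nat.not_even_iff_odd.mpr hn) (even_iff_two_dvd.mpr h2)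
  obtain ⟨a, ha⟩ := hfix
  have ha' : ∀ s ∈ (S : Subgroup (Equiv.Perm (Fin n))), s a = a := by
    intro s hs
    exact ha ⟨s, hs⟩
  have hSstab : (S : Subgroup (Equiv.Perm (Fin n))) ≤ MulAction.stabilizer (Equiv.Perm (Fin n)) a := by
    intro s hs
    rw [MulAction.mem_stabilizer_iff]
    exact ha' s hs
  -- another point b
  by_cases hn1 : ∀ b : Fin n, b = a
  · -- n = 1: every subgroup is normal
    exfalso
    apply hSn
    have hsub : Subsingleton (Equiv.Perm (Fin n)) := by
      constructor
      intro σ τ
      ext x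
      rw [hn1 (σ x), hn1 (τ x)]
    constructor
    intro x hx g
    have : g * x * g⁻¹ = x := Subsingleton.elim _ _
    rw [this]; exact hx
  · push Not at hn1
    obtain ⟨b, hba⟩ := hn1
    set B : Set (Fin n) := MulAction.orbit (S : Subgroup (Equiv.Perm (Fin n))) b with hB
    have haB : a ∉ B := by
      rintro ⟨s, hs⟩
      have h1 : (s : Equiv.Perm (Fin n)) b = a := hs
      have h2 : (s : Equiv.Perm (Fin n)) a = a := ha' s s.2
      exact hba ((s : Equiv.Perm (Fin n)).injective (h1.trans h2.symm))
    have hbB : b ∈ B := MulAction.mem_orbit_self b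
    -- card of B is a power of 2
    have hBcard : ∃ j : ℕ, Nat.card B = 2 ^ j := S.isPGroup'.card_orbit b
    obtain ⟨j, hj⟩ := hBcard
    by_cases hall : ∀ x : Fin n, x ≠ a → x ∈ B
    · -- B is the complement of a, so n - 1 = 2 ^ j
      refine ⟨j, ?_⟩
      have hBeq : B = {a}ᶜ := by
        ext x
        constructor
        · intro hx hxa
          exact haB (hxa ▸ hx)
        · intro hx
          exact hall x hx
      have h1 : Nat.card B = n - 1 := by
        rw [hBeq, Nat.card_eq_fintype_card, Fintype.card_compl_set]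
        simp
      have hnpos : 0 < n := Fin.pos a
      omega
    · exfalso
      push Not at hall
      obtain ⟨a', ha'a, ha'B⟩ := hall
      -- the setwise stabilizer of B
      set H : Subgroup (Equiv.Perm (Fin n)) := MulAction.stabilizer (Equiv.Perm (Fin n)) B with hH
      have hSH : (S : Subgroup (Equiv.Perm (Fin n))) ≤ H := by
        intro s hs
        rw [MulAction.mem_stabilizer_iff]
        exact MulAction.smul_orbit (⟨s, hs⟩ : (S : Subgroup (Equiv.Perm (Fin n)))) b
      have hswapH : Equiv.swap a a' ∈ H := by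
        rw [MulAction.mem_stabilizer_iff]
        ext x
        rw [Set.mem_smul_set_iff_inv_smul_mem]
        have hinv : (Equiv.swap a a')⁻¹ • x = Equiv.swap a a' x := by
          rw [Equiv.swap_inv]; rfl
        rw [hinv]
        by_cases hxa : x = a
        · subst hxa
          rw [Equiv.swap_apply_left]
          exact ⟨fun h => absurd h ha'B, fun h => absurd h haB⟩
        · by_cases hxa' : x = a'
          · subst hxa'
            rw [Equiv.swap_apply_right]
            exact ⟨fun h => absurd h haB, fun h => absurd h ha'B⟩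
          · rw [Equiv.swap_apply_of_ne_of_ne hxa hxa']
      have hjoin := sup_eq_top a a' (Ne.symm ha'a) H hswapH
      -- both are proper hence inside coatoms which must be M
      have hstab_ne : MulAction.stabilizer (Equiv.Perm (Fin n)) a ≠ ⊤ := by
        intro htop
        have : Equiv.swap a b ∈ MulAction.stabilizer (Equiv.Perm (Fin n)) a := by
          rw [htop]; exact Subgroup.mem_top _
        rw [MulAction.mem_stabilizer_iff] at this
        have h2 : Equiv.swap a b a = b := Equiv.swap_apply_left a b
        exact hba (h2.symm.trans this)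
      have hH_ne : H ≠ ⊤ := by
        intro htop
        have : Equiv.swap a b ∈ H := by
          rw [htop]; exact Subgroup.mem_top _
        rw [MulAction.mem_stabilizer_iff] at this
        have h2 : a ∈ Equiv.swap a b • B := ⟨b, hbB, Equiv.swap_apply_right a b⟩
        rw [this] at h2
        exact haB h2
      obtain ⟨M₁, hM₁co, hM₁⟩ := (eq_top_or_exists_le_coatom _).resolve_left hstab_ne
      obtain ⟨M₂, hM₂co, hM₂⟩ := (eq_top_or_exists_le_coatom _).resolve_left hH_ne
      have e1 : M₁ = M := hMuniq M₁ ⟨hM₁co, hSstab.trans hM₁⟩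
      have e2 : M₂ = M := hMuniq M₂ ⟨hM₂co, hSH.trans hM₂⟩
      have : (⊤ : Subgroup (Equiv.Perm (Fin n))) ≤ M := by
        rw [← hjoin]
        exact sup_le (e1 ▸ hM₁) (e2 ▸ hM₂)
      exact hMco.1 (top_le_iff.mp this)

end Cfsg.Agent.S2963
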