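import Cfsg.Statements.S2968
import Cfsg.Agent.Lib.Helper49.Isolated

set_option autoImplicit false
open Cfsg

namespace Cfsg.Agent.S2968

open Cfsg.Agent.Helper49

/-- Let G be a finite group, p a prime, P a Sylow p-subgroup of G and x ∈ P an element of p-power order which is isolated in G (the only conjugate of x commuting with x is x itself). Then x lies in the centre of P, and the subgroup generated by x is both strongly closed and weakly closed in P with respect to G. -/
theorem result {G : Type*} [Group G] [Finite G] {p : ℕ} [Fact p.Prime] (P : Sylow p G) (x : G) (hxP : x ∈ (P : Subgroup G)) (hx : ∃ k : ℕ, orderOf x = p ^ k) (hiso : Cfsg.IsIsolated x) : x ∈ (P : Subgroup G) ⊓ Subgroup.centralizer ((P : Subgroup G) : Set G) ∧ Cfsg.IsStronglyClosed (Subgroup.zpowers x) (P : Subgroup G) ∧ Cfsg.IsWeaklyClosed (Subgroup.zpowers x) (P : Subgroup G) := by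
  have hcomm := isolated_commute_of_mem_pgroup hiso (P : Subgroup G) P.2 hxP
  have hzP : Subgroup.zpowers x ≤ (P : Subgroup G) := by
    rw [Subgroup.zpowers_le]; exact hxP
  -- key: any conjugate of an element of ⟨x⟩ lying in P is unchanged
  have key : ∀ y ∈ Subgroup.zpowers x, ∀ g : G, g * y * g⁻¹ ∈ (P : Subgroup G) → g * y * g⁻¹ = y := by
    intro y hy g hgy
    obtain ⟨n, rfl⟩ := Subgroup.mem_zpowers_iff.mp hy
    set y' := g * x ^ n * g⁻¹ with hy'
    -- C = centralizer of y'
    let C : Subgroup G := Subgroup.centralizer ({y'} : Set G)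
    have hxC : x ∈ C := by
      rw [Subgroup.mem_centralizer_iff]
      intro z hz
      rw [Set.mem_singleton_iff] at hz
      subst hz
      exact (hcomm _ hgy).eq.symm
    have hx'C : g * x * g⁻¹ ∈ C := by
      rw [Subgroup.mem_centralizer_iff]
      intro z hz
      rw [Set.mem_singleton_iff] at hz
      subst hz
      have h1 : g * x ^ n * g⁻¹ = (g * x * g⁻¹) ^ n := by
        rw [← conj_zpow]
      rw [hy', h1]
      exact ((Commute.refl (g * x * g⁻¹)).zpow_left n).eq
    obtain ⟨c, hc, hcx⟩ := isolated_fusion hiso hx C hxC g hx'C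
    -- c * g centralizes x, hence x ^ n
    have h2 : (c * g) * x ^ n * (c * g)⁻¹ = x ^ n := by
      rw [← conj_zpow, hcx]
    -- c centralizes y'
    have h3 : c * y' * c⁻¹ = y' := by
      have := (Subgroup.mem_centralizer_iff.mp hc) y' rfl
      calc c * y' * c⁻¹ = (y' * c) * c⁻¹ := by rw [this]
        _ = y' := by group
    calc y' = c * y' * c⁻¹ := h3.symm
      _ = (c * g) * x ^ n * (c * g)⁻¹ := by rw [hy']; group
      _ = x ^ n := h2
  refine ⟨Subgroup.mem_inf.mpr ⟨hxP, ?_⟩, ⟨hzP, ?_⟩, ⟨hzP, ?_⟩⟩
  · rw [Subgroup.mem_centralizer_iff]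
    intro y hy
    exact (hcomm y hy).eq.symm
  · intro y hy g hg
    rw [key y hy g hg]
    exact hy
  · intro g hg
    apply le_antisymm
    · rintro z ⟨y, hy, rfl⟩
      have hzP' : g * y * g⁻¹ ∈ (P : Subgroup G) := hg ⟨y, hy, by simp [MulAut.conj_apply]⟩
      have := key y hy g hzP'
      simp only [MulEquiv.coe_toMonoidHom, MulAut.conj_apply]
      rw [this]
      exact hy
    · intro y hy
      have hzP' : g * y * g⁻¹ ∈ (P : Subgroup G) := hg ⟨y, hy, by simp [MulAut.conj_apply]⟩
      have := key y hy g hzP'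
      exact ⟨y, hy, by simp [MulAut.conj_apply, this]⟩

end Cfsg.Agent.S2968
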