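import Cfsg.Statements.S2971
import Cfsg.Agent.Lib.Helper49.Isolated
import Cfsg.Agent.Lib.Helper49.CyclicSylow
import Cfsg.Agent.Lib.Helper49.UniqueOrderP
import Cfsg.Agent.Lib.Helper49.PPrimeCore

set_option autoImplicit false
open Cfsg

namespace Cfsg.Agent.S2971

open Cfsg.Agent.Helper49

/-- Let G be a finite group and p an odd prime such that G has p-rank at most 1 (no elementary abelian subgroup of order p²). If x ∈ G is an isolated element of order p, then x is central modulo the largest normal subgroup of G of order prime to p. -/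
theorem result {G : Type*} [Group G] [Finite G] {p : ℕ} [Fact p.Prime] (hp : p ≠ 2) (hrk : Cfsg.PRankLE p 1 G) (x : G) (hx : orderOf x = p) (hiso : Cfsg.IsIsolated x) : Cfsg.InZStar p x := by
  have hpp : p.Prime := Fact.out
  have hxp : ∃ k : ℕ, orderOf x = p ^ k := ⟨1, by rw [hx, pow_one]⟩
  have hx1 : x ≠ 1 := by
    intro h
    rw [h, orderOf_one] at hx
    exact hpp.one_lt.ne' hx.symm
  obtain ⟨P, hP⟩ := (isPGroup_zpowers_of_orderOf hxp).exists_le_sylow
  have hxP : x ∈ (P : Subgroup G) := hP (Subgroup.mem_zpowers x)
  have hcomm := isolated_commute_of_mem_pgroup hiso (P : Subgroup G) P.2 hxP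
  -- every element of order p of P lies in ⟨x⟩
  have hkey : ∀ w ∈ (P : Subgroup G), orderOf w = p → w ∈ Subgroup.zpowers x := by
    intro w hwP hw
    set A : Subgroup G := Subgroup.closure {x, w} with hA
    have hxw : x * w = w * x := (hcomm w hwP).eq
    have hAc : IsMulCommutative A := by
      apply Subgroup.isMulCommutative_closure
      intro a ha b hb
      simp only [Set.mem_insert_iff, Set.mem_singleton_iff] at ha hb
      rcases ha with rfl | rfl <;> rcases hb with rfl | rfl
      · rfl
      · exact hxw
      · exact hxw.symm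
      · rfl
    have hAexp : ∀ a ∈ A, a ^ p = 1 := by
      intro a ha
      induction ha using Subgroup.closure_induction with
      | mem z hz =>
        simp only [Set.mem_insert_iff, Set.mem_singleton_iff] at hz
        rcases hz with rfl | rfl
        · rw [← hx]; exact pow_orderOf_eq_one _
        · rw [← hw]; exact pow_orderOf_eq_one _
      | one => simp
      | mul a b ha hb iha ihb =>
        have hab : Commute a b := by
          have := mul_comm' (⟨a, ha⟩ : A) ⟨b, hb⟩
          exact congrArg Subtype.val this
        rw [hab.mul_pow, iha, ihb, one_mul]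
      | inv a _ iha => rw [inv_pow, iha, inv_one]
    have hcard := hrk A hAc hAexp
    rw [pow_one] at hcard
    have hle : Subgroup.zpowers x ≤ A := by
      rw [Subgroup.zpowers_le]
      exact Subgroup.subset_closure (Set.mem_insert x _)
    have hcz : Nat.card (Subgroup.zpowers x) = p := by rw [Nat.card_zpowers, hx]
    have heq : Subgroup.zpowers x = A :=
      Subgroup.eq_of_le_of_card_ge hle (by rw [hcz]; exact hcard)
    rw [heq]
    exact Subgroup.subset_closure (Set.mem_insert_of_mem x rfl)
  -- unique subgroup of order p in P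
  have hU : ∀ y z : (P : Subgroup G), orderOf y = p → orderOf z = p → z ∈ Subgroup.zpowers y := by
    intro y z hy hz
    have hy' : orderOf (y : G) = p := by rw [Subgroup.orderOf_coe]; exact hy
    have hz' : orderOf (z : G) = p := by rw [Subgroup.orderOf_coe]; exact hz
    have h1 := hkey y y.2 hy'
    have h2 := hkey z z.2 hz'
    rw [← mem_powers_iff_mem_zpowers] at h1
    obtain ⟨i, hi⟩ := h1
    replace hi : x ^ i = (y : G) := hi
    have hcop : Nat.Coprime i (orderOf x) := by
      rw [hx, Nat.coprime_comm, Nat.Prime.coprime_iff_not_dvd hpp]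
      rintro ⟨j, rfl⟩
      have : (y : G) = 1 := by
        rw [← hi, pow_mul, ← hx, pow_orderOf_eq_one, one_pow]
      rw [this, orderOf_one] at hy'
      exact hpp.one_lt.ne' hy'.symm
    obtain ⟨m, hm⟩ := exists_pow_eq_self_of_coprime hcop
    have hxy : x ∈ Subgroup.zpowers (y : G) := by
      rw [← hm, hi]; exact Subgroup.pow_mem _ (Subgroup.mem_zpowers _) m
    have hzy : (z : G) ∈ Subgroup.zpowers (y : G) := by
      have : Subgroup.zpowers x ≤ Subgroup.zpowers (y : G) := by
        rw [Subgroup.zpowers_le]; exact hxy
      exact this h2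
    obtain ⟨k, hk⟩ := Subgroup.mem_zpowers_iff.mp hzy
    exact Subgroup.mem_zpowers_iff.mpr ⟨k, Subtype.ext (by simpa using hk)⟩
  have hPp : IsPGroup p (P : Subgroup G) := P.2
  have hcyc : IsCyclic (P : Subgroup G) := by
    have h1 := isCyclic_of_unique_order_p (G := (P : Subgroup G)) hp hU ⊤
      (hPp.to_subgroup ⊤)
    exact (Subgroup.topEquiv (G := (P : Subgroup G))).isCyclic.mp h1
  have hfix : ∀ g ∈ Subgroup.normalizer ((P : Subgroup G) : Set G), g * x * g⁻¹ = x := by
    intro g hg
    have hgx : g * x * g⁻¹ ∈ (P : Subgroup G) := (Subgroup.mem_normalizer_iff.mp hg x).mp hxP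
    exact isolated_conj_eq_of_mem_pgroup hiso (P : Subgroup G) P.2 hxP g hgx
  have hNC := normalizer_le_centralizer_of_cyclic_sylow P hcyc x hxP hx1 hfix
  have hcompl := MonoidHom.ker_transferSylow_isComplement' P hNC
  set N := (MonoidHom.transferSylow P hNC).ker with hN
  have hNle : N ≤ Cfsg.pPrimeCore p G := by
    apply le_pPrimeCore p N inferInstance
    have h1 : Nat.card N = (P : Subgroup G).index := by
      have h2 : Nat.card N * Nat.card (P : Subgroup G) = Nat.card G := hcompl.card_mul_card
      have h3 := Subgroup.card_mul_index (P : Subgroup G)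
      have hpos : 0 < Nat.card (P : Subgroup G) := Nat.card_pos
      rw [mul_comm] at h2
      exact Nat.eq_of_mul_eq_mul_left hpos (h2.trans h3.symm)
    rw [h1]
    exact ((Nat.Prime.coprime_iff_not_dvd hpp).mpr P.not_dvd_index).symm
  intro g
  apply hNle
  -- the quotient G ⧸ N is abelian
  rw [hN, MonoidHom.mem_ker]
  have hcommP : ∀ a b : (P : Subgroup G), a * b = b * a := by
    intro a b
    have h1 : ∀ u v : (P : Subgroup G), u * v = v * u := by
      obtain ⟨c, hc⟩ := hcyc.exists_generator
      intro u v
      obtain ⟨i, rfl⟩ := Subgroup.mem_zpowers_iff.mp (hc u)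
      obtain ⟨j, rfl⟩ := Subgroup.mem_zpowers_iff.mp (hc v)
      exact ((Commute.refl c).zpow_zpow i j).eq
    exact h1 a b
  simp only [map_mul, map_inv]
  rw [hcommP ((MonoidHom.transferSylow P hNC) g) ((MonoidHom.transferSylow P hNC) x)]
  group

end Cfsg.Agent.S2971
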