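import Cfsg.Statements.S2975
import Cfsg.Agent.Lib.Helper49.ZStar

set_option autoImplicit false
open Cfsg

namespace Cfsg.Agent.S2975

open Cfsg.Agent.Helper49

theorem sylow_map_conj_eq {G : Type*} [Group G] {q : ℕ} (S₁ S₂ : Sylow q G) (g : G) (h : g • S₁ = S₂) :
    (S₁ : Subgroup G).map (MulAut.conj g).toMonoidHom = (S₂ : Subgroup G) := by
  rw [← h]
  rfl

/-- the `q ≠ p` part of the first claim -/
theorem partA {G : Type*} [Group G] [Finite G] {p : ℕ} [Fact p.Prime] (x : G) (hx : orderOf x = p)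
    (hO : Cfsg.pPrimeCore p G = ⊥)
    (hmin : ∀ (H : Subgroup G) (hxH : x ∈ H), H ≠ ⊤ → Cfsg.InZStar p (⟨x, hxH⟩ : ↥H))
    (q : ℕ) [Fact q.Prime] (hqp : q ≠ p)
    (Q : Subgroup G) (hQ : IsPGroup q ↥Q) (hxQ : x ∈ Subgroup.normalizer (Q : Set G))
    (hmax : ∀ R : Subgroup G, IsPGroup q ↥R → x ∈ Subgroup.normalizer (R : Set G) → Q ≤ R → R = Q)
    (hQ1 : Q ≠ ⊥) : ∃ S : Sylow q G, (S : Subgroup G) = Q := by
  obtain ⟨S, hQS⟩ := hQ.exists_le_sylow
  by_contra hne
  have hQS' : Q < (S : Subgroup G) := lt_of_le_of_ne hQS (fun h => hne ⟨S, h.symm⟩)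
  obtain ⟨n, hnS, hnN, hnQ⟩ := exists_mem_normalizer_not_mem (S : Subgroup G) Q S.2 hQS'
  -- R = S ⊓ N(Q)
  set H : Subgroup G := Subgroup.normalizer (Q : Set G) with hH
  set R : Subgroup G := (S : Subgroup G) ⊓ H with hR
  have hRq : IsPGroup q R := S.2.to_le inf_le_left
  have hQR : Q ≤ R := le_inf hQS Subgroup.le_normalizer
  have hnR : n ∈ R := Subgroup.mem_inf.mpr ⟨hnS, hnN⟩
  have hp : p.Prime := Fact.out
  have hqprime : q.Prime := Fact.out
  have hcop_of_q : ∀ A : Subgroup G, IsPGroup q A → (Nat.card A).Coprime p := by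
    intro A hA
    obtain ⟨k, hk⟩ := hA.exists_card_eq
    rw [hk]
    exact Nat.Coprime.pow_left _ ((Nat.coprime_primes hqprime hp).mpr hqp)
  -- H ≠ ⊤
  have hHtop : H ≠ ⊤ := by
    intro htop
    have hQn : Q.Normal := Subgroup.normalizer_eq_top_iff.mp htop
    have := le_pPrimeCore p Q hQn (hcop_of_q Q hQ)
    rw [hO] at this
    exact hQ1 (le_bot_iff.mp this)
  have hxH : x ∈ H := hxQ
  have hZ := hmin H hxH hHtop
  set D : Subgroup G := (Cfsg.pPrimeCore p H).map H.subtype with hD
  have hDH : D ≤ H := by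
    rintro y ⟨k, -, rfl⟩; exact k.2
  have hDconj : ∀ h ∈ H, ∀ d ∈ D, h * d * h⁻¹ ∈ D := by
    intro h hh d hd
    exact conj_mem_map_pPrimeCore p H h (Subgroup.le_normalizer hh) d hd
  have hDcop : (Nat.card D).Coprime p := by
    rw [hD, card_map_subtype]
    exact pPrimeCore_card_coprime p
  have hRD : R ≤ Subgroup.normalizer (D : Set G) := by
    intro r hr
    apply mem_normalizer_of_conj_le
    intro d hd
    exact hDconj r (Subgroup.mem_inf.mp hr).2 d hd
  set Y : Subgroup G := R ⊔ D with hY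
  have hYH : Y ≤ H := sup_le inf_le_right hDH
  have hYcop : ¬ p ∣ Nat.card Y := by
    have h1 : (Nat.card Y).Coprime p :=
      Nat.Coprime.coprime_dvd_left (card_sup_dvd_mul' R D hRD)
        (Nat.Coprime.mul_left (hcop_of_q R hRq) hDcop)
    intro hdvd
    have := Nat.Coprime.eq_one_of_dvd h1.symm hdvd
    exact hp.one_lt.ne' this
  -- x normalizes Y
  have hxY : x ∈ Subgroup.normalizer (Y : Set G) := by
    apply mem_normalizer_of_conj_le
    intro y hy
    have hy' : y ∈ Subgroup.closure ((R : Set G) ∪ (D : Set G)) := by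
      rw [Subgroup.closure_union, Subgroup.closure_eq, Subgroup.closure_eq]; exact hy
    clear hy
    induction hy' using Subgroup.closure_induction with
    | mem z hz =>
      rcases hz with hr | hd
      · have hrH : z ∈ H := (Subgroup.mem_inf.mp hr).2
        have h1 := hZ ⟨z⁻¹, H.inv_mem hrH⟩
        have h2 : z⁻¹ * x * z * x⁻¹ ∈ D := by
          refine ⟨_, h1, ?_⟩
          simp
        have h3 : x * z * x⁻¹ = z * (z⁻¹ * x * z * x⁻¹) := by group
        rw [h3]
        exact Y.mul_mem (Subgroup.mem_sup_left hr) (Subgroup.mem_sup_right h2)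
      · exact Subgroup.mem_sup_right (hDconj x hxH z hd)
    | one => simp
    | mul a b _ _ iha ihb =>
      have : x * (a * b) * x⁻¹ = (x * a * x⁻¹) * (x * b * x⁻¹) := by group
      rw [this]
      exact Y.mul_mem iha ihb
    | inv a _ iha =>
      have : x * a⁻¹ * x⁻¹ = (x * a * x⁻¹)⁻¹ := by group
      rw [this]
      exact Y.inv_mem iha
  have hxp : ∃ k : ℕ, orderOf x = p ^ k := ⟨1, by rw [hx, pow_one]⟩
  obtain ⟨SY, hSY⟩ := exists_sylow_normalized q Y hYcop x hxY hxp
  set R' : Subgroup G := (SY : Subgroup Y).map Y.subtype with hR'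
  have hR'q : IsPGroup q R' := SY.2.map _
  -- Q ≤ R'
  have hQY : Q ≤ Y := hQR.trans le_sup_left
  have hQnormal : (Q.subgroupOf Y).Normal := Subgroup.normal_subgroupOf_of_le_normalizer hYH
  have hQ'q : IsPGroup q (Q.subgroupOf Y) := hQ.comap_subtype
  have hQ'SY : Q.subgroupOf Y ≤ (SY : Subgroup Y) := by
    have h1 : IsPGroup q ((Q.subgroupOf Y) ⊔ (SY : Subgroup Y) : Subgroup Y) :=
      hQ'q.to_sup_of_normal_left SY.2
    have h2 := SY.3 h1 le_sup_right
    rw [← h2]
    exact le_sup_left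
  have hQR' : Q ≤ R' := by
    intro y hy
    exact ⟨⟨y, hQY hy⟩, hQ'SY (Subgroup.mem_subgroupOf.mpr hy), rfl⟩
  have hR'Q : R' = Q := hmax R' hR'q hSY hQR'
  -- hence SY = Q.subgroupOf Y is normal, and contains R.subgroupOf Y
  have hSYeq : (SY : Subgroup Y) = Q.subgroupOf Y := by
    apply le_antisymm _ hQ'SY
    intro y hy
    rw [Subgroup.mem_subgroupOf, ← hR'Q]
    exact ⟨y, hy, rfl⟩
  have hR'' : IsPGroup q (R.subgroupOf Y) := hRq.comap_subtype
  have hRSY : R.subgroupOf Y ≤ (SY : Subgroup Y) := by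
    have h1 : IsPGroup q ((R.subgroupOf Y) ⊔ (SY : Subgroup Y) : Subgroup Y) := by
      rw [hSYeq]
      exact hR''.to_sup_of_normal_right hQ'q
    have h2 := SY.3 h1 le_sup_right
    rw [← h2]
    exact le_sup_left
  have hnY : n ∈ Y := Subgroup.mem_sup_left hnR
  have : (⟨n, hnY⟩ : Y) ∈ (SY : Subgroup Y) := hRSY (Subgroup.mem_subgroupOf.mpr hnR)
  rw [hSYeq, Subgroup.mem_subgroupOf] at this
  exact hnQ this

/-- Let G be a finite group, p a prime and x ∈ G an isolated element of order p (the only conjugate of x commuting with x is x) which is not central modulo the largest normal subgroup of order prime to p, while x is central modulo the largest normal subgroup of order prime to p in every proper subgroup containing x, and the image of x is so in every quotient of G by a nontrivial normal subgroup (a minimal counterexample to the Z*_p statement). Then for every prime q, every q-subgroup of G that is normalized by x and maximal among the q-subgroups normalized by x is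 either trivial or a Sylow q-subgroup of G; and C_G(x) permutes the x-invariant Sylow q-subgroups of G transitively by conjugation. -/
theorem result {G : Type*} [Group G] [Finite G] {p : ℕ} [Fact p.Prime] (x : G) (hx : orderOf x = p) (hiso : Cfsg.IsIsolated x) (hnz : ¬ Cfsg.InZStar p x) (hmin : ∀ (H : Subgroup G) (hxH : x ∈ H), H ≠ ⊤ → Cfsg.InZStar p (⟨x, hxH⟩ : ↥H)) (hquot : ∀ (N : Subgroup G) [N.Normal], N ≠ ⊥ → Cfsg.InZStar p (QuotientGroup.mk x : G ⧸ N)) (q : ℕ) [Fact q.Prime] : (∀ Q : Subgroup G, IsPGroup q ↥Q → x ∈ Subgroup.normalizer (Q : Set G) → (∀ R : Subgroup G, IsPGroup q ↥R → x ∈ Subgroup.normalizer (R : Set G) → Q ≤ R → R = Q) → Q = ⊥ ∨ ∃ S : Sylow q G, (S : Subgroup G) = Q) ∧ (∀ S₁ S₂ : Sylow q G, x ∈ Subgroup.normalizer ((S₁ : Subgroup G) : Set G) → x ∈ Subgroup.normalizer ((S₂ : Subgroup G) : Set G) → ∃ c ∈ Subgroup.centralizer ({x} : Set G), (S₁ : Subgroup G).map (MulAut.conj c).toMonoidHom = (S₂ : Subgroup G)) := by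
  have hxp : ∃ k : ℕ, orderOf x = p ^ k := ⟨1, by rw [hx, pow_one]⟩
  have hO := pPrimeCore_eq_bot_of_min x hnz hquot
  constructor
  · intro Q hQ hxQ hmax
    by_cases hqp : q = p
    · subst hqp
      right
      -- x ∈ Q
      have h1 : IsPGroup q ((Subgroup.zpowers x) ⊔ Q : Subgroup G) :=
        (isPGroup_zpowers_of_orderOf hxp).to_sup_of_normal_right' hQ
          (by rw [Subgroup.zpowers_le]; exact hxQ)
      have h2 : x ∈ Subgroup.normalizer (((Subgroup.zpowers x) ⊔ Q : Subgroup G) : Set G) :=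
        Subgroup.le_normalizer (Subgroup.mem_sup_left (Subgroup.mem_zpowers x))
      have h3 := hmax _ h1 h2 le_sup_right
      have hxQ' : x ∈ Q := by
        rw [← h3]; exact Subgroup.mem_sup_left (Subgroup.mem_zpowers x)
      obtain ⟨S, hQS⟩ := hQ.exists_le_sylow
      exact ⟨S, hmax S S.2 (Subgroup.le_normalizer (hQS hxQ')) hQS⟩
    · by_cases hQ1 : Q = ⊥
      · left; exact hQ1
      · right
        exact partA x hx hO hmin q hqp Q hQ hxQ hmax hQ1
  · intro S₁ S₂ h1 h2
    obtain ⟨g, hg⟩ := MulAction.exists_smul_eq G S₁ S₂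
    have hmap := sylow_map_conj_eq S₁ S₂ g hg
    have hgx : g * x * g⁻¹ ∈ Subgroup.normalizer ((S₂ : Subgroup G) : Set G) := by
      apply mem_normalizer_of_conj_le
      intro y hy
      rw [← hmap] at hy ⊢
      obtain ⟨s, hs, rfl⟩ := hy
      refine ⟨x * s * x⁻¹, (Subgroup.mem_normalizer_iff.mp h1 s).mp hs, ?_⟩
      simp only [MulEquiv.coe_toMonoidHom, MulAut.conj_apply]
      group
    obtain ⟨c, hc, hcx⟩ := isolated_fusion hiso hxp _ h2 g hgx
    refine ⟨c * g, ?_, ?_⟩
    · rw [Subgroup.mem_centralizer_iff]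
      intro y hy
      rw [Set.mem_singleton_iff] at hy
      subst hy
      calc y * (c * g) = ((c * g) * y * (c * g)⁻¹) * (c * g) := by rw [hcx]
        _ = (c * g) * y := by group
    · have hc' : c • S₂ = S₂ := Sylow.smul_eq_iff_mem_normalizer.mpr hc
      have : (c * g) • S₁ = S₂ := by rw [mul_smul, hg, hc']
      exact sylow_map_conj_eq S₁ S₂ (c * g) this

end Cfsg.Agent.S2975
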