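import Cfsg.Statements.S2998
import Cfsg.Agent.Lib.Helper33.Syl

set_option autoImplicit false
open Cfsg
open Pointwise

namespace Cfsg.Agent.S2998

open Cfsg.Agent.Helper33

/-- `|AN : A| = |N : A ∩ N|` for a normal subgroup `N` of a finite group. -/
theorem relIndex_sup_normal {G : Type*} [Group G] [Finite G] (A N : Subgroup G) [N.Normal] :
    A.relIndex (A ⊔ N) = (A ⊓ N).relIndex N := by
  have h1 : (A ⊓ N).relIndex A * A.relIndex (A ⊔ N) = (A ⊓ N).relIndex (A ⊔ N) :=
    Subgroup.relIndex_mul_relIndex _ _ _ inf_le_left le_sup_left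
  have h2 : (A ⊓ N).relIndex N * N.relIndex (A ⊔ N) = (A ⊓ N).relIndex (A ⊔ N) :=
    Subgroup.relIndex_mul_relIndex _ _ _ inf_le_right le_sup_right
  have h3 : N.relIndex (A ⊔ N) = (A ⊓ N).relIndex A := by
    rw [Subgroup.relIndex_sup_right, Subgroup.inf_relIndex_left]
  rw [h3, ← h1, mul_comm] at h2
  have hne : (A ⊓ N).relIndex A ≠ 0 :=
    ne_zero_of_dvd_ne_zero Nat.card_pos.ne' (Subgroup.relIndex_dvd_card _ _)
  exact (Nat.eq_of_mul_eq_mul_left (Nat.pos_of_ne_zero hne) h2).symm

theorem result {G : Type*} [Group G] [Finite G] {p : ℕ} [Fact p.Prime] (P : Sylow p G) (x : G) (hxP : x ∈ (P : Subgroup G)) (hlc : ∀ R : Subgroup G, R ≤ (P : Subgroup G) → R ≠ ⊥ → Subgroup.normalizer (R : Set G) ≤ Subgroup.centralizer ({x} : Set G)) : (P : Subgroup G) ≤ Subgroup.centralizer ({x} : Set G) ∧ (∀ g : G, g * x * g⁻¹ ∈ (P : Subgroup G) → g * x * g⁻¹ = x) ∧ ∀ (N : Subgroup G) [N.Normal], ∀ R : Subgroup (G ⧸ N), R ≤ (P : Subgroup G).map (QuotientGroup.mk' N) → R ≠ ⊥ → Subgroup.normalizer (R : Set (G ⧸ N))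 ≤ Subgroup.centralizer ({(QuotientGroup.mk x : G ⧸ N)} : Set (G ⧸ N)) := by
  -- Part 1
  have hPC : (P : Subgroup G) ≤ Subgroup.centralizer ({x} : Set G) := by
    by_cases hP : (P : Subgroup G) = ⊥
    · rw [hP]
      exact bot_le
    · exact Subgroup.le_normalizer.trans (hlc _ le_rfl hP)
  refine ⟨hPC, ?_, ?_⟩
  · -- Part 2
    intro g hy
    by_cases hx1 : x = 1
    · rw [hx1]
      simp
    set y := g * x * g⁻¹ with hydef
    have hy1 : y ≠ 1 := by
      intro h
      apply hx1
      have : x = g⁻¹ * y * g := by rw [hydef]; group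
      rw [this, h]
      group
    have hP : (P : Subgroup G) ≠ ⊥ := by
      intro h
      rw [h, Subgroup.mem_bot] at hxP
      exact hx1 hxP
    -- `C(y) ≤ C(x)`
    have hCy : Subgroup.centralizer ({y} : Set G) ≤ Subgroup.centralizer ({x} : Set G) := by
      have hz : Subgroup.zpowers y ≤ (P : Subgroup G) := by
        rw [Subgroup.zpowers_le]
        exact hy
      have hz1 : Subgroup.zpowers y ≠ ⊥ := by
        rw [Ne, Subgroup.zpowers_eq_bot]
        exact hy1
      refine le_trans ?_ (hlc _ hz hz1)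
      intro c hc
      rw [Subgroup.mem_centralizer_singleton_iff] at hc
      rw [Subgroup.mem_normalizer_iff]
      intro w
      have hcomm : ∀ v ∈ Subgroup.zpowers y, c * v * c⁻¹ = v := by
        intro v hv
        obtain ⟨k, rfl⟩ := Subgroup.mem_zpowers_iff.mp hv
        have : Commute c (y ^ k) := (Commute.zpow_right (show Commute c y from hc) k)
        rw [this.eq]
        group
      constructor
      · intro hw
        rw [hcomm w hw]
        exact hw
      · intro hw
        have h1 := hcomm _ hw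
        have h2 : w = c⁻¹ * (c * w * c⁻¹) * c := by group
        have h3 : c⁻¹ * (c * w * c⁻¹) * c = c * w * c⁻¹ := by
          have hc' : Commute c⁻¹ (c * w * c⁻¹) := by
            have : Commute c (c * w * c⁻¹) := by
              rw [Commute, SemiconjBy]
              calc c * (c * w * c⁻¹) = c * (c * w * c⁻¹) * c⁻¹ * c := by group
                _ = (c * w * c⁻¹) * c := by rw [h1]
            exact this.inv_left
          rw [hc'.eq]
          group
        rw [h2, h3]
        exact hw
    -- `g P g⁻¹ ≤ C(x)`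
    have hgP : ((g • P : Sylow p G) : Subgroup G) ≤ Subgroup.centralizer ({x} : Set G) := by
      refine le_trans ?_ hCy
      intro w hw
      rw [Sylow.coe_subgroup_smul, mem_conj_smul] at hw
      have h1 := hPC hw
      rw [Subgroup.mem_centralizer_singleton_iff] at h1 ⊢
      -- h1 : x * (g⁻¹ w g) = (g⁻¹ w g) * x ... orientation handled by `calc`
      rw [hydef]
      calc w * (g * x * g⁻¹) = g * ((g⁻¹ * w * g) * x) * g⁻¹ := by group
        _ = g * (x * (g⁻¹ * w * g)) * g⁻¹ := by rw [h1]
        _ = g * x * g⁻¹ * w := by group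
    -- Sylow conjugacy in `C(x)`
    set C := Subgroup.centralizer ({x} : Set G) with hC
    obtain ⟨c, hc⟩ := MulAction.exists_smul_eq C ((g • P).subtype hgP) (P.subtype hPC)
    rw [Sylow.smul_subtype hgP c] at hc
    have hc' : (c • (g • P) : Sylow p G) = P := Sylow.subtype_injective hc
    have hc'' : ((c : G) * g) • P = P := by
      rw [mul_smul]
      exact hc'
    have hn : (c : G) * g ∈ Subgroup.normalizer ((P : Subgroup G) : Set G) :=
      Sylow.smul_eq_iff_mem_normalizer.mp hc''
    have hcg : (c : G) * g ∈ C := hlc _ le_rfl hP hn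
    have hg : g ∈ C := by
      have : g = (c : G)⁻¹ * ((c : G) * g) := by group
      rw [this]
      exact C.mul_mem (C.inv_mem c.2) hcg
    rw [hC, Subgroup.mem_centralizer_singleton_iff] at hg
    rw [hydef, hg]
    group
  · -- Part 3
    intro N _ R hRP hR1
    set π := QuotientGroup.mk' N with hπ
    set L := R.comap π with hL
    set R₀ := (P : Subgroup G) ⊓ L with hR₀
    have hNL : N ≤ L := by
      intro n hn
      show π n ∈ R
      have : π n = 1 := (QuotientGroup.eq_one_iff n).mpr hn
      rw [this]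
      exact R.one_mem
    -- `L = R₀ N`
    have hcover : ∀ l ∈ L, ∃ s ∈ R₀, s⁻¹ * l ∈ N := by
      intro l hl
      obtain ⟨s, hs, hsl⟩ := hRP (show π l ∈ R from hl)
      have hsL : s ∈ L := by
        show π s ∈ R
        rw [hsl]
        exact hl
      refine ⟨s, Subgroup.mem_inf.mpr ⟨hs, hsL⟩, ?_⟩
      rw [← QuotientGroup.eq_one_iff, ← QuotientGroup.mk'_apply, ← hπ, map_mul, map_inv, hsl]
      group
    have hLsup : L = R₀ ⊔ N := by
      apply le_antisymm
      · intro l hl
        obtain ⟨s, hs, hsl⟩ := hcover l hl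
        have : l = s * (s⁻¹ * l) := by group
        rw [this]
        exact Subgroup.mul_mem _ (Subgroup.mem_sup_left hs) (Subgroup.mem_sup_right hsl)
      · exact sup_le inf_le_right hNL
    -- `R₀ ≠ ⊥`
    have hR₀ne : R₀ ≠ ⊥ := by
      intro h
      apply hR1
      rw [eq_bot_iff]
      intro r hr
      obtain ⟨l, rfl⟩ := QuotientGroup.mk'_surjective N r
      obtain ⟨s, hs, hsl⟩ := hcover l hr
      rw [h, Subgroup.mem_bot] at hs
      rw [hs] at hsl
      rw [Subgroup.mem_bot]
      apply (QuotientGroup.eq_one_iff l).mpr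
      simpa using hsl
    have hR₀C : Subgroup.normalizer (R₀ : Set G) ≤ Subgroup.centralizer ({x} : Set G) :=
      hlc R₀ inf_le_left hR₀ne
    -- `R₀` is a Sylow subgroup of `L`
    have hndvd : ¬ p ∣ ((P : Subgroup G) ⊓ N).relIndex N := by
      rw [← relIndex_sup_normal]
      intro h
      exact P.not_dvd_index (h.trans (Subgroup.relIndex_dvd_index_of_le le_sup_left))
    have hSyl : IsSylIn p R₀ L := by
      refine ⟨inf_le_right, P.2.to_le inf_le_left, ?_⟩
      have h1 : R₀ ⊓ N = (P : Subgroup G) ⊓ N := by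
        rw [hR₀, inf_assoc, inf_eq_right.mpr hNL]
      have h2 : R₀.relIndex L = R₀.relIndex (R₀ ⊔ N) := by rw [← hLsup]
      rw [h2, relIndex_sup_normal, h1]
      exact hndvd
    -- main argument
    intro gbar hgbar
    obtain ⟨g, rfl⟩ := QuotientGroup.mk'_surjective N gbar
    have hgL : g ∈ Subgroup.normalizer (L : Set G) := by
      rw [Subgroup.mem_normalizer_iff] at hgbar ⊢
      intro l
      have := hgbar (π l)
      show π l ∈ R ↔ π (g * l * g⁻¹) ∈ R
      rw [map_mul, map_mul, map_inv]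
      exact this
    have hSyl' := hSyl.conj g
    rw [smul_eq_of_mem_normalizer hgL] at hSyl'
    obtain ⟨l, hl, hlconj⟩ := hSyl.exists_conj_eq hSyl'
    rw [← conj_mul_smul] at hlconj
    have hlg : l * g ∈ Subgroup.normalizer (R₀ : Set G) := mem_normalizer_iff_smul_eq.mpr hlconj
    have hlgC := hR₀C hlg
    obtain ⟨s, hs, hsl⟩ := hcover l hl
    have hsC : s ∈ Subgroup.centralizer ({x} : Set G) := hPC (Subgroup.mem_inf.mp hs).1
    -- `π g = π (s⁻¹ * (l * g))`
    have hπg : π g = π (s⁻¹ * (l * g)) := by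
      have : s⁻¹ * (l * g) = (s⁻¹ * l) * g := by group
      have h1 : π (s⁻¹ * l) = 1 := (QuotientGroup.eq_one_iff _).mpr hsl
      rw [this, map_mul, h1, one_mul]
    have hmem : s⁻¹ * (l * g) ∈ Subgroup.centralizer ({x} : Set G) :=
      Subgroup.mul_mem _ (Subgroup.inv_mem _ hsC) hlgC
    rw [hπg]
    rw [Subgroup.mem_centralizer_singleton_iff] at hmem ⊢
    show π (s⁻¹ * (l * g)) * π x = π x * π (s⁻¹ * (l * g))
    rw [← map_mul, ← map_mul, hmem]

end Cfsg.Agent.S2998
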