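import Cfsg.Statements.S3003
import Cfsg.Agent.Lib.Helper50.Hyperplane
-- import your own Cfsg.Agent.* helpers here

set_option autoImplicit false
open Cfsg

namespace Cfsg.Agent.S3003

/-- Part 1 for a single element. -/
theorem part_one {G : Type*} [Group G] [Finite G] {p : ℕ} [Fact p.Prime] (Q : Subgroup G)
    (hQp : IsPGroup p ↥Q) (hlarge : Cfsg.IsLarge Q) (G₁ : Subgroup G) (hQG : Q ≤ G₁)
    (R : Subgroup G) (hR : (Nat.card ↥R).Coprime p)
    (hGR : G₁ ≤ Subgroup.normalizer (R : Set G)) (U : Subgroup G)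
    (h : ∃ x ∈ U, x ≠ 1 ∧ ∃ g ∈ G₁, g * x * g⁻¹ ∈ Q ⊓ Subgroup.centralizer (Q : Set G)) :
    R ⊓ Subgroup.centralizer (U : Set G) = ⊥ := by
  obtain ⟨x, hxU, hx1, g, hg, hz⟩ := h
  set z := g * x * g⁻¹ with hzdef
  have hz1 : z ≠ 1 := by
    intro h1
    apply hx1
    have : x = g⁻¹ * z * g := by rw [hzdef]; group
    rw [this, h1]; group
  have hQR : Q ⊓ R = ⊥ := by
    apply Subgroup.inf_eq_bot_of_coprime
    obtain ⟨n, hn⟩ := IsPGroup.iff_card.mp hQp
    rw [hn]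
    exact Nat.Coprime.pow_left n hR.symm
  -- centralizer of `z` in `R` is trivial
  have hCz : ∀ c ∈ R, c * z = z * c → c = 1 := by
    intro c hcR hcz
    have hzp : Subgroup.zpowers z ≤ Subgroup.centralizer (Q : Set G) :=
      Subgroup.zpowers_le.mpr hz.2
    have hzne : Subgroup.zpowers z ≠ ⊥ := by
      intro h1
      exact hz1 (Subgroup.zpowers_eq_bot.mp h1)
    have hN := hlarge.2 _ hzp hzne
    have hcN : c ∈ Subgroup.normalizer (Q : Set G) := by
      apply hN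
      apply Subgroup.mem_normalizer_fintype
      rintro y ⟨k, rfl⟩
      have hc : Commute c z := hcz
      have : c * z ^ k * c⁻¹ = z ^ k := by
        have := (hc.zpow_right k).eq
        rw [this]; group
      rw [this]
      exact ⟨k, rfl⟩
    have hcent : c ∈ Subgroup.centralizer (Q : Set G) := by
      intro q hq
      have h1 : c * q⁻¹ * c⁻¹ ∈ Q :=
        (Subgroup.mem_normalizer_iff.mp hcN q⁻¹).mp (Q.inv_mem hq)
      have h2 : q * c * q⁻¹ ∈ R :=
        (Subgroup.mem_normalizer_iff.mp (hGR (hQG hq)) c).mp hcR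
      have h3 : q * c * q⁻¹ * c⁻¹ ∈ Q ⊓ R := by
        refine ⟨?_, R.mul_mem h2 (R.inv_mem hcR)⟩
        have : q * c * q⁻¹ * c⁻¹ = q * (c * q⁻¹ * c⁻¹) := by group
        rw [this]
        exact Q.mul_mem hq h1
      rw [hQR, Subgroup.mem_bot] at h3
      calc q * c = (q * c * q⁻¹ * c⁻¹) * (c * q) := by group
        _ = c * q := by rw [h3, one_mul]
    have : c ∈ Q ⊓ R := ⟨hlarge.1 hcent, hcR⟩
    rw [hQR, Subgroup.mem_bot] at this
    exact this
  rw [Subgroup.eq_bot_iff_forall]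
  intro r hr
  have hrR : r ∈ R := hr.1
  have hrx : x * r = r * x := hr.2 x hxU
  have hgrR : g * r * g⁻¹ ∈ R := (Subgroup.mem_normalizer_iff.mp (hGR hg) r).mp hrR
  have hcomm : (g * r * g⁻¹) * z = z * (g * r * g⁻¹) := by
    rw [hzdef]
    calc g * r * g⁻¹ * (g * x * g⁻¹) = g * (r * x) * g⁻¹ := by group
      _ = g * (x * r) * g⁻¹ := by rw [hrx]
      _ = g * x * g⁻¹ * (g * r * g⁻¹) := by group
  have h1 := hCz _ hgrR hcomm
  have : r = g⁻¹ * (g * r * g⁻¹) * g := by group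
  rw [this, h1]; group

/-- Let G be a finite group, p a prime and Q a large p-subgroup of G: C_G(Q) ≤ Q and N_G(U) ≤ N_G(Q) for every nontrivial subgroup U of C_G(Q). Let Q ≤ G₁ ≤ G, let R be a subgroup of order prime to p normalized by G₁, and let U ≤ G₁ be a p-subgroup. If U contains a nontrivial element which is G₁-conjugate to an element of Z(Q), then C_R(U) = 1. In particular, if U is elementary abelian of order at least p² and every maximal subgroup of U contains a nontrivial element G₁-conjugate into Z(Q), then R = 1. -/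
theorem result {G : Type*} [Group G] [Finite G] {p : ℕ} [Fact p.Prime] (Q : Subgroup G) (hQp : IsPGroup p ↥Q) (hlarge : Cfsg.IsLarge Q) (G₁ : Subgroup G) (hQG : Q ≤ G₁) (R : Subgroup G) (hR : (Nat.card ↥R).Coprime p) (hGR : G₁ ≤ Subgroup.normalizer (R : Set G)) (U : Subgroup G) (hUG : U ≤ G₁) (hUp : IsPGroup p ↥U) : ((∃ x ∈ U, x ≠ 1 ∧ ∃ g ∈ G₁, g * x * g⁻¹ ∈ Q ⊓ Subgroup.centralizer (Q : Set G)) → R ⊓ Subgroup.centralizer (U : Set G) = ⊥) ∧ (Cfsg.IsElementaryAbelian p U → p ^ 2 ≤ Nat.card ↥U → (∀ U₀ : Subgroup G, U₀ ≤ U → IsCoatom (U₀.subgroupOf U) → ∃ x ∈ U₀, x ≠ 1 ∧ ∃ g ∈ G₁, g * x * g⁻¹ ∈ Q ⊓ Subgroup.centralizer (Q : Set G)) → R = ⊥) := by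
  refine ⟨part_one Q hQp hlarge G₁ hQG R hR hGR U, ?_⟩
  intro hEA hcard hmax
  by_contra hR1
  have hUc : ∀ x ∈ U, ∀ y ∈ U, x * y = y * x := by
    intro x hx y hy
    have := hEA.1.is_comm.comm (⟨x, hx⟩ : U) ⟨y, hy⟩
    exact congrArg Subtype.val this
  obtain ⟨Y, hYU, hYcard, hYfix⟩ := Helper50.exists_hyperplane_fixed U R hUc hEA.2 hcard
    (hUG.trans hGR) hR hR1
  have hco := Helper50.isCoatom_subgroupOf_of_card (Fact.out : p.Prime) hYU hYcard
  exact hYfix (part_one Q hQp hlarge G₁ hQG R hR hGR Y (hmax Y hYU hco))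

end Cfsg.Agent.S3003
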