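import Cfsg.Statements.S3011
import Cfsg.Agent.Lib.Helper50.Sidki
import Cfsg.Agent.Lib.Helper67.BaerSuzuki
-- import your own Cfsg.Agent.* helpers here

set_option autoImplicit false
open Cfsg

namespace Cfsg.Agent.S3011

open Cfsg.Agent.Helper50

variable {G : Type*} [Group G]

theorem orderOf_conj' (k h : G) : orderOf (k * h * k⁻¹) = orderOf h := by
  have := (MulAut.conj k).orderOf_eq h
  rwa [MulAut.conj_apply] at this

theorem eq_one_of_inv_eq_self {x : G} (hx : Odd (orderOf x)) (h : x⁻¹ = x) : x = 1 := by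
  have h2 : x ^ 2 = 1 := by
    rw [pow_two]
    nth_rewrite 1 [← h]
    exact inv_mul_cancel x
  have h3 : orderOf x ∣ 2 := orderOf_dvd_of_pow_eq_one h2
  have h4 : orderOf x = 1 := by
    rcases (Nat.dvd_prime Nat.prime_two).mp h3 with h5 | h5
    · exact h5
    · rw [h5] at hx; exact absurd hx (by decide)
  exact orderOf_eq_one_iff.mp h4

/-- An element of odd order cannot invert a nontrivial element of odd order. -/
theorem eq_one_of_odd_inverts {x y : G} (hx : Odd (orderOf x)) (hy : Odd (orderOf y))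
    (h : x * y * x⁻¹ = y⁻¹) : y = 1 := by
  have h2 : (x * x) * y * (x * x)⁻¹ = y := by
    calc (x * x) * y * (x * x)⁻¹ = x * (x * y * x⁻¹) * x⁻¹ := by group
      _ = x * y⁻¹ * x⁻¹ := by rw [h]
      _ = (x * y * x⁻¹)⁻¹ := by group
      _ = y := by rw [h, inv_inv]
  have h3 : Commute y (x ^ 2) := by
    have : (x * x) * y = y * (x * x) := by
      calc (x * x) * y = ((x * x) * y * (x * x)⁻¹) * (x * x) := by group
        _ = y * (x * x) := by rw [h2]
    rw [pow_two]
    exact this.symm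
  have h4 : Commute y x := commute_of_commute_sq hx h3
  have h5 : x * y * x⁻¹ = y := by
    rw [← h4.eq]; group
  rw [h5] at h
  exact eq_one_of_inv_eq_self hy h.symm

section fin

variable [Finite G]

/-- Dihedral lemma: an involution `s` inverting no nontrivial element of odd order generates a
`2`-group with any other involution. -/
theorem isPGroup_two_of_no_inverted (s t : G) (hs : s ^ 2 = 1) (ht : t ^ 2 = 1)
    (hno : ∀ h : G, Odd (orderOf h) → s * h * s⁻¹ = h⁻¹ → h = 1) :
    IsPGroup 2 ↥(Subgroup.zpowers s ⊔ Subgroup.zpowers t) := by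
  have hsinv : s⁻¹ = s := by
    rw [inv_eq_iff_mul_eq_one, ← pow_two]; exact hs
  have htinv : t⁻¹ = t := by
    rw [inv_eq_iff_mul_eq_one, ← pow_two]; exact ht
  set x := s * t with hx
  have hsx : s * x * s⁻¹ = x⁻¹ := by
    rw [hx, mul_inv_rev, htinv, hsinv]
    calc s * (s * t) * s = (s * s) * t * s := by group
      _ = t * s := by rw [← pow_two, hs, one_mul]
  have hn : orderOf x ≠ 0 := (orderOf_pos x).ne'
  obtain ⟨e, m, hm, hnm⟩ := Nat.exists_eq_two_pow_mul_odd hn
  have hpow : x ^ (2 ^ e) = 1 := by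
    apply hno
    · rw [orderOf_pow' x (pow_ne_zero e two_ne_zero), hnm]
      have : Nat.gcd (2 ^ e * m) (2 ^ e) = 2 ^ e := Nat.gcd_eq_right (Dvd.intro _ rfl)
      rw [this, Nat.mul_div_cancel_left m (pow_pos two_pos e)]
      exact hm
    · rw [← conj_pow, hsx, inv_pow]
  have hxP : IsPGroup 2 (Subgroup.zpowers x) := by
    obtain ⟨j, -, hj⟩ := (Nat.dvd_prime_pow Nat.prime_two).mp (orderOf_dvd_of_pow_eq_one hpow)
    apply IsPGroup.of_card (n := j)
    rw [Nat.card_zpowers, hj]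
  have hsP : IsPGroup 2 (Subgroup.zpowers s) := by
    rcases (Nat.dvd_prime Nat.prime_two).mp (orderOf_dvd_of_pow_eq_one hs) with hj | hj
    · apply IsPGroup.of_card (n := 0)
      rw [Nat.card_zpowers, hj, pow_zero]
    · apply IsPGroup.of_card (n := 1)
      rw [Nat.card_zpowers, hj, pow_one]
  have hnorm : Subgroup.zpowers s ≤ Subgroup.normalizer (Subgroup.zpowers x : Set G) := by
    rw [Subgroup.zpowers_le]
    apply Subgroup.mem_normalizer_fintype
    rintro y ⟨j, rfl⟩
    refine ⟨-j, ?_⟩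
    show x ^ (-j) = s * x ^ j * s⁻¹
    have : s * x ^ j * s⁻¹ = (s * x * s⁻¹) ^ j := by
      rw [← MulAut.conj_apply, ← MulAut.conj_apply, map_zpow]
    rw [this, hsx, inv_zpow, zpow_neg]
  have hsup : IsPGroup 2 ↥(Subgroup.zpowers s ⊔ Subgroup.zpowers x) :=
    hsP.to_sup_of_normal_right' hxP hnorm
  apply hsup.to_le
  apply sup_le le_sup_left
  rw [Subgroup.zpowers_le]
  have : t = s⁻¹ * x := by rw [hx]; group
  rw [this]
  exact Subgroup.mul_mem _ (Subgroup.inv_mem _ (le_sup_left (b := Subgroup.zpowers x) (Subgroup.mem_zpowers s)))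
    (le_sup_right (a := Subgroup.zpowers s) (Subgroup.mem_zpowers x))

/-- Baer-Suzuki for an involution inverting no nontrivial element of odd order. -/
theorem mem_pCore_of_no_inverted (s : G) (hs : s ^ 2 = 1)
    (hno : ∀ h : G, Odd (orderOf h) → s * h * s⁻¹ = h⁻¹ → h = 1) : s ∈ Cfsg.pCore 2 G := by
  have : Fact (Nat.Prime 2) := ⟨Nat.prime_two⟩
  obtain ⟨N, hN, hNp, hle⟩ := Cfsg.Agent.Helper67.baer_suzuki (p := 2) (Subgroup.zpowers s) (by
    intro g
    rw [MonoidHom.map_zpowers]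
    apply isPGroup_two_of_no_inverted s _ hs _ hno
    show (g * s * g⁻¹) ^ 2 = 1
    rw [conj_pow, hs]; group)
  have : N ≤ Cfsg.pCore 2 G := le_sSup ⟨hN, hNp⟩
  exact this (hle (Subgroup.mem_zpowers s))

theorem four_elts {V : Subgroup G} (hV : Cfsg.IsElementaryAbelian 2 V) (h4 : Nat.card V ≤ 4)
    {a w : G} (haV : a ∈ V) (hwV : w ∈ V) (ha1 : a ≠ 1) (hw1 : w ≠ 1) (haw : a ≠ w) :
    ∀ u ∈ V, u = 1 ∨ u = a ∨ u = w ∨ u = a * w := by
  classical
  have hwinv : w⁻¹ = w := by
    rw [inv_eq_iff_mul_eq_one, ← pow_two]; exact hV.2 w hwV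
  have h1 : a * w ≠ 1 := by
    intro h
    apply haw
    rw [← hwinv]
    exact eq_inv_of_mul_eq_one_left h
  have h2 : a * w ≠ a := by
    intro h
    exact hw1 (mul_eq_left.mp h)
  have h3 : a * w ≠ w := by
    intro h
    exact ha1 (mul_eq_right.mp h)
  let S : Finset G := {1, a, w, a * w}
  have hcard : S.card = 4 := by
    have e1 : w ∉ ({a * w} : Finset G) := by
      rw [Finset.mem_singleton]; exact fun h => h3 h.symm
    have e2 : a ∉ ({w, a * w} : Finset G) := by
      simp only [Finset.mem_insert, Finset.mem_singleton, not_or]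
      exact ⟨haw, fun h => h2 h.symm⟩
    have e3 : (1 : G) ∉ ({a, w, a * w} : Finset G) := by
      simp only [Finset.mem_insert, Finset.mem_singleton, not_or]
      exact ⟨fun h => ha1 h.symm, fun h => hw1 h.symm, fun h => h1 h.symm⟩
    show (insert 1 (insert a (insert w {a * w})) : Finset G).card = 4
    rw [Finset.card_insert_of_notMem e3, Finset.card_insert_of_notMem e2,
      Finset.card_insert_of_notMem e1, Finset.card_singleton]
  have hsub : (S : Set G) ⊆ (V : Set G) := by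
    intro x hx
    simp only [S, Finset.coe_insert, Finset.coe_singleton, Set.mem_insert_iff,
      Set.mem_singleton_iff] at hx
    rcases hx with rfl | rfl | rfl | rfl
    · exact V.one_mem
    · exact haV
    · exact hwV
    · exact V.mul_mem haV hwV
  have hle : (V : Set G).ncard ≤ (S : Set G).ncard := by
    rw [Set.ncard_coe_finset, hcard]
    have : (V : Set G).ncard = Nat.card V := (Nat.card_coe_set_eq (V : Set G)).symm
    rw [this]; exact h4
  have heq : (S : Set G) = (V : Set G) := Set.eq_of_subset_of_ncard_le hsub hle (Set.toFinite _)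
  intro u hu
  have : u ∈ (S : Set G) := by rw [heq]; exact hu
  simpa [S] using this

/-- Key configuration: `a` inverts `h` and centralizes `k`, `w` centralizes `h` and inverts `k`
(`h`, `k` of odd order, `h ≠ 1`); the Sidki condition forces `k = 1`. -/
theorem key {V : Subgroup G} (hV : Cfsg.IsElementaryAbelian 2 V) (h4 : Nat.card V ≤ 4)
    (hS : Cfsg.IsSidkiPair V) {a w h k : G} (haV : a ∈ V) (hwV : w ∈ V) (ha1 : a ≠ 1)
    (hw1 : w ≠ 1) (haw : a ≠ w) (hh : Odd (orderOf h)) (hk : Odd (orderOf k))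
    (hah : a * h * a⁻¹ = h⁻¹) (hwh : w * h * w⁻¹ = h) (hak : a * k * a⁻¹ = k)
    (hwk : w * k * w⁻¹ = k⁻¹) (hh1 : h ≠ 1) : k = 1 := by
  have helts := four_elts hV h4 haV hwV ha1 hw1 haw
  have hawc : ∀ x : G, (a * w) * x * (a * w)⁻¹ = a * (w * x * w⁻¹) * a⁻¹ := by intro x; group
  have hconj_of_comm : ∀ z x : G, z * x = x * z → z * x * z⁻¹ = x := by
    intro z x hzx; rw [hzx]; group
  -- Step 1: `h` and `k` commute
  have hcomm : Commute h k := by
    have hodd1 : Odd (orderOf (k * h * k⁻¹)) := by rwa [orderOf_conj']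
    have hinv1 : a * (k * h * k⁻¹) * a⁻¹ = (k * h * k⁻¹)⁻¹ := by
      calc a * (k * h * k⁻¹) * a⁻¹ = (a * k * a⁻¹) * (a * h * a⁻¹) * (a * k * a⁻¹)⁻¹ := by group
        _ = k * h⁻¹ * k⁻¹ := by rw [hak, hah]
        _ = (k * h * k⁻¹)⁻¹ := by group
    have hwx : w * (k * h * k⁻¹) * w⁻¹ = k⁻¹ * h * k := by
      calc w * (k * h * k⁻¹) * w⁻¹ = (w * k * w⁻¹) * (w * h * w⁻¹) * (w * k * w⁻¹)⁻¹ := by group
        _ = k⁻¹ * h * k := by rw [hwk, hwh, inv_inv]
    obtain ⟨z, hzV, hz1, hzc⟩ := hS (k * h * k⁻¹) a haV hodd1 hinv1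
    have hzc' := hconj_of_comm z _ hzc
    rcases helts z hzV with rfl | rfl | rfl | rfl
    · exact absurd rfl hz1
    · exfalso
      rw [hinv1] at hzc'
      have := eq_one_of_inv_eq_self hodd1 hzc'
      exact hh1 (conj_eq_one_iff.mp this)
    · rw [hwx] at hzc'
      have h5 : h * (k * k) = (k * k) * h := by
        calc h * (k * k) = k * (k⁻¹ * h * k) * k := by group
          _ = k * (k * h * k⁻¹) * k := by rw [hzc']
          _ = (k * k) * h := by group
      have h6 : Commute h (k ^ 2) := by rw [pow_two]; exact h5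
      exact commute_of_commute_sq hk h6
    · exfalso
      rw [hawc, hwx] at hzc'
      have h5 : a * (k⁻¹ * h * k) * a⁻¹ = k⁻¹ * h⁻¹ * k := by
        calc a * (k⁻¹ * h * k) * a⁻¹ = (a * k * a⁻¹)⁻¹ * (a * h * a⁻¹) * (a * k * a⁻¹) := by group
          _ = k⁻¹ * h⁻¹ * k := by rw [hak, hah]
      rw [h5] at hzc'
      have h6 : (k * k) * h * (k * k)⁻¹ = h⁻¹ := by
        calc (k * k) * h * (k * k)⁻¹ = k * (k * h * k⁻¹) * k⁻¹ := by group
          _ = k * (k⁻¹ * h⁻¹ * k) * k⁻¹ := by rw [hzc']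
          _ = h⁻¹ := by group
      have hkk : Odd (orderOf (k * k)) := by
        rw [← pow_two]
        exact Odd.of_dvd_nat hk (orderOf_pow_dvd 2)
      exact hh1 (eq_one_of_odd_inverts hkk hh h6)
  -- Step 2: `a * w` inverts `h * k`
  have hodd2 : Odd (orderOf (h * k)) := odd_orderOf_mul_of_commute hcomm hh hk
  have hax : a * (h * k) * a⁻¹ = h⁻¹ * k := by
    calc a * (h * k) * a⁻¹ = (a * h * a⁻¹) * (a * k * a⁻¹) := by group
      _ = h⁻¹ * k := by rw [hah, hak]
  have hwx : w * (h * k) * w⁻¹ = h * k⁻¹ := by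
    calc w * (h * k) * w⁻¹ = (w * h * w⁻¹) * (w * k * w⁻¹) := by group
      _ = h * k⁻¹ := by rw [hwh, hwk]
  have hawx : (a * w) * (h * k) * (a * w)⁻¹ = (h * k)⁻¹ := by
    rw [hawc, hwx]
    calc a * (h * k⁻¹) * a⁻¹ = (a * h * a⁻¹) * (a * k * a⁻¹)⁻¹ := by group
      _ = h⁻¹ * k⁻¹ := by rw [hah, hak]
      _ = (k * h)⁻¹ := by group
      _ = (h * k)⁻¹ := by rw [hcomm.eq]
  obtain ⟨z, hzV, hz1, hzc⟩ := hS (h * k) (a * w) (V.mul_mem haV hwV) hodd2 hawx
  have hzc' := hconj_of_comm z _ hzc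
  rcases helts z hzV with rfl | rfl | rfl | rfl
  · exact absurd rfl hz1
  · exfalso
    rw [hax] at hzc'
    have : h⁻¹ = h := mul_right_cancel hzc'
    exact hh1 (eq_one_of_inv_eq_self hh this)
  · rw [hwx] at hzc'
    have : k⁻¹ = k := mul_left_cancel hzc'
    exact eq_one_of_inv_eq_self hk this
  · rw [hawx] at hzc'
    have h5 : h * k = 1 := eq_one_of_inv_eq_self hodd2 hzc'
    have h6 : k = h⁻¹ := (inv_eq_of_mul_eq_one_right h5).symm
    have h7 : w * k * w⁻¹ = k := by
      rw [h6]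
      calc w * h⁻¹ * w⁻¹ = (w * h * w⁻¹)⁻¹ := by group
        _ = h⁻¹ := by rw [hwh]
    rw [h7] at hwk
    exact eq_one_of_inv_eq_self hk hwk.symm

end fin

/-- Let G be a finite group and V a nontrivial elementary abelian 2-subgroup of G of order at most 4 such that, whenever an element of V inverts an element h of G of odd order, some nontrivial element of V commutes with h. Then V meets O₂(G) nontrivially. (The case of order at most 4 has a short argument from the Baer–Suzuki theorem.) -/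
theorem result {G : Type*} [Group G] [Finite G] (V : Subgroup G) (hV : Cfsg.IsElementaryAbelian 2 V) (hV1 : V ≠ ⊥) (hS : Cfsg.IsSidkiPair V) (h4 : Nat.card V ≤ 4) : V ⊓ Cfsg.pCore 2 G ≠ ⊥ := by
  intro hbot
  have hsq : ∀ v ∈ V, v ^ 2 = 1 := hV.2
  have hnot : ∀ v ∈ V, v ≠ 1 → v ∉ Cfsg.pCore 2 G := by
    intro v hv hv1 hmem
    have : v ∈ V ⊓ Cfsg.pCore 2 G := ⟨hv, hmem⟩
    rw [hbot, Subgroup.mem_bot] at this
    exact hv1 this
  obtain ⟨a', ha'⟩ := (Subgroup.ne_bot_iff_exists_ne_one).mp hV1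
  obtain ⟨a, haV, ha1⟩ : ∃ a ∈ V, a ≠ 1 := ⟨a'.1, a'.2, fun h => ha' (Subtype.ext h)⟩
  have hconj_of_comm : ∀ z x : G, z * x = x * z → z * x * z⁻¹ = x := by
    intro z x hzx; rw [hzx]; group
  -- `a` inverts a nontrivial element of odd order
  have hex : ∃ h : G, Odd (orderOf h) ∧ a * h * a⁻¹ = h⁻¹ ∧ h ≠ 1 := by
    by_contra hcon
    push Not at hcon
    exact hnot a haV ha1 (mem_pCore_of_no_inverted a (hsq a haV) hcon)
  obtain ⟨h, hh, hah, hh1⟩ := hex
  obtain ⟨w, hwV, hw1, hwh⟩ := hS h a haV hh hah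
  have hwh' : w * h * w⁻¹ = h := hconj_of_comm w h hwh
  have haw : a ≠ w := by
    intro heq
    rw [← heq, hah] at hwh'
    exact hh1 (eq_one_of_inv_eq_self hh hwh')
  have helts := four_elts hV h4 haV hwV ha1 hw1 haw
  -- `w` inverts no nontrivial element of odd order
  apply hnot w hwV hw1
  apply mem_pCore_of_no_inverted w (hsq w hwV)
  intro k hk hwk
  obtain ⟨u, huV, hu1, huk⟩ := hS k w hwV hk hwk
  have huk' : u * k * u⁻¹ = k := hconj_of_comm u k huk
  rcases helts u huV with rfl | rfl | rfl | rfl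
  · exact absurd rfl hu1
  · exact key hV h4 hS haV hwV ha1 hw1 haw hh hk hah hwh' huk' hwk hh1
  · rw [hwk] at huk'
    exact eq_one_of_inv_eq_self hk huk'
  · -- `a * w` plays the role of `a`
    have hawh : (a * w) * h * (a * w)⁻¹ = h⁻¹ := by
      calc (a * w) * h * (a * w)⁻¹ = a * (w * h * w⁻¹) * a⁻¹ := by group
        _ = h⁻¹ := by rw [hwh', hah]
    have hne : a * w ≠ w := fun h => ha1 (mul_eq_right.mp h)
    exact key hV h4 hS (V.mul_mem haV hwV) hwV hu1 hw1 hne hh hk hawh hwh' huk' hwk hh1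

end Cfsg.Agent.S3011
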