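import Cfsg.Statements.S3013
import Cfsg.Agent.Lib.Helper50.Sidki

set_option autoImplicit false
open Cfsg

namespace Cfsg.Agent.S3013

/-- Let G be a finite group and V a nontrivial elementary abelian 2-subgroup of G satisfying the Sidki pair condition. Let v ∈ V and let x be an element of odd order inverted by v, and put C = C_G(v) ∩ C_G(x), the centralizer of the dihedral subgroup generated by v and x. Then C ∩ V is nontrivial and satisfies the Sidki pair condition inside C: every odd-order element of C inverted by an element of C ∩ V commutes with a nontrivial element of C ∩ V. -/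
theorem result {G : Type*} [Group G] [Finite G] (V : Subgroup G) (hV : Cfsg.IsElementaryAbelian 2 V) (hV1 : V ≠ ⊥) (hS : Cfsg.IsSidkiPair V) (v x : G) (hv : v ∈ V) (hx : Odd (orderOf x)) (hinv : v * x * v⁻¹ = x⁻¹) (C : Subgroup G) (hC : C = Subgroup.centralizer ({v} : Set G) ⊓ Subgroup.centralizer ({x} : Set G)) : C ⊓ V ≠ ⊥ ∧ Cfsg.IsSidkiPair ((C ⊓ V).subgroupOf C) := by
  have memC : ∀ g : G, g ∈ C ↔ Commute v g ∧ Commute x g := by
    intro g
    rw [hC, Subgroup.mem_inf, Subgroup.mem_centralizer_singleton_iff,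
      Subgroup.mem_centralizer_singleton_iff]
    exact ⟨fun h => ⟨h.1.symm, h.2.symm⟩, fun h => ⟨h.1.symm, h.2.symm⟩⟩
  constructor
  · obtain ⟨w, hwV, hw1, hwx⟩ := hS x v hv hx hinv
    intro hbot
    have hw : w ∈ C ⊓ V := by
      refine ⟨(memC w).mpr ⟨Helper50.elemAb_commute hV hv hwV, ?_⟩, hwV⟩
      exact hwx.symm
    rw [hbot, Subgroup.mem_bot] at hw
    exact hw1 hw
  · intro h u hu hodd hinv'
    rw [Subgroup.mem_subgroupOf] at hu
    have hh : Commute v (h : G) ∧ Commute x (h : G) := (memC _).mp h.2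
    have hu' : Commute v (u : G) ∧ Commute x (u : G) := (memC _).mp u.2
    have hodd' : Odd (orderOf (h : G)) := by rwa [Subgroup.orderOf_coe]
    have hinv'' : (u : G) * (h : G) * (u : G)⁻¹ = (h : G)⁻¹ := by
      have := congrArg (Subtype.val) hinv'
      simpa using this
    -- y = h * x
    have hy : Odd (orderOf ((h : G) * x)) :=
      Helper50.odd_orderOf_mul_of_commute hh.2.symm hodd' hx
    have huvV : (u : G) * v ∈ V := V.mul_mem hu.2 hv
    have hyinv : ((u : G) * v) * ((h : G) * x) * ((u : G) * v)⁻¹ = ((h : G) * x)⁻¹ := by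
      have e1 : v * (h : G) = (h : G) * v := hh.1
      have e2 : (u : G) * x = x * (u : G) := hu'.2.symm
      calc ((u : G) * v) * ((h : G) * x) * ((u : G) * v)⁻¹
          = (u : G) * (v * (h : G)) * x * v⁻¹ * (u : G)⁻¹ := by group
        _ = (u : G) * ((h : G) * v) * x * v⁻¹ * (u : G)⁻¹ := by rw [e1]
        _ = ((u : G) * (h : G) * (u : G)⁻¹) * ((u : G) * (v * x * v⁻¹) * (u : G)⁻¹) := by group
        _ = (h : G)⁻¹ * ((u : G) * x⁻¹ * (u : G)⁻¹) := by rw [hinv'', hinv]
        _ = (h : G)⁻¹ * (((u : G) * x) * (u : G)⁻¹)⁻¹ := by group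
        _ = (h : G)⁻¹ * ((x * (u : G)) * (u : G)⁻¹)⁻¹ := by rw [e2]
        _ = (h : G)⁻¹ * x⁻¹ := by group
        _ = (x * (h : G))⁻¹ := by group
        _ = ((h : G) * x)⁻¹ := by rw [hh.2.eq]
    obtain ⟨w, hwV, hw1, hwy⟩ := hS _ _ huvV hy hyinv
    have hwy' : Commute w ((h : G) * x) := hwy
    have hwu : Commute w (u : G) := Helper50.elemAb_commute hV hwV hu.2
    have hwv : Commute w v := Helper50.elemAb_commute hV hwV hv
    -- w commutes with u y u⁻¹ = h⁻¹ x
    have h1 : Commute w ((u : G) * ((h : G) * x) * (u : G)⁻¹) :=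
      (hwu.mul_right hwy').mul_right hwu.inv_right
    have h2 : (u : G) * ((h : G) * x) * (u : G)⁻¹ = (h : G)⁻¹ * x := by
      have e2 : (u : G) * x = x * (u : G) := hu'.2.symm
      calc (u : G) * ((h : G) * x) * (u : G)⁻¹
          = ((u : G) * (h : G) * (u : G)⁻¹) * (((u : G) * x) * (u : G)⁻¹) := by group
        _ = (h : G)⁻¹ * ((x * (u : G)) * (u : G)⁻¹) := by rw [hinv'', e2]
        _ = (h : G)⁻¹ * x := by group
    rw [h2] at h1
    have h3 : Commute w (x ^ 2) := by
      have h4 := hwy'.mul_right h1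
      have h5 : (h : G) * x * ((h : G)⁻¹ * x) = x ^ 2 := by
        have e3 : x * (h : G)⁻¹ = (h : G)⁻¹ * x := (hh.2.inv_right).eq
        calc (h : G) * x * ((h : G)⁻¹ * x) = (h : G) * (x * (h : G)⁻¹) * x := by group
          _ = (h : G) * ((h : G)⁻¹ * x) * x := by rw [e3]
          _ = x ^ 2 := by rw [pow_two]; group
      rwa [h5] at h4
    have hwx : Commute w x := Helper50.commute_of_commute_sq hx h3
    have hwh : Commute w (h : G) := by
      have h6 := hwy'.mul_right hwx.inv_right
      have : (h : G) * x * x⁻¹ = (h : G) := by group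
      rwa [this] at h6
    have hwC : w ∈ C := (memC w).mpr ⟨hwv.symm, hwx.symm⟩
    refine ⟨⟨w, hwC⟩, ?_, ?_, ?_⟩
    · rw [Subgroup.mem_subgroupOf]; exact ⟨hwC, hwV⟩
    · intro h7
      apply hw1
      exact congrArg Subtype.val h7
    · apply Subtype.ext
      exact hwh.eq

end Cfsg.Agent.S3013
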