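import Cfsg.Statements.S3014
import Cfsg.Agent.Lib.Helper50.TransferTI
import Cfsg.Agent.Lib.Helper50.ExtClosed
-- import your own Cfsg.Agent.* helpers here

set_option autoImplicit false
open Cfsg

namespace Cfsg.Agent.S3014

open Subgroup Cfsg.Agent.Helper50

section aux

variable {G : Type*} [Group G]

/-- `H` maximal in `M`: a subgroup strictly between is `M`. -/
theorem coatom_sub {H M X : Subgroup G} (hmax : IsCoatom (H.subgroupOf M)) (hHX : H ≤ X)
    {x : G} (hxX : x ∈ X) (hxM : x ∈ M) (hxH : x ∉ H) : M ≤ X := by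
  rw [← Subgroup.subgroupOf_eq_top]
  apply hmax.2
  refine lt_of_le_of_ne (Subgroup.comap_mono hHX) ?_
  intro heq
  apply hxH
  have h1 : (⟨x, hxM⟩ : M) ∈ X.subgroupOf M := Subgroup.mem_subgroupOf.mpr hxX
  rw [← heq] at h1
  exact Subgroup.mem_subgroupOf.mp h1

/-- an element normalizing `X` and `Y` normalizes `X ⊔ Y`. -/
theorem mem_normalizer_sup [Finite G] {X Y : Subgroup G} {x : G}
    (hX : x ∈ normalizer (X : Set G)) (hY : x ∈ normalizer (Y : Set G)) :
    x ∈ normalizer ((X ⊔ Y : Subgroup G) : Set G) := by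
  apply map_conj_le_iff_mem
  have h1 : X.map (MulAut.conj x).toMonoidHom = X := Subgroup.mem_normalizer_iff_map_conj_eq.mp hX
  have h2 : Y.map (MulAut.conj x).toMonoidHom = Y := Subgroup.mem_normalizer_iff_map_conj_eq.mp hY
  rw [Subgroup.map_sup, h1, h2]

/-- conjugates normalize conjugates -/
theorem conj_mem_normalizer_map_conj {H : Subgroup G} {x : G}
    (hx : x ∈ normalizer (H : Set G)) (g : G) :
    g * x * g⁻¹ ∈ normalizer ((H.map (MulAut.conj g).toMonoidHom : Subgroup G) : Set G) := by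
  rw [Subgroup.mem_normalizer_iff]
  intro z
  constructor
  · rintro ⟨h, hh, rfl⟩
    refine ⟨x * h * x⁻¹, (Subgroup.mem_normalizer_iff.mp hx h).mp hh, ?_⟩
    simp only [MulEquiv.coe_toMonoidHom, MulAut.conj_apply]
    group
  · rintro ⟨h, hh, hz⟩
    refine ⟨x⁻¹ * h * x, ?_, ?_⟩
    · have := (Subgroup.mem_normalizer_iff.mp (Subgroup.inv_mem _ hx) h).mp hh
      simpa using this
    · simp only [MulEquiv.coe_toMonoidHom, MulAut.conj_apply] at hz ⊢
      have : z = (g * x * g⁻¹)⁻¹ * (g * h * g⁻¹) * (g * x * g⁻¹) := by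
        rw [hz]; group
      rw [this]; group

end aux

/-- Let G be a finite group and H ≤ M ≤ G subgroups such that for every g ∈ G the subgroup generated by H and g H g⁻¹ meets M exactly in H. If H is a maximal subgroup of M and M is a maximal subgroup of G, then the normal closure of H in G meets M exactly in H. -/
theorem result {G : Type*} [Group G] [Finite G] (H M : Subgroup G) (hHM : H ≤ M) (hcl : ∀ g : G, (H ⊔ H.map (MulAut.conj g).toMonoidHom) ⊓ M = H) (hmaxH : IsCoatom (H.subgroupOf M)) (hmaxM : IsCoatom M) : Subgroup.normalClosure (H : Set G) ⊓ M = H := by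
  apply le_antisymm _ (le_inf Subgroup.le_normalClosure hHM)
  -- Step 1: `M` normalizes `H`
  have hMN : M ≤ normalizer (H : Set G) := by
    intro m hm
    apply map_conj_le_iff_mem
    have h1 : H.map (MulAut.conj m).toMonoidHom ≤ M := by
      rintro _ ⟨h, hh, rfl⟩
      exact M.mul_mem (M.mul_mem hm (hHM hh)) (M.inv_mem hm)
    have h2 := hcl m
    rw [inf_eq_left.mpr (sup_le hHM h1)] at h2
    exact le_sup_right.trans (le_of_eq h2)
  have hHneM : ¬ M ≤ H := fun h => hmaxH.1 (Subgroup.subgroupOf_eq_top.mpr h)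
  by_cases hHn : normalizer (H : Set G) = ⊤
  · have : H.Normal := Subgroup.normalizer_eq_top_iff.mp hHn
    rw [Subgroup.normalClosure_eq_self]; exact inf_le_left
  have hNeq : normalizer (H : Set G) = M := by
    by_contra hne
    exact hHn (hmaxM.2 _ (lt_of_le_of_ne hMN (Ne.symm hne)))
  have hnotle : ∀ g, g ∉ M → ¬ H.map (MulAut.conj g).toMonoidHom ≤ M := by
    intro g hg hle
    have h2 := hcl g
    rw [inf_eq_left.mpr (sup_le hHM hle)] at h2
    have h3 : H.map (MulAut.conj g).toMonoidHom ≤ H := le_sup_right.trans (le_of_eq h2)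
    have h4 := map_conj_le_iff_mem h3
    rw [hNeq] at h4
    exact hg h4
  by_cases hB : ∃ g, g ∉ M ∧ ¬ (M ⊓ M.map (MulAut.conj g).toMonoidHom ≤ H)
  · obtain ⟨g, hg, hD⟩ := hB
    obtain ⟨d, hd, hdH⟩ := SetLike.not_le_iff_exists.mp hD
    have hDK : M ⊓ M.map (MulAut.conj g).toMonoidHom ≤
        normalizer ((H ⊔ H.map (MulAut.conj g).toMonoidHom : Subgroup G) : Set G) := by
      intro x hx
      apply mem_normalizer_sup (hMN hx.1)
      obtain ⟨m, hm, rfl⟩ := hx.2
      exact conj_mem_normalizer_map_conj (hMN hm) g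
    have hMle : M ≤ (H ⊔ H.map (MulAut.conj g).toMonoidHom) ⊔
        (M ⊓ M.map (MulAut.conj g).toMonoidHom) := by
      have h1 : M ≤ H ⊔ (M ⊓ M.map (MulAut.conj g).toMonoidHom) :=
        coatom_sub hmaxH le_sup_left (Subgroup.mem_sup_right hd) hd.1 hdH
      exact h1.trans (sup_le_sup_right le_sup_left _)
    have htop : (H ⊔ H.map (MulAut.conj g).toMonoidHom) ⊔
        (M ⊓ M.map (MulAut.conj g).toMonoidHom) = ⊤ := by
      apply hmaxM.2
      refine lt_of_le_of_ne hMle ?_
      intro heq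
      apply hnotle g hg
      rw [heq]
      exact le_sup_right.trans le_sup_left
    have hKn : (H ⊔ H.map (MulAut.conj g).toMonoidHom).Normal := by
      rw [← Subgroup.normalizer_eq_top_iff, eq_top_iff, ← htop]
      exact sup_le le_normalizer hDK
    have hle : Subgroup.normalClosure (H : Set G) ≤ H ⊔ H.map (MulAut.conj g).toMonoidHom :=
      Subgroup.normalClosure_le_normal (le_sup_left : H ≤ H ⊔ H.map (MulAut.conj g).toMonoidHom)
    calc Subgroup.normalClosure (H : Set G) ⊓ M
        ≤ (H ⊔ H.map (MulAut.conj g).toMonoidHom) ⊓ M := inf_le_inf_right _ hle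
      _ = H := hcl g
  · push Not at hB
    have hn : (H.subgroupOf M).Normal :=
      (Subgroup.normal_subgroupOf_iff_le_normalizer hHM).mpr hMN
    obtain ⟨x, hxM, hxH⟩ := SetLike.not_le_iff_exists.mp hHneM
    -- the quotient is cyclic
    have hcyc : IsCyclic (M ⧸ H.subgroupOf M) := by
      rw [isCyclic_iff_exists_zpowers_eq_top]
      refine ⟨QuotientGroup.mk' (H.subgroupOf M) ⟨x, hxM⟩, ?_⟩
      set Z := zpowers (QuotientGroup.mk' (H.subgroupOf M) ⟨x, hxM⟩) with hZ
      have h1 : H.subgroupOf M < Z.comap (QuotientGroup.mk' (H.subgroupOf M)) := by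
        refine lt_of_le_of_ne ?_ ?_
        · intro z hz
          rw [Subgroup.mem_comap]
          have : QuotientGroup.mk' (H.subgroupOf M) z = 1 := (QuotientGroup.eq_one_iff z).mpr hz
          rw [this]; exact Z.one_mem
        · intro heq
          apply hxH
          have h2 : (⟨x, hxM⟩ : M) ∈ Z.comap (QuotientGroup.mk' (H.subgroupOf M)) := by
            rw [Subgroup.mem_comap]; exact mem_zpowers _
          rw [← heq] at h2
          exact Subgroup.mem_subgroupOf.mp h2
      have h2 := hmaxH.2 _ h1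
      rw [eq_top_iff]
      intro q _
      obtain ⟨z, rfl⟩ := QuotientGroup.mk'_surjective (H.subgroupOf M) q
      have : z ∈ Z.comap (QuotientGroup.mk' (H.subgroupOf M)) := by rw [h2]; exact Subgroup.mem_top z
      exact this
    letI : CommGroup (M ⧸ H.subgroupOf M) := IsCyclic.commGroup
    let ϕ : M →* (M ⧸ H.subgroupOf M) := QuotientGroup.mk' (H.subgroupOf M)
    have hTI : ∀ r : G, r ∉ M → ∀ z : M, r * (z : G) * r⁻¹ ∈ M → ϕ z = 1 := by
      intro r hr z hz
      have hr' : r⁻¹ ∉ M := fun h => hr (by simpa using M.inv_mem h)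
      have h1 : (z : G) ∈ M ⊓ M.map (MulAut.conj r⁻¹).toMonoidHom := by
        refine ⟨z.2, ⟨r * (z : G) * r⁻¹, hz, ?_⟩⟩
        simp only [MulEquiv.coe_toMonoidHom, MulAut.conj_apply]
        group
      have h2 : (z : G) ∈ H := hB r⁻¹ hr' h1
      exact (QuotientGroup.eq_one_iff z).mpr (Subgroup.mem_subgroupOf.mpr h2)
    have hτ : ∀ y : M, MonoidHom.transfer ϕ (y : G) = ϕ y := transfer_restrict_eq ϕ hTI
    have hHK : H ≤ (MonoidHom.transfer ϕ).ker := by
      intro h hh
      rw [MonoidHom.mem_ker]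
      have := hτ ⟨h, hHM hh⟩
      rw [this]
      exact (QuotientGroup.eq_one_iff _).mpr (Subgroup.mem_subgroupOf.mpr hh)
    have hle : Subgroup.normalClosure (H : Set G) ≤ (MonoidHom.transfer ϕ).ker :=
      Subgroup.normalClosure_le_normal hHK
    intro y hy
    have h1 : MonoidHom.transfer ϕ y = 1 := MonoidHom.mem_ker.mp (hle hy.1)
    have h2 := hτ ⟨y, hy.2⟩
    rw [h1] at h2
    have h3 := (QuotientGroup.eq_one_iff _).mp h2.symm
    exact Subgroup.mem_subgroupOf.mp h3

end Cfsg.Agent.S3014
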