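import Cfsg.Statements.S3015
import Cfsg.Agent.S3014
import Cfsg.Agent.Lib.Helper50.ExtClosed
import Cfsg.Agent.Lib.Helper50.SylowLemmas
-- import your own Cfsg.Agent.* helpers here

set_option autoImplicit false
open Cfsg

namespace Cfsg.Agent.S3015

open Subgroup Cfsg.Agent.Helper50

section aux

variable {G : Type*} [Group G]

theorem card_map_conj (g : G) (X : Subgroup G) :
    Nat.card (X.map (MulAut.conj g).toMonoidHom) = Nat.card X :=
  Subgroup.card_map_of_injective (MulAut.conj g).injective

/-- nothing strictly between subgroups of prime index -/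
theorem eq_or_eq_of_card_prime_mul [Finite G] {X Z Y : Subgroup G} {p : ℕ} (hp : p.Prime)
    (hXZ : X ≤ Z) (hZY : Z ≤ Y) (hc : Nat.card Y = p * Nat.card X) : Z = X ∨ Z = Y := by
  obtain ⟨k, hk⟩ := Subgroup.card_dvd_of_le hXZ
  obtain ⟨l, hl⟩ := Subgroup.card_dvd_of_le hZY
  have hXpos : 0 < Nat.card X := Nat.card_pos
  have hlk : l * k = p := by
    have : Nat.card X * (l * k) = Nat.card X * p := by
      rw [mul_comm (Nat.card X) p, ← hc, hl, hk]; ring
    exact Nat.eq_of_mul_eq_mul_left hXpos this
  have hdvd : k ∣ p := Dvd.intro_left l hlk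
  rcases (Nat.dvd_prime hp).mp hdvd with h1 | h1
  · left
    symm
    apply Subgroup.eq_of_le_of_card_ge hXZ
    rw [hk, h1, mul_one]
  · right
    apply Subgroup.eq_of_le_of_card_ge hZY
    have hl1 : l = 1 := by
      rw [h1] at hlk
      have : l * p = 1 * p := by rw [hlk, one_mul]
      exact Nat.eq_of_mul_eq_mul_right hp.pos this
    rw [hl, hl1, mul_one]

theorem map_conj_mono (g : G) {X Y : Subgroup G} (h : X ≤ Y) :
    X.map (MulAut.conj g).toMonoidHom ≤ Y.map (MulAut.conj g).toMonoidHom :=
  Subgroup.map_mono h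

theorem isCoatom_of_index_prime_aux {K : Type*} [Group K] (H : Subgroup K) (h : H.index.Prime) :
    IsCoatom H := by
  refine ⟨?_, fun L hL => ?_⟩
  · rintro rfl
    rw [Subgroup.index_top] at h
    exact Nat.not_prime_one h
  · have h1 := Subgroup.relIndex_mul_index hL.le
    rcases (Nat.Prime.eq_one_or_self_of_dvd h _ (Dvd.intro_left _ h1)) with h2 | h2
    · exact Subgroup.index_eq_one.mp h2
    · exfalso
      have h3 : H.relIndex L = 1 := by
        have hpos : 0 < H.index := h.pos
        rw [h2] at h1
        exact Nat.eq_of_mul_eq_mul_right hpos (by rw [h1, one_mul])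
      have := Subgroup.relIndex_eq_one.mp h3
      exact absurd (le_antisymm hL.le this) (ne_of_lt hL)

end aux

/-- Let G be a finite non-abelian simple group, M a maximal subgroup of G and H a normal subgroup of M of prime index in M. Then G is generated by H together with one of its conjugates. -/
theorem result {G : Type*} [Group G] [Finite G] [IsSimpleGroup G] (hG : ¬ IsMulCommutative G) (M H : Subgroup G) (hmaxM : IsCoatom M) (hHM : H ≤ M) (hHn : (H.subgroupOf M).Normal) (hidx : (H.relIndex M).Prime) : ∃ g : G, H ⊔ H.map (MulAut.conj g).toMonoidHom = ⊤ := by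
  obtain ⟨p, hp⟩ : ∃ p, p = H.relIndex M := ⟨_, rfl⟩
  rw [← hp] at hidx
  have hcardM : Nat.card M = p * Nat.card H := by
    rw [hp]; exact (relIndex_mul_card_le' hHM).symm
  have hHneM : H ≠ M := by
    intro h
    have h1 : H.relIndex M = 1 := Subgroup.relIndex_eq_one.mpr (le_of_eq h.symm)
    rw [← hp] at h1
    rw [h1] at hidx; exact Nat.not_prime_one hidx
  have hmaxH : IsCoatom (H.subgroupOf M) :=
    isCoatom_of_index_prime_aux (H.subgroupOf M) (by rw [hp] at hidx; exact hidx)
  have hMN : M ≤ normalizer (H : Set G) :=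
    (Subgroup.normal_subgroupOf_iff_le_normalizer hHM).mp hHn
  have hNM : normalizer (M : Set G) = M := by
    by_contra hne
    have htop : normalizer (M : Set G) = ⊤ :=
      hmaxM.2 _ (lt_of_le_of_ne le_normalizer (Ne.symm hne))
    have hMn : M.Normal := Subgroup.normalizer_eq_top_iff.mp htop
    rcases hMn.eq_bot_or_eq_top with h | h
    · apply hHneM
      rw [h] at hHM ⊢
      exact le_bot_iff.mp hHM
    · exact hmaxM.1 h
  have hnotle : ∀ z, z ∉ M → ¬ M.map (MulAut.conj z).toMonoidHom ≤ M := by
    intro z hz hle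
    have h1 := map_conj_le_iff_mem hle
    rw [hNM] at h1; exact hz h1
  by_cases hHbot : H = ⊥
  · exfalso
    have hcM : Nat.card M = p := by rw [hcardM, hHbot, Subgroup.card_bot, mul_one]
    haveI : Fact p.Prime := ⟨hidx⟩
    have hMp : IsPGroup p M := IsPGroup.of_card (n := 1) (by rw [hcM, pow_one])
    obtain ⟨P, hMP⟩ := hMp.exists_le_sylow
    have hGsolv : ¬ Group.IsSolvable G := fun hs =>
      hG ⟨⟨IsSimpleGroup.comm_iff_isSolvable.mpr hs⟩⟩
    by_cases hPM : (P : Subgroup G) = M
    · have hcommM : ∀ a ∈ M, ∀ b ∈ M, a * b = b * a := by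
        have hcyc : IsCyclic M := isCyclic_of_prime_card hcM
        intro a ha b hb
        letI := IsCyclic.commGroup (α := M)
        have h1 := mul_comm (⟨a, ha⟩ : M) ⟨b, hb⟩
        exact congrArg Subtype.val h1
      have hP : normalizer ((P : Subgroup G) : Set G) ≤ centralizer (P : Set G) := by
        intro x hx
        rw [hPM, hNM] at hx
        rw [Subgroup.mem_centralizer_iff]
        intro y hy
        have hy' : y ∈ M := by rw [← hPM]; exact hy
        exact hcommM y hy' x hx
      have hcompl := MonoidHom.ker_transferSylow_isComplement' P hP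
      rcases (MonoidHom.normal_ker (MonoidHom.transferSylow P hP)).eq_bot_or_eq_top with h | h
      · rw [h, Subgroup.isComplement'_bot_left] at hcompl
        exact hmaxM.1 (hPM ▸ hcompl)
      · rw [h, Subgroup.isComplement'_top_left, hPM] at hcompl
        rw [hcompl, Subgroup.card_bot] at hcM
        rw [← hcM] at hidx
        exact Nat.not_prime_one hidx
    · have hPtop : (P : Subgroup G) = ⊤ := hmaxM.2 _ (lt_of_le_of_ne hMP (Ne.symm hPM))
      have hGp : IsPGroup p G := by
        intro x
        have hx : x ∈ (P : Subgroup G) := by rw [hPtop]; trivial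
        obtain ⟨k, hk⟩ := P.isPGroup' ⟨x, hx⟩
        refine ⟨k, ?_⟩
        have := congrArg Subtype.val hk
        simpa using this
      haveI := hGp.isNilpotent
      exact hGsolv inferInstance
  · by_contra hcon
    push Not at hcon
    have hNH : normalizer (H : Set G) = M := by
      by_contra hne
      have htop : normalizer (H : Set G) = ⊤ :=
        hmaxM.2 _ (lt_of_le_of_ne hMN (Ne.symm hne))
      have hHnG : H.Normal := Subgroup.normalizer_eq_top_iff.mp htop
      rcases hHnG.eq_bot_or_eq_top with h | h
      · exact hHbot h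
      · apply hmaxM.1; rw [eq_top_iff, ← h]; exact hHM
    by_cases hcl : ∀ g : G, (H ⊔ H.map (MulAut.conj g).toMonoidHom) ⊓ M = H
    · have h1 := Cfsg.Agent.S3014.result H M hHM hcl hmaxH hmaxM
      rcases (Subgroup.normalClosure_normal (s := (H : Set G))).eq_bot_or_eq_top with h | h
      · apply hHbot; rw [eq_bot_iff, ← h]; exact Subgroup.le_normalClosure
      · rw [h, top_inf_eq] at h1; exact hHneM h1.symm
    · push Not at hcl
      obtain ⟨g, hg⟩ := hcl
      obtain ⟨H', hH'⟩ : ∃ X, X = H.map (MulAut.conj g).toMonoidHom := ⟨_, rfl⟩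
      rw [← hH'] at hg
      have hHle : H ≤ (H ⊔ H') ⊓ M := le_inf le_sup_left hHM
      obtain ⟨x, hx, hxH⟩ : ∃ x ∈ (H ⊔ H') ⊓ M, x ∉ H := by
        by_contra hno
        push Not at hno
        exact hg (le_antisymm hno hHle)
      have hMK : M ≤ H ⊔ H' := S3014.coatom_sub hmaxH le_sup_left hx.1 hx.2 hxH
      have hKM : H ⊔ H' = M := by
        by_contra hne
        have h1 := hcon g
        rw [← hH'] at h1
        exact h1 (hmaxM.2 _ (lt_of_le_of_ne hMK (Ne.symm hne)))
      have hH'M : H' ≤ M := le_sup_right.trans (le_of_eq hKM)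
      have hgM : g ∉ M := by
        intro hgM
        have h1 : H.map (MulAut.conj g).toMonoidHom = H :=
          Subgroup.mem_normalizer_iff_map_conj_eq.mp (hMN hgM)
        rw [← hH'] at h1
        rw [h1, sup_idem] at hKM
        exact hHneM hKM
      obtain ⟨M', hM'⟩ : ∃ X, X = M.map (MulAut.conj g).toMonoidHom := ⟨_, rfl⟩
      have hcH' : Nat.card H' = Nat.card H := by rw [hH']; exact card_map_conj g H
      have hcM' : Nat.card M' = p * Nat.card H' := by
        rw [hM', card_map_conj, hcH', hcardM]
      have hH'M' : H' ≤ M' := by rw [hH', hM']; exact map_conj_mono g hHM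
      have hMM' : M ⊓ M' = H' := by
        rcases eq_or_eq_of_card_prime_mul hidx (le_inf hH'M hH'M') inf_le_right hcM' with h | h
        · exact h
        · exfalso
          apply hnotle g hgM
          rw [← hM', ← h]; exact inf_le_left
      have hH'neM' : ¬ M' ≤ H' := by
        intro hle
        have h1 := Subgroup.card_le_of_le hle
        rw [hcM'] at h1
        have hpos : 0 < Nat.card H' := Nat.card_pos
        have h2 := hidx.two_le
        nlinarith
      obtain ⟨y, hyM', hyH'⟩ := SetLike.not_le_iff_exists.mp hH'neM'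
      have hyM : y ∉ M := fun h => hyH' (by rw [← hMM']; exact ⟨h, hyM'⟩)
      obtain ⟨m, hm, hym⟩ : ∃ m ∈ M, g * m * g⁻¹ = y := by
        rw [hM'] at hyM'
        obtain ⟨m, hm, hym⟩ := hyM'
        exact ⟨m, hm, by simpa using hym⟩
      have hyN : y ∈ normalizer (H' : Set G) := by
        rw [← hym, hH']
        exact S3014.conj_mem_normalizer_map_conj (hMN hm) g
      obtain ⟨H'', hH''⟩ : ∃ X, X = H.map (MulAut.conj y).toMonoidHom := ⟨_, rfl⟩
      have hH'N'' : H' ≤ normalizer (H'' : Set G) := by
        intro h' hh'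
        have h2 : y⁻¹ * h' * y ∈ H' := by
          have := (Subgroup.mem_normalizer_iff.mp (Subgroup.inv_mem _ hyN) h').mp hh'
          simpa using this
        have h3 := S3014.conj_mem_normalizer_map_conj (hMN (hH'M h2)) y
        have h4 : y * (y⁻¹ * h' * y) * y⁻¹ = h' := by group
        rw [h4, ← hH''] at h3; exact h3
      have hH'NK : H' ≤ normalizer ((H ⊔ H'' : Subgroup G) : Set G) := fun h' hh' =>
        S3014.mem_normalizer_sup (hMN (hH'M hh')) (hH'N'' hh')
      obtain ⟨My, hMy⟩ : ∃ X, X = M.map (MulAut.conj y).toMonoidHom := ⟨_, rfl⟩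
      have hH'y : H'.map (MulAut.conj y).toMonoidHom = H' :=
        Subgroup.mem_normalizer_iff_map_conj_eq.mp hyN
      have hH'My : H' ≤ My := by
        rw [← hH'y, hMy]; exact map_conj_mono y hH'M
      have hcMy : Nat.card My = p * Nat.card H' := by
        rw [hMy, card_map_conj, hcH', hcardM]
      have hMMy : M ⊓ My = H' := by
        rcases eq_or_eq_of_card_prime_mul hidx (le_inf hH'M hH'My) inf_le_right hcMy with h | h
        · exact h
        · exfalso
          apply hnotle y hyM
          rw [← hMy, ← h]; exact inf_le_left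
      have hH''M : ¬ H'' ≤ M := by
        intro hle
        have h1 : H'' ≤ H' := by
          rw [← hMMy]
          refine le_inf hle ?_
          rw [hH'', hMy]; exact map_conj_mono y hHM
        have h2 : H'' = H' :=
          Subgroup.eq_of_le_of_card_ge h1 (by rw [hcH', hH'', card_map_conj])
        have h3 : H.map (MulAut.conj (g⁻¹ * y)).toMonoidHom ≤ H := by
          rintro _ ⟨h, hh, rfl⟩
          have h5 : y * h * y⁻¹ ∈ H' := by
            rw [← h2, hH'']; exact ⟨h, hh, by simp⟩
          rw [hH'] at h5
          obtain ⟨h0, hh0, he⟩ := h5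
          simp only [MulEquiv.coe_toMonoidHom, MulAut.conj_apply] at he ⊢
          have h6 : g⁻¹ * y * h * (g⁻¹ * y)⁻¹ = h0 := by
            have h7 : g⁻¹ * y * h * (g⁻¹ * y)⁻¹ = g⁻¹ * (y * h * y⁻¹) * g := by group
            rw [h7, ← he]; group
          rw [h6]; exact hh0
        have h4 := map_conj_le_iff_mem h3
        rw [hNH] at h4
        apply hgM
        have h8 : g = (g⁻¹ * y)⁻¹ * m := by rw [← hym]; group
        rw [h8]; exact M.mul_mem (M.inv_mem h4) hm
      have hMle : M ≤ (H ⊔ H'') ⊔ H' :=
        (le_of_eq hKM.symm).trans (sup_le (le_sup_left.trans le_sup_left) le_sup_right)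
      have htop : (H ⊔ H'') ⊔ H' = ⊤ := by
        apply hmaxM.2
        refine lt_of_le_of_ne hMle ?_
        intro heq
        apply hH''M
        rw [heq]
        exact le_sup_right.trans le_sup_left
      have hKn : (H ⊔ H'').Normal := by
        rw [← Subgroup.normalizer_eq_top_iff, eq_top_iff, ← htop]
        exact sup_le le_normalizer hH'NK
      rcases hKn.eq_bot_or_eq_top with h | h
      · apply hHbot; rw [eq_bot_iff, ← h]; exact le_sup_left
      · have h1 := hcon y
        rw [← hH''] at h1
        exact h1 h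

end Cfsg.Agent.S3015
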