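import Cfsg.Statements.S3020
import Cfsg.Agent.Lib.Helper50.PComplement

set_option autoImplicit false
open Cfsg

namespace Cfsg.Agent.S3020

/-- Let G be a finite group, p a prime and H an abelian p-subgroup of G that is extremely closed (for every g, the subgroup generated by H and g H g⁻¹ meets N_G(H) exactly in H). Then for every g ∈ G, the subgroup T generated by H and g H g⁻¹ is the product of H with O_{p'}(T), and H meets O_{p'}(T) trivially; that is, O_{p'}(T) is a normal p-complement of H in T. -/
theorem result {G : Type*} [Group G] [Finite G] {p : ℕ} [Fact p.Prime] (H : Subgroup G) (hHp : IsPGroup p H) (hHab : IsMulCommutative H) (hcl : Cfsg.IsExtremelyClosed H) (g : G) (T : Subgroup G) (hT : T = H ⊔ H.map (MulAut.conj g).toMonoidHom) : H ⊔ (Cfsg.pPrimeCore p ↥T).map T.subtype = T ∧ H ⊓ (Cfsg.pPrimeCore p ↥T).map T.subtype = ⊥ := by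
  have hHT : H ≤ T := by rw [hT]; exact le_sup_left
  have hN : Subgroup.normalizer ((H.subgroupOf T : Subgroup ↥T) : Set ↥T) ≤ H.subgroupOf T := by
    rw [← Subgroup.subgroupOf_normalizer_eq hHT]
    intro x hx
    rw [Subgroup.mem_subgroupOf] at hx ⊢
    have h1 : (x : G) ∈ (H ⊔ H.map (MulAut.conj g).toMonoidHom) ⊓ Subgroup.normalizer (H : Set G) :=
      ⟨hT ▸ x.2, hx⟩
    rw [hcl g] at h1
    exact h1
  have hp' : IsPGroup p (H.subgroupOf T) := hHp.comap_subtype
  have hab' : IsMulCommutative (H.subgroupOf T) := by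
    rw [← Subgroup.le_centralizer_iff_isMulCommutative]
    intro x hx
    rw [Subgroup.mem_centralizer_iff]
    intro y hy
    apply Subtype.ext
    have h1 : H ≤ Subgroup.centralizer (H : Set G) :=
      Subgroup.le_centralizer_iff_isMulCommutative.mpr hHab
    exact Subgroup.mem_centralizer_iff.mp (h1 (Subgroup.mem_subgroupOf.mp hx)) _
      (Subgroup.mem_subgroupOf.mp hy)
  obtain ⟨h1, h2⟩ := Helper50.pPrimeCore_isComplement_of_abelian_self_normalizing hp' hab' hN
  have hmapH : (H.subgroupOf T).map T.subtype = H := by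
    rw [Subgroup.subgroupOf_map_subtype, inf_eq_left.mpr hHT]
  constructor
  · have := congrArg (Subgroup.map T.subtype) h1
    rw [Subgroup.map_sup, hmapH] at this
    rw [this, ← MonoidHom.range_eq_map, Subgroup.range_subtype]
  · have := congrArg (Subgroup.map T.subtype) h2
    rw [Subgroup.map_inf _ _ _ (Subgroup.subtype_injective T), hmapH, Subgroup.map_bot] at this
    exact this

end Cfsg.Agent.S3020
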