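import Cfsg.Statements.S3021
import Cfsg.Agent.Lib.Helper50.ExtClosed

set_option autoImplicit false
open Cfsg

namespace Cfsg.Agent.S3021

/-- Let G be a finite group, p a prime and H a p-subgroup of G that is extremely closed (for every g, the subgroup generated by H and g H g⁻¹ meets N_G(H) exactly in H). Then every p-subgroup Q of G containing H has N_G(Q) ≤ N_G(H); in particular every Sylow p-subgroup P of G containing H normalizes H, and H is strongly closed in P with respect to G. -/
theorem result {G : Type*} [Group G] [Finite G] {p : ℕ} [Fact p.Prime] (H : Subgroup G) (hHp : IsPGroup p H) (hcl : Cfsg.IsExtremelyClosed H) : (∀ Q : Subgroup G, IsPGroup p Q → H ≤ Q → Subgroup.normalizer (Q : Set G) ≤ Subgroup.normalizer (H : Set G)) ∧ ∀ P : Sylow p G, H ≤ (P : Subgroup G) → (P : Subgroup G) ≤ Subgroup.normalizer (H : Set G) ∧ Cfsg.IsStronglyClosed H (P : Subgroup G) := by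
  have h1 : ∀ Q : Subgroup G, IsPGroup p Q → H ≤ Q →
      Subgroup.normalizer (Q : Set G) ≤ Subgroup.normalizer (H : Set G) := by
    intro Q hQ hHQ g hg
    apply Helper50.extClosed_conj_mem hcl hQ hHQ
    rintro _ ⟨h, hh, rfl⟩
    have := (Subgroup.mem_normalizer_iff.mp hg h).mp (hHQ hh)
    simpa [MulAut.conj_apply] using this
  refine ⟨h1, ?_⟩
  intro P hHP
  have hPN : (P : Subgroup G) ≤ Subgroup.normalizer (H : Set G) :=
    Subgroup.le_normalizer.trans (h1 P P.isPGroup' hHP)
  refine ⟨hPN, hHP, ?_⟩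
  intro x hx g hg
  have h2 : g * x * g⁻¹ ∈ (H ⊔ H.map (MulAut.conj g).toMonoidHom) ⊓
      Subgroup.normalizer (H : Set G) := by
    refine ⟨?_, hPN hg⟩
    apply (le_sup_right : H.map (MulAut.conj g).toMonoidHom ≤ _)
    exact ⟨x, hx, by simp [MulAut.conj_apply]⟩
  rw [hcl g] at h2
  exact h2

end Cfsg.Agent.S3021
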