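import Cfsg.Statements.S3023
import Mathlib
import Cfsg.Agent.Lib.Helper54.CharPFStar
import Cfsg.Agent.S2896
import Cfsg.Agent.S0542
-- import your own Cfsg.Agent.* helpers here

set_option autoImplicit false
open Cfsg

namespace Cfsg.Agent.S3023

open Cfsg.Agent.Helper54 in
theorem isCharP_of_isSubnormal {X : Type*} [Group X] [Finite X] {p : ℕ} [Fact p.Prime]
    (hX : IsCharP p X) (Y : Subgroup X) (hY : Y.IsSubnormal) : IsCharP p Y := by
  induction hY with
  | top => exact hX.of_mulEquiv Subgroup.topEquiv.symm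
  | step H K h_le _ hN ih =>
    have h1 : IsCharP p (H.subgroupOf K) := ih.of_normal (H.subgroupOf K)
    exact h1.of_mulEquiv (Subgroup.subgroupOfEquivOfLe h_le)

/-- Let p be a prime, G a finite group of parabolic characteristic p (every p-local subgroup containing a Sylow p-subgroup of G has characteristic p), S a Sylow p-subgroup of G and G₁ a subnormal subgroup of G. If the centre of S ∩ G₁ is nontrivial and contained in the centre of S, then G₁ has parabolic characteristic p. -/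
theorem result {G : Type*} [Group G] [Finite G] {p : ℕ} [Fact p.Prime] (hG : Cfsg.IsOfParabolicCharacteristic p G) (S : Sylow p G) (G₁ : Subgroup G) (hsn : G₁.IsSubnormal) (hne : ((S : Subgroup G) ⊓ G₁) ⊓ Subgroup.centralizer (((S : Subgroup G) ⊓ G₁ : Subgroup G) : Set G) ≠ ⊥) (hle : ((S : Subgroup G) ⊓ G₁) ⊓ Subgroup.centralizer (((S : Subgroup G) ⊓ G₁ : Subgroup G) : Set G) ≤ (S : Subgroup G) ⊓ Subgroup.centralizer ((S : Subgroup G) : Set G)) : Cfsg.IsOfParabolicCharacteristic p ↥G₁ := by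
  obtain ⟨P₁, hP₁⟩ := Cfsg.Agent.S0542.result p G₁ hsn S
  apply Cfsg.Agent.S2896.part2_mpr' P₁
  intro z₁ hz₁P hz₁c hz₁o
  have hzS : (z₁ : G) ∈ (S : Subgroup G) := Subgroup.mem_subgroupOf.mp (hP₁.le hz₁P)
  have hzc : (z₁ : G) ∈ Subgroup.centralizer (((S : Subgroup G) ⊓ G₁ : Subgroup G) : Set G) := by
    rw [Subgroup.mem_centralizer_iff]
    intro s hs
    have hs' := Subgroup.mem_inf.mp hs
    have h1 : (⟨s, hs'.2⟩ : ↥G₁) ∈ (P₁ : Subgroup ↥G₁) := hP₁.ge (Subgroup.mem_subgroupOf.mpr hs'.1)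
    exact congrArg Subtype.val ((Subgroup.mem_centralizer_iff.mp hz₁c) _ h1)
  have hzZ := hle (Subgroup.mem_inf.mpr ⟨Subgroup.mem_inf.mpr ⟨hzS, z₁.2⟩, hzc⟩)
  have hzo : orderOf (z₁ : G) = p := by rw [Subgroup.orderOf_coe]; exact hz₁o
  have hz1 : (z₁ : G) ≠ 1 := by
    intro h3
    rw [h3, orderOf_one] at hzo
    exact (Fact.out : p.Prime).one_lt.ne hzo
  have hzΩ : (z₁ : G) ∈
      Cfsg.omegaOne p ((S : Subgroup G) ⊓ Subgroup.centralizer ((S : Subgroup G) : Set G)) := by
    apply Subgroup.subset_closure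
    refine ⟨hzZ, ?_⟩
    rw [← hzo]
    exact pow_orderOf_eq_one _
  have h2 := Cfsg.Agent.S2896.part2_mp S hG _ hz1 hzΩ
  rw [← Cfsg.Agent.Helper54.isCharP_iff_generalizedFittingSubgroup_eq] at h2
  have hsub : (G₁.subgroupOf (Subgroup.centralizer ({(z₁ : G)} : Set G))).IsSubnormal := hsn.subgroupOf
  have h4 : Cfsg.Agent.Helper54.IsCharP p
      ↥(G₁.subgroupOf (Subgroup.centralizer ({(z₁ : G)} : Set G))) :=
    isCharP_of_isSubnormal h2 _ hsub
  have e : ↥(G₁.subgroupOf (Subgroup.centralizer ({(z₁ : G)} : Set G))) ≃*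
      ↥((Subgroup.centralizer ({(z₁ : G)} : Set G)).subgroupOf G₁) :=
    Cfsg.Agent.Helper54.subgroupOfSwap G₁ _
  have h5 : (Subgroup.centralizer ({(z₁ : G)} : Set G)).subgroupOf G₁ =
      Subgroup.centralizer ({z₁} : Set ↥G₁) := by
    ext y
    rw [Subgroup.mem_subgroupOf, Subgroup.mem_centralizer_iff, Subgroup.mem_centralizer_iff]
    constructor
    · intro h s hs
      rw [Set.mem_singleton_iff] at hs
      subst hs
      exact Subtype.ext (h _ rfl)
    · intro h s hs
      rw [Set.mem_singleton_iff] at hs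
      subst hs
      exact congrArg Subtype.val (h z₁ rfl)
  exact (h4.of_mulEquiv e).of_mulEquiv (MulEquiv.subgroupCongr h5)

end Cfsg.Agent.S3023
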