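import Cfsg.Statements.S3025
import Mathlib
import Cfsg.Agent.S0016
import Cfsg.Agent.Lib.Helper61.MinNormalProd

set_option autoImplicit false
open Cfsg
open Pointwise

namespace Cfsg.Agent.S3025

open Cfsg.Agent.Helper61

variable {F : Type*} [Group F] [Finite F]

/-- The minimal normal subgroup is simple. -/
theorem simple_of_min (H N : Subgroup F) [hN : N.Normal] (hH : H ≠ ⊥) (hHN : H ≤ N)
    (hmin : ∀ R : Subgroup F, R ≠ ⊥ → H ≤ Subgroup.normalizer (R : Set F) → H ≤ R)
    (hNmin : ∀ M : Subgroup F, M.Normal → M ≤ N → M = ⊥ ∨ M = N) (hN0 : N ≠ ⊥) :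
    IsSimpleGroup ↥N := by
  obtain ⟨S, hS⟩ := exists_isMinInv N hN0
  -- H lies in every conjugate of S
  have hconj : ∀ g : F, H ≤ MulAut.conj g • S := by
    intro g
    have hg := hS.conj g
    apply hmin _ hg.2.1
    intro h hh
    rw [Subgroup.mem_normalizer_iff_map_conj_eq]
    exact hg.1.2 h (hHN hh)
  -- all conjugates of S coincide with S
  have hall : ∀ g : F, MulAut.conj g • S = S := by
    intro g
    have hg := hS.conj g
    set Sg : Subgroup F := MulAut.conj g • S with hSg
    have hinf : NInv N (Sg ⊓ S) := hg.1.inf hS.1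
    rcases hS.2.2 _ hinf inf_le_right with h | h
    · exfalso
      apply hH
      have h0 : H ≤ S := by simpa using hconj 1
      have h1 : H ≤ Sg ⊓ S := le_inf (hconj g) h0
      rw [h] at h1
      exact le_bot_iff.mp h1
    · have h2 : S ≤ Sg := by rw [← h]; exact inf_le_left
      rcases hg.2.2 S hS.1 h2 with h3 | h3
      · exact absurd h3 hS.2.1
      · exact h3.symm
  have hSN : S = N := by
    have h1 := iSup_conj_eq hNmin hS.1.1 hS.2.1
    rw [← h1]
    apply le_antisymm
    · have := le_iSup (fun g : F => MulAut.conj g • S) 1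
      simpa using this
    · apply iSup_le
      intro g
      rw [hall g]
  have hsimp := isSimpleGroup_of_isMinInv hS (by rw [hSN]; exact le_sup_left)
  rw [hSN] at hsimp
  exact hsimp

/-- The quotient by the centralizer of a normal subgroup of prime order is cyclic of order
dividing `p - 1`. -/
theorem cyclic_quotient (N : Subgroup F) [hN : N.Normal] (hp : (Nat.card N).Prime) :
    (∃ g : F, Subgroup.centralizer (N : Set F) ⊔ Subgroup.zpowers g = ⊤) ∧
      (Subgroup.centralizer (N : Set F)).index ∣ Nat.card N - 1 := by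
  have : Fact (Nat.card N).Prime := ⟨hp⟩
  have hcyc : IsCyclic N := isCyclic_of_prime_card rfl
  set φ : F →* MulAut N := MulAut.conjNormal with hφ
  have hker : φ.ker = Subgroup.centralizer (N : Set F) := by
    ext x
    rw [MonoidHom.mem_ker, Subgroup.mem_centralizer_iff]
    constructor
    · intro hx n hn
      have h1 := congrArg (fun σ : MulAut N => ((σ ⟨n, hn⟩ : N) : F)) hx
      simp only [hφ, MulAut.conjNormal_apply, MulAut.one_apply] at h1
      calc n * x = (x * n * x⁻¹) * x := by rw [h1]
        _ = x * n := by group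
    · intro hx
      ext n
      simp only [hφ, MulAut.conjNormal_apply, MulAut.one_apply]
      have := hx n n.2
      rw [← this]; group
  have : IsCyclic (ZMod (Nat.card N))ˣ := inferInstance
  have : IsCyclic (MulAut N) :=
    isCyclic_of_surjective (IsCyclic.mulAutMulEquiv N).symm (IsCyclic.mulAutMulEquiv N).symm.surjective
  have : IsCyclic φ.range := Subgroup.isCyclic _
  obtain ⟨⟨γ, ⟨g, rfl⟩⟩, hγ⟩ := IsCyclic.exists_generator (α := φ.range)
  constructor
  · refine ⟨g, ?_⟩
    rw [eq_top_iff]
    intro f _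
    obtain ⟨k, hk⟩ := Subgroup.mem_zpowers_iff.mp (hγ ⟨φ f, f, rfl⟩)
    have hk' : φ g ^ k = φ f := by
      have := congrArg Subtype.val hk
      simpa using this
    have hmem : f * (g ^ k)⁻¹ ∈ Subgroup.centralizer (N : Set F) := by
      rw [← hker, MonoidHom.mem_ker, map_mul, map_inv, map_zpow, hk', mul_inv_cancel]
    have : f = (f * (g ^ k)⁻¹) * g ^ k := by group
    rw [this]
    exact Subgroup.mul_mem _ (Subgroup.mem_sup_left hmem)
      (Subgroup.mem_sup_right (Subgroup.zpow_mem _ (Subgroup.mem_zpowers g) k))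
  · rw [← hker, Subgroup.index_ker]
    have h1 : Nat.card φ.range ∣ Nat.card (MulAut N) := Subgroup.card_subgroup_dvd_card _
    rw [IsCyclic.card_mulAut, Nat.totient_prime hp] at h1
    exact h1

/-- Let F be a finite group and H a nontrivial subgroup of F that is contained in every nontrivial subgroup of F which H normalizes. Then F has a nontrivial normal subgroup N contained in every nontrivial normal subgroup of F (a unique minimal normal subgroup), N is simple, and one of the following holds: C_F(N) = 1; or H = N has prime order p, C_F(N) is cyclic of order a power of p, and F/C_F(N) is cyclic of order dividing p − 1; or H = N has order 2, N is central in F, and F is a generalized quaternion group. -/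
theorem result {F : Type*} [Group F] [Finite F] (H : Subgroup F) (hH : H ≠ ⊥)
    (hmin : ∀ R : Subgroup F, R ≠ ⊥ → H ≤ Subgroup.normalizer (R : Set F) → H ≤ R) :
    ∃ N : Subgroup F, N.Normal ∧ N ≠ ⊥ ∧ (∀ M : Subgroup F, M.Normal → M ≠ ⊥ → N ≤ M) ∧ IsSimpleGroup ↥N ∧
      (Subgroup.centralizer (N : Set F) = ⊥ ∨
       (H = N ∧ (Nat.card N).Prime ∧ IsCyclic ↥(Subgroup.centralizer (N : Set F)) ∧
          (∃ k : ℕ, 1 ≤ k ∧ Nat.card ↥(Subgroup.centralizer (N : Set F)) = Nat.card N ^ k) ∧
          (∃ g : F, Subgroup.centralizer (N : Set F) ⊔ Subgroup.zpowers g = ⊤) ∧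
          (Subgroup.centralizer (N : Set F)).index ∣ Nat.card N - 1) ∨
       (H = N ∧ Nat.card N = 2 ∧ Subgroup.centralizer (N : Set F) = ⊤ ∧
          ∃ k : ℕ, 1 ≤ k ∧ Nonempty (F ≃* QuaternionGroup (2 ^ k)))) := by
  classical
  set N : Subgroup F := Subgroup.normalClosure (H : Set F) with hNdef
  have hNn : N.Normal := Subgroup.normalClosure_normal
  have hHN : H ≤ N := Subgroup.le_normalClosure
  have hN0 : N ≠ ⊥ := by
    intro h
    apply hH
    rw [h] at hHN
    exact le_bot_iff.mp hHN
  have hNle : ∀ M : Subgroup F, M.Normal → M ≠ ⊥ → N ≤ M := by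
    intro M hM hM0
    apply Subgroup.normalClosure_le_normal
    apply hmin M hM0
    rw [Subgroup.normalizer_eq_top]; exact le_top
  have hNmin : ∀ M : Subgroup F, M.Normal → M ≤ N → M = ⊥ ∨ M = N := by
    intro M hM hMN
    by_cases h : M = ⊥
    · exact Or.inl h
    · exact Or.inr (le_antisymm hMN (hNle M hM h))
  have hsimple := simple_of_min H N hH hHN hmin hNmin hN0
  refine ⟨N, hNn, hN0, hNle, hsimple, ?_⟩
  set C : Subgroup F := Subgroup.centralizer (N : Set F) with hCdef
  have hCn : C.Normal := Subgroup.normal_centralizer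
  by_cases hC : C = ⊥
  · exact Or.inl hC
  right
  have hNC : N ≤ C := hNle C hCn hC
  -- N is commutative, hence of prime order
  have hcomm : ∀ a b : N, a * b = b * a := by
    intro a b
    apply Subtype.ext
    have := (Subgroup.mem_centralizer_iff.mp (hNC b.2)) a a.2
    simpa using this
  have hprime : (Nat.card N).Prime := by
    letI : CommGroup N := { (inferInstance : Group N) with mul_comm := hcomm }
    exact IsSimpleGroup.prime_card
  set p : ℕ := Nat.card N with hp
  have hfact : Fact p.Prime := ⟨hprime⟩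
  -- H = N
  have hHeq : H = N := by
    apply Subgroup.eq_of_le_of_card_ge hHN
    have hdvd : Nat.card H ∣ Nat.card N := Subgroup.card_dvd_of_le hHN
    rcases (Nat.dvd_prime hprime).mp hdvd with h1 | h1
    · exact absurd (Subgroup.card_eq_one.mp h1) hH
    · exact h1.ge
  -- every nontrivial subgroup of C contains N
  have hsub : ∀ R : Subgroup F, R ≤ C → R ≠ ⊥ → N ≤ R := by
    intro R hRC hR0
    rw [← hHeq]
    apply hmin R hR0
    intro n hn
    rw [Subgroup.mem_normalizer_iff]
    intro r
    have hnN : n ∈ N := hHN hn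
    have key : ∀ r' ∈ R, n * r' * n⁻¹ = r' := by
      intro r' hr'
      have := (Subgroup.mem_centralizer_iff.mp (hRC hr')) n hnN
      rw [this]; group
    constructor
    · intro hr; rw [key r hr]; exact hr
    · intro hr
      have h2 := key _ hr
      have h3 : n * r * n⁻¹ = r := by
        have h4 : n⁻¹ * (n * (n * r * n⁻¹) * n⁻¹) * n = n⁻¹ * (n * r * n⁻¹) * n := by rw [h2]
        have h5 : n⁻¹ * (n * (n * r * n⁻¹) * n⁻¹) * n = n * r * n⁻¹ := by group
        have h6 : n⁻¹ * (n * r * n⁻¹) * n = r := by group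
        rw [h5, h6] at h4; exact h4
      rw [← h3]; exact hr
  -- C is a p-group
  have hCcard : ∃ k : ℕ, 1 ≤ k ∧ Nat.card C = p ^ k := by
    have hq : ∀ {q : ℕ}, q.Prime → q ∣ Nat.card C → q = p := by
      intro q hq hdvd
      haveI : Fact q.Prime := ⟨hq⟩
      obtain ⟨x, hx⟩ := exists_prime_orderOf_dvd_card' q hdvd
      have hxo : orderOf (x : F) = q := by rw [Subgroup.orderOf_coe]; exact hx
      have hR0 : Subgroup.zpowers (x : F) ≠ ⊥ := by
        intro h
        rw [Subgroup.zpowers_eq_bot] at h
        rw [h, orderOf_one] at hxo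
        exact hq.one_lt.ne hxo
      have hRC : Subgroup.zpowers (x : F) ≤ C := by
        rw [Subgroup.zpowers_le]; exact x.2
      have h1 : Nat.card N ∣ Nat.card (Subgroup.zpowers (x : F)) :=
        Subgroup.card_dvd_of_le (hsub _ hRC hR0)
      rw [Nat.card_zpowers, hxo] at h1
      exact ((Nat.prime_dvd_prime_iff_eq hprime hq).mp h1).symm
    have hpos : Nat.card C ≠ 0 := Nat.card_pos.ne'
    have hpow := Nat.eq_prime_pow_of_unique_prime_dvd hpos hq
    refine ⟨(Nat.card C).primeFactorsList.length, ?_, hpow⟩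
    by_contra hlt
    have h0 : (Nat.card C).primeFactorsList.length = 0 := by omega
    rw [h0, pow_zero] at hpow
    exact hC (Subgroup.card_eq_one.mp hpow)
  obtain ⟨k, hk1, hk⟩ := hCcard
  have hCp : IsPGroup p C := IsPGroup.of_card hk
  -- unique subgroup of order p in C
  have huniq : ∀ A B : Subgroup C, Nat.card A = p → Nat.card B = p → A = B := by
    have key : ∀ A : Subgroup C, Nat.card A = p → A.map C.subtype = N := by
      intro A hA
      have hcard : Nat.card (A.map C.subtype) = p := by
        rw [← hA]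
        exact Nat.card_congr (A.equivMapOfInjective C.subtype C.subtype_injective).toEquiv.symm
      have h0 : A.map C.subtype ≠ ⊥ := by
        intro h
        rw [h, Subgroup.card_bot] at hcard
        exact hprime.one_lt.ne hcard
      have hle := hsub _ (Subgroup.map_subtype_le A) h0
      exact (Subgroup.eq_of_le_of_card_ge hle (by rw [hcard])).symm
    intro A B hA hB
    apply Subgroup.map_injective C.subtype_injective
    rw [key A hA, key B hB]
  obtain ⟨⟨g, hg⟩, hidx⟩ := cyclic_quotient N hprime
  have hS16 := Cfsg.Agent.S0016.result p hCp huniq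
  have case2 : IsCyclic C → (H = N ∧ (Nat.card N).Prime ∧ IsCyclic ↥C ∧
          (∃ k : ℕ, 1 ≤ k ∧ Nat.card ↥C = Nat.card N ^ k) ∧
          (∃ g : F, C ⊔ Subgroup.zpowers g = ⊤) ∧ C.index ∣ Nat.card N - 1) :=
    fun hcyc => ⟨hHeq, hprime, hcyc, ⟨k, hk1, hk⟩, ⟨g, hg⟩, hidx⟩
  rcases hS16 with hcyc | ⟨hp2, n, ⟨e⟩⟩
  · exact Or.inl (case2 hcyc)
  · by_cases hn0 : n = 0
    · left
      apply case2
      subst hn0
      rw [pow_zero] at e
      haveI := QuaternionGroup.quaternionGroup_one_isCyclic
      exact isCyclic_of_surjective e.symm e.symm.surjective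
    · right
      have hCtop : C = ⊤ := by
        have h2 : Nat.card N - 1 = 1 := by rw [← hp, hp2]
        have h1 : C.index ∣ 1 := h2 ▸ hidx
        exact Subgroup.index_eq_one.mp (Nat.dvd_one.mp h1)
      refine ⟨hHeq, hp2, hCtop, n, Nat.one_le_iff_ne_zero.mpr hn0, ⟨?_⟩⟩
      exact (Subgroup.topEquiv.symm.trans (MulEquiv.subgroupCongr hCtop.symm)).trans e

end Cfsg.Agent.S3025
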