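import Cfsg.Statements.S3027
import Cfsg.Agent.Lib.Helper50.SubnormalSupplement

set_option autoImplicit false
open Cfsg

namespace Cfsg.Agent.S3027

/-- Let G be a finite group and D a normal subgroup of G such that G/D is perfect (that is, G = G′D). Then among the subnormal subgroups B of G with BD = G there is a least one, and it is normal in G. -/
theorem result {G : Type*} [Group G] [Finite G] (D : Subgroup G) [D.Normal] (hperf : ⁅(⊤ : Subgroup G), (⊤ : Subgroup G)⁆ ⊔ D = ⊤) :
    ∃ B : Subgroup G, B.Normal ∧ B ⊔ D = ⊤ ∧ ∀ B' : Subgroup G, B'.IsSubnormal → B' ⊔ D = ⊤ → B ≤ B' := by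
  have key : ∀ B : Subgroup G, B.map (QuotientGroup.mk' D) = ⊤ ↔ B ⊔ D = ⊤ := by
    intro B
    constructor
    · intro h
      have := congrArg (Subgroup.comap (QuotientGroup.mk' D)) h
      rwa [Subgroup.comap_map_eq, QuotientGroup.ker_mk', Subgroup.comap_top] at this
    · intro h
      have := congrArg (Subgroup.map (QuotientGroup.mk' D)) h
      rw [Subgroup.map_sup, Subgroup.map_top_of_surjective _ (QuotientGroup.mk'_surjective D)] at this
      have h2 : D.map (QuotientGroup.mk' D) = ⊥ := by
        rw [Subgroup.map_eq_bot_iff, QuotientGroup.ker_mk']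
      rwa [h2, sup_bot_eq] at this
  have hQ : ⁅(⊤ : Subgroup (G ⧸ D)), (⊤ : Subgroup (G ⧸ D))⁆ = ⊤ := by
    have h1 := (key _).mpr hperf
    rw [Subgroup.map_commutator,
      Subgroup.map_top_of_surjective _ (QuotientGroup.mk'_surjective D)] at h1
    exact h1
  obtain ⟨B, hBn, hBf, hBleast⟩ := Helper50.least_subnormal_supplement_aux hQ (Nat.card G) G rfl
    (QuotientGroup.mk' D) (QuotientGroup.mk'_surjective D)
  exact ⟨B, hBn, (key B).mp hBf, fun B' hsn hB' => hBleast B' hsn ((key B').mpr hB')⟩

end Cfsg.Agent.S3027
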