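import Cfsg.Statements.S3031
import Cfsg.Agent.Lib.Helper50.CoprimeFamily2
import Cfsg.Agent.Lib.Helper50.FocalFrattini
import Cfsg.Agent.Lib.Helper2.PGroup
-- import your own Cfsg.Agent.* helpers here

set_option autoImplicit false
open Cfsg

namespace Cfsg.Agent.S3031

open Cfsg.Agent.Helper50 Cfsg.Agent.Helper33 Cfsg.Agent.Helper2 Pointwise
open scoped commutatorElement

variable {G : Type*} [Group G]

/-- `N_G(D) = C_G(D) R` when the `p'`-elements of `N_G(D)` centralize `D` and `R` is a Sylow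
`p`-subgroup of `N_G(D)` (local form of helper2's `frob_normalizer_factor`). -/
theorem normalizer_factor_of_local [Finite G] {p : ℕ} [hp : Fact p.Prime] (D : Subgroup G)
    (hloc : ∀ g ∈ Subgroup.normalizer (D : Set G), Nat.Coprime (orderOf g) p →
      g ∈ Subgroup.centralizer (D : Set G)) (R : Subgroup G)
    (hRidx : ¬ p ∣ R.relIndex (Subgroup.normalizer (D : Set G))) :
    ∀ n ∈ Subgroup.normalizer (D : Set G), ∃ c ∈ Subgroup.centralizer (D : Set G), ∃ r ∈ R,
      n = c * r := by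
  obtain ⟨N, hN⟩ : ∃ N : Subgroup G, N = Subgroup.normalizer (D : Set G) := ⟨_, rfl⟩
  rw [← hN] at hRidx ⊢
  obtain ⟨C', hC'⟩ : ∃ C' : Subgroup N, C' = (Subgroup.centralizer (D : Set G)).subgroupOf N :=
    ⟨_, rfl⟩
  have hC'n : C'.Normal := by
    rw [hC', hN, ← Subgroup.normalizerMonoidHom_ker]
    infer_instance
  obtain ⟨R', hR'⟩ : ∃ R' : Subgroup N, R' = R.subgroupOf N := ⟨_, rfl⟩
  have hpq : IsPGroup p (N ⧸ C') := by
    intro q
    induction q using QuotientGroup.induction_on with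
    | H n =>
      refine ⟨(orderOf n).factorization p, ?_⟩
      rw [← QuotientGroup.mk_pow, QuotientGroup.eq_one_iff, hC', Subgroup.mem_subgroupOf]
      apply hloc
      · rw [← hN]; exact (n ^ (p ^ (orderOf n).factorization p)).2
      · have := coprime_orderOf_pow_ordProj (p := p) n
        rwa [← Subgroup.orderOf_coe] at this
  obtain ⟨j, hj⟩ := IsPGroup.iff_card.mp hpq
  have hCidx : C'.index = p ^ j := hj
  have hJ1 : (C' ⊔ R').index ∣ p ^ j := hCidx ▸ Subgroup.index_dvd_of_le le_sup_left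
  have hJ2 : (C' ⊔ R').index ∣ R'.index := Subgroup.index_dvd_of_le le_sup_right
  have hR'idx : R'.index = R.relIndex N := by rw [hR']; rfl
  have hJ3 : (C' ⊔ R').index = 1 := by
    obtain ⟨i, -, hi⟩ := (Nat.dvd_prime_pow hp.out).mp hJ1
    rcases Nat.eq_zero_or_pos i with h0 | h0
    · rw [hi, h0, pow_zero]
    · exfalso
      apply hRidx
      rw [← hR'idx]
      refine dvd_trans ?_ hJ2
      rw [hi]
      exact dvd_pow_self p h0.ne'
  have hJ : C' ⊔ R' = ⊤ := Subgroup.index_eq_one.mp hJ3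
  intro n hn
  have hmem : (⟨n, hn⟩ : N) ∈ C' ⊔ R' := by rw [hJ]; exact Subgroup.mem_top _
  rw [← SetLike.mem_coe, Subgroup.normal_mul] at hmem
  obtain ⟨c, hc, r, hr, hcr⟩ := hmem
  refine ⟨c, ?_, r, ?_, ?_⟩
  · rw [hC'] at hc; exact Subgroup.mem_subgroupOf.mp hc
  · rw [hR'] at hr; exact Subgroup.mem_subgroupOf.mp hr
  · have := congrArg Subtype.val hcr
    simpa using this.symm

/-- membership in the image of the Frattini subgroup of `P` -/
theorem mem_map_frattini_iff (P : Subgroup G) {z : G} (hz : z ∈ P) :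
    z ∈ (frattini P).map P.subtype ↔ ∀ M : Subgroup P, IsCoatom M → (⟨z, hz⟩ : P) ∈ M := by
  rw [← mem_frattini_iff']
  constructor
  · rintro ⟨z', hz', rfl⟩
    exact hz'
  · intro h
    exact ⟨⟨z, hz⟩, h, rfl⟩

/-- commutators of elements of `P` lie in the image of `Φ(P)`. -/
theorem commutator_mem_map_frattini [Finite G] {p : ℕ} [Fact p.Prime] (P : Sylow p G) {a b : G}
    (ha : a ∈ (P : Subgroup G)) (hb : b ∈ (P : Subgroup G)) :
    a * b * a⁻¹ * b⁻¹ ∈ (frattini P).map (P : Subgroup G).subtype := by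
  refine ⟨⁅(⟨a, ha⟩ : P), ⟨b, hb⟩⁆, commutatorElement_mem_frattini P.isPGroup' _ _, ?_⟩
  rw [commutatorElement_def]
  rfl

/-- members of the family are normal in `P` -/
theorem le_normalizer_of_closed [Finite G] {p : ℕ} [Fact p.Prime] (P : Sylow p G) {E : Subgroup G}
    (hEP : E ≤ (P : Subgroup G))
    (hcl : ∀ g : G, E.map (MulAut.conj g).toMonoidHom ⊓ Subgroup.normalizer (E : Set G) ≤ E) :
    (P : Subgroup G) ≤ Subgroup.normalizer (E : Set G) := by
  by_contra hnot
  obtain ⟨N, hN⟩ : ∃ N : Subgroup G, N = (P : Subgroup G) ⊓ Subgroup.normalizer (E : Set G) :=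
    ⟨_, rfl⟩
  have hNP : N < (P : Subgroup G) := by
    refine lt_of_le_of_ne (hN ▸ inf_le_left) ?_
    intro h
    apply hnot
    rw [← h, hN]; exact inf_le_right
  have hEN : E ≤ N := hN ▸ le_inf hEP Subgroup.le_normalizer
  obtain ⟨x, hxP, hxN, hxnot⟩ := exists_mem_normalizer_not_mem P.isPGroup' hNP
  apply hxnot
  rw [hN]
  refine ⟨hxP, ?_⟩
  apply map_conj_le_iff_mem
  have h1 : N.map (MulAut.conj x).toMonoidHom = N :=
    Subgroup.mem_normalizer_iff_map_conj_eq.mp hxN
  have h2 : E.map (MulAut.conj x).toMonoidHom ≤ N := h1 ▸ Subgroup.map_mono hEN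
  have h3 : E.map (MulAut.conj x).toMonoidHom ≤ Subgroup.normalizer (E : Set G) :=
    h2.trans (hN ▸ inf_le_right)
  exact (le_inf le_rfl h3).trans (hcl x)

/-- members of the family are strongly closed in `P` -/
theorem conj_mem_of_closed {E P' : Subgroup G} (hPE : P' ≤ Subgroup.normalizer (E : Set G))
    (hcl : ∀ g : G, E.map (MulAut.conj g).toMonoidHom ⊓ Subgroup.normalizer (E : Set G) ≤ E)
    {u y : G} (hu : u ∈ E) (hy : y⁻¹ * u * y ∈ P') : y⁻¹ * u * y ∈ E := by
  apply hcl y⁻¹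
  refine ⟨⟨u, hu, ?_⟩, hPE hy⟩
  simp

/-- Let G be a finite group, p the smallest prime dividing |G| and P a Sylow p-subgroup. Suppose that P is cyclic, or that P has a subgroup D with 1 < |D| < |P| such that every subgroup E of P of order |D|, and also every subgroup E of P of order 4 when |D| = 2, satisfies g E g⁻¹ ∩ N_G(E) ≤ E for all g ∈ G (E is strongly closed in its normalizer with respect to G). Then G has a normal p-complement. -/
theorem result {G : Type*} [Group G] [Finite G] {p : ℕ} [Fact p.Prime] (hdiv : p ∣ Nat.card G)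
    (hmin : ∀ q : ℕ, q.Prime → q ∣ Nat.card G → p ≤ q) (P : Sylow p G)
    (h : IsCyclic ↥(P : Subgroup G) ∨ ∃ D : Subgroup G, D ≤ (P : Subgroup G) ∧ 1 < Nat.card D ∧ Nat.card D < Nat.card (P : Subgroup G) ∧
      ∀ E : Subgroup G, E ≤ (P : Subgroup G) → (Nat.card E = Nat.card D ∨ (Nat.card D = 2 ∧ Nat.card E = 4)) →
        ∀ g : G, E.map (MulAut.conj g).toMonoidHom ⊓ Subgroup.normalizer (E : Set G) ≤ E) :
    Cfsg.HasNormalPComplement p G := by
  have hp : p.Prime := Fact.out
  rcases h with hcyc | ⟨D, hDP, hD1, hDlt, hfam⟩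
  · -- cyclic Sylow subgroup: Mathlib
    have hmf : (Nat.card G).minFac = p := by
      have hne1 : Nat.card G ≠ 1 := by
        intro h1
        rw [h1] at hdiv
        exact hp.one_lt.ne' (Nat.dvd_one.mp hdiv)
      apply le_antisymm
      · exact Nat.minFac_le_of_dvd hp.two_le hdiv
      · exact hmin _ (Nat.minFac_prime hne1) (Nat.minFac_dvd _)
    exact ⟨P, _, inferInstance, IsCyclic.isComplement' hmf hcyc⟩
  · obtain ⟨d, hd⟩ := IsPGroup.iff_card.mp (P.isPGroup'.to_le hDP)
    obtain ⟨n, hn⟩ := IsPGroup.iff_card.mp P.isPGroup'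
    have hd1 : 1 ≤ d := by
      rcases Nat.eq_zero_or_pos d with h0 | h0
      · rw [hd, h0, pow_zero] at hD1; omega
      · exact h0
    rw [hd] at hfam hDlt
    have hdn : d < n := by
      rw [hn] at hDlt
      exact (Nat.pow_lt_pow_iff_right hp.one_lt).mp hDlt
    have hnorm : ∀ E : Subgroup G, E ≤ (P : Subgroup G) →
        (Nat.card E = p ^ d ∨ (p ^ d = 2 ∧ Nat.card E = 4)) →
        (P : Subgroup G) ≤ Subgroup.normalizer (E : Set G) :=
      fun E hEP hc => le_normalizer_of_closed P hEP (hfam E hEP hc)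
    have hsc : ∀ E : Subgroup G, E ≤ (P : Subgroup G) →
        (Nat.card E = p ^ d ∨ (p ^ d = 2 ∧ Nat.card E = 4)) →
        ∀ u ∈ E, ∀ y : G, y⁻¹ * u * y ∈ (P : Subgroup G) → y⁻¹ * u * y ∈ E :=
      fun E hEP hc u hu y hy => conj_mem_of_closed (hnorm E hEP hc) (hfam E hEP hc) hu hy
    apply hasNormalPComplement_of_focal_le_frattini P
    apply focal_le_of_tame_step P
    intro T x hTame hxT u hu
    obtain ⟨Q', hTeq, hS1, hS2, hor⟩ := hTame
    have hTP : T ≤ (P : Subgroup G) := hTeq ▸ inf_le_left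
    have huP : u ∈ (P : Subgroup G) := hTP hu
    have hxu : x⁻¹ * u * x ∈ T := (Subgroup.mem_normalizer_iff''.mp hxT u).mp hu
    rcases lt_or_ge (p ^ d) (Nat.card T) with hbig | hsmall
    · -- `|T| > p ^ d`: `N_G(T) = C_G(T) N_P(T)`
      have hloc : ∀ g ∈ Subgroup.normalizer (T : Set G), Nat.Coprime (orderOf g) p →
          g ∈ Subgroup.centralizer (T : Set G) := by
        intro g hg hgo
        apply centralizes_of_family hd1 hmin T (P.isPGroup'.to_le hTP) hbig g hgo hg
        intro E hET hc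
        apply map_conj_le_iff_mem
        have h1 : T.map (MulAut.conj g).toMonoidHom = T :=
          Subgroup.mem_normalizer_iff_map_conj_eq.mp hg
        have h2 : E.map (MulAut.conj g).toMonoidHom ≤ T := h1 ▸ Subgroup.map_mono hET
        have h3 := h2.trans (hTP.trans (hnorm E (hET.trans hTP) hc))
        exact (le_inf le_rfl h3).trans (hfam E (hET.trans hTP) hc g)
      obtain ⟨c, hc, r, hr, hxcr⟩ := normalizer_factor_of_local T hloc _ hS1.not_dvd x hxT
      have hrP : r ∈ (P : Subgroup G) := hr.1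
      have hcu : c⁻¹ * u * c = u := by
        have := (Subgroup.mem_centralizer_iff.mp hc) u hu
        rw [mul_assoc, this, inv_mul_cancel_left]
      have heq : u⁻¹ * (x⁻¹ * u * x) = u⁻¹ * r⁻¹ * (u⁻¹)⁻¹ * (r⁻¹)⁻¹ := by
        rw [hxcr]
        have : (c * r)⁻¹ * u * (c * r) = r⁻¹ * (c⁻¹ * u * c) * r := by group
        rw [this, hcu]; group
      rw [heq]
      exact commutator_mem_map_frattini P (inv_mem huP) (inv_mem hrP)
    · -- `|T| ≤ p ^ d`: `x` is a `p`-element
      have hxp : IsPElem p x := by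
        rcases hor with h1 | h1
        · exfalso
          rw [h1, inf_idem] at hTeq
          rw [hTeq, hn] at hsmall
          rw [hn] at hDlt
          omega
        · exact h1
      have hzp : IsPGroup p (Subgroup.zpowers x) := isPGroup_zpowers_of_isPElem hxp
      have hzN : Subgroup.zpowers x ≤ Subgroup.normalizer (T : Set G) :=
        (Subgroup.zpowers_le).mpr hxT
      obtain ⟨c, hcN, hcle⟩ := hS1.exists_conj_le hzp hzN
      have hr : c * x * c⁻¹ ∈ (P : Subgroup G) ⊓ Subgroup.normalizer (T : Set G) :=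
        (conj_smul_le_iff.mp hcle) x (Subgroup.mem_zpowers x)
      obtain ⟨r, hrdef⟩ : ∃ r, r = c * x * c⁻¹ := ⟨_, rfl⟩
      rw [← hrdef] at hr
      have hv : c * u * c⁻¹ ∈ T := (Subgroup.mem_normalizer_iff.mp hcN u).mp hu
      obtain ⟨v, hvdef⟩ : ∃ v, v = c * u * c⁻¹ := ⟨_, rfl⟩
      rw [← hvdef] at hv
      obtain ⟨w, hwdef⟩ : ∃ w, w = v⁻¹ * r⁻¹ * (v⁻¹)⁻¹ * (r⁻¹)⁻¹ := ⟨_, rfl⟩
      have hwT : w ∈ T := by
        rw [hwdef]
        have h1 : r⁻¹ * v * r ∈ T := (Subgroup.mem_normalizer_iff''.mp hr.2 v).mp hv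
        have : v⁻¹ * r⁻¹ * (v⁻¹)⁻¹ * (r⁻¹)⁻¹ = v⁻¹ * (r⁻¹ * v * r) := by group
        rw [this]; exact T.mul_mem (T.inv_mem hv) h1
      have hwΦ : w ∈ (frattini P).map (P : Subgroup G).subtype := by
        rw [hwdef]; exact commutator_mem_map_frattini P (inv_mem (hTP hv)) (inv_mem hr.1)
      have heq : u⁻¹ * (x⁻¹ * u * x) = c⁻¹ * w * c := by
        rw [hwdef, hvdef, hrdef]; group
      have hcw : c⁻¹ * w * c ∈ T := (Subgroup.mem_normalizer_iff''.mp hcN w).mp hwT
      rw [heq, mem_map_frattini_iff _ (hTP hcw)]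
      intro M hM
      have hwM : (⟨w, hTP hwT⟩ : (P : Subgroup G)) ∈ M :=
        (mem_map_frattini_iff _ (hTP hwT)).mp hwΦ M hM
      obtain ⟨M₀, hM₀⟩ : ∃ M₀ : Subgroup G, M₀ = M.map (P : Subgroup G).subtype := ⟨_, rfl⟩
      have hM₀P : M₀ ≤ (P : Subgroup G) := hM₀ ▸ Subgroup.map_subtype_le M
      have hwM₀ : w ∈ M₀ := by rw [hM₀]; exact ⟨_, hwM, rfl⟩
      have hzw : Subgroup.zpowers w ≤ M₀ := (Subgroup.zpowers_le).mpr hwM₀
      obtain ⟨j, hj⟩ := IsPGroup.iff_card.mp (P.isPGroup'.to_le (hzw.trans hM₀P))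
      have hjd : j ≤ d := by
        have h1 : Nat.card (Subgroup.zpowers w) ≤ Nat.card T :=
          Subgroup.card_le_of_le ((Subgroup.zpowers_le).mpr hwT)
        rw [hj] at h1
        exact (Nat.pow_le_pow_iff_right hp.one_lt).mp (h1.trans hsmall)
      obtain ⟨m, hm⟩ := IsPGroup.iff_card.mp (P.isPGroup'.to_le hM₀P)
      have hMcard : Nat.card M = p ^ m := by
        rw [← hm, hM₀, Subgroup.card_map_of_injective (P : Subgroup G).subtype_injective]
      have hdm : d ≤ m := by
        by_contra hlt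
        push Not at hlt
        obtain ⟨E', hM₀E', hE'P, hE'c⟩ := exists_between_card (p := p) hM₀P hm
          (by rw [hn]; exact pow_dvd_pow p hdn.le) hlt.le
        have hle : M ≤ E'.subgroupOf (P : Subgroup G) := by
          intro z hz
          rw [Subgroup.mem_subgroupOf]
          apply hM₀E'
          rw [hM₀]
          exact ⟨z, hz, rfl⟩
        have hcardE : Nat.card (E'.subgroupOf (P : Subgroup G)) = p ^ d := by
          rw [← hE'c]
          exact Nat.card_congr (Subgroup.subgroupOfEquivOfLe hE'P).toEquiv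
        have hne : M ≠ E'.subgroupOf (P : Subgroup G) := by
          intro h
          rw [h, hcardE] at hMcard
          have := Nat.pow_right_injective hp.two_le hMcard
          omega
        have htop := hM.2 _ (lt_of_le_of_ne hle hne)
        rw [Subgroup.subgroupOf_eq_top] at htop
        have h1 := Subgroup.card_le_of_le htop
        rw [hE'c] at h1
        omega
      obtain ⟨E, hzE, hEM₀, hEc⟩ := exists_between_card (p := p) hzw hj
        (by rw [hm]; exact pow_dvd_pow p hdm) hjd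
      have hmem := hsc E (hEM₀.trans hM₀P) (Or.inl hEc) w (hzE (Subgroup.mem_zpowers w)) c
        (hTP hcw)
      have hmem' : c⁻¹ * w * c ∈ M₀ := hEM₀ hmem
      rw [hM₀] at hmem'
      obtain ⟨z', hz', hz'eq⟩ := hmem'
      have : z' = ⟨c⁻¹ * w * c, hTP hcw⟩ := Subtype.ext hz'eq
      rw [← this]
      exact hz'

end Cfsg.Agent.S3031
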