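import Cfsg.Statements.S3032
import Cfsg.Agent.S3031
import Cfsg.Agent.Lib.Helper50.FamilyNormal
import Cfsg.Agent.Lib.Helper2.PComplement
import Cfsg.Agent.Lib.Helper50.SylowLemmas
-- import your own Cfsg.Agent.* helpers here

set_option autoImplicit false
open Cfsg

namespace Cfsg.Agent.S3032

open Cfsg.Agent.Helper50 Cfsg.Agent.Helper33 Cfsg.Agent.Helper2 Cfsg.Agent.Helper9

variable {G : Type*} [Group G]

/-- the hypothesis of the statement on the normal subgroup `E` -/
def Hyp (E : Subgroup G) : Prop :=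
  ∀ (p : ℕ), p.Prime → ∀ P : Subgroup G, P ≤ E → IsPGroup p P → ¬ p ∣ P.relIndex E → ¬ IsCyclic ↥P →
    ∃ D : Subgroup G, D ≤ P ∧ 1 < Nat.card D ∧ Nat.card D < Nat.card P ∧
      ∀ F : Subgroup G, F ≤ P → (Nat.card F = Nat.card D ∨ (Nat.card D = 2 ∧ Nat.card F = 4)) →
        ∀ g : G, F.map (MulAut.conj g).toMonoidHom ⊓ Subgroup.normalizer (F : Set G) ≤ F

/-- members of the family are normal in the `p`-group `P` -/
theorem le_normalizer_of_closed' [Finite G] {p : ℕ} [Fact p.Prime] {P : Subgroup G}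
    (hP : IsPGroup p P) {E : Subgroup G} (hEP : E ≤ P)
    (hcl : ∀ g : G, E.map (MulAut.conj g).toMonoidHom ⊓ Subgroup.normalizer (E : Set G) ≤ E) :
    P ≤ Subgroup.normalizer (E : Set G) := by
  by_contra hnot
  obtain ⟨N, hN⟩ : ∃ N : Subgroup G, N = P ⊓ Subgroup.normalizer (E : Set G) := ⟨_, rfl⟩
  have hNP : N < P := by
    refine lt_of_le_of_ne (hN ▸ inf_le_left) ?_
    intro h
    apply hnot
    rw [← h, hN]; exact inf_le_right
  have hEN : E ≤ N := hN ▸ le_inf hEP Subgroup.le_normalizer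
  obtain ⟨x, hxP, hxN, hxnot⟩ := exists_mem_normalizer_not_mem hP hNP
  apply hxnot
  rw [hN]
  refine ⟨hxP, ?_⟩
  apply map_conj_le_iff_mem
  have h1 : N.map (MulAut.conj x).toMonoidHom = N :=
    Subgroup.mem_normalizer_iff_map_conj_eq.mp hxN
  have h2 : E.map (MulAut.conj x).toMonoidHom ≤ N := h1 ▸ Subgroup.map_mono hEN
  have h3 : E.map (MulAut.conj x).toMonoidHom ≤ Subgroup.normalizer (E : Set G) :=
    h2.trans (hN ▸ inf_le_right)
  exact (le_inf le_rfl h3).trans (hcl x)

/-- Step 1: `E` has a normal `p`-complement for the smallest prime divisor `p` of `|E|`. -/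
theorem hasNormalPComplement_of_hyp [Finite G] (E : Subgroup G) (hE : Hyp E) {p : ℕ}
    [hp : Fact p.Prime] (hdiv : p ∣ Nat.card E)
    (hmin : ∀ q : ℕ, q.Prime → q ∣ Nat.card E → p ≤ q) : Cfsg.HasNormalPComplement p E := by
  obtain ⟨P'⟩ : Nonempty (Sylow p E) := inferInstance
  obtain ⟨P, hPdef⟩ : ∃ P : Subgroup G, P = (P' : Subgroup E).map E.subtype := ⟨_, rfl⟩
  have hsyl : IsSylIn p P E := hPdef ▸ isSylIn_of_sylow E P'
  have hmemP : ∀ z : E, (z : G) ∈ P ↔ z ∈ (P' : Subgroup E) := by
    intro z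
    rw [hPdef]
    constructor
    · rintro ⟨w, hw, hwz⟩
      rwa [← Subtype.ext hwz]
    · intro hz
      exact ⟨z, hz, rfl⟩
  apply Cfsg.Agent.S3031.result hdiv hmin P'
  by_cases hcyc : IsCyclic ↥P
  · left
    have e : ↥(P' : Subgroup E) ≃* ↥P := by
      rw [hPdef]
      exact (P' : Subgroup E).equivMapOfInjective E.subtype E.subtype_injective
    exact isCyclic_of_surjective e.symm.toMonoidHom e.symm.surjective
  · right
    obtain ⟨D, hDP, hD1, hDlt, hfam⟩ := hE p hp.out P hsyl.le hsyl.isPGroup hsyl.not_dvd hcyc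
    have hDE : D ≤ E := hDP.trans hsyl.le
    have hcardD : Nat.card (D.subgroupOf E) = Nat.card D :=
      Nat.card_congr (Subgroup.subgroupOfEquivOfLe hDE).toEquiv
    have hcardP : Nat.card (P' : Subgroup E) = Nat.card P := by
      rw [hPdef, Subgroup.card_map_of_injective E.subtype_injective]
    refine ⟨D.subgroupOf E, ?_, ?_, ?_, ?_⟩
    · intro z hz
      rw [← hmemP]
      exact hDP (Subgroup.mem_subgroupOf.mp hz)
    · rw [hcardD]; exact hD1
    · rw [hcardD, hcardP]; exact hDlt
    · intro E' hE'P hcard g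
      obtain ⟨F, hF⟩ : ∃ F : Subgroup G, F = E'.map E.subtype := ⟨_, rfl⟩
      have hFP : F ≤ P := by
        rw [hF]
        rintro _ ⟨z, hz, rfl⟩
        exact (hmemP z).mpr (hE'P hz)
      have hcardF : Nat.card F = Nat.card E' := by
        rw [hF, Subgroup.card_map_of_injective E.subtype_injective]
      have hcl := hfam F hFP (by rw [hcardF, ← hcardD]; exact hcard) (g : G)
      intro z hz
      have h1 : (z : G) ∈ F.map (MulAut.conj (g : G)).toMonoidHom := by
        obtain ⟨e, he, hez⟩ := hz.1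
        refine ⟨(e : G), hF ▸ ⟨e, he, rfl⟩, ?_⟩
        rw [← hez]
        simp [MulAut.conj_apply]
      have h2 : (z : G) ∈ Subgroup.normalizer (F : Set G) := by
        have := Subgroup.le_normalizer_map E.subtype (H := E') ⟨z, hz.2, rfl⟩
        rw [hF]; exact this
      have h3 := hcl ⟨h1, h2⟩
      rw [hF] at h3
      obtain ⟨e', he', hez'⟩ := h3
      rwa [← Subtype.ext hez']

/-- the main induction: a normal subgroup with the hypothesis is supersolvably embedded -/
theorem reach_of_hyp [Finite G] : ∀ (n : ℕ) (E : Subgroup G), E.Normal → Hyp E → Nat.card E = n →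
    Reach E := by
  intro n
  induction n using Nat.strong_induction_on with
  | _ n ih =>
  intro E hEn hE hcard
  by_cases hE1 : E = ⊥
  · rw [hE1]; exact Reach.bot
  have hcard1 : Nat.card E ≠ 1 := fun h => hE1 (Subgroup.card_eq_one.mp h)
  obtain ⟨p, hpdef⟩ : ∃ p, p = (Nat.card E).minFac := ⟨_, rfl⟩
  have hpp : p.Prime := hpdef ▸ Nat.minFac_prime hcard1
  haveI hp : Fact p.Prime := ⟨hpp⟩
  have hdiv : p ∣ Nat.card E := hpdef ▸ Nat.minFac_dvd _
  have hmin : ∀ q : ℕ, q.Prime → q ∣ Nat.card E → p ≤ q :=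
    fun q hq hqd => hpdef ▸ Nat.minFac_le_of_dvd hq.two_le hqd
  -- the normal `p`-complement
  obtain ⟨P'', K', hK'n, hK'c''⟩ := hasNormalPComplement_of_hyp E hE hdiv hmin
  obtain ⟨P'⟩ : Nonempty (Sylow p E) := inferInstance
  have hK'c : K'.IsComplement' (P' : Subgroup E) :=
    isComplement'_sylow_of_isComplement'_sylow P'' P' K' hK'c''
  obtain ⟨P, hPdef⟩ : ∃ P : Subgroup G, P = (P' : Subgroup E).map E.subtype := ⟨_, rfl⟩
  have hsyl : IsSylIn p P E := hPdef ▸ isSylIn_of_sylow E P'
  obtain ⟨K, hKdef⟩ : ∃ K : Subgroup G, K = K'.map E.subtype := ⟨_, rfl⟩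
  have hKE : K ≤ E := hKdef ▸ Subgroup.map_subtype_le K'
  have hKmem : ∀ k : G, k ∈ K ↔ k ∈ E ∧ Nat.Coprime (orderOf k) p := by
    intro k
    rw [hKdef]
    constructor
    · rintro ⟨k0, hk0, rfl⟩
      refine ⟨k0.2, ?_⟩
      rw [orderOf_injective E.subtype E.subtype_injective k0]
      exact (mem_normalPComplement_iff P' K' hK'c k0).mp hk0
    · rintro ⟨hkE, hko⟩
      refine ⟨⟨k, hkE⟩, ?_, rfl⟩
      show (⟨k, hkE⟩ : E) ∈ K'
      rw [mem_normalPComplement_iff P' K' hK'c, ← Subgroup.orderOf_coe]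
      exact hko
  have hKn : K.Normal := by
    constructor
    intro k hk g
    rw [hKmem] at hk ⊢
    exact ⟨hEn.conj_mem k hk.1 g, by rw [orderOf_conj']; exact hk.2⟩
  -- cardinalities
  have hcardK : Nat.card K = Nat.card K' := by
    rw [hKdef, Subgroup.card_map_of_injective E.subtype_injective]
  have hcardP : Nat.card P = Nat.card (P' : Subgroup E) := by
    rw [hPdef, Subgroup.card_map_of_injective E.subtype_injective]
  have hmul : Nat.card K * Nat.card P = Nat.card E := by
    rw [hcardK, hcardP]; exact hK'c.card_mul_card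
  obtain ⟨a, ha⟩ := IsPGroup.iff_card.mp hsyl.isPGroup
  have ha1 : 1 ≤ a := by
    rcases Nat.eq_zero_or_pos a with h0 | h0
    · exfalso
      have h1 : Nat.card (P' : Subgroup E) = 1 := by rw [← hcardP, ha, h0, pow_zero]
      have h2 := P'.card_eq_multiplicity
      rw [h1] at h2
      have h3 : p ∣ p ^ (Nat.card E).factorization p := by
        apply dvd_pow_self
        have := (hpp.factorization_pos_of_dvd Nat.card_pos.ne' hdiv)
        omega
      rw [← h2] at h3
      exact hpp.one_lt.ne' (Nat.dvd_one.mp h3)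
    · exact h0
  have hKlt : Nat.card K < n := by
    rw [← hcard, ← hmul, ha]
    have h1 : 0 < Nat.card K := Nat.card_pos
    have h2 : 2 ≤ p ^ a := by
      calc 2 ≤ p := hpp.two_le
        _ = p ^ 1 := (pow_one p).symm
        _ ≤ p ^ a := Nat.pow_le_pow_right hpp.pos ha1
    nlinarith
  have hKP : K ⊓ P = ⊥ := by
    rw [Subgroup.eq_bot_iff_forall]
    intro x hx
    have h1 := ((hKmem x).mp hx.1).2
    obtain ⟨j, hj⟩ := isPElem_of_mem hsyl.isPGroup hx.2
    rw [hj] at h1
    rcases Nat.eq_zero_or_pos j with h0 | h0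
    · rw [h0, pow_zero, orderOf_eq_one_iff] at hj; exact hj
    · exfalso
      have h2 : p ∣ Nat.gcd (p ^ j) p := Nat.dvd_gcd (dvd_pow_self p h0.ne') dvd_rfl
      rw [Nat.Coprime] at h1
      rw [h1] at h2
      exact hpp.one_lt.ne' (Nat.dvd_one.mp h2)
  have hsupKP : K ⊔ P = E := by
    have h1 : K' ⊔ (P' : Subgroup E) = ⊤ := hK'c.sup_eq_top
    have h2 := congrArg (Subgroup.map E.subtype) h1
    rw [Subgroup.map_sup, ← hKdef, ← hPdef, ← MonoidHom.range_eq_map, Subgroup.range_subtype] at h2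
    exact h2
  -- the hypothesis passes to `K`
  have hK : Hyp K := by
    intro r hr R hRK hRr hRidx hRcyc
    apply hE r hr R (hRK.trans hKE) hRr ?_ hRcyc
    intro hdvd
    rw [← Subgroup.relIndex_mul_relIndex R K E hRK hKE, hr.dvd_mul] at hdvd
    rcases hdvd with h1 | h1
    · exact hRidx h1
    · -- `K.relIndex E = |P|`
      have h2 : K.relIndex E * Nat.card K = Nat.card E := relIndex_mul_card_le' hKE
      have h3 : K.relIndex E = Nat.card P := by
        have hpos : 0 < Nat.card K := Nat.card_pos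
        apply Nat.eq_of_mul_eq_mul_right hpos
        rw [h2, ← hmul, mul_comm]
      rw [h3, ha] at h1
      have hrp : r = p := (Nat.prime_dvd_prime_iff_eq hr hpp).mp (hr.dvd_of_dvd_pow h1)
      subst hrp
      apply hRcyc
      have hRbot : R = ⊥ := by
        rw [Subgroup.eq_bot_iff_forall]
        intro x hx
        have h4 := ((hKmem x).mp (hRK hx)).2
        obtain ⟨j, hj⟩ := isPElem_of_mem hRr hx
        rw [hj] at h4
        rcases Nat.eq_zero_or_pos j with h0 | h0
        · rw [h0, pow_zero, orderOf_eq_one_iff] at hj; exact hj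
        · exfalso
          have h5 : r ∣ Nat.gcd (r ^ j) r := Nat.dvd_gcd (dvd_pow_self r h0.ne') dvd_rfl
          rw [Nat.Coprime] at h4
          rw [h4] at h5
          exact hr.one_lt.ne' (Nat.dvd_one.mp h5)
      rw [hRbot]
      infer_instance
  have hKreach : Reach K := ih _ hKlt K hKn hK rfl
  -- the quotient
  haveI := hKn
  obtain ⟨π, hπ⟩ : ∃ π : G →* G ⧸ K, π = QuotientGroup.mk' K := ⟨_, rfl⟩
  have hπs : Function.Surjective π := by rw [hπ]; exact QuotientGroup.mk'_surjective K
  have hker : π.ker = K := by rw [hπ]; exact QuotientGroup.ker_mk' K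
  have hcomap : (E.map π).comap π = E := by
    rw [Subgroup.comap_map_eq, hker]
    exact sup_eq_left.mpr hKE
  have hNn : (E.map π).Normal := hEn.map π hπs
  have hNP : E.map π = P.map π := by
    rw [← hsupKP, Subgroup.map_sup]
    have : K.map π = ⊥ := (Subgroup.map_eq_bot_iff _).mpr hker.ge
    rw [this, bot_sup_eq]
  have hkreach : Reach π.ker := by rw [hker]; exact hKreach
  suffices hN : Reach (E.map π) by
    have := Reach.comap π hkreach hN
    rwa [hcomap] at this
  -- `π` is injective on `P`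
  obtain ⟨φ, hφ⟩ : ∃ φ : P →* G ⧸ K, φ = π.comp P.subtype := ⟨_, rfl⟩
  have hφinj : Function.Injective φ := by
    rw [← MonoidHom.ker_eq_bot_iff, Subgroup.eq_bot_iff_forall]
    intro x hx
    rw [MonoidHom.mem_ker, hφ, MonoidHom.comp_apply] at hx
    have h1 : (x : G) ∈ K := by rw [← hker]; exact hx
    have h2 : (x : G) ∈ K ⊓ P := ⟨h1, x.2⟩
    rw [hKP, Subgroup.mem_bot] at h2
    exact Subtype.ext h2
  have hφrange : φ.range = E.map π := by
    rw [hNP, hφ, MonoidHom.range_comp, Subgroup.range_subtype]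
  have hcardN : Nat.card (E.map π) = p ^ a := by
    rw [← hφrange, ← ha]
    exact (Nat.card_congr (MonoidHom.ofInjective hφinj).toEquiv).symm
  have hNp : IsPGroup p (E.map π) := IsPGroup.of_card hcardN
  by_cases hcyc : IsCyclic ↥P
  · -- cyclic case
    haveI : IsCyclic (E.map π) := by
      rw [hNP]
      exact isCyclic_of_surjective (π.subgroupMap P) (π.subgroupMap_surjective P)
    obtain ⟨g, hg⟩ := (Subgroup.isCyclic_iff_exists_zpowers_eq_top (E.map π)).mp inferInstance
    rw [← hg]
    apply reach_zpowers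
    rw [hg]; exact hNn
  · -- the family case
    obtain ⟨D, hDP, hD1, hDlt, hfam⟩ := hE p hpp P hsyl.le hsyl.isPGroup hsyl.not_dvd hcyc
    obtain ⟨d, hd⟩ := IsPGroup.iff_card.mp (hsyl.isPGroup.to_le hDP)
    have hd1 : 1 ≤ d := by
      rcases Nat.eq_zero_or_pos d with h0 | h0
      · rw [hd, h0, pow_zero] at hD1; omega
      · exact h0
    rw [hd] at hfam hDlt
    apply reach_of_family_normal hd1 (E.map π) hNn hNp (by rw [hcardN, ← ha]; exact hDlt)
    intro Fbar hFbarN hFcard
    -- lift `Fbar` to `F ≤ P`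
    obtain ⟨F, hF⟩ : ∃ F : Subgroup G, F = (Fbar.comap φ).map P.subtype := ⟨_, rfl⟩
    have hFP : F ≤ P := hF ▸ Subgroup.map_subtype_le _
    have hFmap : F.map π = Fbar := by
      rw [hF, Subgroup.map_map, ← hφ, Subgroup.map_comap_eq, hφrange]
      exact inf_eq_right.mpr hFbarN
    have hFc : Nat.card F = Nat.card Fbar := by
      rw [← hFmap, hF, Subgroup.map_map, ← hφ, Subgroup.card_map_of_injective hφinj,
        Subgroup.card_map_of_injective P.subtype_injective]
    have hFfam : Nat.card F = p ^ d ∨ (p ^ d = 2 ∧ Nat.card F = 4) := by rw [hFc]; exact hFcard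
    have hPF : P ≤ Subgroup.normalizer (F : Set G) :=
      le_normalizer_of_closed' hsyl.isPGroup hFP (hfam F hFP hFfam)
    have hNPF : Subgroup.normalizer (P : Set G) ≤ Subgroup.normalizer (F : Set G) := by
      intro x hx
      apply map_conj_le_iff_mem
      have h1 : P.map (MulAut.conj x).toMonoidHom = P :=
        Subgroup.mem_normalizer_iff_map_conj_eq.mp hx
      have h2 : F.map (MulAut.conj x).toMonoidHom ≤ P := h1 ▸ Subgroup.map_mono hFP
      exact (le_inf le_rfl (h2.trans hPF)).trans (hfam F hFP hFfam x)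
    -- Frattini
    have hfrat : Subgroup.normalizer (P : Set G) ⊔ K = ⊤ := by
      have h1 := Sylow.normalizer_sup_eq_top P'
      rw [← hPdef] at h1
      rw [eq_top_iff, ← h1, ← hsupKP]
      apply sup_le le_sup_left
      apply sup_le le_sup_right
      exact Subgroup.le_normalizer.trans le_sup_left
    constructor
    intro zbar hzbar gbar
    obtain ⟨g, rfl⟩ := hπs gbar
    rw [← hFmap] at hzbar ⊢
    obtain ⟨z, hz, rfl⟩ := hzbar
    have hg : g ∈ Subgroup.normalizer (P : Set G) ⊔ K := by rw [hfrat]; exact Subgroup.mem_top g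
    rw [← SetLike.mem_coe, Subgroup.mul_normal] at hg
    obtain ⟨x, hx, k, hk, rfl⟩ := hg
    have hπk : π k = 1 := by
      rw [← MonoidHom.mem_ker, hker]; exact hk
    refine ⟨x * z * x⁻¹, (Subgroup.mem_normalizer_iff.mp (hNPF hx) z).mp hz, ?_⟩
    simp only [map_mul, map_inv, hπk, mul_one]

/-- Let G be a finite group and E a normal subgroup with G/E supersolvable. Suppose that for every prime p and every non-cyclic Sylow p-subgroup P of E there is a subgroup D of P with 1 < |D| < |P| such that every subgroup F of P of order |D|, and also every subgroup F of P of order 4 when |D| = 2, satisfies g F g⁻¹ ∩ N_G(F) ≤ F for all g ∈ G. Then G is supersolvable. -/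
theorem result {G : Type*} [Group G] [Finite G] (E : Subgroup G) [E.Normal] (hGE : Cfsg.IsSupersolvable (G ⧸ E))
    (h : ∀ (p : ℕ), p.Prime → ∀ P : Subgroup G, P ≤ E → IsPGroup p P → ¬ p ∣ P.relIndex E → ¬ IsCyclic ↥P →
      ∃ D : Subgroup G, D ≤ P ∧ 1 < Nat.card D ∧ Nat.card D < Nat.card P ∧
        ∀ F : Subgroup G, F ≤ P → (Nat.card F = Nat.card D ∨ (Nat.card D = 2 ∧ Nat.card F = 4)) →
          ∀ g : G, F.map (MulAut.conj g).toMonoidHom ⊓ Subgroup.normalizer (F : Set G) ≤ F) :
    Cfsg.IsSupersolvable G := by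
  have hreach : Reach E := reach_of_hyp _ E inferInstance h rfl
  exact isSupersolvable_of_reach_of_quotient E hreach hGE

end Cfsg.Agent.S3032
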