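import Cfsg.Statements.S3035
import Mathlib
import Cfsg.Agent.Lib.Helper21.FourCent
import Cfsg.Agent.Lib.Helper21.D8Cent1
import Cfsg.Agent.Lib.Helper21.D8Cent2
import Cfsg.Agent.Lib.Helper4.D8.Order
import Cfsg.Agent.Lib.Helper4.D8.Simple
import Cfsg.Agent.Lib.Helper17.Uniq168D
import Cfsg.Agent.S0445
import Cfsg.Agent.S0497

set_option autoImplicit false
open Cfsg

namespace Cfsg.Agent.S3035

open Cfsg.Agent.Helper21.FourCent Cfsg.Agent.Helper21.D8Cent

/-- Let G be a finite group with an involution z whose centralizer is dihedral of order 8. Then G = C_G(z) O(G) with O(G) the largest normal subgroup of odd order, or G is isomorphic to the symmetric group of degree 4, the symmetric group of degree 5, the group SL₃(2), or the alternating group of degree 6. -/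
theorem result {G : Type*} [Group G] [Finite G] (z : G) (hz : orderOf z = 2)
    (hC : Nonempty (↥(Subgroup.centralizer ({z} : Set G)) ≃* DihedralGroup 4)) :
    Subgroup.centralizer ({z} : Set G) ⊔ Cfsg.oddCore G = ⊤ ∨ Nonempty (G ≃* Equiv.Perm (Fin 4)) ∨ Nonempty (G ≃* Equiv.Perm (Fin 5)) ∨
      Nonempty (G ≃* Matrix.SpecialLinearGroup (Fin 3) (ZMod 2)) ∨ Nonempty (G ≃* ↥(alternatingGroup (Fin 6))) := by
  classical
  obtain ⟨e⟩ := hC
  by_cases hidx : ∃ N : Subgroup G, N.index = 2
  · obtain ⟨N, hN⟩ := hidx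
    have hzN := z_mem z e N hz hN
    have hz' : orderOf (⟨z, hzN⟩ : ↥N) = 2 := by rw [Subgroup.orderOf_mk]; exact hz
    have hV4 := card_cent_N z e N hz hN hzN
    have h8 := not_eight_dvd z e N hz hN
    rcases four_sylow_dichotomy (⟨z, hzN⟩ : ↥N) hz' hV4 h8 with ⟨K, hKn, hodd, hcard⟩ |
      ⟨hH, hconj, h3, g, hg, h3g⟩
    · left
      obtain ⟨K', hK'n, hK'c, hK'top⟩ := exists_normal_odd z N hN
        (Cfsg.Agent.Helper4.D8.card_centralizer z e) K hodd hcard
      have hle : K' ≤ Cfsg.oddCore G := le_sSup ⟨hK'n, hK'c⟩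
      exact top_le_iff.mp (hK'top ▸ sup_le_sup_left hle _)
    · rcases card_eq_twelve_or_sixty hH hconj ⟨_, hz'⟩ h3 with h12 | h60
      · right; left
        exact iso_S4 z e N hz hN hzN hH hconj hV4 h12
      · right; right; left
        exact iso_S5 z e N hz hN hzN hH hconj h60 g hg h3g
  · push Not at hidx
    have hsimple := Cfsg.Agent.Helper4.D8.isSimpleGroup_of_no_index_two z e hidx hz
    have hperf := Cfsg.Agent.Helper4.D8.perfect_of_no_index_two z e hidx hz
    haveI : Fintype G := Fintype.ofFinite G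
    rcases Cfsg.Agent.Helper4.D8.card_eq z e hperf hz with h | h
    · right; right; right; left
      haveI := isSimpleGroup_SL3
      exact Cfsg.Agent.Helper17.U168.iso_of_simple_168 h Cfsg.Agent.S0445.card_SL3
    · right; right; right; right
      exact Cfsg.Agent.S0497.result h

end Cfsg.Agent.S3035
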