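import Cfsg.Statements.S3037
import Cfsg.Agent.Lib.Helper50.ChermakDelgado
import Cfsg.Agent.Lib.Helper50.CDSimple
-- import your own Cfsg.Agent.* helpers here

set_option autoImplicit false
open Cfsg

namespace Cfsg.Agent.S3037

open Cfsg.Agent.Helper50

section aux

variable {X : Type*} [Group X] [Finite X]

/-- `C_V(B)` -/
def cv (V B : Subgroup X) : Subgroup X := V ⊓ Subgroup.centralizer (B : Set X)

/-- the measure `|B|^α |C_V(B)|` -/
noncomputable def fm (V : Subgroup X) (α : ℝ) (B : Subgroup X) : ℝ :=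
  (Nat.card B : ℝ) ^ α * (Nat.card (cv V B) : ℝ)

theorem cv_map_conj (V B : Subgroup X) {g : X} (hg : g ∈ Subgroup.normalizer (V : Set X)) :
    cv V (B.map (MulAut.conj g).toMonoidHom) = (cv V B).map (MulAut.conj g).toMonoidHom := by
  unfold cv
  have h1 : V.map (MulAut.conj g).toMonoidHom = V := Subgroup.mem_normalizer_iff_map_conj_eq.mp hg
  rw [Subgroup.map_inf _ _ _ (MulAut.conj g).injective, ← centralizer_map_conj, h1]

theorem fm_map_conj (V : Subgroup X) (α : ℝ) (B : Subgroup X) {g : X}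
    (hg : g ∈ Subgroup.normalizer (V : Set X)) :
    fm V α (B.map (MulAut.conj g).toMonoidHom) = fm V α B := by
  unfold fm
  rw [cv_map_conj V B hg, Subgroup.card_map_of_injective (MulAut.conj g).injective,
    Subgroup.card_map_of_injective (MulAut.conj g).injective]

/-- pure real-number core of the step -/
theorem real_core {α v d d' k k' b b0 c c0 : ℝ} (hα : 0 < α) (hd : 0 < d) (hd' : 0 < d')
    (hk : 0 < k) (hk' : 0 < k') (hb : 0 < b) (hb0 : 0 < b0) (hc : 0 < c)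
    (h1 : d * c ≤ c0 * d') (h2 : b * k ≤ k' * b0) (h3 : b0 ^ α * c0 ≤ b ^ α * c)
    (hD : v ≤ d * k ^ α) : v ≤ d' * k' ^ α := by
  have hbα : 0 < b ^ α := Real.rpow_pos_of_pos hb α
  have hpos : 0 < b ^ α * c := mul_pos hbα hc
  have hkα : 0 ≤ k ^ α := (Real.rpow_pos_of_pos hk α).le
  have hk'α : 0 ≤ k' ^ α := (Real.rpow_pos_of_pos hk' α).le
  have hb0α : 0 ≤ b0 ^ α := (Real.rpow_pos_of_pos hb0 α).le
  have e1 : (b * k) ^ α ≤ (k' * b0) ^ α :=
    Real.rpow_le_rpow (mul_pos hb hk).le h2 hα.le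
  rw [Real.mul_rpow hb.le hk.le, Real.mul_rpow hk'.le hb0.le] at e1
  have key : v * (b ^ α * c) ≤ (d' * k' ^ α) * (b ^ α * c) := by
    calc v * (b ^ α * c) ≤ (d * k ^ α) * (b ^ α * c) :=
          mul_le_mul_of_nonneg_right hD hpos.le
      _ = (d * c) * (b ^ α * k ^ α) := by ring
      _ ≤ (c0 * d') * (b ^ α * k ^ α) :=
          mul_le_mul_of_nonneg_right h1 (mul_nonneg hbα.le hkα)
      _ ≤ (c0 * d') * (k' ^ α * b0 ^ α) := by
          have hc0 : 0 ≤ c0 * d' := le_trans (mul_pos hd hc).le h1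
          exact mul_le_mul_of_nonneg_left e1 hc0
      _ = (d' * k' ^ α) * (b0 ^ α * c0) := by ring
      _ ≤ (d' * k' ^ α) * (b ^ α * c) :=
          mul_le_mul_of_nonneg_left h3 (mul_nonneg hd'.le hk'α)
  exact le_of_mul_le_mul_right key hpos

theorem card_pos_real (H : Subgroup X) : (0 : ℝ) < (Nat.card H : ℝ) := by
  exact_mod_cast Nat.card_pos

/-- the inductive step -/
theorem step (V G : Subgroup X) {α : ℝ} (hα : 0 < α) (B D : Subgroup X) (hBG : B ≤ G)
    (hDV : D ≤ V)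
    (hB : fm V α (B ⊓ Subgroup.centralizer (D : Set X)) ≤ fm V α B)
    (hD : (Nat.card V : ℝ) ≤
      (Nat.card D : ℝ) * (Nat.card ↥(G ⊓ Subgroup.centralizer (D : Set X)) : ℝ) ^ α) :
    (Nat.card V : ℝ) ≤ (Nat.card ↥(D ⊓ cv V B) : ℝ) *
      (Nat.card ↥(G ⊓ Subgroup.centralizer ((D ⊓ cv V B : Subgroup X) : Set X)) : ℝ) ^ α := by
  set B₀ := B ⊓ Subgroup.centralizer (D : Set X) with hB₀
  set D' := D ⊓ cv V B with hD'
  set K := G ⊓ Subgroup.centralizer (D : Set X) with hK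
  set K' := G ⊓ Subgroup.centralizer (D' : Set X) with hK'
  -- (i)
  have h1 : Nat.card D * Nat.card (cv V B) ≤ Nat.card (cv V B₀) * Nat.card D' := by
    have h := card_mul_card_le D (cv V B)
    have hle : D ⊔ cv V B ≤ cv V B₀ := by
      apply sup_le
      · refine le_inf hDV ?_
        have : B₀ ≤ Subgroup.centralizer (D : Set X) := inf_le_right
        exact Subgroup.le_centralizer_iff.mp this
      · exact inf_le_inf_left V (Subgroup.centralizer_le (by exact_mod_cast (inf_le_left : B₀ ≤ B)))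
    exact le_trans h (Nat.mul_le_mul_right _ (Subgroup.card_le_of_le hle))
  -- (ii)
  have h2 : Nat.card B * Nat.card K ≤ Nat.card K' * Nat.card B₀ := by
    have h := card_mul_card_le B K
    have hinf : B ⊓ K = B₀ := by
      rw [hK, hB₀, ← inf_assoc, inf_eq_left.mpr hBG]
    have hle : B ⊔ K ≤ K' := by
      apply sup_le
      · refine le_inf hBG ?_
        have : D' ≤ Subgroup.centralizer (B : Set X) := inf_le_right.trans inf_le_right
        exact Subgroup.le_centralizer_iff.mp this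
      · exact inf_le_inf_left G (Subgroup.centralizer_le (by exact_mod_cast (inf_le_left : D' ≤ D)))
    rw [hinf] at h
    exact le_trans h (Nat.mul_le_mul_right _ (Subgroup.card_le_of_le hle))
  have h1' : (Nat.card D : ℝ) * (Nat.card (cv V B) : ℝ) ≤
      (Nat.card (cv V B₀) : ℝ) * (Nat.card D' : ℝ) := by exact_mod_cast h1
  have h2' : (Nat.card B : ℝ) * (Nat.card K : ℝ) ≤ (Nat.card K' : ℝ) * (Nat.card B₀ : ℝ) := by
    exact_mod_cast h2
  exact real_core hα (card_pos_real D) (card_pos_real D') (card_pos_real K) (card_pos_real K')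
    (card_pos_real B) (card_pos_real B₀) (card_pos_real (cv V B)) h1' h2' hB hD

end aux

/-- Let V and G be subgroups of a finite group with V an elementary abelian p-group (p prime) on which G acts faithfully and irreducibly by conjugation: G normalizes V, G ∩ C(V) = 1, and the only subgroups of V normalized by G are 1 and V. If for some nontrivial subgroup A of G and some real α > 0 one has |V| ≤ |A|^α · |C_V(A)|, then |V| ≤ |G|^α. -/
theorem result {X : Type*} [Group X] [Finite X] {p : ℕ} [Fact p.Prime] (V G : Subgroup X) (hV : Cfsg.IsElementaryAbelian p V)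
    (hGV : G ≤ Subgroup.normalizer (V : Set X)) (hfaith : G ⊓ Subgroup.centralizer (V : Set X) = ⊥)
    (hirr : ∀ W : Subgroup X, W ≤ V → G ≤ Subgroup.normalizer (W : Set X) → W = ⊥ ∨ W = V)
    (A : Subgroup X) (hA : A ≤ G) (hA1 : A ≠ ⊥) (α : ℝ) (hα : 0 < α)
    (hbig : (Nat.card V : ℝ) ≤ (Nat.card A : ℝ) ^ α * (Nat.card ↥(V ⊓ Subgroup.centralizer (A : Set X)) : ℝ)) :
    (Nat.card V : ℝ) ≤ (Nat.card G : ℝ) ^ α := by
  classical
  -- choose `As` maximizing the measure among nontrivial subgroups of `G`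
  let 𝒮 : Set (Subgroup X) := {B | B ≤ G ∧ B ≠ ⊥}
  have h𝒮 : 𝒮.Nonempty := ⟨A, hA, hA1⟩
  obtain ⟨As, ⟨hAsG, hAs1⟩, hAsmax⟩ :=
    Set.exists_max_image 𝒮 (fm V α) (Set.toFinite 𝒮) h𝒮
  have hbig' : (Nat.card V : ℝ) ≤ fm V α A := hbig
  have hVf : (Nat.card V : ℝ) ≤ fm V α As := le_trans hbig' (hAsmax A ⟨hA, hA1⟩)
  have hfbot : fm V α ⊥ = (Nat.card V : ℝ) := by
    unfold fm cv
    rw [Subgroup.card_bot, Nat.cast_one, Real.one_rpow, one_mul, Subgroup.coe_bot,
      Subgroup.centralizer_eq_top_iff_subset.mpr (by simp), inf_top_eq]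
  have hconjG : ∀ g ∈ G, As.map (MulAut.conj g).toMonoidHom ≤ G := by
    intro g hg
    rintro _ ⟨a, ha, rfl⟩
    exact G.mul_mem (G.mul_mem hg (hAsG ha)) (G.inv_mem hg)
  have hprop : ∀ g ∈ G, ∀ B₀ : Subgroup X, B₀ ≤ As.map (MulAut.conj g).toMonoidHom →
      fm V α B₀ ≤ fm V α (As.map (MulAut.conj g).toMonoidHom) := by
    intro g hg B₀ hB₀
    rw [fm_map_conj V α As (hGV hg)]
    by_cases h0 : B₀ = ⊥
    · rw [h0, hfbot]; exact hVf
    · exact hAsmax B₀ ⟨hB₀.trans (hconjG g hg), h0⟩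
  -- the family of subgroups `D` of `V` with `|V : D| ≤ |C_G(D)|^α`
  let 𝒟 : Set (Subgroup X) := {D | D ≤ V ∧ (Nat.card V : ℝ) ≤
    (Nat.card D : ℝ) * (Nat.card ↥(G ⊓ Subgroup.centralizer (D : Set X)) : ℝ) ^ α}
  have hV𝒟 : V ∈ 𝒟 := by
    refine ⟨le_rfl, ?_⟩
    have h1 : (1 : ℝ) ≤ (Nat.card ↥(G ⊓ Subgroup.centralizer (V : Set X)) : ℝ) := by
      exact_mod_cast Nat.card_pos
    have h2 : (1 : ℝ) ≤ (Nat.card ↥(G ⊓ Subgroup.centralizer (V : Set X)) : ℝ) ^ α :=
      Real.one_le_rpow h1 hα.le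
    have h3 : (0 : ℝ) ≤ (Nat.card V : ℝ) := Nat.cast_nonneg _
    nlinarith
  obtain ⟨D, hD𝒟, hDmin⟩ :=
    Set.exists_min_image 𝒟 (fun D => Nat.card D) (Set.toFinite 𝒟) ⟨V, hV𝒟⟩
  have hDle : ∀ g ∈ G, D ≤ cv V (As.map (MulAut.conj g).toMonoidHom) := by
    intro g hg
    have hstep := step V G hα (As.map (MulAut.conj g).toMonoidHom) D (hconjG g hg) hD𝒟.1
      (hprop g hg _ inf_le_left) hD𝒟.2
    have hmem : D ⊓ cv V (As.map (MulAut.conj g).toMonoidHom) ∈ 𝒟 :=
      ⟨inf_le_left.trans hD𝒟.1, hstep⟩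
    have hcard := hDmin _ hmem
    have heq : D ⊓ cv V (As.map (MulAut.conj g).toMonoidHom) = D :=
      Subgroup.eq_of_le_of_card_ge inf_le_left hcard
    exact inf_eq_left.mp heq
  -- the `G`-invariant subgroup `W` of common fixed points
  let W : Subgroup X := V ⊓ ⨅ g : G, Subgroup.centralizer
    ((As.map (MulAut.conj (g : X)).toMonoidHom : Subgroup X) : Set X)
  have hmemW : ∀ w : X, w ∈ W ↔ w ∈ V ∧ ∀ g ∈ G, ∀ a ∈ As,
      (g * a * g⁻¹) * w = w * (g * a * g⁻¹) := by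
    intro w
    simp only [W, Subgroup.mem_inf, Subgroup.mem_iInf, Subgroup.mem_centralizer_iff]
    constructor
    · rintro ⟨hwV, h⟩
      refine ⟨hwV, fun g hg a ha => ?_⟩
      exact h ⟨g, hg⟩ _ ⟨a, ha, rfl⟩
    · rintro ⟨hwV, h⟩
      refine ⟨hwV, ?_⟩
      rintro ⟨g, hg⟩ _ ⟨a, ha, rfl⟩
      exact h g hg a ha
  have hDW : D ≤ W := by
    intro d hd
    rw [hmemW]
    refine ⟨hD𝒟.1 hd, fun g hg a ha => ?_⟩
    have h2 : d ∈ Subgroup.centralizer
        ((As.map (MulAut.conj g).toMonoidHom : Subgroup X) : Set X) := (hDle g hg hd).2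
    rw [Subgroup.mem_centralizer_iff] at h2
    exact h2 _ ⟨a, ha, rfl⟩
  have hGW : G ≤ Subgroup.normalizer (W : Set X) := by
    intro x hx
    apply Subgroup.mem_normalizer_fintype
    intro w hw
    have hw' := (hmemW w).mp hw
    show x * w * x⁻¹ ∈ W
    rw [hmemW]
    refine ⟨(Subgroup.mem_normalizer_iff.mp (hGV hx) w).mp hw'.1, fun g hg a ha => ?_⟩
    have h1 := hw'.2 (x⁻¹ * g) (G.mul_mem (G.inv_mem hx) hg) a ha
    calc g * a * g⁻¹ * (x * w * x⁻¹)
        = x * (((x⁻¹ * g) * a * (x⁻¹ * g)⁻¹) * w) * x⁻¹ := by group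
      _ = x * (w * ((x⁻¹ * g) * a * (x⁻¹ * g)⁻¹)) * x⁻¹ := by rw [h1]
      _ = x * w * x⁻¹ * (g * a * g⁻¹) := by group
  rcases hirr W inf_le_left hGW with hW | hW
  · -- `D = ⊥`
    have hDbot : D = ⊥ := by
      rw [eq_bot_iff, ← hW]; exact hDW
    have := hD𝒟.2
    rw [hDbot, Subgroup.card_bot, Nat.cast_one, one_mul, Subgroup.coe_bot,
      Subgroup.centralizer_eq_top_iff_subset.mpr (by simp), inf_top_eq] at this
    exact this
  · -- impossible: `As` would centralize `V`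
    exfalso
    apply hAs1
    rw [eq_bot_iff, ← hfaith]
    refine le_inf hAsG ?_
    intro a ha v hv
    have hvW : v ∈ W := by rw [hW]; exact hv
    have := ((hmemW v).mp hvW).2 1 G.one_mem a ha
    simpa using this.symm

end Cfsg.Agent.S3037
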