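import Cfsg.Statements.S3048
import Cfsg.Agent.Lib.Helper50.SidkiMin3
import Cfsg.Agent.Lib.Helper50.HyperEmbed
import Cfsg.Agent.Lib.Helper22.Bender

set_option autoImplicit false
universe u
open Cfsg
open scoped commutatorElement

namespace Cfsg.Agent.S3048

/-- Minimal counterexample reduction for the Sidki pair problem. Let G be a finite group and V a nontrivial elementary abelian 2-subgroup satisfying the Sidki pair condition with V ∩ O₂(G) = 1. Suppose that for every finite group H of smaller order, every nontrivial elementary abelian 2-subgroup W of H satisfying the Sidki pair condition meets O₂(H) nontrivially, and that the same holds in G for every such subgroup W of order smaller than that of V. Then the generalized Fitting subgroup F*(G) is a non-abelian simple group and G = V F*(G). -/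
theorem result {G : Type u} [Group G] [Finite G] (V : Subgroup G) (hV : Cfsg.IsElementaryAbelian 2 V) (hV1 : V ≠ ⊥) (hS : Cfsg.IsSidkiPair V) (hVO : V ⊓ Cfsg.pCore 2 G = ⊥) (hminG : ∀ (H : Type u) [Group H] [Finite H] (W : Subgroup H), Nat.card H < Nat.card G → Cfsg.IsElementaryAbelian 2 W → W ≠ ⊥ → Cfsg.IsSidkiPair W → W ⊓ Cfsg.pCore 2 H ≠ ⊥) (hminV : ∀ W : Subgroup G, Nat.card W < Nat.card V → Cfsg.IsElementaryAbelian 2 W → W ≠ ⊥ → Cfsg.IsSidkiPair W → W ⊓ Cfsg.pCore 2 G ≠ ⊥) : IsSimpleGroup ↥(Cfsg.generalizedFittingSubgroup G) ∧ ¬ IsMulCommutative ↥(Cfsg.generalizedFittingSubgroup G) ∧ V ⊔ Cfsg.generalizedFittingSubgroup G = ⊤ := by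
  have hmin : Cfsg.Agent.Helper50.SidkiMinG G := hminG
  have hO := Cfsg.Agent.Helper50.sidkiMin_pCore_eq_bot hmin hV hV1 hS hVO
  have htopne : (⊤ : Subgroup G) ≠ ⊥ := by
    intro h
    apply hV1
    rw [eq_bot_iff, ← h]; exact le_top
  obtain ⟨N, -, hNn, hN1, hNmin⟩ := Cfsg.Agent.Helper50.exists_minimal_normal_le
    (Nat.card (⊤ : Subgroup G)) ⊤ inferInstance htopne rfl
  have hCn : (Subgroup.centralizer (N : Set G)).Normal := Subgroup.normal_centralizer
  by_cases hNC : N ⊓ Subgroup.centralizer (N : Set G) = ⊥
  · have htop := Cfsg.Agent.Helper50.sup_centralizer_sup_eq_top hO hmin hV hV1 hS hNn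
    have hC : Subgroup.centralizer (N : Set G) = ⊥ := by
      by_contra h
      exact Cfsg.Agent.Helper50.false_of_two_normal hO hmin hV hV1 hS hNn hCn hNC hN1 h htop
    rw [hC, sup_bot_eq] at htop
    have hsimple := Cfsg.Agent.Helper50.simple_of_top hO hmin hV hS hNn hN1 hNmin hC htop
    have hmemC : ∀ g : G, (∀ n ∈ N, Commute g n) → g = 1 := by
      intro g hg
      have : g ∈ Subgroup.centralizer (N : Set G) := by
        rw [Subgroup.mem_centralizer_iff]
        intro n hn
        exact (hg n hn).eq.symm
      rwa [hC, Subgroup.mem_bot] at this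
    -- normal subgroups meeting N trivially are trivial
    have hdisj : ∀ M : Subgroup G, M.Normal → M ⊓ N = ⊥ → M = ⊥ := by
      intro M hMn hMN
      rw [eq_bot_iff]
      intro m hm
      rw [Subgroup.mem_bot]
      apply hmemC
      intro n hn
      exact Subgroup.commute_of_normal_of_disjoint M N hMn hNn (disjoint_iff.mpr hMN) m n hm hn
    have hF : Cfsg.generalizedFittingSubgroup G = N := by
      apply le_antisymm
      · unfold Cfsg.generalizedFittingSubgroup
        apply sup_le
        · apply sSup_le
          intro K hK
          rcases Cfsg.Agent.Helper22.component_le_or_commutator_eq_bot hK hNn.isSubnormal with h | h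
          · exact h
          · exfalso
            apply Cfsg.Agent.Helper22.IsQuasisimple.ne_bot hK.2
            rw [eq_bot_iff]
            intro k hk
            rw [Subgroup.mem_bot]
            apply hmemC
            intro n hn
            have : ⁅k, n⁆ ∈ ⁅K, N⁆ := Subgroup.commutator_mem_commutator hk hn
            rw [h, Subgroup.mem_bot] at this
            exact commutatorElement_eq_one_iff_commute.mp this
        · apply sSup_le
          rintro M ⟨hMn, hMnil⟩
          have hMNn : (M ⊓ N).Normal := inferInstance
          rcases hNmin _ hMNn inf_le_right with h | h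
          · rw [hdisj M hMn h]; exact bot_le
          · exfalso
            have hNM : N ≤ M := by rw [← h]; exact inf_le_left
            have hnilN : Group.IsNilpotent ↥(N.subgroupOf M) := Subgroup.isNilpotent _
            have e : ↥(N.subgroupOf M) ≃* ↥N := Subgroup.subgroupOfEquivOfLe hNM
            haveI hnilN' : Group.IsNilpotent ↥N := (Group.isNilpotent_congr e).mp hnilN
            haveI : Nontrivial ↥N := (Subgroup.nontrivial_iff_ne_bot N).mpr hN1
            apply Group.IsNilpotent.center_ne_bot (G := ↥N)
            rw [eq_bot_iff]
            intro z hz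
            rw [Subgroup.mem_bot]
            apply Subtype.ext
            apply hmemC
            intro n hn
            have := Subgroup.mem_center_iff.mp hz ⟨n, hn⟩
            have h' := congrArg Subtype.val this
            have h'' : n * (z : G) = (z : G) * n := by simpa using h'
            exact h''.symm
      · have hFn : (Cfsg.generalizedFittingSubgroup G).Normal := inferInstance
        have hFNn : (Cfsg.generalizedFittingSubgroup G ⊓ N).Normal := inferInstance
        rcases hNmin _ hFNn inf_le_right with h | h
        · exfalso
          apply hN1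
          have h1 : N ≤ Subgroup.centralizer (Cfsg.generalizedFittingSubgroup G : Set G) := by
            intro n hn
            rw [Subgroup.mem_centralizer_iff]
            intro f hf
            exact Subgroup.commute_of_normal_of_disjoint _ N hFn hNn (disjoint_iff.mpr h) f n hf hn
          have h2 := h1.trans Cfsg.Agent.Helper22.centralizer_generalizedFittingSubgroup_le
          rw [eq_bot_iff, ← h]
          exact le_inf h2 le_rfl
        · rw [← h]; exact inf_le_left
    rw [hF]
    refine ⟨hsimple, ?_, by rw [sup_comm]; exact htop⟩
    intro hcomm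
    apply hN1
    rw [eq_bot_iff]
    intro n hn
    rw [Subgroup.mem_bot]
    apply hmemC
    intro m hm
    have := hcomm.is_comm.comm (⟨n, hn⟩ : N) ⟨m, hm⟩
    exact congrArg Subtype.val this
  · exfalso
    have hNCn : (N ⊓ Subgroup.centralizer (N : Set G)).Normal := inferInstance
    have hNab : N ≤ Subgroup.centralizer (N : Set G) := by
      rcases hNmin _ hNCn inf_le_left with h | h
      · exact absurd h hNC
      · intro x hx
        have hx' : x ∈ N ⊓ Subgroup.centralizer (N : Set G) := by rw [h]; exact hx
        exact (Subgroup.mem_inf.mp hx').2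
    exact Cfsg.Agent.Helper50.abelian_case hO hmin hV hV1 hS hNn hN1 hNmin hNab

end Cfsg.Agent.S3048
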