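import Cfsg.Statements.S3050
import Cfsg.Agent.Lib.Helper50.Higman7
import Cfsg.Agent.Lib.Helper50.Higman11

set_option autoImplicit false
open Cfsg
open Cfsg.Agent.Helper50.Higman

namespace Cfsg.Agent.S3050

/-- Let G be a finite group with a normal 2-subgroup Q such that G/Q is isomorphic to SL(2, 2ⁿ) with n ≥ 2, and suppose some element of G of order 3 fixes no nonidentity element of Q under conjugation. Then Q is elementary abelian and is the direct product of normal subgroups of G on each of which G acts as SL(2, 2ⁿ) acts on its natural two-dimensional module (a Galois twist of the natural action allowed). -/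
theorem result {G : Type*} [Group G] [Finite G]
    (Q : Subgroup G) [Q.Normal] (hQ : IsPGroup 2 ↥Q) (n : ℕ) (hn : 2 ≤ n)
    (K : Type*) [Field K] [Fintype K] (hK : Fintype.card K = 2 ^ n)
    (e : G ⧸ Q ≃* Matrix.SpecialLinearGroup (Fin 2) K)
    (x : G) (hx : orderOf x = 3) (hfpf : ∀ q ∈ Q, x * q * x⁻¹ = q → q = 1) :
    Cfsg.IsElementaryAbelian 2 Q ∧
      ∃ (k : ℕ) (V : Fin k → Subgroup G), (∀ i, V i ≤ Q ∧ (V i).Normal ∧
        Cfsg.ActsAsSL2OnSection K ⊤ ⊤ (V i) ⊥) ∧ iSupIndep V ∧ ⨆ i, V i = Q := by
  classical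
  -- characteristic two
  have h2K : (2 : K) = 0 := by
    have h1 : ((Fintype.card K : ℕ) : K) = 0 := Nat.cast_card_eq_zero K
    rw [hK, Nat.cast_pow] at h1
    exact pow_eq_zero_iff (by omega) |>.mp h1
  haveI : CharP K 2 := CharTwo.of_one_ne_zero_of_two_eq_zero one_ne_zero h2K
  -- squares
  have hsq : ∀ c : K, ∃ s : K, s * s = c := by
    have hinj : Function.Injective (fun s : K => s * s) := by
      intro s t hst
      have h1 : (s + t) * (s + t) = 0 := by
        have : (s + t) * (s + t) = s * s + t * t + 2 * (s * t) := by ring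
        rw [this, h2K, zero_mul, add_zero]
        simp only at hst
        rw [hst, CharTwo.add_self_eq_zero]
      have h2 : s + t = 0 := by
        rcases mul_eq_zero.mp h1 with h | h <;> exact h
      have := eq_neg_of_add_eq_zero_left h2
      rwa [CharTwo.neg_eq] at this
    have hsurj := Finite.injective_iff_surjective.mp hinj
    intro c
    exact hsurj c
  -- an element outside the prime field
  have hc : ∃ c : K, c ≠ 0 ∧ c ≠ 1 := by
    by_contra hne
    push Not at hne
    have h1 : Fintype.card K ≤ 2 := by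
      calc Fintype.card K = (Finset.univ : Finset K).card := rfl
        _ ≤ ({0, 1} : Finset K).card := by
          apply Finset.card_le_card
          intro c _
          by_cases h0 : c = 0
          · simp [h0]
          · simp [hne c h0]
        _ ≤ 2 := Finset.card_le_two
    have h2 : 2 ^ 2 ≤ 2 ^ n := Nat.pow_le_pow_right (by norm_num) hn
    omega
  obtain ⟨c, hc0, hc1⟩ := hc
  have hq : Fintype.card K = 2 * 2 ^ (n - 1) := by
    rw [hK, ← pow_succ']
    congr 1
    omega
  -- the image of `x`
  have hx3 : x ^ 3 = 1 := by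
    rw [← hx]
    exact pow_orderOf_eq_one x
  have hxQ : x ∉ Q := by
    intro hxQ
    obtain ⟨k, hk⟩ := hQ ⟨x, hxQ⟩
    have hk' : x ^ 2 ^ k = 1 := by
      have := congrArg Subtype.val hk
      simpa using this
    have hdvd : 3 ∣ 2 ^ k := by
      rw [← hx]
      exact orderOf_dvd_of_pow_eq_one hk'
    have := Nat.Prime.dvd_of_dvd_pow Nat.prime_three hdvd
    omega
  have hd3 : (e (QuotientGroup.mk x)) ^ 3 = 1 := by
    rw [← map_pow, ← QuotientGroup.mk_pow, hx3]
    simp
  have hdne : e (QuotientGroup.mk x) ≠ 1 := by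
    intro h
    have h1 : (QuotientGroup.mk x : G ⧸ Q) = 1 := by
      apply e.injective
      rw [h, map_one]
    exact hxQ ((QuotientGroup.eq_one_iff x).mp h1)
  obtain ⟨g₀, hg₀⟩ := exists_conj_D0 hsq (e (QuotientGroup.mk x)) hd3 hdne
  let S : Setup K Q :=
    { e := e.trans (MulAut.conj g₀)
      x := x
      hx3 := hx3
      hxe := by
        show MulAut.conj g₀ (e (QuotientGroup.mk x)) = D0
        rw [MulAut.conj_apply]
        exact hg₀
      hfpf := hfpf
      hQ := hQ }
  obtain ⟨hcomm, h2⟩ := S.elemAb hsq c hc0 hc1 (2 ^ (n - 1)) hq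
  refine ⟨⟨⟨⟨fun a b => Subtype.ext (hcomm a a.2 b b.2)⟩⟩, ?_⟩, S.decomp hsq hcomm h2⟩
  intro a ha
  rw [pow_two]
  exact h2 a ha

end Cfsg.Agent.S3050
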