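import Cfsg.Statements.S3053
import Mathlib
import Cfsg.Agent.Lib.Helper51.ExtraP3Main

set_option autoImplicit false
open Cfsg

namespace Cfsg.Agent.S3053

open Cfsg.Agent.Helper51 Cfsg.Agent.Helper63
open scoped commutatorElement

theorem zOf_eq_map_center {G : Type*} [Group G] (Q : Subgroup G) :
    zOf Q = (Subgroup.center ↥Q).map Q.subtype := by
  ext x
  rw [mem_zOf, Subgroup.mem_map]
  constructor
  · rintro ⟨hxQ, hx⟩
    refine ⟨⟨x, hxQ⟩, ?_, rfl⟩
    rw [Subgroup.mem_center_iff]
    intro g
    exact Subtype.ext (hx g g.2)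
  · rintro ⟨x', hx', rfl⟩
    refine ⟨x'.2, fun g hg => ?_⟩
    rw [Subgroup.mem_center_iff] at hx'
    exact congrArg Subtype.val (hx' ⟨g, hg⟩)

/-- Let p be an odd prime and G a finite group with a Sylow p-subgroup P that is extraspecial of order p³ and exponent p². Then the centre of P is strongly closed in P with respect to G: a G-conjugate of an element of Z(P) that lies in P already lies in Z(P). In particular a nontrivial central element of P is conjugate in G to no noncentral element of P. -/
theorem result {G : Type*} [Group G] [Finite G]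
    {p : ℕ} [Fact p.Prime] (hp : p ≠ 2) (P : Sylow p G) (hE : Cfsg.IsExtraspecial p ↥P)
    (hcard : Nat.card P = p ^ 3) (hexp : Monoid.exponent ↥P = p ^ 2) :
    Cfsg.IsStronglyClosed ((Subgroup.center ↥P).map (P : Subgroup G).subtype) (P : Subgroup G) := by
  have hpp : p.Prime := Fact.out
  have hZ : Nat.card (zOf (P : Subgroup G)) = p := by
    rw [zOf_eq_map_center, Subgroup.card_subtype]
    exact hE.2
  have hPc : ⁅(P : Subgroup G), (P : Subgroup G)⁆ ≤ zOf (P : Subgroup G) := by
    rw [Subgroup.commutator_le]
    intro a ha b hb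
    rw [zOf_eq_map_center, Subgroup.mem_map]
    refine ⟨⁅(⟨a, ha⟩ : (P : Subgroup G)), ⟨b, hb⟩⁆, ?_, ?_⟩
    · have hc : commutator ↥(P : Subgroup G) = Subgroup.center ↥(P : Subgroup G) := hE.1.2.2
      rw [← hc, commutator_def]
      exact Subgroup.commutator_mem_commutator (Subgroup.mem_top _) (Subgroup.mem_top _)
    · simp [commutatorElement_def]
  have hex : ∃ x ∈ (P : Subgroup G), x ^ p ≠ 1 := by
    by_contra hcon
    push Not at hcon
    have hd : Monoid.exponent ↥P ∣ p := by
      apply Monoid.exponent_dvd_of_forall_pow_eq_one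
      intro x
      apply Subtype.ext
      have := hcon x x.2
      simpa using this
    rw [hexp] at hd
    have := Nat.le_of_dvd hpp.pos hd
    have h1 := hpp.one_lt
    nlinarith
  obtain ⟨E, hEmem, hEcard⟩ := exists_omega hp hZ hPc hcard hex
  have hdata : OmegaData p (P : Subgroup G) E := ⟨hZ, hPc, hcard, hEmem, hEcard⟩
  change Cfsg.IsStronglyClosed
    ((Subgroup.center ↥(P : Subgroup G)).map (P : Subgroup G).subtype) (P : Subgroup G)
  rw [← zOf_eq_map_center]
  refine ⟨zOf_le _, fun x hx g hg => ?_⟩
  exact center_closed hp P hdata hex hx hg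

end Cfsg.Agent.S3053
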