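import Cfsg.Statements.S3054
import Cfsg.Agent.Lib.Helper51.RVApplySL
-- import your own Cfsg.Agent.* helpers here

set_option autoImplicit false
open Cfsg

namespace Cfsg.Agent.S3054

open Cfsg.Agent.Helper51.RV in
/-- Let p be an odd prime and G a finite group with a Sylow p-subgroup P that is extraspecial of order p³ and exponent p. Suppose P contains three distinct subgroups A of order p² (each is elementary abelian of rank 2) such that every automorphism of A of order p is induced by conjugation by an element of G; equivalently the automorphism group induced on A by its normalizer contains the special linear group of A. Then p ≤ 13. -/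
theorem result {G : Type*} [Group G] [Finite G]
    {p : ℕ} [Fact p.Prime] (hp : p ≠ 2) (P : Sylow p G) (hE : Cfsg.IsExtraspecial p ↥P)
    (hcard : Nat.card P = p ^ 3) (hexp : Monoid.exponent ↥P = p)
    (A : Fin 3 → Subgroup G) (hA : Function.Injective A) (hAP : ∀ i, A i ≤ (P : Subgroup G))
    (hAcard : ∀ i, Nat.card ↥(A i) = p ^ 2)
    (hSL : ∀ i, ∀ φ : MulAut ↥(A i), orderOf φ = p → ∃ g : G, ∀ a : ↥(A i), (φ a : G) = g * (a : G) * g⁻¹) :
    p ≤ 13 := by
  classical
  have hpp : p.Prime := Fact.out
  have hES : ES p ↥(P : Subgroup G) := by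
    have hE' : Cfsg.IsExtraspecial p ↥(P : Subgroup G) := hE
    have hexp' : Monoid.exponent ↥(P : Subgroup G) = p := hexp
    refine ⟨hcard, ?_, hE'.1.2.2, hE'.2⟩
    intro x
    have := Monoid.pow_exponent_eq_one x
    rwa [hexp'] at this
  obtain ⟨R⟩ := hES.exists_rep
  have hx : ∀ i, ∃ x' : ↥(P : Subgroup G), (x' : G) ∈ A i ∧
      x' ∉ Subgroup.center ↥(P : Subgroup G) := by
    intro i
    by_contra hcon
    push Not at hcon
    have hle : (A i).subgroupOf (P : Subgroup G) ≤ Subgroup.center ↥(P : Subgroup G) :=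
      fun a ha => hcon a (Subgroup.mem_subgroupOf.mp ha)
    have hfin := hES.finite
    have h1 := Subgroup.card_le_of_le hle
    rw [Nat.card_congr (Subgroup.subgroupOfEquivOfLe (hAP i)).toEquiv, hAcard, hES.cardZ] at h1
    have := hpp.two_le
    nlinarith
  choose xs hxsA hxsnc using hx
  have hind : ∀ i j, i ≠ j → cross (R.κ (xs i)) (R.κ (xs j)) ≠ 0 := by
    intro i j hij hcr
    apply hij
    apply hA
    exact plane_eq_of_cross P hES R (A i) (A j) (hAP i) (hAP j) (hAcard i) (hAcard j) (xs i) (xs j)
      (hxsA i) (hxsA j) (hxsnc i) (hxsnc j) hcr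
  have hL : ∀ i, LHyp P (xs i) := fun i =>
    lhyp_of_SL P hES (A i) (hAP i) (hAcard i) (hSL i) (xs i) (hxsA i) (hxsnc i)
  rcases assembly hp P hES R (by simp) xs hind hL with h | ⟨h13, _⟩ <;> omega

end Cfsg.Agent.S3054
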