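import Cfsg.Statements.S3055
import Cfsg.Agent.Lib.Helper51.RVApply
-- import your own Cfsg.Agent.* helpers here

set_option autoImplicit false
open Cfsg

namespace Cfsg.Agent.S3055

open Cfsg.Agent.Helper51.RV in
/-- Let p be an odd prime and G a finite group with a Sylow p-subgroup P that is extraspecial of order p³ and exponent p. If all nonidentity elements of P are conjugate in G, then p ≤ 7. -/
theorem result {G : Type*} [Group G] [Finite G]
    {p : ℕ} [Fact p.Prime] (hp : p ≠ 2) (P : Sylow p G) (hE : Cfsg.IsExtraspecial p ↥P)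
    (hcard : Nat.card P = p ^ 3) (hexp : Monoid.exponent ↥P = p)
    (hconj : ∀ x y : ↥P, x ≠ 1 → y ≠ 1 → ∃ g : G, g * (x : G) * g⁻¹ = (y : G)) :
    p ≤ 7 := by
  classical
  have hpp : p.Prime := Fact.out
  have hES : ES p ↥(P : Subgroup G) := by
    have hE' : Cfsg.IsExtraspecial p ↥(P : Subgroup G) := hE
    have hexp' : Monoid.exponent ↥(P : Subgroup G) = p := hexp
    refine ⟨hcard, ?_, hE'.1.2.2, hE'.2⟩
    intro x
    have := Monoid.pow_exponent_eq_one x
    rwa [hexp'] at this
  have hconj' : ∀ x y : ↥(P : Subgroup G), x ≠ 1 → y ≠ 1 →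
      ∃ g : G, g * (x : G) * g⁻¹ = (y : G) := hconj
  obtain ⟨R⟩ := hES.exists_rep
  have hx : ∀ c : ZMod p, ∃ x' : ↥(P : Subgroup G), R.κ x' = ![1, c] := fun c => R.surj _
  choose xs hxs using hx
  have hind : ∀ i j : ZMod p, i ≠ j → cross (R.κ (xs i)) (R.κ (xs j)) ≠ 0 := by
    intro i j hij
    rw [hxs, hxs]
    simp only [cross, Matrix.cons_val_zero, Matrix.cons_val_one, one_mul, mul_one]
    intro h
    apply hij
    exact (sub_eq_zero.mp h).symm
  have hL : ∀ i, LHyp P (xs i) := by
    intro i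
    apply lhyp_of_conj P hES hconj'
    rw [← R.ker, hxs]
    intro h
    have := congrFun h 0
    simp at this
  have h3 : 3 ≤ Fintype.card (ZMod p) := by
    rw [ZMod.card]
    have := hpp.two_le
    omega
  rcases assembly hp P hES R h3 xs hind hL with h | ⟨h13, h8⟩
  · exact h
  · rw [ZMod.card] at h8
    omega

end Cfsg.Agent.S3055
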