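import Cfsg.Statements.S3056
import Mathlib
import Cfsg.Agent.Lib.Helper51.SylowGraph

set_option autoImplicit false
open Cfsg

namespace Cfsg.Agent.S3056

open Cfsg.Agent.Helper51

/-- In a strongly `p`-embedded `H`, Sylow adjacency stays within `H`. -/
theorem le_of_adj_aux {G : Type*} [Group G] [Finite G] {p : ℕ} [Fact p.Prime] {H : Subgroup G}
    (hH : Cfsg.IsStronglyPEmbedded p H) {S T : Sylow p G} (hS : (S : Subgroup G) ≤ H)
    (hne : (S : Subgroup G) ⊓ (T : Subgroup G) ≠ ⊥) : (T : Subgroup G) ≤ H := by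
  obtain ⟨x, hx, hxp⟩ := Cfsg.Agent.Helper48.exists_orderOf_eq_of_ne_bot
    (S.2.to_le inf_le_left) hne
  have hxH : x ∈ H := hS (Subgroup.mem_inf.mp hx).1
  exact (Cfsg.Agent.Helper48.spe_ufp hH hxH hxp).le_of_isPGroup T.2 (Subgroup.mem_inf.mp hx).2

theorem le_of_reach_aux {G : Type*} [Group G] [Finite G] {p : ℕ} [Fact p.Prime] {H : Subgroup G}
    (hH : Cfsg.IsStronglyPEmbedded p H) {S T : Sylow p G} (hS : (S : Subgroup G) ≤ H)
    (hr : sylReach S T) : (T : Subgroup G) ≤ H := by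
  unfold sylReach at hr
  induction hr with
  | refl => exact hS
  | tail _ hbc ih => exact le_of_adj_aux hH ih hbc.2

theorem backward_aux {G : Type*} [Group G] [Finite G] {p : ℕ} [Fact p.Prime] {H : Subgroup G}
    (hne : H ≠ ⊤) (hpH : p ∣ Nat.card H)
    (hse : ∀ g : G, g ∉ H → ¬ p ∣ Nat.card ↥(H ⊓ H.map (MulAut.conj g).toMonoidHom)) :
    ¬ Cfsg.IsSylowChainConnected p G := by
  intro hconn
  have hnp := Cfsg.Agent.Helper46.normProp_of_coprime_inf_conj hse
  obtain ⟨P, hPH⟩ := Cfsg.Agent.Helper46.exists_sylow_le_of_normProp hpH hnp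
  have hspe := Cfsg.Agent.Helper46.spe_of_normProp hne hpH hnp
  obtain ⟨g, hg⟩ : ∃ g : G, g ∉ H := by
    by_contra hall
    push Not at hall
    exact hne (eq_top_iff.mpr fun x _ => hall x)
  have hT : ((g • P : Sylow p G) : Subgroup G) ≤ H :=
    le_of_reach_aux hspe hPH (reach_of_connected hconn P (g • P))
  have hPne : (P : Subgroup G) ≠ ⊥ := by
    intro hb
    have h1 : p ∣ Nat.card G := hpH.trans (Subgroup.card_subgroup_dvd_card H)
    exact P.ne_bot_of_dvd_card h1 hb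
  obtain ⟨x, hxP, hxp⟩ := Cfsg.Agent.Helper48.exists_orderOf_eq_of_ne_bot P.2 hPne
  -- g x g⁻¹ ∈ g • P ≤ H
  have hgx : g * x * g⁻¹ ∈ ((g • P : Sylow p G) : Subgroup G) := by
    rw [mem_smul_sylow]
    have e : g⁻¹ * (g * x * g⁻¹) * g = x := by group
    rw [e]; exact hxP
  exact hg ((Cfsg.Agent.Helper48.spe_ufp hspe (hPH hxP) hxp).2 g (hT hgx))

/-- The subgroup of elements `g` with `g • S₀` reachable from `S₀`. -/
def reachSubgroup {G : Type*} [Group G] {p : ℕ} (S₀ : Sylow p G) : Subgroup G where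
  carrier := {g | sylReach S₀ (g • S₀)}
  one_mem' := by
    show sylReach S₀ ((1 : G) • S₀)
    rw [one_smul]; exact Relation.ReflTransGen.refl
  mul_mem' := by
    intro a b ha hb
    show sylReach S₀ ((a * b) • S₀)
    rw [mul_smul]
    exact Relation.ReflTransGen.trans ha (sylReach_smul hb a)
  inv_mem' := by
    intro a ha
    show sylReach S₀ (a⁻¹ • S₀)
    have h1 := sylReach_smul (sylReach_symm ha) a⁻¹
    rwa [inv_smul_smul] at h1

theorem mem_reachSubgroup {G : Type*} [Group G] {p : ℕ} (S₀ : Sylow p G) (g : G) :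
    g ∈ reachSubgroup S₀ ↔ sylReach S₀ (g • S₀) := Iff.rfl

theorem forward_aux {G : Type*} [Group G] [Finite G] {p : ℕ} [Fact p.Prime]
    (hnc : ¬ Cfsg.IsSylowChainConnected p G) :
    ∃ H : Subgroup G, H ≠ ⊤ ∧ p ∣ Nat.card H ∧
        ∀ g : G, g ∉ H → ¬ p ∣ Nat.card ↥(H ⊓ H.map (MulAut.conj g).toMonoidHom) := by
  have h1 : ¬ ∀ S T : Sylow p G, sylReach S T := fun h => hnc (connected_of_reach h)
  push Not at h1
  obtain ⟨S₀, T₀, hST⟩ := h1
  refine ⟨reachSubgroup S₀, ?_, ?_, ?_⟩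
  · intro htop
    obtain ⟨g, hg⟩ := MulAction.exists_smul_eq G S₀ T₀
    have : g ∈ reachSubgroup S₀ := by rw [htop]; exact Subgroup.mem_top g
    rw [mem_reachSubgroup, hg] at this
    exact hST this
  · have hle : (S₀ : Subgroup G) ≤ reachSubgroup S₀ := by
      intro s hs
      rw [mem_reachSubgroup]
      have : s • S₀ = S₀ := Sylow.smul_eq_iff_mem_normalizer.mpr (Subgroup.le_normalizer hs)
      rw [this]; exact Relation.ReflTransGen.refl
    have hS₀ne : (S₀ : Subgroup G) ≠ ⊥ := by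
      intro hb
      apply hST
      -- all Sylows trivial, so S₀ = T₀
      have hcard : Nat.card (T₀ : Subgroup G) = Nat.card (S₀ : Subgroup G) :=
        (Sylow.card_eq_multiplicity T₀).trans (Sylow.card_eq_multiplicity S₀).symm
      have hT : (T₀ : Subgroup G) = ⊥ := by
        rw [← Subgroup.card_eq_one, hcard, hb]; exact Subgroup.card_bot
      have : S₀ = T₀ := Sylow.ext (by rw [hb, hT])
      rw [this]; exact Relation.ReflTransGen.refl
    exact (Cfsg.Agent.Helper48.dvd_card_of_ne_bot S₀.2 hS₀ne).trans (Subgroup.card_dvd_of_le hle)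
  · intro g hg hdvd
    have hle : (S₀ : Subgroup G) ≤ reachSubgroup S₀ := by
      intro s hs
      rw [mem_reachSubgroup]
      have : s • S₀ = S₀ := Sylow.smul_eq_iff_mem_normalizer.mpr (Subgroup.le_normalizer hs)
      rw [this]; exact Relation.ReflTransGen.refl
    set H := reachSubgroup S₀ with hH
    obtain ⟨x, hx⟩ := exists_prime_orderOf_dvd_card' p hdvd
    have hxp : orderOf (x : G) = p := by rw [← hx, Subgroup.orderOf_coe]
    have hxH : (x : G) ∈ H := (Subgroup.mem_inf.mp x.2).1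
    have hxg : g⁻¹ * (x : G) * g ∈ H :=
      Cfsg.Agent.Helper46.mem_map_conj.mp (Subgroup.mem_inf.mp x.2).2
    -- conjugate x into S₀ within H
    have hZp : IsPGroup p (Subgroup.zpowers (x : G)) :=
      Cfsg.Agent.Helper48.isPGroup_zpowers_of_orderOf hxp
    obtain ⟨h, hhH, hh⟩ := Cfsg.Agent.Helper48.exists_conj_mem_sylow S₀ hle hZp
      ((Subgroup.zpowers_le).mpr hxH)
    have hxp' : orderOf (g⁻¹ * (x : G) * g) = p := by
      have := Cfsg.Agent.Helper48.orderOf_conj' g⁻¹ (x : G)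
      rw [inv_inv] at this
      rw [this, hxp]
    have hZp' : IsPGroup p (Subgroup.zpowers (g⁻¹ * (x : G) * g)) :=
      Cfsg.Agent.Helper48.isPGroup_zpowers_of_orderOf hxp'
    obtain ⟨k, hkH, hk⟩ := Cfsg.Agent.Helper48.exists_conj_mem_sylow S₀ hle hZp'
      ((Subgroup.zpowers_le).mpr hxg)
    have h1 : h * (x : G) * h⁻¹ ∈ (S₀ : Subgroup G) := hh _ (Subgroup.mem_zpowers _)
    have h2 : k * (g⁻¹ * (x : G) * g) * k⁻¹ ∈ (S₀ : Subgroup G) := hk _ (Subgroup.mem_zpowers _)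
    -- x ∈ h⁻¹ • S₀ and x ∈ (g k⁻¹) • S₀
    have m1 : (x : G) ∈ ((h⁻¹ • S₀ : Sylow p G) : Subgroup G) := by
      rw [mem_smul_sylow, inv_inv]; exact h1
    have m2 : (x : G) ∈ (((g * k⁻¹) • S₀ : Sylow p G) : Subgroup G) := by
      rw [mem_smul_sylow]
      have e : (g * k⁻¹)⁻¹ * (x : G) * (g * k⁻¹) = k * (g⁻¹ * (x : G) * g) * k⁻¹ := by group
      rw [e]; exact h2
    have hxne : (x : G) ≠ 1 := by
      intro h1'
      rw [h1', orderOf_one] at hxp
      exact (Fact.out : p.Prime).one_lt.ne hxp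
    have hne : ((h⁻¹ • S₀ : Sylow p G) : Subgroup G) ⊓ (((g * k⁻¹) • S₀ : Sylow p G) : Subgroup G) ≠ ⊥ := by
      intro hb
      have : (x : G) ∈ (⊥ : Subgroup G) := hb ▸ Subgroup.mem_inf.mpr ⟨m1, m2⟩
      exact hxne (Subgroup.mem_bot.mp this)
    have r1 : sylReach S₀ (h⁻¹ • S₀) := (mem_reachSubgroup S₀ _).mp (H.inv_mem hhH)
    have r2 : sylReach S₀ ((g * k⁻¹) • S₀) :=
      Relation.ReflTransGen.trans r1 (sylReach_of_inf_ne_bot hne)
    have hgk : g * k⁻¹ ∈ H := (mem_reachSubgroup S₀ _).mpr r2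
    apply hg
    have := H.mul_mem hgk hkH
    rwa [inv_mul_cancel_right] at this

theorem result {G : Type*} [Group G] [Finite G]
    (p : ℕ) [Fact p.Prime] :
    ¬ Cfsg.IsSylowChainConnected p G ↔
      ∃ H : Subgroup G, H ≠ ⊤ ∧ p ∣ Nat.card H ∧
        ∀ g : G, g ∉ H → ¬ p ∣ Nat.card ↥(H ⊓ H.map (MulAut.conj g).toMonoidHom) := by
  constructor
  · exact forward_aux
  · rintro ⟨H, hne, hpH, hse⟩
    exact backward_aux hne hpH hse

end Cfsg.Agent.S3056
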