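import Cfsg.Statements.S3057
import Mathlib
import Cfsg.Agent.Lib.Helper51.SylowGraphRank
import Cfsg.Agent.Lib.Helper73.CyclicSylow
import Cfsg.Agent.S0218
import Cfsg.Agent.S0016

set_option autoImplicit false
open Cfsg

namespace Cfsg.Agent.S3057

open Cfsg.Agent.Helper51

/-- From "rank one" to uniqueness of the subgroup of order `p`. -/
theorem unique_of_rank_one_aux {G : Type*} [Group G] [Finite G] {p : ℕ} [Fact p.Prime]
    (P : Sylow p G)
    (hrank : ∀ a b : G, a ∈ (P : Subgroup G) → b ∈ (P : Subgroup G) → orderOf a = p →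
      orderOf b = p → a * b = b * a → a ∈ Subgroup.zpowers b) :
    ∀ x y : G, x ∈ (P : Subgroup G) → y ∈ (P : Subgroup G) → orderOf x = p → orderOf y = p →
      y ∈ Subgroup.zpowers x := by
  have hp : p.Prime := Fact.out
  intro x y hx hy hxp hyp
  have hPne : (P : Subgroup G) ≠ ⊥ := by
    intro hb
    rw [hb, Subgroup.mem_bot] at hx
    rw [hx, orderOf_one] at hxp
    exact hp.one_lt.ne hxp
  obtain ⟨z, hzP, hzp, hzc⟩ := Cfsg.Agent.Helper48.exists_central_orderOf_eq P.2 hPne
  have hxz : x ∈ Subgroup.zpowers z := hrank x z hx hzP hxp hzp (hzc x hx)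
  have hyz : y ∈ Subgroup.zpowers z := hrank y z hy hzP hyp hzp (hzc y hy)
  have hle : Subgroup.zpowers x ≤ Subgroup.zpowers z := Subgroup.zpowers_le.mpr hxz
  have heq : Subgroup.zpowers x = Subgroup.zpowers z := by
    apply Subgroup.eq_of_le_of_card_ge hle
    rw [Nat.card_zpowers, Nat.card_zpowers, hxp, hzp]
  rw [heq]; exact hyz

/-- Translate to the subgroup form used by the classification of `p`-groups with a unique
subgroup of order `p`. -/
theorem unique_subgroup_aux {G : Type*} [Group G] [Finite G] {p : ℕ} [Fact p.Prime]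
    (P : Sylow p G)
    (hU : ∀ x y : G, x ∈ (P : Subgroup G) → y ∈ (P : Subgroup G) → orderOf x = p →
      orderOf y = p → y ∈ Subgroup.zpowers x) :
    ∀ H K : Subgroup ↥(P : Subgroup G), Nat.card H = p → Nat.card K = p → H = K := by
  have hp : p.Prime := Fact.out
  -- every subgroup of order p is generated by an element of order p
  have gen : ∀ H : Subgroup ↥(P : Subgroup G), Nat.card H = p →
      ∃ h : ↥(P : Subgroup G), orderOf h = p ∧ Subgroup.zpowers h = H := by
    intro H hH
    have hne : H ≠ ⊥ := by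
      intro hb
      rw [hb, Subgroup.card_bot] at hH
      exact hp.one_lt.ne hH
    obtain ⟨h, hhH, hh1⟩ := (Subgroup.ne_bot_iff_exists_ne_one).mp hne |>.imp
      (fun a ha => ha) |> fun ⟨a, ha⟩ => (⟨a.1, a.2, fun h => ha (Subtype.ext h)⟩ :
        ∃ h : ↥(P : Subgroup G), h ∈ H ∧ h ≠ 1)
    have hord : orderOf h = p := by
      have h1 : orderOf h ∣ p := by
        have h0 := Subgroup.orderOf_dvd_natCard H hhH
        rwa [hH] at h0
      rcases (Nat.dvd_prime hp).mp h1 with h2 | h2
      · exact absurd (orderOf_eq_one_iff.mp h2) hh1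
      · exact h2
    refine ⟨h, hord, ?_⟩
    apply Subgroup.eq_of_le_of_card_ge (Subgroup.zpowers_le.mpr hhH)
    rw [Nat.card_zpowers, hord, hH]
  intro H K hH hK
  obtain ⟨h, hhp, rfl⟩ := gen H hH
  obtain ⟨k, hkp, rfl⟩ := gen K hK
  have h1 : (k : G) ∈ Subgroup.zpowers (h : G) :=
    hU h k h.2 k.2 (by rw [Subgroup.orderOf_coe, hhp]) (by rw [Subgroup.orderOf_coe, hkp])
  obtain ⟨i, hi⟩ := Subgroup.mem_zpowers_iff.mp h1
  have h2 : k ∈ Subgroup.zpowers h := by
    rw [Subgroup.mem_zpowers_iff]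
    refine ⟨i, Subtype.ext ?_⟩
    rw [Subgroup.coe_zpow]; exact hi
  symm
  apply Subgroup.eq_of_le_of_card_ge (Subgroup.zpowers_le.mpr h2)
  rw [Nat.card_zpowers, Nat.card_zpowers, hhp, hkp]

/-- The forward direction, modulo the classification. -/
theorem forward_unique_aux {G : Type*} [Group G] [Finite G] {p : ℕ} [Fact p.Prime]
    (hsol : Cfsg.IsPSolvable p G) (P : Sylow p G) (hnc : ¬ Cfsg.IsSylowChainConnected p G) :
    ∀ H K : Subgroup ↥(P : Subgroup G), Nat.card H = p → Nat.card K = p → H = K := by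
  obtain ⟨H, hPH, hspe⟩ := exists_spe_ge_sylow hnc P
  apply unique_subgroup_aux P
  apply unique_of_rank_one_aux P
  intro a b ha hb hap hbp hab
  exact mem_zpowers_of_psolvable_spe hsol hspe P hPH ha hb hap hbp hab

/-- Uniqueness of the subgroup of order `p` in a cyclic or quaternion Sylow subgroup. -/
theorem unique_of_cyclic_or_quaternion_aux {G : Type*} [Group G] [Finite G] {p : ℕ}
    [Fact p.Prime] (P : Sylow p G)
    (h : IsCyclic ↥P ∨ (p = 2 ∧ ∃ n : ℕ, Nonempty (↥P ≃* QuaternionGroup (2 ^ n)))) :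
    ∀ x y : G, x ∈ (P : Subgroup G) → y ∈ (P : Subgroup G) → orderOf x = p → orderOf y = p →
      y ∈ Subgroup.zpowers x := by
  have hp : p.Prime := Fact.out
  intro x y hx hy hxp hyp
  rcases h with hc | ⟨h2, n, ⟨e⟩⟩
  · have : IsCyclic ↥(P : Subgroup G) := hc
    have h1 : (⟨y, hy⟩ : ↥(P : Subgroup G)) ∈ Subgroup.zpowers (⟨x, hx⟩ : ↥(P : Subgroup G)) := by
      apply Cfsg.Agent.Helper73.mem_zpowers_of_cyclic hp.pos
      · rw [← Subgroup.orderOf_coe]; exact hxp
      · apply Subtype.ext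
        rw [Subgroup.coe_pow, Subgroup.coe_one]
        show y ^ p = 1
        rw [← hyp]; exact pow_orderOf_eq_one y
    obtain ⟨i, hi⟩ := Subgroup.mem_zpowers_iff.mp h1
    rw [Subgroup.mem_zpowers_iff]
    refine ⟨i, ?_⟩
    have := congrArg Subtype.val hi
    rwa [Subgroup.coe_zpow] at this
  · subst h2
    have : NeZero (2 ^ n) := ⟨by positivity⟩
    have ex : orderOf (e ⟨x, hx⟩) = 2 := by
      rw [MulEquiv.orderOf_eq, ← Subgroup.orderOf_coe]; exact hxp
    have ey : orderOf (e ⟨y, hy⟩) = 2 := by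
      rw [MulEquiv.orderOf_eq, ← Subgroup.orderOf_coe]; exact hyp
    have h1 := (Cfsg.Agent.S0218.invol_iff _ _).mp ex
    have h2 := (Cfsg.Agent.S0218.invol_iff _ _).mp ey
    have h3 : (⟨x, hx⟩ : ↥(P : Subgroup G)) = ⟨y, hy⟩ := e.injective (h1.trans h2.symm)
    have h4 : x = y := congrArg Subtype.val h3
    rw [h4]; exact Subgroup.mem_zpowers y

/-- The backward direction. -/
theorem backward_aux {G : Type*} [Group G] [Finite G] {p : ℕ} [Fact p.Prime]
    (hdiv : p ∣ Nat.card G) (P : Sylow p G) (hcore : Cfsg.pCore p G = ⊥)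
    (hU : ∀ x y : G, x ∈ (P : Subgroup G) → y ∈ (P : Subgroup G) → orderOf x = p →
      orderOf y = p → y ∈ Subgroup.zpowers x) :
    ¬ Cfsg.IsSylowChainConnected p G := by
  have hp : p.Prime := Fact.out
  intro hconn
  have hPne : (P : Subgroup G) ≠ ⊥ := P.ne_bot_of_dvd_card hdiv
  obtain ⟨x₀, hx₀P, hx₀p⟩ := Cfsg.Agent.Helper48.exists_orderOf_eq_of_ne_bot P.2 hPne
  -- uniqueness in every Sylow subgroup
  have hU' : ∀ S : Sylow p G, ∀ x y : G, x ∈ (S : Subgroup G) → y ∈ (S : Subgroup G) →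
      orderOf x = p → orderOf y = p → y ∈ Subgroup.zpowers x := by
    intro S x y hx hy hxp hyp
    obtain ⟨g, rfl⟩ := MulAction.exists_smul_eq G P S
    rw [mem_smul_sylow] at hx hy
    have hxp' : orderOf (g⁻¹ * x * g) = p := by
      have := Cfsg.Agent.Helper48.orderOf_conj' g⁻¹ x
      rw [inv_inv] at this
      rw [this, hxp]
    have hyp' : orderOf (g⁻¹ * y * g) = p := by
      have := Cfsg.Agent.Helper48.orderOf_conj' g⁻¹ y
      rw [inv_inv] at this
      rw [this, hyp]
    obtain ⟨i, hi⟩ := Subgroup.mem_zpowers_iff.mp (hU _ _ hx hy hxp' hyp')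
    rw [Subgroup.mem_zpowers_iff]
    refine ⟨i, ?_⟩
    have h1 : (g⁻¹ * x * g) ^ i = g⁻¹ * x ^ i * g := by
      have := conj_zpow (a := g⁻¹) (b := x) (i := i)
      rwa [inv_inv] at this
    rw [h1] at hi
    have h2 : x ^ i = g * (g⁻¹ * x ^ i * g) * g⁻¹ := by group
    rw [h2, hi]; group
  -- x₀ lies in every Sylow subgroup
  have hall : ∀ T : Sylow p G, x₀ ∈ (T : Subgroup G) := by
    intro T
    have hr := reach_of_connected hconn P T
    unfold sylReach at hr
    induction hr with
    | refl => exact hx₀P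
    | @tail S T' _ hadj ih =>
      obtain ⟨y, hy, hyp⟩ := Cfsg.Agent.Helper48.exists_orderOf_eq_of_ne_bot
        (S.2.to_le inf_le_left) hadj.2
      have h1 := hU' S y x₀ (Subgroup.mem_inf.mp hy).1 ih hyp hx₀p
      exact (Subgroup.zpowers_le.mpr (Subgroup.mem_inf.mp hy).2) h1
  -- its normal closure is a normal p-subgroup
  have hNP : Subgroup.normalClosure ({x₀} : Set G) ≤ (P : Subgroup G) := by
    unfold Subgroup.normalClosure
    rw [Subgroup.closure_le]
    intro c hc
    rw [Group.mem_conjugatesOfSet_iff] at hc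
    obtain ⟨b, hb, hbc⟩ := hc
    rw [Set.mem_singleton_iff] at hb
    subst hb
    obtain ⟨g, hg⟩ := isConj_iff.mp hbc
    have := hall (g⁻¹ • P)
    rw [mem_smul_sylow, inv_inv] at this
    rw [← hg]; exact this
  have hN : Subgroup.normalClosure ({x₀} : Set G) ≤ Cfsg.pCore p G :=
    Cfsg.Agent.Helper47.le_pCore Subgroup.normalClosure_normal (P.2.to_le hNP)
  rw [hcore] at hN
  have h1 : x₀ ∈ (⊥ : Subgroup G) := hN (Subgroup.subset_normalClosure (Set.mem_singleton x₀))
  rw [Subgroup.mem_bot] at h1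
  rw [h1, orderOf_one] at hx₀p
  exact hp.one_lt.ne hx₀p

/-- Let p be a prime and G a finite p-solvable group of order divisible by p, with Sylow p-subgroup P. Then the Sylow p-subgroups of G fail to be chain-connected through nontrivial intersections (equivalently, G has a strongly p-embedded subgroup) if and only if O_p(G) = 1 and P is cyclic or, for p = 2, generalized quaternion. -/
theorem result {G : Type*} [Group G] [Finite G]
    (p : ℕ) [Fact p.Prime] (hdiv : p ∣ Nat.card G) (hsol : Cfsg.IsPSolvable p G) (P : Sylow p G) :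
    ¬ Cfsg.IsSylowChainConnected p G ↔
      Cfsg.pCore p G = ⊥ ∧ (IsCyclic ↥P ∨ (p = 2 ∧ ∃ n : ℕ, Nonempty (↥P ≃* QuaternionGroup (2 ^ n)))) := by
  constructor
  · intro hnc
    refine ⟨pCore_eq_bot_of_not_connected hnc, ?_⟩
    have huniq := forward_unique_aux hsol P hnc
    exact Cfsg.Agent.S0016.result (G := ↥(P : Subgroup G)) p P.2 huniq
  · rintro ⟨hcore, hP⟩
    exact backward_aux hdiv P hcore (unique_of_cyclic_or_quaternion_aux P hP)

end Cfsg.Agent.S3057
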