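import Cfsg.Statements.S3058
import Mathlib
import Cfsg.Agent.S3056
import Cfsg.Agent.Lib.Helper48.CoprimeGen
import Cfsg.Agent.Lib.Helper51.DStar

set_option autoImplicit false
open Cfsg

namespace Cfsg.Agent.S3058

open Cfsg.Agent.Helper51

/-- An element of order `p` of a normal subgroup has a conjugate (still of order `p` in the normal
subgroup) lying in a given Sylow `p`-subgroup. -/
theorem exists_mem_sylow_of_normal_aux {G : Type*} [Group G] [Finite G] {p : ℕ} [Fact p.Prime]
    (P : Sylow p G) (N : Subgroup G) [N.Normal] (hN : p ∣ Nat.card N) :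
    ∃ a : G, a ∈ N ∧ a ∈ (P : Subgroup G) ∧ orderOf a = p := by
  obtain ⟨x, hx⟩ := exists_prime_orderOf_dvd_card' p hN
  have hxp : orderOf (x : G) = p := by rw [← hx, Subgroup.orderOf_coe]
  have hZp : IsPGroup p (Subgroup.zpowers (x : G)) :=
    Cfsg.Agent.Helper48.isPGroup_zpowers_of_orderOf hxp
  obtain ⟨h, -, hh⟩ := Cfsg.Agent.Helper48.exists_conj_mem_sylow (H := ⊤) P le_top hZp le_top
  refine ⟨h * (x : G) * h⁻¹, ?_, hh _ (Subgroup.mem_zpowers _), ?_⟩
  · exact (inferInstance : N.Normal).conj_mem _ x.2 h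
  · rw [Cfsg.Agent.Helper48.orderOf_conj', hxp]

theorem closure_pair_comm_aux {G : Type*} [Group G] {a b : G} (hab : a * b = b * a) :
    ∀ x ∈ Subgroup.closure ({a, b} : Set G), ∀ y ∈ Subgroup.closure ({a, b} : Set G),
      x * y = y * x := by
  -- every element of the closure centralizes the closure
  have key : ∀ c : G, c * a = a * c → c * b = b * c →
      c ∈ Subgroup.centralizer (Subgroup.closure ({a, b} : Set G) : Set G) := by
    intro c hca hcb
    apply Cfsg.Agent.Helper51.mem_centralizer_closure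
    intro g hg
    rcases hg with rfl | rfl
    · exact hca.symm
    · exact hcb.symm
  have ha : a ∈ Subgroup.centralizer (Subgroup.closure ({a, b} : Set G) : Set G) :=
    key a rfl hab
  have hb : b ∈ Subgroup.centralizer (Subgroup.closure ({a, b} : Set G) : Set G) :=
    key b hab.symm rfl
  have hle : Subgroup.closure ({a, b} : Set G) ≤
      Subgroup.centralizer (Subgroup.closure ({a, b} : Set G) : Set G) := by
    rw [Subgroup.closure_le]
    intro g hg
    rcases hg with rfl | rfl
    · exact ha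
    · exact hb
  intro x hx y hy
  exact ((Subgroup.mem_centralizer_iff.mp (hle hx)) y hy).symm

theorem closure_pair_pow_aux {G : Type*} [Group G] {a b : G} (hab : a * b = b * a) {p : ℕ}
    (ha : a ^ p = 1) (hb : b ^ p = 1) :
    ∀ x ∈ Subgroup.closure ({a, b} : Set G), x ^ p = 1 := by
  have hc := closure_pair_comm_aux hab
  intro x hx
  induction hx using Subgroup.closure_induction with
  | mem x hx =>
    rcases hx with rfl | rfl
    · exact ha
    · exact hb
  | one => exact one_pow p
  | mul x y hx hy ihx ihy =>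
    have : Commute x y := hc x hx y hy
    rw [this.mul_pow, ihx, ihy, one_mul]
  | inv x _ ih => rw [inv_pow, ih, inv_one]

theorem result {G : Type*} [Group G] [Finite G]
    (p : ℕ) [Fact p.Prime] (hG : ¬ Cfsg.IsSylowChainConnected p G)
    (N M : Subgroup G) [N.Normal] [M.Normal] (hN : p ∣ Nat.card N) (hM : p ∣ Nat.card M) :
    p ∣ Nat.card ↥(N ⊓ M) := by
  have hp : p.Prime := Fact.out
  obtain ⟨H, hne, hpH, hse⟩ := Cfsg.Agent.S3056.forward_aux hG
  have hnp := Cfsg.Agent.Helper46.normProp_of_coprime_inf_conj hse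
  obtain ⟨P, hPH⟩ := Cfsg.Agent.Helper46.exists_sylow_le_of_normProp hpH hnp
  have hspe := Cfsg.Agent.Helper46.spe_of_normProp hne hpH hnp
  by_contra hK
  obtain ⟨a, haN, haP, hap⟩ := exists_mem_sylow_of_normal_aux P N hN
  obtain ⟨b, hbM, hbP, hbp⟩ := exists_mem_sylow_of_normal_aux P M hM
  have hKcop : (Nat.card ↥(N ⊓ M)).Coprime p :=
    ((Nat.Prime.coprime_iff_not_dvd hp).mpr hK).symm
  -- a p-element of N ⊓ M is trivial
  have htriv : ∀ x : G, x ∈ N ⊓ M → x ∈ (P : Subgroup G) → x = 1 := by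
    intro x hxK hxP
    obtain ⟨k, hk⟩ := P.2 ⟨x, hxP⟩
    have h1 : x ^ p ^ k = 1 := by
      have := congrArg Subtype.val hk
      simpa using this
    have h2 : orderOf x ∣ p ^ k := orderOf_dvd_of_pow_eq_one h1
    have h3 : orderOf x ∣ Nat.card ↥(N ⊓ M) := by
      have := orderOf_dvd_natCard (⟨x, hxK⟩ : ↥(N ⊓ M))
      rwa [← Subgroup.orderOf_coe] at this
    have h4 : orderOf x ∣ 1 := by
      have hcop : (Nat.card ↥(N ⊓ M)).Coprime (p ^ k) := Nat.Coprime.pow_right k hKcop
      have := Nat.dvd_gcd h3 h2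
      rwa [Nat.Coprime.gcd_eq_one hcop] at this
    exact orderOf_eq_one_iff.mp (Nat.dvd_one.mp h4)
  have hab : a * b = b * a := by
    have hc : a * b * a⁻¹ * b⁻¹ ∈ N ⊓ M := by
      refine Subgroup.mem_inf.mpr ⟨?_, ?_⟩
      · have h1 : b * a⁻¹ * b⁻¹ ∈ N :=
          (inferInstance : N.Normal).conj_mem _ (N.inv_mem haN) b
        have := N.mul_mem haN h1
        have e : a * (b * a⁻¹ * b⁻¹) = a * b * a⁻¹ * b⁻¹ := by group
        rwa [e] at this
      · have h1 : a * b * a⁻¹ ∈ M := (inferInstance : M.Normal).conj_mem _ hbM a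
        exact M.mul_mem h1 (M.inv_mem hbM)
    have hcP : a * b * a⁻¹ * b⁻¹ ∈ (P : Subgroup G) :=
      Subgroup.mul_mem _ (Subgroup.mul_mem _ (Subgroup.mul_mem _ haP hbP)
        (Subgroup.inv_mem _ haP)) (Subgroup.inv_mem _ hbP)
    have h1 := htriv _ hc hcP
    have e : a * b = (a * b * a⁻¹ * b⁻¹) * (b * a) := by group
    rw [e, h1, one_mul]
  have hap' : a ^ p = 1 := by rw [← hap]; exact pow_orderOf_eq_one a
  have hbp' : b ^ p = 1 := by rw [← hbp]; exact pow_orderOf_eq_one b
  set A : Subgroup G := Subgroup.closure ({a, b} : Set G) with hA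
  have hAc := closure_pair_comm_aux hab
  have hAp := closure_pair_pow_aux hab hap' hbp'
  have haA : a ∈ A := Subgroup.subset_closure (by simp)
  have hbA : b ∈ A := Subgroup.subset_closure (by simp)
  have hb1 : b ≠ 1 := by
    intro h
    rw [h, orderOf_one] at hbp
    exact hp.one_lt.ne hbp
  have ha1 : a ≠ 1 := by
    intro h
    rw [h, orderOf_one] at hap
    exact hp.one_lt.ne hap
  have habz : a ∉ Subgroup.zpowers b := by
    intro h
    have haM : a ∈ M := (Subgroup.zpowers_le.mpr hbM) h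
    exact ha1 (htriv a (Subgroup.mem_inf.mpr ⟨haN, haM⟩) haP)
  have hAP : A ≤ (P : Subgroup G) := by
    rw [hA, Subgroup.closure_le]
    intro g hg
    rcases hg with rfl | rfl
    · exact haP
    · exact hbP
  have hAK : A ≤ Subgroup.normalizer ((N ⊓ M : Subgroup G) : Set G) := by
    rw [Subgroup.normalizer_eq_top]; exact le_top
  have hKgen := Cfsg.Agent.Helper48.le_genC A (N ⊓ M) hAc hAp haA hbA hb1 habz hAK hKcop
  have hKH : N ⊓ M ≤ H := by
    refine hKgen.trans ?_
    unfold Cfsg.Agent.Helper48.genC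
    apply iSup_le
    rintro ⟨c, hcA, hc1⟩
    have hcH : c ∈ H := hPH (hAP hcA)
    have hcp : orderOf c = p := by
      have h1 : orderOf c ∣ p := orderOf_dvd_of_pow_eq_one (hAp c hcA)
      rcases (Nat.dvd_prime hp).mp h1 with h2 | h2
      · exact absurd (orderOf_eq_one_iff.mp h2) hc1
      · exact h2
    exact inf_le_right.trans (Cfsg.Agent.Helper48.spe_ufp hspe hcH hcp).centralizer_le
  have hbH : b ∈ H := hPH hbP
  have hNH : N ≤ H := by
    intro n hn
    apply (Cfsg.Agent.Helper48.spe_ufp hspe hbH hbp).2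
    have hc : n * b * n⁻¹ * b⁻¹ ∈ N ⊓ M := by
      refine Subgroup.mem_inf.mpr ⟨?_, ?_⟩
      · have h1 : b * n⁻¹ * b⁻¹ ∈ N :=
          (inferInstance : N.Normal).conj_mem _ (N.inv_mem hn) b
        have := N.mul_mem hn h1
        have e : n * (b * n⁻¹ * b⁻¹) = n * b * n⁻¹ * b⁻¹ := by group
        rwa [e] at this
      · have h1 : n * b * n⁻¹ ∈ M := (inferInstance : M.Normal).conj_mem _ hbM n
        exact M.mul_mem h1 (M.inv_mem hbM)
    have := H.mul_mem (hKH hc) hbH
    rwa [inv_mul_cancel_right] at this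
  obtain ⟨g, hg⟩ : ∃ g : G, g ∉ H := by
    by_contra hall
    push Not at hall
    exact hne (eq_top_iff.mpr fun x _ => hall x)
  apply hse g hg
  have hle : N ≤ H ⊓ H.map (MulAut.conj g).toMonoidHom := by
    intro x hx
    refine Subgroup.mem_inf.mpr ⟨hNH hx, ?_⟩
    rw [Cfsg.Agent.Helper46.mem_map_conj]
    apply hNH
    have := (inferInstance : N.Normal).conj_mem _ hx g⁻¹
    rwa [inv_inv] at this
  exact hN.trans (Subgroup.card_dvd_of_le hle)

end Cfsg.Agent.S3058
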