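import Mathlib
import Cfsg.Statements.S3059
import Cfsg.Agent.Lib.Helper46.SPE
import Cfsg.Agent.Lib.Helper46.Omega
import Cfsg.Agent.S2014

set_option autoImplicit false
open Cfsg

namespace Cfsg.Agent.S3059

open Subgroup

theorem result {G : Type*} [Group G] [Finite G]
    (p : ℕ) [Fact p.Prime] (H : Subgroup G) (hH : H ≠ ⊤) (hpH : p ∣ Nat.card H)
    (hse : ∀ g : G, g ∉ H → ¬ p ∣ Nat.card ↥(H ⊓ H.map (MulAut.conj g).toMonoidHom))
    (N : Subgroup G) [N.Normal] (hN : p ∣ Nat.card N) :
    H ⊔ Subgroup.closure {g : G | g ∈ N ∧ (orderOf g).Coprime p} = ⊤ := by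
  have hpprime : p.Prime := Fact.out
  have hnp : Cfsg.Agent.Helper46.NormProp p H := Cfsg.Agent.Helper46.normProp_of_coprime_inf_conj hse
  obtain ⟨P, hPH⟩ := Cfsg.Agent.Helper46.exists_sylow_le_of_normProp hpH hnp
  set R : Subgroup G := Subgroup.closure {g : G | g ∈ N ∧ (orderOf g).Coprime p} with hR
  set Q : Subgroup G := (P : Subgroup G) ⊓ N with hQ
  have hrel : ¬ p ∣ (P : Subgroup G).relIndex N := Cfsg.Agent.Helper46.not_dvd_relIndex_normal P N
  have hrel' : ¬ p ∣ Q.relIndex N := by rwa [hQ, Subgroup.inf_relIndex_right]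
  have hQne : Q ≠ ⊥ := by
    intro hbot
    have h1 : Q.relIndex N * Nat.card ↥Q = Nat.card ↥N := by
      have := Subgroup.relIndex_mul_relIndex (⊥ : Subgroup G) Q N bot_le inf_le_right
      rw [Subgroup.relIndex_bot_left, Subgroup.relIndex_bot_left] at this
      rw [mul_comm]; exact this
    rw [hbot, Subgroup.card_bot, mul_one] at h1
    rw [hbot] at hrel'
    exact hrel' (h1 ▸ hN)
  have hQN : normalizer (Q : Set G) ≤ H :=
    hnp Q (inf_le_left.trans hPH) (P.2.to_le inf_le_left) hQne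
  have hfr : normalizer (Q : Set G) ⊔ N = ⊤ := Cfsg.Agent.Helper46.frattini_inf P N
  -- N ≤ H ⊔ R
  have hNle : N ≤ H ⊔ R := by
    set S' : Subgroup ↥N := Q.subgroupOf N with hS'
    have hidx : ¬ p ∣ S'.index := hrel'
    have htop := Cfsg.Agent.S2014.sup_pResidual_eq_top (N := ↥N) p S' hidx
    have hmap := congrArg (Subgroup.map N.subtype) htop
    rw [Subgroup.map_sup, ← MonoidHom.range_eq_map, Subgroup.range_subtype, hS',
      Subgroup.subgroupOf_map_subtype] at hmap
    have hRle : (Cfsg.pResidual p ↥N).map N.subtype ≤ R := by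
      unfold Cfsg.pResidual
      rw [MonoidHom.map_closure, Subgroup.closure_le]
      rintro _ ⟨g, hg, rfl⟩
      apply Subgroup.subset_closure
      refine ⟨g.2, ?_⟩
      have hg' : Nat.Coprime (orderOf g) p := hg
      simpa [Subgroup.orderOf_coe] using hg'
    rw [← hmap]
    exact sup_le ((inf_le_left.trans (inf_le_left.trans hPH)).trans le_sup_left) (hRle.trans le_sup_right)
  rw [eq_top_iff, ← hfr]
  exact sup_le (hQN.trans le_sup_left) hNle

end Cfsg.Agent.S3059
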