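import Cfsg.Statements.S3060
import Mathlib
import Cfsg.Agent.Lib.Helper51.DStarAmbient
import Cfsg.Agent.Lib.Helper51.SylowGraph
import Cfsg.Agent.Lib.Helper47.Basic

set_option autoImplicit false
open Cfsg

namespace Cfsg.Agent.S3060

open Cfsg.Agent.Helper51
open scoped commutatorElement

/-- If the centralizer of a normal `p`-subgroup `V` is a `p`-group, then the preimage of
`O_p(G / C_G(V))` lies in `O_p(G)`. -/
theorem mem_pCore_of_mk_mem_aux {G : Type*} [Group G] {p : ℕ}
    (V : Subgroup G) [V.Normal] (hC : IsPGroup p (Subgroup.centralizer (V : Set G))) {a : G}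
    (ha : (QuotientGroup.mk a : G ⧸ Subgroup.centralizer (V : Set G)) ∈
      Cfsg.pCore p (G ⧸ Subgroup.centralizer (V : Set G))) :
    a ∈ Cfsg.pCore p G := by
  set C := Subgroup.centralizer (V : Set G) with hCdef
  set L : Subgroup G := (Cfsg.pCore p (G ⧸ C)).comap (QuotientGroup.mk' C) with hL
  have hLn : L.Normal := by
    have : (Cfsg.pCore p (G ⧸ C)).Normal := by
      unfold Cfsg.pCore
      exact Subgroup.sSup_normal _ (fun _ h => h.1)
    exact Subgroup.Normal.comap this _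
  have hLp : IsPGroup p L := by
    apply IsPGroup.comap_of_ker_isPGroup Cfsg.Agent.Helper47.pCore_isPGroup
    rw [QuotientGroup.ker_mk']
    exact hC
  exact Cfsg.Agent.Helper47.le_pCore hLn hLp (Subgroup.mem_comap.mpr ha)

theorem conj_comm_aux {G : Type*} [Group G] {g a b : G} (h : a * b = b * a) :
    (g * a * g⁻¹) * (g * b * g⁻¹) = (g * b * g⁻¹) * (g * a * g⁻¹) := by
  have e1 : (g * a * g⁻¹) * (g * b * g⁻¹) = g * (a * b) * g⁻¹ := by group
  have e2 : (g * b * g⁻¹) * (g * a * g⁻¹) = g * (b * a) * g⁻¹ := by group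
  rw [e1, e2, h]

/-- The D*-Theorem. For a finite p-group S let D*(S) be the subgroup generated by the abelian subgroups A of S such that every x ∈ S with ⟨A, x⟩ of nilpotency class at most two centralizes A. Let p be an odd prime and H a finite p-stable group with Sylow p-subgroup S. Here H is p-stable in the following sense: the largest normal p-subgroup O_p(H) contains its centralizer in H, and for every normal p-subgroup P of H, every element acting quadratically on P has image in O_p(H/C_H(P)). Then D*(S) is a normal subgroup of H. -/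
theorem result {G : Type*} [Group G] [Finite G] {p : ℕ} [Fact p.Prime] (hp : p ≠ 2)
    (hc : Subgroup.centralizer (Cfsg.pCore p G : Set G) ≤ Cfsg.pCore p G)
    (hst : ∀ (P : Subgroup G) [P.Normal], IsPGroup p P → Cfsg.IsPStableOn p P) (S : Sylow p G) :
    (Cfsg.dStarOf (S : Subgroup G)).Normal := by
  have : Group.IsNilpotent ↥(S : Subgroup G) := S.2.isNilpotent
  have hP₀n : (Cfsg.pCore p G).Normal := Subgroup.sSup_normal _ (fun _ h => h.1)
  have hP₀p : IsPGroup p (Cfsg.pCore p G) := Cfsg.Agent.Helper47.pCore_isPGroup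
  have hP₀S : Cfsg.pCore p G ≤ S := Cfsg.Agent.Helper47.pCore_le_sylow S
  have hDS : Cfsg.dStarOf (S : Subgroup G) ≤ S := dStarOf_le _
  have hDc := dStarOf_comm (S : Subgroup G)
  have hDn := dStarOf_conj_mem (S : Subgroup G)
  set D := Cfsg.dStarOf (S : Subgroup G) with hD
  -- Step 1: D ≤ O_p(G)
  have hDP₀ : D ≤ Cfsg.pCore p G := by
    intro a ha
    have hquad : ⁅⁅Cfsg.pCore p G, Subgroup.zpowers a⁆, Subgroup.zpowers a⁆ = ⊥ := by
      have h1 : ⁅Cfsg.pCore p G, Subgroup.zpowers a⁆ ≤ D := by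
        rw [Subgroup.commutator_le]
        intro y hy z hz
        have hzD : z ∈ D := (Subgroup.zpowers_le.mpr ha) hz
        have h2 := hDn y (hP₀S hy) z hzD
        have e : ⁅y, z⁆ = y * z * y⁻¹ * z⁻¹ := by simp only [commutatorElement_def]
        rw [e]
        exact D.mul_mem h2 (D.inv_mem hzD)
      rw [eq_bot_iff]
      calc ⁅⁅Cfsg.pCore p G, Subgroup.zpowers a⁆, Subgroup.zpowers a⁆ ≤ ⁅D, D⁆ :=
            Subgroup.commutator_mono h1 (Subgroup.zpowers_le.mpr ha)
        _ = ⊥ := by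
            rw [Subgroup.commutator_eq_bot_iff_le_centralizer]
            intro d hd
            rw [Subgroup.mem_centralizer_iff]
            intro d' hd'
            exact hDc d' hd' d hd
    have hmk := hst (Cfsg.pCore p G) hP₀p a hquad
    exact mem_pCore_of_mk_mem_aux (Cfsg.pCore p G) (hP₀p.to_le hc) hmk
  -- Step 2: conjugates of D commute with D
  have hcomm : ∀ g : G, ∀ d₀ ∈ D, ∀ d ∈ D, d * (g * d₀ * g⁻¹) = (g * d₀ * g⁻¹) * d := by
    intro g d₀ hd₀
    have hxP₀ : g * d₀ * g⁻¹ ∈ Cfsg.pCore p G := hP₀n.conj_mem d₀ (hDP₀ hd₀) g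
    have hxS : g * d₀ * g⁻¹ ∈ (S : Subgroup G) := hP₀S hxP₀
    apply dStarOf_centralized (S : Subgroup G) hxS
    intro d hd
    have huS : g⁻¹ * d * g ∈ (S : Subgroup G) := by
      apply hP₀S
      have := hP₀n.conj_mem d (hDP₀ hd) g⁻¹
      rwa [inv_inv] at this
    have he : ⁅g⁻¹ * d * g, d₀⁆ ∈ D := by
      have h2 := hDn _ huS d₀ hd₀
      have e : ⁅g⁻¹ * d * g, d₀⁆ = (g⁻¹ * d * g) * d₀ * (g⁻¹ * d * g)⁻¹ * d₀⁻¹ := by
        simp only [commutatorElement_def]
      rw [e]
      exact D.mul_mem h2 (D.inv_mem hd₀)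
    have hconj : ⁅d, g * d₀ * g⁻¹⁆ = g * ⁅g⁻¹ * d * g, d₀⁆ * g⁻¹ := by
      simp only [commutatorElement_def]; group
    have hcD : ⁅d, g * d₀ * g⁻¹⁆ ∈ D := by
      have h1 := hDn _ hxS d⁻¹ (D.inv_mem hd)
      have e : ⁅d, g * d₀ * g⁻¹⁆ = d * ((g * d₀ * g⁻¹) * d⁻¹ * (g * d₀ * g⁻¹)⁻¹) := by
        simp only [commutatorElement_def]; group
      rw [e]; exact D.mul_mem hd h1
    constructor
    · intro d' hd'; exact hDc d' hd' _ hcD
    · rw [hconj]
      exact conj_comm_aux (hDc d₀ hd₀ _ he)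
  -- Step 3: the normal closure N of D is abelian
  set N := Subgroup.normalClosure (D : Set G) with hN
  have hNn : N.Normal := Subgroup.normalClosure_normal
  have hNP₀ : N ≤ Cfsg.pCore p G := Subgroup.normalClosure_le_normal hDP₀
  have hNS : N ≤ S := hNP₀.trans hP₀S
  have hNgen : ∀ c ∈ Group.conjugatesOfSet (D : Set G), ∃ g : G, ∃ d ∈ D, c = g * d * g⁻¹ := by
    intro c hc
    rw [Group.mem_conjugatesOfSet_iff] at hc
    obtain ⟨d, hd, hdc⟩ := hc
    obtain ⟨g, hg⟩ := isConj_iff.mp hdc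
    exact ⟨g, d, hd, hg.symm⟩
  have hNc : ∀ a ∈ N, ∀ a' ∈ N, a * a' = a' * a := by
    have hcc : IsMulCommutative ↥(Subgroup.closure (Group.conjugatesOfSet (D : Set G))) := by
      apply Subgroup.isMulCommutative_closure
      intro c hc c' hc'
      obtain ⟨g, d, hd, rfl⟩ := hNgen c hc
      obtain ⟨h, d', hd', rfl⟩ := hNgen c' hc'
      have h1 := hcomm (g⁻¹ * h) d' hd' d hd
      have h2 := conj_comm_aux (g := g) h1
      have e : g * (g⁻¹ * h * d' * (g⁻¹ * h)⁻¹) * g⁻¹ = h * d' * h⁻¹ := by group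
      rw [e] at h2
      exact h2
    intro a ha a' ha'
    have ha2 : a ∈ Subgroup.closure (Group.conjugatesOfSet (D : Set G)) := ha
    have ha2' : a' ∈ Subgroup.closure (Group.conjugatesOfSet (D : Set G)) := ha'
    exact setLike_mul_comm ha2 ha2'
  -- Step 4: N ≤ D
  have hND : N ≤ D := by
    apply le_dStarOf (S : Subgroup G) hNS hNc
    intro x hxS hquad
    have hNp : IsPGroup p N := hP₀p.to_le hNP₀
    have hmk := hst N hNp x hquad
    have hgen : ∀ g : G, ∀ d ∈ D, (g * d * g⁻¹) * x = x * (g * d * g⁻¹) := by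
      intro g d hd
      have hsurj : Function.Surjective (QuotientGroup.mk' (Subgroup.centralizer (N : Set G))) :=
        QuotientGroup.mk'_surjective _
      have hle := Cfsg.Agent.Helper47.pCore_le_sylow ((g • S : Sylow p G).mapSurjective hsurj)
      have hmem := hle hmk
      rw [Sylow.coe_mapSurjective] at hmem
      obtain ⟨s, hsQ, hs⟩ := hmem
      have hcC : s⁻¹ * x ∈ Subgroup.centralizer (N : Set G) := by
        rw [← QuotientGroup.eq]; exact hs
      have hy : g⁻¹ * s * g ∈ (S : Subgroup G) := (mem_smul_sylow g s S).mp hsQ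
      -- c := s⁻¹ * x centralizes N
      have hcN : ∀ n ∈ N, (s⁻¹ * x) * n = n * (s⁻¹ * x) := by
        intro n hn
        exact ((Subgroup.mem_centralizer_iff.mp hcC) n hn).symm
      have hkey : ∀ n ∈ N, ⁅n, s⁆ = ⁅n, x⁆ := by
        intro n hn
        have h1 : (s⁻¹ * x)⁻¹ * n⁻¹ * (s⁻¹ * x) = n⁻¹ := by
          rw [mul_assoc, ← hcN n⁻¹ (N.inv_mem hn)]; group
        have e : ⁅n, s⁆ = n * x * ((s⁻¹ * x)⁻¹ * n⁻¹ * (s⁻¹ * x)) * x⁻¹ := by
          simp only [commutatorElement_def]; group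
        rw [e, h1]
        simp only [commutatorElement_def]
      -- facts about w = ⁅n, x⁆ for n ∈ N
      have hwN : ∀ n ∈ N, ⁅n, x⁆ ∈ N := by
        intro n hn
        have h1 : x * n⁻¹ * x⁻¹ ∈ N := hNn.conj_mem _ (N.inv_mem hn) x
        have e : ⁅n, x⁆ = n * (x * n⁻¹ * x⁻¹) := by simp only [commutatorElement_def]; group
        rw [e]; exact N.mul_mem hn h1
      have hwx : ∀ n ∈ N, ⁅n, x⁆ * x = x * ⁅n, x⁆ := by
        intro n hn
        have h1 : ⁅⁅n, x⁆, x⁆ ∈ ⁅⁅N, Subgroup.zpowers x⁆, Subgroup.zpowers x⁆ :=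
          Subgroup.commutator_mem_commutator
            (Subgroup.commutator_mem_commutator hn (Subgroup.mem_zpowers x))
            (Subgroup.mem_zpowers x)
        rw [hquad, Subgroup.mem_bot] at h1
        exact commutatorElement_eq_one_iff_mul_comm.mp h1
      have hws : ∀ n ∈ N, ⁅n, x⁆ * s = s * ⁅n, x⁆ := by
        intro n hn
        have h1 := hwx n hn
        have h2 := hcN _ (hwN n hn)
        -- s = x * (s⁻¹ * x)⁻¹
        have h3 : ⁅n, x⁆ * (s⁻¹ * x)⁻¹ = (s⁻¹ * x)⁻¹ * ⁅n, x⁆ := by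
          have : (s⁻¹ * x)⁻¹ * ((s⁻¹ * x) * ⁅n, x⁆) * (s⁻¹ * x)⁻¹ =
              (s⁻¹ * x)⁻¹ * (⁅n, x⁆ * (s⁻¹ * x)) * (s⁻¹ * x)⁻¹ := by rw [h2]
          simpa [mul_assoc] using this
        have e : s = x * (s⁻¹ * x)⁻¹ := by group
        calc ⁅n, x⁆ * s = ⁅n, x⁆ * (x * (s⁻¹ * x)⁻¹) := by rw [← e]
          _ = (⁅n, x⁆ * x) * (s⁻¹ * x)⁻¹ := by rw [mul_assoc]
          _ = (x * ⁅n, x⁆) * (s⁻¹ * x)⁻¹ := by rw [h1]
          _ = x * (⁅n, x⁆ * (s⁻¹ * x)⁻¹) := by rw [mul_assoc]
          _ = x * ((s⁻¹ * x)⁻¹ * ⁅n, x⁆) := by rw [h3]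
          _ = (x * (s⁻¹ * x)⁻¹) * ⁅n, x⁆ := by rw [mul_assoc]
          _ = s * ⁅n, x⁆ := by rw [← e]
      -- y = g⁻¹ s g centralizes D
      have hyD : ∀ d₁ ∈ D, d₁ * (g⁻¹ * s * g) = (g⁻¹ * s * g) * d₁ := by
        apply dStarOf_centralized (S : Subgroup G) hy
        intro d₁ hd₁
        have hn₁ : g * d₁ * g⁻¹ ∈ N :=
          hNn.conj_mem d₁ (Subgroup.le_normalClosure hd₁) g
        have hconj : ⁅d₁, g⁻¹ * s * g⁆ = g⁻¹ * ⁅g * d₁ * g⁻¹, x⁆ * g⁻¹⁻¹ := by
          rw [← hkey _ hn₁]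
          simp only [commutatorElement_def]; group
        constructor
        · intro d' hd'
          have hn' : g * d' * g⁻¹ ∈ N := hNn.conj_mem d' (Subgroup.le_normalClosure hd') g
          have h1 := hNc _ hn' _ (hwN _ hn₁)
          have h2 := conj_comm_aux (g := g⁻¹) h1
          have e : g⁻¹ * (g * d' * g⁻¹) * g⁻¹⁻¹ = d' := by group
          rw [e] at h2
          rw [hconj]; exact h2
        · have h1 := (hws _ hn₁).symm
          have h2 := conj_comm_aux (g := g⁻¹) h1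
          have e : g⁻¹ * s * g⁻¹⁻¹ = g⁻¹ * s * g := by group
          rw [e] at h2
          rw [hconj]; exact h2
      -- conclude
      have h1 := hyD d hd
      have h2 := conj_comm_aux (g := g) h1
      have e : g * (g⁻¹ * s * g) * g⁻¹ = s := by group
      rw [e] at h2
      -- n * s = s * n, and c commutes with n
      have hn : g * d * g⁻¹ ∈ N := hNn.conj_mem d (Subgroup.le_normalClosure hd) g
      have h3 := hcN _ hn
      have ex : x = s * (s⁻¹ * x) := by group
      calc g * d * g⁻¹ * x = (g * d * g⁻¹ * s) * (s⁻¹ * x) := by group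
        _ = (s * (g * d * g⁻¹)) * (s⁻¹ * x) := by rw [h2]
        _ = s * ((g * d * g⁻¹) * (s⁻¹ * x)) := by simp only [mul_assoc]
        _ = s * ((s⁻¹ * x) * (g * d * g⁻¹)) := by rw [h3]
        _ = x * (g * d * g⁻¹) := by group
    have hcent : x ∈ Subgroup.centralizer
        (Subgroup.closure (Group.conjugatesOfSet (D : Set G)) : Set G) := by
      apply mem_centralizer_closure
      intro c hc
      obtain ⟨g, d, hd, rfl⟩ := hNgen c hc
      exact hgen g d hd
    intro a ha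
    exact (Subgroup.mem_centralizer_iff.mp hcent) a ha
  have hDN : D ≤ N := Subgroup.le_normalClosure
  have hEq : D = N := le_antisymm hDN hND
  rw [hEq]; exact hNn

end Cfsg.Agent.S3060
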