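import Cfsg.Statements.S3063
import Mathlib
import Cfsg.Agent.Lib.Helper51.Replacement

set_option autoImplicit false
open Cfsg

namespace Cfsg.Agent.S3063

open Cfsg.Agent.Helper51
open scoped commutatorElement

theorem card_lt_of_lt_aux {S : Type*} [Group S] [Finite S] {H K : Subgroup S} (h : H < K) :
    Nat.card H < Nat.card K := by
  by_contra hcon
  push Not at hcon
  exact (lt_irrefl _ (lt_of_lt_of_le h (Subgroup.eq_of_le_of_card_ge h.le hcon).ge))

/-- A weak replacement Theorem for metabelian p-groups: let S be a finite p-group whose derived subgroup is abelian and A an abelian subgroup of S of largest possible order. Then the normal closure of A in S contains an abelian subgroup B of the same order as A that is normal in S. -/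
theorem result {S : Type*} [Group S] [Finite S] {p : ℕ} [Fact p.Prime]
    (hS : IsPGroup p S) (hmeta : IsMulCommutative ↥(commutator S))
    (A : Subgroup S) (hA : A ∈ Cfsg.maxAbelianSubgroups S) :
    ∃ B ∈ Cfsg.maxAbelianSubgroups S, B.Normal ∧ B ≤ Subgroup.normalClosure (A : Set S) := by
  have : Group.IsNilpotent S := hS.isNilpotent
  set D : Subgroup S := commutator S with hD
  have hDn : D.Normal := inferInstance
  have : Nonempty {B : Subgroup S // B ∈ Cfsg.maxAbelianSubgroups S ∧
      B ≤ Subgroup.normalClosure (A : Set S)} := ⟨⟨A, hA, Subgroup.le_normalClosure⟩⟩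
  obtain ⟨⟨B, hB𝒜, hBM⟩, hmax⟩ := Finite.exists_max
    (fun B : {B : Subgroup S // B ∈ Cfsg.maxAbelianSubgroups S ∧
      B ≤ Subgroup.normalClosure (A : Set S)} => Nat.card ↥((B : Subgroup S) ⊓ D))
  -- no strictly better replacement inside the normal closure of B
  have hnobetter : ∀ B' ∈ Cfsg.maxAbelianSubgroups S, B' ≤ Subgroup.normalClosure (B : Set S) →
      ¬ (B ⊓ D < B' ⊓ D) := by
    intro B' hB' hB'M hlt
    have hB'A : B' ≤ Subgroup.normalClosure (A : Set S) :=
      hB'M.trans (Subgroup.normalClosure_le_normal hBM)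
    have h1 := hmax ⟨B', hB', hB'A⟩
    have h2 := card_lt_of_lt_aux hlt
    simp only at h1
    omega
  -- Step 1: D normalizes B
  have hDB : D ≤ Subgroup.normalizer (B : Set S) := by
    by_contra hDB
    obtain ⟨x, _, hxN, hxb⟩ := exists_replacement_elt D B hDn hDB
    obtain ⟨B', hB', hlt, _, hncl⟩ := thompson_replacement_core' B D hB𝒜 hmeta x hxN hxb
    exact hnobetter B' hB' hncl hlt
  -- Step 2: everything normalizes B
  have hall : ∀ x : S, x ∈ Subgroup.normalizer (B : Set S) := by
    intro x
    by_contra hxN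
    have hxb : ∀ b ∈ B, ⁅x, b⁆ ∈ D ⊓ Subgroup.normalizer (B : Set S) := by
      intro b _
      have hmem : ⁅x, b⁆ ∈ D := by
        rw [hD, commutator_def]
        exact Subgroup.commutator_mem_commutator (Subgroup.mem_top x) (Subgroup.mem_top b)
      exact Subgroup.mem_inf.mpr ⟨hmem, hDB hmem⟩
    obtain ⟨B', hB', hlt, _, hncl⟩ := thompson_replacement_core' B D hB𝒜 hmeta x hxN hxb
    exact hnobetter B' hB' hncl hlt
  refine ⟨B, hB𝒜, ?_, hBM⟩
  rw [← Subgroup.normalizer_eq_top_iff]
  exact eq_top_iff.mpr fun x _ => hall x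

end Cfsg.Agent.S3063
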