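import Cfsg.Statements.S3073
import Cfsg.Agent.Lib.Helper2.ThompsonK2

set_option autoImplicit false
universe u
open Cfsg

namespace Cfsg.Agent.S3073

/-- For an odd prime p, every finite p-group S has a characteristic subgroup K with C_S(K) ≤ K such that, whenever S is (isomorphic to) a Sylow p-subgroup of a finite group G, G has a normal p-complement if and only if N_G(K)/C_G(K) is a p-group, i.e. every element of N_G(K) of order prime to p centralizes K (K transported into G along the isomorphism). -/
theorem result (p : ℕ) [Fact p.Prime] (hp : p ≠ 2)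
    (S : Type u) [Group S] [Finite S] (hS : IsPGroup p S) :
    ∃ K : Subgroup S, K.Characteristic ∧ Subgroup.centralizer (K : Set S) ≤ K ∧
      ∀ (G : Type u) [Group G] [Finite G] (P : Sylow p G) (e : ↥(P : Subgroup G) ≃* S),
        Cfsg.HasNormalPComplement p G ↔
          ∀ g ∈ Subgroup.normalizer (((K.comap (e : ↥(P : Subgroup G) →* S)).map (P : Subgroup G).subtype : Subgroup G) : Set G),
            (orderOf g).Coprime p →
              g ∈ Subgroup.centralizer (((K.comap (e : ↥(P : Subgroup G) →* S)).map (P : Subgroup G).subtype : Subgroup G) : Set G) := by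
  obtain ⟨K, hKc, hKcent, hgood⟩ := Cfsg.Agent.Helper2.TK.exists_K hp (Nat.card S) S hS rfl
  refine ⟨K, hKc, hKcent, ?_⟩
  intro G _ _ P e
  set f : S →* G := (P : Subgroup G).subtype.comp e.symm.toMonoidHom with hf
  have hfinj : Function.Injective f := (Subtype.val_injective).comp e.symm.injective
  have hrange : f.range = (P : Subgroup G) := by
    rw [hf, MonoidHom.range_comp, MonoidHom.range_eq_top.mpr e.symm.surjective,
      ← MonoidHom.range_eq_map, Subgroup.range_subtype]
  have hKmap : K.map f =
      (K.comap (e : ↥(P : Subgroup G) →* S)).map (P : Subgroup G).subtype := by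
    rw [hf, ← Subgroup.map_map]
    congr 1
    exact Subgroup.map_equiv_eq_comap_symm e.symm K
  constructor
  · intro hnpc g hg hgo
    have hQp : IsPGroup p ((K.comap (e : ↥(P : Subgroup G) →* S)).map (P : Subgroup G).subtype :
        Subgroup G) := P.isPGroup'.to_le (Subgroup.map_subtype_le _)
    exact Cfsg.Agent.Helper23.mem_centralizer_of_npc
      (M := Subgroup.normalizer (((K.comap (e : ↥(P : Subgroup G) →* S)).map
        (P : Subgroup G).subtype : Subgroup G) : Set G))
      (Cfsg.Agent.Helper2.hasNormalPComplement_subgroup hnpc _) hQp Subgroup.le_normalizer le_rfl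
      hg hgo
  · intro hcond
    apply hgood G f hfinj (by rw [hrange]; exact P.not_dvd_index)
    rw [hKmap]
    exact hcond

end Cfsg.Agent.S3073
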