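import Cfsg.Statements.S3074
import Cfsg.Agent.S3835
import Cfsg.Agent.Lib.Helper63.HeisES
import Cfsg.Agent.Lib.Helper40.SL2

set_option autoImplicit false
open Cfsg

namespace Cfsg.Agent.S3074

open Cfsg.Agent.S3835 Cfsg.Agent.Helper63 Cfsg.Agent.Helper40 Matrix

variable {p : ℕ} [Fact p.Prime]

/-- the matrix with given linear and translation parts -/
def affMat (A : Matrix.SpecialLinearGroup (Fin 2) (ZMod p)) (t : ZMod p × ZMod p) :
    Matrix (Fin 3) (Fin 3) (ZMod p) :=
  !![A.1 0 0, A.1 0 1, t.1; A.1 1 0, A.1 1 1, t.2; 0, 0, 1]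

lemma affMat_det (A : Matrix.SpecialLinearGroup (Fin 2) (ZMod p)) (t : ZMod p × ZMod p) :
    (affMat A t).det = 1 := by
  have := det2 A
  simp only [affMat, Matrix.det_fin_three]
  simp
  linear_combination this

/-- `Qd(p)` as a set is `SL₂(p) × 𝔽_p²` -/
def affEquiv (p : ℕ) [Fact p.Prime] :
    Aff p ≃ Matrix.SpecialLinearGroup (Fin 2) (ZMod p) × (ZMod p × ZMod p) where
  toFun M := (mk2 (M.1.1 0 0) (M.1.1 0 1) (M.1.1 1 0) (M.1.1 1 1) (det_Aff M), (M.1.1 0 2, M.1.1 1 2))
  invFun x := ⟨⟨affMat x.1 x.2, affMat_det x.1 x.2⟩,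
    (mem_Aff _).mpr ⟨by simp [affMat], by simp [affMat], by simp [affMat]⟩⟩
  left_inv M := by
    obtain ⟨h0, h1, h2⟩ := M.2
    apply Subtype.ext
    apply Subtype.ext
    ext i j
    fin_cases i <;> fin_cases j <;> simp [affMat, h0, h1, h2]
  right_inv x := by
    apply Prod.ext
    · apply ext2 <;> simp [affMat]
    · apply Prod.ext <;> simp [affMat]

lemma card_Aff : Nat.card (Aff p) = p ^ 3 * ((p - 1) * (p + 1)) := by
  rw [Nat.card_congr (affEquiv p), Nat.card_prod, Nat.card_prod, card_SL2, ZMod.card, Nat.card_zmod]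
  ring

lemma factorization_card_Aff : (Nat.card (Aff p)).factorization p = 3 := by
  have hp : p.Prime := Fact.out
  rw [card_Aff]
  have h1 : p ^ 3 ≠ 0 := pow_ne_zero _ hp.ne_zero
  have h2 : (p - 1) * (p + 1) ≠ 0 := by
    have := hp.two_le
    apply Nat.mul_ne_zero <;> omega
  rw [Nat.factorization_mul h1 h2, hp.factorization_pow]
  have h3 : ¬ p ∣ (p - 1) * (p + 1) := by
    intro h
    rcases hp.dvd_mul.mp h with h | h
    · have := Nat.le_of_dvd (by have := hp.two_le; omega) h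
      have := hp.two_le
      omega
    · have : p ∣ 1 := (Nat.dvd_add_right (dvd_refl p)).mp h
      exact hp.one_lt.ne' (Nat.dvd_one.mp this)
  simp [Nat.factorization_eq_zero_of_not_dvd h3]

lemma UT_injective : Function.Injective (UT p) := by
  intro x y h
  have h1 : utMat x = utMat y := by
    rw [← UT_val, ← UT_val, h]
  have e01 := congrFun (congrFun h1 0) 1
  have e02 := congrFun (congrFun h1 0) 2
  have e12 := congrFun (congrFun h1 1) 2
  simp [utMat] at e01 e02 e12
  ext i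
  · rw [Subsingleton.elim i 0]; exact e01
  · rw [Subsingleton.elim i 0]; exact e12
  · exact e02

theorem main (hp2 : p ≠ 2) (P : Sylow p (Aff p)) :
    Cfsg.IsExtraspecial p ↥P ∧ Nat.card P = p ^ 3 ∧ Monoid.exponent ↥P = p := by
  have hp : p.Prime := Fact.out
  have hcardP : ∀ Q : Sylow p (Aff p), Nat.card Q = p ^ 3 := by
    intro Q
    rw [Sylow.card_eq_multiplicity, factorization_card_Aff]
  let e0 : Heis 1 (ZMod p) ≃* (UT p).range := MonoidHom.ofInjective UT_injective
  have hU : IsPGroup p (UT p).range := (Heis.isPGroup_zmod p).of_equiv e0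
  have hUcard : Nat.card (UT p).range = p ^ 3 := by
    rw [← Nat.card_congr e0.toEquiv, Heis.card_zmod]
  obtain ⟨Q, hQ⟩ := hU.exists_le_sylow
  have hUQ : (UT p).range = (Q : Subgroup (Aff p)) := by
    apply Subgroup.eq_of_le_of_card_ge hQ
    rw [hUcard, hcardP Q]
  obtain ⟨g, hg⟩ := MulAction.exists_smul_eq (Aff p) Q P
  let e1 : (UT p).range ≃* (Q : Subgroup (Aff p)) := MulEquiv.subgroupCongr hUQ
  let e2 : (Q : Subgroup (Aff p)) ≃* ((g • Q : Sylow p (Aff p)) : Subgroup (Aff p)) :=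
    Sylow.equivSMul Q g
  let e3 : ((g • Q : Sylow p (Aff p)) : Subgroup (Aff p)) ≃* (P : Subgroup (Aff p)) :=
    MulEquiv.subgroupCongr (by rw [hg])
  let e : Heis 1 (ZMod p) ≃* (P : Subgroup (Aff p)) := ((e0.trans e1).trans e2).trans e3
  refine ⟨isExtraspecial_of_mulEquiv e (Heis.isExtraspecial_zmod p le_rfl), hcardP P, ?_⟩
  have hpow : ∀ x : (P : Subgroup (Aff p)), x ^ p = 1 := by
    intro x
    obtain ⟨y, rfl⟩ := e.surjective x
    rw [← map_pow, Heis.pow_prime_zmod p hp2, map_one]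
  have hdvd : Monoid.exponent (P : Subgroup (Aff p)) ∣ p := Monoid.exponent_dvd_of_forall_pow_eq_one hpow
  rcases (Nat.dvd_prime hp).mp hdvd with h | h
  · exfalso
    rw [Monoid.exp_eq_one_iff] at h
    have := hcardP P
    rw [Nat.card_of_subsingleton (1 : (P : Subgroup (Aff p)))] at this
    have h2 : 1 < p ^ 3 := Nat.one_lt_pow (by norm_num) hp.one_lt
    omega
  · exact h

/-- Let p be an odd prime. A Sylow p-subgroup of Qd(p), the split extension of an elementary abelian group of order p² by SL₂(p) acting naturally, is extraspecial of order p³ and exponent p. -/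
theorem result (p : ℕ) [Fact p.Prime] (hp : p ≠ 2) (P : Sylow p ↥(Cfsg.qd p)) :
    Cfsg.IsExtraspecial p ↥P ∧ Nat.card P = p ^ 3 ∧ Monoid.exponent ↥P = p := by
  have key : ∀ (A : Subgroup (Matrix.SpecialLinearGroup (Fin 3) (ZMod p))) (_ : A = Aff p)
      (P : Sylow p A), Cfsg.IsExtraspecial p ↥P ∧ Nat.card P = p ^ 3 ∧ Monoid.exponent ↥P = p := by
    intro A hA P
    subst hA
    exact main hp P
  exact key _ (qd_eq_Aff p) P

end Cfsg.Agent.S3074
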