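import Mathlib
import Cfsg.Statements.S3075

set_option autoImplicit false
open Cfsg

namespace Cfsg.Agent.S3075

open Subgroup Matrix

section SL2

variable {F : Type*} [Field F]

/-- The central element `-1` of `SL(2,F)`. -/
def m1 : Matrix.SpecialLinearGroup (Fin 2) F :=
  ⟨!![-1, 0; 0, -1], by simp [Matrix.det_fin_two]⟩

def uu : Matrix.SpecialLinearGroup (Fin 2) F :=
  ⟨!![1, 1; 0, 1], by simp [Matrix.det_fin_two]⟩

def vv : Matrix.SpecialLinearGroup (Fin 2) F :=
  ⟨!![1, 0; 1, 1], by simp [Matrix.det_fin_two]⟩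

theorem m1_central (g : Matrix.SpecialLinearGroup (Fin 2) F) : m1 * g = g * m1 := by
  apply Matrix.SpecialLinearGroup.ext
  intro i j
  simp only [Matrix.SpecialLinearGroup.coe_mul, Matrix.mul_apply, Fin.sum_univ_two]
  fin_cases i <;> fin_cases j <;> simp [m1]

theorem m1_sq : (m1 : Matrix.SpecialLinearGroup (Fin 2) F) * m1 = 1 := by
  apply Matrix.SpecialLinearGroup.ext
  intro i j
  simp only [Matrix.SpecialLinearGroup.coe_mul, Matrix.mul_apply, Fin.sum_univ_two,
    Matrix.SpecialLinearGroup.coe_one]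
  fin_cases i <;> fin_cases j <;> simp [m1]

theorem m1_ne_one (h2 : (2 : F) ≠ 0) : (m1 : Matrix.SpecialLinearGroup (Fin 2) F) ≠ 1 := by
  intro h
  have := congrArg (fun M : Matrix.SpecialLinearGroup (Fin 2) F => (M : Matrix (Fin 2) (Fin 2) F) 0 0) h
  simp [m1] at this
  apply h2
  have h3 : (2 : F) = 1 - (-1) := by ring
  rw [h3, this]; ring

theorem uu_vv_ne : (uu : Matrix.SpecialLinearGroup (Fin 2) F) * vv ≠ vv * uu := by
  intro h
  have := congrArg (fun M : Matrix.SpecialLinearGroup (Fin 2) F => (M : Matrix (Fin 2) (Fin 2) F) 0 0) h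
  simp only [Matrix.SpecialLinearGroup.coe_mul, Matrix.mul_apply, Fin.sum_univ_two] at this
  simp [uu, vv] at this

end SL2


/-- Conjugation by `n*m` and by `m*n` agree on a normal subgroup of prime order. -/
theorem conj_comm_of_prime_card {N : Type*} [Group N] [Finite N] {p : ℕ} [Fact p.Prime]
    (Q : Subgroup N) (hQn : ∀ n : N, ∀ q ∈ Q, n * q * n⁻¹ ∈ Q) (hQ : Nat.card Q = p)
    (n m : N) (q : N) (hq : q ∈ Q) : (n * m) * q * (n * m)⁻¹ = (m * n) * q * (m * n)⁻¹ := by
  have : IsCyclic ↥Q := isCyclic_of_prime_card hQ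
  obtain ⟨g, hg⟩ := IsCyclic.exists_generator (α := ↥Q)
  have hgen : ∀ x ∈ Q, ∃ k : ℤ, (g : N) ^ k = x := by
    intro x hx
    obtain ⟨k, hk⟩ := Subgroup.mem_zpowers_iff.mp (hg ⟨x, hx⟩)
    exact ⟨k, by simpa using congrArg Subtype.val hk⟩
  obtain ⟨k, hk⟩ := hgen _ (hQn n g g.2)
  obtain ⟨l, hl⟩ := hgen _ (hQn m g g.2)
  obtain ⟨j, hj⟩ := hgen q hq
  have h1 : (n * m) * (g : N) * (n * m)⁻¹ = (g : N) ^ (k * l) := by
    calc (n * m) * (g : N) * (n * m)⁻¹ = n * (m * (g : N) * m⁻¹) * n⁻¹ := by group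
      _ = n * ((g : N) ^ l) * n⁻¹ := by rw [← hl]
      _ = (n * (g : N) * n⁻¹) ^ l := by rw [conj_zpow]
      _ = ((g : N) ^ k) ^ l := by rw [← hk]
      _ = (g : N) ^ (k * l) := by rw [_root_.zpow_mul]
  have h2 : (m * n) * (g : N) * (m * n)⁻¹ = (g : N) ^ (k * l) := by
    calc (m * n) * (g : N) * (m * n)⁻¹ = m * (n * (g : N) * n⁻¹) * m⁻¹ := by group
      _ = m * ((g : N) ^ k) * m⁻¹ := by rw [← hk]
      _ = (m * (g : N) * m⁻¹) ^ k := by rw [conj_zpow]
      _ = ((g : N) ^ l) ^ k := by rw [← hl]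
      _ = (g : N) ^ (k * l) := by rw [← _root_.zpow_mul, mul_comm]
  rw [← hj, ← conj_zpow, ← conj_zpow, h1, h2]


theorem result {N : Type*} [Group N] [Finite N] {p : ℕ} [Fact p.Prime] (hp : p ≠ 2)
    (A : Subgroup N) [A.Normal] (hAcomm : IsMulCommutative A) (hAcard : Nat.card A = p ^ 2) (hAexp : Monoid.exponent ↥A = p)
    (hAself : Subgroup.centralizer (A : Set N) = A)
    {F : Type*} [Field F] [Fintype F] (hF : Fintype.card F = p) (e : N ⧸ A ≃* Matrix.SpecialLinearGroup (Fin 2) F) :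
    ∃ U : Subgroup N, A ⊓ U = ⊥ ∧ A ⊔ U = ⊤ := by
  classical
  have hpprime : p.Prime := Fact.out
  have hpodd : Odd p := hpprime.odd_of_ne_two hp
  have hAn : A.Normal := inferInstance
  -- characteristic facts
  have hpF : (p : F) = 0 := by rw [← hF]; exact Nat.cast_card_eq_zero F
  have h2F : (2 : F) ≠ 0 := by
    intro h2
    obtain ⟨q, hq⟩ := CharP.exists F
    have hq2 : q ∣ 2 := (CharP.cast_eq_zero_iff F q 2).mp (by exact_mod_cast h2)
    have hqp : q ∣ p := (CharP.cast_eq_zero_iff F q p).mp hpF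
    have hq1 : q ≠ 1 := CharP.char_ne_one F q
    rcases (Nat.dvd_prime Nat.prime_two).mp hq2 with h | h
    · exact hq1 h
    · rw [h] at hqp
      exact hp ((Nat.prime_dvd_prime_iff_eq Nat.prime_two hpprime).mp hqp).symm
  -- quotient map
  set π : N →* N ⧸ A := QuotientGroup.mk' A with hπ
  have hπsurj : Function.Surjective π := QuotientGroup.mk'_surjective A
  have hmemA : ∀ x : N, x ∈ A ↔ e (π x) = 1 := by
    intro x
    rw [MulEquiv.map_eq_one_iff, hπ, QuotientGroup.mk'_apply, QuotientGroup.eq_one_iff]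
  have hAexp' : ∀ a ∈ A, a ^ p = 1 := by
    intro a ha
    have : (⟨a, ha⟩ : ↥A) ^ p = 1 := by rw [← hAexp]; exact Monoid.pow_exponent_eq_one _
    simpa using congrArg Subtype.val this
  have hAc : ∀ a ∈ A, ∀ b ∈ A, a * b = b * a := fun a ha b hb => setLike_mul_comm ha hb
  -- the involution s
  obtain ⟨s₀, hs₀⟩ := hπsurj (e.symm m1)
  have hs₀' : e (π s₀) = m1 := by rw [hs₀]; simp
  set s : N := s₀ ^ p with hs
  obtain ⟨kp, hkp⟩ := hpodd
  have hm1pow : (m1 : Matrix.SpecialLinearGroup (Fin 2) F) ^ p = m1 := by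
    rw [hkp, pow_succ, pow_mul, pow_two, m1_sq, one_pow, one_mul]
  have hes : e (π s) = m1 := by rw [hs, map_pow, map_pow, hs₀', hm1pow]
  have hs₀sq : s₀ * s₀ ∈ A := by
    rw [hmemA, map_mul, map_mul, hs₀', m1_sq]
  have hss : s * s = 1 := by
    rw [hs, ← (Commute.refl s₀).mul_pow]
    exact hAexp' _ hs₀sq
  have hsinv : s⁻¹ = s := inv_eq_of_mul_eq_one_left hss
  have hsA : s ∉ A := by
    rw [hmemA, hes]; exact m1_ne_one h2F
  have hsc : ∀ n : N, s⁻¹ * n⁻¹ * s * n ∈ A := by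
    intro n
    rw [hmemA]
    simp only [map_mul, map_inv, hes]
    have := m1_central (e (π n))
    calc m1⁻¹ * (e (π n))⁻¹ * m1 * e (π n) = m1⁻¹ * (e (π n))⁻¹ * (m1 * e (π n)) := by group
      _ = m1⁻¹ * (e (π n))⁻¹ * (e (π n) * m1) := by rw [this]
      _ = 1 := by group
  -- conjugates of s: n⁻¹ s n = s c with c ∈ A inverted by s
  set U : Subgroup N := centralizer ({s} : Set N) with hU
  have hmemU : ∀ x : N, x ∈ U ↔ s * x = x * s := by
    intro x
    rw [hU, mem_centralizer_iff]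
    constructor
    · intro h; exact h s (Set.mem_singleton s)
    · intro h y hy; rw [Set.mem_singleton_iff] at hy; rw [hy]; exact h
  have hsup : A ⊔ U = ⊤ := by
    rw [eq_top_iff]
    intro n _
    set c := s⁻¹ * n⁻¹ * s * n with hc
    have hcA : c ∈ A := hsc n
    have hnsn : n⁻¹ * s * n = s * c := by rw [hc]; group
    have hscsc : (s * c) * (s * c) = 1 := by
      rw [← hnsn]
      calc n⁻¹ * s * n * (n⁻¹ * s * n) = n⁻¹ * (s * s) * n := by group
        _ = 1 := by rw [hss]; group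
    have hinvc : s * c * s⁻¹ = c⁻¹ := by
      rw [hsinv]
      have : s * c * s * c = 1 := by rw [← hscsc]; group
      exact eq_inv_of_mul_eq_one_left this
    set k := kp + 1 with hk
    have h2k : 2 * k = p + 1 := by rw [hk, hkp]; ring
    set d := c ^ k with hd
    have hdA : d ∈ A := pow_mem hcA k
    have hdd : d * d = c := by
      rw [hd, ← pow_add, ← two_mul, h2k, pow_succ, hAexp' c hcA, one_mul]
    have hsd : s * d * s⁻¹ = d⁻¹ := by
      rw [hd, ← conj_pow, hinvc, inv_pow]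
    have hsd' : s * d = d⁻¹ * s := by
      calc s * d = (s * d * s⁻¹) * s := by group
        _ = d⁻¹ * s := by rw [hsd]
    have hwU : n * d⁻¹ ∈ U := by
      rw [hmemU]
      have h1 : s * n = n * (s * c) := by rw [← hnsn]; group
      calc s * (n * d⁻¹) = (s * n) * d⁻¹ := by group
        _ = n * (s * c) * d⁻¹ := by rw [h1]
        _ = n * (s * (d * d)) * d⁻¹ := by rw [hdd]
        _ = n * ((s * d) * d) * d⁻¹ := by group
        _ = n * ((d⁻¹ * s) * d) * d⁻¹ := by rw [hsd']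
        _ = n * d⁻¹ * s := by group
    have : n = (n * d⁻¹) * d := by group
    rw [this, sup_comm]
    exact Subgroup.mul_mem_sup hwU hdA
  refine ⟨U, ?_, hsup⟩
  -- the fixed points of s on A
  set Ap : Subgroup N := A ⊓ U with hAp
  have hApA : Ap ≤ A := inf_le_left
  have hdvd : Nat.card ↥Ap ∣ p ^ 2 := by rw [← hAcard]; exact Subgroup.card_dvd_of_le hApA
  obtain ⟨j, hj2, hj⟩ := (Nat.dvd_prime_pow hpprime).mp hdvd
  interval_cases j
  · -- trivial fixed points
    exact Subgroup.eq_bot_of_card_eq Ap (by simpa using hj)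
  · -- order p: impossible
    exfalso
    rw [pow_one] at hj
    -- normality of Ap
    have hnsn' : ∀ n : N, ∃ c ∈ A, n⁻¹ * s * n = s * c := by
      intro n
      exact ⟨s⁻¹ * n⁻¹ * s * n, hsc n, by group⟩
    have hApn : ∀ n : N, ∀ q ∈ Ap, n * q * n⁻¹ ∈ Ap := by
      intro n q hq
      rw [hAp, Subgroup.mem_inf] at hq ⊢
      refine ⟨hAn.conj_mem q hq.1 n, ?_⟩
      rw [hmemU]
      obtain ⟨c, hcA, hc⟩ := hnsn' n
      have hqs : s * q = q * s := (hmemU q).mp hq.2
      have hcq : c * q = q * c := hAc c hcA q hq.1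
      have h1 : s * n = n * (n⁻¹ * s * n) := by group
      calc s * (n * q * n⁻¹) = (s * n) * q * n⁻¹ := by group
        _ = n * (s * c) * q * n⁻¹ := by rw [h1, hc]
        _ = n * (s * (c * q)) * n⁻¹ := by group
        _ = n * (s * (q * c)) * n⁻¹ := by rw [hcq]
        _ = n * ((s * q) * c) * n⁻¹ := by group
        _ = n * ((q * s) * c) * n⁻¹ := by rw [hqs]
        _ = n * q * (s * c) * n⁻¹ := by group
        _ = n * q * (n⁻¹ * s * n) * n⁻¹ := by rw [hc]
        _ = n * q * n⁻¹ * s := by group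
    -- the map a ↦ a s a⁻¹ s⁻¹
    have hconjA : ∀ a ∈ A, s * a * s⁻¹ ∈ A := fun a ha => hAn.conj_mem a ha s
    let πm : ↥A →* N := MonoidHom.mk' (fun a => (a : N) * s * (a : N)⁻¹ * s⁻¹) (by
      intro a b
      have ha' : s * (a : N)⁻¹ * s⁻¹ ∈ A := hconjA _ (inv_mem a.2)
      have hb' : s * (b : N)⁻¹ * s⁻¹ ∈ A := hconjA _ (inv_mem b.2)
      have h1 := hAc _ hb' _ ha'
      have h2 := hAc _ b.2 _ ha'
      simp only [Subgroup.coe_mul]
      calc (a : N) * b * s * ((a : N) * b)⁻¹ * s⁻¹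
          = (a : N) * (b * ((s * (b : N)⁻¹ * s⁻¹) * (s * (a : N)⁻¹ * s⁻¹))) := by group
        _ = (a : N) * (b * ((s * (a : N)⁻¹ * s⁻¹) * (s * (b : N)⁻¹ * s⁻¹))) := by rw [h1]
        _ = (a : N) * ((b * (s * (a : N)⁻¹ * s⁻¹)) * (s * (b : N)⁻¹ * s⁻¹)) := by group
        _ = (a : N) * (((s * (a : N)⁻¹ * s⁻¹) * b) * (s * (b : N)⁻¹ * s⁻¹)) := by rw [h2]
        _ = (a : N) * s * (a : N)⁻¹ * s⁻¹ * ((b : N) * s * (b : N)⁻¹ * s⁻¹) := by group)
    have hπm : ∀ a : ↥A, πm a = (a : N) * s * (a : N)⁻¹ * s⁻¹ := fun a => rfl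
    set Q₂ : Subgroup N := πm.range with hQ₂
    have hQ₂A : Q₂ ≤ A := by
      rintro _ ⟨a, rfl⟩
      rw [hπm]
      have : (a : N) * s * (a : N)⁻¹ * s⁻¹ = (a : N) * (s * (a : N)⁻¹ * s⁻¹) := by group
      rw [this]
      exact mul_mem a.2 (hconjA _ (inv_mem a.2))
    have hker : πm.ker = Ap.subgroupOf A := by
      ext a
      rw [MonoidHom.mem_ker, hπm, Subgroup.mem_subgroupOf, hAp, Subgroup.mem_inf, hmemU]
      constructor
      · intro h
        refine ⟨a.2, ?_⟩
        have : (a : N) * s = s * (a : N) := by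
          calc (a : N) * s = ((a : N) * s * (a : N)⁻¹ * s⁻¹) * s * a := by group
            _ = s * a := by rw [h, one_mul]
        exact this.symm
      · intro h
        calc (a : N) * s * (a : N)⁻¹ * s⁻¹ = ((a : N) * s) * (a : N)⁻¹ * s⁻¹ := by group
          _ = (s * (a : N)) * (a : N)⁻¹ * s⁻¹ := by rw [h.2]
          _ = 1 := by group
    have hQ₂card : Nat.card ↥Q₂ = p := by
      have h1 := Subgroup.card_eq_card_quotient_mul_card_subgroup πm.ker
      have h2 : Nat.card (↥A ⧸ πm.ker) = Nat.card ↥Q₂ :=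
        Nat.card_congr (QuotientGroup.quotientKerEquivRange πm).toEquiv
      have h3 : Nat.card ↥πm.ker = p := by
        rw [hker, ← hj]
        exact Nat.card_congr (Subgroup.subgroupOfEquivOfLe hApA).toEquiv
      rw [h2, h3, hAcard, pow_two] at h1
      exact (Nat.eq_of_mul_eq_mul_right hpprime.pos h1).symm
    have hQ₂n : ∀ n : N, ∀ q ∈ Q₂, n * q * n⁻¹ ∈ Q₂ := by
      rintro n _ ⟨a, rfl⟩
      rw [hπm]
      obtain ⟨c, hcA, hc⟩ := hnsn' n⁻¹
      rw [inv_inv] at hc
      have ha₁ : n * (a : N) * n⁻¹ ∈ A := hAn.conj_mem _ a.2 n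
      refine ⟨⟨n * (a : N) * n⁻¹, ha₁⟩, ?_⟩
      rw [hπm]
      simp only
      have hcomm : c * (n * (a : N) * n⁻¹)⁻¹ = (n * (a : N) * n⁻¹)⁻¹ * c := hAc _ hcA _ (inv_mem ha₁)
      calc n * (a : N) * n⁻¹ * s * (n * (a : N) * n⁻¹)⁻¹ * s⁻¹
          = n * (a : N) * n⁻¹ * s * ((n * (a : N) * n⁻¹)⁻¹ * c) * c⁻¹ * s⁻¹ := by group
        _ = n * (a : N) * n⁻¹ * s * (c * (n * (a : N) * n⁻¹)⁻¹) * c⁻¹ * s⁻¹ := by rw [hcomm]
        _ = n * ((a : N) * (n⁻¹ * (s * c) * n) * (a : N)⁻¹ * (n⁻¹ * (s * c) * n)⁻¹) * n⁻¹ := by group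
        _ = n * ((a : N) * (n⁻¹ * (n * s * n⁻¹) * n) * (a : N)⁻¹ * (n⁻¹ * (n * s * n⁻¹) * n)⁻¹) * n⁻¹ := by rw [hc]
        _ = n * ((a : N) * s * (a : N)⁻¹ * s⁻¹) * n⁻¹ := by group
    -- conjugation by n*m and m*n agree on A
    have hagree : ∀ n m : N, ∀ a ∈ A, (n * m) * a * (n * m)⁻¹ = (m * n) * a * (m * n)⁻¹ := by
      intro n m a ha
      set ap : N := a * (s * a * s⁻¹) with hap
      set am : N := a * s * a⁻¹ * s⁻¹ with ham
      have hsas : s * a * s⁻¹ ∈ A := hconjA a ha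
      have hapQ : ap ∈ Ap := by
        rw [hAp, Subgroup.mem_inf, hmemU]
        refine ⟨mul_mem ha hsas, ?_⟩
        have hc1 := hAc a ha _ hsas
        calc s * ap = (s * a * s⁻¹) * (s * s) * a * s⁻¹ := by rw [hap]; group
          _ = (s * a * s⁻¹) * a * s⁻¹ := by rw [hss, mul_one]
          _ = (a * (s * a * s⁻¹)) * s⁻¹ := by rw [hc1]
          _ = ap * s := by rw [hap, hsinv]
      have hamQ : am ∈ Q₂ := ⟨⟨a, ha⟩, rfl⟩
      have haa : a * a = ap * am := by
        have hsas' : s * a⁻¹ * s⁻¹ ∈ A := hconjA _ (inv_mem ha)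
        have hc2 := hAc _ hsas a ha
        rw [hap, ham]
        calc a * a = a * (a * (s * a * s⁻¹)) * (s * a⁻¹ * s⁻¹) := by group
          _ = a * ((s * a * s⁻¹) * a) * (s * a⁻¹ * s⁻¹) := by rw [hc2]
          _ = a * (s * a * s⁻¹) * (a * s * a⁻¹ * s⁻¹) := by group
      have h1 := conj_comm_of_prime_card Ap hApn hj n m ap hapQ
      have h2 := conj_comm_of_prime_card Q₂ hQ₂n hQ₂card n m am hamQ
      have h3 : (n * m) * (a * a) * (n * m)⁻¹ = (m * n) * (a * a) * (m * n)⁻¹ := by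
        rw [haa]
        calc n * m * (ap * am) * (n * m)⁻¹ = (n * m * ap * (n * m)⁻¹) * (n * m * am * (n * m)⁻¹) := by group
          _ = (m * n * ap * (m * n)⁻¹) * (m * n * am * (m * n)⁻¹) := by rw [h1, h2]
          _ = m * n * (ap * am) * (m * n)⁻¹ := by group
      set k := kp + 1 with hk
      have h2k : 2 * k = p + 1 := by rw [hk, hkp]; ring
      have hak : (a * a) ^ k = a := by
        rw [← pow_two, ← pow_mul, h2k, pow_succ, hAexp' a ha, one_mul]
      rw [← hak, ← conj_pow, ← conj_pow, h3]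
    -- hence the quotient is commutative
    have hcommq : ∀ n m : N, e (π n) * e (π m) = e (π m) * e (π n) := by
      intro n m
      have hcent : (m * n)⁻¹ * (n * m) ∈ centralizer (A : Set N) := by
        rw [mem_centralizer_iff]
        intro a ha
        have h := hagree n m a ha
        calc a * ((m * n)⁻¹ * (n * m)) = (m * n)⁻¹ * ((m * n) * a * (m * n)⁻¹) * (m * n) * ((m * n)⁻¹ * (n * m)) := by group
          _ = (m * n)⁻¹ * ((n * m) * a * (n * m)⁻¹) * (m * n) * ((m * n)⁻¹ * (n * m)) := by rw [h]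
          _ = (m * n)⁻¹ * (n * m) * a := by group
      rw [hAself, hmemA] at hcent
      simp only [map_mul, map_inv] at hcent
      have : e (π n) * e (π m) = (e (π m) * e (π n)) * ((e (π m) * e (π n))⁻¹ * (e (π n) * e (π m))) := by group
      rw [this, hcent, mul_one]
    obtain ⟨nu, hnu⟩ := hπsurj (e.symm uu)
    obtain ⟨nv, hnv⟩ := hπsurj (e.symm vv)
    have := hcommq nu nv
    rw [hnu, hnv] at this
    simp only [MulEquiv.apply_symm_apply] at this
    exact uu_vv_ne this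
  · -- all of A fixed: s centralizes A, so s ∈ A
    exfalso
    have hApeq : Ap = A := by
      have hsub : Ap.subgroupOf A = ⊤ := by
        apply Subgroup.eq_top_of_le_card
        have : Nat.card ↥(Ap.subgroupOf A) = Nat.card ↥Ap :=
          Nat.card_congr (Subgroup.subgroupOfEquivOfLe hApA).toEquiv
        rw [this, hj, hAcard]
      rw [Subgroup.subgroupOf_eq_top] at hsub
      exact le_antisymm hApA hsub
    have hAU : A ≤ U := by rw [← hApeq]; exact inf_le_right
    have : s ∈ centralizer (A : Set N) := by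
      rw [mem_centralizer_iff]
      intro a ha
      exact ((hmemU a).mp (hAU ha)).symm
    rw [hAself] at this
    exact hsA this

end Cfsg.Agent.S3075
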