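import Cfsg.Statements.S3078
import Cfsg.Agent.Lib.Helper11.Replacement7

set_option autoImplicit false
open Cfsg

namespace Cfsg.Agent.S3078

/-- A replacement Theorem for abelian subgroups of p-groups, p odd. Let G be a finite p-group with p odd, A an abelian subgroup of G, and B a subgroup of nilpotency class at most 2 with [B, B] ≤ A, such that A normalizes B but B does not normalize A. Then there is an abelian subgroup A* of G of the same order as A with A ∩ B strictly contained in A* ∩ B, A* contained in N_G(A) and in the normal closure of A, the exponent of A* dividing the exponent of A, and with the subgroup generated by the elements of order dividing p in A of order at most that of the corresponding subgroup of A* (the rank of A is at most the rank of A*). -/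
theorem result {G : Type*} [Group G] [Finite G] {p : ℕ} [Fact p.Prime] (hp : p ≠ 2) (hG : IsPGroup p G) (A B : Subgroup G) (hA : IsMulCommutative A) (hB2 : ⁅⁅B, B⁆, B⁆ = ⊥) (hBA : ⁅B, B⁆ ≤ A) (hAB : A ≤ Subgroup.normalizer (B : Set G)) (hBnA : ¬ B ≤ Subgroup.normalizer (A : Set G)) : ∃ Astar : Subgroup G, IsMulCommutative Astar ∧ Nat.card Astar = Nat.card A ∧ A ⊓ B < Astar ⊓ B ∧ Astar ≤ Subgroup.normalizer (A : Set G) ∧ Astar ≤ Subgroup.normalClosure (A : Set G) ∧ Monoid.exponent Astar ∣ Monoid.exponent A ∧ Nat.card (Cfsg.omegaOne p A) ≤ Nat.card (Cfsg.omegaOne p Astar) := by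
  classical
  have hAX : A ≤ A ⊔ B := le_sup_left
  have hBX : B ≤ A ⊔ B := le_sup_right
  have hXnB : A ⊔ B ≤ Subgroup.normalizer (B : Set G) := sup_le hAB Subgroup.le_normalizer
  have hB'n : (B.subgroupOf (A ⊔ B)).Normal :=
    (Subgroup.normal_subgroupOf_iff_le_normalizer hBX).mpr hXnB
  have hS : IsPGroup p ↥(A ⊔ B) := hG.to_subgroup (A ⊔ B)
  have hinj : Function.Injective (A ⊔ B).subtype := Subgroup.subtype_injective _
  have hB2' : p = 2 → IsMulCommutative (B.subgroupOf (A ⊔ B)) := fun h => absurd h hp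
  have hAc : ∀ x ∈ A, ∀ y ∈ A, x * y = y * x :=
    (Cfsg.Agent.Helper11.Repl.isMulCommutative_iff_forall A).mp hA
  have hA' : IsMulCommutative (A.subgroupOf (A ⊔ B)) := by
    rw [Cfsg.Agent.Helper11.Repl.isMulCommutative_iff_forall]
    intro x hx y hy
    apply Subtype.ext
    exact hAc x hx y hy
  have hBA' : ⁅B.subgroupOf (A ⊔ B), B.subgroupOf (A ⊔ B)⁆ ≤ A.subgroupOf (A ⊔ B) := by
    rw [Subgroup.commutator_le]
    intro x hx y hy
    rw [Subgroup.mem_subgroupOf, commutatorElement_def]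
    apply hBA
    have : ((x * y * x⁻¹ * y⁻¹ : ↥(A ⊔ B)) : G) = (x : G) * (y : G) * (x : G)⁻¹ * (y : G)⁻¹ := by
      simp
    rw [this, ← commutatorElement_def]
    exact Subgroup.commutator_mem_commutator hx hy
  have hNeq := Subgroup.subgroupOf_normalizer_eq hAX
  have hnot' : ¬ B.subgroupOf (A ⊔ B) ≤
      Subgroup.normalizer ((A.subgroupOf (A ⊔ B) : Subgroup ↥(A ⊔ B)) : Set ↥(A ⊔ B)) := by
    rw [← hNeq]
    intro h
    apply hBnA
    intro x hx
    have := h (show (⟨x, hBX hx⟩ : ↥(A ⊔ B)) ∈ B.subgroupOf (A ⊔ B) from hx)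
    exact this
  obtain ⟨b, hb, hbN, hbA⟩ :=
    Cfsg.Agent.S0649.result hS (B.subgroupOf (A ⊔ B)) hB2' (A.subgroupOf (A ⊔ B)) hA' hBA' hnot'
  have hres := Cfsg.Agent.S0650.result hS (B.subgroupOf (A ⊔ B)) hB2' (A.subgroupOf (A ⊔ B))
    hA' hBA' hnot' b hb hbN hbA
  have homega := Cfsg.Agent.Helper11.Repl.card_omegaOne_le hS hB2' hA' hBA' hb hbN hp
  obtain ⟨h1, h2, _, h4, _, _, h7, _, _, h10⟩ := hres
  have hmapA : (A.subgroupOf (A ⊔ B)).map (A ⊔ B).subtype = A := by
    rw [Subgroup.subgroupOf_map_subtype]; exact inf_eq_left.mpr hAX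
  have hmapB : (B.subgroupOf (A ⊔ B)).map (A ⊔ B).subtype = B := by
    rw [Subgroup.subgroupOf_map_subtype]; exact inf_eq_left.mpr hBX
  refine ⟨(Cfsg.Agent.Helper11.Repl.Astar (A.subgroupOf (A ⊔ B)) b).map (A ⊔ B).subtype,
    ?_, ?_, ?_, ?_, ?_, ?_, ?_⟩
  · have := h2
    exact Subgroup.map_isMulCommutative _ _
  · rw [Subgroup.card_map_of_injective hinj]
    rw [show Nat.card ↥(Cfsg.Agent.Helper11.Repl.Astar (A.subgroupOf (A ⊔ B)) b) =
      Nat.card ↥(A.subgroupOf (A ⊔ B)) from h1]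
    exact Nat.card_congr (Subgroup.subgroupOfEquivOfLe hAX).toEquiv
  · have := (Subgroup.map_lt_map_iff_of_injective hinj).mpr h4
    rw [Subgroup.map_inf _ _ _ hinj, Subgroup.map_inf _ _ _ hinj, hmapA, hmapB] at this
    exact this
  · intro g hg
    obtain ⟨x, hx, rfl⟩ := hg
    have hx' := h7 hx
    rw [← hNeq, Subgroup.mem_subgroupOf] at hx'
    exact hx'
  · rw [Subgroup.map_le_iff_le_comap]
    apply sup_le
    · intro x hx
      rw [Subgroup.mem_comap]
      exact Subgroup.le_normalClosure (Subgroup.mem_inf.mp hx).1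
    · rw [Subgroup.closure_le]
      rintro g ⟨a, ha, rfl⟩
      rw [SetLike.mem_coe, Subgroup.mem_comap]
      have haA : (a : G) ∈ A := ha
      have hnc : (Subgroup.normalClosure (A : Set G)).Normal := Subgroup.normalClosure_normal
      have e1 : (A ⊔ B).subtype (a * b⁻¹ * a⁻¹ * b) =
          (a : G) * ((b : G)⁻¹ * (a : G)⁻¹ * ((b : G)⁻¹)⁻¹) := by
        simp [mul_assoc]
      rw [e1]
      refine Subgroup.mul_mem _ (Subgroup.le_normalClosure haA) ?_
      exact hnc.conj_mem _ (Subgroup.le_normalClosure (A.inv_mem haA)) _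
  · have e1 : Monoid.exponent ↥((Cfsg.Agent.Helper11.Repl.Astar (A.subgroupOf (A ⊔ B)) b).map
        (A ⊔ B).subtype) =
        Monoid.exponent ↥(Cfsg.Agent.Helper11.Repl.Astar (A.subgroupOf (A ⊔ B)) b) :=
      (Monoid.exponent_eq_of_mulEquiv (Subgroup.equivMapOfInjective _ _ hinj)).symm
    have e2 : Monoid.exponent ↥(A.subgroupOf (A ⊔ B)) = Monoid.exponent ↥A :=
      Monoid.exponent_eq_of_mulEquiv (Subgroup.subgroupOfEquivOfLe hAX)
    rw [e1, ← e2]
    exact h10 hp
  · rw [Cfsg.Agent.Helper11.Repl.omegaOne_map_of_injective p _ hinj,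
      Subgroup.card_map_of_injective hinj]
    have e3 : Nat.card ↥(Cfsg.omegaOne p A) =
        Nat.card ↥(Cfsg.omegaOne p (A.subgroupOf (A ⊔ B))) := by
      conv_lhs => rw [← hmapA]
      rw [Cfsg.Agent.Helper11.Repl.omegaOne_map_of_injective p _ hinj,
        Subgroup.card_map_of_injective hinj]
    rw [e3]
    exact homega

end Cfsg.Agent.S3078
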