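import Mathlib
import Cfsg.Statements.S3084
import Cfsg.Agent.Lib.Helper59.ESExtH

set_option autoImplicit false
open Cfsg

namespace Cfsg.Agent.S3084

open Cfsg.Agent.Helper89 Cfsg.Agent.Helper59.ESExt Matrix

/-- Let K be a group acting faithfully and linearly on a finite-dimensional vector space U of dimension 2n ≥ 2 over the field with two elements, preserving a quadratic form q whose polar bilinear form is non-degenerate and which vanishes on some n-dimensional subspace (a non-singular form of plus type). Then there is a finite group R with a normal extraspecial 2-subgroup Q of order 2^(2n+1), an isomorphism of R/Q with K, and a surjective homomorphism χ from Q onto (the additive group of) U with kernel the centre of Q, such that χ carries conjugation by any r in R to the action of the image of r in K, and an element a of Q squares to the identity exactly when q vanishes at χ(a). -/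
theorem result {K : Type*} [Group K] {U : Type*} [AddCommGroup U] [Module (ZMod 2) U] [Module.Finite (ZMod 2) U] (n : ℕ) (hn1 : 1 ≤ n) (hn : Module.finrank (ZMod 2) U = 2 * n) (ρ : Representation (ZMod 2) K U) (hρ : Function.Injective ρ) (q : QuadraticForm (ZMod 2) U) (hq : ∀ (k : K) (u : U), q (ρ k u) = q u) (hnd : (QuadraticMap.polarBilin q).Nondegenerate) (hplus : ∃ W : Submodule (ZMod 2) U, Module.finrank (ZMod 2) ↥W = n ∧ ∀ w ∈ W, q w = 0) : ∃ (R : Type) (_ : Group R) (_ : Finite R) (Q : Subgroup R) (hN : Q.Normal) (e : R ⧸ Q ≃* K) (χ : ↥Q →* Multiplicative U), Cfsg.IsExtraspecial 2 ↥Q ∧ Nat.card ↥Q = 2 ^ (2 * n + 1) ∧ Function.Surjective χ ∧ χ.ker = Subgroup.center ↥Q ∧ (∀ (r : R) (a : ↥Q), χ ⟨r * a * r⁻¹, hN.conj_mem (a : R) a.2 r⟩ = Multiplicative.ofAdd (ρ (e (r : R ⧸ Q)) (Multiplicative.toAdd (χ a)))) ∧ ∀ a : ↥Q, a * a = 1 ↔ q (Multiplicative.toAdd (χ a)) = 0 := by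
  classical
  let b : Module.Basis (Fin (2 * n)) (ZMod 2) U := Module.finBasisOfFinrankEq (ZMod 2) U hn
  let F : LinearMap.BilinForm (ZMod 2) U := q.toBilin b
  have hF : ∀ u, F u u = q u := by
    intro u
    have := congrArg (fun Q' : QuadraticForm (ZMod 2) U => Q' u) (QuadraticMap.toQuadraticMap_toBilin q b)
    simpa using this
  let M : Matrix (Fin (2 * n)) (Fin (2 * n)) (ZMod 2) := LinearMap.BilinForm.toMatrix b F
  have hM : ∀ x y : Fin (2 * n) → ZMod 2,
      bform M x y = F (b.equivFun.symm x) (b.equivFun.symm y) :=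
    fun x y => LinearMap.BilinForm.dotProduct_toMatrix_mulVec b F x y
  -- the action in coordinates
  let Act : K →* Matrix (Fin (2 * n)) (Fin (2 * n)) (ZMod 2) :=
    { toFun := fun k => LinearMap.toMatrix b b (ρ k)
      map_one' := by rw [map_one]; exact LinearMap.toMatrix_one b
      map_mul' := fun k k' => by rw [map_mul]; exact LinearMap.toMatrix_mul b (ρ k) (ρ k') }
  have hAct : ∀ (k : K) (x : Fin (2 * n) → ZMod 2),
      b.equivFun.symm (Act k *ᵥ x) = ρ k (b.equivFun.symm x) := by
    intro k x
    apply b.equivFun.injective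
    rw [LinearEquiv.apply_symm_apply]
    have h := LinearMap.toMatrix_mulVec_repr b b (ρ k) (b.equivFun.symm x)
    have e1 : (b.repr (b.equivFun.symm x) : Fin (2 * n) → ZMod 2) = x :=
      b.equivFun.apply_symm_apply x
    rw [e1] at h
    exact h
  have hAq : ∀ (k : K) (v : Fin (2 * n) → ZMod 2),
      bform M (Act k *ᵥ v) (Act k *ᵥ v) = bform M v v := by
    intro k v
    rw [hM, hM, hAct, hF, hF, hq]
  have hAinj : ∀ k : K, (∀ v : Fin (2 * n) → ZMod 2, Act k *ᵥ v = v) → k = 1 := by
    intro k hk
    apply hρ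
    rw [map_one]
    apply LinearMap.ext
    intro u
    have h1 := hAct k (b.equivFun u)
    rw [hk, LinearEquiv.symm_apply_apply] at h1
    exact h1.symm
  have hnd' : ∀ v : Fin (2 * n) → ZMod 2, (∀ w, bform M v w + bform M w v = 0) → v = 0 := by
    intro v hv
    have h0 : b.equivFun.symm v = 0 := by
      apply hnd.1
      intro y
      have h1 := hv (b.equivFun y)
      rw [hM, hM, LinearEquiv.symm_apply_apply] at h1
      rw [QuadraticMap.polarBilin_apply_apply, QuadraticMap.polar, ← hF, ← hF, ← hF]
      simp only [map_add, LinearMap.add_apply]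
      linear_combination h1
    have := congrArg b.equivFun h0
    rwa [LinearEquiv.apply_symm_apply, map_zero] at this
  haveI : Nonempty (Fin (2 * n)) := ⟨⟨0, by omega⟩⟩
  obtain ⟨R, iG, iF, Q, hN, e, χ0, hE, hcard, hsurj, hker, hconj, hsq⟩ :=
    TGA.core (M := M) Act hAq hAinj hnd'
  let T : Multiplicative (Fin (2 * n) → ZMod 2) →* Multiplicative U :=
    AddMonoidHom.toMultiplicative (b.equivFun.symm.toLinearMap.toAddMonoidHom)
  have hT : ∀ m, T m = Multiplicative.ofAdd (b.equivFun.symm (Multiplicative.toAdd m)) :=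
    fun _ => rfl
  have hTinj : Function.Injective T := by
    intro m m' h
    have := b.equivFun.symm.injective (Multiplicative.ofAdd.injective h)
    exact Multiplicative.toAdd.injective this
  refine ⟨R, iG, iF, Q, hN, e, T.comp χ0, hE, ?_, ?_, ?_, ?_, ?_⟩
  · rw [hcard, Fintype.card_fin, pow_succ, mul_comm]
  · intro m
    obtain ⟨a, ha⟩ := hsurj (Multiplicative.ofAdd (b.equivFun (Multiplicative.toAdd m)))
    refine ⟨a, ?_⟩
    rw [MonoidHom.comp_apply, ha, hT]
    simp
  · rw [← hker]
    ext a
    rw [MonoidHom.mem_ker, MonoidHom.mem_ker, MonoidHom.comp_apply]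
    constructor
    · intro h
      apply hTinj
      rw [h, map_one]
    · intro h
      rw [h, map_one]
  · intro r a
    rw [MonoidHom.comp_apply, MonoidHom.comp_apply, hconj r a, hT, hT]
    simp only [toAdd_ofAdd]
    rw [hAct]
  · intro a
    rw [hsq a, MonoidHom.comp_apply, hT, hM, hF]
    simp

end Cfsg.Agent.S3084
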