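import Mathlib
import Cfsg.Statements.S3085
import Cfsg.Agent.Lib.Helper59.GriessA
import Cfsg.Agent.Lib.Helper89.OutES.Main

set_option autoImplicit false
open Cfsg

namespace Cfsg.Agent.S3085

open Cfsg.Agent.Helper89 Cfsg.Agent.Helper59.Griess Matrix

theorem heis_no_complement (n : ℕ) (hn : 3 ≤ n) (L : Subgroup (MulAut (Heis (Mp n)))) :
    ¬ (Cfsg.Inn (Heis (Mp n))).IsComplement' L := by
  intro hL
  let i0 : Fin n := ⟨0, by omega⟩
  let i1 : Fin n := ⟨1, by omega⟩
  let i2 : Fin n := ⟨2, by omega⟩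
  have h01 : i0 ≠ i1 := by intro h; have := congrArg Fin.val h; simp [i0, i1] at this
  have h02 : i0 ≠ i2 := by intro h; have := congrArg Fin.val h; simp [i0, i2] at this
  have h12 : i1 ≠ i2 := by intro h; have := congrArg Fin.val h; simp [i1, i2] at this
  let x : Fin n → (Fin n ⊕ Fin n → ZMod 2) := fun i => Pi.single (Sum.inl i) 1
  let e : Fin n → (Fin n ⊕ Fin n → ZMod 2) :=
    fun i => Pi.single (Sum.inl i) 1 + Pi.single (Sum.inr i) 1
  have fee : ∀ i j, bform (Mp n) (e i) (e j) = if i = j then 1 else 0 := by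
    intro i j
    simp only [e, bform_add_left, bform_add_right, bform_single, Mp, Matrix.fromBlocks_apply₁₁,
      Matrix.fromBlocks_apply₁₂, Matrix.fromBlocks_apply₂₁, Matrix.fromBlocks_apply₂₂,
      Matrix.zero_apply, Matrix.one_apply]
    simp
  have fxe : ∀ i j, bform (Mp n) (x i) (e j) = 0 := by
    intro i j
    simp only [e, x, bform_add_left, bform_add_right, bform_single, Mp, Matrix.fromBlocks_apply₁₁,
      Matrix.fromBlocks_apply₁₂, Matrix.fromBlocks_apply₂₁, Matrix.fromBlocks_apply₂₂,
      Matrix.zero_apply, Matrix.one_apply]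
    simp
  have fex : ∀ i j, bform (Mp n) (e i) (x j) = if i = j then 1 else 0 := by
    intro i j
    simp only [e, x, bform_add_left, bform_add_right, bform_single, Mp, Matrix.fromBlocks_apply₁₁,
      Matrix.fromBlocks_apply₁₂, Matrix.fromBlocks_apply₂₁, Matrix.fromBlocks_apply₂₂,
      Matrix.zero_apply, Matrix.one_apply]
    simp
  refine no_complement_aux (good_Mp n) (Mp_sq n) L hL (e i0) (e i1) (e i2) (x i0) (x i1) (x i2)
    (x i1) ?_ ?_ ?_ ?_ ?_ ?_ ?_ ?_ ?_ ?_ ?_ ?_ ?_
  all_goals
    simp only [pol, bform_add_left, bform_add_right, fee, fxe, fex, if_true, if_neg h01,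
      if_neg h02, if_neg h12, if_neg h01.symm, if_neg h02.symm, if_neg h12.symm]
  all_goals try decide

universe u v

theorem transport {Q : Type u} {H : Type v} [Group Q] [Group H] (φ : Q ≃* H)
    (L : Subgroup (MulAut Q)) (hL : (Cfsg.Inn Q).IsComplement' L) :
    (Cfsg.Inn H).IsComplement' (L.map (MulAut.congr φ).toMonoidHom) := by
  apply Subgroup.isComplement'_of_disjoint_and_mul_eq_univ
  · rw [Subgroup.disjoint_def]
    rintro α ⟨h, rfl⟩ ⟨l, hl, hlα⟩
    have h1 : l = MulAut.conj (φ.symm h) := by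
      have h2 : MulAut.congr φ (MulAut.conj (φ.symm h)) = MulAut.conj h := by
        rw [conj_congr, MulEquiv.apply_symm_apply]
      exact (MulAut.congr φ).injective (hlα.trans h2.symm)
    have h3 : l = 1 := Subgroup.disjoint_def.mp hL.disjoint ⟨φ.symm h, h1.symm⟩ hl
    have h4 : (MulAut.congr φ) l = 1 := by rw [h3, map_one]
    exact hlα.symm.trans h4
  · rw [Set.eq_univ_iff_forall]
    intro β
    obtain ⟨⟨i, l⟩, hil, -⟩ := hL.existsUnique ((MulAut.congr φ).symm β)
    obtain ⟨g, hg⟩ := i.2
    refine ⟨MulAut.congr φ i.1, ⟨φ g, ?_⟩, MulAut.congr φ l.1, ⟨l.1, l.2, rfl⟩, ?_⟩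
    · rw [← hg, conj_congr]
    · show MulAut.congr φ i.1 * MulAut.congr φ l.1 = β
      rw [← map_mul, hil, MulEquiv.apply_symm_apply]

/-- Let Q be an extraspecial 2-group of order 2^(2n+1) with n ≥ 3 that is of plus type (it contains an elementary abelian subgroup of order 2^(n+1)). Then the group of inner automorphisms of Q has no complement in the full automorphism group of Q: the extension of the inner automorphism group (elementary abelian of order 2^(2n)) by the outer automorphism group (the orthogonal group of plus type) does not split. -/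
theorem result {Q : Type*} [Group Q] [Finite Q] (n : ℕ) (hn : 3 ≤ n) (hQ : Cfsg.IsExtraspecial 2 Q) (hcard : Nat.card Q = 2 ^ (2 * n + 1)) (hplus : ∃ E : Subgroup Q, Cfsg.IsElementaryAbelian 2 E ∧ Nat.card ↥E = 2 ^ (n + 1)) (L : Subgroup (MulAut Q)) : ¬ (Cfsg.Inn Q).IsComplement' L := by
  intro hL
  obtain ⟨c, n', hG, _, hcard', htype⟩ := extraspecial_type hQ
  have hnn : n' = n := pow_two_injective (hcard'.symm.trans hcard)
  subst hnn
  have hplus' : IsPlus Q n' := by
    rcases htype with h | h
    · exact h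
    · exfalso
      obtain ⟨A, hA1, hA2⟩ := hplus
      have := h.2.2 A hA1
      rw [hA2] at this
      have : 2 ^ (n' + 1) = 2 * 2 ^ n' := by ring
      have hpos : 0 < 2 ^ n' := by positivity
      omega
  obtain ⟨φ⟩ := extraspecial_iso hG (good_Mp n') hcard (card_Mp n')
    (Or.inl ⟨hplus', isPlus_Mp n'⟩)
  exact heis_no_complement n' hn _ (transport φ L hL)

end Cfsg.Agent.S3085
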