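import Cfsg.Statements.S3087

set_option autoImplicit false
open Cfsg

namespace Cfsg.Agent.S3087

theorem card_mul_relIndex' {V : Type*} [AddCommGroup V] (H K : AddSubgroup V) (h : H ≤ K) :
    Nat.card ↥H * H.relIndex K = Nat.card ↥K := by
  have := AddSubgroup.relIndex_mul_relIndex (⊥ : AddSubgroup V) H K bot_le h
  rwa [AddSubgroup.relIndex_bot_left, AddSubgroup.relIndex_bot_left] at this

theorem card_sup_mul_card_inf {V : Type*} [AddCommGroup V] [Finite V] (S T : AddSubgroup V) :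
    Nat.card ↥(S ⊔ T) * Nat.card ↥(S ⊓ T) = Nat.card ↥S * Nat.card ↥T := by
  have h1 : Nat.card ↥T * T.relIndex (S ⊔ T) = Nat.card ↥(S ⊔ T) :=
    card_mul_relIndex' _ _ le_sup_right
  have h2 : Nat.card ↥(T ⊓ S) * (T ⊓ S).relIndex S = Nat.card ↥S :=
    card_mul_relIndex' _ _ inf_le_right
  rw [AddSubgroup.relIndex_sup_right] at h1
  rw [AddSubgroup.inf_relIndex_right] at h2
  rw [← h1, ← h2, inf_comm S T]
  ring

/-- Fixed points of a subgroup, as an additive subgroup. -/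
def fix {G V : Type*} [Group G] [AddCommGroup V] (p : ℕ) [Module (ZMod p) V]
    (ρ : Representation (ZMod p) G V) (X : Subgroup G) : AddSubgroup V where
  carrier := {v | ∀ x ∈ X, ρ x v = v}
  zero_mem' := by intro x _; simp
  add_mem' := by
    intro a b ha hb x hx
    simp only [Set.mem_ofPred_eq] at ha hb
    rw [map_add, ha x hx, hb x hx]
  neg_mem' := by
    intro a ha x hx
    simp only [Set.mem_ofPred_eq] at ha
    rw [map_neg, ha x hx]

theorem mem_fix {G V : Type*} [Group G] [AddCommGroup V] (p : ℕ) [Module (ZMod p) V]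
    (ρ : Representation (ZMod p) G V) (X : Subgroup G) (v : V) :
    v ∈ fix p ρ X ↔ ∀ x ∈ X, ρ x v = v := Iff.rfl

theorem card_fixV {G V : Type*} [Group G] [AddCommGroup V] (p : ℕ) [Module (ZMod p) V]
    (ρ : Representation (ZMod p) G V) (X : Subgroup G) :
    Nat.card {v : V // ∀ x ∈ X, ρ x v = v} = Nat.card ↥(fix p ρ X) := rfl

theorem card_fixW {G V : Type*} [Group G] [AddCommGroup V] (p : ℕ) [Module (ZMod p) V]
    (ρ : Representation (ZMod p) G V) (W : Submodule (ZMod p) V) (X : Subgroup G) :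
    Nat.card {w : W // ∀ x ∈ X, ρ x w = w} = Nat.card ↥(W.toAddSubgroup ⊓ fix p ρ X) := by
  apply Nat.card_congr
  refine ⟨fun w => ⟨w.1.1, w.1.2, w.2⟩, fun v => ⟨⟨v.1, v.2.1⟩, v.2.2⟩, ?_, ?_⟩
  · intro w; rfl
  · intro v; rfl

theorem result {G V : Type*} [Group G] [Finite G] [AddCommGroup V] [Finite V] (p : ℕ) [Fact p.Prime] [Module (ZMod p) V]
    (ρ : Representation (ZMod p) G V) (W : Submodule (ZMod p) V) (hW : ∀ g : G, ∀ w ∈ W, ρ g w ∈ W)
    (A : Subgroup G)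
    (hP : ∀ B : Subgroup G, B ≤ A →
      Nat.card ↥B * Nat.card {v : V // ∀ b ∈ B, ρ b v = v} ≤ Nat.card ↥A * Nat.card {v : V // ∀ a ∈ A, ρ a v = v})
    (B : Subgroup G) (hBA : B ≤ A) (hCB : ∀ a ∈ A, (∀ w ∈ W, ρ a w = w) → a ∈ B) :
    Nat.card ↥B * Nat.card {w : W // ∀ b ∈ B, ρ b w = w} ≤ Nat.card ↥A * Nat.card {w : W // ∀ a ∈ A, ρ a w = w} := by
  have hPB := hP B hBA
  rw [card_fixV, card_fixV] at hPB
  rw [card_fixW, card_fixW]
  set CVA := fix p ρ A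
  set CVB := fix p ρ B
  set W' := W.toAddSubgroup
  have hAB : CVA ≤ CVB := fun v hv x hx => hv x (hBA hx)
  have hsup : (W' ⊓ CVB) ⊔ CVA ≤ CVB := sup_le inf_le_right hAB
  have hinf : (W' ⊓ CVB) ⊓ CVA = W' ⊓ CVA := by
    rw [inf_assoc, inf_eq_right.mpr hAB]
  have hcard := card_sup_mul_card_inf (W' ⊓ CVB) CVA
  rw [hinf] at hcard
  have hle : Nat.card ↥((W' ⊓ CVB) ⊔ CVA) ≤ Nat.card ↥CVB :=
    Nat.card_le_card_of_injective (AddSubgroup.inclusion hsup) (AddSubgroup.inclusion_injective hsup)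
  have hpos : 0 < Nat.card ↥CVA := Nat.card_pos
  -- |B| |C_W(B)| |C_V(A)| = |B| |sup| |C_W(A)| ≤ |B| |C_V(B)| |C_W(A)| ≤ |A| |C_V(A)| |C_W(A)|
  have key : (Nat.card ↥B * Nat.card ↥(W' ⊓ CVB)) * Nat.card ↥CVA ≤
      (Nat.card ↥A * Nat.card ↥(W' ⊓ CVA)) * Nat.card ↥CVA := by
    calc (Nat.card ↥B * Nat.card ↥(W' ⊓ CVB)) * Nat.card ↥CVA
        = Nat.card ↥B * (Nat.card ↥(W' ⊓ CVB) * Nat.card ↥CVA) := by ring
      _ = Nat.card ↥B * (Nat.card ↥((W' ⊓ CVB) ⊔ CVA) * Nat.card ↥(W' ⊓ CVA)) := by rw [hcard]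
      _ ≤ Nat.card ↥B * (Nat.card ↥CVB * Nat.card ↥(W' ⊓ CVA)) := by gcongr
      _ = (Nat.card ↥B * Nat.card ↥CVB) * Nat.card ↥(W' ⊓ CVA) := by ring
      _ ≤ (Nat.card ↥A * Nat.card ↥CVA) * Nat.card ↥(W' ⊓ CVA) := by gcongr
      _ = (Nat.card ↥A * Nat.card ↥(W' ⊓ CVA)) * Nat.card ↥CVA := by ring
  exact Nat.le_of_mul_le_mul_right key hpos

end Cfsg.Agent.S3087
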