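import Cfsg.Statements.S3103
import Mathlib
import Cfsg.Agent.S4208
import Cfsg.Agent.S0256
import Cfsg.Agent.Lib.Helper2.Frobenius
import Cfsg.Agent.Lib.Helper11.ZJ1
import Cfsg.Agent.Lib.Helper24.HH125
import Cfsg.Agent.Lib.Helper54.PConstrained
import Cfsg.Agent.Lib.Helper58.ElemAbGL

set_option autoImplicit false
open Cfsg

namespace Cfsg.Agent.S3103

open scoped commutatorElement
open Matrix

/-- Over the field with two elements every invertible matrix has determinant one. -/
noncomputable def glToSL : GL (Fin 4) (ZMod 2) →* Matrix.SpecialLinearGroup (Fin 4) (ZMod 2) where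
  toFun M := ⟨M.val, by
    have h : Matrix.GeneralLinearGroup.det M = 1 := Subsingleton.elim _ _
    have h2 := congrArg Units.val h
    simpa using h2⟩
  map_one' := by ext; rfl
  map_mul' := by intro a b; ext; rfl

theorem glToSL_injective : Function.Injective glToSL := by
  intro a b h
  apply Units.ext
  exact congrArg (fun M : Matrix.SpecialLinearGroup (Fin 4) (ZMod 2) =>
    (M : Matrix (Fin 4) (Fin 4) (ZMod 2))) h

theorem center_SL4_two : Subgroup.center (Matrix.SpecialLinearGroup (Fin 4) (ZMod 2)) = ⊥ := by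
  rw [eq_bot_iff]
  intro A hA
  rw [Matrix.SpecialLinearGroup.mem_center_iff] at hA
  obtain ⟨r, hr, hA⟩ := hA
  rw [Subgroup.mem_bot]
  have key : ∀ r : ZMod 2, r ^ Fintype.card (Fin 4) = 1 → r = 1 := by decide
  have : r = 1 := key r hr
  subst this
  apply Subtype.ext
  rw [← hA]
  simp

theorem mk_injective : Function.Injective
    (QuotientGroup.mk' (Subgroup.center (Matrix.SpecialLinearGroup (Fin 4) (ZMod 2)))) := by
  rw [← MonoidHom.ker_eq_bot_iff, QuotientGroup.ker_mk', center_SL4_two]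

theorem centralizer_pCore_le {X : Type*} [Group X] [Finite X] (hc : Cfsg.IsPConstrained 2 X)
    (hO : Cfsg.oddCore X = ⊥) :
    Subgroup.centralizer (Cfsg.pCore 2 X : Set X) ≤ Cfsg.pCore 2 X := by
  have : Fact (Nat.Prime 2) := ⟨Nat.prime_two⟩
  have h1 := (Cfsg.Agent.Helper54.isPConstrained_iff_isCharP_quotient (G := X) (p := 2)).mp hc
  have hO' : Cfsg.pPrimeCore 2 X = ⊥ := hO
  have e : X ⧸ Cfsg.pPrimeCore 2 X ≃* X :=
    (QuotientGroup.quotientMulEquivOfEq hO').trans QuotientGroup.quotientBot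
  exact Cfsg.Agent.Helper54.IsCharP.of_mulEquiv e h1

/-- extend an automorphism of `A` to `A × B` acting trivially on `B` -/
def prodAut (A B : Type*) [Group A] [Group B] : MulAut A →* MulAut (A × B) where
  toFun φ := MulEquiv.prodCongr φ (MulEquiv.refl B)
  map_one' := by ext x <;> rfl
  map_mul' := by intro φ ψ; ext x <;> rfl

theorem prodAut_eq_one_iff (A B : Type*) [Group A] [Group B] (φ : MulAut A) :
    prodAut A B φ = 1 ↔ φ = 1 := by
  constructor
  · intro h
    ext a
    have := congrArg (fun f : MulAut (A × B) => (f (a, 1)).1) h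
    exact this
  · rintro rfl
    exact map_one _

theorem two_nsmul_zmod_two : ∀ t : ZMod 2, 2 • t = 0 := by decide

theorem exists_hom_GL4 {H A : Type*} [Group H] [Group A] [Finite A]
    (hcomm : ∀ a b : A, a * b = b * a) (hexp : ∀ a : A, a ^ 2 = 1) (e : ℕ)
    (hcard : Nat.card A = 2 ^ e) (he : e ≤ 4) (c : H →* MulAut A) :
    ∃ φ : H →* GL (Fin 4) (ZMod 2), ∀ h, φ h = 1 ↔ c h = 1 := by
  have : Fact (Nat.Prime 2) := ⟨Nat.prime_two⟩
  let B := Multiplicative (Fin (4 - e) → ZMod 2)
  let iA : CommGroup A := { (inferInstance : Group A) with mul_comm := hcomm }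
  have hexpAB : ∀ x : Additive (A × B), 2 • x = 0 := by
    intro x
    induction x using Additive.rec with
    | ofMul y =>
      obtain ⟨a, b⟩ := y
      rw [← ofMul_pow]
      have hb : b ^ 2 = 1 := by
        induction b using Multiplicative.rec with
        | ofAdd f =>
          rw [← ofAdd_nsmul]
          have : 2 • f = 0 := by
            ext i
            simp only [Pi.smul_apply, Pi.zero_apply]
            exact two_nsmul_zmod_two (f i)
          rw [this]; rfl
      show Additive.ofMul ((a, b) ^ 2) = 0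
      rw [Prod.pow_mk, hexp a, hb]; rfl
  let _ : Module (ZMod 2) (Additive (A × B)) := AddCommGroup.zmodModule hexpAB
  have hcardB : Nat.card B = 2 ^ (4 - e) := by
    show Nat.card (Multiplicative (Fin (4 - e) → ZMod 2)) = _
    rw [Nat.card_eq_fintype_card]
    simp [Fintype.card_multiplicative, ZMod.card]
  have hcardAB : Nat.card (A × B) = 2 ^ 4 := by
    rw [Nat.card_prod, hcard, hcardB, ← pow_add]
    congr 1; omega
  obtain ⟨φ, hφ⟩ := Cfsg.Agent.Helper58.exists_hom_GL_of_mulAut 2 4 hcardAB ((prodAut A B).comp c)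
  refine ⟨φ, fun h => ?_⟩
  rw [hφ, MonoidHom.comp_apply, prodAut_eq_one_iff]

/-- Let X be a finite 2-constrained group with no nontrivial normal subgroup of odd order such that O₂(X) has sectional 2-rank at most 4. Then X/O₂(X) is isomorphic to a subgroup of the alternating group of degree 8. -/
theorem result {X : Type*} [Group X] [Finite X] (hc : Cfsg.IsPConstrained 2 X) (hO : Cfsg.oddCore X = ⊥)
    (h4 : Cfsg.SectionalPRankLE 2 4 ↥(Cfsg.pCore 2 X)) :
    ∃ f : X ⧸ Cfsg.pCore 2 X →* ↥(alternatingGroup (Fin 8)), Function.Injective f := by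
  classical
  have hp2 : Fact (Nat.Prime 2) := ⟨Nat.prime_two⟩
  have hQn : (Cfsg.pCore 2 X).Normal := Cfsg.Agent.Helper11.ZJ.pCore_normal' 2 X
  have hQp : IsPGroup 2 (Cfsg.pCore 2 X) := Cfsg.Agent.Helper11.ZJ.isPGroup_pCore'
  have hchar := centralizer_pCore_le hc hO
  obtain ⟨hcomm, hexp⟩ := Cfsg.Agent.S4208.frattini_quot_props (P := ↥(Cfsg.pCore 2 X)) hQp
  let c : X →* MulAut (↥(Cfsg.pCore 2 X) ⧸ frattini ↥(Cfsg.pCore 2 X)) :=
    (Cfsg.Agent.S4208.quotAut (frattini ↥(Cfsg.pCore 2 X))).comp MulAut.conjNormal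
  have hc_mk : ∀ (x : X) (q : ↥(Cfsg.pCore 2 X)),
      c x (q : ↥(Cfsg.pCore 2 X) ⧸ frattini ↥(Cfsg.pCore 2 X)) =
        ((MulAut.conjNormal x q : ↥(Cfsg.pCore 2 X)) :
          ↥(Cfsg.pCore 2 X) ⧸ frattini ↥(Cfsg.pCore 2 X)) := fun x q => rfl
  -- (i) `O₂(X)` acts trivially
  have hker1 : ∀ x ∈ Cfsg.pCore 2 X, c x = 1 := by
    intro x hx
    ext a
    induction a using QuotientGroup.induction_on with | _ q => ?_
    rw [hc_mk]
    have e1 : (MulAut.conjNormal x q : ↥(Cfsg.pCore 2 X)) =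
        (⟨x, hx⟩ : ↥(Cfsg.pCore 2 X)) * q * (⟨x, hx⟩ : ↥(Cfsg.pCore 2 X))⁻¹ := by
      apply Subtype.ext
      rw [MulAut.conjNormal_apply]
      rfl
    rw [e1, QuotientGroup.mk_mul, QuotientGroup.mk_mul, QuotientGroup.mk_inv,
      hcomm _ (q : ↥(Cfsg.pCore 2 X) ⧸ frattini ↥(Cfsg.pCore 2 X)), mul_inv_cancel_right]
    rfl
  -- (ii) the kernel is a 2-group
  have hker2 : ∀ x : X, c x = 1 → x ∈ Cfsg.pCore 2 X := by
    have hKp : IsPGroup 2 c.ker := by
      intro g
      obtain ⟨k, hk⟩ := g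
      set a := (orderOf k).factorization 2 with ha
      have hcop : Nat.Coprime (orderOf (k ^ (2 ^ a))) 2 :=
        Cfsg.Agent.Helper2.coprime_orderOf_pow_ordProj (p := 2) k
      have hk' : k ^ (2 ^ a) ∈ c.ker := Subgroup.pow_mem _ hk _
      have hBK : Subgroup.zpowers (k ^ (2 ^ a)) ≤ c.ker := Subgroup.zpowers_le.mpr hk'
      have hBcard : (Nat.card (Subgroup.zpowers (k ^ (2 ^ a)))).Coprime 2 := by
        rw [Nat.card_zpowers]; exact hcop
      have hBN : Subgroup.zpowers (k ^ (2 ^ a)) ≤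
          Subgroup.normalizer ((Cfsg.pCore 2 X : Subgroup X) : Set X) := by
        rw [Subgroup.normalizer_eq_top]; exact le_top
      have hBcomm : ⁅Cfsg.pCore 2 X, Subgroup.zpowers (k ^ (2 ^ a))⁆ ≤
          (frattini ↥(Cfsg.pCore 2 X)).map (Cfsg.pCore 2 X).subtype := by
        rw [Subgroup.commutator_le]
        intro q hq b hb
        have hbker : MulAut.conjNormal b ∈
            (Cfsg.Agent.S4208.quotAut (frattini ↥(Cfsg.pCore 2 X))).ker := by
          have := hBK hb
          rw [MonoidHom.mem_ker] at this ⊢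
          exact this
        have hmem := Cfsg.Agent.S4208.mem_ker_quotAut (frattini ↥(Cfsg.pCore 2 X))
          (MulAut.conjNormal b) hbker ⟨q, hq⟩
        refine ⟨(MulAut.conjNormal b (⟨q, hq⟩ : ↥(Cfsg.pCore 2 X)) *
          (⟨q, hq⟩ : ↥(Cfsg.pCore 2 X))⁻¹)⁻¹, Subgroup.inv_mem _ hmem, ?_⟩
        simp only [Subgroup.subtype_apply, Subgroup.coe_inv, Subgroup.coe_mul,
          MulAut.conjNormal_apply, commutatorElement_def]
        group
      have hQB := Cfsg.Agent.Helper24.le_centralizer_of_commutator_le_frattini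
        (Cfsg.pCore 2 X) (Subgroup.zpowers (k ^ (2 ^ a))) hQp hBcard hBN hBcomm
      have hk'C : k ^ (2 ^ a) ∈ Subgroup.centralizer ((Cfsg.pCore 2 X : Subgroup X) : Set X) := by
        rw [Subgroup.mem_centralizer_iff]
        intro q hq
        have := hQB hq
        rw [Subgroup.mem_centralizer_iff] at this
        exact (this _ (Subgroup.mem_zpowers _)).symm
      have hk'Q : k ^ (2 ^ a) ∈ Cfsg.pCore 2 X := hchar hk'C
      obtain ⟨n, hn⟩ := hQp ⟨k ^ (2 ^ a), hk'Q⟩
      refine ⟨a + n, ?_⟩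
      apply Subtype.ext
      have hn' := congrArg Subtype.val hn
      simp only [Subgroup.coe_pow, Subgroup.coe_one] at hn' ⊢
      rw [pow_add, pow_mul]
      exact hn'
    have hKle : c.ker ≤ Cfsg.pCore 2 X :=
      Cfsg.Agent.Helper11.ZJ.le_pCore' (MonoidHom.normal_ker c) hKp
    intro x hx
    exact hKle (MonoidHom.mem_ker.mpr hx)
  -- (iii) the Frattini quotient has order at most `2 ^ 4`
  have hAp : IsPGroup 2 (↥(Cfsg.pCore 2 X) ⧸ frattini ↥(Cfsg.pCore 2 X)) :=
    hQp.to_quotient _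
  obtain ⟨e, hcard⟩ := IsPGroup.iff_card.mp hAp
  have he : e ≤ 4 := by
    have hN : ((frattini ↥(Cfsg.pCore 2 X)).subgroupOf ⊤).Normal := inferInstance
    have hPR := h4 ⊤ ((frattini ↥(Cfsg.pCore 2 X)).subgroupOf ⊤)
    let iso : (↥(⊤ : Subgroup ↥(Cfsg.pCore 2 X)) ⧸ (frattini ↥(Cfsg.pCore 2 X)).subgroupOf ⊤) ≃*
        (↥(Cfsg.pCore 2 X) ⧸ frattini ↥(Cfsg.pCore 2 X)) :=
      QuotientGroup.congr _ _ Subgroup.topEquiv (by
        ext x
        simp [Subgroup.mem_map, Subgroup.mem_subgroupOf])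
    have hcommT : ∀ a b : (↥(⊤ : Subgroup ↥(Cfsg.pCore 2 X)) ⧸
        (frattini ↥(Cfsg.pCore 2 X)).subgroupOf ⊤), a * b = b * a := by
      intro a b
      apply iso.injective
      rw [map_mul, map_mul]
      exact hcomm _ _
    have hexpT : ∀ a : (↥(⊤ : Subgroup ↥(Cfsg.pCore 2 X)) ⧸
        (frattini ↥(Cfsg.pCore 2 X)).subgroupOf ⊤), a ^ 2 = 1 := by
      intro a
      apply iso.injective
      rw [map_pow, map_one]
      exact hexp _
    have hle := hPR ⊤ ⟨⟨fun a b => Subtype.ext (hcommT _ _)⟩⟩ (fun a _ => hexpT a)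
    rw [Subgroup.card_top, Nat.card_congr iso.toEquiv, hcard] at hle
    exact (Nat.pow_le_pow_iff_right (by norm_num)).mp hle
  obtain ⟨φ, hφ⟩ := exists_hom_GL4 hcomm hexp e hcard he c
  obtain ⟨iso8⟩ := Cfsg.Agent.S0256.result (F := ZMod 2) (by simp [ZMod.card])
  let F : X →* ↥(alternatingGroup (Fin 8)) :=
    iso8.toMonoidHom.comp ((QuotientGroup.mk' (Subgroup.center
      (Matrix.SpecialLinearGroup (Fin 4) (ZMod 2)))).comp (glToSL.comp φ))
  have hF : ∀ x : X, F x = 1 ↔ x ∈ Cfsg.pCore 2 X := by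
    intro x
    have h1 : F x = 1 ↔ φ x = 1 := by
      constructor
      · intro h
        have h2 : iso8 ((QuotientGroup.mk' (Subgroup.center
            (Matrix.SpecialLinearGroup (Fin 4) (ZMod 2)))) (glToSL (φ x))) = iso8 1 := by
          rw [map_one]; exact h
        have h3 := iso8.injective h2
        have h4' : (QuotientGroup.mk' (Subgroup.center
            (Matrix.SpecialLinearGroup (Fin 4) (ZMod 2)))) (glToSL (φ x)) =
            (QuotientGroup.mk' (Subgroup.center
            (Matrix.SpecialLinearGroup (Fin 4) (ZMod 2)))) 1 := by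
          rw [map_one]; exact h3
        have h5 := mk_injective h4'
        have h6 : glToSL (φ x) = glToSL 1 := by rw [map_one]; exact h5
        exact glToSL_injective h6
      · intro h
        show iso8 ((QuotientGroup.mk' (Subgroup.center
            (Matrix.SpecialLinearGroup (Fin 4) (ZMod 2)))) (glToSL (φ x))) = 1
        rw [h, map_one, map_one, map_one]
    rw [h1, hφ]
    exact ⟨hker2 x, hker1 x⟩
  refine ⟨QuotientGroup.lift (Cfsg.pCore 2 X) F (fun x hx => (hF x).mpr hx), ?_⟩
  rw [injective_iff_map_eq_one]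
  intro a
  induction a using QuotientGroup.induction_on with | _ x => ?_
  intro h
  rw [QuotientGroup.eq_one_iff]
  exact (hF x).mp h

end Cfsg.Agent.S3103
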