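import Cfsg.Statements.S3116
import Mathlib

set_option autoImplicit false
open Cfsg

namespace Cfsg.Agent.S3116

variable {X : Type*} [Group X]

theorem fix_of_odd (hX : IsPGroup 2 X) (φ : MulAut X) (m : ℕ) (hm : Odd m) (hφ : φ ^ m = 1) (h : X)
    (hc : φ (h⁻¹ * φ h) = h⁻¹ * φ h) : φ h = h := by
  set c := h⁻¹ * φ h with hcdef
  have hφh : φ h = h * c := by rw [hcdef]; group
  have hpow : ∀ j : ℕ, (φ ^ j) h = h * c ^ j := by
    intro j
    induction j with
    | zero => simp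
    | succ j ih =>
      rw [pow_succ', MulAut.mul_apply, ih, map_mul, map_pow, hc, hφh, mul_assoc, ← pow_succ']
  have h1 := hpow m
  rw [hφ, MulAut.one_apply] at h1
  have hcm : c ^ m = 1 := by
    have : h * c ^ m = h * 1 := by rw [mul_one]; exact h1.symm
    exact mul_left_cancel this
  obtain ⟨k, hk⟩ := hX c
  have hc1 : c = 1 := by
    have hcop : Nat.Coprime m (2 ^ k) := Nat.Coprime.pow_right k (Nat.coprime_two_right.mpr hm)
    have := pow_gcd_eq_one.mpr ⟨hcm, hk⟩
    rwa [hcop, pow_one] at this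
  rw [hφh, hc1, mul_one]

theorem aut_isPGroup [Finite X] (hX : IsPGroup 2 X) (x y : X)
    (h1 : ∀ ψ : MulAut X, ψ x ∈ Subgroup.zpowers x)
    (h2 : y ∉ Subgroup.zpowers x)
    (h3 : ∀ g : X, g ∈ Subgroup.zpowers x ∨ y⁻¹ * g ∈ Subgroup.zpowers x) :
    IsPGroup 2 (MulAut X) := by
  have key : ∀ (φ : MulAut X) (m : ℕ), Odd m → φ ^ m = 1 → φ = 1 := by
    intro φ m hm hφ
    obtain ⟨a, ha⟩ := Subgroup.mem_zpowers_iff.mp (h1 φ)
    obtain ⟨k, hk⟩ := hX x
    have hP : ∀ j : ℕ, j ≤ k → φ (x ^ 2 ^ (k - j)) = x ^ 2 ^ (k - j) := by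
      intro j
      induction j with
      | zero => intro _; simp [hk]
      | succ j ih =>
        intro hj
        have ih' := ih (by omega)
        set g := x ^ 2 ^ (k - (j+1)) with hg
        have hg2 : g ^ 2 = x ^ 2 ^ (k - j) := by
          rw [hg, ← pow_mul, ← pow_succ]; congr 2; omega
        have hφg2 : φ (g ^ 2) = g ^ 2 := by rw [hg2]; exact ih'
        have hφg : φ g = g ^ a := by
          rw [hg, map_pow, ← ha, ← zpow_natCast, ← zpow_mul, ← zpow_natCast, ← zpow_mul, mul_comm]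
        rcases Int.even_or_odd' a with ⟨b, hb | hb⟩
        · have h4 : φ g = (g ^ 2) ^ b := by rw [hφg, hb, zpow_mul, zpow_ofNat]
          have hfix : φ (φ g) = φ g := by rw [h4, map_zpow, hφg2]
          exact φ.injective hfix
        · apply fix_of_odd hX φ m hm hφ
          have h4 : g⁻¹ * φ g = (g ^ 2) ^ b := by
            rw [hφg, hb, zpow_add, zpow_one, zpow_mul, zpow_ofNat]; group
          rw [h4, map_zpow, hφg2]
    have hx : φ x = x := by simpa using hP k le_rfl
    have hC : ∀ c ∈ Subgroup.zpowers x, φ c = c := by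
      intro c hc
      obtain ⟨i, rfl⟩ := Subgroup.mem_zpowers_iff.mp hc
      rw [map_zpow, hx]
    have hy : φ y = y := by
      apply fix_of_odd hX φ m hm hφ
      apply hC
      rcases h3 (φ y) with h | h
      · exfalso
        apply h2
        obtain ⟨i, hi⟩ := Subgroup.mem_zpowers_iff.mp h
        have h5 : y = (φ⁻¹ x) ^ i := by
          rw [← map_zpow, hi]; simp
        rw [h5]
        exact Subgroup.zpow_mem _ (h1 φ⁻¹) i
      · exact h
    ext g
    rcases h3 g with h | h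
    · simpa using hC g h
    · have h6 : g = y * (y⁻¹ * g) := by group
      rw [h6, map_mul, hy, hC _ h]; simp
  intro ψ
  have hpos : 0 < orderOf ψ := orderOf_pos ψ
  obtain ⟨j, m, hm, hjm⟩ := Nat.exists_eq_two_pow_mul_odd (Nat.pos_iff_ne_zero.mp hpos)
  refine ⟨j, ?_⟩
  apply key (ψ ^ 2 ^ j) m hm
  rw [← pow_mul, ← hjm, pow_orderOf_eq_one]

theorem dihedral_case (n : ℕ) (hn : 4 ≤ n) (h2 : IsPGroup 2 (DihedralGroup n)) :
    IsPGroup 2 (MulAut (DihedralGroup n)) := by
  have : NeZero n := ⟨by omega⟩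
  have hr : ∀ i : ZMod n, DihedralGroup.r i ∈ Subgroup.zpowers (DihedralGroup.r (1 : ZMod n)) := by
    intro i
    rw [Subgroup.mem_zpowers_iff]
    refine ⟨(i.val : ℤ), ?_⟩
    rw [zpow_natCast, DihedralGroup.r_one_pow, ZMod.natCast_zmod_val]
  apply aut_isPGroup h2 (DihedralGroup.r 1) (DihedralGroup.sr 0)
  · intro ψ
    have ho : orderOf (ψ (DihedralGroup.r 1)) = n := by
      rw [MulEquiv.orderOf_eq, DihedralGroup.orderOf_r_one]
    rcases hψ : ψ (DihedralGroup.r 1) with i | i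
    · exact hr i
    · exfalso
      rw [hψ, DihedralGroup.orderOf_sr] at ho
      omega
  · intro h
    obtain ⟨i, hi⟩ := Subgroup.mem_zpowers_iff.mp h
    rw [DihedralGroup.r_one_zpow] at hi
    cases hi
  · intro g
    rcases g with i | i
    · left; exact hr i
    · right
      rw [DihedralGroup.inv_sr, DihedralGroup.sr_mul_sr]
      exact hr _

theorem quasi_case [Finite X] (hX : IsPGroup 2 X) (h : Cfsg.IsQuasiDihedral X) : IsPGroup 2 (MulAut X) := by
  obtain ⟨n, hn, hcard, x, y, hx, hy, hyx⟩ := h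
  have hy2 : y * y = 1 := by
    have := pow_orderOf_eq_one y
    rwa [hy, pow_two] at this
  have hyinv : y⁻¹ = y := inv_eq_of_mul_eq_one_left hy2
  have hpow_lt : 2 ^ (n - 1) - 1 < 2 ^ n := by
    have : 2 ^ (n - 1) ≤ 2 ^ n := Nat.pow_le_pow_right (by norm_num) (by omega)
    have : 0 < 2 ^ (n - 1) := by positivity
    omega
  have h4 : 4 ≤ 2 ^ (n - 1) := by
    calc 4 = 2 ^ 2 := by norm_num
      _ ≤ 2 ^ (n - 1) := Nat.pow_le_pow_right (by norm_num) (by omega)
  have hynot : y ∉ Subgroup.zpowers x := by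
    intro hmem
    obtain ⟨i, hi⟩ := Subgroup.mem_zpowers_iff.mp hmem
    have hcomm : y * x = x * y := by
      rw [← hi]; group
    have h5 : x ^ (2 ^ (n - 1) - 1) = x ^ 1 := by
      rw [← hyx, hcomm, mul_assoc, mul_inv_cancel, mul_one, pow_one]
    have h5' : 2 ^ (n - 1) - 1 ≡ 1 [MOD 2 ^ n] := by
      rw [← hx]; exact pow_eq_pow_iff_modEq.mp h5
    have h1n : 1 < 2 ^ n := by
      have : 2 ^ (n - 1) ≤ 2 ^ n := Nat.pow_le_pow_right (by norm_num) (by omega)
      omega
    have h6 := Nat.ModEq.eq_of_lt_of_lt h5' hpow_lt h1n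
    omega
  have hindex : (Subgroup.zpowers x).index = 2 := by
    have h5 := Subgroup.card_mul_index (Subgroup.zpowers x)
    rw [Nat.card_zpowers, hx, hcard, pow_succ] at h5
    exact Nat.eq_of_mul_eq_mul_left (by positivity) h5
  have h3 : ∀ g : X, g ∈ Subgroup.zpowers x ∨ y⁻¹ * g ∈ Subgroup.zpowers x := by
    intro g
    by_cases hg : g ∈ Subgroup.zpowers x
    · left; exact hg
    · right
      rw [Subgroup.mul_mem_iff_of_index_two hindex]
      constructor
      · intro h5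
        exact absurd ((Subgroup.inv_mem_iff _).mp h5) hynot
      · intro h5
        exact absurd h5 hg
  apply aut_isPGroup hX x y _ hynot h3
  intro ψ
  by_contra hψ
  have h5 : y⁻¹ * ψ x ∈ Subgroup.zpowers x := (h3 (ψ x)).resolve_left hψ
  obtain ⟨i, hi⟩ := Subgroup.mem_zpowers_iff.mp h5
  have h6 : ψ x = y * x ^ i := by
    rw [hi, hyinv, ← mul_assoc, hy2, one_mul]
  -- conjugation of powers
  have hconj : ∀ j : ℤ, y * x ^ j * y⁻¹ = (x ^ (2 ^ (n - 1) - 1)) ^ j := by
    intro j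
    rw [← hyx]
    exact (conj_zpow (a := y) (b := x) (i := j)).symm
  have hsq : (ψ x) ^ 2 = (x ^ (2 ^ (n - 1))) ^ i := by
    have e1 : (y * x ^ i) ^ 2 = (y * x ^ i * y⁻¹) * x ^ i := by
      rw [pow_two, hyinv]
      group
    rw [h6, e1, hconj, ← zpow_natCast, ← zpow_mul, ← zpow_add, ← zpow_natCast x (2 ^ (n-1)), ← zpow_mul]
    congr 1
    have : ((2 ^ (n - 1) - 1 : ℕ) : ℤ) = 2 ^ (n - 1) - 1 := by
      rw [Nat.cast_sub (by omega)]; simp
    rw [this]; push_cast; ring
  have h4' : (ψ x) ^ 4 = 1 := by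
    have : (ψ x) ^ 4 = ((ψ x) ^ 2) ^ 2 := by rw [← pow_mul]
    rw [this, hsq, ← zpow_natCast, ← zpow_mul, mul_comm, zpow_mul, zpow_natCast, ← pow_mul]
    have : 2 ^ (n - 1) * 2 = 2 ^ n := by
      rw [← pow_succ]; congr 1; omega
    rw [this, ← hx, pow_orderOf_eq_one, one_zpow]
  have h7 : orderOf (ψ x) ∣ 4 := orderOf_dvd_of_pow_eq_one h4'
  rw [MulEquiv.orderOf_eq, hx] at h7
  have h8 : 2 ^ n ≤ 4 := Nat.le_of_dvd (by norm_num) h7
  have h9 : 2 ^ 3 ≤ 2 ^ n := Nat.pow_le_pow_right (by norm_num) hn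
  omega

/-- The automorphism group of a dihedral 2-group of order at least 8, or of a quasi-dihedral (semidihedral) 2-group of order at least 16, is a 2-group. -/
theorem result {X : Type*} [Group X] [Finite X] (h2 : IsPGroup 2 X)
    (h : (∃ n : ℕ, 4 ≤ n ∧ Nonempty (X ≃* DihedralGroup n)) ∨ Cfsg.IsQuasiDihedral X) : IsPGroup 2 (MulAut X) := by
  rcases h with ⟨n, hn, ⟨e⟩⟩ | h
  · have h3 : IsPGroup 2 (DihedralGroup n) := h2.of_equiv e
    have h4 := dihedral_case n hn h3
    exact h4.of_equiv (MulAut.congr e).symm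
  · exact quasi_case h2 h

end Cfsg.Agent.S3116
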