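-- Statement S3117 (helper52): Konvisser - the automorphism group of a 2-group with exactly three
-- involutions is solvable.  Proof (Lib/Helper52/Konv*): a minimal perfect group B of automorphisms
-- centralizes every proper B-invariant subgroup, so squares and involutions are central and fixed; on
-- X/Z the squaring map is a B-invariant anisotropic quadratic map to a group of order <= 4, whence
-- |X/Z| <= 16 and B acts trivially on X/Z, which makes B a 2-group.
import Cfsg.Statements.S3117
import Cfsg.Agent.Lib.Helper52.KonvMain

set_option autoImplicit false
open Cfsg

namespace Cfsg.Agent.S3117

/-- If X is a finite 2-group containing exactly three involutions, then the automorphism group of X is solvable. -/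
theorem result {X : Type*} [Group X] [Finite X] (h2 : IsPGroup 2 X) (h3 : Nat.card {x : X // orderOf x = 2} = 3) : Group.IsSolvable (MulAut X) := by
  exact Cfsg.Agent.Helper52.Konv.aut_solvable h2 h3

end Cfsg.Agent.S3117
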