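import Cfsg.Statements.S3125
import Cfsg.Agent.S1991
import Cfsg.Agent.Lib.Helper3.CharBurnside

set_option autoImplicit false
open Cfsg

namespace Cfsg.Agent.S3125

/-- Let G be a finite group such that, for every prime p dividing the order of G, every Sylow p-subgroup of G is its own normalizer. Then G is not a non-abelian simple group. -/
theorem result {G : Type*} [Group G] [Finite G]
    (h : ∀ p : ℕ, p.Prime → p ∣ Nat.card G → ∀ P : Sylow p G, Subgroup.normalizer ((P : Subgroup G) : Set G) = P) :
    ¬ (IsSimpleGroup G ∧ ¬ IsMulCommutative G) := by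
  rintro ⟨hs, hna⟩
  by_cases hex : ∃ p : ℕ, p.Prime ∧ 5 ≤ p ∧ p ∣ Nat.card G
  · obtain ⟨p, hp, hp5, hpd⟩ := hex
    haveI : Fact p.Prime := ⟨hp⟩
    let S : Sylow p G := default
    have hS : (S : Subgroup G) ≠ ⊥ := by
      intro h0
      have hc : Nat.card (S : Subgroup G) = 1 := by rw [h0]; exact Subgroup.card_bot
      have hdvd : p ∣ Nat.card (S : Subgroup G) := by
        rw [Sylow.card_eq_multiplicity]
        have hpos : 0 < (Nat.card G).factorization p :=
          (Nat.Prime.factorization_pos_of_dvd hp Nat.card_pos.ne' hpd)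
        exact dvd_pow_self p hpos.ne'
      rw [hc] at hdvd
      exact hp.one_lt.ne' (Nat.dvd_one.mp hdvd)
    have hN : ∀ g ∈ Subgroup.normalizer (((S : Subgroup G) : Subgroup G) : Set G),
        (orderOf g).Coprime p → g ∈ Subgroup.centralizer (((S : Subgroup G) : Subgroup G) : Set G) := by
      intro g hg hco
      rw [h p hp hpd S] at hg
      have hg1 : g = 1 := by
        obtain ⟨k, hk⟩ := (S.isPGroup') ⟨g, hg⟩
        have hk' : g ^ p ^ k = 1 := by simpa using congrArg Subtype.val hk
        have h1 : orderOf g ∣ p ^ k := orderOf_dvd_of_pow_eq_one hk'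
        have h2 : (orderOf g).Coprime (p ^ k) := Nat.Coprime.pow_right k hco
        have h3 : orderOf g = 1 := Nat.Coprime.eq_one_of_dvd h2 h1
        exact orderOf_eq_one_iff.mp h3
      rw [hg1]
      exact Subgroup.one_mem _
    obtain ⟨N, hNn, hNi⟩ := Cfsg.Agent.S1991.result hp5 S hS hN
    rcases hNn.eq_bot_or_eq_top with hb | ht
    · -- `|G| = p`, so `G` is cyclic, hence commutative
      have hcard : Nat.card G = p := by
        rw [← hNi, hb, Subgroup.index_bot]
      have hcyc : IsCyclic G := isCyclic_of_prime_card hcard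
      exact hna hcyc.isMulCommutative
    · rw [ht, Subgroup.index_top] at hNi
      exact hp.one_lt.ne hNi
  · push Not at hex
    have hn : Nat.card G ≠ 0 := Nat.card_pos.ne'
    have hsupp : (Nat.card G).factorization.support ⊆ ({2, 3} : Finset ℕ) := by
      intro q hq
      have hqp : q.Prime := Nat.prime_of_mem_primeFactors (by simpa using hq)
      have hqd : q ∣ Nat.card G := Nat.dvd_of_mem_primeFactors (by simpa using hq)
      have hlt : q < 5 := by
        by_contra hge
        exact hex q hqp (not_lt.mp hge) hqd
      have h2 : 2 ≤ q := hqp.two_le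
      interval_cases q
      · simp
      · simp
      · exact absurd hqp (by decide)
    have hprod := Nat.prod_factorization_pow_eq_self hn
    rw [Finsupp.prod_of_support_subset _ hsupp _ (by intro i _; simp)] at hprod
    rw [Finset.prod_pair (by decide)] at hprod
    have hsol : Group.IsSolvable G :=
      Cfsg.Agent.Helper3.burnside_paqb 2 3 _ _ Nat.prime_two Nat.prime_three hprod.symm
    apply hna
    have hcomm : ∀ a b : G, a * b = b * a := IsSimpleGroup.comm_iff_isSolvable.mpr hsol
    exact ⟨⟨hcomm⟩⟩

end Cfsg.Agent.S3125
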