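import Cfsg.Statements.S3155
import Mathlib

set_option autoImplicit false
open Cfsg

namespace Cfsg.Agent.S3155

/-- Let B be the direct product of three cyclic groups of order 4. Then the automorphism of B inverting every element is not the square of any automorphism of B. -/
theorem result {B : Type*} [CommGroup B] [Finite B] (hB : Nonempty (B ≃* Multiplicative (ZMod 4 × ZMod 4 × ZMod 4)))
    (τ : B ≃* B) : τ.trans τ ≠ MulEquiv.inv B := by
  obtain ⟨e⟩ := hB
  intro h
  have : Fact (1 < 4) := ⟨by norm_num⟩
  let σ : Multiplicative (ZMod 4 × ZMod 4 × ZMod 4) →* Multiplicative (ZMod 4 × ZMod 4 × ZMod 4) :=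
    (e.toMonoidHom.comp τ.toMonoidHom).comp e.symm.toMonoidHom
  have hσ : ∀ m, σ (σ m) = m⁻¹ := by
    intro m
    have h1 : τ (τ (e.symm m)) = (e.symm m)⁻¹ := by
      have := DFunLike.congr_fun h (e.symm m)
      simpa using this
    simp only [σ, MonoidHom.comp_apply, MulEquiv.coe_toMonoidHom, MulEquiv.symm_apply_apply, h1,
      map_inv, MulEquiv.apply_symm_apply]
  let f : (ZMod 4 × ZMod 4 × ZMod 4) →+ (ZMod 4 × ZMod 4 × ZMod 4) :=
    AddMonoidHom.toMultiplicative.symm σ
  have hf : ∀ m, f (f m) = -m := by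
    intro m
    have := hσ (Multiplicative.ofAdd m)
    exact this
  let g := f.toZModLinearMap 4
  have hg : g ∘ₗ g = (-1 : ZMod 4) • LinearMap.id := by
    apply LinearMap.ext
    intro m
    simp only [LinearMap.comp_apply, LinearMap.smul_apply, LinearMap.id_apply, neg_smul, one_smul]
    exact hf m
  have hdet := congrArg LinearMap.det hg
  rw [LinearMap.det_comp, LinearMap.det_smul, LinearMap.det_id] at hdet
  have hrank : Module.finrank (ZMod 4) (ZMod 4 × ZMod 4 × ZMod 4) = 3 := by
    simp [Module.finrank_prod]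
  rw [hrank] at hdet
  have key : ∀ x : ZMod 4, x * x ≠ (-1) ^ 3 * 1 := by decide
  exact key _ hdet

end Cfsg.Agent.S3155
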