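import Cfsg.Statements.S3156
import Mathlib
import Cfsg.Agent.Lib.Helper39.UAutE
import Cfsg.Agent.Lib.Helper39.UAutF

set_option autoImplicit false
open Cfsg

namespace Cfsg.Agent.S3156

/-- If a finite group T is isomorphic to a Sylow 2-subgroup of the projective special unitary group of dimension 3 with parameter 4 (realised over the field with 16 elements), then no subgroup of the automorphism group of T is isomorphic to the symmetric group of degree 3. -/
theorem result {T : Type*} [Group T] [Finite T] (hT : (∃ (F : Type) (_ : Field F) (_ : Fintype F), Fintype.card F = 16 ∧ ∃ S : Sylow 2 (Cfsg.PSU 3 F 4), Nonempty (T ≃* ↥(S : Subgroup (Cfsg.PSU 3 F 4))))) (H : Subgroup (MulAut T)) : ¬ Nonempty (↥H ≃* Equiv.Perm (Fin 3)) := by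
  classical
  obtain ⟨F, _, _, hF, S, ⟨e0⟩⟩ := hT
  have hK : Fintype.card F = 4 ^ 2 := by rw [hF]; norm_num
  have hq : (4 : ℕ) = 2 ^ 2 := by norm_num
  haveI : CharP F 2 := Cfsg.Agent.Helper39.UAut.charP_two_of_card hK hq (by norm_num)
  obtain ⟨-, ⟨e1⟩⟩ := Cfsg.Agent.Helper63.SU3.sylow_PSU3_mulEquiv hK hq (by norm_num) S
  have hy := Cfsg.Agent.Helper39.UAut.uHyp_frobQ hK
  have hcardK : Nat.card F = 2 ^ (2 * 2) := by
    rw [Nat.card_eq_fintype_card, hF]
    norm_num
  rintro ⟨ψ⟩
  let e := e0.trans e1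
  let Θ : Equiv.Perm (Fin 3) →* MulAut (Cfsg.Agent.Helper63.SuzModel.UM _ _) :=
    (MulAut.congr e).toMonoidHom.comp (H.subtype.comp ψ.symm.toMonoidHom)
  have hΘ : Function.Injective Θ := by
    intro x y hxy
    have h1 : (MulAut.congr e) ((ψ.symm x : ↥H) : MulAut T) =
        (MulAut.congr e) ((ψ.symm y : ↥H) : MulAut T) := hxy
    have h2 := (MulAut.congr e).injective h1
    exact ψ.symm.injective (Subtype.ext h2)
  let c : Equiv.Perm (Fin 3) := c[0, 1, 2]
  let s : Equiv.Perm (Fin 3) := Equiv.swap 0 1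
  have hc1 : c ≠ 1 := by decide
  have hc3 : c ^ 3 = 1 := by decide
  have hs2 : s ^ 2 = 1 := by decide
  have hcs : c * s * c = s := by decide
  apply Cfsg.Agent.Helper39.UAut.no_S3 hy hcardK hq (Θ c) (Θ s)
  · intro h
    apply hc1
    apply hΘ
    rw [h, map_one]
  · rw [← map_pow, hc3, map_one]
  · rw [← map_pow, hs2, map_one]
  · rw [← map_mul, ← map_mul, hcs]

end Cfsg.Agent.S3156
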