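import Cfsg.Statements.S3157
import Mathlib
import Cfsg.Agent.Lib.Helper39.T64F

set_option autoImplicit false
open Cfsg

namespace Cfsg.Agent.S3157

open Cfsg.Agent.Helper39.T64A Cfsg.Agent.Helper39.T64B Cfsg.Agent.Helper39.T64C
  Cfsg.Agent.Helper39.T64F

/-- Let T be a non-abelian group of order 64 admitting automorphisms ρ of order 3 and x of order 2 with x ρ x⁻¹ = ρ⁻¹ (so they generate a symmetric group of degree 3), where ρ fixes only the identity. Then T is isomorphic to a Sylow 2-subgroup of the projective special linear group of dimension 3 over the field with 4 elements, and the subgroup of fixed points of x is dihedral of order 8 or quaternion of order 8. -/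
theorem result {T : Type*} [Group T] [Finite T] (hT : Nat.card T = 64) (hna : ¬ IsMulCommutative T) (ρ x : MulAut T) (hρ : orderOf ρ = 3) (hx : orderOf x = 2)
    (hxr : x * ρ * x⁻¹ = ρ⁻¹) (hfp : ∀ y : T, ρ y = y → y = 1) (C : Subgroup T) (hC : ∀ y : T, y ∈ C ↔ x y = y) :
    (∃ (F : Type) (_ : Field F) (_ : Fintype F), Fintype.card F = 4 ∧
        ∃ S : Sylow 2 (Matrix.ProjectiveSpecialLinearGroup (Fin 3) F), Nonempty (T ≃* ↥(S : Subgroup (Matrix.ProjectiveSpecialLinearGroup (Fin 3) F)))) ∧
      (Nonempty (↥C ≃* DihedralGroup 4) ∨ Nonempty (↥C ≃* QuaternionGroup 2)) := by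
  have hna' : ∃ a b : T, a * b ≠ b * a := by
    by_contra h
    push Not at h
    exact hna (IsMulCommutative.of_comm h)
  have hρ3 : ∀ g, ρ (ρ (ρ g)) = g := by
    intro g
    have h := pow_orderOf_eq_one ρ
    rw [hρ] at h
    have := DFunLike.congr_fun h g
    simpa [pow_succ, MulAut.mul_apply] using this
  have hxx : ∀ g, x (x g) = g := by
    intro g
    have h := pow_orderOf_eq_one x
    rw [hx] at h
    have := DFunLike.congr_fun h g
    simpa [pow_succ, MulAut.mul_apply] using this
  have hxr' : ∀ g, x (ρ g) = ρ (ρ (x g)) := by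
    intro g
    have h1 : x * ρ = ρ⁻¹ * x := by
      rw [← hxr]; group
    have h2 := DFunLike.congr_fun h1 g
    rw [MulAut.mul_apply, MulAut.mul_apply] at h2
    rw [h2, MulAut.inv_apply, MulEquiv.symm_apply_eq, hρ3]
  have X : XSetup ρ x :=
    { card := hT, na := hna', fpf3 := ⟨hρ3, hfp⟩, xx := hxx, xr := hxr' }
  refine ⟨?_, fixed_dihedral_or_quaternion X C hC⟩
  obtain ⟨a, haZ, haa⟩ := X.exists_involution
  obtain ⟨b, hbb, hab⟩ := exists_second X.toSetup haZ haa
  have hF : Nat.card (GaloisField 2 2) = 2 ^ 2 := GaloisField.card 2 2 (by norm_num)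
  letI : Fintype (GaloisField 2 2) := Fintype.ofFinite _
  have hF' : Fintype.card (GaloisField 2 2) = 4 := by
    rw [← Nat.card_eq_fintype_card, hF]; norm_num
  obtain ⟨P, hP⟩ := exists_iso_sylow X.toSetup haa hbb hab hF'
  exact ⟨GaloisField 2 2, inferInstance, inferInstance, hF', P, hP⟩

end Cfsg.Agent.S3157
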