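import Cfsg.Statements.S3158
import Mathlib

set_option autoImplicit false
open Cfsg

namespace Cfsg.Agent.S3158

/-- A nontrivial normal subgroup of even order in a finite 2-group contains a nontrivial central element. -/
theorem exists_central {U : Type*} [Group U] [Finite U] (hU : IsPGroup 2 U) (V : Subgroup U) [V.Normal]
    (hV : 2 ∣ Nat.card V) : ∃ z ∈ V, z ≠ 1 ∧ ∀ g : U, g * z = z * g := by
  have : Fact (Nat.Prime 2) := ⟨Nat.prime_two⟩
  have hC : IsPGroup 2 (ConjAct U) := hU.of_equiv ConjAct.toConjAct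
  have h1 : (1 : V) ∈ MulAction.fixedPoints (ConjAct U) V := by
    intro g
    exact smul_one g
  obtain ⟨b, hb, hne⟩ := hC.exists_fixed_point_of_prime_dvd_card_of_fixed_point V hV h1
  refine ⟨b.1, b.2, ?_, ?_⟩
  · intro h
    apply hne
    exact Subtype.ext h.symm
  · intro g
    have := hb (ConjAct.toConjAct g)
    have h2 := congrArg Subtype.val this
    rw [ConjAct.Subgroup.val_conj_smul, ConjAct.smul_def, ConjAct.ofConjAct_toConjAct] at h2
    calc g * b.1 = g * b.1 * g⁻¹ * g := by group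
      _ = b.1 * g := by rw [h2]

/-- Let U be a group of order q² with q = 2^n ≥ 2, and y an automorphism of U of order q − 1 all of whose nontrivial powers fix only the identity. Let V be a proper normal y-invariant subgroup of U such that V and U/V are elementary abelian 2-groups and there is an isomorphism from V to U/V commuting with the actions of y. Then U is abelian. -/
theorem result {U : Type*} [Group U] [Finite U] (n : ℕ) (hn : 1 ≤ n) (hU : Nat.card U = (2 ^ n) ^ 2)
    (y : MulAut U) (hy : orderOf y = 2 ^ n - 1) (hfp : ∀ k : ℕ, y ^ k ≠ 1 → ∀ u : U, (y ^ k) u = u → u = 1)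
    (V : Subgroup U) [V.Normal] (hV : V ≠ ⊤) (hyV : ∀ v ∈ V, y v ∈ V)
    (hVe : ∀ v ∈ V, v ^ 2 = 1) (hQe : ∀ u : U, u ^ 2 ∈ V) (hQc : ∀ u w : U, u * w * u⁻¹ * w⁻¹ ∈ V)
    (φ : ↥V ≃* U ⧸ V) (hφ : ∀ (v : ↥V) (u : U), (QuotientGroup.mk u : U ⧸ V) = φ v → φ ⟨y v, hyV v v.2⟩ = QuotientGroup.mk (y u)) :
    IsMulCommutative U := by
  -- S1: card V = 2 ^ n
  have hcardV : Nat.card V = 2 ^ n := by
    have h1 := Subgroup.card_eq_card_quotient_mul_card_subgroup V
    have h2 : Nat.card V = Nat.card (U ⧸ V) := Nat.card_congr φ.toEquiv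
    rw [← h2, hU, pow_two] at h1
    exact (Nat.mul_self_inj.mp h1).symm
  have hU2 : IsPGroup 2 U := IsPGroup.of_card (n := 2 * n) (by rw [hU, ← pow_mul, mul_comm])
  -- S2: powers preserve V
  have hyVk : ∀ (k : ℕ), ∀ v ∈ V, (y ^ k) v ∈ V := by
    intro k
    induction k with
    | zero => intro v hv; simpa using hv
    | succ k ih =>
      intro v hv
      rw [pow_succ', MulAut.mul_apply]
      exact hyV _ (ih v hv)
  -- S3/S4: transitivity on V \ {1}
  have htrans : ∀ v0 ∈ V, v0 ≠ 1 → ∀ v ∈ V, v ≠ 1 → ∃ k : ℕ, (y ^ k) v0 = v := by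
    intro v0 hv0 hv01 v hv hv1
    have hfin : IsOfFinOrder y := isOfFinOrder_of_finite y
    let f : ↥(Subgroup.zpowers y) → ↥((V : Set U) \ {1}) := fun g =>
      ⟨(g : MulAut U) v0, by
        obtain ⟨g, hg⟩ := g
        obtain ⟨k, rfl⟩ := (hfin.mem_powers_iff_mem_zpowers).mpr hg
        refine ⟨hyVk k v0 hv0, ?_⟩
        intro h
        apply hv01
        have h' : (y ^ k) v0 = 1 := h
        have h2 : (y ^ k) v0 = (y ^ k) 1 := by rw [h', map_one]
        exact (y ^ k).injective h2⟩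
    have hinj : Function.Injective f := by
      intro g g' hgg'
      have h1 : (g : MulAut U) v0 = (g' : MulAut U) v0 := congrArg Subtype.val hgg'
      have h2 : ((g' : MulAut U)⁻¹ * (g : MulAut U)) v0 = v0 := by
        rw [MulAut.mul_apply, h1, MulAut.inv_apply_self]
      have hmem : (g' : MulAut U)⁻¹ * (g : MulAut U) ∈ Subgroup.zpowers y :=
        (Subgroup.zpowers y).mul_mem ((Subgroup.zpowers y).inv_mem g'.2) g.2
      obtain ⟨k, hk⟩ := (hfin.mem_powers_iff_mem_zpowers).mpr hmem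
      have hk' : y ^ k = (g' : MulAut U)⁻¹ * (g : MulAut U) := hk
      by_cases h3 : y ^ k = 1
      · rw [h3] at hk'
        apply Subtype.ext
        have := hk'.symm
        rw [inv_mul_eq_one] at this
        exact this.symm
      · exfalso
        apply hv01
        apply hfp k h3
        rw [hk']; exact h2
    have hcard : Nat.card ↥((V : Set U) \ {1}) ≤ Nat.card ↥(Subgroup.zpowers y) := by
      rw [Nat.card_zpowers, hy, Nat.card_coe_set_eq, Set.ncard_sdiff_singleton_of_mem (V.one_mem)]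
      have : (V : Set U).ncard = Nat.card V := (Nat.card_coe_set_eq _).symm
      rw [this, hcardV]
    have hbij := hinj.bijective_of_nat_card_le hcard
    obtain ⟨g, hg⟩ := hbij.2 ⟨v, hv, hv1⟩
    obtain ⟨k, hk⟩ := (hfin.mem_powers_iff_mem_zpowers).mpr g.2
    refine ⟨k, ?_⟩
    have hk' : y ^ k = (g : MulAut U) := hk
    rw [hk']
    exact congrArg Subtype.val hg
  -- S5: V is central
  have hcentral : ∀ v ∈ V, ∀ g : U, g * v = v * g := by
    have h2 : 2 ∣ Nat.card V := by
      rw [hcardV]; exact dvd_pow_self 2 (by omega)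
    obtain ⟨z, hzV, hz1, hz⟩ := exists_central hU2 V h2
    intro v hv g
    by_cases hv1 : v = 1
    · rw [hv1]; simp
    · obtain ⟨k, hk⟩ := htrans z hzV hz1 v hv hv1
      rw [← hk]
      have e : g = (y ^ k) ((y ^ k)⁻¹ g) := by simp
      rw [e, ← map_mul, ← map_mul, hz]
  -- S6: iterated equivariance
  have hφk : ∀ (k : ℕ) (v : ↥V) (u : U), (QuotientGroup.mk u : U ⧸ V) = φ v →
      φ ⟨(y ^ k) v, hyVk k v v.2⟩ = QuotientGroup.mk ((y ^ k) u) := by
    intro k
    induction k with
    | zero => intro v u h; simpa using h.symm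
    | succ k ih =>
      intro v u h
      have h1 := ih v u h
      have h2 := hφ ⟨(y ^ k) v, hyVk k v v.2⟩ ((y ^ k) u) h1.symm
      have e1 : (y ^ (k + 1)) (v : U) = y ((y ^ k) v) := by rw [pow_succ', MulAut.mul_apply]
      have e2 : (y ^ (k + 1)) u = y ((y ^ k) u) := by rw [pow_succ', MulAut.mul_apply]
      rw [e2, ← h2]
      congr 1
      exact Subtype.ext e1
  -- S7: elements outside V
  obtain ⟨u0, hu0⟩ : ∃ u0 : U, u0 ∉ V := by
    by_contra hcon
    push Not at hcon
    exact hV (eq_top_iff.mpr fun x _ => hcon x)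
  have hmk_ne : ∀ u : U, u ∉ V → (QuotientGroup.mk u : U ⧸ V) ≠ 1 := by
    intro u hu h
    exact hu ((QuotientGroup.eq_one_iff u).mp h)
  set v0 : ↥V := φ.symm (QuotientGroup.mk u0) with hv0def
  have hφv0 : (QuotientGroup.mk u0 : U ⧸ V) = φ v0 := by rw [hv0def]; simp
  have hv0ne : (v0 : U) ≠ 1 := by
    intro h
    have : v0 = 1 := Subtype.ext h
    rw [this, map_one] at hφv0
    exact hmk_ne u0 hu0 hφv0
  have hdecomp : ∀ u : U, u ∉ V → ∃ (k : ℕ) (c : U), c ∈ V ∧ u = (y ^ k) u0 * c := by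
    intro u hu
    set v : ↥V := φ.symm (QuotientGroup.mk u) with hvdef
    have hφv : (QuotientGroup.mk u : U ⧸ V) = φ v := by rw [hvdef]; simp
    have hvne : (v : U) ≠ 1 := by
      intro h
      have : v = 1 := Subtype.ext h
      rw [this, map_one] at hφv
      exact hmk_ne u hu hφv
    obtain ⟨k, hk⟩ := htrans v0 v0.2 hv0ne v v.2 hvne
    have h1 := hφk k v0 u0 hφv0
    have h2 : (⟨(y ^ k) v0, hyVk k v0 v0.2⟩ : ↥V) = v := Subtype.ext hk
    rw [h2, ← hφv] at h1
    refine ⟨k, ((y ^ k) u0)⁻¹ * u, ?_, by group⟩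
    exact QuotientGroup.eq.mp h1.symm
  -- S8: squares
  have hsq : ∀ (g c : U), c ∈ V → (g * c) ^ 2 = g ^ 2 := by
    intro g c hc
    have h1 := hcentral c hc g
    have h2 := hVe c hc
    rw [pow_two] at h2
    calc (g * c) ^ 2 = g * (c * g) * c := by rw [pow_two]; group
      _ = g * (g * c) * c := by rw [h1]
      _ = g ^ 2 * (c * c) := by rw [pow_two]; group
      _ = g ^ 2 := by rw [h2, mul_one]
  have hcomm_of_sq : (∀ u w : U, (u * w) ^ 2 = u ^ 2 * w ^ 2) → IsMulCommutative U := by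
    intro h
    refine ⟨⟨fun u w => ?_⟩⟩
    have h1 := h u w
    have h2 : u * (w * u) * w = u * (u * w) * w := by
      calc u * (w * u) * w = (u * w) ^ 2 := by rw [pow_two]; group
        _ = u ^ 2 * w ^ 2 := h1
        _ = u * (u * w) * w := by rw [pow_two, pow_two]; group
    have h3 := mul_right_cancel h2
    exact (mul_left_cancel h3).symm
  by_cases hu0sq : u0 ^ 2 = 1
  · -- exponent 2
    have hall : ∀ u : U, u ^ 2 = 1 := by
      intro u
      by_cases hu : u ∈ V
      · exact hVe u hu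
      · obtain ⟨k, c, hc, rfl⟩ := hdecomp u hu
        rw [hsq _ c hc, ← map_pow, hu0sq, map_one]
    apply hcomm_of_sq
    intro u w
    rw [hall, hall, hall, mul_one]
  · -- squaring is a homomorphism
    set s0 : ↥V := ⟨u0 ^ 2, hQe u0⟩ with hs0
    have hs0ne : φ s0 ≠ 1 := by
      intro h
      have : s0 = 1 := by
        have h' : φ s0 = φ 1 := by rw [h, map_one]
        exact φ.injective h'
      exact hu0sq (congrArg Subtype.val this)
    obtain ⟨u1, hu1⟩ := QuotientGroup.mk_surjective (φ s0)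
    have hu1V : u1 ∉ V := by
      intro h
      apply hs0ne
      rw [← hu1]
      exact (QuotientGroup.eq_one_iff u1).mpr h
    obtain ⟨j, c1, hc1, hu1eq⟩ := hdecomp u1 hu1V
    have hφs0 : (QuotientGroup.mk ((y ^ j) u0) : U ⧸ V) = φ s0 := by
      rw [← hu1, hu1eq]
      symm
      rw [QuotientGroup.eq]
      have : ((y ^ j) u0 * c1)⁻¹ * (y ^ j) u0 = c1⁻¹ := by group
      rw [this]
      exact V.inv_mem hc1
    have hmain : ∀ u : U, φ ⟨u ^ 2, hQe u⟩ = QuotientGroup.mk ((y ^ j) u) := by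
      intro u
      by_cases hu : u ∈ V
      · have h1 : (⟨u ^ 2, hQe u⟩ : ↥V) = 1 := Subtype.ext (hVe u hu)
        rw [h1, map_one]
        symm
        exact (QuotientGroup.eq_one_iff _).mpr (hyVk j u hu)
      · obtain ⟨k, c, hc, rfl⟩ := hdecomp u hu
        have h1 := hφk k s0 ((y ^ j) u0) hφs0
        have e1 : (⟨((y ^ k) u0 * c) ^ 2, hQe _⟩ : ↥V) = ⟨(y ^ k) (s0 : U), hyVk k s0 s0.2⟩ := by
          apply Subtype.ext
          show ((y ^ k) u0 * c) ^ 2 = (y ^ k) (u0 ^ 2)
          rw [hsq _ c hc, map_pow]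
        rw [e1, h1]
        rw [QuotientGroup.eq]
        have e2 : (y ^ k) ((y ^ j) u0) = (y ^ j) ((y ^ k) u0) := by
          rw [← MulAut.mul_apply, ← MulAut.mul_apply, ← pow_add, ← pow_add, add_comm]
        rw [e2, map_mul]
        have : ((y ^ j) ((y ^ k) u0))⁻¹ * ((y ^ j) ((y ^ k) u0) * (y ^ j) c) = (y ^ j) c := by group
        rw [this]
        exact hyVk j c hc
    apply hcomm_of_sq
    intro u w
    have h1 := hmain (u * w)
    rw [map_mul, QuotientGroup.mk_mul, ← hmain u, ← hmain w, ← map_mul] at h1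
    have h2 := φ.injective h1
    exact congrArg Subtype.val h2

end Cfsg.Agent.S3158
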