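import Cfsg.Statements.S3163
import Mathlib

set_option autoImplicit false
open Cfsg

namespace Cfsg.Agent.S3163

variable {S : Type*} [Group S]

theorem comm_of_ea {A : Subgroup S} (hA : Cfsg.IsElementaryAbelian 2 A) {a a' : S} (ha : a ∈ A) (ha' : a' ∈ A) :
    a * a' = a' * a := by
  have := hA.1.is_comm.comm ⟨a, ha⟩ ⟨a', ha'⟩
  exact congrArg Subtype.val this

theorem inv_of_ea {A : Subgroup S} (hA : Cfsg.IsElementaryAbelian 2 A) {a : S} (ha : a ∈ A) : a⁻¹ = a := by
  have h := hA.2 a ha
  rw [pow_two] at h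
  exact inv_eq_of_mul_eq_one_left h

theorem card_subgroupOf (A C : Subgroup S) : Nat.card (A.subgroupOf C) = Nat.card ↥(A ⊓ C) := by
  rw [← Subgroup.inf_subgroupOf_right A C]
  exact Nat.card_congr (Subgroup.subgroupOfEquivOfLe inf_le_right).toEquiv

/-- index bound: if every element is a product `b * a`, then `A.index ≤ A.relIndex B`. -/
theorem index_le_relIndex [Finite S] (A B : Subgroup S) (h : ∀ s : S, ∃ b ∈ B, ∃ a ∈ A, s = b * a) :
    A.index ≤ A.relIndex B := by
  rw [Subgroup.index_eq_card, Subgroup.relIndex, Subgroup.index_eq_card]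
  let f : (↥B ⧸ A.subgroupOf B) → S ⧸ A :=
    Quotient.map' (fun b : ↥B => (b : S)) (fun a b => by
      simp_rw [QuotientGroup.leftRel_eq]
      intro hab
      exact hab)
  apply Nat.card_le_card_of_surjective f
  intro q
  induction q using QuotientGroup.induction_on with
  | H s =>
    obtain ⟨b, hb, a, ha, rfl⟩ := h s
    refine ⟨QuotientGroup.mk ⟨b, hb⟩, ?_⟩
    show (QuotientGroup.mk b : S ⧸ A) = QuotientGroup.mk (b * a)
    rw [QuotientGroup.eq]
    simpa using ha

/-- Let S be a non-abelian finite 2-group which is the product S = AB of two elementary abelian subgroups A and B, and suppose that the centralizer in S of every element of A outside B is exactly A. Then the centralizer of every element of B outside A is exactly B; A and B are maximal elementary abelian subgroups of S and the only ones; the centre of S is A ∩ B; and every element of S outside A ∪ B has centralizer of order at most min(|A|, |B|). -/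
theorem result {S : Type*} [Group S] [Finite S] (hS : IsPGroup 2 S) (hna : ¬ IsMulCommutative S) (A B : Subgroup S)
    (hA : Cfsg.IsElementaryAbelian 2 A) (hB : Cfsg.IsElementaryAbelian 2 B) (hAB : ∀ s : S, ∃ a ∈ A, ∃ b ∈ B, s = a * b)
    (hC : ∀ a ∈ A, a ∉ B → Subgroup.centralizer ({a} : Set S) = A) :
    (∀ b ∈ B, b ∉ A → Subgroup.centralizer ({b} : Set S) = B) ∧
      (∀ E : Subgroup S, Cfsg.IsElementaryAbelian 2 E → (∀ E' : Subgroup S, Cfsg.IsElementaryAbelian 2 E' → E ≤ E' → E' = E) → E = A ∨ E = B) ∧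
      (∀ E' : Subgroup S, Cfsg.IsElementaryAbelian 2 E' → A ≤ E' → E' = A) ∧ (∀ E' : Subgroup S, Cfsg.IsElementaryAbelian 2 E' → B ≤ E' → E' = B) ∧
      Subgroup.center S = A ⊓ B ∧
      (∀ x : S, x ∉ A → x ∉ B → Nat.card ↥(Subgroup.centralizer ({x} : Set S)) ≤ min (Nat.card ↥A) (Nat.card ↥B)) := by
  -- S = BA as well
  have hBA : ∀ s : S, ∃ b ∈ B, ∃ a ∈ A, s = b * a := by
    intro s
    obtain ⟨a, ha, b, hb, h⟩ := hAB s⁻¹
    refine ⟨b⁻¹, B.inv_mem hb, a⁻¹, A.inv_mem ha, ?_⟩
    rw [← mul_inv_rev, ← h, inv_inv]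
  -- A not contained in B
  have hAnB : ∃ a₀ ∈ A, a₀ ∉ B := by
    by_contra hcon
    push Not at hcon
    apply hna
    refine ⟨⟨fun x y => ?_⟩⟩
    obtain ⟨a, ha, b, hb, rfl⟩ := hAB x
    obtain ⟨a', ha', b', hb', rfl⟩ := hAB y
    exact comm_of_ea hB (B.mul_mem (hcon a ha) hb) (B.mul_mem (hcon a' ha') hb')
  have hBnA : ∃ b₀ ∈ B, b₀ ∉ A := by
    by_contra hcon
    push Not at hcon
    apply hna
    refine ⟨⟨fun x y => ?_⟩⟩
    obtain ⟨a, ha, b, hb, rfl⟩ := hAB x
    obtain ⟨a', ha', b', hb', rfl⟩ := hAB y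
    exact comm_of_ea hA (A.mul_mem ha (hcon b hb)) (A.mul_mem ha' (hcon b' hb'))
  -- centralizers of elements of B outside A
  have hCB : ∀ b ∈ B, b ∉ A → Subgroup.centralizer ({b} : Set S) = B := by
    intro b hb hbA
    apply le_antisymm
    · intro s hs
      rw [Subgroup.mem_centralizer_singleton_iff] at hs
      replace hs := hs.symm
      obtain ⟨a, ha, b', hb', rfl⟩ := hAB s
      have hbb' : b * b' = b' * b := comm_of_ea hB hb hb'
      have hab : a * b = b * a := by
        have h1 : a * b' * b = b * a * b' := by rw [← hs, mul_assoc]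
        have h2 : a * b' * b = a * b * b' := by rw [mul_assoc, ← hbb', mul_assoc]
        rw [h2] at h1
        exact mul_right_cancel h1
      by_cases haB : a ∈ B
      · exact B.mul_mem haB hb'
      · exfalso
        apply hbA
        rw [← hC a ha haB, Subgroup.mem_centralizer_singleton_iff]
        exact hab.symm
    · intro b' hb'
      rw [Subgroup.mem_centralizer_singleton_iff]
      exact (comm_of_ea hB hb' hb)
  -- involutions lie in A ∪ B
  have hinv : ∀ x : S, x ^ 2 = 1 → x ∈ A ∨ x ∈ B := by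
    intro x hx
    obtain ⟨a, ha, b, hb, rfl⟩ := hAB x
    by_cases haB : a ∈ B
    · right; exact B.mul_mem haB hb
    · by_cases hbA : b ∈ A
      · left; exact A.mul_mem ha hbA
      · exfalso
        apply hbA
        rw [← hC a ha haB, Subgroup.mem_centralizer_singleton_iff]
        -- a * b = b * a from (ab)^2 = 1
        have h1 : a * b * (a * b) = 1 := by rw [← pow_two]; exact hx
        have h2 : a * b = (a * b)⁻¹ := eq_inv_of_mul_eq_one_left h1
        rw [mul_inv_rev, inv_of_ea hA ha, inv_of_ea hB hb] at h2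
        exact h2.symm
  -- elementary abelian subgroups lie in A or in B
  have hE : ∀ E : Subgroup S, Cfsg.IsElementaryAbelian 2 E → E ≤ A ∨ E ≤ B := by
    intro E hE
    by_contra hcon
    push Not at hcon
    obtain ⟨hEA, hEB⟩ := hcon
    obtain ⟨e1, he1, he1A⟩ := SetLike.not_le_iff_exists.mp hEA
    obtain ⟨e2, he2, he2B⟩ := SetLike.not_le_iff_exists.mp hEB
    have he1B : e1 ∈ B := (hinv e1 (hE.2 e1 he1)).resolve_left he1A
    have he2A : e2 ∈ A := (hinv e2 (hE.2 e2 he2)).resolve_right he2B
    rcases hinv (e1 * e2) (hE.2 _ (E.mul_mem he1 he2)) with h | h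
    · apply he1A
      have := A.mul_mem h (A.inv_mem he2A)
      simpa using this
    · apply he2B
      have := B.mul_mem (B.inv_mem he1B) h
      simpa using this
  obtain ⟨a₀, ha₀, ha₀B⟩ := hAnB
  obtain ⟨b₀, hb₀, hb₀A⟩ := hBnA
  have hAleB : ¬ A ≤ B := fun h => ha₀B (h ha₀)
  have hBleA : ¬ B ≤ A := fun h => hb₀A (h hb₀)
  have hcenter : Subgroup.center S = A ⊓ B := by
    apply le_antisymm
    · intro z hz
      rw [Subgroup.mem_center_iff] at hz
      have hzA : z ∈ A := by
        rw [← hC a₀ ha₀ ha₀B, Subgroup.mem_centralizer_singleton_iff]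
        exact (hz a₀).symm
      have hzB : z ∈ B := by
        rw [← hCB b₀ hb₀ hb₀A, Subgroup.mem_centralizer_singleton_iff]
        exact (hz b₀).symm
      exact ⟨hzA, hzB⟩
    · intro z hz
      rw [Subgroup.mem_center_iff]
      intro g
      obtain ⟨a, ha, b, hb, rfl⟩ := hAB g
      have h1 : a * z = z * a := comm_of_ea hA ha hz.1
      have h2 : b * z = z * b := comm_of_ea hB hb hz.2
      rw [mul_assoc, h2, ← mul_assoc, h1, mul_assoc]
  -- cardinality bound, symmetric form
  have hbound : ∀ (A B : Subgroup S), Cfsg.IsElementaryAbelian 2 A → Cfsg.IsElementaryAbelian 2 B →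
      (∀ s : S, ∃ b ∈ B, ∃ a ∈ A, s = b * a) →
      (∀ b ∈ B, b ∉ A → Subgroup.centralizer ({b} : Set S) = B) →
      ∀ x : S, x ∉ A → x ∉ B → Nat.card ↥(Subgroup.centralizer ({x} : Set S)) ≤ Nat.card ↥B := by
    intro A B hA hB hBA hCB x hxA hxB
    set C := Subgroup.centralizer ({x} : Set S) with hCdef
    -- C ⊓ A ≤ A ⊓ B
    have hCA : A ⊓ C ≤ A ⊓ B := by
      intro c hc
      obtain ⟨hc1, hc2⟩ := Subgroup.mem_inf.mp hc
      refine Subgroup.mem_inf.mpr ⟨hc1, ?_⟩
      have hcx : x * c = c * x := (Subgroup.mem_centralizer_singleton_iff.mp hc2).symm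
      obtain ⟨b, hb, a, ha, rfl⟩ := hBA x
      have hbA : b ∉ A := fun h => hxA (A.mul_mem h ha)
      rw [← hCB b hb hbA, Subgroup.mem_centralizer_singleton_iff]
      symm
      have hac : a * c = c * a := comm_of_ea hA ha hc1
      have h1 : b * c * a = c * b * a := by
        calc b * c * a = b * (c * a) := by rw [mul_assoc]
          _ = b * (a * c) := by rw [hac]
          _ = b * a * c := by rw [mul_assoc]
          _ = c * (b * a) := hcx
          _ = c * b * a := by rw [mul_assoc]
      exact mul_right_cancel h1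
    have h1 : Nat.card ↥C = Nat.card ↥(A.subgroupOf C) * A.relIndex C := by
      rw [Subgroup.relIndex, Subgroup.card_mul_index]
    have h2 : Nat.card ↥B = Nat.card ↥(A.subgroupOf B) * A.relIndex B := by
      rw [Subgroup.relIndex, Subgroup.card_mul_index]
    have h3 : A.relIndex C ≤ A.index := by
      have := Subgroup.relIndex_le_of_le_right (H := A) (K := C) (L := ⊤) le_top
        (by rw [Subgroup.relIndex_top_right]; exact Subgroup.index_ne_zero_of_finite)
      rwa [Subgroup.relIndex_top_right] at this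
    have h4 : A.index ≤ A.relIndex B := index_le_relIndex A B hBA
    have h5 : Nat.card ↥(A.subgroupOf C) ≤ Nat.card ↥(A.subgroupOf B) := by
      have e1 : Nat.card ↥(A.subgroupOf C) = Nat.card ↥(A ⊓ C) := card_subgroupOf A C
      have e2 : Nat.card ↥(A.subgroupOf B) = Nat.card ↥(A ⊓ B) := card_subgroupOf A B
      rw [e1, e2]
      exact Subgroup.card_le_of_le hCA
    rw [h1, h2]
    exact Nat.mul_le_mul h5 (h3.trans h4)
  refine ⟨hCB, ?_, ?_, ?_, hcenter, ?_⟩
  · intro E hEea hmax
    rcases hE E hEea with h | h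
    · left; exact (hmax A hA h).symm
    · right; exact (hmax B hB h).symm
  · intro E' hE' hle
    rcases hE E' hE' with h | h
    · exact le_antisymm h hle
    · exact absurd (hle.trans h) hAleB
  · intro E' hE' hle
    rcases hE E' hE' with h | h
    · exact absurd (hle.trans h) hBleA
    · exact le_antisymm h hle
  · intro x hxA hxB
    apply le_min
    · exact hbound B A hB hA hAB hC x hxB hxA
    · exact hbound A B hA hB hBA hCB x hxA hxB

end Cfsg.Agent.S3163
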