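import Cfsg.Statements.S3166
import Mathlib

set_option autoImplicit false
open Cfsg

namespace Cfsg.Agent.S3166

theorem notsq (r y : ℤ) (hr : 1 ≤ r) (hy : 0 ≤ y)
    (h : y * y + (2*r)^3 + 2*r = (2*r)^4 + (2*r)^2 + 1) : False := by
  have h1 : y * y = 16*r^4 - 8*r^3 + 4*r^2 - 2*r + 1 := by nlinarith
  have ha : 0 ≤ 4*r^2 - r := by nlinarith
  have h2 : 4*r^2 - r < y := by
    by_contra hc
    rw [not_lt] at hc
    have : y * y ≤ (4*r^2 - r) * (4*r^2 - r) := by nlinarith
    nlinarith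
  have h3 : y * y ≥ (4*r^2 - r + 1) * (4*r^2 - r + 1) := by nlinarith
  nlinarith

theorem notcube (x k : ℤ) (hx : 2 ≤ x) (hk : 1 ≤ k)
    (h : (1 + k * x)^3 + x^3 + x = x^4 + x^2 + 1) : False := by
  have h1 : x * (3*k + 3*k^2*x + k^3*x^2 + x^2 + 1) = x * (x^3 + x) := by nlinarith
  have h2 : 3*k + 3*k^2*x + k^3*x^2 + x^2 + 1 = x^3 + x := by
    have hx0 : x ≠ 0 := by omega
    exact mul_left_cancel₀ hx0 h1
  have h3 : 3 * k + 1 = x * (x^2 + 1 - 3*k^2 - k^3 * x - x) := by nlinarith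
  have h4 : x ≤ 3 * k + 1 := by
    have : 0 < x^2 + 1 - 3*k^2 - k^3 * x - x := by
      by_contra hc
      rw [not_lt] at hc
      nlinarith
    nlinarith
  have h5 : k^3 < x := by
    by_contra hc
    rw [not_lt] at hc
    nlinarith [sq_nonneg x, sq_nonneg k]
  have h6 : k = 1 := by
    by_contra hc
    have : 2 ≤ k := by omega
    nlinarith [sq_nonneg k]
  subst h6
  have : x ≤ 4 := by linarith
  interval_cases x <;> omega

theorem dvd_sub_one (x p m : ℕ) (hx : ∃ n, x = 2 ^ n) (hpodd : Odd p) (hm : Odd m) (hp1 : 1 ≤ p)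
    (h : x ∣ p ^ m - 1) : x ∣ p - 1 := by
  obtain ⟨n, rfl⟩ := hx
  have hgeom : (∑ i ∈ Finset.range m, p ^ i) * (p - 1) = p ^ m - 1 := by
    have h1 : 1 ≤ p ^ m := Nat.one_le_pow _ _ hp1
    zify [hp1, h1]
    exact geom_sum_mul (p : ℤ) m
  have hodd : Odd (∑ i ∈ Finset.range m, p ^ i) := by
    rw [Finset.odd_sum_iff_odd_card_odd]
    have : (Finset.range m).filter (fun x => Odd (p ^ x)) = Finset.range m := by
      apply Finset.filter_true_of_mem
      intro i _
      exact hpodd.pow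
    rw [this, Finset.card_range]
    exact hm
  rw [← hgeom] at h
  have hc : Nat.Coprime (2 ^ n) (∑ i ∈ Finset.range m, p ^ i) := by
    apply Nat.Coprime.pow_left
    exact (Nat.coprime_two_left).mpr hodd
  exact hc.dvd_of_dvd_mul_left h

/-- Let q = 2^n with n ≥ 1. If q⁴ − q³ + q² − q + 1 is a power p^m of a prime p, then m = 1: the value is never a prime power with exponent greater than 1. -/
theorem result (n p m : ℕ) (hn : 1 ≤ n) (hp : p.Prime) (h : (2 ^ n) ^ 4 - (2 ^ n) ^ 3 + (2 ^ n) ^ 2 - 2 ^ n + 1 = p ^ m) : m = 1 := by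
  obtain ⟨k, rfl⟩ : ∃ k, n = k + 1 := ⟨n - 1, by omega⟩
  have hr1 : 1 ≤ 2 ^ k := Nat.one_le_two_pow
  have hx : 2 ^ (k+1) = 2 * 2 ^ k := by rw [pow_succ]; ring
  have hxpow : ∃ n, 2 * 2 ^ k = 2 ^ n := ⟨k + 1, hx.symm⟩
  rw [hx] at h
  generalize 2 ^ k = r at *
  have h1 : p ^ m + (2*r)^3 + 2*r = (2*r)^4 + (2*r)^2 + 1 := by
    have a1 : (2*r)^3 ≤ (2*r)^4 := Nat.pow_le_pow_right (by omega) (by norm_num)
    have a2 : 2*r ≤ (2*r)^2 := by nlinarith
    omega
  have hp2 : 2 ≤ p := hp.two_le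
  -- parity of p
  have hpmodd : Odd (p ^ m) := by
    rcases Nat.even_or_odd (p ^ m) with he | ho
    · exfalso
      obtain ⟨c, hc⟩ := he
      have e1 : (2*r)^3 = 2 * (4 * r^3) := by ring
      have e2 : (2*r)^4 = 2 * (8 * r^4) := by ring
      have e3 : (2*r)^2 = 2 * (2 * r^2) := by ring
      omega
    · exact ho
  rcases Nat.lt_or_ge m 2 with hm2 | hm2
  · interval_cases m
    · exfalso
      simp only [pow_zero] at h1
      nlinarith [sq_nonneg r, pow_pos (show 0 < r by omega) 3]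
    · rfl
  · exfalso
    have hpodd : Odd p := by
      rcases Nat.even_or_odd p with he | ho
      · exfalso
        have : Even (p ^ m) := he.pow_of_ne_zero (by omega)
        exact (Nat.not_even_iff_odd.mpr hpmodd) this
      · exact ho
    rcases Nat.even_or_odd m with he | ho
    · obtain ⟨j, hj⟩ := he
      have hy : p ^ m = p ^ j * p ^ j := by rw [hj, pow_add]
      rw [hy] at h1
      apply notsq (r : ℤ) ((p ^ j : ℕ) : ℤ) (by exact_mod_cast hr1) (by positivity)
      exact_mod_cast h1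
    · -- m odd, at least 3
      have hm3 : 3 ≤ m := by
        obtain ⟨j, hj⟩ := ho
        omega
      have hdvd : 2 * r ∣ p ^ m - 1 := by
        have a1 : 1 ≤ p ^ m := Nat.one_le_pow _ _ (by omega)
        have a2 : (2*r)^2 + 1 ≤ (2*r)^3 + 2 * r := by nlinarith [sq_nonneg r, pow_pos (show 0 < r by omega) 3]
        obtain ⟨w, hw⟩ := Nat.exists_eq_add_of_le a2
        refine ⟨w, ?_⟩
        zify [a1]
        have h1' : ((p:ℤ) ^ m) + (2*r)^3 + 2*r = (2*r)^4 + (2*r)^2 + 1 := by exact_mod_cast h1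
        have hw' : ((2*r)^3 + 2 * r : ℤ) = (2*r)^2 + 1 + w := by exact_mod_cast hw
        linear_combination h1' + (2 * (r:ℤ)) * hw'
      have hd := dvd_sub_one (2 * r) p m (by obtain ⟨n, hn⟩ := hxpow; exact ⟨n, hn⟩) hpodd ho (by omega) hdvd
      obtain ⟨c, hc⟩ := hd
      have hc1 : 1 ≤ c := by
        rcases Nat.eq_zero_or_pos c with h0 | h0
        · subst h0; omega
        · exact h0
      have hpc : p = 1 + c * (2 * r) := by
        have : p - 1 = c * (2 * r) := by rw [hc]; ring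
        omega
      rcases Nat.lt_or_ge m 5 with hm5 | hm5
      · -- m = 3 (m odd, 3 ≤ m < 5)
        have hm : m = 3 := by
          obtain ⟨j, hj⟩ := ho
          omega
        subst hm
        apply notcube ((2 * r : ℕ) : ℤ) (c : ℤ) (by push_cast; exact_mod_cast (show 2 ≤ 2 * r by omega)) (by exact_mod_cast hc1)
        rw [hpc] at h1
        exact_mod_cast h1
      · -- m ≥ 5
        have hp5 : p ^ 5 ≤ p ^ m := Nat.pow_le_pow_right (by omega) hm5
        have hp' : 2 * r + 1 ≤ p := by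
          rw [hpc]
          nlinarith
        have h5 : (2 * r + 1) ^ 5 ≤ p ^ 5 := Nat.pow_le_pow_left hp' 5
        have : (2 * r + 1) ^ 5 > (2*r)^4 + (2*r)^2 + 1 := by
          have e : (2 * r + 1)^5 = (2*r)^5 + 5 * (2*r)^4 + 10 * (2*r)^3 + 10 * (2*r)^2 + 5 * (2*r) + 1 := by ring
          rw [e]
          have : 0 < (2*r)^5 := by positivity
          have : 0 < (2*r)^3 := by positivity
          have : 0 < (2*r)^4 := by positivity
          have : 0 < (2*r)^2 := by positivity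
          omega
        omega

end Cfsg.Agent.S3166
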