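import Cfsg.Statements.S3171
import Cfsg.Agent.S2882
import Cfsg.Agent.Lib.Helper91.M24Syl2Quot

set_option autoImplicit false
open Cfsg

namespace Cfsg.Agent.S3171
open Cfsg.Agent.Helper7 Cfsg.Agent.Helper91 Cfsg.Agent.S2882

/-- The table of an element of the explicit Sylow 2-subgroup. -/
noncomputable def tbP0 (x : ↥P0) : List ℕ := Classical.choose x.2

theorem tbP0_mem (x : ↥P0) : tbP0 x ∈ syl24Keys.map unkey := (Classical.choose_spec x.2).1

theorem tbP0_tab (x : ↥P0) : Tab (((x : ↥M24)) : Equiv.Perm GolayPt) (tbP0 x) :=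
  (Classical.choose_spec x.2).2

theorem tbP0_len (x : ↥P0) : (tbP0 x).length = 24 := by
  obtain ⟨_, _, _, h⟩ := hgoodL _ (tbP0_mem x)
  exact h

/-- The table model of a group isomorphic to the explicit Sylow 2-subgroup. -/
noncomputable def tmOf {T : Type*} [Group T] (e : T ≃* ↥P0) : TabModel T (syl24Keys.map unkey) where
  tb x := tbP0 (e x)
  mem x := tbP0_mem _
  len x := tbP0_len _
  mul x y := by
    have h1 := (tbP0_tab (e x)).mul (tbP0_tab (e y)) (tbP0_len _)
    have h2 := tbP0_tab (e (x * y))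
    have e1 : (((e (x * y) : ↥P0) : ↥M24) : Equiv.Perm GolayPt) =
        (((e x : ↥P0) : ↥M24) : Equiv.Perm GolayPt) * (((e y : ↥P0) : ↥M24) : Equiv.Perm GolayPt) := by
      rw [map_mul]; rfl
    rw [e1] at h2
    exact tab_list_unique h2 h1 (tbP0_len _) (by rw [mulTab_length, tbP0_len])
  one := by
    have h2 := tbP0_tab (e 1)
    have e1 : (((e 1 : ↥P0) : ↥M24) : Equiv.Perm GolayPt) = 1 := by
      rw [map_one]; rfl
    rw [e1] at h2
    exact tab_list_unique h2 tab_one (tbP0_len _) rfl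
  inj := by
    intro x y hxy
    have h1 := tbP0_tab (e x)
    have h2 := tbP0_tab (e y)
    have hxy' : tbP0 (e x) = tbP0 (e y) := hxy
    rw [hxy'] at h1
    have := tab_unique h1 h2
    exact e.injective (Subtype.ext (Subtype.ext this))
  surj := by
    intro l hl
    obtain ⟨σ, hσ, ht, hlen⟩ := hgoodL l hl
    have hmem : (⟨σ, hσ⟩ : ↥M24) ∈ P0 := ⟨l, hl, ht⟩
    refine ⟨e.symm ⟨⟨σ, hσ⟩, hmem⟩, ?_⟩
    show tbP0 (e (e.symm _)) = l
    rw [MulEquiv.apply_symm_apply]
    exact tab_list_unique (tbP0_tab _) ht (tbP0_len _) hlen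

theorem aGens_good : GoodTabs M24 syl24AGens := goodTabs_M24_of_ok syl24AGens_ok

theorem hrows : ∀ l ∈ syl24Keys.map unkey, ∃ cs uv,
    rowOK (syl24Keys.map unkey) syl24Z syl24X syl24E (spanTabs syl24AGens) l cs uv = true := by
  intro l hl
  obtain ⟨k, hk, rfl⟩ := List.mem_map.mp hl
  rw [← syl24Rows_keys] at hk
  obtain ⟨r, hr, rfl⟩ := List.mem_map.mp hk
  refine ⟨r.2.1, r.2.2, ?_⟩
  rw [syl24A_eq]
  simp only [syl24Rows, List.mem_append] at hr
  rcases hr with (((((((((((((((hr | hr) | hr) | hr) | hr) | hr) | hr) | hr) | hr) | hr) | hr) |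
    hr) | hr) | hr) | hr) | hr)
  · exact List.all_eq_true.mp syl24Rows0_ok r hr
  · exact List.all_eq_true.mp syl24Rows1_ok r hr
  · exact List.all_eq_true.mp syl24Rows2_ok r hr
  · exact List.all_eq_true.mp syl24Rows3_ok r hr
  · exact List.all_eq_true.mp syl24Rows4_ok r hr
  · exact List.all_eq_true.mp syl24Rows5_ok r hr
  · exact List.all_eq_true.mp syl24Rows6_ok r hr
  · exact List.all_eq_true.mp syl24Rows7_ok r hr
  · exact List.all_eq_true.mp syl24Rows8_ok r hr
  · exact List.all_eq_true.mp syl24Rows9_ok r hr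
  · exact List.all_eq_true.mp syl24Rows10_ok r hr
  · exact List.all_eq_true.mp syl24Rows11_ok r hr
  · exact List.all_eq_true.mp syl24Rows12_ok r hr
  · exact List.all_eq_true.mp syl24Rows13_ok r hr
  · exact List.all_eq_true.mp syl24Rows14_ok r hr
  · exact List.all_eq_true.mp syl24Rows15_ok r hr

/-- Let P be a Sylow 2-subgroup of the Mathieu group of degree 24 and S the quotient of P by its centre. Then the centre of every maximal subgroup of S has order at most 8; S has an elementary abelian subgroup of order 64; and S has only one abelian subgroup of order 64. -/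
theorem result (P : Sylow 2 ↥Cfsg.M24) :
    (∀ M : Subgroup (↥(P : Subgroup ↥Cfsg.M24) ⧸ Subgroup.center ↥(P : Subgroup ↥Cfsg.M24)), IsCoatom M →
        Nat.card ↥(Subgroup.center ↥M) ≤ 8) ∧
      (∃ A : Subgroup (↥(P : Subgroup ↥Cfsg.M24) ⧸ Subgroup.center ↥(P : Subgroup ↥Cfsg.M24)),
        Cfsg.IsElementaryAbelian 2 A ∧ Nat.card ↥A = 64) ∧
      ∀ A B : Subgroup (↥(P : Subgroup ↥Cfsg.M24) ⧸ Subgroup.center ↥(P : Subgroup ↥Cfsg.M24)),
        IsMulCommutative ↥A → Nat.card ↥A = 64 → IsMulCommutative ↥B → Nat.card ↥B = 64 → A = B := by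
  have : Fact (Nat.Prime 2) := ⟨Nat.prime_two⟩
  have hP : IsPGroup 2 ↥P0 := IsPGroup.of_card card_P0
  obtain ⟨Q, hPQ⟩ := hP.exists_le_sylow
  have hfac : (Nat.card ↥M24).factorization 2 ≤ 10 := by
    by_contra hlt
    push Not at hlt
    have h : 2 ^ 11 ∣ Nat.card ↥M24 := (pow_dvd_pow 2 hlt).trans (Nat.ordProj_dvd _ 2)
    rw [card_M24] at h
    revert h
    decide
  have hQ : P0 = (Q : Subgroup ↥M24) :=
    Subgroup.eq_of_le_of_card_ge hPQ (by
      rw [Q.card_eq_multiplicity, card_P0]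
      exact Nat.pow_le_pow_right (by norm_num) hfac)
  let e : ↥(P : Subgroup ↥M24) ≃* ↥P0 := (Sylow.equiv P Q).trans (MulEquiv.subgroupCongr hQ.symm)
  have hT : Nat.card ↥(P : Subgroup ↥M24) = 1024 := by
    rw [Nat.card_congr e.toEquiv, card_P0]
    norm_num
  obtain ⟨hR, hnd⟩ := spanTabs_of_pcOK aGens_good syl24AGens_pc
  exact TabModel.main (tmOf e) syl24_center hT syl24X syl24E syl24AGens (by decide) (by decide) rfl
    syl24A_ok (spanTabs_mul_closed aGens_good hR) hnd hrows

end Cfsg.Agent.S3171
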