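import Cfsg.Statements.S3175
import Cfsg.Agent.Lib.Helper51.RuSylWC
import Cfsg.Agent.Lib.Helper51.RuSylAut
import Cfsg.Agent.Lib.Helper53.NormalComplement

set_option autoImplicit false
open Cfsg

namespace Cfsg.Agent.S3175

open Cfsg.Agent.Helper51.RuSyl

/-- Let G be a finite group whose Sylow 2-subgroup T has order at least 2^14 and whose upper central series has fourth term of order 16; let W be the centralizer in T of the third term, and suppose the Frattini subgroup of W has order at most 8 and lies in every subgroup of W of index at most 16. Then the normalizer of T in G has a normal 2-complement, and W is weakly closed in T with respect to G. -/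
theorem result {G : Type*} [Group G] [Finite G]
    (T : Sylow 2 G) (ha : 2 ^ 14 ≤ Nat.card ↥(T : Subgroup G))
    (hb : Nat.card ↥(Subgroup.upperCentralSeries ↥(T : Subgroup G) 4) = 16)
    (W : Subgroup ↥(T : Subgroup G))
    (hW : W = Subgroup.centralizer ((Subgroup.upperCentralSeries ↥(T : Subgroup G) 3 : Subgroup ↥(T : Subgroup G)) : Set ↥(T : Subgroup G)))
    (hc : Nat.card ↥(frattini ↥W) ≤ 8)
    (hd : ∀ U : Subgroup ↥W, U.index ≤ 16 → frattini ↥W ≤ U) :
    Cfsg.HasNormalPComplement 2 ↥(Subgroup.normalizer ((T : Subgroup G) : Set G)) ∧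
      Cfsg.IsWeaklyClosed (W.map (T : Subgroup G).subtype) (T : Subgroup G) := by
  classical
  have : Fact (Nat.Prime 2) := ⟨Nat.prime_two⟩
  have hyp : Hyp W := ⟨T.isPGroup', ha, hb, hW, hc, hd⟩
  constructor
  · -- the normalizer has a normal 2-complement
    set N : Subgroup G := Subgroup.normalizer ((T : Subgroup G) : Set G) with hN
    have hcent : ∀ x : ↥N, Odd (orderOf x) → (T : Subgroup G).normalizerMonoidHom x = 1 := by
      intro x hx
      apply hyp.aut_trivial _ (orderOf x) hx
      rw [← map_pow, pow_orderOf_eq_one, map_one]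
    have hcomm : ∀ x : ↥N, Odd (orderOf x) → ∀ t ∈ (T : Subgroup G), (x : G) * t * (x : G)⁻¹ = t := by
      intro x hx t ht
      have h1 := hcent x hx
      have h2 : (T : Subgroup G).normalizerMonoidHom x ⟨t, ht⟩ = ⟨t, ht⟩ := by
        rw [h1]; rfl
      exact congrArg Subtype.val h2
    set TN : Subgroup ↥N := (T : Subgroup G).subgroupOf N with hTN
    have hTNn : TN.Normal := Subgroup.normal_in_normalizer
    have hTle : (T : Subgroup G) ≤ N := Subgroup.le_normalizer
    have hcardTN : Nat.card TN = Nat.card (T : Subgroup G) :=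
      Nat.card_congr (Subgroup.subgroupOfEquivOfLe hTle).toEquiv
    obtain ⟨k, hk⟩ := IsPGroup.iff_card.1 T.isPGroup'
    have hidxodd : ¬ 2 ∣ TN.index := by
      have h1 : TN.index = (T : Subgroup G).relIndex N := rfl
      have h2 := Subgroup.relIndex_mul_index hTle
      have h3 := T.not_dvd_index
      intro h4
      apply h3
      rw [← h2, ← h1]
      exact Dvd.dvd.mul_right h4 _
    have hcop : (Nat.card TN).Coprime TN.index := by
      rw [hcardTN, hk]
      exact Nat.Coprime.pow_left _ ((Nat.Prime.coprime_iff_not_dvd Nat.prime_two).2 hidxodd)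
    obtain ⟨H, hH⟩ := Subgroup.exists_left_complement'_of_coprime hcop
    have hHidx : H.index = Nat.card TN := hH.symm.index_eq_card
    have hHcard : Nat.card H = TN.index := by
      have h1 := hH.card_mul_card
      have h2 := Subgroup.card_mul_index TN
      have hpos : 0 < Nat.card TN := Nat.card_pos
      have : Nat.card H * Nat.card TN = TN.index * Nat.card TN := by rw [h1, ← h2, mul_comm]
      exact Nat.eq_of_mul_eq_mul_right hpos this
    have hHodd : ¬ 2 ∣ Nat.card H := by rw [hHcard]; exact hidxodd
    have hodd_of_mem : ∀ x ∈ H, Odd (orderOf x) := by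
      intro x hx
      have h1 : orderOf x ∣ Nat.card H := by
        have := orderOf_dvd_natCard (⟨x, hx⟩ : ↥H)
        rwa [Subgroup.orderOf_mk] at this
      rw [← Nat.not_even_iff_odd, even_iff_two_dvd]
      intro h2
      exact hHodd (h2.trans h1)
    have hHn : H.Normal := by
      constructor
      intro x hx n
      obtain ⟨⟨⟨h', hh'⟩, ⟨t, ht⟩⟩, hn⟩ := hH.2 n
      have hn' : h' * t = n := hn
      have htT : (t : G) ∈ (T : Subgroup G) := by
        have ht' : t ∈ (T : Subgroup G).subgroupOf N := ht
        rwa [Subgroup.mem_subgroupOf] at ht'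
      have h1 := hcomm x (hodd_of_mem x hx) (t : G) htT
      have h2 : t * x * t⁻¹ = x := by
        apply Subtype.ext
        show (t : G) * (x : G) * (t : G)⁻¹ = (x : G)
        calc (t : G) * (x : G) * (t : G)⁻¹
            = ((x : G) * (t : G) * (x : G)⁻¹) * (x : G) * (t : G)⁻¹ := by rw [h1]
          _ = (x : G) := by group
      have h3 : n * x * n⁻¹ = h' * (t * x * t⁻¹) * h'⁻¹ := by
        rw [← hn']; group
      rw [h3, h2]
      exact H.mul_mem (H.mul_mem hh' hx) (H.inv_mem hh')
    exact Cfsg.Agent.Helper53.hasNormalPComplement_of_odd_card H hHn hHodd k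
      (by rw [hHidx, hcardTN, hk])
  · -- weak closure
    refine ⟨Subgroup.map_subtype_le _, ?_⟩
    intro g hg
    set Wg : Subgroup G := W.map (T : Subgroup G).subtype with hWg
    set Wc : Subgroup G := Wg.map (MulAut.conj g).toMonoidHom with hWc
    set W1 : Subgroup ↥(T : Subgroup G) := Wc.subgroupOf (T : Subgroup G) with hW1
    let e1 : ↥W ≃* ↥Wg := W.equivMapOfInjective _ (Subgroup.subtype_injective _)
    let e2 : ↥Wg ≃* ↥Wc := Wg.equivMapOfInjective _ (MulAut.conj g).injective
    let e3 : ↥Wc ≃* ↥W1 := (Subgroup.subgroupOfEquivOfLe hg).symm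
    have hle : W1 ≤ W := hyp.weakly_closed W1 (e1.trans (e2.trans e3))
    have hle' : Wc ≤ Wg := by
      intro y hy
      have hyT : y ∈ (T : Subgroup G) := hg hy
      have h1 : (⟨y, hyT⟩ : ↥(T : Subgroup G)) ∈ W1 := by
        rw [hW1, Subgroup.mem_subgroupOf]; exact hy
      exact ⟨⟨y, hyT⟩, hle h1, rfl⟩
    have hcard : Nat.card Wc = Nat.card Wg :=
      Subgroup.card_map_of_injective (MulAut.conj g).injective
    exact Subgroup.eq_of_le_of_card_ge hle' (le_of_eq hcard.symm)

end Cfsg.Agent.S3175
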