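import Cfsg.Statements.S3178
import Mathlib
import Cfsg.Agent.Lib.Helper53.SylowConj2
import Cfsg.Agent.Lib.Helper53.NormalComplement
import Cfsg.Agent.Lib.Helper53.Thompson

set_option autoImplicit false
set_option linter.unusedSectionVars false
open Cfsg

namespace Cfsg.Agent.S3178

open Subgroup

section Modular

variable {G : Type*} [Group G] {a b : G} {n : ℕ}

/-- conjugation formula: `b a^i b⁻¹ = z^i a^i` with `z = a^(2^(n-1))`. -/
theorem conj_pow_a (hrel : b * a * b⁻¹ = a ^ (2 ^ (n - 1) + 1)) (i : ℕ) :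
    b * a ^ i * b⁻¹ = (a ^ (2 ^ (n - 1))) ^ i * a ^ i := by
  have h1 : b * a ^ i * b⁻¹ = (b * a * b⁻¹) ^ i := (conj_pow (a := b) (b := a) (i := i)).symm
  rw [h1, hrel, ← pow_mul, ← pow_mul, ← pow_add]
  congr 1
  ring

theorem b_mul_pow_a (hrel : b * a * b⁻¹ = a ^ (2 ^ (n - 1) + 1)) (i : ℕ) :
    b * a ^ i = (a ^ (2 ^ (n - 1))) ^ i * a ^ i * b := by
  rw [← conj_pow_a hrel i]
  group

theorem a_pow_two_pow (hao : orderOf a = 2 ^ n) : a ^ (2 ^ n) = 1 := by
  rw [← hao]; exact pow_orderOf_eq_one a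

theorem z_sq (hn : 3 ≤ n) (hao : orderOf a = 2 ^ n) : (a ^ (2 ^ (n - 1))) ^ 2 = 1 := by
  rw [← pow_mul, ← pow_succ]
  have : n - 1 + 1 = n := by omega
  rw [this]
  exact a_pow_two_pow hao

theorem z_ne_one (hn : 3 ≤ n) (hao : orderOf a = 2 ^ n) : a ^ (2 ^ (n - 1)) ≠ 1 := by
  intro h
  have hd := orderOf_dvd_of_pow_eq_one h
  rw [hao] at hd
  have := (Nat.pow_dvd_pow_iff_le_right (by norm_num : 1 < 2)).mp hd
  omega

/-- `z^i = 1` for even `i`, `z^i = z` for odd `i`. -/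
theorem z_pow_even (hn : 3 ≤ n) (hao : orderOf a = 2 ^ n) {i : ℕ} (hi : Even i) :
    (a ^ (2 ^ (n - 1))) ^ i = 1 := by
  obtain ⟨j, rfl⟩ := hi
  rw [← two_mul, pow_mul, z_sq hn hao, one_pow]

theorem z_pow_odd (hn : 3 ≤ n) (hao : orderOf a = 2 ^ n) {i : ℕ} (hi : Odd i) :
    (a ^ (2 ^ (n - 1))) ^ i = a ^ (2 ^ (n - 1)) := by
  obtain ⟨j, rfl⟩ := hi
  rw [pow_succ, pow_mul, z_sq hn hao, one_pow, one_mul]

/-- square of `a^i * b` is a power of `a`. -/
theorem sq_a_pow_mul_b (hbo : orderOf b = 2) (hrel : b * a * b⁻¹ = a ^ (2 ^ (n - 1) + 1)) (i : ℕ) :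
    (a ^ i * b) ^ 2 = a ^ (2 ^ (n - 1) * i + 2 * i) := by
  have hb2 : b * b = 1 := by
    have := pow_orderOf_eq_one b
    rwa [hbo, pow_two] at this
  calc (a ^ i * b) ^ 2 = a ^ i * (b * a ^ i) * b := by rw [pow_two]; group
    _ = a ^ i * ((a ^ (2 ^ (n - 1))) ^ i * a ^ i * b) * b := by rw [b_mul_pow_a hrel i]
    _ = a ^ i * (a ^ (2 ^ (n - 1))) ^ i * a ^ i * (b * b) := by group
    _ = a ^ (2 ^ (n - 1) * i + 2 * i) := by
        rw [hb2, mul_one, ← pow_mul, ← pow_add, ← pow_add]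
        congr 1
        ring

/-- `(a^i)^(2^(n-1)) = z^i`. -/
theorem pow_a_pow (i : ℕ) : (a ^ i) ^ (2 ^ (n - 1)) = (a ^ (2 ^ (n - 1))) ^ i := by
  rw [← pow_mul, ← pow_mul, mul_comm]

/-- `(a^i b)^(2^(n-1)) = z^i`. -/
theorem pow_a_pow_mul_b (hn : 3 ≤ n) (hao : orderOf a = 2 ^ n) (hbo : orderOf b = 2)
    (hrel : b * a * b⁻¹ = a ^ (2 ^ (n - 1) + 1)) (i : ℕ) :
    (a ^ i * b) ^ (2 ^ (n - 1)) = (a ^ (2 ^ (n - 1))) ^ i := by
  have h1 : 2 ^ (n - 1) = 2 * 2 ^ (n - 2) := by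
    have : n - 1 = (n - 2) + 1 := by omega
    rw [this, pow_succ]; ring
  have h3 : 2 ^ (n - 2) = 2 * 2 ^ (n - 3) := by
    have : n - 2 = (n - 3) + 1 := by omega
    rw [this, pow_succ]; ring
  have h2 : 2 ^ n = 2 * 2 ^ (n - 1) := by
    have : n = (n - 1) + 1 := by omega
    conv_lhs => rw [this]
    rw [pow_succ]; ring
  conv_lhs => rw [h1]
  rw [pow_mul, sq_a_pow_mul_b hbo hrel, ← pow_mul, ← pow_mul]
  have e : (2 ^ (n - 1) * i + 2 * i) * 2 ^ (n - 2) = 2 ^ n * (2 ^ (n - 3) * i) + 2 ^ (n - 1) * i := by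
    rw [h2, h1, h3]; ring
  rw [e, pow_add, pow_mul, a_pow_two_pow hao, one_pow, one_mul]


theorem b_mul_b (hbo : orderOf b = 2) : b * b = 1 := by
  have := pow_orderOf_eq_one b
  rwa [hbo, pow_two] at this

theorem b_not_mem (hn : 3 ≤ n) (hao : orderOf a = 2 ^ n)
    (hrel : b * a * b⁻¹ = a ^ (2 ^ (n - 1) + 1)) : b ∉ zpowers a := by
  intro hmem
  obtain ⟨k, hk⟩ := mem_zpowers_iff.mp hmem
  have hcomm : b * a = a * b := by
    rw [← hk]
    exact ((Commute.refl a).zpow_left k).eq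
  have h1 : b * a * b⁻¹ = a := by rw [hcomm]; group
  rw [h1, pow_succ] at hrel
  have : a ^ (2 ^ (n - 1)) = 1 := by
    have := hrel.symm
    rwa [mul_eq_right] at this
  exact z_ne_one hn hao this

theorem z_comm_b (hn : 3 ≤ n) (hao : orderOf a = 2 ^ n)
    (hrel : b * a * b⁻¹ = a ^ (2 ^ (n - 1) + 1)) :
    b * a ^ (2 ^ (n - 1)) = a ^ (2 ^ (n - 1)) * b := by
  have h := b_mul_pow_a hrel (2 ^ (n - 1))
  have hev : Even (2 ^ (n - 1)) := (Nat.even_pow' (by omega)).2 even_two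
  rw [z_pow_even hn hao hev, one_mul] at h
  exact h

end Modular

section Facts

variable {G : Type*} [Group G] [Finite G] {a b : G} {n : ℕ}

theorem relIndex_mul_card_of_le {H K : Subgroup G} (h : H ≤ K) :
    H.relIndex K * Nat.card ↥H = Nat.card ↥K := by
  have h1 : Nat.card ↥(H.subgroupOf K) = Nat.card ↥H :=
    Nat.card_congr (subgroupOfEquivOfLe h).toEquiv
  have h2 := (H.subgroupOf K).card_mul_index
  rw [h1] at h2
  rw [relIndex, mul_comm]
  exact h2

theorem relIndex_zpowers_a (S : Subgroup G) (hS : Nat.card ↥S = 2 ^ (n + 1))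
    (ha : a ∈ S) (hao : orderOf a = 2 ^ n) : (zpowers a).relIndex S = 2 := by
  have hle : zpowers a ≤ S := by rw [zpowers_le]; exact ha
  have h1 := relIndex_mul_card_of_le hle
  rw [Nat.card_zpowers, hao, hS, pow_succ] at h1
  have hpos : 0 < 2 ^ n := by positivity
  have : (zpowers a).relIndex S * 2 ^ n = 2 * 2 ^ n := by rw [h1]; ring
  exact Nat.eq_of_mul_eq_mul_right hpos this

theorem normal_form (S : Subgroup G) (hS : Nat.card ↥S = 2 ^ (n + 1))
    (ha : a ∈ S) (hb : b ∈ S) (hao : orderOf a = 2 ^ n) (hbnot : b ∉ zpowers a)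
    (hb2 : b * b = 1) : ∀ s ∈ S, ∃ i : ℕ, s = a ^ i ∨ s = a ^ i * b := by
  have hidx := relIndex_zpowers_a S hS ha hao
  intro s hs
  have hidx' : ((zpowers a).subgroupOf S).index = 2 := hidx
  have key := mul_mem_iff_of_index_two hidx' (a := (⟨s, hs⟩ : ↥S)) (b := (⟨b, hb⟩ : ↥S))
  simp only [mem_subgroupOf, coe_mul] at key
  by_cases hsa : s ∈ zpowers a
  · rw [← mem_powers_iff_mem_zpowers] at hsa
    obtain ⟨i, hi⟩ := hsa
    exact ⟨i, Or.inl hi.symm⟩
  · have : s * b ∈ zpowers a := by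
      rw [key]
      exact ⟨fun h => absurd h hsa, fun h => absurd h hbnot⟩
    rw [← mem_powers_iff_mem_zpowers] at this
    obtain ⟨i, hi⟩ := this
    refine ⟨i, Or.inr ?_⟩
    have hi' : a ^ i = s * b := hi
    rw [hi', mul_assoc, hb2, mul_one]

/-- `z` is central in `S`. -/
theorem z_central (S : Subgroup G) (hS : Nat.card ↥S = 2 ^ (n + 1))
    (ha : a ∈ S) (hb : b ∈ S) (hn : 3 ≤ n) (hao : orderOf a = 2 ^ n) (hbo : orderOf b = 2)
    (hrel : b * a * b⁻¹ = a ^ (2 ^ (n - 1) + 1)) :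
    ∀ s ∈ S, s * a ^ (2 ^ (n - 1)) = a ^ (2 ^ (n - 1)) * s := by
  intro s hs
  obtain ⟨i, hi | hi⟩ := normal_form S hS ha hb hao (b_not_mem hn hao hrel) (b_mul_b hbo) s hs
  · rw [hi]; exact pow_mul_comm a i (2 ^ (n - 1))
  · rw [hi, mul_assoc, z_comm_b hn hao hrel, ← mul_assoc, pow_mul_comm a i (2 ^ (n - 1)), mul_assoc]

/-- an element of `S` commutes with `b` iff its `2^(n-1)`-th power is trivial. -/
theorem comm_b_iff (S : Subgroup G) (hS : Nat.card ↥S = 2 ^ (n + 1))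
    (ha : a ∈ S) (hb : b ∈ S) (hn : 3 ≤ n) (hao : orderOf a = 2 ^ n) (hbo : orderOf b = 2)
    (hrel : b * a * b⁻¹ = a ^ (2 ^ (n - 1) + 1)) :
    ∀ s ∈ S, (s * b = b * s ↔ s ^ (2 ^ (n - 1)) = 1) := by
  intro s hs
  obtain ⟨i, hi | hi⟩ := normal_form S hS ha hb hao (b_not_mem hn hao hrel) (b_mul_b hbo) s hs
  · rw [hi, pow_a_pow, b_mul_pow_a hrel i]
    constructor
    · intro h
      have : (1 : G) * (a ^ i * b) = (a ^ (2 ^ (n - 1))) ^ i * (a ^ i * b) := by
        rw [one_mul, ← mul_assoc]; exact h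
      exact (mul_right_cancel this).symm
    · intro h
      rw [h, one_mul]
  · rw [hi, pow_a_pow_mul_b hn hao hbo hrel i]
    have e : b * (a ^ i * b) = (a ^ (2 ^ (n - 1))) ^ i * (a ^ i * b * b) := by
      rw [← mul_assoc, b_mul_pow_a hrel i]; group
    rw [e]
    constructor
    · intro h
      have : (1 : G) * (a ^ i * b * b) = (a ^ (2 ^ (n - 1))) ^ i * (a ^ i * b * b) := by
        rw [one_mul]; exact h
      exact (mul_right_cancel this).symm
    · intro h
      rw [h, one_mul]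

/-- squares of elements of `S` are powers of `a`. -/
theorem sq_mem (S : Subgroup G) (hS : Nat.card ↥S = 2 ^ (n + 1))
    (ha : a ∈ S) (hb : b ∈ S) (hn : 3 ≤ n) (hao : orderOf a = 2 ^ n) (hbo : orderOf b = 2)
    (hrel : b * a * b⁻¹ = a ^ (2 ^ (n - 1) + 1)) :
    ∀ s ∈ S, s ^ 2 ∈ zpowers a := by
  intro s hs
  obtain ⟨i, hi | hi⟩ := normal_form S hS ha hb hao (b_not_mem hn hao hrel) (b_mul_b hbo) s hs
  · rw [hi, ← pow_mul]; exact pow_mem (mem_zpowers a) _
  · rw [hi, sq_a_pow_mul_b hbo hrel]; exact pow_mem (mem_zpowers a) _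

end Facts


section Main

variable {G : Type*} [Group G] [Finite G]

theorem mem_centralizer_singleton_iff (x g : G) :
    g ∈ centralizer ({x} : Set G) ↔ x * g = g * x := by
  rw [mem_centralizer_iff]
  constructor
  · intro h; exact h x (Set.mem_singleton x)
  · intro h y hy
    rw [Set.mem_singleton_iff] at hy
    subst hy
    exact h

theorem conj_pow' (g m : G) (k : ℕ) : (g * m * g⁻¹) ^ k = g * m ^ k * g⁻¹ := by
  induction k with
  | zero => simp
  | succ k ih => rw [pow_succ, ih, pow_succ]; group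

/-- `b` is not conjugate in `G` to the central involution `z`. -/
theorem b_not_conj_z (S : Sylow 2 G) (n : ℕ) (hn : 3 ≤ n) (hS : Nat.card ↥(S : Subgroup G) = 2 ^ (n + 1))
    (a b : G) (ha : a ∈ (S : Subgroup G)) (hb : b ∈ (S : Subgroup G))
    (hao : orderOf a = 2 ^ n) (hbo : orderOf b = 2) (hrel : b * a * b⁻¹ = a ^ (2 ^ (n - 1) + 1)) :
    ∀ g : G, g * b * g⁻¹ ≠ a ^ (2 ^ (n - 1)) := by
  have : Fact (Nat.Prime 2) := ⟨Nat.prime_two⟩
  intro g hg
  set z := a ^ (2 ^ (n - 1)) with hz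
  have hcomm := comm_b_iff (S : Subgroup G) hS ha hb hn hao hbo hrel
  set M : Subgroup G := (S : Subgroup G) ⊓ centralizer ({b} : Set G) with hM
  have hMmem : ∀ m, m ∈ M ↔ m ∈ (S : Subgroup G) ∧ m * b = b * m := by
    intro m
    rw [hM, mem_inf, mem_centralizer_singleton_iff]
    constructor
    · rintro ⟨h1, h2⟩; exact ⟨h1, h2.symm⟩
    · rintro ⟨h1, h2⟩; exact ⟨h1, h2.symm⟩
  set Mg : Subgroup G := M.map (MulAut.conj g).toMonoidHom with hMg
  have hMgC : Mg ≤ centralizer ({z} : Set G) := by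
    rintro _ ⟨m, hm, rfl⟩
    rw [mem_centralizer_singleton_iff]
    simp only [MulEquiv.coe_toMonoidHom, MulAut.conj_apply]
    have hmb := ((hMmem m).mp hm).2
    rw [← hg]
    calc g * b * g⁻¹ * (g * m * g⁻¹) = g * (b * m) * g⁻¹ := by group
      _ = g * (m * b) * g⁻¹ := by rw [hmb]
      _ = g * m * g⁻¹ * (g * b * g⁻¹) := by group
  have hSC : (S : Subgroup G) ≤ centralizer ({z} : Set G) := by
    intro s hs
    rw [mem_centralizer_singleton_iff]
    exact (z_central (S : Subgroup G) hS ha hb hn hao hbo hrel s hs).symm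
  have hMgp : IsPGroup 2 ↥Mg := (S.2.to_le inf_le_left).map _
  obtain ⟨h, hhC, hle⟩ := Cfsg.Agent.Helper53.exists_conj_sylow_ge S hSC hMgC hMgp
  rw [mem_centralizer_singleton_iff] at hhC
  set g' := h⁻¹ * g with hg'
  have hg'S : ∀ m ∈ M, g' * m * g'⁻¹ ∈ (S : Subgroup G) := by
    intro m hm
    have h1 : g * m * g⁻¹ ∈ Mg := ⟨m, hm, by simp [MulAut.conj_apply]⟩
    have h2 := hle h1
    rw [Cfsg.Agent.Helper53.mem_smul_sylow_iff] at h2
    have e : g' * m * g'⁻¹ = h⁻¹ * (g * m * g⁻¹) * h := by rw [hg']; group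
    rw [e]; exact h2
  have hg'b : g' * b * g'⁻¹ = z := by
    have e : g' * b * g'⁻¹ = h⁻¹ * (g * b * g⁻¹) * h := by rw [hg']; group
    rw [e, hg]
    calc h⁻¹ * z * h = h⁻¹ * (z * h) := by group
      _ = h⁻¹ * (h * z) := by rw [hhC]
      _ = z := by group
  have hg'M : ∀ m ∈ M, g' * m * g'⁻¹ ∈ M := by
    intro m hm
    have hmS := hg'S m hm
    rw [hMmem]
    refine ⟨hmS, ?_⟩
    rw [hcomm _ hmS, conj_pow']
    have hm' := (hMmem m).mp hm
    rw [(hcomm m hm'.1).mp hm'.2]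
    group
  have hnorm : g' ∈ normalizer (M : Set G) := by
    apply mem_normalizer_fintype
    intro m hm
    exact hg'M m hm
  -- the element `q₀ = a^(2^(n-2))` squares to `z` and lies in `M`
  have hq0S : a ^ (2 ^ (n - 2)) ∈ (S : Subgroup G) := pow_mem ha _
  have hq0sq : (a ^ (2 ^ (n - 2))) ^ 2 = z := by
    rw [hz, ← pow_mul, ← pow_succ]
    congr 2
    omega
  have hq0M : a ^ (2 ^ (n - 2)) ∈ M := by
    rw [hMmem]
    refine ⟨hq0S, ?_⟩
    rw [hcomm _ hq0S, pow_a_pow]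
    have hev : Even (2 ^ (n - 2)) := (Nat.even_pow' (by omega)).2 even_two
    exact z_pow_even hn hao hev
  have hmM : g'⁻¹ * a ^ (2 ^ (n - 2)) * g' ∈ M := by
    have := (mem_normalizer_iff.mp (inv_mem hnorm) (a ^ (2 ^ (n - 2)))).1 hq0M
    simpa using this
  have hmsq : (g'⁻¹ * a ^ (2 ^ (n - 2)) * g') ^ 2 = b := by
    have := conj_pow' g'⁻¹ (a ^ (2 ^ (n - 2))) 2
    rw [inv_inv] at this
    rw [this, hq0sq, ← hg'b]
    group
  have := sq_mem (S : Subgroup G) hS ha hb hn hao hbo hrel _ ((hMmem _).mp hmM).1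
  rw [hmsq] at this
  exact b_not_mem hn hao hrel this

end Main


/-- Groups with a modular Sylow 2-subgroup have a normal 2-complement. Let S, of order 2^(n+1) with n ≥ 3, be a Sylow 2-subgroup of a finite group G, and suppose S contains an element a of order 2^n and an involution b with b a b⁻¹ = a^(2^(n-1) + 1); so S is the non-abelian 2-group with a cyclic subgroup of index 2 that is neither dihedral, semidihedral nor generalized quaternion. Then G has a normal 2-complement. -/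
theorem result {G : Type*} [Group G] [Finite G]
    (S : Sylow 2 G) (n : ℕ) (hn : 3 ≤ n) (hS : Nat.card ↥(S : Subgroup G) = 2 ^ (n + 1))
    (a b : G) (ha : a ∈ (S : Subgroup G)) (hb : b ∈ (S : Subgroup G))
    (hao : orderOf a = 2 ^ n) (hbo : orderOf b = 2) (hrel : b * a * b⁻¹ = a ^ (2 ^ (n - 1) + 1)) :
    Cfsg.HasNormalPComplement 2 G := by
  have : Fact (Nat.Prime 2) := ⟨Nat.prime_two⟩
  have hbnot := b_not_mem hn hao hrel
  have hnc := b_not_conj_z S n hn hS a b ha hb hao hbo hrel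
  have hb1 : b ≠ 1 := by
    intro h
    rw [h, orderOf_one] at hbo
    exact absurd hbo (by norm_num)
  have h2n : 2 ^ n = 2 ^ (n - 1) * 2 := by
    have : n = (n - 1) + 1 := by omega
    conv_lhs => rw [this]
    rw [pow_succ]
  -- no conjugate of `b` lies in `⟨a⟩`
  have hcon : ∀ g : G, g * b * g⁻¹ ∉ zpowers a := by
    intro g hmem
    rw [← mem_powers_iff_mem_zpowers] at hmem
    obtain ⟨i, hi⟩ := hmem
    have hi' : a ^ i = g * b * g⁻¹ := hi
    have h2 : (a ^ i) ^ 2 = 1 := by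
      rw [hi', conj_pow', pow_two, b_mul_b hbo]; group
    have hd : 2 ^ n ∣ i * 2 := by
      rw [← hao]
      apply orderOf_dvd_of_pow_eq_one
      rw [pow_mul]; exact h2
    have hd' : 2 ^ (n - 1) ∣ i := by
      rw [h2n] at hd
      exact Nat.dvd_of_mul_dvd_mul_right (by norm_num) hd
    obtain ⟨j, rfl⟩ := hd'
    rw [pow_mul] at hi'
    rcases Nat.even_or_odd j with hj | hj
    · rw [z_pow_even hn hao hj] at hi'
      apply hb1
      have : b = g⁻¹ * (g * b * g⁻¹) * g := by group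
      rw [this, ← hi']; group
    · rw [z_pow_odd hn hao hj] at hi'
      exact hnc g hi'.symm
  -- Thompson transfer into `S / ⟨a⟩`
  have hord : ∀ y ∈ (S : Subgroup G), y ∉ zpowers a → 2 ^ (1 - 1) < orderOf y := by
    intro y _ hy
    have hy1 : y ≠ 1 := by
      intro h; apply hy; rw [h]; exact one_mem _
    have h1 : orderOf y ≠ 1 := by
      intro h; exact hy1 (orderOf_eq_one_iff.mp h)
    have h0 : 0 < orderOf y := orderOf_pos y
    simp only [Nat.sub_self, pow_zero]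
    omega
  obtain ⟨H₁, hH₁, hbH₁⟩ := Cfsg.Agent.Helper53.thompson_transfer S (zpowers a)
    (relIndex_zpowers_a (S : Subgroup G) hS ha hao) 1 le_rfl hord b (by rw [hbo, pow_one]) hcon
  -- an element `w ∈ S ∩ H₁` of order `2^n`
  have hw : ∃ w ∈ H₁, w ∈ (S : Subgroup G) ∧ orderOf w = 2 ^ n := by
    by_cases haH : a ∈ H₁
    · exact ⟨a, haH, ha, hao⟩
    · refine ⟨a * b, ?_, mul_mem ha hb, ?_⟩
      · rw [mul_mem_iff_of_index_two hH₁]
        exact ⟨fun h => absurd h haH, fun h => absurd h hbH₁⟩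
      · have h1 : (a * b) ^ (2 ^ (n - 1)) = a ^ (2 ^ (n - 1)) := by
          have := pow_a_pow_mul_b hn hao hbo hrel 1
          rwa [pow_one, pow_one] at this
        have hnot : ¬ (a * b) ^ (2 ^ (n - 1)) = 1 := by
          rw [h1]; exact z_ne_one hn hao
        have hfin : (a * b) ^ (2 ^ (n - 1 + 1)) = 1 := by
          rw [pow_succ, pow_mul, h1]
          exact z_sq hn hao
        have := orderOf_eq_prime_pow hnot hfin
        rw [this]
        congr 1
        omega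
  obtain ⟨w, hwH, hwS, hwo⟩ := hw
  have hleH : zpowers w ≤ H₁ := by rw [zpowers_le]; exact hwH
  have hleS : zpowers w ≤ (S : Subgroup G) := by rw [zpowers_le]; exact hwS
  have hcyc : IsCyclic ↥((zpowers w).subgroupOf H₁) :=
    isCyclic_of_surjective (subgroupOfEquivOfLe hleH).symm.toMonoidHom
      (subgroupOfEquivOfLe hleH).symm.surjective
  have h2g : IsPGroup 2 ↥((zpowers w).subgroupOf H₁) :=
    (S.2.to_le hleS).of_equiv (subgroupOfEquivOfLe hleH).symm
  have hodd : ¬ 2 ∣ ((zpowers w).subgroupOf H₁).index := by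
    change ¬ 2 ∣ (zpowers w).relIndex H₁
    have e1 := relIndex_mul_card_of_le hleH
    rw [Nat.card_zpowers, hwo] at e1
    have e2 := H₁.card_mul_index
    rw [hH₁] at e2
    have e3 := (S : Subgroup G).card_mul_index
    rw [hS] at e3
    have hpos : 0 < 2 ^ n * 2 := by positivity
    have : (zpowers w).relIndex H₁ * (2 ^ n * 2) = (S : Subgroup G).index * (2 ^ n * 2) := by
      calc (zpowers w).relIndex H₁ * (2 ^ n * 2) = ((zpowers w).relIndex H₁ * 2 ^ n) * 2 := by ring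
        _ = Nat.card G := by rw [e1, e2]
        _ = 2 ^ (n + 1) * (S : Subgroup G).index := e3.symm
        _ = (S : Subgroup G).index * (2 ^ n * 2) := by rw [pow_succ]; ring
    rw [Nat.eq_of_mul_eq_mul_right hpos this]
    exact S.not_dvd_index
  have : H₁.Normal := normal_of_index_eq_two hH₁
  exact Cfsg.Agent.Helper53.hasNormalPComplement_lift H₁ 1 (by rw [hH₁, pow_one])
    (Cfsg.Agent.Helper53.hasNormalPComplement_of_cyclic _ hcyc h2g hodd)

end Cfsg.Agent.S3178
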