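import Cfsg.Statements.S3179
import Mathlib
import Cfsg.Agent.Lib.Helper63.GL52
import Cfsg.Agent.Lib.Helper63.SU3Inv
import Cfsg.Agent.Lib.Helper5.SUCenter
import Cfsg.Agent.Lib.Helper98.PSL2Card
import Cfsg.Agent.Lib.Helper39.SzGroups

set_option autoImplicit false
open Cfsg

namespace Cfsg.Agent.S3179

open Cfsg.Agent.Helper63.GL52

/-- Let X be a section of the general linear group GL(5, 2), that is, a quotient of a subgroup of it. If X is isomorphic to PSL(2, 2^n) for some n ≥ 2, to a Suzuki group over the field with 2^(2m+1) elements for some m ≥ 1, or to PSU(3, 2^n) for some n ≥ 2, then X is isomorphic to PSL(2, 4). -/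
theorem result {H : Subgroup (GL (Fin 5) (ZMod 2))}
    {K : Subgroup ↥H} [K.Normal]
    (hX : (∃ (n : ℕ) (F : Type) (_ : Field F) (_ : Fintype F), 2 ≤ n ∧ Fintype.card F = 2 ^ n ∧
        Nonempty (↥H ⧸ K ≃* Matrix.ProjectiveSpecialLinearGroup (Fin 2) F)) ∨
      (∃ (m : ℕ) (F : Type) (_ : Field F) (_ : Fintype F), 1 ≤ m ∧ Fintype.card F = 2 ^ (2 * m + 1) ∧
        Nonempty (↥H ⧸ K ≃* ↥(Cfsg.Lie.Sz F (2 ^ (m + 1))))) ∨
      (∃ (n : ℕ) (F : Type) (_ : Field F) (_ : Fintype F), 2 ≤ n ∧ Fintype.card F = 4 ^ n ∧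
        Nonempty (↥H ⧸ K ≃* Cfsg.PSU 3 F (2 ^ n)))) :
    ∃ (F : Type) (_ : Field F) (_ : Fintype F), Fintype.card F = 4 ∧
      Nonempty (↥H ⧸ K ≃* Matrix.ProjectiveSpecialLinearGroup (Fin 2) F) := by
  classical
  have hdvd : Nat.card (↥H ⧸ K) ∣ 9999360 := by
    rw [← card_G52]
    exact (Subgroup.card_quotient_dvd_card K).trans (Subgroup.card_subgroup_dvd_card H)
  have hf2 : (9999360 : ℕ).factorization 2 = 10 :=
    factorization_of_eq_mul_pow (m := 9765) Nat.prime_two (by norm_num) (by norm_num)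
  have hpow2 : ∀ k, 2 ^ k ∣ 9999360 → k ≤ 10 := by
    intro k hk
    rw [← hf2]
    exact (Nat.Prime.pow_dvd_iff_le_factorization Nat.prime_two (by norm_num)).mp hk
  have hf2' : (29998080 : ℕ).factorization 2 = 10 :=
    factorization_of_eq_mul_pow (m := 29295) Nat.prime_two (by norm_num) (by norm_num)
  have hpow2' : ∀ k, 2 ^ k ∣ 29998080 → k ≤ 10 := by
    intro k hk
    rw [← hf2']
    exact (Nat.Prime.pow_dvd_iff_le_factorization Nat.prime_two (by norm_num)).mp hk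
  rcases hX with ⟨n, F, hField, hFin, hn, hF, ⟨e⟩⟩ | ⟨m, F, hField, hFin, hm, hF, ⟨e⟩⟩ |
    ⟨n, F, hField, hFin, hn, hF, ⟨e⟩⟩
  · -- `PSL(2, 2^n)`
    have hc : Nat.card (↥H ⧸ K) = ((2 ^ n) ^ 2 - 1) * 2 ^ n := by
      rw [Nat.card_congr e.toEquiv]
      exact Cfsg.Agent.Helper98.PSL2Card.card_psl2_even hF
        (Nat.even_pow.mpr ⟨even_two, by omega⟩)
    rw [hc] at hdvd
    have hn10 : n ≤ 10 := hpow2 n (Dvd.dvd.trans (Dvd.intro_left _ rfl) hdvd)
    interval_cases n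
    · exact ⟨F, hField, hFin, by rw [hF]; norm_num, ⟨e⟩⟩
    · exfalso
      obtain ⟨g, hg⟩ := exists_order_nine (F := F) (by rw [hF]; norm_num)
      have h1 : orderOf (e.symm g) = 9 := by rw [MulEquiv.orderOf_eq, hg]
      obtain ⟨x, hx⟩ := QuotientGroup.mk_surjective (e.symm g)
      have h2 : 9 ∣ orderOf x := by
        have := orderOf_map_dvd (QuotientGroup.mk' K) x
        rw [QuotientGroup.mk'_apply, hx, h1] at this
        exact this
      have hpos : 0 < orderOf x := orderOf_pos x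
      obtain ⟨k, hk⟩ := h2
      have hk0 : k ≠ 0 := by
        rintro rfl
        omega
      have h3 : orderOf (x ^ k) = 9 := by
        rw [orderOf_pow_of_dvd hk0 ⟨9, by rw [hk, mul_comm]⟩, hk]
        exact Nat.mul_div_cancel _ (Nat.pos_of_ne_zero hk0)
      have h4 : orderOf ((x ^ k : ↥H) : G52) = 9 := by
        rw [Subgroup.orderOf_coe, h3]
      exact no_order_nine _ h4
    all_goals (exfalso; revert hdvd; norm_num)
  · -- Suzuki groups
    exfalso
    have hc : Nat.card (↥H ⧸ K) = ((2 ^ (2 * m + 1)) ^ 2 + 1) *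
        ((2 ^ (2 * m + 1) - 1) * (2 ^ (2 * m + 1) * 2 ^ (2 * m + 1))) := by
      rw [Nat.card_congr e.toEquiv,
        Cfsg.Agent.Helper39.card_lieSz (Cfsg.Agent.Helper39.titsHyp_of_card m hF), hF]
    rw [hc] at hdvd
    have h1 : 2 ^ ((2 * m + 1) + (2 * m + 1)) ∣ 9999360 := by
      rw [pow_add]
      exact Dvd.dvd.trans (Dvd.intro_left _ rfl) (Dvd.dvd.trans (Dvd.intro_left _ rfl) hdvd)
    have hm2 := hpow2 _ h1
    have hm' : m ≤ 2 := by omega
    interval_cases m <;> (revert hdvd; norm_num)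
  · -- `PSU(3, 2^n)`
    exfalso
    have hK : Fintype.card F = (2 ^ n) ^ 2 := by
      rw [hF, ← pow_mul, mul_comm, pow_mul]
      norm_num
    have h1 := Cfsg.Agent.Helper63.SU3.card_SU3 hK
    have h2 := Cfsg.Agent.Helper5.card_center_SU hK (le_refl 3)
    have h3 := Subgroup.card_eq_card_quotient_mul_card_subgroup
      (Subgroup.center (Cfsg.SU 3 F (2 ^ n)))
    rw [h1, h2, ← Nat.card_congr e.toEquiv] at h3
    have h4 : (2 ^ n) ^ 3 * ((2 ^ n) ^ 2 - 1) * ((2 ^ n) ^ 3 + 1) ∣ 29998080 := by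
      rw [h3, show 29998080 = 9999360 * 3 by norm_num]
      exact Nat.mul_dvd_mul hdvd (Nat.gcd_dvd_left 3 _)
    have h5 : 2 ^ (n * 3) ∣ 29998080 := by
      rw [pow_mul]
      exact Dvd.dvd.trans (Dvd.intro _ rfl) (Dvd.dvd.trans (Dvd.intro _ rfl) h4)
    have h6 := hpow2' _ h5
    have hn' : n ≤ 3 := by omega
    interval_cases n <;> (revert h4; norm_num)

end Cfsg.Agent.S3179
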