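import Cfsg.Statements.S3180
import Mathlib
import Cfsg.Agent.Lib.Helper53.SylowConj

set_option autoImplicit false
open Cfsg

namespace Cfsg.Agent.S3180

open Subgroup

theorem mem_normalizer_of_map_conj_eq {J : Type*} [Group J] [Finite J] {P₁ : Subgroup J} {g : J}
    (h : P₁.map (MulAut.conj g).toMonoidHom = P₁) : g ∈ normalizer (P₁ : Set J) := by
  apply mem_normalizer_fintype
  intro a ha
  have : g * a * g⁻¹ ∈ P₁.map (MulAut.conj g).toMonoidHom := ⟨a, ha, rfl⟩
  rw [h] at this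
  exact this

/-- Let P be a Sylow p-subgroup of a finite group J and P₁ a subgroup of P that is weakly closed in P with respect to J. If J acts on a set and two points, each fixed by every element of P₁, lie in one J-orbit, then they lie in one orbit of the normalizer of P₁ in J. -/
theorem result {J : Type*} [Group J] [Finite J]
    {p : ℕ} [Fact p.Prime] (P : Sylow p J) (P₁ : Subgroup J) (hW : Cfsg.IsWeaklyClosed P₁ (P : Subgroup J))
    {Ω : Type*} [MulAction J Ω] (x y : Ω) (hx : ∀ g ∈ P₁, g • x = x) (hy : ∀ g ∈ P₁, g • y = y)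
    (hc : ∃ g : J, g • x = y) :
    ∃ g ∈ Subgroup.normalizer (P₁ : Set J), g • x = y := by
  obtain ⟨g, hg⟩ := hc
  obtain ⟨hle, hwc⟩ := hW
  have hpP₁ : IsPGroup p ↥P₁ := P.2.to_le hle
  -- the conjugate `Q = g P₁ g⁻¹`
  set Q : Subgroup J := P₁.map (MulAut.conj g).toMonoidHom with hQ
  have hpQ : IsPGroup p ↥Q := hpP₁.map _
  have hP₁K : P₁ ≤ MulAction.stabilizer J y := fun a ha => hy a ha
  have hQK : Q ≤ MulAction.stabilizer J y := by
    rintro q ⟨a, ha, rfl⟩
    rw [MulAction.mem_stabilizer_iff]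
    simp only [MulEquiv.coe_toMonoidHom, MulAut.conj_apply]
    rw [mul_smul, mul_smul, ← hg, inv_smul_smul, hx a ha]
  obtain ⟨h, hhK, P', hP₁P', hQP'⟩ :=
    Cfsg.Agent.Helper53.exists_conj_le_sylow hP₁K hQK hpP₁ hpQ
  obtain ⟨k, hk⟩ := MulAction.exists_smul_eq J P P'
  -- membership in `P'` in terms of `P`
  have hmemP' : ∀ z : J, z ∈ (P' : Subgroup J) → k⁻¹ * z * k ∈ (P : Subgroup J) := by
    intro z hz
    rw [← hk, Sylow.coe_subgroup_smul, Subgroup.mem_pointwise_smul_iff_inv_smul_mem] at hz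
    simpa [MulAut.conj_apply] using hz
  -- `k⁻¹` normalizes `P₁`
  have h1 : P₁.map (MulAut.conj k⁻¹).toMonoidHom = P₁ := by
    apply hwc
    rintro z ⟨a, ha, rfl⟩
    have := hmemP' a (hP₁P' ha)
    simpa [MulAut.conj_apply] using this
  -- `k⁻¹ h g` normalizes `P₁`
  have h2 : P₁.map (MulAut.conj (k⁻¹ * h * g)).toMonoidHom = P₁ := by
    apply hwc
    rintro z ⟨a, ha, rfl⟩
    have hq : g * a * g⁻¹ ∈ Q := ⟨a, ha, by simp [MulAut.conj_apply]⟩
    have := hmemP' _ (hQP' _ hq)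
    simp only [MulEquiv.coe_toMonoidHom, MulAut.conj_apply]
    have e : k⁻¹ * h * g * a * (k⁻¹ * h * g)⁻¹ = k⁻¹ * (h * (g * a * g⁻¹) * h⁻¹) * k := by group
    rw [e]
    exact this
  have hn1 : k⁻¹ ∈ normalizer (P₁ : Set J) := mem_normalizer_of_map_conj_eq h1
  have hn2 : k⁻¹ * h * g ∈ normalizer (P₁ : Set J) := mem_normalizer_of_map_conj_eq h2
  refine ⟨h * g, ?_, ?_⟩
  · have : h * g = k⁻¹⁻¹ * (k⁻¹ * h * g) := by group
    rw [this]
    exact mul_mem (inv_mem hn1) hn2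
  · rw [mul_smul, hg]
    exact hhK

end Cfsg.Agent.S3180
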