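import Cfsg.Statements.S3183
import Mathlib
import Cfsg.Agent.Lib.Helper53.Basic
import Cfsg.Agent.Lib.Helper53.SylowConj2

set_option autoImplicit false
open Cfsg

namespace Cfsg.Agent.S3183

open Subgroup

theorem mem_map_center_iff {X : Type*} [Group X] (R : Subgroup X) (z : X) :
    z ∈ (Subgroup.center ↥R).map R.subtype ↔ z ∈ R ∧ ∀ r ∈ R, r * z = z * r := by
  constructor
  · rintro ⟨⟨y, hy⟩, hyc, rfl⟩
    refine ⟨hy, fun r hr => ?_⟩
    have := (Subgroup.mem_center_iff.mp hyc) ⟨r, hr⟩
    exact congrArg Subtype.val this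
  · rintro ⟨hz, hc⟩
    refine ⟨⟨z, hz⟩, ?_, rfl⟩
    change (⟨z, hz⟩ : ↥R) ∈ Subgroup.center ↥R
    rw [Subgroup.mem_center_iff]
    intro r
    apply Subtype.ext
    exact hc r r.2

theorem mem_centralizer_singleton_iff {X : Type*} [Group X] (x g : X) :
    g ∈ centralizer ({x} : Set X) ↔ x * g = g * x := by
  rw [mem_centralizer_iff]
  constructor
  · intro h; exact h x (Set.mem_singleton x)
  · intro h y hy
    rw [Set.mem_singleton_iff] at hy
    subst hy
    exact h

/-- Key lemma: an element of `S` that is central in some Sylow 2-subgroup is central in `S`. -/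
theorem key {G : Type*} [Group G] [Finite G]
    (hCI : ∀ S T : Sylow 2 G, S ≠ T → ∃ U : Sylow 2 G,
      (S : Subgroup G) ⊓ (T : Subgroup G) ≤ (Subgroup.center ↥(U : Subgroup G)).map (U : Subgroup G).subtype)
    (S U : Sylow 2 G) (x : G) (hxS : x ∈ (S : Subgroup G))
    (hxU : x ∈ (Subgroup.center ↥(U : Subgroup G)).map (U : Subgroup G).subtype) :
    x ∈ (Subgroup.center ↥(S : Subgroup G)).map (S : Subgroup G).subtype := by
  have : Fact (Nat.Prime 2) := ⟨Nat.prime_two⟩
  by_contra hxZ
  rw [mem_map_center_iff] at hxU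
  set C : Subgroup G := centralizer ({x} : Set G) with hC
  have hUC : (U : Subgroup G) ≤ C := by
    intro u hu
    rw [hC, mem_centralizer_singleton_iff]
    exact (hxU.2 u hu).symm
  have hSC : ¬ (S : Subgroup G) ≤ C := by
    intro hle
    apply hxZ
    rw [mem_map_center_iff]
    refine ⟨hxS, fun r hr => ?_⟩
    have := hle hr
    rw [hC, mem_centralizer_singleton_iff] at this
    exact this.symm
  set A : Subgroup G := (S : Subgroup G) ⊓ C with hA
  have hxA : x ∈ A := ⟨hxS, (mem_centralizer_singleton_iff x x).mpr rfl⟩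
  have hAp : IsPGroup 2 ↥A := S.2.to_le inf_le_left
  -- a Sylow 2-subgroup `R` of `G` with `A ≤ R ≤ C`
  obtain ⟨h, hhC, hAR⟩ := Cfsg.Agent.Helper53.exists_conj_sylow_ge U hUC (inf_le_right : A ≤ C) hAp
  set R : Sylow 2 G := h • U with hR
  have hRC : (R : Subgroup G) ≤ C := by
    intro g hg
    rw [hR, Cfsg.Agent.Helper53.mem_smul_sylow_iff] at hg
    have h1 := hUC hg
    have : g = h * (h⁻¹ * g * h) * h⁻¹ := by group
    rw [this]
    exact mul_mem (mul_mem hhC h1) (inv_mem hhC)
  have hSR : S ≠ R := by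
    intro heq
    apply hSC
    rw [heq]
    exact hRC
  have hSRA : (S : Subgroup G) ⊓ (R : Subgroup G) = A := by
    apply le_antisymm
    · exact le_inf inf_le_left (inf_le_right.trans hRC)
    · exact le_inf inf_le_left hAR
  obtain ⟨U', hU'⟩ := hCI S R hSR
  rw [hSRA] at hU'
  -- `U'` centralizes `A`
  have hU'cent : ∀ u ∈ (U' : Subgroup G), ∀ a ∈ A, u * a = a * u := by
    intro u hu a ha
    exact ((mem_map_center_iff _ a).mp (hU' ha)).2 u hu
  -- normalizer growth: an element `y` of `N_S(A)` outside `A`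
  have hAS : A ≤ (S : Subgroup G) := inf_le_left
  have hAneS : A ≠ (S : Subgroup G) := by
    intro heq
    apply hSC
    rw [← heq]
    exact inf_le_right
  have hdvd : 2 ∣ A.relIndex (S : Subgroup G) := by
    have hne1 : A.relIndex (S : Subgroup G) ≠ 1 := by
      intro h1
      apply hAneS
      exact le_antisymm hAS (relIndex_eq_one.mp h1)
    have hSp : IsPGroup 2 ↥(S : Subgroup G) := S.2
    obtain ⟨k, hk⟩ := (IsPGroup.iff_card.mp hSp)
    have hd : A.relIndex (S : Subgroup G) ∣ 2 ^ k := by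
      rw [← hk]
      exact relIndex_dvd_card A (S : Subgroup G)
    obtain ⟨j, hj, hj'⟩ := (Nat.dvd_prime_pow Nat.prime_two).1 hd
    rw [hj']
    rcases Nat.eq_zero_or_pos j with h0 | hpos
    · exfalso; apply hne1; rw [hj', h0, pow_zero]
    · exact dvd_pow_self 2 (Nat.pos_iff_ne_zero.mp hpos)
  have hdvd2 := Cfsg.Agent.Helper53.dvd_relIndex_normalizer hAS hAp hdvd
  set N : Subgroup G := normalizer (A : Set G) with hN
  have hex : ∃ y ∈ (S : Subgroup G) ⊓ N, y ∉ A := by
    by_contra hcon
    push Not at hcon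
    have hle : (S : Subgroup G) ⊓ N ≤ A := hcon
    have : A.relIndex ((S : Subgroup G) ⊓ N) = 1 := relIndex_eq_one.mpr hle
    rw [this] at hdvd2
    exact absurd hdvd2 (by norm_num)
  obtain ⟨y, hySN, hyA⟩ := hex
  -- a Sylow 2-subgroup `V ≥ S ⊓ N` centralizing `A`
  have hU'N : (U' : Subgroup G) ≤ N := by
    intro u hu
    rw [hN]
    apply mem_normalizer_fintype
    intro a ha
    have := hU'cent u hu a ha
    have e : u * a * u⁻¹ = a := by rw [this]; group
    rw [e]; exact ha
  obtain ⟨k, hkN, hSNV⟩ := Cfsg.Agent.Helper53.exists_conj_sylow_ge U' hU'N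
    (inf_le_right : (S : Subgroup G) ⊓ N ≤ N) (S.2.to_le inf_le_left)
  have hyV := hSNV hySN
  rw [Cfsg.Agent.Helper53.mem_smul_sylow_iff] at hyV
  -- `y` commutes with `x`
  have hkx : k⁻¹ * x * k ∈ A := by
    have hk' : k⁻¹ ∈ N := inv_mem hkN
    rw [hN, mem_normalizer_iff] at hk'
    have := (hk' x).1 hxA
    simpa using this
  have hcomm := hU'cent _ hyV _ hkx
  have hyx : y * x = x * y := by
    have e1 : y * x = k * ((k⁻¹ * y * k) * (k⁻¹ * x * k)) * k⁻¹ := by group
    have e2 : x * y = k * ((k⁻¹ * x * k) * (k⁻¹ * y * k)) * k⁻¹ := by group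
    rw [e1, e2, hcomm]
  apply hyA
  exact ⟨hySN.1, (mem_centralizer_singleton_iff x y).mpr hyx.symm⟩

/-- Let G be a finite group in which the intersection of any two distinct Sylow 2-subgroups is contained in the centre of some Sylow 2-subgroup, and let S be a Sylow 2-subgroup. Then for every x in S the centralizer of x in S is a Sylow 2-subgroup of the centralizer of x in G (no 2-subgroup centralizing x is larger), and for every other Sylow 2-subgroup T the intersection S ∩ T lies in both the centre of S and the centre of T. -/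
theorem result {G : Type*} [Group G] [Finite G]
    (hCI : ∀ S T : Sylow 2 G, S ≠ T → ∃ U : Sylow 2 G,
      (S : Subgroup G) ⊓ (T : Subgroup G) ≤ (Subgroup.center ↥(U : Subgroup G)).map (U : Subgroup G).subtype)
    (S : Sylow 2 G) :
    (∀ x ∈ (S : Subgroup G), ∀ P : Subgroup G, IsPGroup 2 ↥P → P ≤ Subgroup.centralizer ({x} : Set G) →
        Nat.card ↥P ≤ Nat.card ↥((S : Subgroup G) ⊓ Subgroup.centralizer ({x} : Set G))) ∧
    (∀ T : Sylow 2 G, T ≠ S →
        (S : Subgroup G) ⊓ (T : Subgroup G) ≤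
          (Subgroup.center ↥(S : Subgroup G)).map (S : Subgroup G).subtype ⊓
            (Subgroup.center ↥(T : Subgroup G)).map (T : Subgroup G).subtype) := by
  have : Fact (Nat.Prime 2) := ⟨Nat.prime_two⟩
  have part2 : ∀ S T : Sylow 2 G, T ≠ S →
        (S : Subgroup G) ⊓ (T : Subgroup G) ≤
          (Subgroup.center ↥(S : Subgroup G)).map (S : Subgroup G).subtype ⊓
            (Subgroup.center ↥(T : Subgroup G)).map (T : Subgroup G).subtype := by
    intro S T hTS d hd
    obtain ⟨U, hU⟩ := hCI S T (Ne.symm hTS)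
    have hdU := hU hd
    exact ⟨key hCI S U d hd.1 hdU, key hCI T U d hd.2 hdU⟩
  refine ⟨?_, fun T hTS => part2 S T hTS⟩
  intro x hxS P hP hPC
  -- `P ⊔ ⟨x⟩` is a 2-group
  have hxp : IsPGroup 2 ↥(zpowers x) := S.2.to_le (by
    rw [zpowers_le]; exact hxS)
  have hPx : P ≤ Subgroup.normalizer ((zpowers x : Subgroup G) : Set G) := by
    intro g hg
    have hgx := hPC hg
    rw [mem_centralizer_singleton_iff] at hgx
    apply mem_normalizer_fintype
    intro n hn
    have hn' : n ∈ zpowers x := hn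
    obtain ⟨i, rfl⟩ := mem_zpowers_iff.mp hn'
    have hc : Commute g x := hgx.symm
    have : g * x ^ i * g⁻¹ = x ^ i := by
      have := (hc.zpow_right i).eq
      rw [this]; group
    rw [this]; exact hn
  have hsup : IsPGroup 2 ↥(P ⊔ zpowers x) := hP.to_sup_of_normal_right' hxp hPx
  obtain ⟨T, hT⟩ := hsup.exists_le_sylow
  have hPT : P ≤ (T : Subgroup G) := le_sup_left.trans hT
  have hxT : x ∈ (T : Subgroup G) := hT (le_sup_right (a := P) (mem_zpowers x))
  by_cases hTS : T = S
  · subst hTS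
    exact card_le_of_le (le_inf hPT hPC)
  · have hxZ : x ∈ (Subgroup.center ↥(S : Subgroup G)).map (S : Subgroup G).subtype :=
      (part2 S T hTS ⟨hxS, hxT⟩).1
    rw [mem_map_center_iff] at hxZ
    have hSle : (S : Subgroup G) ≤ centralizer ({x} : Set G) := by
      intro s hs
      rw [mem_centralizer_singleton_iff]
      exact (hxZ.2 s hs).symm
    rw [inf_of_le_left hSle]
    calc Nat.card ↥P ≤ Nat.card ↥(T : Subgroup G) := card_le_of_le hPT
      _ = Nat.card ↥(S : Subgroup G) := by
        rw [Sylow.card_eq_multiplicity, Sylow.card_eq_multiplicity]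

end Cfsg.Agent.S3183
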