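import Cfsg.Statements.S3190
import Mathlib
import Cfsg.Agent.Lib.Helper53.PGroupFix

set_option autoImplicit false
open Cfsg

namespace Cfsg.Agent.S3190

open Subgroup

theorem mem_map_center_iff {X : Type*} [Group X] (R : Subgroup X) (z : X) :
    z ∈ (Subgroup.center ↥R).map R.subtype ↔ z ∈ R ∧ ∀ r ∈ R, r * z = z * r := by
  constructor
  · rintro ⟨⟨y, hy⟩, hyc, rfl⟩
    refine ⟨hy, fun r hr => ?_⟩
    have := (Subgroup.mem_center_iff.mp hyc) ⟨r, hr⟩
    exact congrArg Subtype.val this
  · rintro ⟨hz, hc⟩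
    refine ⟨⟨z, hz⟩, ?_, rfl⟩
    change (⟨z, hz⟩ : ↥R) ∈ Subgroup.center ↥R
    rw [Subgroup.mem_center_iff]
    intro r
    apply Subtype.ext
    exact hc r r.2

theorem conj_mem_map_center {X : Type*} [Group X] (R : Subgroup X) (g z : X)
    (hg : g ∈ normalizer (R : Set X)) (hz : z ∈ (Subgroup.center ↥R).map R.subtype) :
    g * z * g⁻¹ ∈ (Subgroup.center ↥R).map R.subtype := by
  rw [mem_map_center_iff] at hz ⊢
  obtain ⟨hzR, hzc⟩ := hz
  refine ⟨(mem_normalizer_iff.mp hg z).1 hzR, fun r hr => ?_⟩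
  have hr' : g⁻¹ * r * g ∈ R := by
    have := (mem_normalizer_iff.mp (inv_mem hg) r).1 hr
    simpa using this
  have h := hzc _ hr'
  calc r * (g * z * g⁻¹) = g * ((g⁻¹ * r * g) * z) * g⁻¹ := by group
    _ = g * (z * (g⁻¹ * r * g)) * g⁻¹ := by rw [h]
    _ = g * z * g⁻¹ * r := by group

/-- Let p be an odd prime and, inside a finite group, let P be a p-subgroup normalized by a Klein four-group T. Let R be a subgroup of P, normal in P and normalized by T, such that P is the product of R with the centralizer of T in P. If T centralizes the centre of P, then T centralizes the centre of R. -/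
theorem result {X : Type*} [Group X] [Finite X]
    {p : ℕ} (hp : p.Prime) (hodd : Odd p) (P T R : Subgroup X) (hP : IsPGroup p ↥P) (hT : IsKleinFour ↥T)
    (hTP : T ≤ Subgroup.normalizer (P : Set X)) (hRP : R ≤ P) (hRn : (R.subgroupOf P).Normal)
    (hTR : T ≤ Subgroup.normalizer (R : Set X)) (hfac : R ⊔ (P ⊓ Subgroup.centralizer (T : Set X)) = P)
    (hZ : T ≤ Subgroup.centralizer (((Subgroup.center ↥P).map P.subtype : Subgroup X) : Set X)) :
    T ≤ Subgroup.centralizer (((Subgroup.center ↥R).map R.subtype : Subgroup X) : Set X) := by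
  have : Fact p.Prime := ⟨hp⟩
  intro t ht
  rw [mem_centralizer_iff]
  -- `t` is an involution or trivial
  have ht2 : t * t = 1 := by
    have h := Monoid.pow_exponent_eq_one (⟨t, ht⟩ : ↥T)
    rw [hT.exponent_two] at h
    have := congrArg Subtype.val h
    simpa [pow_two] using this
  have htinv : t⁻¹ = t := by
    rw [inv_eq_iff_mul_eq_one]; exact ht2
  have htN : t ∈ normalizer (R : Set X) := hTR ht
  have hPN : P ≤ normalizer (R : Set X) := (normal_subgroupOf_iff_le_normalizer hRP).mp hRn
  set ZR : Subgroup X := (Subgroup.center ↥R).map R.subtype with hZR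
  have hZRR : ZR ≤ R := by
    intro z hz
    exact ((mem_map_center_iff R z).mp hz).1
  have hZRcomm : ∀ u ∈ ZR, ∀ v ∈ ZR, u * v = v * u := by
    intro u hu v hv
    exact ((mem_map_center_iff R v).mp hv).2 u (hZRR hu)
  -- the subgroup of elements of `Z(R)` inverted by `t`
  let I : Subgroup X :=
    { carrier := {u | u ∈ ZR ∧ t * u * t⁻¹ = u⁻¹}
      one_mem' := ⟨one_mem _, by simp⟩
      mul_mem' := by
        rintro u v ⟨hu, hu'⟩ ⟨hv, hv'⟩
        refine ⟨mul_mem hu hv, ?_⟩
        calc t * (u * v) * t⁻¹ = (t * u * t⁻¹) * (t * v * t⁻¹) := by group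
          _ = u⁻¹ * v⁻¹ := by rw [hu', hv']
          _ = (v * u)⁻¹ := by group
          _ = (u * v)⁻¹ := by rw [hZRcomm u hu v hv]
      inv_mem' := by
        rintro u ⟨hu, hu'⟩
        refine ⟨inv_mem hu, ?_⟩
        calc t * u⁻¹ * t⁻¹ = (t * u * t⁻¹)⁻¹ := by group
          _ = u⁻¹⁻¹ := by rw [hu'] }
  have hImem : ∀ u, u ∈ I ↔ u ∈ ZR ∧ t * u * t⁻¹ = u⁻¹ := fun u => Iff.rfl
  have hIP : I ≤ P := fun u hu => hRP (hZRR hu.1)
  have hIp : IsPGroup p ↥I := hP.to_le hIP
  set C : Subgroup X := P ⊓ Subgroup.centralizer (T : Set X) with hC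
  have hCp : IsPGroup p ↥C := hP.to_le inf_le_left
  have hCnorm : C ≤ normalizer (I : Set X) := by
    intro c hc
    apply mem_normalizer_fintype
    intro u hu
    have hu' : u ∈ I := hu
    rw [hImem] at hu'
    change c * u * c⁻¹ ∈ I
    rw [hImem]
    refine ⟨conj_mem_map_center R c u (hPN hc.1) hu'.1, ?_⟩
    have hct : t * c = c * t := by
      have := (mem_centralizer_iff.mp hc.2) t ht
      exact this
    have hct' : t * c⁻¹ = c⁻¹ * t := by
      calc t * c⁻¹ = c⁻¹ * (c * t) * c⁻¹ := by group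
        _ = c⁻¹ * (t * c) * c⁻¹ := by rw [hct]
        _ = c⁻¹ * t := by group
    calc t * (c * u * c⁻¹) * t⁻¹ = (t * c) * u * (t * c)⁻¹ := by group
      _ = (c * t) * u * (c * t)⁻¹ := by rw [hct]
      _ = c * (t * u * t⁻¹) * c⁻¹ := by group
      _ = c * u⁻¹ * c⁻¹ := by rw [hu'.2]
      _ = (c * u * c⁻¹)⁻¹ := by group
  have hIbot : I = ⊥ := by
    by_contra hne
    obtain ⟨u, huI, hu1, hucomm⟩ :=
      Cfsg.Agent.Helper53.exists_fixed_of_normalizes I C hIp hCp hCnorm hne
    rw [hImem] at huI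
    obtain ⟨huZ, hut⟩ := huI
    have huR := (mem_map_center_iff R u).mp huZ
    -- `u` is central in `P`
    have huP : u ∈ (Subgroup.center ↥P).map P.subtype := by
      rw [mem_map_center_iff]
      refine ⟨hRP huR.1, ?_⟩
      have hle : P ≤ centralizer ({u} : Set X) := by
        rw [← hfac]
        apply sup_le
        · intro r hr
          rw [mem_centralizer_iff]
          intro y hy
          rw [Set.mem_singleton_iff] at hy
          subst hy
          exact (huR.2 r hr).symm
        · intro c hc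
          rw [mem_centralizer_iff]
          intro y hy
          rw [Set.mem_singleton_iff] at hy
          subst hy
          exact (hucomm c hc).symm
      intro r hr
      have := (mem_centralizer_iff.mp (hle hr)) u (Set.mem_singleton u)
      exact this.symm
    have hcomm : u * t = t * u := (mem_centralizer_iff.mp (hZ ht)) u huP
    have hinv : u = u⁻¹ := by
      calc u = t * u * t⁻¹ := by rw [← hcomm]; group
        _ = u⁻¹ := hut
    have hu2 : u ^ 2 = 1 := by
      rw [pow_two]
      calc u * u = u * u⁻¹ := by rw [← hinv]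
        _ = 1 := mul_inv_cancel u
    -- order of `u` is a power of the odd prime `p` dividing 2
    obtain ⟨k, hk⟩ := hP ⟨u, hRP huR.1⟩
    have hk' : u ^ p ^ k = 1 := by
      have := congrArg Subtype.val hk
      simpa using this
    have hdvd : orderOf u ∣ 2 := orderOf_dvd_of_pow_eq_one hu2
    have hodd' : Odd (orderOf u) :=
      Odd.of_dvd_nat (hodd.pow) (orderOf_dvd_of_pow_eq_one hk')
    have : orderOf u = 1 := by
      rcases (Nat.dvd_prime Nat.prime_two).mp hdvd with h | h
      · exact h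
      · rw [h] at hodd'; exact absurd hodd' (by decide)
    exact hu1 (orderOf_eq_one_iff.mp this)
  intro z hz
  have hconj : t * z * t⁻¹ ∈ ZR := conj_mem_map_center R t z htN hz
  have huI : (t * z * t⁻¹) * z⁻¹ ∈ I := by
    rw [hImem]
    refine ⟨mul_mem hconj (inv_mem hz), ?_⟩
    calc t * (t * z * t⁻¹ * z⁻¹) * t⁻¹ = (t * t) * z * (t * t)⁻¹ * (t * z * t⁻¹)⁻¹ := by group
      _ = z * (t * z * t⁻¹)⁻¹ := by rw [ht2]; group
      _ = (t * z * t⁻¹ * z⁻¹)⁻¹ := by group
  rw [hIbot, mem_bot] at huI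
  have : t * z * t⁻¹ = z := by
    calc t * z * t⁻¹ = (t * z * t⁻¹ * z⁻¹) * z := by group
      _ = z := by rw [huI, one_mul]
  calc z * t = (t * z * t⁻¹) * t := by rw [this]
    _ = t * z := by group

end Cfsg.Agent.S3190
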