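import Cfsg.Statements.S3195
import Mathlib
import Cfsg.Agent.S0200

set_option autoImplicit false
open Cfsg

namespace Cfsg.Agent.S3195

/-- an element of odd order inverting an element of odd order: the latter is trivial. -/
theorem odd_inverts_trivial {G : Type*} [Group G] (y z : G) (hy : Odd (orderOf y))
    (hz : Odd (orderOf z)) (h : y * z * y⁻¹ = z⁻¹) : z = 1 := by
  obtain ⟨m, hm⟩ := hy
  have hy1 : y ^ (2 * m + 1) = 1 := by rw [← hm]; exact pow_orderOf_eq_one y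
  have hy2 : (y * y) ^ (m + 1) = y := by
    rw [← pow_two, ← pow_mul]
    have : 2 * (m + 1) = (2 * m + 1) + 1 := by ring
    rw [this, pow_succ, hy1, one_mul]
  have hc : Commute (y * y) z := by
    change (y * y) * z = z * (y * y)
    have h1 : y * z = z⁻¹ * y := by
      calc y * z = (y * z * y⁻¹) * y := by group
        _ = z⁻¹ * y := by rw [h]
    have h2 : y * z⁻¹ = z * y := by
      calc y * z⁻¹ = (y * z * y⁻¹)⁻¹ * y := by group
        _ = z * y := by rw [h, inv_inv]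
    calc (y * y) * z = y * (y * z) := by group
      _ = y * (z⁻¹ * y) := by rw [h1]
      _ = (y * z⁻¹) * y := by group
      _ = (z * y) * y := by rw [h2]
      _ = z * (y * y) := by group
  have hc2 : Commute y z := by
    have := hc.pow_left (m + 1)
    rwa [hy2] at this
  have h3 : z = z⁻¹ := by
    calc z = (y * z) * y⁻¹ := by rw [hc2.eq]; group
      _ = z⁻¹ := h
  have h4 : z ^ 2 = 1 := by
    rw [pow_two]
    calc z * z = z⁻¹ * z := by rw [← h3]
      _ = 1 := by group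
  have h5 : orderOf z ∣ 2 := orderOf_dvd_of_pow_eq_one h4
  have h6 : orderOf z = 1 := by
    have hle : orderOf z ≤ 2 := Nat.le_of_dvd (by norm_num) h5
    have hpos : 0 < orderOf z := Nat.pos_of_ne_zero (fun h0 => by rw [h0] at hz; exact absurd hz (by decide))
    obtain ⟨k, hk⟩ := hz
    omega
  exact orderOf_eq_one_iff.mp h6

/-- square roots in cyclic groups of odd order. -/
theorem exists_sqrt_of_odd {G : Type*} [Group G] (x : G) (hx : Odd (orderOf x)) :
    ∃ k : ℕ, (x ^ k) * (x ^ k) = x := by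
  obtain ⟨m, hm⟩ := hx
  refine ⟨m + 1, ?_⟩
  have hx1 : x ^ (2 * m + 1) = 1 := by rw [← hm]; exact pow_orderOf_eq_one x
  rw [← pow_add]
  have : m + 1 + (m + 1) = (2 * m + 1) + 1 := by ring
  rw [this, pow_succ, hx1, one_mul]

/-- conjugating an involution by a square root of an element it inverts. -/
theorem conj_sqrt {G : Type*} [Group G] (a x : G) (ha : a * a = 1) (hax : a * x * a⁻¹ = x⁻¹)
    (k : ℕ) (hk : (x ^ k) * (x ^ k) = x) : (x ^ k)⁻¹ * a * (x ^ k)⁻¹⁻¹ = a * x := by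
  have h1 : a * x ^ k * a⁻¹ = (x ^ k)⁻¹ := by
    rw [← conj_pow, hax, inv_pow]
  have ha' : a⁻¹ = a := inv_eq_of_mul_eq_one_left ha
  have h2 : (x ^ k)⁻¹ * a = a * x ^ k := by
    calc (x ^ k)⁻¹ * a = (a * x ^ k * a⁻¹) * a := by rw [h1]
      _ = a * x ^ k := by group
  rw [inv_inv, h2, mul_assoc, hk]

theorem eq_one_of_odd_of_sq {G : Type*} [Group G] (z : G) (hz : Odd (orderOf z))
    (h : z * z = 1) : z = 1 := by
  have h5 : orderOf z ∣ 2 := orderOf_dvd_of_pow_eq_one (by rw [pow_two]; exact h)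
  have h6 : orderOf z = 1 := by
    have hle : orderOf z ≤ 2 := Nat.le_of_dvd (by norm_num) h5
    obtain ⟨k, hk⟩ := hz
    omega
  exact orderOf_eq_one_iff.mp h6

/-- The Klein four-group `A`, with its elementwise description and the centralizer hypothesis. -/
structure Ctx {G : Type*} [Group G] (A : Subgroup G) : Prop where
  sq : ∀ d ∈ A, d * d = 1
  comm : ∀ d ∈ A, ∀ e ∈ A, d * e = e * d
  enum : ∀ a ∈ A, ∀ c ∈ A, ∀ d ∈ A, a ≠ 1 → c ≠ 1 → a ≠ c → d ≠ 1 → d ≠ a → d ≠ c → d = a * c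
  hyp : ∀ a ∈ A, a ≠ 1 → ∀ g : G, ∃ d ∈ A, d ≠ 1 ∧ d * (g * a * g⁻¹) = (g * a * g⁻¹) * d

/-- `a` inverts `x`, `c` centralizes `x`. -/
structure Rel {G : Type*} [Group G] (A : Subgroup G) (a c x : G) : Prop where
  ha : a ∈ A
  hc : c ∈ A
  ha1 : a ≠ 1
  hc1 : c ≠ 1
  hac : a ≠ c
  hx1 : x ≠ 1
  hxo : Odd (orderOf x)
  inv : a * x * a⁻¹ = x⁻¹
  cen : c * x = x * c

theorem inv_eq_self_of_sq {G : Type*} [Group G] (d : G) (h : d * d = 1) : d⁻¹ = d :=
  inv_eq_of_mul_eq_one_left h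

theorem Rel.transfer {G : Type*} [Group G] {A : Subgroup G} (hA : Ctx A) {a c x : G}
    (h : Rel A a c x) : Rel A (a * c) c x := by
  have hc' : c⁻¹ = c := inv_eq_self_of_sq c (hA.sq c h.hc)
  refine ⟨mul_mem h.ha h.hc, h.hc, ?_, h.hc1, ?_, h.hx1, h.hxo, ?_, h.cen⟩
  · intro h1
    apply h.hac
    have : a = c⁻¹ := eq_inv_of_mul_eq_one_left h1
    rw [this, hc']
  · intro h1
    apply h.ha1
    exact mul_eq_right.mp h1
  · have h2 : c * x * c⁻¹ = x := by rw [h.cen]; group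
    calc a * c * x * (a * c)⁻¹ = a * (c * x * c⁻¹) * a⁻¹ := by group
      _ = x⁻¹ := by rw [h2, h.inv]

theorem Rel.inv_x {G : Type*} [Group G] {A : Subgroup G} {a c x : G}
    (h : Rel A a c x) : Rel A a c x⁻¹ := by
  refine ⟨h.ha, h.hc, h.ha1, h.hc1, h.hac, ?_, ?_, ?_, ?_⟩
  · intro h1; exact h.hx1 (inv_eq_one.mp h1)
  · rw [orderOf_inv]; exact h.hxo
  · calc a * x⁻¹ * a⁻¹ = (a * x * a⁻¹)⁻¹ := by group
      _ = x⁻¹⁻¹ := by rw [h.inv]
  · calc c * x⁻¹ = x⁻¹ * (x * c) * x⁻¹ := by group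
      _ = x⁻¹ * (c * x) * x⁻¹ := by rw [h.cen]
      _ = x⁻¹ * c := by group

/-- the existence of a centralizing involution. -/
theorem step {G : Type*} [Group G] {A : Subgroup G} (hA : Ctx A) (a x : G) (ha : a ∈ A)
    (ha1 : a ≠ 1) (hx1 : x ≠ 1) (hxo : Odd (orderOf x)) (hinv : a * x * a⁻¹ = x⁻¹) :
    ∃ c, Rel A a c x := by
  obtain ⟨k, hk⟩ := exists_sqrt_of_odd x hxo
  have hconj := conj_sqrt a x (hA.sq a ha) hinv k hk
  obtain ⟨c, hc, hc1, hcc⟩ := hA.hyp a ha ha1 (x ^ k)⁻¹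
  rw [hconj] at hcc
  have hca := hA.comm c hc a ha
  have hcx : c * x = x * c := by
    have h1 : a * (c * x) = a * (x * c) := by
      calc a * (c * x) = (a * c) * x := by group
        _ = (c * a) * x := by rw [hca]
        _ = c * (a * x) := by group
        _ = a * x * c := hcc
        _ = a * (x * c) := by group
    exact mul_left_cancel h1
  refine ⟨c, ha, hc, ha1, hc1, ?_, hx1, hxo, hinv, hcx⟩
  intro hac
  apply hx1
  apply eq_one_of_odd_of_sq x hxo
  rw [← hac] at hcx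
  have : x = x⁻¹ := by
    calc x = (x * a) * a⁻¹ := by group
      _ = (a * x) * a⁻¹ := by rw [hcx]
      _ = x⁻¹ := hinv
  calc x * x = x⁻¹ * x := by rw [← this]
    _ = 1 := by group

/-- the commutation relation forced by the hypothesis. -/
theorem pairQ {G : Type*} [Group G] {A : Subgroup G} (hA : Ctx A) {a c x y : G}
    (hx : Rel A a c x) (hy : Rel A a (a * c) y) : (a * x) * (a * y) = (a * y) * (a * x) := by
  have ha2 := hA.sq a hx.ha
  have hainv : a⁻¹ = a := inv_eq_self_of_sq a ha2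
  have hc'mem : a * c ∈ A := hy.hc
  have hc'2 := hA.sq (a * c) hc'mem
  -- `a * c` inverts `x`
  have hc'x : (a * c) * x * (a * c)⁻¹ = x⁻¹ := (hx.transfer hA).inv
  -- `c` inverts `y`
  have hcy : c * y * c⁻¹ = y⁻¹ := by
    have h1 : (a * c) * y * (a * c)⁻¹ = y := by rw [hy.cen]; group
    have h2 : c = a * (a * c) := by
      calc c = (a * a) * c := by rw [ha2, one_mul]
        _ = a * (a * c) := by group
    calc c * y * c⁻¹ = (a * (a * c)) * y * (a * (a * c))⁻¹ := by rw [← h2]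
      _ = a * ((a * c) * y * (a * c)⁻¹) * a⁻¹ := by group
      _ = y⁻¹ := by rw [h1, hy.inv]
  obtain ⟨k, hk⟩ := exists_sqrt_of_odd x hx.hxo
  obtain ⟨l, hl⟩ := exists_sqrt_of_odd y hy.hxo
  have hga := conj_sqrt a x ha2 hx.inv k hk
  have hgc' := conj_sqrt (a * c) x hc'2 hc'x k hk
  have hgc : (x ^ k)⁻¹ * c * (x ^ k)⁻¹⁻¹ = c := by
    have : Commute c (x ^ k) := (show Commute c x from hx.cen).pow_right k
    rw [inv_inv]
    calc (x ^ k)⁻¹ * c * x ^ k = (x ^ k)⁻¹ * (c * x ^ k) := by group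
      _ = (x ^ k)⁻¹ * (x ^ k * c) := by rw [this.eq]
      _ = c := by group
  have hg'a := conj_sqrt a y ha2 hy.inv l hl
  -- the hypothesis
  obtain ⟨d, hd, hd1, hdc⟩ := hA.hyp a hx.ha hx.ha1 ((x ^ k)⁻¹⁻¹ * (y ^ l)⁻¹)
  have hdc' : ((x ^ k)⁻¹ * d * (x ^ k)⁻¹⁻¹) * (a * y) = (a * y) * ((x ^ k)⁻¹ * d * (x ^ k)⁻¹⁻¹) := by
    have e1 : (x ^ k)⁻¹⁻¹ * (y ^ l)⁻¹ * a * ((x ^ k)⁻¹⁻¹ * (y ^ l)⁻¹)⁻¹ =
        (x ^ k)⁻¹⁻¹ * (a * y) * (x ^ k)⁻¹ := by
      rw [← hg'a]; group
    rw [e1] at hdc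
    calc ((x ^ k)⁻¹ * d * (x ^ k)⁻¹⁻¹) * (a * y)
        = (x ^ k)⁻¹ * (d * ((x ^ k)⁻¹⁻¹ * (a * y) * (x ^ k)⁻¹)) * (x ^ k)⁻¹⁻¹ := by group
      _ = (x ^ k)⁻¹ * (((x ^ k)⁻¹⁻¹ * (a * y) * (x ^ k)⁻¹) * d) * (x ^ k)⁻¹⁻¹ := by rw [hdc]
      _ = (a * y) * ((x ^ k)⁻¹ * d * (x ^ k)⁻¹⁻¹) := by group
  by_cases hda : d = a
  · rw [hda, hga] at hdc'
    exact hdc'
  · exfalso
    by_cases hdcc : d = c
    · rw [hdcc, hgc] at hdc'
      -- `c` commutes with `a y`, hence with `y`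
      have hca := hA.comm c hx.hc a hx.ha
      have h1 : a * (c * y) = a * (y * c) := by
        calc a * (c * y) = (a * c) * y := by group
          _ = (c * a) * y := by rw [hca]
          _ = c * (a * y) := by group
          _ = a * y * c := hdc'
          _ = a * (y * c) := by group
      have h2 : c * y = y * c := mul_left_cancel h1
      apply hy.hx1
      apply eq_one_of_odd_of_sq y hy.hxo
      have : y = y⁻¹ := by
        calc y = (y * c) * c⁻¹ := by group
          _ = (c * y) * c⁻¹ := by rw [h2]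
          _ = y⁻¹ := hcy
      calc y * y = y⁻¹ * y := by rw [← this]
        _ = 1 := by group
    · have hd' : d = a * c := hA.enum a hx.ha c hx.hc d hd hx.ha1 hx.hc1 hx.hac hd1 hda hdcc
      rw [hd', hgc'] at hdc'
      -- `(a c) x (a y) = (a y) (a c) x`
      have hxa : x * a = a * x⁻¹ := by
        have h0 : a * x⁻¹ * a⁻¹ = x := by
          calc a * x⁻¹ * a⁻¹ = (a * x * a⁻¹)⁻¹ := by group
            _ = x⁻¹⁻¹ := by rw [hx.inv]
            _ = x := inv_inv x
        calc x * a = (a * x⁻¹ * a⁻¹) * a := by rw [h0]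
          _ = a * x⁻¹ := by group
      have hcomm' : (a * c) * a = a * (a * c) := hA.comm (a * c) hc'mem a hx.ha
      have h1 : (a * c) * a * (x⁻¹ * y) = (a * c) * a * (y * x) := by
        calc (a * c) * a * (x⁻¹ * y) = (a * c) * (a * x⁻¹) * y := by group
          _ = (a * c) * (x * a) * y := by rw [hxa]
          _ = (a * c) * x * (a * y) := by group
          _ = a * y * ((a * c) * x) := hdc'
          _ = a * (y * (a * c)) * x := by group
          _ = a * ((a * c) * y) * x := by rw [hy.cen]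
          _ = (a * (a * c)) * (y * x) := by group
          _ = ((a * c) * a) * (y * x) := by rw [hcomm']
      have h2 : x⁻¹ * y = y * x := mul_left_cancel h1
      have h3 : y⁻¹ * x * y⁻¹⁻¹ = x⁻¹ := by
        calc y⁻¹ * x * y⁻¹⁻¹ = (y⁻¹ * (x⁻¹ * y))⁻¹ := by group
          _ = (y⁻¹ * (y * x))⁻¹ := by rw [h2]
          _ = x⁻¹ := by group
      exact hx.hx1 (odd_inverts_trivial y⁻¹ x (by rw [orderOf_inv]; exact hy.hxo) hx.hxo h3)

theorem pair {G : Type*} [Group G] {A : Subgroup G} (hA : Ctx A) {a c x y : G}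
    (hx : Rel A a c x) (hy : Rel A a (a * c) y) : False := by
  have ha2 := hA.sq a hx.ha
  have Q1 := pairQ hA hx hy
  have Q2 := pairQ hA hx.inv_x hy
  have hax : a * x = x⁻¹ * a := by
    calc a * x = (a * x * a⁻¹) * a := by group
      _ = x⁻¹ * a := by rw [hx.inv]
  have hax' : a * x⁻¹ = x * a := by
    have := hx.inv_x.inv
    calc a * x⁻¹ = (a * x⁻¹ * a⁻¹) * a := by group
      _ = x⁻¹⁻¹ * a := by rw [this]
      _ = x * a := by rw [inv_inv]
  have hay : a * y = y⁻¹ * a := by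
    calc a * y = (a * y * a⁻¹) * a := by group
      _ = y⁻¹ * a := by rw [hy.inv]
  have E1 : x⁻¹ * y = y⁻¹ * x := by
    have l : (a * x) * (a * y) = x⁻¹ * y := by
      calc (a * x) * (a * y) = (x⁻¹ * a) * (a * y) := by rw [hax]
        _ = x⁻¹ * (a * a) * y := by group
        _ = x⁻¹ * y := by rw [ha2, mul_one]
    have r : (a * y) * (a * x) = y⁻¹ * x := by
      calc (a * y) * (a * x) = (y⁻¹ * a) * (a * x) := by rw [hay]
        _ = y⁻¹ * (a * a) * x := by group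
        _ = y⁻¹ * x := by rw [ha2, mul_one]
    rw [← l, ← r]; exact Q1
  have E2 : x * y = y⁻¹ * x⁻¹ := by
    have l : (a * x⁻¹) * (a * y) = x * y := by
      calc (a * x⁻¹) * (a * y) = (x * a) * (a * y) := by rw [hax']
        _ = x * (a * a) * y := by group
        _ = x * y := by rw [ha2, mul_one]
    have r : (a * y) * (a * x⁻¹) = y⁻¹ * x⁻¹ := by
      calc (a * y) * (a * x⁻¹) = (y⁻¹ * a) * (a * x⁻¹) := by rw [hay]
        _ = y⁻¹ * (a * a) * x⁻¹ := by group
        _ = y⁻¹ * x⁻¹ := by rw [ha2, mul_one]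
    rw [← l, ← r]; exact Q2
  have F1 : y = x * (y⁻¹ * x) := by rw [← E1]; group
  have F2 : y = x⁻¹ * (y⁻¹ * x⁻¹) := by rw [← E2]; group
  have F3 : x * (y⁻¹ * x) = x⁻¹ * (y⁻¹ * x⁻¹) := F1.symm.trans F2
  have E3 : y⁻¹ * (x * x) * y⁻¹⁻¹ = (x * x)⁻¹ := by
    calc y⁻¹ * (x * x) * y⁻¹⁻¹ = x⁻¹ * (x * (y⁻¹ * x)) * x * y := by group
      _ = x⁻¹ * (x⁻¹ * (y⁻¹ * x⁻¹)) * x * y := by rw [F3]
      _ = (x * x)⁻¹ := by group
  have hoxx : Odd (orderOf (x * x)) := by
    rw [← pow_two]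
    exact Odd.of_dvd_nat hx.hxo (orderOf_pow_dvd 2)
  have hxx : x * x = 1 :=
    odd_inverts_trivial y⁻¹ (x * x) (by rw [orderOf_inv]; exact hy.hxo) hoxx E3
  exact hx.hx1 (eq_one_of_odd_of_sq x hx.hxo hxx)

theorem pair' {G : Type*} [Group G] {A : Subgroup G} (hA : Ctx A) {a c x a' c' y : G}
    (hx : Rel A a c x) (hy : Rel A a' c' y) (hcc : c ≠ c') : False := by
  have hc2 := hA.sq c hx.hc
  have hcomm := hA.comm c hx.hc c' hy.hc
  have hx' : Rel A (c * c') c x := by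
    by_cases h : a = c'
    · have := hx.transfer hA
      rw [h, ← hcomm] at this
      exact this
    · have : a = c * c' :=
        hA.enum c hx.hc c' hy.hc a hx.ha hx.hc1 hy.hc1 hcc hx.ha1 hx.hac h
      rw [← this]; exact hx
  have hy' : Rel A (c * c') c' y := by
    by_cases h : a' = c
    · have := hy.transfer hA
      rw [h] at this
      exact this
    · have : a' = c * c' :=
        hA.enum c hx.hc c' hy.hc a' hy.ha hx.hc1 hy.hc1 hcc hy.ha1 h hy.hac
      rw [← this]; exact hy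
  have e : c * c' * c = c' := by
    calc c * c' * c = c' * c * c := by rw [hcomm]
      _ = c' * (c * c) := by group
      _ = c' := by rw [hc2, mul_one]
  have hy'' : Rel A (c * c') (c * c' * c) y := by rw [e]; exact hy'
  exact pair hA hx' hy''

/-- Let A be a Klein four-subgroup of a finite group G. If every G-conjugate of every involution of A commutes with some involution of A (its centralizer meets A nontrivially), then A meets the largest normal 2-subgroup O₂(G) nontrivially. -/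
theorem result {G : Type*} [Group G] [Finite G]
    (A : Subgroup G) (hA : IsKleinFour ↥A)
    (h : ∀ a ∈ A, a ≠ 1 → ∀ g : G, A ⊓ Subgroup.centralizer ({g * a * g⁻¹} : Set G) ≠ ⊥) :
    A ⊓ Cfsg.pCore 2 G ≠ ⊥ := by
  classical
  intro hbot
  have hctx : Ctx A := by
    refine ⟨?_, ?_, ?_, ?_⟩
    · intro d hd
      have := IsKleinFour.mul_self (⟨d, hd⟩ : ↥A)
      exact congrArg Subtype.val this
    · intro d hd e he
      have := (isMulCommutative_iff.mp (IsKleinFour.isMulCommutative (G := ↥A)))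
        (⟨d, hd⟩ : ↥A) ⟨e, he⟩
      exact congrArg Subtype.val this
    · intro a ha c hc d hd ha1 hc1 hac hd1 hda hdc
      have := IsKleinFour.eq_mul_of_ne_all (x := (⟨a, ha⟩ : ↥A)) (y := ⟨c, hc⟩) (z := ⟨d, hd⟩)
        (fun h => ha1 (congrArg Subtype.val h)) (fun h => hc1 (congrArg Subtype.val h))
        (fun h => hac (congrArg Subtype.val h)) (fun h => hd1 (congrArg Subtype.val h))
        (fun h => hda (congrArg Subtype.val h)) (fun h => hdc (congrArg Subtype.val h))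
      exact congrArg Subtype.val this
    · intro a ha ha1 g
      have := h a ha ha1 g
      rw [Subgroup.ne_bot_iff_exists_ne_one] at this
      obtain ⟨⟨d, hd⟩, hd1⟩ := this
      refine ⟨d, hd.1, fun h => hd1 (Subtype.ext h), ?_⟩
      have := Subgroup.mem_centralizer_iff.mp hd.2 (g * a * g⁻¹) rfl
      exact this.symm
  have hnot : ∀ a ∈ A, a ≠ 1 → ∀ N : Subgroup G, N.Normal → IsPGroup 2 N → a ∉ N := by
    intro a ha ha1 N hN hNp haN
    apply ha1
    have hle : N ≤ Cfsg.pCore 2 G := le_sSup ⟨hN, hNp⟩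
    have : a ∈ A ⊓ Cfsg.pCore 2 G := ⟨ha, hle haN⟩
    rw [hbot] at this
    exact Subgroup.mem_bot.mp this
  have hstep : ∀ a ∈ A, a ≠ 1 → ∃ c x, Rel A a c x := by
    intro a ha ha1
    have hao : orderOf a = 2 := orderOf_eq_prime (by rw [pow_two]; exact hctx.sq a ha) ha1
    obtain ⟨x, hx1, hxo, hinv⟩ := Cfsg.Agent.S0200.result a hao (hnot a ha ha1)
    obtain ⟨c, hc⟩ := step hctx a x ha ha1 hx1 hxo hinv
    exact ⟨c, x, hc⟩
  obtain ⟨a₀, ha₀, ha₀1⟩ : ∃ a ∈ A, a ≠ 1 := by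
    have hne : A ≠ ⊥ := by
      intro hA0
      have hcard := hA.card_four
      rw [hA0, Subgroup.card_bot] at hcard
      omega
    rw [Subgroup.ne_bot_iff_exists_ne_one] at hne
    obtain ⟨⟨a, ha⟩, ha1⟩ := hne
    exact ⟨a, ha, fun h => ha1 (Subtype.ext h)⟩
  obtain ⟨c₁, x, hx⟩ := hstep a₀ ha₀ ha₀1
  obtain ⟨c₂, y, hy⟩ := hstep c₁ hx.hc hx.hc1
  exact pair' hctx hx hy hy.hac

end Cfsg.Agent.S3195
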