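import Cfsg.Statements.S3196
import Cfsg.Agent.Lib.Helper29.CommGraph

set_option autoImplicit false
open Cfsg

namespace Cfsg.Agent.S3196

open Subgroup Cfsg.Agent.Helper29.CommGraph

/-- Let p be a prime and K a set of subgroups of order p of a finite group G, closed under conjugation, such that at least two distinct members of K commute elementwise, and whenever two distinct members X, Y of K commute: every subgroup of order p of the group XY they generate belongs to K, and every member W of K has centralizer meeting XY nontrivially. Then some member V of K commutes elementwise with every member of K and lies in O_p(G); in particular G is not simple. -/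
theorem result {G : Type*} [Group G] [Finite G]
    {p : ℕ} (hp : p.Prime) (K : Set (Subgroup G)) (hK : ∀ X ∈ K, Nat.card ↥X = p)
    (hKc : ∀ X ∈ K, ∀ g : G, X.map (MulAut.conj g).toMonoidHom ∈ K)
    (hex : ∃ X ∈ K, ∃ Y ∈ K, X ≠ Y ∧ ∀ x ∈ X, ∀ y ∈ Y, x * y = y * x)
    (ha : ∀ X ∈ K, ∀ Y ∈ K, X ≠ Y → (∀ x ∈ X, ∀ y ∈ Y, x * y = y * x) →
      ∀ Z : Subgroup G, Z ≤ X ⊔ Y → Nat.card ↥Z = p → Z ∈ K)
    (hb : ∀ X ∈ K, ∀ Y ∈ K, X ≠ Y → (∀ x ∈ X, ∀ y ∈ Y, x * y = y * x) →
      ∀ W ∈ K, (X ⊔ Y) ⊓ Subgroup.centralizer (W : Set G) ≠ ⊥) :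
    (∃ V ∈ K, (∀ W ∈ K, ∀ v ∈ V, ∀ w ∈ W, v * w = w * v) ∧ V ≤ Cfsg.pCore p G) ∧ ¬ IsSimpleGroup G := by
  have h : Hyp p K := ⟨hp, hK, hKc, ha, hb⟩
  obtain ⟨V, hV, hVu⟩ := h.exists_universal hex
  -- conjugates of elements of V commute with all members
  have hconj : ∀ g : G, ∀ v ∈ V, ∀ W ∈ K, ∀ w ∈ W, (g * v * g⁻¹) * w = w * (g * v * g⁻¹) := by
    intro g v hv W hW w hw
    have hW' := hKc W hW g⁻¹
    have hw' : g⁻¹ * w * g ∈ W.map (MulAut.conj g⁻¹).toMonoidHom :=
      ⟨w, hw, by simp [MulAut.conj_apply]⟩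
    have := hVu _ hW' v hv _ hw'
    calc g * v * g⁻¹ * w = g * (v * (g⁻¹ * w * g)) * g⁻¹ := by group
      _ = g * ((g⁻¹ * w * g) * v) * g⁻¹ := by rw [this]
      _ = w * (g * v * g⁻¹) := by group
  have hconjK : ∀ g : G, ∀ v ∈ V, ∃ W ∈ K, g * v * g⁻¹ ∈ W := by
    intro g v hv
    exact ⟨_, hKc V hV g, ⟨v, hv, by simp [MulAut.conj_apply]⟩⟩
  -- the normal closure
  have hgen : ∀ y ∈ Group.conjugatesOfSet (V : Set G), ∃ g : G, ∃ v ∈ V, y = g * v * g⁻¹ := by
    intro y hy
    obtain ⟨v, hv, hvy⟩ := Group.mem_conjugatesOfSet_iff.mp hy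
    obtain ⟨g, hg⟩ := isConj_iff.mp hvy
    exact ⟨g, v, hv, hg.symm⟩
  have hNcomm : ∀ y ∈ normalClosure (V : Set G), ∀ W ∈ K, ∀ w ∈ W, y * w = w * y := by
    intro y hy
    induction hy using Subgroup.closure_induction with
    | mem y hy =>
      obtain ⟨g, v, hv, rfl⟩ := hgen y hy
      exact hconj g v hv
    | one => intro W _ w _; rw [one_mul, mul_one]
    | mul y z _ _ ihy ihz =>
      intro W hW w hw
      rw [mul_assoc, ihz W hW w hw, ← mul_assoc, ihy W hW w hw, mul_assoc]
    | inv y _ ih =>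
      intro W hW w hw
      have := ih W hW w hw
      calc y⁻¹ * w = y⁻¹ * (w * y) * y⁻¹ := by group
        _ = y⁻¹ * (y * w) * y⁻¹ := by rw [this]
        _ = w * y⁻¹ := by group
  have hNN : ∀ y ∈ normalClosure (V : Set G), ∀ z ∈ normalClosure (V : Set G), y * z = z * y := by
    intro y hy z hz
    induction hz using Subgroup.closure_induction with
    | mem z hz =>
      obtain ⟨g, v, hv, rfl⟩ := hgen z hz
      obtain ⟨W, hW, hmem⟩ := hconjK g v hv
      exact hNcomm y hy W hW _ hmem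
    | one => rw [one_mul, mul_one]
    | mul a b _ _ iha ihb =>
      rw [← mul_assoc, iha, mul_assoc, ihb, mul_assoc]
    | inv a _ ih =>
      calc y * a⁻¹ = a⁻¹ * (a * y) * a⁻¹ := by group
        _ = a⁻¹ * (y * a) * a⁻¹ := by rw [ih]
        _ = a⁻¹ * y := by group
  have hNp : ∀ y ∈ normalClosure (V : Set G), y ^ p = 1 := by
    intro y hy
    induction hy using Subgroup.closure_induction with
    | mem y hy =>
      obtain ⟨g, v, hv, rfl⟩ := hgen y hy
      have := map_pow (MulAut.conj g) v p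
      simp only [MulAut.conj_apply] at this
      rw [← this, h.pow_eq_one hV hv]
      group
    | one => exact one_pow p
    | mul a b ha' hb' iha ihb =>
      have hc : Commute a b := hNN a ha' b hb'
      rw [hc.mul_pow, iha, ihb, one_mul]
    | inv a _ ih => rw [inv_pow, ih, inv_one]
  have hNpg : IsPGroup p (normalClosure (V : Set G)) := by
    intro y
    refine ⟨1, ?_⟩
    rw [pow_one]
    exact Subtype.ext (hNp y.1 y.2)
  have hNle : normalClosure (V : Set G) ≤ Cfsg.pCore p G :=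
    le_sSup ⟨Subgroup.normalClosure_normal, hNpg⟩
  refine ⟨⟨V, hV, hVu, le_trans Subgroup.le_normalClosure hNle⟩, ?_⟩
  intro hs
  obtain ⟨X₀, hX₀, Y₀, hY₀, hXY₀, -⟩ := hex
  have hNtop : normalClosure (V : Set G) = ⊤ := by
    rcases (Subgroup.normalClosure_normal (s := (V : Set G))).eq_bot_or_eq_top with h1 | h1
    · exfalso
      obtain ⟨v, hv, hv1⟩ := h.ne_bot hV
      have : v ∈ normalClosure (V : Set G) := Subgroup.le_normalClosure hv
      rw [h1, Subgroup.mem_bot] at this
      exact hv1 this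
    · exact h1
  have hcomm : ∀ a b : G, a * b = b * a := by
    intro a b
    exact hNN a (by rw [hNtop]; trivial) b (by rw [hNtop]; trivial)
  have hnorm : ∀ X : Subgroup G, X.Normal := by
    intro X
    refine ⟨fun n hn g => ?_⟩
    rw [hcomm g n, mul_inv_cancel_right]
    exact hn
  have htop : ∀ X ∈ K, X = ⊤ := by
    intro X hX
    rcases (hnorm X).eq_bot_or_eq_top with h1 | h1
    · exfalso
      obtain ⟨x, hx, hx1⟩ := h.ne_bot hX
      rw [h1, Subgroup.mem_bot] at hx
      exact hx1 hx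
    · exact h1
  exact hXY₀ ((htop X₀ hX₀).trans (htop Y₀ hY₀).symm)

end Cfsg.Agent.S3196
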