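import Cfsg.Statements.S3201
import Mathlib
import Cfsg.Agent.Lib.Helper53.UniqueInvol5

set_option autoImplicit false
open Cfsg

namespace Cfsg.Agent.S3201

open Cfsg.Agent.Helper53

/-- facts on a central subgroup `D` whose quotient is non-abelian with a unique involution. -/
theorem quot_facts {S : Type*} [Group S] [Finite S] (hS : IsPGroup 2 S) (D : Subgroup S)
    [D.Normal] (hDZ : D ≤ Subgroup.center S) (hDne : ∃ x ∈ Subgroup.center S, x ∉ D)
    (hnc : ¬ IsMulCommutative (S ⧸ D)) (hu : ∃! x : S ⧸ D, orderOf x = 2) :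
    (∀ x ∈ Subgroup.center S, x * x ∈ D) ∧
    (∀ x ∈ Subgroup.center S, ∀ y ∈ Subgroup.center S, x ∉ D → y ∉ D → x * y⁻¹ ∈ D) ∧
    (∀ y : S, y * y ∈ D → y ∈ Subgroup.center S) := by
  have hT : IsPGroup 2 (S ⧸ D) := hS.to_quotient D
  have hU : ∀ x y : S ⧸ D, orderOf x = 2 → orderOf y = 2 → x = y :=
    fun x y hx hy => hu.unique hx hy
  have hnc' : ¬ ∀ x y : S ⧸ D, x * y = y * x := fun h => hnc (isMulCommutative_iff.mpr h)
  obtain ⟨k, a, g, hq⟩ := quatType_of_unique_invol hT hU hnc'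
  have hN1 : ∀ x ∈ Subgroup.center S, x * x ∈ D := by
    intro x hx
    have hc : (QuotientGroup.mk' D x) ∈ Subgroup.center (S ⧸ D) := by
      rw [Subgroup.mem_center_iff]
      intro yb
      obtain ⟨y, rfl⟩ := QuotientGroup.mk'_surjective D yb
      rw [← map_mul, ← map_mul, (Subgroup.mem_center_iff.mp hx) y]
    have := hq.sq_eq_one_of_mem_center _ hc
    rw [← map_mul] at this
    exact (QuotientGroup.eq_one_iff _).mp this
  have hord : ∀ x : S, x * x ∈ D → x ∉ D → orderOf (QuotientGroup.mk' D x) = 2 := by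
    intro x hx2 hx
    apply orderOf_eq_prime
    · rw [pow_two, ← map_mul]
      exact (QuotientGroup.eq_one_iff _).mpr hx2
    · intro h
      exact hx ((QuotientGroup.eq_one_iff _).mp h)
  refine ⟨hN1, ?_, ?_⟩
  · intro x hx y hy hxD hyD
    have := hU _ _ (hord x (hN1 x hx) hxD) (hord y (hN1 y hy) hyD)
    apply (QuotientGroup.eq_one_iff _).mp
    change QuotientGroup.mk' D (x * y⁻¹) = 1
    rw [map_mul, map_inv, this, mul_inv_cancel]
  · intro y hy2
    by_cases hy : y ∈ D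
    · exact hDZ hy
    · obtain ⟨x₀, hx₀, hx₀D⟩ := hDne
      have := hU _ _ (hord y hy2 hy) (hord x₀ (hN1 x₀ hx₀) hx₀D)
      have h1 : y * x₀⁻¹ ∈ D := by
        apply (QuotientGroup.eq_one_iff _).mp
        change QuotientGroup.mk' D (y * x₀⁻¹) = 1
        rw [map_mul, map_inv, this, mul_inv_cancel]
      have : y = (y * x₀⁻¹) * x₀ := by group
      rw [this]
      exact mul_mem (hDZ h1) hx₀

/-- the splitting, for one central subgroup `D` with quaternion quotient. -/
theorem aux {S : Type*} [Group S] [Finite S] (hS : IsPGroup 2 S) (D : Subgroup S) [D.Normal]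
    (hDZ₀ : D ≤ Subgroup.center S) (hnc : ¬ IsMulCommutative (S ⧸ D))
    (hu : ∃! x : S ⧸ D, orderOf x = 2)
    (hf3 : ∀ y : S, y * y ∈ D → y ∈ Subgroup.center S)
    (hN3 : ∀ x ∈ Subgroup.center S, x * x = 1)
    (hUU : ∀ x y : S, x ∉ Subgroup.center S → y ∉ Subgroup.center S →
      x * x ∈ Subgroup.center S → y * y ∈ Subgroup.center S → x * x = y * y) :
    ∃ E Q : Subgroup S, Cfsg.IsInternalDirectProduct E Q ⊤ ∧ Cfsg.IsElementaryAbelian 2 E ∧
      ¬ IsMulCommutative ↥Q ∧ ∃! x : ↥Q, orderOf x = 2 := by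
  classical
  have hT : IsPGroup 2 (S ⧸ D) := hS.to_quotient D
  have hU : ∀ x y : S ⧸ D, orderOf x = 2 → orderOf y = 2 → x = y :=
    fun x y hx hy => hu.unique hx hy
  have hnc' : ¬ ∀ x y : S ⧸ D, x * y = y * x := fun h => hnc (isMulCommutative_iff.mpr h)
  obtain ⟨k, ab, gb, hq⟩ := quatType_of_unique_invol hT hU hnc'
  obtain ⟨a, rfl⟩ := QuotientGroup.mk'_surjective D ab
  obtain ⟨g, rfl⟩ := QuotientGroup.mk'_surjective D gb
  obtain ⟨k', rfl⟩ : ∃ k', k = k' + 2 := ⟨k - 2, by have := hq.two_le; omega⟩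
  have hk1 : k' + 2 - 1 = k' + 1 := by omega
  have hmem1 : ∀ x : S, QuotientGroup.mk' D x = 1 ↔ x ∈ D := fun x => QuotientGroup.eq_one_iff x
  -- `y₀ = a ^ 2 ^ (k' + 1)`
  obtain ⟨y₀, hy₀⟩ : ∃ y₀ : S, y₀ = a ^ 2 ^ (k' + 1) := ⟨_, rfl⟩
  have hy₀o : orderOf (QuotientGroup.mk' D y₀) = 2 := by
    rw [hy₀, map_pow]
    exact orderOf_pow_half _ (k' + 1) hq.orderOf_a
  have hy₀D : y₀ ∉ D := by
    intro h
    rw [← hmem1] at h
    rw [h, orderOf_one] at hy₀o
    omega
  have hy₀2 : y₀ * y₀ ∈ D := by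
    rw [← hmem1, map_mul, ← pow_two, ← hy₀o, pow_orderOf_eq_one]
  have hy₀Z : y₀ ∈ Subgroup.center S := hf3 y₀ hy₀2
  have hy₀1 : y₀ * y₀ = 1 := hN3 y₀ hy₀Z
  have hR1 : a ^ (2 * 2 ^ (k' + 1)) = 1 := by
    rw [mul_comm, pow_mul, ← hy₀, pow_two, hy₀1]
  -- `w = a ^ 2 ^ k'`
  obtain ⟨w, hw⟩ : ∃ w : S, w = a ^ 2 ^ k' := ⟨_, rfl⟩
  have hww : w * w = y₀ := by
    rw [hw, hy₀, ← pow_add, ← two_mul, ← pow_succ']
  have hwZ : w ∉ Subgroup.center S := by
    intro h
    have := hN3 w h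
    rw [hww] at this
    apply hy₀D
    rw [this]; exact one_mem _
  -- `g`
  have hgg : QuotientGroup.mk' D (g * g) = QuotientGroup.mk' D y₀ := by
    rw [map_mul, hq.sq, hk1, hy₀, map_pow]
  have hggZ : g * g ∈ Subgroup.center S := by
    have h1 : (g * g) * y₀⁻¹ ∈ D := by
      rw [← hmem1, map_mul, map_inv, hgg, mul_inv_cancel]
    have : g * g = ((g * g) * y₀⁻¹) * y₀ := by group
    rw [this]
    exact mul_mem (hDZ₀ h1) hy₀Z
  have hgZ : g ∉ Subgroup.center S := by
    intro h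
    have := hN3 g h
    rw [this, map_one] at hgg
    rw [← hgg, orderOf_one] at hy₀o
    omega
  have hR3 : g * g = a ^ 2 ^ (k' + 1) := by
    rw [← hy₀, ← hww]
    exact hUU g w hgZ hwZ hggZ (by rw [hww]; exact hy₀Z)
  -- `c`
  have hcD : g * a * g⁻¹ * a ∈ D := by
    rw [← hmem1, map_mul, map_mul, map_mul, map_inv, hq.conj, inv_mul_cancel]
  have hcZ : g * a * g⁻¹ * a ∈ Subgroup.center S := hDZ₀ hcD
  have hga2 : (g * a) * (g * a) = (g * a * g⁻¹ * a) * y₀ := by
    have hc := (Subgroup.mem_center_iff.mp hggZ) a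
    rw [← hy₀] at hR3
    calc (g * a) * (g * a) = (g * a * g⁻¹) * (g * g * a) := by group
      _ = (g * a * g⁻¹) * (a * (g * g)) := by rw [hc]
      _ = (g * a * g⁻¹ * a) * y₀ := by rw [hR3]; group
  have hgaZ : g * a ∉ Subgroup.center S := by
    intro h
    have := hN3 _ h
    rw [hga2] at this
    apply hy₀D
    have e : y₀ = (g * a * g⁻¹ * a)⁻¹ := eq_inv_of_mul_eq_one_right this
    rw [e]
    exact inv_mem hcD
  have hR2 : g * a * g⁻¹ = a⁻¹ := by
    have h1 : (g * a) * (g * a) = g * g :=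
      hUU (g * a) g hgaZ hgZ (by rw [hga2]; exact mul_mem hcZ hy₀Z) hggZ
    rw [hga2, hR3, ← hy₀] at h1
    have h2 : g * a * g⁻¹ * a = 1 := mul_eq_right.mp h1
    exact eq_inv_of_mul_eq_one_left h2
  -- the homomorphism
  have hne : NeZero (2 ^ (k' + 1)) := ⟨by positivity⟩
  obtain ⟨ψ, hψ⟩ : ∃ ψ : QuaternionGroup (2 ^ (k' + 1)) →* S,
      ∀ x, ψ x = quatMap (2 ^ (k' + 1)) a g x :=
    ⟨quatHom (2 ^ (k' + 1)) a g hR1 hR2 hR3, fun x => rfl⟩
  have hbij : Function.Bijective (fun x => QuotientGroup.mk' D (ψ x)) := by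
    have := hq.quatMap_bijective
    rw [hk1] at this
    have e : (fun x => QuotientGroup.mk' D (ψ x)) =
        quatMap (2 ^ (k' + 1)) (QuotientGroup.mk' D a) (QuotientGroup.mk' D g) := by
      funext x
      rw [hψ, map_quatMap]
    rw [e]
    exact this
  have hθinj : Function.Injective ((QuotientGroup.mk' D).comp ψ) := hbij.1
  have hψinj : Function.Injective ψ := by
    intro x y hxy
    apply hbij.1
    change QuotientGroup.mk' D (ψ x) = QuotientGroup.mk' D (ψ y)
    rw [hxy]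
  refine ⟨D, ψ.range, ⟨le_top, le_top, ?_, ?_, ?_⟩, ⟨?_, ?_⟩, ?_, ?_⟩
  · intro e he q _
    exact ((Subgroup.mem_center_iff.mp (hDZ₀ he)) q).symm
  · rw [eq_bot_iff]
    rintro x ⟨hxD, q, rfl⟩
    have h1 : QuotientGroup.mk' D (ψ q) = QuotientGroup.mk' D (ψ 1) := by
      rw [map_one, map_one]
      exact (hmem1 _).mpr hxD
    have : q = 1 := hbij.1 h1
    rw [this, map_one]
    exact Subgroup.mem_bot.mpr rfl
  · rw [eq_top_iff]
    intro s _
    obtain ⟨q, hq'⟩ := hbij.2 (QuotientGroup.mk' D s)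
    have h1 : s * (ψ q)⁻¹ ∈ D := by
      rw [← hmem1, map_mul, map_inv]
      have hq'' : QuotientGroup.mk' D (ψ q) = QuotientGroup.mk' D s := hq'
      rw [hq'', mul_inv_cancel]
    have : s = (s * (ψ q)⁻¹) * ψ q := by group
    rw [this]
    exact Subgroup.mul_mem_sup h1 ⟨q, rfl⟩
  · rw [isMulCommutative_iff]
    intro x y
    apply Subtype.ext
    exact ((Subgroup.mem_center_iff.mp (hDZ₀ x.2)) y.1).symm
  · intro x hx
    rw [pow_two]
    exact hN3 x (hDZ₀ hx)
  · intro hcomm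
    apply hnc'
    intro u v
    obtain ⟨p, rfl⟩ := hbij.2 u
    obtain ⟨q, rfl⟩ := hbij.2 v
    have := (isMulCommutative_iff.mp hcomm) ⟨ψ p, p, rfl⟩ ⟨ψ q, q, rfl⟩
    have h1 : ψ p * ψ q = ψ q * ψ p := congrArg Subtype.val this
    change QuotientGroup.mk' D (ψ p) * QuotientGroup.mk' D (ψ q) =
      QuotientGroup.mk' D (ψ q) * QuotientGroup.mk' D (ψ p)
    rw [← map_mul (QuotientGroup.mk' D), ← map_mul (QuotientGroup.mk' D), h1]
  · obtain ⟨ub, hub, hubu⟩ := hu
    obtain ⟨q₀, hq₀⟩ := hbij.2 ub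
    have hq₀' : ((QuotientGroup.mk' D).comp ψ) q₀ = ub := hq₀
    have hoq₀ : orderOf q₀ = 2 := by
      rw [← orderOf_injective _ hθinj q₀, hq₀']
      exact hub
    refine ⟨⟨ψ q₀, q₀, rfl⟩, ?_, ?_⟩
    · change orderOf (⟨ψ q₀, q₀, rfl⟩ : ↥ψ.range) = 2
      rw [← Subgroup.orderOf_coe]
      change orderOf (ψ q₀) = 2
      rw [orderOf_injective _ hψinj q₀]
      exact hoq₀
    · intro y hy
      obtain ⟨q, hq'⟩ := y.2
      have hoq : orderOf q = 2 := by
        rw [← orderOf_injective _ hψinj q, hq', Subgroup.orderOf_coe]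
        exact hy
      have h1 : ((QuotientGroup.mk' D).comp ψ) q = ub := by
        apply hubu
        change orderOf (((QuotientGroup.mk' D).comp ψ) q) = 2
        rw [orderOf_injective _ hθinj q]
        exact hoq
      have : q = q₀ := hθinj (by rw [h1, hq₀'])
      apply Subtype.ext
      change (y : S) = ψ q₀
      rw [← hq', this]

/-- Let S be a finite 2-group whose centre Z(S) has n ≥ 2 distinct maximal subgroups C₁, …, Cₙ with trivial intersection such that each quotient S/Cᵢ is a non-abelian group with exactly one involution (a generalized quaternion group). Then S is the internal direct product of an elementary abelian subgroup and a non-abelian subgroup with exactly one involution. -/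
theorem result {S : Type*} [Group S] [Finite S]
    (hS : IsPGroup 2 S) (n : ℕ) (hn : 2 ≤ n) (C : Fin n → Subgroup ↥(Subgroup.center S))
    (hCmax : ∀ i, IsCoatom (C i)) (hCinj : Function.Injective C) (hCint : ⨅ i, C i = ⊥)
    (hCq : ∀ i, ∃ (_ : ((C i).map (Subgroup.center S).subtype).Normal),
      ¬ IsMulCommutative (S ⧸ (C i).map (Subgroup.center S).subtype) ∧
      ∃! x : S ⧸ (C i).map (Subgroup.center S).subtype, orderOf x = 2) :
    ∃ E Q : Subgroup S, Cfsg.IsInternalDirectProduct E Q ⊤ ∧ Cfsg.IsElementaryAbelian 2 E ∧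
      ¬ IsMulCommutative ↥Q ∧ ∃! x : ↥Q, orderOf x = 2 := by
  classical
  have hDZ : ∀ i, (C i).map (Subgroup.center S).subtype ≤ Subgroup.center S :=
    fun i => Subgroup.map_subtype_le _
  have hmemD : ∀ i (x : S) (hx : x ∈ Subgroup.center S),
      x ∈ (C i).map (Subgroup.center S).subtype ↔ (⟨x, hx⟩ : ↥(Subgroup.center S)) ∈ C i := by
    intro i x hx
    constructor
    · rintro ⟨w, hw, hwx⟩
      have : w = ⟨x, hx⟩ := Subtype.ext hwx
      rwa [← this]
    · intro h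
      exact ⟨⟨x, hx⟩, h, rfl⟩
  have hDne : ∀ i, ∃ x ∈ Subgroup.center S, x ∉ (C i).map (Subgroup.center S).subtype := by
    intro i
    have hne : C i ≠ ⊤ := (hCmax i).1
    obtain ⟨w, hw⟩ : ∃ w : ↥(Subgroup.center S), w ∉ C i := by
      by_contra h
      push Not at h
      exact hne (eq_top_iff.mpr fun w _ => h w)
    refine ⟨w.1, w.2, ?_⟩
    intro h
    exact hw ((hmemD i w.1 w.2).mp h)
  have hfacts : ∀ i,
      (∀ x ∈ Subgroup.center S, x * x ∈ (C i).map (Subgroup.center S).subtype) ∧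
      (∀ x ∈ Subgroup.center S, ∀ y ∈ Subgroup.center S,
        x ∉ (C i).map (Subgroup.center S).subtype → y ∉ (C i).map (Subgroup.center S).subtype →
        x * y⁻¹ ∈ (C i).map (Subgroup.center S).subtype) ∧
      (∀ y : S, y * y ∈ (C i).map (Subgroup.center S).subtype → y ∈ Subgroup.center S) := by
    intro i
    obtain ⟨hN, hnc, hu⟩ := hCq i
    exact quot_facts hS _ (hDZ i) (hDne i) hnc hu
  -- trivial intersection
  have hint : ∀ y : S, (∀ i, y ∈ (C i).map (Subgroup.center S).subtype) → y = 1 := by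
    intro y hy
    have hi₀ : 0 < n := by omega
    have hyZ : y ∈ Subgroup.center S := hDZ ⟨0, hi₀⟩ (hy _)
    have : (⟨y, hyZ⟩ : ↥(Subgroup.center S)) ∈ ⨅ i, C i := by
      rw [Subgroup.mem_iInf]
      intro i
      exact (hmemD i y hyZ).mp (hy i)
    rw [hCint, Subgroup.mem_bot] at this
    exact congrArg Subtype.val this
  have hN3 : ∀ x ∈ Subgroup.center S, x * x = 1 :=
    fun x hx => hint _ (fun i => (hfacts i).1 x hx)
  -- (U)
  have hUU : ∀ x y : S, x ∉ Subgroup.center S → y ∉ Subgroup.center S →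
      x * x ∈ Subgroup.center S → y * y ∈ Subgroup.center S → x * x = y * y := by
    intro x y hx hy hx2 hy2
    have : (x * x) * (y * y)⁻¹ = 1 := by
      apply hint
      intro i
      apply (hfacts i).2.1 _ hx2 _ hy2
      · intro h; exact hx ((hfacts i).2.2 x h)
      · intro h; exact hy ((hfacts i).2.2 y h)
    exact mul_inv_eq_one.mp this
  have hi₀ : 0 < n := by omega
  obtain ⟨hN, hnc, hu⟩ := hCq ⟨0, hi₀⟩
  exact aux hS _ (hDZ _) hnc hu (hfacts _).2.2 hN3 hUU

end Cfsg.Agent.S3201
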