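import Cfsg.Statements.S3202
import Mathlib
import Cfsg.Agent.Lib.Helper53.UniqueInvol5

set_option autoImplicit false
open Cfsg

namespace Cfsg.Agent.S3202

open Cfsg.Agent.Helper53
open scoped commutatorElement

/-- If `S/E` is of quaternion type for a central subgroup `E`, the commutator subgroup of `S` is
contained in a cyclic subgroup. -/
theorem commutator_le_zpowers {S : Type*} [Group S] (E : Subgroup S) [E.Normal]
    (hEZ : E ≤ Subgroup.center S) (k : ℕ) (a g : S)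
    (hq : QuatType k (QuotientGroup.mk' E a) (QuotientGroup.mk' E g)) :
    commutator S ≤ Subgroup.zpowers (g * a * g⁻¹ * a⁻¹) := by
  have hmem1 : ∀ x : S, QuotientGroup.mk' E x = 1 ↔ x ∈ E := fun x => QuotientGroup.eq_one_iff x
  obtain ⟨e, he⟩ : ∃ e : S, e = g * a * g⁻¹ * a⁻¹ := ⟨_, rfl⟩
  rw [← he]
  obtain ⟨f, hf⟩ : ∃ f : S, f = g * a * g⁻¹ := ⟨_, rfl⟩
  obtain ⟨c, hc⟩ : ∃ c : S, c = a * f := ⟨_, rfl⟩
  have hcE : c ∈ E := by
    rw [← hmem1, hc, hf, map_mul, map_mul, map_mul, map_inv, hq.conj, mul_inv_cancel]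
  have hcZ : ∀ x : S, x * c = c * x := Subgroup.mem_center_iff.mp (hEZ hcE)
  have hef : e = f * a⁻¹ := by rw [he, hf]
  have hfc : f = a⁻¹ * c := by rw [hc]; group
  have hga : g * a * g⁻¹ = e * a := by rw [he]; group
  have hea : Commute e a := by
    change e * a = a * e
    calc e * a = a⁻¹ * c := by rw [hef, hfc]; group
      _ = c * a⁻¹ := hcZ a⁻¹
      _ = a * (a⁻¹ * c * a⁻¹) := by group
      _ = a * e := by rw [hef, hfc]
  have hfa : f * a = c := by
    calc f * a = a⁻¹ * (c * a) := by rw [hfc]; group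
      _ = a⁻¹ * (a * c) := by rw [hcZ a]
      _ = c := by group
  have hgcg : g * c * g⁻¹ = c := by
    rw [hcZ g]; group
  have hgfg : g * f * g⁻¹ = f⁻¹ * c := by
    calc g * f * g⁻¹ = (g * a * g⁻¹)⁻¹ * (g * c * g⁻¹) := by rw [hfc]; group
      _ = f⁻¹ * c := by rw [hgcg, hf]
  have hge : g * e * g⁻¹ = e⁻¹ := by
    calc g * e * g⁻¹ = (g * f * g⁻¹) * (g * a * g⁻¹)⁻¹ := by rw [hef]; group
      _ = f⁻¹ * c * f⁻¹ := by rw [hgfg, ← hf]
      _ = f⁻¹ * (f * a) * f⁻¹ := by rw [hfa]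
      _ = (f * a⁻¹)⁻¹ := by group
      _ = e⁻¹ := by rw [hef]
  have hgaj : ∀ j : ℤ, g * a ^ j * g⁻¹ = e ^ j * a ^ j := by
    intro j
    rw [← conj_zpow, hga, hea.mul_zpow]
  have hgej : ∀ j : ℤ, g * e ^ j * g⁻¹ = (e ^ j)⁻¹ := by
    intro j
    rw [← conj_zpow, hge, inv_zpow]
  -- the shape of the elements
  have hshape : ∀ x : S, ∃ (i : ℤ) (d : S), d ∈ E ∧ (x = a ^ i * d ∨ x = g * a ^ i * d) := by
    intro x
    rcases hq.cover (QuotientGroup.mk' E x) with hx | ⟨y, hy, hxy⟩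
    · obtain ⟨i, hi⟩ := hx
      refine ⟨i, (a ^ i)⁻¹ * x, ?_, Or.inl (by group)⟩
      rw [← hmem1, map_mul, map_inv, map_zpow]
      have hi' : (QuotientGroup.mk' E a) ^ i = QuotientGroup.mk' E x := hi
      rw [hi', inv_mul_cancel]
    · obtain ⟨i, hi⟩ := hy
      refine ⟨i, (g * a ^ i)⁻¹ * x, ?_, Or.inr (by group)⟩
      rw [← hmem1, map_mul, map_inv, map_mul, map_zpow]
      have hi' : (QuotientGroup.mk' E a) ^ i = y := hi
      rw [hi', hxy, inv_mul_cancel]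
  have hdZ : ∀ d ∈ E, ∀ x : S, x * d = d * x := fun d hd => Subgroup.mem_center_iff.mp (hEZ hd)
  rw [commutator_def, Subgroup.commutator_le]
  intro x _ y _
  rw [commutatorElement_def]
  obtain ⟨i, d, hd, hx⟩ := hshape x
  obtain ⟨j, d', hd', hy⟩ := hshape y
  have hdc := hdZ d hd
  have hd'c := hdZ d' hd'
  -- remove the central factors
  have hred : ∀ u v : S, (u * d) * (v * d') * (u * d)⁻¹ * (v * d')⁻¹ = u * v * u⁻¹ * v⁻¹ := by
    intro u v
    calc (u * d) * (v * d') * (u * d)⁻¹ * (v * d')⁻¹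
        = u * (d * v) * (d' * d⁻¹) * u⁻¹ * d'⁻¹ * v⁻¹ := by group
      _ = u * (v * d) * (d' * d⁻¹) * u⁻¹ * d'⁻¹ * v⁻¹ := by rw [hdc v]
      _ = u * v * (d * d' * d⁻¹) * u⁻¹ * d'⁻¹ * v⁻¹ := by group
      _ = u * v * (d' * d * d⁻¹) * u⁻¹ * d'⁻¹ * v⁻¹ := by rw [hd'c d]
      _ = u * v * (d' * u⁻¹) * d'⁻¹ * v⁻¹ := by group
      _ = u * v * (u⁻¹ * d') * d'⁻¹ * v⁻¹ := by rw [hd'c u⁻¹]
      _ = u * v * u⁻¹ * v⁻¹ := by group
  rcases hx with rfl | rfl <;> rcases hy with rfl | rfl <;> rw [hred]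
  · have : a ^ i * a ^ j * (a ^ i)⁻¹ * (a ^ j)⁻¹ = 1 := by group
    rw [this]; exact one_mem _
  · -- `[a^i, g a^j]`
    have h1 : a ^ i * (g * a ^ j) * (a ^ i)⁻¹ * (g * a ^ j)⁻¹ =
        a ^ i * (g * a ^ (-i) * g⁻¹) := by group
    have hc1 : Commute (a ^ i) (e ^ (-i)) := (hea.symm.zpow_zpow i (-i))
    have h2 : a ^ i * (e ^ (-i) * a ^ (-i)) = e ^ (-i) := by
      calc a ^ i * (e ^ (-i) * a ^ (-i)) = (a ^ i * e ^ (-i)) * a ^ (-i) := by group
        _ = (e ^ (-i) * a ^ i) * a ^ (-i) := by rw [hc1.eq]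
        _ = e ^ (-i) := by group
    rw [h1, hgaj (-i), h2]
    exact Subgroup.zpow_mem _ (Subgroup.mem_zpowers e) _
  · -- `[g a^i, a^j]`
    have h1 : g * a ^ i * a ^ j * (g * a ^ i)⁻¹ * (a ^ j)⁻¹ = (g * a ^ j * g⁻¹) * (a ^ j)⁻¹ := by
      group
    rw [h1, hgaj j]
    have : e ^ j * a ^ j * (a ^ j)⁻¹ = e ^ j := by group
    rw [this]
    exact Subgroup.zpow_mem _ (Subgroup.mem_zpowers e) j
  · -- `[g a^i, g a^j]`
    have h1 : g * a ^ i * (g * a ^ j) * (g * a ^ i)⁻¹ * (g * a ^ j)⁻¹ =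
        g * (a ^ i * (g * a ^ (j - i) * g⁻¹) * a ^ (-j)) * g⁻¹ := by group
    have h3 : a ^ i * (e ^ (j - i) * a ^ (j - i)) * a ^ (-j) = e ^ (j - i) := by
      have hc1 : Commute (a ^ i) (e ^ (j - i)) := (hea.symm.zpow_zpow i (j - i))
      calc a ^ i * (e ^ (j - i) * a ^ (j - i)) * a ^ (-j)
          = (a ^ i * e ^ (j - i)) * a ^ (j - i) * a ^ (-j) := by group
        _ = (e ^ (j - i) * a ^ i) * a ^ (j - i) * a ^ (-j) := by rw [hc1.eq]
        _ = e ^ (j - i) := by group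
    rw [h1, hgaj (j - i), h3, hgej]
    exact inv_mem (Subgroup.zpow_mem _ (Subgroup.mem_zpowers e) _)

/-- Let S be a finite 2-group of 2-rank exactly 2 and D a maximal subgroup of the centre of S such that S/D is a non-abelian group with exactly one involution (a generalized quaternion group). Then S has a nontrivial cyclic characteristic subgroup. -/
theorem result {S : Type*} [Group S]
    [Finite S] (hS : IsPGroup 2 S) (hr2 : Cfsg.PRankLE 2 2 S) (hr1 : ¬ Cfsg.PRankLE 2 1 S)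
    (D : Subgroup ↥(Subgroup.center S)) (hD : IsCoatom D)
    (hq : ∃ (_ : (D.map (Subgroup.center S).subtype).Normal),
      ¬ IsMulCommutative (S ⧸ D.map (Subgroup.center S).subtype) ∧
      ∃! x : S ⧸ D.map (Subgroup.center S).subtype, orderOf x = 2) :
    ∃ C : Subgroup S, C ≠ ⊥ ∧ IsCyclic ↥C ∧ C.Characteristic := by
  obtain ⟨hN, hnc, hu⟩ := hq
  have hEZ : D.map (Subgroup.center S).subtype ≤ Subgroup.center S := Subgroup.map_subtype_le _
  have hT : IsPGroup 2 (S ⧸ D.map (Subgroup.center S).subtype) := hS.to_quotient _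
  have hU : ∀ x y : S ⧸ D.map (Subgroup.center S).subtype,
      orderOf x = 2 → orderOf y = 2 → x = y := fun x y hx hy => hu.unique hx hy
  have hnc' : ¬ ∀ x y : S ⧸ D.map (Subgroup.center S).subtype, x * y = y * x :=
    fun h => hnc (isMulCommutative_iff.mpr h)
  obtain ⟨k, ab, gb, hqt⟩ := quatType_of_unique_invol hT hU hnc'
  obtain ⟨a, rfl⟩ := QuotientGroup.mk'_surjective _ ab
  obtain ⟨g, rfl⟩ := QuotientGroup.mk'_surjective _ gb
  have hle := commutator_le_zpowers _ hEZ k a g hqt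
  refine ⟨commutator S, ?_, Subgroup.isCyclic_of_le hle, inferInstance⟩
  intro hbot
  apply hnc'
  intro x y
  obtain ⟨x', rfl⟩ := QuotientGroup.mk'_surjective _ x
  obtain ⟨y', rfl⟩ := QuotientGroup.mk'_surjective _ y
  have : ⁅x', y'⁆ ∈ commutator S := by
    rw [commutator_def]
    exact Subgroup.commutator_mem_commutator (Subgroup.mem_top x') (Subgroup.mem_top y')
  rw [hbot, Subgroup.mem_bot, commutatorElement_eq_one_iff_mul_comm] at this
  rw [← map_mul, ← map_mul, this]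

end Cfsg.Agent.S3202
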