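import Cfsg.Statements.S3203
import Mathlib
import Cfsg.Agent.Lib.Helper53.ElemAbBasic
import Cfsg.Agent.Lib.Helper53.SylowConj2

set_option autoImplicit false
set_option linter.unusedSectionVars false
set_option linter.unusedSimpArgs false
open Cfsg

namespace Cfsg.Agent.S3203

open Subgroup Cfsg.Agent.Helper53

/-- The hypotheses on the pair `A`, `B` inside the group `T`. -/
structure TwoMax (T : Type*) [Group T] (A B : Subgroup T) : Prop where
  ne : A ≠ B
  hA : Cfsg.IsElementaryAbelian 2 A ∧ ∀ C : Subgroup T, Cfsg.IsElementaryAbelian 2 C → A ≤ C → C = A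
  hB : Cfsg.IsElementaryAbelian 2 B ∧ ∀ C : Subgroup T, Cfsg.IsElementaryAbelian 2 C → B ≤ C → C = B
  only : ∀ C : Subgroup T, Cfsg.IsElementaryAbelian 2 C →
      (∀ D : Subgroup T, Cfsg.IsElementaryAbelian 2 D → C ≤ D → D = C) → C = A ∨ C = B
  prod : ∀ s : T, ∃ a ∈ A, ∃ b ∈ B, a * b = s

section TLevel

variable {T : Type*} [Group T] {A B : Subgroup T}

theorem TwoMax.symm (h : TwoMax T A B) : TwoMax T B A where
  ne := h.ne.symm
  hA := h.hB
  hB := h.hA
  only := fun C hC hmax => (h.only C hC hmax).symm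
  prod := by
    intro s
    obtain ⟨a, ha, b, hb, hab⟩ := h.prod s⁻¹
    refine ⟨b⁻¹, inv_mem hb, a⁻¹, inv_mem ha, ?_⟩
    rw [← mul_inv_rev, hab, inv_inv]

theorem TwoMax.le_or_le [Finite T] (h : TwoMax T A B) (C : Subgroup T)
    (hC : Cfsg.IsElementaryAbelian 2 C) : C ≤ A ∨ C ≤ B := by
  obtain ⟨D, hCD, hD⟩ := Finite.exists_le_maximal (p := fun D : Subgroup T => Cfsg.IsElementaryAbelian 2 D) hC
  have := h.only D hD.1 (fun D' hD' hle => le_antisymm (hD.2 hD' hle) hle)
  rcases this with rfl | rfl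
  · exact Or.inl hCD
  · exact Or.inr hCD

/-- `A` is self-centralizing. -/
theorem TwoMax.cent_mem (h : TwoMax T A B) (x : T) (hx : ∀ a ∈ A, x * a = a * x) : x ∈ A := by
  obtain ⟨a₀, ha₀, b₀, hb₀, hab⟩ := h.prod x
  have hAc := (ea_iff.mp h.hA.1).1
  have hB2 := (ea_iff.mp h.hB.1).2
  have hb₀ : b₀ = a₀⁻¹ * x := by rw [← hab]; group
  have hcomm : ∀ a ∈ A, a * b₀ = b₀ * a := by
    intro a ha
    rw [hb₀]
    have h1 : a * a₀⁻¹ = a₀⁻¹ * a := hAc a ha a₀⁻¹ (inv_mem ha₀)
    calc a * (a₀⁻¹ * x) = (a * a₀⁻¹) * x := by group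
      _ = a₀⁻¹ * a * x := by rw [h1]
      _ = a₀⁻¹ * (a * x) := by group
      _ = a₀⁻¹ * (x * a) := by rw [hx a ha]
      _ = a₀⁻¹ * x * a := by group
  have hea : Cfsg.IsElementaryAbelian 2 (A ⊔ zpowers b₀) := by
    apply ea_sup_of_commute h.hA.1 (ea_zpowers (hB2 b₀ ‹b₀ ∈ B›))
    intro a ha y hy
    obtain ⟨k, rfl⟩ := mem_zpowers_iff.mp hy
    exact ((show Commute a b₀ from hcomm a ha).zpow_right k).eq
  have heq := h.hA.2 _ hea le_sup_left
  have hb₀A : b₀ ∈ A := by
    rw [← heq]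
    exact le_sup_right (a := A) (mem_zpowers b₀)
  rw [← hab]
  exact mul_mem ha₀ hb₀A

/-- `A` is normal in `T`. -/
theorem TwoMax.conj_mem (h : TwoMax T A B) (s : T) : ∀ a ∈ A, s * a * s⁻¹ ∈ A := by
  have hAc := (ea_iff.mp h.hA.1).1
  -- the conjugate `A^s`
  have hea : Cfsg.IsElementaryAbelian 2 (A.map (MulAut.conj s).toMonoidHom) := ea_map h.hA.1 _
  have hmax : ∀ D : Subgroup T, Cfsg.IsElementaryAbelian 2 D →
      A.map (MulAut.conj s).toMonoidHom ≤ D → D = A.map (MulAut.conj s).toMonoidHom := by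
    intro D hD hle
    have hD' : Cfsg.IsElementaryAbelian 2 (D.map (MulAut.conj s⁻¹).toMonoidHom) := ea_map hD _
    have hle' : A ≤ D.map (MulAut.conj s⁻¹).toMonoidHom := by
      intro a ha
      refine ⟨s * a * s⁻¹, hle ⟨a, ha, rfl⟩, ?_⟩
      simp [MulAut.conj_apply, mul_assoc]
    have heq := h.hA.2 _ hD' hle'
    apply le_antisymm _ hle
    intro d hd
    have : s⁻¹ * d * s ∈ A := by
      rw [← heq]
      exact ⟨d, hd, by simp [MulAut.conj_apply]⟩
    exact ⟨s⁻¹ * d * s, this, by simp [MulAut.conj_apply, mul_assoc]⟩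
  rcases h.only _ hea hmax with heq | heq
  · intro a ha
    rw [← heq]
    exact ⟨a, ha, rfl⟩
  · -- `A^s = B` is impossible
    exfalso
    obtain ⟨b₁, hb₁, a₁, ha₁, hs⟩ := h.symm.prod s
    have hAB : A ≤ B := by
      intro a ha
      have h1 : s * a * s⁻¹ ∈ B := by
        rw [← heq]; exact ⟨a, ha, rfl⟩
      have h2 : a₁ * a * a₁⁻¹ = a := by
        rw [hAc a₁ ha₁ a ha]; group
      have h3 : s * a * s⁻¹ = b₁ * a * b₁⁻¹ := by
        rw [← hs]
        calc b₁ * a₁ * a * (b₁ * a₁)⁻¹ = b₁ * (a₁ * a * a₁⁻¹) * b₁⁻¹ := by group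
          _ = b₁ * a * b₁⁻¹ := by rw [h2]
      rw [h3] at h1
      have : a = b₁⁻¹ * (b₁ * a * b₁⁻¹) * b₁ := by group
      rw [this]
      exact mul_mem (mul_mem (inv_mem hb₁) h1) hb₁
    exact h.ne (h.hA.2 B h.hB.1 hAB).symm

end TLevel

section GLevel

variable {G : Type*} [Group G] [Finite G]

theorem mem_normalizer_of_conj_mem {K : Subgroup G} {g : G} (h : ∀ a ∈ K, g * a * g⁻¹ ∈ K) :
    g ∈ normalizer (K : Set G) := by
  apply mem_normalizer_fintype
  intro a ha
  exact h a ha

theorem card_map_conj (K : Subgroup G) (g : G) :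
    Nat.card ↥(K.map (MulAut.conj g).toMonoidHom) = Nat.card ↥K :=
  card_map_of_injective (MulAut.conj g).injective

theorem mem_map_conj_iff (K : Subgroup G) (g x : G) :
    x ∈ K.map (MulAut.conj g).toMonoidHom ↔ g⁻¹ * x * g ∈ K := by
  constructor
  · rintro ⟨a, ha, rfl⟩
    simpa [MulAut.conj_apply, mul_assoc] using ha
  · intro h
    exact ⟨g⁻¹ * x * g, h, by simp [MulAut.conj_apply, mul_assoc]⟩

variable (S : Sylow 2 G) {A B : Subgroup ↥(S : Subgroup G)}

theorem conj_mem_map (h : TwoMax ↥(S : Subgroup G) A B) :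
    ∀ s ∈ (S : Subgroup G), ∀ a ∈ A.map (S : Subgroup G).subtype, s * a * s⁻¹ ∈ A.map (S : Subgroup G).subtype := by
  rintro s hs _ ⟨a₀, ha₀, rfl⟩
  exact ⟨⟨s, hs⟩ * a₀ * ⟨s, hs⟩⁻¹, h.conj_mem ⟨s, hs⟩ a₀ ha₀, rfl⟩

theorem cent_mem_map (h : TwoMax ↥(S : Subgroup G) A B) (x : G) (hx : x ∈ (S : Subgroup G))
    (hc : ∀ a ∈ A.map (S : Subgroup G).subtype, x * a = a * x) : x ∈ A.map (S : Subgroup G).subtype := by
  refine ⟨⟨x, hx⟩, h.cent_mem ⟨x, hx⟩ ?_, rfl⟩
  intro a ha
  apply Subtype.ext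
  exact hc a ⟨a, ha, rfl⟩

theorem le_or_le_map (h : TwoMax ↥(S : Subgroup G) A B) (E : Subgroup G) (hES : E ≤ (S : Subgroup G))
    (hE : Cfsg.IsElementaryAbelian 2 E) :
    E ≤ A.map (S : Subgroup G).subtype ∨ E ≤ B.map (S : Subgroup G).subtype := by
  have h1 := h.le_or_le (E.subgroupOf (S : Subgroup G)) (ea_subgroupOf hE _)
  have h2 : (E.subgroupOf (S : Subgroup G)).map (S : Subgroup G).subtype = E :=
    map_subgroupOf_eq_of_le hES
  rcases h1 with h1 | h1
  · left; rw [← h2]; exact map_mono h1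
  · right; rw [← h2]; exact map_mono h1

/-- `A'` is weakly closed in `S` with respect to `G`. -/
theorem weaklyClosed (h : TwoMax ↥(S : Subgroup G) A B) :
    Cfsg.IsWeaklyClosed (A.map (S : Subgroup G).subtype) (S : Subgroup G) := by
  have : Fact (Nat.Prime 2) := ⟨Nat.prime_two⟩
  set A' := A.map (S : Subgroup G).subtype with hA'
  set B' := B.map (S : Subgroup G).subtype with hB'
  have hA'S : A' ≤ (S : Subgroup G) := map_subtype_le A
  have hB'S : B' ≤ (S : Subgroup G) := map_subtype_le B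
  have hA'ea : Cfsg.IsElementaryAbelian 2 A' := ea_map h.hA.1 _
  have hB'ea : Cfsg.IsElementaryAbelian 2 B' := ea_map h.hB.1 _
  have hne : A' ≠ B' := by
    intro heq
    apply h.ne
    exact map_injective (S : Subgroup G).subtype_injective heq
  refine ⟨hA'S, fun g hg => ?_⟩
  set Ag := A'.map (MulAut.conj g).toMonoidHom with hAg
  have hAgea : Cfsg.IsElementaryAbelian 2 Ag := ea_map hA'ea _
  have hcardAg : Nat.card ↥Ag = Nat.card ↥A' := card_map_conj A' g
  rcases le_or_le_map S h Ag hg hAgea with hle | hle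
  · exact eq_of_le_of_card_ge hle (by rw [hcardAg])
  · exfalso
    -- Step (4a): `|B'| ≤ |A'|`
    have hcardBA : Nat.card ↥B' ≤ Nat.card ↥A' := by
      set B'' := B'.map (MulAut.conj g⁻¹).toMonoidHom with hB''
      have hB''ea : Cfsg.IsElementaryAbelian 2 B'' := ea_map hB'ea _
      have hA'B'' : A' ≤ B'' := by
        intro a ha
        rw [hB'', mem_map_conj_iff]
        apply hle
        refine ⟨a, ha, ?_⟩
        simp [MulAut.conj_apply]
      have hB''c := (ea_iff.mp hB''ea).1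
      have hcent : ∀ y ∈ B'', ∀ a ∈ A', y * a = a * y := fun y hy a ha =>
        hB''c y hy a (hA'B'' ha)
      set N := normalizer (A' : Set G) with hN
      have hSN : (S : Subgroup G) ≤ N := fun s hs =>
        mem_normalizer_of_conj_mem (conj_mem_map S h s hs)
      have hB''N : B'' ≤ N := by
        intro y hy
        apply mem_normalizer_of_conj_mem
        intro a ha
        have : y * a * y⁻¹ = a := by rw [hcent y hy a ha]; group
        rw [this]; exact ha
      have hB''p : IsPGroup 2 ↥B'' := (S.2.to_le hB'S).map _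
      obtain ⟨k, hkN, hkle⟩ := exists_conj_sylow_ge S hSN hB''N hB''p
      have hmapsto : B''.map (MulAut.conj k⁻¹).toMonoidHom ≤ A' := by
        intro y hy
        rw [mem_map_conj_iff, inv_inv] at hy
        -- `k y k⁻¹ ∈ B''`, so `y = k⁻¹ (k y k⁻¹) k ∈ S` and centralizes `A'`
        have hyS : y ∈ (S : Subgroup G) := by
          have := hkle hy
          rw [mem_smul_sylow_iff] at this
          have e : k⁻¹ * (k * y * k⁻¹) * k = y := by group
          rwa [e] at this
        apply cent_mem_map S h y hyS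
        intro a ha
        have hka : k * a * k⁻¹ ∈ A' := (mem_normalizer_iff.mp hkN a).1 ha
        have := hcent _ hy _ hka
        have e1 : y * a = k⁻¹ * ((k * y * k⁻¹) * (k * a * k⁻¹)) * k := by group
        have e2 : a * y = k⁻¹ * ((k * a * k⁻¹) * (k * y * k⁻¹)) * k := by group
        rw [e1, e2, this]
      calc Nat.card ↥B' = Nat.card ↥B'' := (card_map_conj B' g⁻¹).symm
        _ = Nat.card ↥(B''.map (MulAut.conj k⁻¹).toMonoidHom) := (card_map_conj B'' k⁻¹).symm
        _ ≤ Nat.card ↥A' := card_le_of_le hmapsto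
    have hAgB : Ag = B' := eq_of_le_of_card_ge hle (by rw [hcardAg]; exact hcardBA)
    have hcardeq : Nat.card ↥A' = Nat.card ↥B' := by rw [← hcardAg, hAgB]
    have hgA : ∀ a ∈ A', g * a * g⁻¹ ∈ B' := by
      intro a ha
      rw [← hAgB]
      exact ⟨a, ha, rfl⟩
    -- Step (4b): an element `n ∈ N_G(S)` with `n A' n⁻¹ = B'`
    have hSNB : (S : Subgroup G) ≤ normalizer (B' : Set G) := fun s hs =>
      mem_normalizer_of_conj_mem (conj_mem_map S h.symm s hs)
    have hgS : ((g • S : Sylow 2 G) : Subgroup G) ≤ normalizer (B' : Set G) := by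
      intro y hy
      rw [mem_smul_sylow_iff] at hy
      apply mem_normalizer_of_conj_mem
      intro b' hb'
      have hb'' : b' ∈ Ag := by rw [hAgB]; exact hb'
      rw [hAg, mem_map_conj_iff] at hb''
      have h1 := conj_mem_map S h _ hy _ hb''
      have h2 := hgA _ h1
      have e : g * (g⁻¹ * y * g * (g⁻¹ * b' * g) * (g⁻¹ * y * g)⁻¹) * g⁻¹ = y * b' * y⁻¹ := by group
      rwa [e] at h2
    obtain ⟨h', hh'N, hh'le⟩ := exists_conj_sylow_ge S hSNB hgS (g • S).2
    set n := h'⁻¹ * g with hn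
    have hnS : n ∈ normalizer ((S : Subgroup G) : Set G) := by
      apply mem_normalizer_of_conj_mem
      intro s hs
      have h1 : g * s * g⁻¹ ∈ ((g • S : Sylow 2 G) : Subgroup G) := by
        rw [mem_smul_sylow_iff]
        have e : g⁻¹ * (g * s * g⁻¹) * g = s := by group
        rw [e]; exact hs
      have h2 := hh'le h1
      rw [mem_smul_sylow_iff] at h2
      have e : n * s * n⁻¹ = h'⁻¹ * (g * s * g⁻¹) * h' := by rw [hn]; group
      rw [e]; exact h2
    have hnA : ∀ a ∈ A', n * a * n⁻¹ ∈ B' := by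
      intro a ha
      have h1 := hgA a ha
      have h2 := (mem_normalizer_iff.mp (inv_mem hh'N) _).1 h1
      have e : n * a * n⁻¹ = h'⁻¹ * (g * a * g⁻¹) * h'⁻¹⁻¹ := by rw [hn]; group
      rw [e]; exact h2
    -- Step (4c): `n` also maps `B'` into `A'`
    have hnB : ∀ b ∈ B', n * b * n⁻¹ ∈ A' := by
      set Bn := B'.map (MulAut.conj n).toMonoidHom with hBn
      have hBnS : Bn ≤ (S : Subgroup G) := by
        rintro _ ⟨b, hb, rfl⟩
        exact (mem_normalizer_iff.mp hnS b).1 (hB'S hb)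
      have hBnea : Cfsg.IsElementaryAbelian 2 Bn := ea_map hB'ea _
      rcases le_or_le_map S h Bn hBnS hBnea with hl | hl
      · intro b hb
        exact hl ⟨b, hb, rfl⟩
      · exfalso
        -- then `n B' n⁻¹ = B' = n A' n⁻¹`, so `A' = B'`
        have hBnB : Bn = B' := eq_of_le_of_card_ge hl (by rw [card_map_conj])
        have hAn : A'.map (MulAut.conj n).toMonoidHom = B' := by
          apply eq_of_le_of_card_ge
          · rintro _ ⟨a, ha, rfl⟩
            exact hnA a ha
          · rw [card_map_conj, hcardeq]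
        apply hne
        have := hAn.trans hBnB.symm
        exact map_injective (MulAut.conj n).injective this
    -- `n²` normalizes `A'`, and an odd power of `n` lies in `S`
    have hn2 : n ^ 2 ∈ normalizer (A' : Set G) := by
      apply mem_normalizer_of_conj_mem
      intro a ha
      have := hnB _ (hnA a ha)
      have e : n ^ 2 * a * (n ^ 2)⁻¹ = n * (n * a * n⁻¹) * n⁻¹ := by rw [pow_two]; group
      rw [e]; exact this
    have hSnorm : ((S : Subgroup G).subgroupOf (normalizer ((S : Subgroup G) : Set G))).Normal :=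
      normal_in_normalizer
    obtain ⟨r, hr⟩ : ∃ r, r = ((S : Subgroup G).subgroupOf (normalizer ((S : Subgroup G) : Set G))).index :=
      ⟨_, rfl⟩
    have hrodd : ¬ 2 ∣ r := by
      intro hdvd
      apply S.not_dvd_index
      rw [hr] at hdvd
      exact hdvd.trans (relIndex_dvd_index_of_le le_normalizer)
    have hnr : n ^ r ∈ (S : Subgroup G) := by
      have := pow_index_mem ((S : Subgroup G).subgroupOf (normalizer ((S : Subgroup G) : Set G))) ⟨n, hnS⟩
      rw [mem_subgroupOf, ← hr] at this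
      simpa using this
    have hnrN : n ^ r ∈ normalizer (A' : Set G) :=
      mem_normalizer_of_conj_mem (conj_mem_map S h _ hnr)
    have hnN : n ∈ normalizer (A' : Set G) := by
      obtain ⟨j, hj⟩ : ∃ j, r = 2 * j + 1 := by
        have : r % 2 = 1 := by omega
        exact ⟨r / 2, by omega⟩
      have e : n = ((n ^ 2) ^ j)⁻¹ * n ^ r := by
        rw [hj, ← pow_mul, pow_succ]; group
      rw [e]
      exact mul_mem (inv_mem (pow_mem hn2 j)) hnrN
    -- so `n A' n⁻¹ = A'`, contradiction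
    apply hne
    apply eq_of_le_of_card_ge _ (by rw [hcardeq])
    intro a ha
    have h1 : n⁻¹ * a * n ∈ A' := by
      have := (mem_normalizer_iff.mp (inv_mem hnN) a).1 ha
      simpa using this
    have h2 := hnA _ h1
    have e : n * (n⁻¹ * a * n) * n⁻¹ = a := by group
    rwa [e] at h2

end GLevel

/-- Let S be a Sylow 2-subgroup of a finite group G having exactly two subgroups A ≠ B that are maximal among its elementary abelian subgroups, with S = AB. Then A and B are each weakly closed in S with respect to G, and the normalizer of S normalizes both A and B. -/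
theorem result {G : Type*} [Group G] [Finite G] (S : Sylow 2 G)
    (A B : Subgroup ↥(S : Subgroup G)) (hAB : A ≠ B)
    (hA : Cfsg.IsElementaryAbelian 2 A ∧ ∀ C : Subgroup ↥(S : Subgroup G), Cfsg.IsElementaryAbelian 2 C → A ≤ C → C = A)
    (hB : Cfsg.IsElementaryAbelian 2 B ∧ ∀ C : Subgroup ↥(S : Subgroup G), Cfsg.IsElementaryAbelian 2 C → B ≤ C → C = B)
    (honly : ∀ C : Subgroup ↥(S : Subgroup G), Cfsg.IsElementaryAbelian 2 C →
      (∀ D : Subgroup ↥(S : Subgroup G), Cfsg.IsElementaryAbelian 2 D → C ≤ D → D = C) → C = A ∨ C = B)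
    (hprod : ∀ s : ↥(S : Subgroup G), ∃ a ∈ A, ∃ b ∈ B, a * b = s)
    (A' B' : Subgroup G) (hA' : A' = A.map (S : Subgroup G).subtype) (hB' : B' = B.map (S : Subgroup G).subtype) :
    Cfsg.IsWeaklyClosed A' (S : Subgroup G) ∧ Cfsg.IsWeaklyClosed B' (S : Subgroup G) ∧
      Subgroup.normalizer ((S : Subgroup G) : Set G) ≤ Subgroup.normalizer (A' : Set G) ⊓ Subgroup.normalizer (B' : Set G) := by
  have h : TwoMax ↥(S : Subgroup G) A B := ⟨hAB, hA, hB, honly, hprod⟩
  have hwA := weaklyClosed S h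
  have hwB := weaklyClosed S h.symm
  subst hA' hB'
  refine ⟨hwA, hwB, ?_⟩
  intro n hn
  have key : ∀ (K : Subgroup G), Cfsg.IsWeaklyClosed K (S : Subgroup G) → n ∈ normalizer (K : Set G) := by
    intro K hK
    have hle : K.map (MulAut.conj n).toMonoidHom ≤ (S : Subgroup G) := by
      rintro _ ⟨a, ha, rfl⟩
      exact (mem_normalizer_iff.mp hn a).1 (hK.1 ha)
    have heq := hK.2 n hle
    apply mem_normalizer_of_conj_mem
    intro a ha
    rw [← heq]
    exact ⟨a, ha, rfl⟩
  exact ⟨key _ hwA, key _ hwB⟩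


end Cfsg.Agent.S3203
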