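import Cfsg.Statements.S3208
import Mathlib
import Cfsg.Agent.Lib.Helper53.Basic

set_option autoImplicit false
open Cfsg

namespace Cfsg.Agent.S3208

open Subgroup

/-- Conjugation by an element of the normalizer, as an automorphism of the subgroup. -/
def conjAut {G : Type*} [Group G] (T : Subgroup G) (n : G) (hn : n ∈ normalizer (T : Set G)) :
    ↥T ≃* ↥T where
  toFun t := ⟨n * t * n⁻¹, (mem_normalizer_iff.mp hn t).1 t.2⟩
  invFun t := ⟨n⁻¹ * t * n, by
    have := (mem_normalizer_iff.mp hn (n⁻¹ * t * n)).2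
    apply this
    simp [mul_assoc]⟩
  left_inv t := by
    apply Subtype.ext
    simp [mul_assoc]
  right_inv t := by
    apply Subtype.ext
    simp [mul_assoc]
  map_mul' a b := by
    apply Subtype.ext
    simp [mul_assoc]

/-- Let j be an involution of a finite group G, H a subgroup of G, and T a Sylow 2-subgroup of H ∩ C_G(j) containing j such that ⟨j⟩ is a characteristic subgroup of T. Then T is a Sylow 2-subgroup of H. -/
theorem result {G : Type*} [Group G] [Finite G]
    (j : G) (hj : orderOf j = 2) (H T : Subgroup G) (hT : T ≤ H ⊓ Subgroup.centralizer ({j} : Set G)) (h2 : IsPGroup 2 ↥T)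
    (hSyl : ¬ 2 ∣ T.relIndex (H ⊓ Subgroup.centralizer ({j} : Set G))) (hjT : j ∈ T)
    (hchar : ((Subgroup.zpowers j).subgroupOf T).Characteristic) :
    ¬ 2 ∣ T.relIndex H := by
  intro hdvd
  have : Fact (Nat.Prime 2) := ⟨Nat.prime_two⟩
  have hTH : T ≤ H := hT.trans inf_le_left
  have h1 : 2 ∣ T.relIndex (H ⊓ normalizer (T : Set G)) :=
    Cfsg.Agent.Helper53.dvd_relIndex_normalizer hTH h2 hdvd
  have hj1 : j ≠ 1 := by
    intro h
    rw [h, orderOf_one] at hj
    exact absurd hj (by norm_num)
  have hj2 : j ^ 2 = 1 := by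
    rw [← hj]; exact pow_orderOf_eq_one j
  have hNC : H ⊓ normalizer (T : Set G) ≤ H ⊓ centralizer ({j} : Set G) := by
    intro n hn
    refine ⟨hn.1, ?_⟩
    have hnN : n ∈ normalizer (T : Set G) := hn.2
    have hc := hchar.fixed (conjAut T n hnN)
    have hmem : (⟨j, hjT⟩ : ↥T) ∈ (Subgroup.zpowers j).subgroupOf T := by
      rw [mem_subgroupOf]
      exact mem_zpowers j
    rw [← hc] at hmem
    rw [mem_comap, mem_subgroupOf] at hmem
    have hmem' : n * j * n⁻¹ ∈ zpowers j := hmem
    obtain ⟨k, hk⟩ := mem_zpowers_iff.mp hmem'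
    have hk' : j ^ (k % 2) = n * j * n⁻¹ := by
      rw [← hk]
      have := zpow_mod_orderOf j k
      rw [hj] at this
      exact_mod_cast this
    have hcases : k % 2 = 0 ∨ k % 2 = 1 := by omega
    change n ∈ centralizer ({j} : Set G)
    rw [mem_centralizer_iff]
    intro y hy
    rw [Set.mem_singleton_iff] at hy
    subst hy
    rcases hcases with h0 | h1'
    · rw [h0, zpow_zero] at hk'
      exfalso
      apply hj1
      have : n * y * n⁻¹ = 1 := hk'.symm
      have h3 : y = n⁻¹ * (n * y * n⁻¹) * n := by group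
      rw [h3, this]; group
    · rw [h1', zpow_one] at hk'
      have : n * y * n⁻¹ = y := hk'.symm
      calc y * n = (n * y * n⁻¹) * n := by rw [this]
        _ = n * y := by group
  have hle : T ≤ H ⊓ normalizer (T : Set G) := le_inf hTH le_normalizer
  have := relIndex_mul_relIndex T (H ⊓ normalizer (T : Set G)) (H ⊓ centralizer ({j} : Set G)) hle hNC
  apply hSyl
  rw [← this]
  exact Dvd.dvd.mul_right h1 _

end Cfsg.Agent.S3208
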