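import Cfsg.Statements.S3209
import Mathlib
import Cfsg.Agent.Lib.Helper53.SL2Inv

set_option autoImplicit false
open Cfsg

namespace Cfsg.Agent.S3209

open Subgroup Cfsg.Agent.Helper53

/-- `SL₂`-like properties of a subgroup `L` of `G`, phrased with elements of `G`. -/
structure SubSL2 {G : Type*} [Group G] (L : Subgroup G) (j : G) : Prop where
  invol : ∀ g ∈ L, g * g = 1 → g = 1 ∨ g = j
  ex4 : ∃ u ∈ L, u * u = j
  conj4 : ∀ u ∈ L, ∀ v ∈ L, u * u = j → v * v = j → ∃ g ∈ L, g * u * g⁻¹ = v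

theorem subSL2_of {G : Type*} [Group G] (L : Subgroup G) (c : ↥L) (h : SL2Like ↥L c) (j : G)
    (hj : j ∈ L) (hj2 : j * j = 1) (hj1 : j ≠ 1) : SubSL2 L j := by
  have hcj : (c : G) = j := by
    have h1 : (⟨j, hj⟩ : ↥L) * ⟨j, hj⟩ = 1 := Subtype.ext hj2
    rcases h.invol _ h1 with h2 | h2
    · exfalso
      apply hj1
      exact congrArg Subtype.val h2
    · exact (congrArg Subtype.val h2).symm
  refine ⟨?_, ?_, ?_⟩
  · intro g hg hg2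
    have h1 : (⟨g, hg⟩ : ↥L) * ⟨g, hg⟩ = 1 := Subtype.ext hg2
    rcases h.invol _ h1 with h2 | h2
    · left; exact congrArg Subtype.val h2
    · right; rw [← hcj]; exact congrArg Subtype.val h2
  · obtain ⟨u, hu⟩ := h.ex4
    refine ⟨u, u.2, ?_⟩
    rw [← hcj, ← hu]; rfl
  · intro u hu v hv hu2 hv2
    have hu' : (⟨u, hu⟩ : ↥L) * ⟨u, hu⟩ = c := Subtype.ext (by rw [hcj]; exact hu2)
    have hv' : (⟨v, hv⟩ : ↥L) * ⟨v, hv⟩ = c := Subtype.ext (by rw [hcj]; exact hv2)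
    obtain ⟨g, hg⟩ := h.conj4 _ _ hu' hv'
    exact ⟨g, g.2, congrArg Subtype.val hg⟩

theorem mem_sup_of_commute {G : Type*} [Group G] (L₁ L₂ : Subgroup G)
    (hc : ∀ x ∈ L₁, ∀ y ∈ L₂, x * y = y * x) (y : G) (hy : y ∈ L₁ ⊔ L₂) :
    ∃ y₁ ∈ L₁, ∃ y₂ ∈ L₂, y = y₁ * y₂ := by
  have hsup : L₁ ⊔ L₂ = Subgroup.closure ((L₁ : Set G) ∪ L₂) := by
    rw [Subgroup.closure_union, Subgroup.closure_eq, Subgroup.closure_eq]
  rw [hsup] at hy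
  induction hy using Subgroup.closure_induction with
  | mem x hx =>
    rcases hx with hx | hx
    · exact ⟨x, hx, 1, one_mem _, (mul_one x).symm⟩
    · exact ⟨1, one_mem _, x, hx, (one_mul x).symm⟩
  | one => exact ⟨1, one_mem _, 1, one_mem _, (mul_one 1).symm⟩
  | mul x y _ _ hx hy =>
    obtain ⟨x₁, hx₁, x₂, hx₂, rfl⟩ := hx
    obtain ⟨y₁, hy₁, y₂, hy₂, rfl⟩ := hy
    refine ⟨x₁ * y₁, mul_mem hx₁ hy₁, x₂ * y₂, mul_mem hx₂ hy₂, ?_⟩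
    have := hc y₁ hy₁ x₂ hx₂
    calc x₁ * x₂ * (y₁ * y₂) = x₁ * (x₂ * y₁) * y₂ := by group
      _ = x₁ * (y₁ * x₂) * y₂ := by rw [this]
      _ = x₁ * y₁ * (x₂ * y₂) := by group
  | inv x _ hx =>
    obtain ⟨x₁, hx₁, x₂, hx₂, rfl⟩ := hx
    refine ⟨x₁⁻¹, inv_mem hx₁, x₂⁻¹, inv_mem hx₂, ?_⟩
    have := hc x₁⁻¹ (inv_mem hx₁) x₂⁻¹ (inv_mem hx₂)
    rw [mul_inv_rev, this]

/-- Let L₁ ≅ SL₂(q₁) and L₂ ≅ SL₂(q₂), q₁ and q₂ odd, be elementwise-commuting subgroups of a finite group meeting in ⟨j⟩ for an involution j. Then L₁L₂ has exactly two conjugacy classes of involutions: the central involution j, and one further class (there is an involution x ≠ j in L₁L₂, and every involution of L₁L₂ other than j is conjugate to x by an element of L₁L₂). -/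
theorem result {G : Type*} [Group G] [Finite G]
    {F₁ : Type*} [Field F₁] [Fintype F₁] {F₂ : Type*} [Field F₂] [Fintype F₂]
    (hF₁ : Odd (Fintype.card F₁)) (hF₂ : Odd (Fintype.card F₂)) (L₁ L₂ : Subgroup G)
    (e₁ : ↥L₁ ≃* Matrix.SpecialLinearGroup (Fin 2) F₁) (e₂ : ↥L₂ ≃* Matrix.SpecialLinearGroup (Fin 2) F₂)
    (hc : ∀ x ∈ L₁, ∀ y ∈ L₂, x * y = y * x) (j : G) (hj : orderOf j = 2) (hm : L₁ ⊓ L₂ = Subgroup.zpowers j) :
    ∃ x ∈ L₁ ⊔ L₂, orderOf x = 2 ∧ x ≠ j ∧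
      ∀ y ∈ L₁ ⊔ L₂, orderOf y = 2 → y = j ∨ ∃ g ∈ L₁ ⊔ L₂, g * x * g⁻¹ = y := by
  have hj1 : j ≠ 1 := by
    intro h
    rw [h, orderOf_one] at hj
    exact absurd hj (by norm_num)
  have hj2 : j * j = 1 := by
    have := pow_orderOf_eq_one j
    rwa [hj, pow_two] at this
  have hjmem : j ∈ L₁ ⊓ L₂ := by rw [hm]; exact mem_zpowers j
  have hinter : ∀ x, x ∈ L₁ → x ∈ L₂ → x = 1 ∨ x = j := by
    intro x hx₁ hx₂
    have hx : x ∈ zpowers j := by rw [← hm]; exact ⟨hx₁, hx₂⟩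
    obtain ⟨k, rfl⟩ := mem_zpowers_iff.mp hx
    have this0 := zpow_mod_orderOf j k
    rw [hj] at this0
    have this : j ^ (k % 2) = j ^ k := by exact_mod_cast this0
    rw [← this]
    have hcases : k % 2 = 0 ∨ k % 2 = 1 := by omega
    rcases hcases with h0 | h0
    · left; rw [h0, zpow_zero]
    · right; rw [h0, zpow_one]
  have H₁ : SubSL2 L₁ j :=
    subSL2_of L₁ _ ((sl2Like_SL2 hF₁).map e₁.symm) j hjmem.1 hj2 hj1
  have H₂ : SubSL2 L₂ j :=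
    subSL2_of L₂ _ ((sl2Like_SL2 hF₂).map e₂.symm) j hjmem.2 hj2 hj1
  obtain ⟨u₁, hu₁, hu₁2⟩ := H₁.ex4
  obtain ⟨u₂, hu₂, hu₂2⟩ := H₂.ex4
  have hcomm := hc u₁ hu₁ u₂ hu₂
  -- `u₁` is not in `L₂`
  have hu₁not : u₁ ∉ L₂ := by
    intro h
    rcases hinter u₁ hu₁ h with h1 | h1
    · rw [h1, mul_one] at hu₁2; exact hj1 hu₁2.symm
    · rw [h1, hj2] at hu₁2; exact hj1 hu₁2.symm
  have hx2 : (u₁ * u₂) * (u₁ * u₂) = 1 := by
    calc (u₁ * u₂) * (u₁ * u₂) = u₁ * (u₂ * u₁) * u₂ := by group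
      _ = u₁ * (u₁ * u₂) * u₂ := by rw [hcomm]
      _ = (u₁ * u₁) * (u₂ * u₂) := by group
      _ = 1 := by rw [hu₁2, hu₂2, hj2]
  have hx1 : u₁ * u₂ ≠ 1 := by
    intro h
    apply hu₁not
    have : u₁ = u₂⁻¹ := eq_inv_of_mul_eq_one_left h
    rw [this]; exact inv_mem hu₂
  have hxj : u₁ * u₂ ≠ j := by
    intro h
    apply hu₁not
    have : u₁ = j * u₂⁻¹ := by rw [← h]; group
    rw [this]; exact mul_mem hjmem.2 (inv_mem hu₂)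
  refine ⟨u₁ * u₂, mul_mem (le_sup_left (a := L₁) hu₁) (le_sup_right (a := L₁) hu₂), ?_, hxj, ?_⟩
  · exact orderOf_eq_prime (by rw [pow_two]; exact hx2) hx1
  · intro y hy hyo
    have hy1 : y ≠ 1 := by
      intro h
      rw [h, orderOf_one] at hyo
      exact absurd hyo (by norm_num)
    have hy2 : y * y = 1 := by
      have := pow_orderOf_eq_one y
      rwa [hyo, pow_two] at this
    obtain ⟨y₁, hy₁, y₂, hy₂, rfl⟩ := mem_sup_of_commute L₁ L₂ hc y hy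
    have hcy := hc y₁ hy₁ y₂ hy₂
    have hsq : (y₁ * y₁) * (y₂ * y₂) = 1 := by
      calc (y₁ * y₁) * (y₂ * y₂) = y₁ * (y₁ * y₂) * y₂ := by group
        _ = y₁ * (y₂ * y₁) * y₂ := by rw [hcy]
        _ = (y₁ * y₂) * (y₁ * y₂) := by group
        _ = 1 := hy2
    -- `y₁²` lies in `L₁ ∩ L₂`
    have hy₁sq : y₁ * y₁ = (y₂ * y₂)⁻¹ := eq_inv_of_mul_eq_one_left hsq
    have hmem2 : y₁ * y₁ ∈ L₂ := by rw [hy₁sq]; exact inv_mem (mul_mem hy₂ hy₂)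
    rcases hinter _ (mul_mem hy₁ hy₁) hmem2 with h1 | h1
    · -- `y₁² = 1`
      left
      have h2 : y₂ * y₂ = 1 := by rw [h1, one_mul] at hsq; exact hsq
      rcases H₁.invol y₁ hy₁ h1 with ha | ha <;> rcases H₂.invol y₂ hy₂ h2 with hb | hb
      · exfalso; apply hy1; rw [ha, hb, mul_one]
      · rw [ha, hb, one_mul]
      · rw [ha, hb, mul_one]
      · exfalso; apply hy1; rw [ha, hb, hj2]
    · -- `y₁² = j`
      right
      have h2 : y₂ * y₂ = j := by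
        rw [h1] at hsq
        have : y₂ * y₂ = j⁻¹ := eq_inv_of_mul_eq_one_right hsq
        rw [this]
        exact inv_eq_of_mul_eq_one_left hj2
      obtain ⟨g₁, hg₁, hg₁'⟩ := H₁.conj4 u₁ hu₁ y₁ hy₁ hu₁2 h1
      obtain ⟨g₂, hg₂, hg₂'⟩ := H₂.conj4 u₂ hu₂ y₂ hy₂ hu₂2 h2
      refine ⟨g₁ * g₂, mul_mem (le_sup_left (a := L₁) hg₁) (le_sup_right (a := L₁) hg₂), ?_⟩
      have c1 := hc u₁ hu₁ g₂ hg₂
      have c2 := hc g₁⁻¹ (inv_mem hg₁) (g₂ * u₂ * g₂⁻¹) (mul_mem (mul_mem hg₂ hu₂) (inv_mem hg₂))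
      calc g₁ * g₂ * (u₁ * u₂) * (g₁ * g₂)⁻¹ = g₁ * (g₂ * u₁) * u₂ * g₂⁻¹ * g₁⁻¹ := by group
        _ = g₁ * (u₁ * g₂) * u₂ * g₂⁻¹ * g₁⁻¹ := by rw [c1]
        _ = g₁ * u₁ * ((g₂ * u₂ * g₂⁻¹) * g₁⁻¹) := by group
        _ = g₁ * u₁ * (g₁⁻¹ * (g₂ * u₂ * g₂⁻¹)) := by rw [c2]
        _ = (g₁ * u₁ * g₁⁻¹) * (g₂ * u₂ * g₂⁻¹) := by group
        _ = y₁ * y₂ := by rw [hg₁', hg₂']

end Cfsg.Agent.S3209
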