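import Cfsg.Statements.S3210
import Mathlib
import Cfsg.Agent.Lib.Helper53.SL2Inv
import Cfsg.Agent.Lib.Helper53.SL2Comm
import Cfsg.Agent.Lib.Helper53.SL2Card

set_option autoImplicit false
open Cfsg

namespace Cfsg.Agent.S3210

open Subgroup Cfsg.Agent.Helper53

theorem mem_sup_of_commute {G : Type*} [Group G] (L₁ L₂ : Subgroup G)
    (hc : ∀ x ∈ L₁, ∀ y ∈ L₂, x * y = y * x) (y : G) (hy : y ∈ L₁ ⊔ L₂) :
    ∃ y₁ ∈ L₁, ∃ y₂ ∈ L₂, y = y₁ * y₂ := by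
  have hsup : L₁ ⊔ L₂ = Subgroup.closure ((L₁ : Set G) ∪ L₂) := by
    rw [Subgroup.closure_union, Subgroup.closure_eq, Subgroup.closure_eq]
  rw [hsup] at hy
  induction hy using Subgroup.closure_induction with
  | mem x hx =>
    rcases hx with hx | hx
    · exact ⟨x, hx, 1, one_mem _, (mul_one x).symm⟩
    · exact ⟨1, one_mem _, x, hx, (one_mul x).symm⟩
  | one => exact ⟨1, one_mem _, 1, one_mem _, (mul_one 1).symm⟩
  | mul x y _ _ hx hy =>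
    obtain ⟨x₁, hx₁, x₂, hx₂, rfl⟩ := hx
    obtain ⟨y₁, hy₁, y₂, hy₂, rfl⟩ := hy
    refine ⟨x₁ * y₁, mul_mem hx₁ hy₁, x₂ * y₂, mul_mem hx₂ hy₂, ?_⟩
    have := hc y₁ hy₁ x₂ hx₂
    calc x₁ * x₂ * (y₁ * y₂) = x₁ * (x₂ * y₁) * y₂ := by group
      _ = x₁ * (y₁ * x₂) * y₂ := by rw [this]
      _ = x₁ * y₁ * (x₂ * y₂) := by group
  | inv x _ hx =>
    obtain ⟨x₁, hx₁, x₂, hx₂, rfl⟩ := hx
    refine ⟨x₁⁻¹, inv_mem hx₁, x₂⁻¹, inv_mem hx₂, ?_⟩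
    have := hc x₁⁻¹ (inv_mem hx₁) x₂⁻¹ (inv_mem hx₂)
    rw [mul_inv_rev, this]

/-- a permutation preserving `A ∪ B` which maps each of `A`, `B` into one of them either
preserves both or swaps them. -/
theorem perm_dichotomy {α : Type*} (A B : Set α) (hdisj : ∀ x, x ∈ A → x ∈ B → False)
    (hA : A.Nonempty) (hB : B.Nonempty) (φ ψ : α → α) (hφψ : ∀ x, φ (ψ x) = x)
    (hS : ∀ u, u ∈ A ∨ u ∈ B → (ψ u ∈ A ∨ ψ u ∈ B))
    (hAd : (∀ u ∈ A, φ u ∈ A) ∨ (∀ u ∈ A, φ u ∈ B))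
    (hBd : (∀ u ∈ B, φ u ∈ A) ∨ (∀ u ∈ B, φ u ∈ B)) :
    ((∀ u ∈ A, φ u ∈ A) ∧ (∀ u ∈ B, φ u ∈ B) ∧ (∀ u ∈ A, ψ u ∈ A) ∧ (∀ u ∈ B, ψ u ∈ B)) ∨
    ((∀ u ∈ A, φ u ∈ B) ∧ (∀ u ∈ B, φ u ∈ A) ∧ (∀ u ∈ A, ψ u ∈ B) ∧ (∀ u ∈ B, ψ u ∈ A)) := by
  obtain ⟨a₀, ha₀⟩ := hA
  obtain ⟨b₀, hb₀⟩ := hB
  rcases hAd with hAA | hAB
  · have hBB : ∀ u ∈ B, φ u ∈ B := by
      rcases hBd with hBA | hBB
      · exfalso
        rcases hS b₀ (Or.inr hb₀) with h | h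
        · have := hAA _ h
          rw [hφψ] at this
          exact hdisj _ this hb₀
        · have := hBA _ h
          rw [hφψ] at this
          exact hdisj _ this hb₀
      · exact hBB
    left
    refine ⟨hAA, hBB, ?_, ?_⟩
    · intro u hu
      rcases hS u (Or.inl hu) with h | h
      · exact h
      · exfalso
        have := hBB _ h
        rw [hφψ] at this
        exact hdisj _ hu this
    · intro u hu
      rcases hS u (Or.inr hu) with h | h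
      · exfalso
        have := hAA _ h
        rw [hφψ] at this
        exact hdisj _ this hu
      · exact h
  · have hBA : ∀ u ∈ B, φ u ∈ A := by
      rcases hBd with hBA | hBB
      · exact hBA
      · exfalso
        rcases hS a₀ (Or.inl ha₀) with h | h
        · have := hAB _ h
          rw [hφψ] at this
          exact hdisj _ ha₀ this
        · have := hBB _ h
          rw [hφψ] at this
          exact hdisj _ ha₀ this
    right
    refine ⟨hAB, hBA, ?_, ?_⟩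
    · intro u hu
      rcases hS u (Or.inl hu) with h | h
      · exfalso
        have := hAB _ h
        rw [hφψ] at this
        exact hdisj _ hu this
      · exact h
    · intro u hu
      rcases hS u (Or.inr hu) with h | h
      · exact h
      · exfalso
        have := hBA _ h
        rw [hφψ] at this
        exact hdisj _ this hu

/-- all the elements of square `j` of `L` are sent to the same side. -/
theorem same_side {G : Type*} [Group G] (L : Subgroup G) (j : G) (H : SubSL2C L j)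
    (QA QB : Set G) (hAB : ∀ a ∈ QA, ∀ b ∈ QB, a * b = b * a) (f : G → G)
    (hfc : ∀ x y, f x * f y = f y * f x → x * y = y * x)
    (hf : ∀ u ∈ L, u * u = j → f u ∈ QA ∨ f u ∈ QB)
    (u₀ : G) (hu₀ : u₀ ∈ L) (hu₀2 : u₀ * u₀ = j) (h0 : f u₀ ∈ QA) :
    ∀ v ∈ L, v * v = j → f v ∈ QA := by
  intro v hv hv2
  rcases hf v hv hv2 with h | h
  · exact h
  · exfalso
    have hcomm : u₀ * v = v * u₀ := hfc _ _ (hAB _ h0 _ h)
    obtain ⟨w, hw, hw2, hnc⟩ := H.noncomm4 u₀ hu₀ hu₀2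
    have hncv : v * w ≠ w * v := by
      rcases H.comm4 u₀ hu₀ v hv hu₀2 hv2 hcomm with h1 | h1
      · rw [h1]; exact hnc
      · rw [h1]
        intro h2
        apply hnc
        calc u₀ * w = u₀ * (w * u₀⁻¹) * u₀ := by group
          _ = u₀ * (u₀⁻¹ * w) * u₀ := by rw [h2]
          _ = w * u₀ := by group
    rcases hf w hw hw2 with h1 | h1
    · exact hncv (hfc _ _ (hAB _ h1 _ h).symm)
    · exact hnc (hfc _ _ (hAB _ h0 _ h1))

/-- transport of centralizers. -/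
theorem cent_transport {G : Type*} [Group G] (Y : Subgroup G) (QA QB : Set G)
    (φ ψ : G → G) (hφmul : ∀ x y, φ (x * y) = φ x * φ y) (hφψ : ∀ x, φ (ψ x) = x)
    (hφY : ∀ x ∈ Y, φ x ∈ Y) (hinv : ∀ u ∈ QB, ψ u ∈ QA) (y : G)
    (hy : y ∈ Y ∧ ∀ u ∈ QA, y * u = u * y) : φ y ∈ Y ∧ ∀ u ∈ QB, φ y * u = u * φ y := by
  refine ⟨hφY y hy.1, ?_⟩
  intro u hu
  have := hy.2 _ (hinv u hu)
  calc φ y * u = φ y * φ (ψ u) := by rw [hφψ]
    _ = φ (y * ψ u) := (hφmul _ _).symm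
    _ = φ (ψ u * y) := by rw [this]
    _ = φ (ψ u) * φ y := hφmul _ _
    _ = u * φ y := by rw [hφψ]

/-- Let G be a finite group with subgroups L₁ ≅ SL₂(q₁) and L₂ ≅ SL₂(q₂), q₁ and q₂ odd prime powers, which commute elementwise and meet in ⟨j⟩ for an involution j, and suppose L₁L₂ has index 2 in C_G(j). Then every element n of C_G(j) outside L₁L₂ either normalizes both L₁ and L₂, or conjugates L₁ onto L₂; in the second case q₁ = q₂ and there is an element n′ of C_G(j) outside L₁L₂ conjugating L₁ onto L₂ with n′² ∈ ⟨j⟩. -/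
theorem result {G : Type*} [Group G] [Finite G]
    {F₁ : Type*} [Field F₁] [Fintype F₁] {F₂ : Type*} [Field F₂] [Fintype F₂]
    (hF₁ : Odd (Fintype.card F₁)) (hF₂ : Odd (Fintype.card F₂)) (L₁ L₂ : Subgroup G)
    (e₁ : ↥L₁ ≃* Matrix.SpecialLinearGroup (Fin 2) F₁) (e₂ : ↥L₂ ≃* Matrix.SpecialLinearGroup (Fin 2) F₂)
    (hc : ∀ x ∈ L₁, ∀ y ∈ L₂, x * y = y * x) (j : G) (hj : orderOf j = 2) (hm : L₁ ⊓ L₂ = Subgroup.zpowers j)
    (hle : L₁ ⊔ L₂ ≤ Subgroup.centralizer ({j} : Set G)) (hi : (L₁ ⊔ L₂).relIndex (Subgroup.centralizer ({j} : Set G)) = 2) (n : G) (hn : n ∈ Subgroup.centralizer ({j} : Set G)) (hn' : n ∉ L₁ ⊔ L₂) :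
    (L₁.map (MulAut.conj n).toMonoidHom = L₁ ∧ L₂.map (MulAut.conj n).toMonoidHom = L₂) ∨
      (L₁.map (MulAut.conj n).toMonoidHom = L₂ ∧ Fintype.card F₁ = Fintype.card F₂ ∧
        ∃ n' ∈ Subgroup.centralizer ({j} : Set G), n' ∉ L₁ ⊔ L₂ ∧ L₁.map (MulAut.conj n').toMonoidHom = L₂ ∧ n' ^ 2 ∈ Subgroup.zpowers j) := by
  classical
  have hj1 : j ≠ 1 := by
    intro h
    rw [h, orderOf_one] at hj
    exact absurd hj (by norm_num)
  have hj2 : j * j = 1 := by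
    have := pow_orderOf_eq_one j
    rwa [hj, pow_two] at this
  have hjmem : j ∈ L₁ ⊓ L₂ := by rw [hm]; exact mem_zpowers j
  have hinter : ∀ x, x ∈ L₁ → x ∈ L₂ → x = 1 ∨ x = j := by
    intro x hx₁ hx₂
    have hx : x ∈ zpowers j := by rw [← hm]; exact ⟨hx₁, hx₂⟩
    obtain ⟨k, rfl⟩ := mem_zpowers_iff.mp hx
    have this0 := zpow_mod_orderOf j k
    rw [hj] at this0
    have this : j ^ (k % 2) = j ^ k := by exact_mod_cast this0
    rw [← this]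
    have hcases : k % 2 = 0 ∨ k % 2 = 1 := by omega
    rcases hcases with h0 | h0
    · left; rw [h0, zpow_zero]
    · right; rw [h0, zpow_one]
  have H₁ : SubSL2C L₁ j := subSL2C_of_equiv L₁ hF₁ e₁ j hjmem.1 hj2 hj1
  have H₂ : SubSL2C L₂ j := subSL2C_of_equiv L₂ hF₂ e₂ j hjmem.2 hj2 hj1
  have hL₁Y : L₁ ≤ L₁ ⊔ L₂ := le_sup_left
  have hL₂Y : L₂ ≤ L₁ ⊔ L₂ := le_sup_right
  have hCmem : ∀ m, m ∈ Subgroup.centralizer ({j} : Set G) → m * j = j * m := by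
    intro m hm
    rw [mem_centralizer_iff] at hm
    exact (hm j rfl).symm
  -- `L₁L₂` is normal in `C(j)`
  have hnorm : ∀ m ∈ Subgroup.centralizer ({j} : Set G), ∀ x ∈ L₁ ⊔ L₂,
      m * x * m⁻¹ ∈ L₁ ⊔ L₂ := by
    intro m hm x hx
    have hidx : ((L₁ ⊔ L₂).subgroupOf (Subgroup.centralizer ({j} : Set G))).index = 2 := hi
    have hN := Subgroup.normal_of_index_eq_two hidx
    have := hN.conj_mem ⟨x, hle hx⟩ (by rw [mem_subgroupOf]; exact hx) ⟨m, hm⟩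
    rw [mem_subgroupOf] at this
    exact this
  -- elements of `L₁L₂` of square `j`
  have hsqY : ∀ u ∈ L₁ ⊔ L₂, u * u = j → u ∈ L₁ ∨ u ∈ L₂ := by
    intro u hu hu2
    obtain ⟨a, ha, b, hb, rfl⟩ := mem_sup_of_commute L₁ L₂ hc u hu
    have hcab := hc a ha b hb
    have hsq : (a * a) * (b * b) = j := by
      calc (a * a) * (b * b) = a * (a * b) * b := by group
        _ = a * (b * a) * b := by rw [hcab]
        _ = (a * b) * (a * b) := by group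
        _ = j := hu2
    have haa : a * a ∈ L₂ := by
      have : a * a = j * (b * b)⁻¹ := by rw [← hsq]; group
      rw [this]; exact mul_mem hjmem.2 (inv_mem (mul_mem hb hb))
    rcases hinter (a * a) (mul_mem ha ha) haa with h | h
    · right
      have haL₂ : a ∈ L₂ := by
        rcases H₁.invol a ha h with h1 | h1
        · rw [h1]; exact one_mem _
        · rw [h1]; exact hjmem.2
      exact mul_mem haL₂ hb
    · left
      have hbb : b * b = 1 := by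
        rw [h] at hsq
        exact mul_left_cancel (a := j) (by rw [hsq, mul_one])
      have hbL₁ : b ∈ L₁ := by
        rcases H₂.invol b hb hbb with h1 | h1
        · rw [h1]; exact one_mem _
        · rw [h1]; exact hjmem.1
      exact mul_mem ha hbL₁
  obtain ⟨Q₁, hQ₁⟩ : ∃ Q : Set G, ∀ u, u ∈ Q ↔ (u ∈ L₁ ∧ u * u = j) :=
    ⟨{u | u ∈ L₁ ∧ u * u = j}, fun u => Iff.rfl⟩
  obtain ⟨Q₂, hQ₂⟩ : ∃ Q : Set G, ∀ u, u ∈ Q ↔ (u ∈ L₂ ∧ u * u = j) :=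
    ⟨{u | u ∈ L₂ ∧ u * u = j}, fun u => Iff.rfl⟩
  have hdisj : ∀ x, x ∈ Q₁ → x ∈ Q₂ → False := by
    intro x hx₁ hx₂
    rw [hQ₁] at hx₁
    rw [hQ₂] at hx₂
    rcases hinter x hx₁.1 hx₂.1 with h | h
    · rw [h, mul_one] at hx₁; exact hj1 hx₁.2.symm
    · rw [h, hj2] at hx₁; exact hj1 hx₁.2.symm
  have hQ₁ne : Q₁.Nonempty := by
    obtain ⟨u, hu, hu2⟩ := H₁.ex4
    exact ⟨u, (hQ₁ u).mpr ⟨hu, hu2⟩⟩
  have hQ₂ne : Q₂.Nonempty := by
    obtain ⟨u, hu, hu2⟩ := H₂.ex4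
    exact ⟨u, (hQ₂ u).mpr ⟨hu, hu2⟩⟩
  have hQcomm : ∀ a ∈ Q₁, ∀ b ∈ Q₂, a * b = b * a :=
    fun a ha b hb => hc a ((hQ₁ a).mp ha).1 b ((hQ₂ b).mp hb).1
  -- conjugation by `m ∈ C(j)` preserves `Q₁ ∪ Q₂`
  have hS : ∀ m ∈ Subgroup.centralizer ({j} : Set G), ∀ u, u ∈ Q₁ ∨ u ∈ Q₂ →
      (m * u * m⁻¹ ∈ Q₁ ∨ m * u * m⁻¹ ∈ Q₂) := by
    intro m hm u hu
    have huY : u ∈ L₁ ⊔ L₂ := by
      rcases hu with h | h
      · exact hL₁Y ((hQ₁ u).mp h).1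
      · exact hL₂Y ((hQ₂ u).mp h).1
    have hu2 : u * u = j := by
      rcases hu with h | h
      · exact ((hQ₁ u).mp h).2
      · exact ((hQ₂ u).mp h).2
    have h1 : m * u * m⁻¹ ∈ L₁ ⊔ L₂ := hnorm m hm u huY
    have h2 : (m * u * m⁻¹) * (m * u * m⁻¹) = j := by
      have : (m * u * m⁻¹) * (m * u * m⁻¹) = m * (u * u) * m⁻¹ := by group
      rw [this, hu2, hCmem m hm]; group
    rcases hsqY _ h1 h2 with h | h
    · left; exact (hQ₁ _).mpr ⟨h, h2⟩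
    · right; exact (hQ₂ _).mpr ⟨h, h2⟩
  have hfc : ∀ m x y : G, (m * x * m⁻¹) * (m * y * m⁻¹) = (m * y * m⁻¹) * (m * x * m⁻¹) →
      x * y = y * x := by
    intro m x y h
    have h1 : x * y = m⁻¹ * ((m * x * m⁻¹) * (m * y * m⁻¹)) * m := by group
    have h2 : y * x = m⁻¹ * ((m * y * m⁻¹) * (m * x * m⁻¹)) * m := by group
    rw [h1, h2, h]
  have hdich₁ : ∀ m ∈ Subgroup.centralizer ({j} : Set G),
      (∀ u ∈ Q₁, m * u * m⁻¹ ∈ Q₁) ∨ (∀ u ∈ Q₁, m * u * m⁻¹ ∈ Q₂) := by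
    intro m hm
    obtain ⟨u₀, hu₀, hu₀2⟩ := H₁.ex4
    rcases hS m hm u₀ (Or.inl ((hQ₁ u₀).mpr ⟨hu₀, hu₀2⟩)) with h | h
    · left
      intro u hu
      exact same_side L₁ j H₁ Q₁ Q₂ hQcomm (fun x => m * x * m⁻¹) (hfc m)
        (fun u hu hu2 => hS m hm u (Or.inl ((hQ₁ u).mpr ⟨hu, hu2⟩))) u₀ hu₀ hu₀2 h u
        ((hQ₁ u).mp hu).1 ((hQ₁ u).mp hu).2
    · right
      intro u hu
      exact same_side L₁ j H₁ Q₂ Q₁ (fun a ha b hb => (hQcomm b hb a ha).symm)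
        (fun x => m * x * m⁻¹) (hfc m)
        (fun u hu hu2 => (hS m hm u (Or.inl ((hQ₁ u).mpr ⟨hu, hu2⟩))).symm) u₀ hu₀ hu₀2 h u
        ((hQ₁ u).mp hu).1 ((hQ₁ u).mp hu).2
  have hdich₂ : ∀ m ∈ Subgroup.centralizer ({j} : Set G),
      (∀ u ∈ Q₂, m * u * m⁻¹ ∈ Q₁) ∨ (∀ u ∈ Q₂, m * u * m⁻¹ ∈ Q₂) := by
    intro m hm
    obtain ⟨u₀, hu₀, hu₀2⟩ := H₂.ex4
    rcases hS m hm u₀ (Or.inr ((hQ₂ u₀).mpr ⟨hu₀, hu₀2⟩)) with h | h
    · left
      intro u hu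
      exact same_side L₂ j H₂ Q₁ Q₂ hQcomm (fun x => m * x * m⁻¹) (hfc m)
        (fun u hu hu2 => hS m hm u (Or.inr ((hQ₂ u).mpr ⟨hu, hu2⟩))) u₀ hu₀ hu₀2 h u
        ((hQ₂ u).mp hu).1 ((hQ₂ u).mp hu).2
    · right
      intro u hu
      exact same_side L₂ j H₂ Q₂ Q₁ (fun a ha b hb => (hQcomm b hb a ha).symm)
        (fun x => m * x * m⁻¹) (hfc m)
        (fun u hu hu2 => (hS m hm u (Or.inr ((hQ₂ u).mpr ⟨hu, hu2⟩))).symm) u₀ hu₀ hu₀2 h u
        ((hQ₂ u).mp hu).1 ((hQ₂ u).mp hu).2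
  -- the centralizers of `Q₁`, `Q₂` in `L₁L₂`
  have hcent₁ : ∀ y, y ∈ L₂ ↔ (y ∈ L₁ ⊔ L₂ ∧ ∀ u ∈ Q₁, y * u = u * y) := by
    intro y
    constructor
    · intro hy
      exact ⟨hL₂Y hy, fun u hu => (hc u ((hQ₁ u).mp hu).1 y hy).symm⟩
    · rintro ⟨hyY, hyc⟩
      obtain ⟨a, ha, b, hb, rfl⟩ := mem_sup_of_commute L₁ L₂ hc y hyY
      have hacomm : ∀ u ∈ L₁, u * u = j → a * u = u * a := by
        intro u hu hu2
        have h1 := hyc u ((hQ₁ u).mpr ⟨hu, hu2⟩)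
        have h2 := hc u hu b hb
        calc a * u = a * (u * b) * b⁻¹ := by group
          _ = a * (b * u) * b⁻¹ := by rw [h2]
          _ = (a * b * u) * b⁻¹ := by group
          _ = (u * (a * b)) * b⁻¹ := by rw [h1]
          _ = u * a := by group
      rcases H₁.cent4 a ha hacomm with h | h
      · rw [h, one_mul]; exact hb
      · rw [h]; exact mul_mem hjmem.2 hb
  have hcent₂ : ∀ y, y ∈ L₁ ↔ (y ∈ L₁ ⊔ L₂ ∧ ∀ u ∈ Q₂, y * u = u * y) := by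
    intro y
    constructor
    · intro hy
      exact ⟨hL₁Y hy, fun u hu => hc y hy u ((hQ₂ u).mp hu).1⟩
    · rintro ⟨hyY, hyc⟩
      obtain ⟨a, ha, b, hb, rfl⟩ := mem_sup_of_commute L₁ L₂ hc y hyY
      have hbcomm : ∀ u ∈ L₂, u * u = j → b * u = u * b := by
        intro u hu hu2
        have h1 := hyc u ((hQ₂ u).mpr ⟨hu, hu2⟩)
        have h2 := hc a ha u hu
        calc b * u = a⁻¹ * (a * b * u) := by group
          _ = a⁻¹ * (u * (a * b)) := by rw [h1]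
          _ = a⁻¹ * (u * a) * b := by group
          _ = a⁻¹ * (a * u) * b := by rw [h2]
          _ = u * b := by group
      rcases H₂.cent4 b hb hbcomm with h | h
      · rw [h, mul_one]; exact ha
      · rw [h]; exact mul_mem ha hjmem.1
  have hninv : n⁻¹ ∈ Subgroup.centralizer ({j} : Set G) := inv_mem hn
  have hφmul : ∀ x y : G, n * (x * y) * n⁻¹ = (n * x * n⁻¹) * (n * y * n⁻¹) := by
    intro x y; group
  have hψmul : ∀ x y : G, n⁻¹ * (x * y) * n = (n⁻¹ * x * n) * (n⁻¹ * y * n) := by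
    intro x y; group
  have hφψ : ∀ x : G, n * (n⁻¹ * x * n) * n⁻¹ = x := by intro x; group
  have hψφ : ∀ x : G, n⁻¹ * (n * x * n⁻¹) * n = x := by intro x; group
  have hφY : ∀ x ∈ L₁ ⊔ L₂, n * x * n⁻¹ ∈ L₁ ⊔ L₂ := hnorm n hn
  have hψY : ∀ x ∈ L₁ ⊔ L₂, n⁻¹ * x * n ∈ L₁ ⊔ L₂ := by
    intro x hx
    have := hnorm n⁻¹ hninv x hx
    rwa [inv_inv] at this
  have hSψ : ∀ u, u ∈ Q₁ ∨ u ∈ Q₂ → (n⁻¹ * u * n ∈ Q₁ ∨ n⁻¹ * u * n ∈ Q₂) := by
    intro u hu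
    have := hS n⁻¹ hninv u hu
    rwa [inv_inv] at this
  have hmap : ∀ (m : G) (LA LB : Subgroup G), (∀ y ∈ LA, m * y * m⁻¹ ∈ LB) →
      (∀ y ∈ LB, m⁻¹ * y * m ∈ LA) → LA.map (MulAut.conj m).toMonoidHom = LB := by
    intro m LA LB h1 h2
    ext y
    constructor
    · rintro ⟨x, hx, rfl⟩
      simp only [MulEquiv.coe_toMonoidHom, MulAut.conj_apply]
      exact h1 x hx
    · intro hy
      refine ⟨m⁻¹ * y * m, h2 y hy, ?_⟩
      simp only [MulEquiv.coe_toMonoidHom, MulAut.conj_apply]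
      group
  rcases perm_dichotomy Q₁ Q₂ hdisj hQ₁ne hQ₂ne (fun x => n * x * n⁻¹) (fun x => n⁻¹ * x * n)
    hφψ hSψ (hdich₁ n hn) (hdich₂ n hn) with ⟨h11, h22, h11', h22'⟩ | ⟨h12, h21, h12', h21'⟩
  · left
    constructor
    · apply hmap
      · intro y hy
        exact (hcent₂ _).mpr (cent_transport (L₁ ⊔ L₂) Q₂ Q₂ (fun x => n * x * n⁻¹)
          (fun x => n⁻¹ * x * n) hφmul hφψ hφY h22' y ((hcent₂ y).mp hy))
      · intro y hy
        exact (hcent₂ _).mpr (cent_transport (L₁ ⊔ L₂) Q₂ Q₂ (fun x => n⁻¹ * x * n)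
          (fun x => n * x * n⁻¹) hψmul hψφ hψY h22 y ((hcent₂ y).mp hy))
    · apply hmap
      · intro y hy
        exact (hcent₁ _).mpr (cent_transport (L₁ ⊔ L₂) Q₁ Q₁ (fun x => n * x * n⁻¹)
          (fun x => n⁻¹ * x * n) hφmul hφψ hφY h11' y ((hcent₁ y).mp hy))
      · intro y hy
        exact (hcent₁ _).mpr (cent_transport (L₁ ⊔ L₂) Q₁ Q₁ (fun x => n⁻¹ * x * n)
          (fun x => n * x * n⁻¹) hψmul hψφ hψY h11 y ((hcent₁ y).mp hy))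
  · right
    have hφ12 : ∀ y ∈ L₁, n * y * n⁻¹ ∈ L₂ := by
      intro y hy
      exact (hcent₁ _).mpr (cent_transport (L₁ ⊔ L₂) Q₂ Q₁ (fun x => n * x * n⁻¹)
        (fun x => n⁻¹ * x * n) hφmul hφψ hφY h12' y ((hcent₂ y).mp hy))
    have hφ21 : ∀ y ∈ L₂, n * y * n⁻¹ ∈ L₁ := by
      intro y hy
      exact (hcent₂ _).mpr (cent_transport (L₁ ⊔ L₂) Q₁ Q₂ (fun x => n * x * n⁻¹)
        (fun x => n⁻¹ * x * n) hφmul hφψ hφY h21' y ((hcent₁ y).mp hy))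
    have hψ21 : ∀ y ∈ L₂, n⁻¹ * y * n ∈ L₁ := by
      intro y hy
      exact (hcent₂ _).mpr (cent_transport (L₁ ⊔ L₂) Q₁ Q₂ (fun x => n⁻¹ * x * n)
        (fun x => n * x * n⁻¹) hψmul hψφ hψY h21 y ((hcent₁ y).mp hy))
    have hmapn : L₁.map (MulAut.conj n).toMonoidHom = L₂ := hmap n L₁ L₂ hφ12 hψ21
    refine ⟨hmapn, ?_, ?_⟩
    · apply card_eq_of_card_SL2_eq
      rw [← Nat.card_congr e₁.toEquiv, ← Nat.card_congr e₂.toEquiv, ← hmapn]
      exact (Subgroup.card_map_of_injective (MulAut.conj n).injective).symm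
    · have hn2 : n * n ∈ L₁ ⊔ L₂ := by
        have hidx : ((L₁ ⊔ L₂).subgroupOf (Subgroup.centralizer ({j} : Set G))).index = 2 := hi
        have := Subgroup.sq_mem_of_index_two hidx ⟨n, hn⟩
        rw [mem_subgroupOf, pow_two] at this
        exact this
      obtain ⟨a₁, ha₁, a₂, ha₂, hn2eq⟩ := mem_sup_of_commute L₁ L₂ hc _ hn2
      obtain ⟨b, hb⟩ : ∃ b, b = n * a₁ * n⁻¹ := ⟨_, rfl⟩
      obtain ⟨d, hd⟩ : ∃ d, d = n * a₂ * n⁻¹ := ⟨_, rfl⟩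
      have hbL : b ∈ L₂ := by rw [hb]; exact hφ12 a₁ ha₁
      have hdL : d ∈ L₁ := by rw [hd]; exact hφ21 a₂ ha₂
      have hbd : b * d = a₁ * a₂ := by
        have : b * d = n * (a₁ * a₂) * n⁻¹ := by rw [hb, hd]; group
        rw [this, ← hn2eq]; group
      refine ⟨a₁⁻¹ * n, mul_mem (inv_mem (hle (hL₁Y ha₁))) hn, ?_, ?_, ?_⟩
      · intro h
        apply hn'
        have : n = a₁ * (a₁⁻¹ * n) := by group
        rw [this]
        exact mul_mem (hL₁Y ha₁) h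
      · apply hmap
        · intro x hx
          have hφx : n * x * n⁻¹ ∈ L₂ := hφ12 x hx
          have hcm := hc a₁ ha₁ _ hφx
          have : a₁⁻¹ * n * x * (a₁⁻¹ * n)⁻¹ = n * x * n⁻¹ := by
            calc a₁⁻¹ * n * x * (a₁⁻¹ * n)⁻¹ = a₁⁻¹ * ((n * x * n⁻¹) * a₁) := by group
              _ = a₁⁻¹ * (a₁ * (n * x * n⁻¹)) := by rw [hcm]
              _ = n * x * n⁻¹ := by group
          rw [this]; exact hφx
        · intro y hy
          have hcm := hc a₁ ha₁ y hy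
          have : (a₁⁻¹ * n)⁻¹ * y * (a₁⁻¹ * n) = n⁻¹ * y * n := by
            calc (a₁⁻¹ * n)⁻¹ * y * (a₁⁻¹ * n) = n⁻¹ * (a₁ * y) * a₁⁻¹ * n := by group
              _ = n⁻¹ * (y * a₁) * a₁⁻¹ * n := by rw [hcm]
              _ = n⁻¹ * y * n := by group
          rw [this]; exact hψ21 y hy
      · rw [← hm]
        have hsq : (a₁⁻¹ * n) ^ 2 = b⁻¹ * a₂ := by
          have h1 : (a₁⁻¹ * n) ^ 2 = a₁⁻¹ * (n * a₁ * n⁻¹)⁻¹ * (n * n) := by
            rw [pow_two]; group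
          rw [h1, hn2eq, ← hb]
          have hcm := hc a₁⁻¹ (inv_mem ha₁) b⁻¹ (inv_mem hbL)
          calc a₁⁻¹ * b⁻¹ * (a₁ * a₂) = (a₁⁻¹ * b⁻¹) * a₁ * a₂ := by group
            _ = (b⁻¹ * a₁⁻¹) * a₁ * a₂ := by rw [hcm]
            _ = b⁻¹ * a₂ := by group
        rw [hsq]
        refine Subgroup.mem_inf.mpr ⟨?_, mul_mem (inv_mem hbL) ha₂⟩
        have : b⁻¹ * a₂ = a₁⁻¹ * d := by
          have hcm := hc a₁ ha₁ b⁻¹ (inv_mem hbL)
          calc b⁻¹ * a₂ = a₁⁻¹ * (a₁ * b⁻¹) * a₂ := by group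
            _ = a₁⁻¹ * (b⁻¹ * a₁) * a₂ := by rw [hcm]
            _ = a₁⁻¹ * (b⁻¹ * (a₁ * a₂)) := by group
            _ = a₁⁻¹ * (b⁻¹ * (b * d)) := by rw [hbd]
            _ = a₁⁻¹ * d := by group
        rw [this]
        exact mul_mem (inv_mem ha₁) hdL

end Cfsg.Agent.S3210
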