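import Cfsg.Statements.S3211
import Cfsg.Agent.Lib.Helper49.TwoSL2Main
import Cfsg.Agent.Lib.Helper96.GlaubA2
import Cfsg.Agent.Lib.Helper94.ZStarRed

set_option autoImplicit false
open Cfsg

namespace Cfsg.Agent.S3211

lemma two_ne_zero_of_odd (F : Type*) [Field F] [Fintype F] (hF : Odd (Fintype.card F)) :
    (2 : F) ≠ 0 ∧ Fintype.card F % 2 = 1 := by
  have hmod : Fintype.card F % 2 = 1 := Nat.odd_iff.mp hF
  refine ⟨?_, hmod⟩
  apply Ring.two_ne_zero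
  intro hchar
  have := FiniteField.even_card_of_char_two hchar
  omega

open Cfsg.Agent.Helper49.TwoSL2 in
theorem result {G : Type*} [Group G] [Finite G]
    {F₁ : Type*} [Field F₁] [Fintype F₁] {F₂ : Type*} [Field F₂] [Fintype F₂]
    (hF₁ : Odd (Fintype.card F₁)) (hF₂ : Odd (Fintype.card F₂)) (L₁ L₂ : Subgroup G)
    (e₁ : ↥L₁ ≃* Matrix.SpecialLinearGroup (Fin 2) F₁) (e₂ : ↥L₂ ≃* Matrix.SpecialLinearGroup (Fin 2) F₂)
    (hc : ∀ x ∈ L₁, ∀ y ∈ L₂, x * y = y * x) (j : G) (hj : orderOf j = 2) (hm : L₁ ⊓ L₂ = Subgroup.zpowers j)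
    (hle : L₁ ⊔ L₂ ≤ Subgroup.centralizer ({j} : Set G)) (hi : (L₁ ⊔ L₂).relIndex (Subgroup.centralizer ({j} : Set G)) = 2) (n : G) (hn : n ∈ Subgroup.centralizer ({j} : Set G))
    (hn2 : n ^ 2 = j) (hswap : L₁.map (MulAut.conj n).toMonoidHom = L₂) :
    Subgroup.centralizer ({j} : Set G) ⊔ Cfsg.oddCore G = ⊤ := by
  obtain ⟨h21, hm1⟩ := two_ne_zero_of_odd F₁ hF₁
  obtain ⟨h22, hm2⟩ := two_ne_zero_of_odd F₂ hF₂
  have jj : j * j = 1 := by
    have := pow_orderOf_eq_one j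
    rw [hj, pow_two] at this
    exact this
  have j1 : j ≠ 1 := by
    intro h
    rw [h, orderOf_one] at hj
    omega
  have hjm : j ∈ L₁ ⊓ L₂ := by
    rw [hm]
    exact Subgroup.mem_zpowers j
  have jL1 : j ∈ L₁ := hjm.1
  have jL2 : j ∈ L₂ := hjm.2
  have inter : ∀ z, z ∈ L₁ → z ∈ L₂ → z = 1 ∨ z = j := by
    intro z hz1 hz2
    have hz : z ∈ L₁ ⊓ L₂ := ⟨hz1, hz2⟩
    rw [hm, Subgroup.mem_zpowers_iff] at hz
    obtain ⟨k, rfl⟩ := hz
    rw [← zpow_mod_orderOf, hj]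
    push_cast
    rcases Int.emod_two_eq_zero_or_one k with h | h
    · left
      rw [h]
      simp
    · right
      rw [h]
      simp
  have hnn : n * n = j := by rw [← pow_two]; exact hn2
  have cfg : Cfg L₁ L₂ j :=
    { comm := hc
      jj := jj
      j1 := j1
      jL1 := jL1
      jL2 := jL2
      inter := inter
      U1 := sl2_U h21 e₁ jL1 jj j1
      U2 := sl2_U h22 e₂ jL2 jj j1
      I1 := sl2_I h21 e₁ jL1 jj j1 hm1
      I2 := sl2_I h22 e₂ jL2 jj j1 hm2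
      invX := invX_of_swap hc jj j1 jL1 jL2 inter hi hn hnn hswap
        (sl2_exists_other h22 e₂ jL2 jj j1) }
  have hiso : Cfsg.IsIsolatedInvolution j := ⟨hj, fun g hg => isolated cfg g hg⟩
  have hZ := Cfsg.Agent.Helper96.Glaub.zstar_main G j hiso
  exact sup_eq_top_of_zstar (Cfsg.oddCore G) Cfsg.Agent.Helper94.ZStar.odd_card_oddCore j jj hZ

end Cfsg.Agent.S3211
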