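import Cfsg.Statements.S3213
import Mathlib
import Cfsg.Agent.Lib.Helper43.RegUnip

set_option autoImplicit false
open Cfsg

namespace Cfsg.Agent.S3213

section dec

set_option maxRecDepth 100000 in
theorem key5 : ∀ a b c d : ZMod 5, a * d - b * c = 1 →
    (!![a, b; c, d] : Matrix (Fin 2) (Fin 2) (ZMod 5)) ^ 3 = 1 →
    (!![a, b; c, d] : Matrix (Fin 2) (Fin 2) (ZMod 5)) ≠ 1 →
    ∃ p q r s : ZMod 5, p * s - q * r = 1 ∧
      ((!![a, b; c, d] : Matrix (Fin 2) (Fin 2) (ZMod 5)) *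
        (!![p, q; r, s] * !![a, b; c, d] * !![s, -q; -r, p])) ^ 2 = -1 := by
  decide

end dec

section transfer

variable {K : Type*} [Field K] [Fintype K]

theorem exists_conj (hK : Fintype.card K = 5) (x : Matrix.SpecialLinearGroup (Fin 2) K)
    (hx : orderOf x = 3) :
    ∃ g : Matrix.SpecialLinearGroup (Fin 2) K,
      (((x * (g * x * g⁻¹)) ^ 2 : Matrix.SpecialLinearGroup (Fin 2) K) :
        Matrix (Fin 2) (Fin 2) K) = -1 := by
  classical
  let e : ZMod 5 ≃+* K := ZMod.ringEquivOfPrime (R := K) (p := 5) (by norm_num) hK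
  let ψ : Matrix.SpecialLinearGroup (Fin 2) (ZMod 5) →* Matrix.SpecialLinearGroup (Fin 2) K :=
    Matrix.SpecialLinearGroup.map (e : ZMod 5 →+* K)
  let ψ' : Matrix.SpecialLinearGroup (Fin 2) K →* Matrix.SpecialLinearGroup (Fin 2) (ZMod 5) :=
    Matrix.SpecialLinearGroup.map (e.symm : K →+* ZMod 5)
  have hψ : ∀ y, ψ (ψ' y) = y := by
    intro y; ext i j; simp [ψ, ψ']
  obtain ⟨x₀, hx₀⟩ : ∃ x₀, x₀ = ψ' x := ⟨_, rfl⟩
  have hxx : x = ψ x₀ := by rw [hx₀, hψ]
  have h3 : x₀ ^ 3 = 1 := by rw [hx₀, ← map_pow, ← hx, pow_orderOf_eq_one, map_one]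
  have hne : x₀ ≠ 1 := by
    intro h
    have : x = 1 := by rw [hxx, h, map_one]
    rw [this, orderOf_one] at hx; omega
  have hval : (x₀ : Matrix (Fin 2) (Fin 2) (ZMod 5)) = !![x₀ 0 0, x₀ 0 1; x₀ 1 0, x₀ 1 1] :=
    Matrix.eta_fin_two _
  have hdet : x₀ 0 0 * x₀ 1 1 - x₀ 0 1 * x₀ 1 0 = 1 := by
    have := x₀.2
    rwa [Matrix.det_fin_two] at this
  have h3' : (!![x₀ 0 0, x₀ 0 1; x₀ 1 0, x₀ 1 1] : Matrix (Fin 2) (Fin 2) (ZMod 5)) ^ 3 = 1 := by
    rw [← hval, ← Matrix.SpecialLinearGroup.coe_pow, h3, Matrix.SpecialLinearGroup.coe_one]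
  have hne' : (!![x₀ 0 0, x₀ 0 1; x₀ 1 0, x₀ 1 1] : Matrix (Fin 2) (Fin 2) (ZMod 5)) ≠ 1 := by
    rw [← hval]
    intro h
    apply hne
    ext i j
    rw [h]; rfl
  obtain ⟨p, q, r, s, hpq, hw⟩ := key5 _ _ _ _ hdet h3' hne'
  let g₀ : Matrix.SpecialLinearGroup (Fin 2) (ZMod 5) :=
    ⟨!![p, q; r, s], by rw [Matrix.det_fin_two_of]; exact hpq⟩
  have hg₀inv : (g₀⁻¹ : Matrix.SpecialLinearGroup (Fin 2) (ZMod 5)).1 = !![s, -q; -r, p] := by
    rw [Matrix.SpecialLinearGroup.coe_inv]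
    simp [g₀, Matrix.adjugate_fin_two_of]
  have hw₀ : (((x₀ * (g₀ * x₀ * g₀⁻¹)) ^ 2 : Matrix.SpecialLinearGroup (Fin 2) (ZMod 5)) :
        Matrix (Fin 2) (Fin 2) (ZMod 5)) = -1 := by
    rw [Matrix.SpecialLinearGroup.coe_pow, Matrix.SpecialLinearGroup.coe_mul,
      Matrix.SpecialLinearGroup.coe_mul, Matrix.SpecialLinearGroup.coe_mul, hg₀inv, hval]
    exact hw
  refine ⟨ψ g₀, ?_⟩
  have : (x * (ψ g₀ * x * (ψ g₀)⁻¹)) ^ 2 = ψ ((x₀ * (g₀ * x₀ * g₀⁻¹)) ^ 2) := by
    rw [hxx]; simp only [map_pow, map_mul, map_inv]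
  rw [this]
  ext i j
  have := congrFun (congrFun hw₀ i) j
  simp only [ψ, Matrix.SpecialLinearGroup.map_apply_coe, RingHom.mapMatrix_apply,
    Matrix.map_apply]
  rw [this]
  fin_cases i <;> fin_cases j <;> simp

end transfer

section count

open Module

variable {F : Type*} [Field F] [Fintype F] {V : Type*} [AddCommGroup V] [Module F V] [Finite V]

theorem fix_count (t : V →ₗ[F] V) (ht : t ^ 5 = 1) (U : Submodule F V)
    (hU : ∀ v ∈ U, t v ∈ U) :
    Nat.card U ≡ Nat.card ↥(U ⊓ LinearMap.ker (t - 1)) [MOD 5] := by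
  classical
  haveI : Fintype U := Fintype.ofFinite _
  have : Fact (Nat.Prime 5) := ⟨by norm_num⟩
  let f : Function.End U := fun u => ⟨t u, hU u u.2⟩
  have hfk : ∀ (k : ℕ) (u : U), ((f ^ k) u : V) = (t ^ k) u := by
    intro k
    induction k with
    | zero => intro u; rfl
    | succ k ih =>
      intro u
      rw [pow_succ, pow_succ]
      show ((f ^ k) (f u) : V) = (t ^ k) (t u)
      rw [ih]
  have hf : f ^ 5 ^ 1 = 1 := by
    funext u
    apply Subtype.ext
    rw [pow_one, hfk, ht]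
    rfl
  have h := Equiv.Perm.card_fixedPoints_modEq (p := 5) (n := 1) hf
  rw [Fintype.card_eq_nat_card, Fintype.card_eq_nat_card] at h
  refine h.trans (congrArg (· % 5) ?_)
  apply Nat.card_congr
  refine
    { toFun := fun u => ⟨u.1.1, u.1.2, ?_⟩
      invFun := fun v => ⟨⟨v.1, v.2.1⟩, ?_⟩
      left_inv := fun u => rfl
      right_inv := fun v => rfl }
  · have h1 : f u.1 = u.1 := u.2
    have h2 : t u.1.1 = u.1.1 := congrArg Subtype.val h1
    show u.1.1 ∈ LinearMap.ker (t - 1)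
    rw [LinearMap.mem_ker, LinearMap.sub_apply, h2, Module.End.one_apply, sub_self]
  · have h1 : v.1 ∈ LinearMap.ker (t - 1) := v.2.2
    rw [LinearMap.mem_ker, LinearMap.sub_apply, Module.End.one_apply, sub_eq_zero] at h1
    show f ⟨v.1, v.2.1⟩ = ⟨v.1, v.2.1⟩
    exact Subtype.ext h1

theorem pow3_mod5 (a b : ℕ) (ha : a ≤ 4) (hb : b ≤ a) (h : 3 ^ a ≡ 3 ^ b [MOD 5]) :
    a = b ∨ (a = 4 ∧ b = 0) := by
  interval_cases a <;> interval_cases b <;> simp_all (config := {decide := true})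

theorem card_sub (hF : Fintype.card F = 3) (U : Submodule F V) :
    Nat.card U = 3 ^ finrank F U := by
  have : Module.Finite F V := Module.Finite.of_finite
  rw [Module.natCard_eq_pow_finrank (K := F) (V := U), Nat.card_eq_fintype_card, hF]

theorem central_inv (hF : Fintype.card F = 3) (hV : finrank F V = 4) (t z : V →ₗ[F] V)
    (ht : t ^ 5 = 1) (ht1 : t ≠ 1) (hz : z * z = 1) (hz1 : z ≠ 1) (hc : z * t = t * z) :
    z = -1 := by
  have : Module.Finite F V := Module.Finite.of_finite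
  -- step 1
  have h1 : LinearMap.ker (t - 1) = ⊥ := by
    have h := fix_count t ht ⊤ (fun v _ => Submodule.mem_top)
    rw [top_inf_eq, card_sub hF, card_sub hF, finrank_top, hV] at h
    have hle : finrank F (LinearMap.ker (t - 1)) ≤ 4 := hV ▸ Submodule.finrank_le _
    rcases pow3_mod5 _ _ le_rfl hle h with h' | ⟨_, h'⟩
    · exfalso
      apply ht1
      have : LinearMap.ker (t - 1) = ⊤ := Submodule.eq_top_of_finrank_eq (by rw [← h', hV])
      rw [LinearMap.ker_eq_top] at this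
      exact sub_eq_zero.1 this
    · exact Submodule.finrank_eq_zero.1 h'
  -- step 2
  have h2 : LinearMap.ker (z - 1) = ⊥ := by
    have hU : ∀ v ∈ LinearMap.ker (z - 1), t v ∈ LinearMap.ker (z - 1) := by
      intro v hv
      rw [LinearMap.mem_ker, LinearMap.sub_apply, Module.End.one_apply, sub_eq_zero] at hv ⊢
      have := LinearMap.congr_fun hc v
      rw [Module.End.mul_apply, Module.End.mul_apply, hv] at this
      exact this
    have h := fix_count t ht _ hU
    rw [h1, inf_bot_eq, card_sub hF, card_sub hF, finrank_bot] at h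
    have hle : finrank F (LinearMap.ker (z - 1)) ≤ 4 := hV ▸ Submodule.finrank_le _
    rcases pow3_mod5 _ _ hle (Nat.zero_le _) h with h' | ⟨h', _⟩
    · exact Submodule.finrank_eq_zero.1 h'
    · exfalso
      apply hz1
      have : LinearMap.ker (z - 1) = ⊤ := Submodule.eq_top_of_finrank_eq (by rw [h', hV])
      rw [LinearMap.ker_eq_top] at this
      exact sub_eq_zero.1 this
  -- step 3
  apply LinearMap.ext
  intro v
  have : (z + 1) v ∈ LinearMap.ker (z - 1) := by
    rw [LinearMap.mem_ker, ← Module.End.mul_apply]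
    have : (z - 1) * (z + 1) = 0 := by
      rw [sub_mul, mul_add, one_mul, mul_one, hz]; abel
    rw [this, LinearMap.zero_apply]
  rw [h2, Submodule.mem_bot, LinearMap.add_apply, Module.End.one_apply] at this
  rw [LinearMap.neg_apply, Module.End.one_apply]
  exact eq_neg_of_add_eq_zero_left this

end count

section dims

open Module

variable {F : Type*} [Field F] {V : Type*} [AddCommGroup V] [Module F V] [FiniteDimensional F V]

theorem dim_le_two (h2 : (2 : F) ≠ 0) (hV : finrank F V = 4) (a c c' : V →ₗ[F] V)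
    (hc : c * c' = 1) (hc' : c' * c = 1) (h : (a * (c * a * c')) ^ 2 = -1) :
    finrank F (LinearMap.ker (a - 1)) ≤ 2 := by
  by_contra hcon
  have hd : 3 ≤ finrank F (LinearMap.ker (a - 1)) := by omega
  let ce : V ≃ₗ[F] V := LinearEquiv.ofLinearMap c c' hc hc'
  obtain ⟨W, hW⟩ : ∃ W, W = LinearMap.ker (a - 1) := ⟨_, rfl⟩
  rw [← hW] at hd
  have hW' : finrank F (W.map (ce : V →ₗ[F] V)) = finrank F W := LinearEquiv.finrank_map_eq ce W
  have hsum := Submodule.finrank_sup_add_finrank_inf_eq W (W.map (ce : V →ₗ[F] V))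
  have hle : finrank F (W ⊔ W.map (ce : V →ₗ[F] V) : Submodule F V) ≤ 4 :=
    hV ▸ Submodule.finrank_le _
  have hpos : 0 < finrank F (W ⊓ W.map (ce : V →ₗ[F] V) : Submodule F V) := by omega
  obtain ⟨v, hv, hv0⟩ := Submodule.exists_mem_ne_zero_of_ne_bot (p := W ⊓ W.map (ce : V →ₗ[F] V)) (by
    intro hbot; rw [hbot, finrank_bot] at hpos; exact lt_irrefl _ hpos)
  apply hv0
  obtain ⟨hvW, w, hw, hwv⟩ := hv
  rw [hW] at hvW hw
  have hav : a v = v := by
    have := LinearMap.mem_ker.1 hvW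
    rwa [LinearMap.sub_apply, Module.End.one_apply, sub_eq_zero] at this
  have haw : a w = w := by
    have := LinearMap.mem_ker.1 hw
    rwa [LinearMap.sub_apply, Module.End.one_apply, sub_eq_zero] at this
  have hcw : c w = v := hwv
  have hcv : (c * a * c') v = v := by
    rw [Module.End.mul_apply, Module.End.mul_apply, ← hcw, ← Module.End.mul_apply c' c, hc',
      Module.End.one_apply, haw]
  have h1 : (a * (c * a * c')) v = v := by rw [Module.End.mul_apply, hcv, hav]
  have h2' : ((a * (c * a * c')) ^ 2) v = v := by rw [pow_two, Module.End.mul_apply, h1, h1]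
  rw [h, LinearMap.neg_apply, Module.End.one_apply] at h2'
  have : (2 : F) • v = 0 := by
    rw [two_smul]; nth_rewrite 1 [← h2']; exact neg_add_cancel v
  exact (smul_eq_zero.1 this).resolve_left h2

theorem two_le_dim (hV : finrank F V = 4) (n : V →ₗ[F] V) (hn : n ^ 3 = 0) :
    2 ≤ finrank F (LinearMap.ker n) := by
  have := Cfsg.Agent.Helper43.finrank_ker_pow_le n 3
  rw [hn, LinearMap.ker_zero, finrank_top, hV] at this
  omega

theorem isotropic (B : LinearMap.BilinForm F V) (hB : B.IsAlt) (a : V →ₗ[F] V)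
    (ha : ∀ v w, B (a v) (a w) = B v w) (hn : (a - 1) ^ 3 = 0) (hn0 : a - 1 ≠ 0)
    (hd : finrank F (LinearMap.ker (a - 1)) = 2) :
    ∀ w₁ ∈ LinearMap.ker (a - 1), ∀ w₂ ∈ LinearMap.ker (a - 1), B w₁ w₂ = 0 := by
  intro w₁ hw₁ w₂ hw₂
  by_contra hb
  apply hn0
  obtain ⟨n, hnn⟩ : ∃ n, n = a - 1 := ⟨_, rfl⟩
  rw [← hnn] at hn hd hw₁ hw₂ ⊢
  have hfix : ∀ w ∈ LinearMap.ker n, a w = w := by
    intro w hw
    have := LinearMap.mem_ker.1 hw
    rwa [hnn, LinearMap.sub_apply, Module.End.one_apply, sub_eq_zero] at this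
  -- (i)
  have h1 : ∀ v, ∀ w ∈ LinearMap.ker n, B (n v) w = 0 := by
    intro v w hw
    rw [hnn, LinearMap.sub_apply, Module.End.one_apply, map_sub, LinearMap.sub_apply]
    nth_rewrite 1 [← hfix w hw]
    rw [ha, sub_self]
  -- (ii)
  have h2 : ∀ u ∈ LinearMap.ker n, (∃ v, n v = u) → u = 0 := by
    intro u hu ⟨v, hv⟩
    let ℓ : LinearMap.ker n →ₗ[F] F × F :=
      LinearMap.prod ((B.flip w₁).comp (LinearMap.ker n).subtype)
        ((B.flip w₂).comp (LinearMap.ker n).subtype)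
    have hℓ : ∀ w : LinearMap.ker n, ℓ w = (B w.1 w₁, B w.1 w₂) := fun w => rfl
    have hskew : B w₂ w₁ = - B w₁ w₂ := (hB.neg_eq w₁ w₂).symm
    have hsurj : Function.Surjective ℓ := by
      rintro ⟨p, q⟩
      refine ⟨⟨(q / B w₁ w₂) • w₁ + (- p / B w₁ w₂) • w₂,
        Submodule.add_mem _ (Submodule.smul_mem _ _ hw₁) (Submodule.smul_mem _ _ hw₂)⟩, ?_⟩
      rw [hℓ]
      simp only [map_add, map_smul, LinearMap.add_apply, LinearMap.smul_apply, smul_eq_mul,
        hB w₁, hB w₂, hskew, mul_zero, add_zero, zero_add]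
      refine Prod.ext ?_ ?_
      · show - p / B w₁ w₂ * - B w₁ w₂ = p
        field_simp
      · show q / B w₁ w₂ * B w₁ w₂ = q
        field_simp
    have hinj : Function.Injective ℓ :=
      (LinearMap.injective_iff_surjective_of_finrank_eq_finrank (by
        rw [hd, Module.finrank_prod, Module.finrank_self])).2 hsurj
    have h0 : ℓ ⟨u, hu⟩ = 0 := by
      rw [hℓ]
      show (B u w₁, B u w₂) = 0
      rw [← hv, h1 v w₁ hw₁, h1 v w₂ hw₂]
      rfl
    have := hinj (h0.trans (map_zero ℓ).symm)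
    exact congrArg Subtype.val this
  -- (iii)
  apply LinearMap.ext
  intro v
  have hv3 : n (n (n v)) = 0 := by
    have := LinearMap.congr_fun hn v
    rwa [pow_succ, pow_succ, pow_one, Module.End.mul_apply, Module.End.mul_apply] at this
  have hv2 : n (n v) = 0 := h2 _ (LinearMap.mem_ker.2 hv3) ⟨_, rfl⟩
  exact h2 _ (LinearMap.mem_ker.2 hv2) ⟨_, rfl⟩

end dims

section main

open Module

variable {F : Type*} [Field F] [Fintype F] {K : Type*} [Field K] [Fintype K]

theorem form_inv (A : Matrix (Fin 2 ⊕ Fin 2) (Fin 2 ⊕ Fin 2) F)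
    (hA : A ∈ Matrix.symplecticGroup (Fin 2) F) (v w : Fin 2 ⊕ Fin 2 → F) :
    dotProduct (A.mulVec v) ((Matrix.J (Fin 2) F).mulVec (A.mulVec w)) =
      dotProduct v ((Matrix.J (Fin 2) F).mulVec w) := by
  have h := SymplecticGroup.mem_iff'.1 hA
  rw [Matrix.mulVec_mulVec, ← Matrix.vecMul_transpose, ← Matrix.dotProduct_mulVec,
    Matrix.mulVec_mulVec, ← Matrix.mul_assoc, h]

theorem form_alt (h2 : (2 : F) ≠ 0) (v : Fin 2 ⊕ Fin 2 → F) :
    dotProduct v ((Matrix.J (Fin 2) F).mulVec v) = 0 := by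
  have h : dotProduct v ((Matrix.J (Fin 2) F).mulVec v) =
      - dotProduct v ((Matrix.J (Fin 2) F).mulVec v) := by
    nth_rewrite 1 [Matrix.dotProduct_mulVec, ← Matrix.mulVec_transpose, Matrix.J_transpose,
      Matrix.neg_mulVec, neg_dotProduct, dotProduct_comm]
    rfl
  have : (2 : F) * dotProduct v ((Matrix.J (Fin 2) F).mulVec v) = 0 := by
    rw [two_mul]; nth_rewrite 1 [h]; exact neg_add_cancel _
  exact (mul_eq_zero.1 this).resolve_left h2

end main

/-- Let F be the field with 3 elements and K the field with 5 elements. For every injective homomorphism φ from SL₂(K) into the symplectic group Sp₄(F) (4 × 4 matrices g with g J gᵀ = J for the standard alternating matrix J) and every element x of order 3 of SL₂(K), the vectors of F⁴ fixed by φ(x) form a 2-dimensional subspace that is totally isotropic for the alternating form defined by J. -/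
theorem result {F : Type*} [Field F] [Fintype F] (hF : Fintype.card F = 3)
    {K : Type*} [Field K] [Fintype K] (hK : Fintype.card K = 5)
    (φ : Matrix.SpecialLinearGroup (Fin 2) K →* ↥(Matrix.symplecticGroup (Fin 2) F)) (hφ : Function.Injective φ)
    (x : Matrix.SpecialLinearGroup (Fin 2) K) (hx : orderOf x = 3) :
    Module.finrank F ↥(LinearMap.ker (Matrix.toLin' ((φ x : Matrix (Fin 2 ⊕ Fin 2) (Fin 2 ⊕ Fin 2) F)) - LinearMap.id)) = 2 ∧
      ∀ v w : Fin 2 ⊕ Fin 2 → F, (φ x : Matrix (Fin 2 ⊕ Fin 2) (Fin 2 ⊕ Fin 2) F).mulVec v = v →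
        (φ x : Matrix (Fin 2 ⊕ Fin 2) (Fin 2 ⊕ Fin 2) F).mulVec w = w →
          dotProduct v ((Matrix.J (Fin 2) F).mulVec w) = 0 := by
  classical
  have h3F : (3 : F) = 0 := by
    have := Nat.cast_card_eq_zero F; rw [hF] at this; exact_mod_cast this
  have h2F : (2 : F) ≠ 0 := by
    intro h
    have : (1 : F) = 0 := by linear_combination h3F - h
    exact one_ne_zero this
  have h5K : (5 : K) = 0 := by
    have := Nat.cast_card_eq_zero K; rw [hK] at this; exact_mod_cast this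
  have h2K : (2 : K) ≠ 0 := by
    intro h
    have : (1 : K) = 0 := by linear_combination h5K - 2 * h
    exact one_ne_zero this
  have hV : Module.finrank F (Fin 2 ⊕ Fin 2 → F) = 4 := by
    rw [Module.finrank_fintype_fun_eq_card]; rfl
  let ρ : Matrix.SpecialLinearGroup (Fin 2) K →* Module.End F (Fin 2 ⊕ Fin 2 → F) :=
    { toFun := fun y => Matrix.toLin' ((φ y : Matrix.symplecticGroup (Fin 2) F) :
        Matrix (Fin 2 ⊕ Fin 2) (Fin 2 ⊕ Fin 2) F)
      map_one' := by rw [map_one, Submonoid.coe_one]; exact Matrix.toLin'_one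
      map_mul' := fun y y' => by rw [map_mul, Submonoid.coe_mul, Matrix.toLin'_mul]; rfl }
  have hρ : ∀ y, ρ y = Matrix.toLin' ((φ y : Matrix.symplecticGroup (Fin 2) F) :
        Matrix (Fin 2 ⊕ Fin 2) (Fin 2 ⊕ Fin 2) F) := fun y => rfl
  have hρinj : ∀ y, ρ y = 1 → y = 1 := by
    intro y hy
    apply hφ
    rw [map_one]
    apply Subtype.ext
    have : Matrix.toLin' ((φ y : Matrix.symplecticGroup (Fin 2) F) :
        Matrix (Fin 2 ⊕ Fin 2) (Fin 2 ⊕ Fin 2) F) = Matrix.toLin' 1 := by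
      rw [Matrix.toLin'_one]; exact hy
    exact Matrix.toLin'.injective this
  let u : Matrix.SpecialLinearGroup (Fin 2) K := ⟨!![1, 1; 0, 1], by simp [Matrix.det_fin_two_of]⟩
  let z : Matrix.SpecialLinearGroup (Fin 2) K := ⟨-1, by simp [Matrix.det_fin_two]⟩
  have hu5 : u ^ 5 = 1 := by
    apply Subtype.ext
    rw [Matrix.SpecialLinearGroup.coe_pow]
    show (!![1, 1; 0, 1] : Matrix (Fin 2) (Fin 2) K) ^ 5 = 1
    have : (!![1, 1; 0, 1] : Matrix (Fin 2) (Fin 2) K) ^ 5 = !![1, 5; 0, 1] := by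
      simp only [pow_succ, pow_zero, one_mul, Matrix.mul_fin_two]
      norm_num
    rw [this, h5K]
    exact (Matrix.one_fin_two).symm
  have hu1 : u ≠ 1 := by
    intro h
    have := congrFun (congrFun (congrArg Subtype.val h) 0) 1
    simp [u] at this
  have hzz : z * z = 1 := by
    apply Subtype.ext
    show (-1 : Matrix (Fin 2) (Fin 2) K) * -1 = 1
    rw [neg_mul_neg, one_mul]
  have hz1 : z ≠ 1 := by
    intro h
    have := congrFun (congrFun (congrArg Subtype.val h) 0) 0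
    simp only [z, Matrix.SpecialLinearGroup.coe_one, Matrix.neg_apply, Matrix.one_apply_eq] at this
    apply h2K
    linear_combination -this
  have hzu : z * u = u * z := by
    apply Subtype.ext
    show (-1 : Matrix (Fin 2) (Fin 2) K) * u.1 = u.1 * -1
    rw [neg_mul, mul_neg, one_mul, mul_one]
  have hZ : ρ z = -1 :=
    central_inv hF hV (ρ u) (ρ z) (by rw [← map_pow, hu5, map_one])
      (fun h => hu1 (hρinj _ h)) (by rw [← map_mul, hzz, map_one])
      (fun h => hz1 (hρinj _ h)) (by rw [← map_mul, ← map_mul, hzu])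
  obtain ⟨g, hg⟩ := exists_conj hK x hx
  have hgz : (x * (g * x * g⁻¹)) ^ 2 = z := Subtype.ext hg
  have hle : Module.finrank F (LinearMap.ker (ρ x - 1)) ≤ 2 :=
    dim_le_two h2F hV (ρ x) (ρ g) (ρ g⁻¹) (by rw [← map_mul, mul_inv_cancel, map_one])
      (by rw [← map_mul, inv_mul_cancel, map_one])
      (by rw [← map_mul, ← map_mul, ← map_mul, ← map_pow, hgz, hZ])
  have hn3 : (ρ x - 1) ^ 3 = 0 := by
    have hx3 : ρ x ^ 3 = 1 := by rw [← map_pow, ← hx, pow_orderOf_eq_one, map_one]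
    have h1 : (ρ x - 1) ^ 3 = ρ x ^ 3 - 1 - 3 • (ρ x * (ρ x - 1)) := by
      simp only [pow_succ, pow_zero, one_mul, sub_mul, mul_sub, mul_one]
      abel
    have h2 : (3 : ℕ) • (ρ x * (ρ x - 1)) = (3 : F) • (ρ x * (ρ x - 1)) := by
      rw [← Nat.cast_smul_eq_nsmul F]; norm_num
    rw [h1, h2, hx3, h3F, zero_smul, sub_self, sub_zero]
  have hge := two_le_dim hV (ρ x - 1) hn3
  have hd : Module.finrank F (LinearMap.ker (ρ x - 1)) = 2 := le_antisymm hle hge
  have hx1 : x ≠ 1 := by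
    intro h; rw [h, orderOf_one] at hx; omega
  have hn0 : ρ x - 1 ≠ 0 := fun h => hx1 (hρinj _ (sub_eq_zero.1 h))
  refine ⟨hd, ?_⟩
  intro v w hv hw
  let B : LinearMap.BilinForm F (Fin 2 ⊕ Fin 2 → F) := Matrix.toBilin' (Matrix.J (Fin 2) F)
  have hBapp : ∀ v w, B v w = dotProduct v ((Matrix.J (Fin 2) F).mulVec w) :=
    fun v w => Matrix.toBilin'_apply' _ v w
  have hmem : ∀ v : Fin 2 ⊕ Fin 2 → F,
      (φ x : Matrix (Fin 2 ⊕ Fin 2) (Fin 2 ⊕ Fin 2) F).mulVec v = v →
        v ∈ LinearMap.ker (ρ x - 1) := by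
    intro v hv
    rw [LinearMap.mem_ker, LinearMap.sub_apply, Module.End.one_apply, hρ, Matrix.toLin'_apply, hv,
      sub_self]
  have := isotropic B (fun v => by rw [hBapp]; exact form_alt h2F v) (ρ x)
    (fun v w => by
      rw [hBapp, hBapp, hρ, Matrix.toLin'_apply, Matrix.toLin'_apply]
      exact form_inv _ (φ x).2 v w) hn3 hn0 hd v (hmem v hv) w (hmem w hw)
  rw [hBapp] at this
  exact this

end Cfsg.Agent.S3213
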