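import Cfsg.Statements.S3225
import Mathlib

set_option autoImplicit false
open Cfsg

namespace Cfsg.Agent.S3225

open Subgroup

/-- The sign character of a subgroup `S` with kernel a subgroup `M` of relative index 2. -/
noncomputable def signHom {G : Type*} [Group G] (S M : Subgroup G) (hM : M.relIndex S = 2) :
    ↥S →* ℤˣ := by
  classical
  exact MonoidHom.mk' (fun s => if (s : G) ∈ M then 1 else -1) (by
    intro a b
    have hidx : (M.subgroupOf S).index = 2 := hM
    have h := mul_mem_iff_of_index_two hidx (a := a) (b := b)
    simp only [mem_subgroupOf, coe_mul] at h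
    by_cases ha : (a : G) ∈ M <;> by_cases hb : (b : G) ∈ M <;> simp [ha, hb, h])

theorem signHom_apply_of_mem {G : Type*} [Group G] (S M : Subgroup G) (hM : M.relIndex S = 2)
    (s : ↥S) (hs : (s : G) ∈ M) : signHom S M hM s = 1 := by
  classical
  simp [signHom, hs]

theorem signHom_apply_of_not_mem {G : Type*} [Group G] (S M : Subgroup G) (hM : M.relIndex S = 2)
    (s : ↥S) (hs : (s : G) ∉ M) : signHom S M hM s = -1 := by
  classical
  simp [signHom, hs]

/-- Let G be a finite group of even order with no subgroup of index 2, S a Sylow 2-subgroup of G and M a subgroup of index 2 in S such that, for some n ≥ 1, every element of S outside M has order greater than 2^(n−1). Then every element of S of order 2ⁿ is conjugate in G to an element of M. -/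
theorem result {G : Type*} [Group G] [Finite G] (hev : Even (Nat.card G))
    (hG : ∀ H : Subgroup G, H.index ≠ 2) (S : Sylow 2 G) (M : Subgroup G) (hMS : M ≤ (S : Subgroup G)) (hM : M.relIndex (S : Subgroup G) = 2)
    (n : ℕ) (hn : 1 ≤ n) (hord : ∀ y ∈ (S : Subgroup G), y ∉ M → 2 ^ (n - 1) < orderOf y)
    (x : G) (hx : x ∈ (S : Subgroup G)) (hxn : orderOf x = 2 ^ n) :
    ∃ g : G, g * x * g⁻¹ ∈ M := by
  classical
  by_contra hcon
  push Not at hcon
  have : Fact (Nat.Prime 2) := ⟨Nat.prime_two⟩
  set ϕ : ↥(S : Subgroup G) →* ℤˣ := signHom (S : Subgroup G) M hM with hϕ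
  have : Fintype (Quotient (MulAction.orbitRel (Subgroup.zpowers x) (G ⧸ (S : Subgroup G)))) :=
    Fintype.ofFinite _
  have hxpow : x ^ (2 ^ n) = 1 := by rw [← hxn]; exact pow_orderOf_eq_one x
  have key : MonoidHom.transfer ϕ x = -1 := by
    rw [MonoidHom.transfer_eq_prod_quotient_orbitRel_zpowers_quot]
    have hterm : ∀ q : Quotient (MulAction.orbitRel (Subgroup.zpowers x) (G ⧸ (S : Subgroup G))),
        ϕ ⟨q.out.out⁻¹ * x ^ Function.minimalPeriod (x • ·) q.out * q.out.out,
            QuotientGroup.out_conj_pow_minimalPeriod_mem (S : Subgroup G) x q.out⟩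
          = (-1) ^ Function.minimalPeriod (x • ·) q.out := by
      intro q
      set k := Function.minimalPeriod (x • ·) q.out with hk
      set g := q.out.out with hg
      have hkdvd : k ∣ 2 ^ n := by
        rw [hk, ← MulAction.pow_smul_eq_iff_minimalPeriod_dvd, hxpow, one_smul]
      obtain ⟨i, hi, hki⟩ := (Nat.dvd_prime_pow Nat.prime_two).1 hkdvd
      have hmemS : g⁻¹ * x ^ k * g ∈ (S : Subgroup G) :=
        QuotientGroup.out_conj_pow_minimalPeriod_mem (S : Subgroup G) x q.out
      change ϕ ⟨g⁻¹ * x ^ k * g, hmemS⟩ = (-1) ^ k
      rcases Nat.eq_zero_or_pos i with h0 | hpos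
      · -- fixed point: the conjugate is not in M
        have hk1 : k = 1 := by rw [hki, h0, pow_zero]
        have hnot : g⁻¹ * x ^ k * g ∉ M := by
          have := hcon g⁻¹
          rw [hk1, pow_one]
          simpa using this
        rw [signHom_apply_of_not_mem _ _ _ _ hnot, hk1, pow_one]
      · -- longer orbit: the element has small order hence lies in M
        have hkeven : Even k := by
          rw [hki]
          exact (Nat.even_pow' (Nat.pos_iff_ne_zero.mp hpos)).2 even_two
        have hmem : g⁻¹ * x ^ k * g ∈ M := by
          by_contra hnot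
          have hlt := hord _ hmemS hnot
          have hpow : (g⁻¹ * x ^ k * g) ^ (2 ^ (n - 1)) = 1 := by
            have hconj : ∀ m : ℕ, (g⁻¹ * x ^ k * g) ^ m = g⁻¹ * (x ^ k) ^ m * g := by
              intro m
              induction m with
              | zero => simp
              | succ m ih => rw [pow_succ, ih, pow_succ]; group
            rw [hconj, ← pow_mul]
            have : k * 2 ^ (n - 1) = 2 ^ n * 2 ^ (i - 1) := by
              rw [hki]
              have h1 : i = (i - 1) + 1 := by omega
              have h2 : n = (n - 1) + 1 := by omega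
              conv_lhs => rw [h1]
              conv_rhs => rw [h2]
              ring
            rw [this, pow_mul, hxpow, one_pow]
            group
          have hle : orderOf (g⁻¹ * x ^ k * g) ≤ 2 ^ (n - 1) :=
            Nat.le_of_dvd (by positivity) (orderOf_dvd_of_pow_eq_one hpow)
          omega
        rw [signHom_apply_of_mem _ _ _ _ hmem, hkeven.neg_one_pow]
    rw [Finset.prod_congr rfl (fun q _ => hterm q), Finset.prod_pow_eq_pow_sum,
      ← Subgroup.index_eq_sum_minimalPeriod]
    have hodd : Odd (S : Subgroup G).index := by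
      rw [← Nat.not_even_iff_odd, even_iff_two_dvd]
      exact S.not_dvd_index
    exact hodd.neg_one_pow
  -- the kernel of the transfer has index 2
  apply hG (MonoidHom.transfer ϕ).ker
  rw [Subgroup.index_ker]
  have hsurj : Function.Surjective (MonoidHom.transfer ϕ) := by
    intro u
    rcases Int.units_eq_one_or u with h | h
    · exact ⟨1, by rw [map_one, h]⟩
    · exact ⟨x, by rw [key, h]⟩
  rw [MonoidHom.range_eq_top.mpr hsurj]
  simp

end Cfsg.Agent.S3225
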