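import Cfsg.Statements.S3246
import Mathlib
import Cfsg.Agent.Lib.Helper54.CharTwo
import Cfsg.Agent.Lib.Helper54.Transitivity
import Cfsg.Agent.Lib.Helper52.Hyperplane

set_option autoImplicit false
open Cfsg

namespace Cfsg.Agent.S3246

open Subgroup

section aux

variable {G : Type*} [Group G]

theorem centralizer_singleton_le_normalizer_zpowers (t : G) :
    centralizer ({t} : Set G) ≤ normalizer ((zpowers t : Subgroup G) : Set G) := by
  have hpow : ∀ x ∈ centralizer ({t} : Set G), ∀ y ∈ zpowers t, x * y = y * x := by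
    intro x hx y hy
    obtain ⟨k, rfl⟩ := mem_zpowers_iff.mp hy
    have h1 : Commute t x := by
      have := mem_centralizer_singleton_iff.mp hx
      exact this.symm
    exact ((h1.zpow_left k).eq).symm
  apply Cfsg.Agent.Helper54.le_normalizer_of_forall_conj_mem
  intro x hx y hy
  have : x * y * x⁻¹ = y := by rw [hpow x hx y hy]; group
  rwa [this]

theorem mem_zpowers_of_sq_eq_one {z y : G} (hz : z ^ 2 = 1) (hy : y ∈ zpowers z) : y = 1 ∨ y = z := by
  obtain ⟨k, rfl⟩ := mem_zpowers_iff.mp hy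
  have hz' : z ^ (2 : ℤ) = 1 := by exact_mod_cast hz
  have h1 : z ^ k = z ^ (k % 2) := by
    conv_lhs => rw [← Int.emod_add_mul_ediv k 2, zpow_add, zpow_mul, hz', one_zpow, mul_one]
  rcases Int.emod_two_eq_zero_or_one k with h | h
  · left; rw [h1, h, zpow_zero]
  · right; rw [h1, h, zpow_one]

/-- every involution centralizer has characteristic 2 -/
theorem isCharP_centralizer_of_hyp [Finite G]
    (h : (∀ M : Subgroup G, Cfsg.IsMaximalTwoLocal M → Cfsg.IsPConstrained 2 ↥M ∧ Cfsg.oddCore ↥M = ⊥) ∨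
      (∀ t : G, orderOf t = 2 → Cfsg.IsPConstrained 2 ↥(Subgroup.centralizer ({t} : Set G)) ∧
        Cfsg.oddCore ↥(Subgroup.centralizer ({t} : Set G)) = ⊥))
    (t : G) (ht : orderOf t = 2) : Cfsg.Agent.Helper54.IsCharP 2 ↥(centralizer ({t} : Set G)) := by
  classical
  have : Fact (Nat.Prime 2) := ⟨Nat.prime_two⟩
  rcases h with ha | hb
  · have hTp : IsPGroup 2 (zpowers t) := by
      apply IsPGroup.of_card (n := 1)
      rw [Nat.card_zpowers, ht, pow_one]
    have hT1 : zpowers t ≠ ⊥ := by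
      rw [Ne, zpowers_eq_bot]
      rintro rfl
      rw [orderOf_one] at ht
      omega
    set N := normalizer ((zpowers t : Subgroup G) : Set G) with hN
    let L : Set (Subgroup G) := {M | Cfsg.IsTwoLocal M}
    have hNL : N ∈ L := ⟨zpowers t, hTp, hT1, rfl⟩
    obtain ⟨M, hNM, hMmax⟩ := (Set.toFinite L).exists_le_maximal hNL
    have hMm : Cfsg.IsMaximalTwoLocal M :=
      ⟨hMmax.1, fun N' hN' hle => le_antisymm (hMmax.2 hN' hle) hle⟩
    obtain ⟨hMc, hMo⟩ := ha M hMm
    have hMchar : Cfsg.Agent.Helper54.IsCharP 2 ↥M :=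
      Cfsg.Agent.Helper54.isCharP_of_isPConstrained_of_core hMc hMo
    exact Cfsg.Agent.Helper54.isCharP_centralizer_singleton_of_le M hMchar t hTp
      ((centralizer_singleton_le_normalizer_zpowers t).trans hNM)
  · obtain ⟨h1, h2⟩ := hb t ht
    exact Cfsg.Agent.Helper54.isCharP_of_isPConstrained_of_core h1 h2

/-- a central involution `z` and an "almost central" involution `b` in a normal subgroup of exponent 2 -/
theorem exists_central_and_almost_central [Finite G] (S : Sylow 2 G) (Ω : Subgroup G)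
    (hΩS : Ω ≤ (S : Subgroup G)) (hSΩ : (S : Subgroup G) ≤ normalizer (Ω : Set G))
    (hΩ2 : ∀ x ∈ Ω, x ^ 2 = 1) (hΩ8 : 2 < Nat.card Ω) :
    ∃ z ∈ Ω, z ≠ 1 ∧ (∀ s ∈ (S : Subgroup G), s * z = z * s) ∧ ∃ b ∈ Ω, b ≠ 1 ∧ b ≠ z ∧
      ∀ s ∈ (S : Subgroup G), s * b * s⁻¹ * b⁻¹ = 1 ∨ s * b * s⁻¹ * b⁻¹ = z := by
  classical
  have : Fact (Nat.Prime 2) := ⟨Nat.prime_two⟩
  have hnil : Group.IsNilpotent ↥(S : Subgroup G) := S.2.isNilpotent
  set Ω' : Subgroup ↥(S : Subgroup G) := Ω.subgroupOf S with hΩ'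
  have hΩ'n : Ω'.Normal := Subgroup.normal_subgroupOf_of_le_normalizer hSΩ
  have hΩ'card : Nat.card Ω' = Nat.card Ω := Nat.card_congr (subgroupOfEquivOfLe hΩS).toEquiv
  have hΩ'ne : Ω' ≠ ⊥ := by
    intro h
    rw [h, Subgroup.card_bot] at hΩ'card
    omega
  have h1 := Cfsg.Agent.Helper54.normal_inf_center_ne_bot Ω' hΩ'ne
  obtain ⟨zz, hzz⟩ := (Subgroup.ne_bot_iff_exists_ne_one).mp h1
  set z' : ↥(S : Subgroup G) := (zz : ↥(S : Subgroup G)) with hz'def
  have hz'mem : z' ∈ Ω' ⊓ center ↥(S : Subgroup G) := zz.2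
  have hz'1 : z' ≠ 1 := fun h => hzz (Subtype.ext h)
  have hz'Ω : (z' : G) ∈ Ω := mem_subgroupOf.mp hz'mem.1
  have hz'c := mem_center_iff.mp hz'mem.2
  have hz'2 : z' ^ 2 = 1 := by
    apply Subtype.ext
    have := hΩ2 _ hz'Ω
    simpa using this
  set Z' : Subgroup ↥(S : Subgroup G) := zpowers z' with hZ'
  have hZ'n : Z'.Normal := by
    refine ⟨fun n hn g => ?_⟩
    rcases mem_zpowers_of_sq_eq_one hz'2 hn with rfl | rfl
    · simp
    · have : g * z' * g⁻¹ = z' := by rw [hz'c g]; group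
      rw [this]; exact mem_zpowers z'
  have hZ'card : Nat.card Z' ≤ 2 := by
    rw [hZ', Nat.card_zpowers]
    exact orderOf_le_of_pow_eq_one (by norm_num) hz'2
  -- an element of `Ω'` outside `Z'`
  obtain ⟨x, hxΩ, hxZ⟩ : ∃ x ∈ Ω', x ∉ Z' := by
    by_contra hcon
    push Not at hcon
    have hle : Ω' ≤ Z' := hcon
    have := Subgroup.card_le_of_le hle
    omega
  set π := QuotientGroup.mk' Z' with hπ
  have hπs : Function.Surjective π := QuotientGroup.mk'_surjective _
  set Ωb : Subgroup (↥(S : Subgroup G) ⧸ Z') := Ω'.map π with hΩb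
  have hΩbn : Ωb.Normal := hΩ'n.map π hπs
  have hΩbne : Ωb ≠ ⊥ := by
    intro h
    have h2 : π x ∈ Ωb := mem_map_of_mem _ hxΩ
    rw [h, mem_bot] at h2
    exact hxZ ((QuotientGroup.eq_one_iff x).mp h2)
  have h3 := Cfsg.Agent.Helper54.normal_inf_center_ne_bot Ωb hΩbne
  obtain ⟨bb, hbb⟩ := (Subgroup.ne_bot_iff_exists_ne_one).mp h3
  have hbbmem : (bb : ↥(S : Subgroup G) ⧸ Z') ∈ Ωb ⊓ center (↥(S : Subgroup G) ⧸ Z') := bb.2
  have hbb1 : (bb : ↥(S : Subgroup G) ⧸ Z') ≠ 1 := fun h => hbb (Subtype.ext h)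
  obtain ⟨b', hb'Ω, hb'π⟩ := mem_map.mp hbbmem.1
  have hbbc := mem_center_iff.mp hbbmem.2
  have hb'Z : b' ∉ Z' := by
    intro h
    apply hbb1
    rw [← hb'π]
    exact (QuotientGroup.eq_one_iff b').mpr h
  refine ⟨(z' : G), hz'Ω, fun h => hz'1 (Subtype.ext h), ?_, (b' : G), mem_subgroupOf.mp hb'Ω, ?_, ?_, ?_⟩
  · intro s hs
    have := hz'c ⟨s, hs⟩
    exact congrArg Subtype.val this
  · intro h
    exact hb'Z (by rw [show b' = 1 from Subtype.ext h]; exact one_mem _)
  · intro h
    exact hb'Z (by rw [show b' = z' from Subtype.ext h]; exact mem_zpowers z')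
  · intro s hs
    have h4 : (⟨s, hs⟩ : ↥(S : Subgroup G)) * b' * (⟨s, hs⟩ : ↥(S : Subgroup G))⁻¹ * b'⁻¹ ∈ Z' := by
      rw [← QuotientGroup.eq_one_iff]
      have h5 : ((((⟨s, hs⟩ : ↥(S : Subgroup G)) * b' * (⟨s, hs⟩ : ↥(S : Subgroup G))⁻¹ * b'⁻¹ :
          ↥(S : Subgroup G)) : ↥(S : Subgroup G) ⧸ Z'))
          = π ⟨s, hs⟩ * π b' * (π ⟨s, hs⟩)⁻¹ * (π b')⁻¹ := by
        simp [hπ]
      rw [h5, hb'π, hbbc (π ⟨s, hs⟩)]
      group
    rcases mem_zpowers_of_sq_eq_one hz'2 h4 with h6 | h6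
    · left
      have := congrArg Subtype.val h6
      simpa using this
    · right
      have := congrArg Subtype.val h6
      simpa using this

end aux

/-- Let G be a finite group whose Sylow 2-subgroup S has a self-centralizing normal subgroup of rank at least 3. Suppose that either every maximal 2-local subgroup of G is 2-constrained with no nontrivial normal subgroup of odd order, or the centralizer of every involution of G is 2-constrained with no nontrivial normal subgroup of odd order. Then S normalizes no nontrivial subgroup of G of odd order and every 2-local subgroup of G is 2-constrained. -/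
theorem result {G : Type*} [Group G] [Finite G]
    (S : Sylow 2 G) (A : Subgroup G) (hA : Cfsg.IsSCN (S : Subgroup G) A) (hA3 : ¬ Cfsg.PRankLE 2 2 ↥A)
    (h : (∀ M : Subgroup G, Cfsg.IsMaximalTwoLocal M → Cfsg.IsPConstrained 2 ↥M ∧ Cfsg.oddCore ↥M = ⊥) ∨
      (∀ t : G, orderOf t = 2 → Cfsg.IsPConstrained 2 ↥(Subgroup.centralizer ({t} : Set G)) ∧
        Cfsg.oddCore ↥(Subgroup.centralizer ({t} : Set G)) = ⊥)) :
    (∀ X : Subgroup G, Odd (Nat.card ↥X) → (S : Subgroup G) ≤ Subgroup.normalizer (X : Set G) → X = ⊥) ∧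
      (∀ T : Subgroup G, IsPGroup 2 ↥T → T ≠ ⊥ → Cfsg.IsPConstrained 2 ↥(Subgroup.normalizer (T : Set G))) := by
  classical
  have : Fact (Nat.Prime 2) := ⟨Nat.prime_two⟩
  obtain ⟨hAS, hSA, hCA⟩ := hA
  have hAc : A ≤ centralizer (A : Set G) := by
    intro x hx
    have : x ∈ (S : Subgroup G) ⊓ centralizer (A : Set G) := by rw [hCA]; exact hx
    exact this.2
  constructor
  · intro X hXodd hSX
    by_contra hXne
    -- the subgroup `Ω₁(A)`
    let Ω : Subgroup G :=
      { carrier := {x | x ∈ A ∧ x ^ 2 = 1}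
        one_mem' := ⟨one_mem _, one_pow 2⟩
        mul_mem' := by
          rintro x y ⟨hx, hx2⟩ ⟨hy, hy2⟩
          refine ⟨mul_mem hx hy, ?_⟩
          have hc : Commute x y := (mem_centralizer_iff.mp (hAc hy) x hx)
          rw [hc.mul_pow, hx2, hy2, one_mul]
        inv_mem' := by
          rintro x ⟨hx, hx2⟩
          exact ⟨inv_mem hx, by rw [inv_pow, hx2, inv_one]⟩ }
    have hΩA : Ω ≤ A := fun x hx => hx.1
    have hΩ2 : ∀ x ∈ Ω, x ^ 2 = 1 := fun x hx => hx.2
    have hSΩ : (S : Subgroup G) ≤ normalizer (Ω : Set G) := by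
      apply Cfsg.Agent.Helper54.le_normalizer_of_forall_conj_mem
      intro s hs x hx
      refine ⟨(mem_normalizer_iff.mp (hSA hs) x).mp hx.1, ?_⟩
      have : (s * x * s⁻¹) ^ 2 = s * x ^ 2 * s⁻¹ := by rw [conj_pow]
      rw [this, hx.2]; group
    have hΩ8 : 2 < Nat.card Ω := by
      unfold Cfsg.PRankLE at hA3
      push Not at hA3
      obtain ⟨B₀, _, hB₀e, hB₀card⟩ := hA3
      have hle : B₀.map A.subtype ≤ Ω := by
        intro x hx
        obtain ⟨y, hy, rfl⟩ := mem_map.mp hx
        refine ⟨y.2, ?_⟩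
        have := hB₀e y hy
        have h2 := congrArg Subtype.val this
        simpa using h2
      have h1 := Subgroup.card_le_of_le hle
      rw [card_map_of_injective (subtype_injective _)] at h1
      have : (2 : ℕ) ^ 2 = 4 := by norm_num
      omega
    obtain ⟨z, hzΩ, hz1, hzc, b, hbΩ, hb1, hbz, hbs⟩ :=
      exists_central_and_almost_central S Ω (hΩA.trans hAS) hSΩ hΩ2 hΩ8
    set V := zpowers z ⊔ zpowers b with hV
    have hVΩ : V ≤ Ω := sup_le (zpowers_le.mpr hzΩ) (zpowers_le.mpr hbΩ)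
    have hVS : V ≤ (S : Subgroup G) := hVΩ.trans (hΩA.trans hAS)
    have hXc : (Nat.card X).Coprime 2 := by
      rw [Nat.coprime_comm, Nat.Prime.coprime_iff_not_dvd Nat.prime_two]
      intro h2
      exact (Nat.not_even_iff_odd.mpr hXodd) (even_iff_two_dvd.mpr h2)
    obtain ⟨B', hB'V, hB'idx, hB'X⟩ := Cfsg.Agent.Helper52.exists_hyperplane_centralizer_not_le
      (p := 2) V X ⊥
      (fun x hx y hy => mem_centralizer_iff.mp (hAc (hΩA (hVΩ hx))) y (hΩA (hVΩ hy)) |>.symm)
      (fun x hx => hΩ2 x (hVΩ hx)) (hVS.trans hSX) hXc (fun hle => hXne (le_bot_iff.mp hle))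
    have hz2 : z ^ 2 = 1 := hΩ2 z hzΩ
    have hB'ne : B' ≠ ⊥ := by
      rintro rfl
      rw [relIndex_bot_left] at hB'idx
      have hzV : zpowers z ≤ V := le_sup_left
      have hcz : Nat.card (zpowers z) = 2 := by
        rw [Nat.card_zpowers]
        exact orderOf_eq_prime hz2 hz1
      have heq : zpowers z = V := eq_of_le_of_card_ge hzV (by omega)
      have hbV : b ∈ V := (le_sup_right : zpowers b ≤ V) (mem_zpowers b)
      rw [← heq] at hbV
      rcases mem_zpowers_of_sq_eq_one hz2 hbV with h | h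
      · exact hb1 h
      · exact hbz h
    obtain ⟨v', hv'⟩ := (Subgroup.ne_bot_iff_exists_ne_one).mp hB'ne
    set v : G := (v' : G) with hv
    have hv1 : v ≠ 1 := fun h => hv' (Subtype.ext h)
    have hvB' : v ∈ B' := v'.2
    have hvV : v ∈ V := hB'V hvB'
    have hv2 : orderOf v = 2 := orderOf_eq_prime (hΩ2 v (hVΩ hvV)) hv1
    have hchar := isCharP_centralizer_of_hyp h v hv2
    -- the centralizer of `b` in `S` lies in the centralizer of `v`
    have hbv : ∀ s ∈ (S : Subgroup G), s * b = b * s → s * v = v * s := by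
      intro s hs hsb
      have h1 : V ≤ centralizer ({s} : Set G) := by
        apply sup_le
        · rw [zpowers_le, mem_centralizer_singleton_iff]
          exact (hzc s hs).symm
        · rw [zpowers_le, mem_centralizer_singleton_iff]
          exact hsb.symm
      have := mem_centralizer_singleton_iff.mp (h1 hvV)
      exact this.symm
    have hidx : ((S : Subgroup G) ⊓ centralizer ({v} : Set G)).relIndex (S : Subgroup G) ≤ 2 := by
      apply Cfsg.Agent.Helper54.relIndex_le_two_of_forall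
      intro s₁ hs₁ s₂ hs₂ hn₁ hn₂
      have hnb : ∀ s ∈ (S : Subgroup G), s ∉ (S : Subgroup G) ⊓ centralizer ({v} : Set G) →
          s * b * s⁻¹ * b⁻¹ = z := by
        intro s hs hn
        rcases hbs s hs with h1 | h1
        · exfalso
          apply hn
          refine mem_inf.mpr ⟨hs, ?_⟩
          rw [mem_centralizer_singleton_iff]
          apply hbv s hs
          calc s * b = (s * b * s⁻¹ * b⁻¹) * (b * s) := by group
            _ = b * s := by rw [h1, one_mul]
        · exact h1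
      have e₁ := hnb s₁ hs₁ hn₁
      have e₂ := hnb s₂ hs₂ hn₂
      refine mem_inf.mpr ⟨mul_mem (inv_mem hs₁) hs₂, ?_⟩
      rw [mem_centralizer_singleton_iff]
      apply hbv _ (mul_mem (inv_mem hs₁) hs₂)
      -- `s₂ b s₂⁻¹ = z b = s₁ b s₁⁻¹`
      have h3 : s₂ * b * s₂⁻¹ = s₁ * b * s₁⁻¹ := by
        have a1 : s₂ * b * s₂⁻¹ = (s₂ * b * s₂⁻¹ * b⁻¹) * b := by group
        have a2 : s₁ * b * s₁⁻¹ = (s₁ * b * s₁⁻¹ * b⁻¹) * b := by group
        rw [a1, a2, e₁, e₂]
      calc s₁⁻¹ * s₂ * b = s₁⁻¹ * (s₂ * b * s₂⁻¹) * s₂ := by group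
        _ = s₁⁻¹ * (s₁ * b * s₁⁻¹) * s₂ := by rw [h3]
        _ = b * (s₁⁻¹ * s₂) := by group
    have hbot := Cfsg.Agent.Helper54.inf_centralizer_eq_bot_of_relIndex_le_two S X hXc hSX v hchar hidx
    apply hB'X
    rw [← hbot]
    exact le_inf inf_le_left
      (inf_le_right.trans (centralizer_le (Set.singleton_subset_iff.mpr hvB')))
  · intro T hT hT1
    set N := Subgroup.normalizer (T : Set G) with hN
    have hTN : T ≤ N := Subgroup.le_normalizer
    rcases h with ha | hb
    · let L : Set (Subgroup G) := {M | Cfsg.IsTwoLocal M}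
      have hNL : N ∈ L := ⟨T, hT, hT1, rfl⟩
      obtain ⟨M, hNM, hMmax⟩ := (Set.toFinite L).exists_le_maximal hNL
      have hMm : Cfsg.IsMaximalTwoLocal M :=
        ⟨hMmax.1, fun N' hN' hle => le_antisymm (hMmax.2 hN' hle) hle⟩
      have hMc : Cfsg.IsPConstrained 2 ↥M := (ha M hMm).1
      have hTM : T ≤ M := hTN.trans hNM
      have h1 : Cfsg.IsPConstrained 2 ↥(Subgroup.normalizer ((T.subgroupOf M : Subgroup ↥M) : Set ↥M)) :=
        Cfsg.Agent.Helper54.IsPConstrained.normalizer hMc (T.subgroupOf M) hT.comap_subtype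
      have e1 : ↥(Subgroup.normalizer ((T.subgroupOf M : Subgroup ↥M) : Set ↥M)) ≃* ↥(N.subgroupOf M) :=
        MulEquiv.subgroupCongr (Subgroup.subgroupOf_normalizer_eq hTM).symm
      have e2 : ↥(N.subgroupOf M) ≃* ↥N := Subgroup.subgroupOfEquivOfLe hNM
      exact Cfsg.Agent.Helper54.IsPConstrained.of_mulEquiv e2
        (Cfsg.Agent.Helper54.IsPConstrained.of_mulEquiv e1 h1)
    · have hTnN : (T.subgroupOf N).Normal := Subgroup.normal_in_normalizer
      apply Cfsg.Agent.Helper54.isPConstrained_of_centralizers (T.subgroupOf N) hT.comap_subtype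
      · intro hbot
        apply hT1
        rw [eq_bot_iff]
        intro t ht
        have h1 : (⟨t, hTN ht⟩ : N) ∈ T.subgroupOf N := Subgroup.mem_subgroupOf.mpr ht
        rw [hbot, Subgroup.mem_bot] at h1
        exact congrArg Subtype.val h1
      · intro x' hx'T hx'o hx'c
        have hxo : orderOf (x' : G) = 2 := by rw [Subgroup.orderOf_coe]; exact hx'o
        have hΓ := (hb (x' : G) hxo).1
        set Γ := Subgroup.centralizer ({(x' : G)} : Set G) with hΓdef
        have hTΓ : T ≤ Γ := by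
          intro t ht
          rw [hΓdef, Subgroup.mem_centralizer_iff]
          intro s hs
          rw [Set.mem_singleton_iff] at hs
          subst hs
          have h2 := hx'c ⟨t, hTN ht⟩ (Subgroup.mem_subgroupOf.mpr ht)
          exact (congrArg Subtype.val h2).symm
        have h1 : Cfsg.IsPConstrained 2 ↥(Subgroup.normalizer ((T.subgroupOf Γ : Subgroup ↥Γ) : Set ↥Γ)) :=
          Cfsg.Agent.Helper54.IsPConstrained.normalizer hΓ (T.subgroupOf Γ) hT.comap_subtype
        have e1 : ↥(Subgroup.normalizer ((T.subgroupOf Γ : Subgroup ↥Γ) : Set ↥Γ)) ≃* ↥(N.subgroupOf Γ) :=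
          MulEquiv.subgroupCongr (Subgroup.subgroupOf_normalizer_eq hTΓ).symm
        have e2 : ↥(N.subgroupOf Γ) ≃* ↥(Γ.subgroupOf N) := Cfsg.Agent.Helper54.subgroupOfSwap N Γ
        have h3 : Γ.subgroupOf N = Subgroup.centralizer ({x'} : Set ↥N) := by
          ext y
          rw [Subgroup.mem_subgroupOf, hΓdef, Subgroup.mem_centralizer_iff, Subgroup.mem_centralizer_iff]
          constructor
          · intro h s hs
            rw [Set.mem_singleton_iff] at hs
            subst hs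
            exact Subtype.ext (h _ rfl)
          · intro h s hs
            rw [Set.mem_singleton_iff] at hs
            subst hs
            exact congrArg Subtype.val (h x' rfl)
        have e3 : ↥(Γ.subgroupOf N) ≃* ↥(Subgroup.centralizer ({x'} : Set ↥N)) := MulEquiv.subgroupCongr h3
        exact Cfsg.Agent.Helper54.IsPConstrained.of_mulEquiv e3
          (Cfsg.Agent.Helper54.IsPConstrained.of_mulEquiv e2
            (Cfsg.Agent.Helper54.IsPConstrained.of_mulEquiv e1 h1))

end Cfsg.Agent.S3246
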