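import Cfsg.Statements.S3247
import Mathlib
import Cfsg.Agent.Lib.Helper54.PConstrainedLocal
-- import your own Cfsg.Agent.* helpers here

set_option autoImplicit false
open Cfsg

namespace Cfsg.Agent.S3247

/-- Let G be a finite group and p a prime; here a p-local subgroup means the normalizer of a nontrivial p-subgroup, other than G itself. If every p-local subgroup of G that is maximal among p-local subgroups is p-constrained, or if the centralizer of every element of order p of G is p-constrained, then every p-local subgroup of G is p-constrained. -/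
theorem result {G : Type*} [Group G] [Finite G] (p : ℕ) [hp : Fact p.Prime]
    (h : (∀ M : Subgroup G, (∃ T : Subgroup G, IsPGroup p ↥T ∧ T ≠ ⊥ ∧ M = Subgroup.normalizer (T : Set G)) → M ≠ ⊤ →
        (∀ M' : Subgroup G, (∃ T' : Subgroup G, IsPGroup p ↥T' ∧ T' ≠ ⊥ ∧ M' = Subgroup.normalizer (T' : Set G)) → M' ≠ ⊤ → M ≤ M' → M = M') →
        Cfsg.IsPConstrained p ↥M) ∨
      (∀ x : G, orderOf x = p → Cfsg.IsPConstrained p ↥(Subgroup.centralizer ({x} : Set G))))
    (T : Subgroup G) (hT : IsPGroup p ↥T) (hT1 : T ≠ ⊥) (hTG : Subgroup.normalizer (T : Set G) ≠ ⊤) :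
    Cfsg.IsPConstrained p ↥(Subgroup.normalizer (T : Set G)) := by
  classical
  set N := Subgroup.normalizer (T : Set G) with hN
  have hTN : T ≤ N := Subgroup.le_normalizer
  rcases h with ha | hb
  · let L : Set (Subgroup G) := {M | (∃ T' : Subgroup G, IsPGroup p ↥T' ∧ T' ≠ ⊥ ∧
      M = Subgroup.normalizer (T' : Set G)) ∧ M ≠ ⊤}
    have hNL : N ∈ L := ⟨⟨T, hT, hT1, rfl⟩, hTG⟩
    obtain ⟨M, hNM, hMmax⟩ := (Set.toFinite L).exists_le_maximal hNL
    have hML : M ∈ L := hMmax.1
    have hMc : Cfsg.IsPConstrained p ↥M :=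
      ha M hML.1 hML.2 (fun M' h1 h2 hle => le_antisymm hle (hMmax.2 ⟨h1, h2⟩ hle))
    have hTM : T ≤ M := hTN.trans hNM
    have h1 : Cfsg.IsPConstrained p ↥(Subgroup.normalizer ((T.subgroupOf M : Subgroup ↥M) : Set ↥M)) :=
      Cfsg.Agent.Helper54.IsPConstrained.normalizer hMc (T.subgroupOf M) hT.comap_subtype
    have e1 : ↥(Subgroup.normalizer ((T.subgroupOf M : Subgroup ↥M) : Set ↥M)) ≃* ↥(N.subgroupOf M) :=
      MulEquiv.subgroupCongr (Subgroup.subgroupOf_normalizer_eq hTM).symm
    have e2 : ↥(N.subgroupOf M) ≃* ↥N := Subgroup.subgroupOfEquivOfLe hNM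
    exact Cfsg.Agent.Helper54.IsPConstrained.of_mulEquiv e2
      (Cfsg.Agent.Helper54.IsPConstrained.of_mulEquiv e1 h1)
  · have hTnN : (T.subgroupOf N).Normal := Subgroup.normal_in_normalizer
    apply Cfsg.Agent.Helper54.isPConstrained_of_centralizers (T.subgroupOf N) hT.comap_subtype
    · intro hbot
      apply hT1
      rw [eq_bot_iff]
      intro t ht
      have h1 : (⟨t, hTN ht⟩ : N) ∈ T.subgroupOf N := Subgroup.mem_subgroupOf.mpr ht
      rw [hbot, Subgroup.mem_bot] at h1
      exact congrArg Subtype.val h1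
    · intro x' hx'T hx'o hx'c
      have hxo : orderOf (x' : G) = p := by rw [Subgroup.orderOf_coe]; exact hx'o
      have hΓ := hb (x' : G) hxo
      set Γ := Subgroup.centralizer ({(x' : G)} : Set G) with hΓdef
      have hTΓ : T ≤ Γ := by
        intro t ht
        rw [hΓdef, Subgroup.mem_centralizer_iff]
        intro s hs
        rw [Set.mem_singleton_iff] at hs
        subst hs
        have h2 := hx'c ⟨t, hTN ht⟩ (Subgroup.mem_subgroupOf.mpr ht)
        exact (congrArg Subtype.val h2).symm
      have h1 : Cfsg.IsPConstrained p ↥(Subgroup.normalizer ((T.subgroupOf Γ : Subgroup ↥Γ) : Set ↥Γ)) :=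
        Cfsg.Agent.Helper54.IsPConstrained.normalizer hΓ (T.subgroupOf Γ) hT.comap_subtype
      have e1 : ↥(Subgroup.normalizer ((T.subgroupOf Γ : Subgroup ↥Γ) : Set ↥Γ)) ≃* ↥(N.subgroupOf Γ) :=
        MulEquiv.subgroupCongr (Subgroup.subgroupOf_normalizer_eq hTΓ).symm
      have e2 : ↥(N.subgroupOf Γ) ≃* ↥(Γ.subgroupOf N) := Cfsg.Agent.Helper54.subgroupOfSwap N Γ
      have h3 : Γ.subgroupOf N = Subgroup.centralizer ({x'} : Set ↥N) := by
        ext y
        rw [Subgroup.mem_subgroupOf, hΓdef, Subgroup.mem_centralizer_iff, Subgroup.mem_centralizer_iff]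
        constructor
        · intro h s hs
          rw [Set.mem_singleton_iff] at hs
          subst hs
          exact Subtype.ext (h _ rfl)
        · intro h s hs
          rw [Set.mem_singleton_iff] at hs
          subst hs
          exact congrArg Subtype.val (h x' rfl)
      have e3 : ↥(Γ.subgroupOf N) ≃* ↥(Subgroup.centralizer ({x'} : Set ↥N)) := MulEquiv.subgroupCongr h3
      exact Cfsg.Agent.Helper54.IsPConstrained.of_mulEquiv e3
        (Cfsg.Agent.Helper54.IsPConstrained.of_mulEquiv e2
          (Cfsg.Agent.Helper54.IsPConstrained.of_mulEquiv e1 h1))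

end Cfsg.Agent.S3247
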