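import Cfsg.Statements.S3265
import Mathlib
import Cfsg.Agent.Lib.Helper71.InvGraph4

set_option autoImplicit false
open Cfsg

namespace Cfsg.Agent.S3265

open Equiv Equiv.Perm Cfsg.Agent.Helper71.InvGraph

/-- The cycle type of an involution is determined by the size of its support. -/
theorem inv_cycleType {n : ℕ} (σ : Perm (Fin n)) (h : σ * σ = 1) :
    σ.cycleType = Multiset.replicate (σ.support.card / 2) 2 := by
  have h2 : ∀ k ∈ σ.cycleType, k = 2 := by
    intro k hk
    have h3 : k ∣ 2 := (dvd_of_mem_cycleType hk).trans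
      (orderOf_dvd_of_pow_eq_one (by rw [pow_two, h]))
    have h4 := two_le_of_mem_cycleType hk
    have := Nat.le_of_dvd (by norm_num) h3
    omega
  have h5 := Multiset.eq_replicate_card.mpr h2
  have h6 : σ.support.card = Multiset.card σ.cycleType * 2 := by
    rw [← sum_cycleType]
    conv_lhs => rw [h5]
    rw [Multiset.sum_replicate, smul_eq_mul]
  rw [h6, Nat.mul_div_cancel _ (by norm_num)]
  exact h5

theorem isConj_of_inv {n : ℕ} {x z : Perm (Fin n)} (hx : x * x = 1) (hz : z * z = 1)
    (hc : z.support.card = x.support.card) : IsConj x z := by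
  rw [isConj_iff_cycleType_eq, inv_cycleType x hx, inv_cycleType z hz, hc]

theorem sq_of_isConj {n : ℕ} {t x : Perm (Fin n)} (ht : orderOf t = 2) (h : IsConj t x) :
    x * x = 1 := by
  obtain ⟨g, hg⟩ := isConj_iff.mp h
  have ht2 : t * t = 1 := by rw [← pow_two, ← ht, pow_orderOf_eq_one]
  rw [← hg]
  calc g * t * g⁻¹ * (g * t * g⁻¹) = g * (t * t) * g⁻¹ := by group
    _ = 1 := by rw [ht2]; group

theorem card_support_of_isConj {n : ℕ} {t x : Perm (Fin n)} (h : IsConj t x) :
    x.support.card = t.support.card := by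
  obtain ⟨g, hg⟩ := isConj_iff.mp h
  rw [← hg, card_support_conj]

/-- A conjugate `s` of `t` with `t * s` a product of two disjoint transpositions. -/
theorem exists_far {n : ℕ} (hn : 5 ≤ n) (t : Perm (Fin n)) (ht : orderOf t = 2) :
    ∃ s : Perm (Fin n), IsConj t s ∧ orderOf (t * s) = 2 := by
  have ht2 : t * t = 1 := by rw [← pow_two, ← ht, pow_orderOf_eq_one]
  have ht1 : t ≠ 1 := by
    intro h
    rw [h, orderOf_one] at ht
    norm_num at ht
  obtain ⟨a, ha⟩ : ∃ a, t a ≠ a := by
    by_contra hcon
    push Not at hcon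
    exact ht1 (Equiv.ext hcon)
  have hord : ∀ p q r s : Fin n, [p, q, r, s].Nodup → orderOf (swap p q * swap r s) = 2 := by
    intro p q r s h
    rw [← lcm_cycleType, cycleType_swap_mul_swap_of_nodup h]
    rfl
  by_cases h : ∃ c, c ≠ a ∧ c ≠ t a ∧ t c ≠ c
  · obtain ⟨c, hca, hcb, hc⟩ := h
    refine ⟨swap (t a) c * t * swap (t a) c, ?_, ?_⟩
    · rw [isConj_iff]
      exact ⟨swap (t a) c, by rw [swap_inv]⟩
    · have e0 : t * swap (t a) c = swap a (t c) * t := by
        rw [mul_swap_eq_swap_mul, sq_apply ht2]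
      have e1 : t * (swap (t a) c * t * swap (t a) c) = swap a (t c) * swap (t a) c := by
        calc t * (swap (t a) c * t * swap (t a) c)
            = (t * swap (t a) c) * t * swap (t a) c := by simp only [mul_assoc]
          _ = swap a (t c) * (t * t) * swap (t a) c := by rw [e0]; simp only [mul_assoc]
          _ = swap a (t c) * swap (t a) c := by rw [ht2, mul_one]
      rw [e1]
      apply hord
      have n1 : a ≠ t c := by
        intro h1
        apply hcb
        rw [h1, sq_apply ht2]
      have n2 : t c ≠ t a := fun h1 => hca (t.injective h1)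
      simp only [List.nodup_cons, List.mem_cons, List.not_mem_nil, or_false, not_or,
        List.nodup_nil, and_true, not_false_eq_true]
      exact ⟨⟨n1, Ne.symm ha, Ne.symm hca⟩, ⟨n2, hc⟩, Ne.symm hcb⟩
  · push Not at h
    have hts : t = swap a (t a) := by
      ext u
      by_cases h1 : u = a
      · rw [h1, swap_apply_left]
      by_cases h2 : u = t a
      · rw [h2, swap_apply_right, sq_apply ht2]
      rw [swap_apply_of_ne_of_ne h1 h2, h u h1 h2]
    have hcard : ∀ T : Finset (Fin n), T.card < 5 → ∃ c, c ∉ T := by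
      intro T hT
      by_contra hcon
      push Not at hcon
      have : T = Finset.univ := Finset.eq_univ_iff_forall.mpr hcon
      rw [this, Finset.card_univ, Fintype.card_fin] at hT
      omega
    obtain ⟨c, hc⟩ := hcard {a, t a} (lt_of_le_of_lt (Finset.card_le_two) (by norm_num))
    obtain ⟨d, hd⟩ := hcard {a, t a, c} (lt_of_le_of_lt (Finset.card_le_three) (by norm_num))
    simp only [Finset.mem_insert, Finset.mem_singleton, not_or] at hc hd
    refine ⟨swap c d, ?_, ?_⟩
    · rw [hts]
      exact isConj_swap (Ne.symm ha) (Ne.symm hd.2.2)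
    · rw [hts]
      apply hord
      simp only [List.nodup_cons, List.mem_cons, List.not_mem_nil, or_false, not_or,
        List.nodup_nil, and_true, not_false_eq_true]
      exact ⟨⟨Ne.symm ha, Ne.symm hc.1, Ne.symm hd.1⟩, ⟨Ne.symm hc.2, Ne.symm hd.2.1⟩,
        Ne.symm hd.2.2⟩

/-- Let n ≥ 5 and let X be a conjugacy class of involutions of the symmetric group of degree n. The graph on X joining two distinct involutions whose product has odd order is connected and has diameter exactly 2. -/
theorem result (n : ℕ) (hn : 5 ≤ n) (t : Equiv.Perm (Fin n)) (ht : orderOf t = 2) :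
    (SimpleGraph.fromRel fun x y : {x : Equiv.Perm (Fin n) // IsConj t x} =>
        Odd (orderOf (x.1 * y.1))).Connected ∧
      (SimpleGraph.fromRel fun x y : {x : Equiv.Perm (Fin n) // IsConj t x} =>
        Odd (orderOf (x.1 * y.1))).diam = 2 := by
  set G := SimpleGraph.fromRel fun x y : {x : Equiv.Perm (Fin n) // IsConj t x} =>
        Odd (orderOf (x.1 * y.1)) with hG
  have hadj : ∀ a b : {x : Equiv.Perm (Fin n) // IsConj t x},
      a ≠ b → Odd (orderOf (a.1 * b.1)) → G.Adj a b := by
    intro a b hab h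
    rw [hG, SimpleGraph.fromRel_adj]
    exact ⟨hab, Or.inl h⟩
  -- any two vertices are at distance at most two
  have key : ∀ a b : {x : Equiv.Perm (Fin n) // IsConj t x},
      a = b ∨ G.Adj a b ∨ ∃ c, G.Adj a c ∧ G.Adj c b := by
    intro a b
    have hx := sq_of_isConj ht a.2
    have hy := sq_of_isConj ht b.2
    have hc : a.1.support.card = b.1.support.card := by
      rw [card_support_of_isConj a.2, card_support_of_isConj b.2]
    have hbad : ¬ Bad (Finset.univ : Finset (Fin n)) a.1 b.1 := by
      rintro ⟨h, -, -⟩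
      rw [Finset.card_univ, Fintype.card_fin] at h
      omega
    obtain ⟨z, hz, -, hzc, h1, h2⟩ := main _ (Finset.univ : Finset (Fin n)) rfl a.1 b.1 hx hy
      (Finset.subset_univ _) (Finset.subset_univ _) hc hbad
    rw [oddOrd_iff] at h1 h2
    have hzV : IsConj t z := a.2.trans (isConj_of_inv hx hz hzc)
    by_cases hza : (⟨z, hzV⟩ : {x : Equiv.Perm (Fin n) // IsConj t x}) = a
    · by_cases hab : a = b
      · exact Or.inl hab
      · right; left
        apply hadj a b hab
        have : z = a.1 := congrArg Subtype.val hza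
        rw [← this]
        exact h2
    by_cases hzb : (⟨z, hzV⟩ : {x : Equiv.Perm (Fin n) // IsConj t x}) = b
    · by_cases hab : a = b
      · exact Or.inl hab
      · right; left
        apply hadj a b hab
        have : z = b.1 := congrArg Subtype.val hzb
        rw [← this]
        exact h1
    right; right
    exact ⟨⟨z, hzV⟩, hadj _ _ (Ne.symm hza) h1, hadj _ _ hzb h2⟩
  have hwalk : ∀ a b : {x : Equiv.Perm (Fin n) // IsConj t x},
      ∃ p : G.Walk a b, p.length ≤ 2 := by
    intro a b
    rcases key a b with h | h | ⟨c, h1, h2⟩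
    · subst h
      exact ⟨SimpleGraph.Walk.nil, by simp⟩
    · exact ⟨h.toWalk, by simp⟩
    · exact ⟨SimpleGraph.Walk.cons h1 h2.toWalk, by simp⟩
  have : Nonempty {x : Equiv.Perm (Fin n) // IsConj t x} := ⟨⟨t, IsConj.refl t⟩⟩
  have hconn : G.Connected := by
    refine ⟨fun a b => ?_⟩
    obtain ⟨p, -⟩ := hwalk a b
    exact ⟨p⟩
  refine ⟨hconn, ?_⟩
  have hfin : G.ediam ≠ ⊤ := SimpleGraph.connected_iff_ediam_ne_top.mp hconn
  apply le_antisymm
  · obtain ⟨u, v, huv⟩ := SimpleGraph.exists_dist_eq_diam (G := G)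
    rw [← huv]
    obtain ⟨p, hp⟩ := hwalk u v
    exact (SimpleGraph.dist_le p).trans hp
  · obtain ⟨s, hs, hord⟩ := exists_far hn t ht
    have hts : (⟨t, IsConj.refl t⟩ : {x : Equiv.Perm (Fin n) // IsConj t x}) ≠ ⟨s, hs⟩ := by
      intro h
      have h1 : t = s := congrArg Subtype.val h
      have ht2 : t * t = 1 := by rw [← pow_two, ← ht, pow_orderOf_eq_one]
      rw [← h1, ht2, orderOf_one] at hord
      norm_num at hord
    have hnadj : ¬ G.Adj ⟨t, IsConj.refl t⟩ ⟨s, hs⟩ := by
      rw [hG, SimpleGraph.fromRel_adj]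
      rintro ⟨-, h | h⟩
      · simp only at h
        rw [hord] at h
        exact absurd h (by decide)
      · simp only at h
        have ht2 : t * t = 1 := by rw [← pow_two, ← ht, pow_orderOf_eq_one]
        have hs2 := sq_of_isConj ht hs
        have : s * t = (t * s)⁻¹ := by
          rw [mul_inv_rev, inv_eq_of_mul_eq_one_right ht2, inv_eq_of_mul_eq_one_right hs2]
        rw [this, orderOf_inv, hord] at h
        exact absurd h (by decide)
    have h0 : G.dist ⟨t, IsConj.refl t⟩ ⟨s, hs⟩ ≠ 0 := by
      rw [Ne, hconn.dist_eq_zero_iff]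
      exact hts
    have h1 : G.dist ⟨t, IsConj.refl t⟩ ⟨s, hs⟩ ≠ 1 := by
      rw [Ne, SimpleGraph.dist_eq_one_iff_adj]
      exact hnadj
    have h2 := SimpleGraph.dist_le_diam hfin (u := ⟨t, IsConj.refl t⟩) (v := ⟨s, hs⟩)
    omega

end Cfsg.Agent.S3265
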