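import Cfsg.Statements.S3279
import Cfsg.Agent.S3276

set_option autoImplicit false
open Cfsg
open scoped Pointwise

namespace Cfsg.Agent.S3279

variable {G : Type*} [Group G]

theorem sq_of_order {a : G} (h : orderOf a = 2) : a * a = 1 := by
  rw [← pow_two, ← h]; exact pow_orderOf_eq_one a

theorem ne_one_of_order {a : G} (h : orderOf a = 2) : a ≠ 1 := by
  rintro rfl; simp at h

theorem order_of_sq {a : G} (h : a * a = 1) (h1 : a ≠ 1) : orderOf a = 2 :=
  orderOf_eq_prime (by rw [pow_two]; exact h) h1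

theorem order_conj (g a : G) : orderOf (g * a * g⁻¹) = orderOf a :=
  (MulAut.conj g).orderOf_eq a

theorem inv_of_order {a : G} (h : orderOf a = 2) : a⁻¹ = a :=
  inv_eq_of_mul_eq_one_right (sq_of_order h)

theorem isConj_conj (g a : G) : IsConj a (g * a * g⁻¹) := isConj_iff.mpr ⟨g, rfl⟩

theorem mem_smul_sylow' {p : ℕ} (g : G) (T : Sylow p G) (x : G) :
    x ∈ ((g • T : Sylow p G) : Subgroup G) ↔ g⁻¹ * x * g ∈ (T : Subgroup G) := by
  rw [Sylow.coe_subgroup_smul, Subgroup.mem_pointwise_smul_iff_inv_smul_mem]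
  simp [MulAut.smul_def]

theorem exists_conj_le_sylow [Finite G] (S : Sylow 2 G) {Q : Subgroup G} (hQ : IsPGroup 2 Q) :
    ∃ k : G, ∀ q ∈ Q, k * q * k⁻¹ ∈ (S : Subgroup G) := by
  obtain ⟨S', hS'⟩ := hQ.exists_le_sylow
  obtain ⟨g, hg⟩ := MulAction.exists_smul_eq G S' S
  refine ⟨g, fun q hq => ?_⟩
  rw [← hg, mem_smul_sylow']
  have : g⁻¹ * (g * q * g⁻¹) * g = q := by group
  rw [this]; exact hS' hq

theorem isPGroup_zpowers_of_order {a : G} (h : orderOf a = 2) :
    IsPGroup 2 (Subgroup.zpowers a) := by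
  apply IsPGroup.of_card (n := 1)
  rw [Nat.card_zpowers, h, pow_one]

theorem isPGroup_pair {a b : G} (ha : orderOf a = 2) (hb : orderOf b = 2) (hab : Commute a b) :
    IsPGroup 2 (Subgroup.zpowers a ⊔ Subgroup.zpowers b : Subgroup G) := by
  apply IsPGroup.to_sup_of_normal_right' (isPGroup_zpowers_of_order ha) (isPGroup_zpowers_of_order hb)
  refine le_trans ?_ (Subgroup.centralizer_le_normalizer _)
  rw [Subgroup.zpowers_le, Subgroup.mem_centralizer_iff]
  intro h hh
  obtain ⟨n, rfl⟩ := Subgroup.mem_zpowers_iff.mp hh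
  exact ((hab.zpow_right n).eq).symm

/-- Conjugate one involution into a given Sylow 2-subgroup. -/
theorem exists_conj_mem_sylow [Finite G] (S : Sylow 2 G) {a : G} (ha : orderOf a = 2) :
    ∃ k : G, k * a * k⁻¹ ∈ (S : Subgroup G) := by
  obtain ⟨k, hk⟩ := exists_conj_le_sylow S (isPGroup_zpowers_of_order ha)
  exact ⟨k, hk a (Subgroup.mem_zpowers a)⟩

/-- Conjugate two commuting involutions into a given Sylow 2-subgroup. -/
theorem exists_conj_mem_sylow₂ [Finite G] (S : Sylow 2 G) {a b : G} (ha : orderOf a = 2)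
    (hb : orderOf b = 2) (hab : Commute a b) :
    ∃ k : G, k * a * k⁻¹ ∈ (S : Subgroup G) ∧ k * b * k⁻¹ ∈ (S : Subgroup G) := by
  obtain ⟨k, hk⟩ := exists_conj_le_sylow S (isPGroup_pair ha hb hab)
  exact ⟨k, hk a (le_sup_left (a := Subgroup.zpowers a) (Subgroup.mem_zpowers a)),
    hk b (le_sup_right (b := Subgroup.zpowers b) (Subgroup.mem_zpowers b))⟩

/-- At most three involutions in `C(x)`. -/
theorem three_invol [Finite G] (x : G)
    (h3 : Nat.card {u : ↥(Subgroup.centralizer ({x} : Set G)) // orderOf u = 2} ≤ 3)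
    {a b c d : G} (ha : a * x = x * a) (hb : b * x = x * b) (hc : c * x = x * c)
    (hd : d * x = x * d)
    (oa : orderOf a = 2) (ob : orderOf b = 2) (oc : orderOf c = 2) (od : orderOf d = 2)
    (hab : a ≠ b) (hac : a ≠ c) (hbc : b ≠ c) : d = a ∨ d = b ∨ d = c := by
  classical
  by_contra hcon
  push Not at hcon
  obtain ⟨hda, hdb, hdc⟩ := hcon
  let s : Finset G := {a, b, c, d}
  have hs : ∀ g ∈ s, g ∈ Subgroup.centralizer ({x} : Set G) ∧ orderOf g = 2 := by
    intro g hg
    simp only [s, Finset.mem_insert, Finset.mem_singleton] at hg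
    rcases hg with rfl | rfl | rfl | rfl
    · exact ⟨Subgroup.mem_centralizer_singleton_iff.mpr ha, oa⟩
    · exact ⟨Subgroup.mem_centralizer_singleton_iff.mpr hb, ob⟩
    · exact ⟨Subgroup.mem_centralizer_singleton_iff.mpr hc, oc⟩
    · exact ⟨Subgroup.mem_centralizer_singleton_iff.mpr hd, od⟩
  have hcard : s.card = 4 := by
    simp only [s]
    rw [Finset.card_insert_of_notMem, Finset.card_insert_of_notMem, Finset.card_insert_of_notMem,
      Finset.card_singleton]
    · simp [Ne.symm hdc]
    · simp [hbc, Ne.symm hdb]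
    · simp [hab, hac, Ne.symm hda]
  let f : {g // g ∈ s} → {u : ↥(Subgroup.centralizer ({x} : Set G)) // orderOf u = 2} :=
    fun g => ⟨⟨g.1, (hs g.1 g.2).1⟩, by rw [Subgroup.orderOf_mk]; exact (hs g.1 g.2).2⟩
  have hf : Function.Injective f := by
    intro g g' h
    apply Subtype.ext
    have := congrArg (fun u => ((u.1 : ↥(Subgroup.centralizer ({x} : Set G))) : G)) h
    simpa [f] using this
  have h4 := Nat.card_le_card_of_injective f hf
  rw [Nat.card_eq_fintype_card, Fintype.card_coe, hcard] at h4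
  omega


/-- `x, v, u` are the involutions of `C(x)`, and `u = x v`. -/
structure Trip (x v u : G) : Prop where
  ox : orderOf x = 2
  ov : orderOf v = 2
  ou : orderOf u = 2
  xv : x * v = u
  vx : v * x = u
  hxv : x ≠ v
  all : ∀ d, d * x = x * d → orderOf d = 2 → d = x ∨ d = v ∨ d = u

namespace Trip

variable {x v u : G} (t : Trip x v u)
include t

theorem xu : x * u = v := by
  rw [← t.xv, ← mul_assoc, sq_of_order t.ox, one_mul]

theorem ux : u * x = v := by
  rw [← t.vx, mul_assoc, sq_of_order t.ox, mul_one]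

theorem uv : u * v = x := by
  rw [← t.xv, mul_assoc, sq_of_order t.ov, mul_one]

theorem vu : v * u = x := by
  rw [← t.vx, ← mul_assoc, sq_of_order t.ov, one_mul]

theorem hxu : x ≠ u := by
  intro h
  have := t.xv
  rw [← h] at this
  exact ne_one_of_order t.ov (mul_left_cancel (this.trans (mul_one x).symm))

theorem hvu : v ≠ u := by
  intro h
  have := t.xv
  rw [← h] at this
  exact ne_one_of_order t.ox (mul_right_cancel (this.trans (one_mul v).symm))

theorem symm : Trip x u v where
  ox := t.ox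
  ov := t.ou
  ou := t.ov
  xv := t.xu
  vx := t.ux
  hxv := t.hxu
  all := fun d hd od => by
    rcases t.all d hd od with h | h | h
    · exact Or.inl h
    · exact Or.inr (Or.inr h)
    · exact Or.inr (Or.inl h)

theorem comm_vu : v * u = u * v := by rw [t.vu, t.uv]

theorem comm_vx : v * x = x * v := by rw [t.vx, t.xv]

theorem comm_ux : u * x = x * u := by rw [t.ux, t.xu]

end Trip

/-- If `C(x)` has an involution `v ≠ x` then `x, v, x v` are all its involutions. -/
theorem trip_of_ne [Finite G] (x : G) (hx : orderOf x = 2)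
    (h3 : Nat.card {u : ↥(Subgroup.centralizer ({x} : Set G)) // orderOf u = 2} ≤ 3)
    {v : G} (hv : orderOf v = 2) (hvx : v * x = x * v) (hne : x ≠ v) : Trip x v (x * v) := by
  have hu2 : (x * v) * (x * v) = 1 := by
    rw [mul_assoc, ← mul_assoc v x v, hvx, mul_assoc, sq_of_order hv, mul_one, sq_of_order hx]
  have hu1 : x * v ≠ 1 := by
    intro h
    have : v = x⁻¹ := eq_inv_of_mul_eq_one_right h
    rw [inv_of_order hx] at this
    exact hne this.symm
  have ou : orderOf (x * v) = 2 := order_of_sq hu2 hu1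
  have hxu : x ≠ x * v := by
    intro h
    exact ne_one_of_order hv (mul_left_cancel (h.symm.trans (mul_one x).symm))
  have hvu : v ≠ x * v := by
    intro h
    exact ne_one_of_order hx (mul_right_cancel (h.symm.trans (one_mul v).symm))
  have hux : (x * v) * x = x * (x * v) := by
    rw [mul_assoc, hvx]
  refine ⟨hx, hv, ou, rfl, hvx, hne, fun d hd od => ?_⟩
  exact three_invol x h3 rfl hvx hux hd hx hv ou od hne hxu hvu


/-- A central involution of a simple group is its only involution. -/
theorem eq_of_central [IsSimpleGroup G] {z : G} (oz : orderOf z = 2)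
    (hz : ∀ g : G, g * z = z * g) {a : G} (oa : orderOf a = 2) : a = z := by
  have hn : (Subgroup.zpowers z).Normal := by
    constructor
    intro n hn g
    obtain ⟨k, rfl⟩ := Subgroup.mem_zpowers_iff.mp hn
    have hc : Commute g z := hz g
    have : g * z ^ k * g⁻¹ = z ^ k := by
      rw [(hc.zpow_right k).eq, mul_inv_cancel_right]
    rw [this]; exact Subgroup.zpow_mem_zpowers z k
  have htop : Subgroup.zpowers z = ⊤ := by
    rcases hn.eq_bot_or_eq_top with h | h
    · exfalso
      have : z ∈ (⊥ : Subgroup G) := h ▸ Subgroup.mem_zpowers z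
      exact ne_one_of_order oz (Subgroup.mem_bot.mp this)
    · exact h
  have ha : a ∈ Subgroup.zpowers z := htop ▸ Subgroup.mem_top a
  obtain ⟨k, rfl⟩ := Subgroup.mem_zpowers_iff.mp ha
  rcases Int.even_or_odd' k with ⟨m, rfl | rfl⟩
  · exfalso
    apply ne_one_of_order oa
    rw [zpow_mul, zpow_two, sq_of_order oz, one_zpow]
  · rw [zpow_add, zpow_mul, zpow_two, sq_of_order oz, one_zpow, one_mul, zpow_one]

/-- In a simple group a subgroup containing all conjugates of a nontrivial element is everything. -/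
theorem eq_top_of_conj_mem [IsSimpleGroup G] {u : G} (hu : u ≠ 1) (H : Subgroup G)
    (h : ∀ k : G, k * u * k⁻¹ ∈ H) : H = ⊤ := by
  have hle : Subgroup.normalClosure ({u} : Set G) ≤ H := by
    rw [Subgroup.normalClosure, Subgroup.closure_le]
    intro s hs
    rw [Group.mem_conjugatesOfSet_iff] at hs
    obtain ⟨a, ha, hs⟩ := hs
    rw [Set.mem_singleton_iff] at ha
    subst ha
    obtain ⟨k, rfl⟩ := isConj_iff.mp hs
    exact h k
  have htop : Subgroup.normalClosure ({u} : Set G) = ⊤ := by
    rcases (Subgroup.normalClosure_normal (s := ({u} : Set G))).eq_bot_or_eq_top with h | h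
    · exfalso
      have : u ∈ (⊥ : Subgroup G) := h ▸ Subgroup.subset_normalClosure (Set.mem_singleton u)
      exact hu (Subgroup.mem_bot.mp this)
    · exact h
  exact top_le_iff.mp (htop ▸ hle)

theorem isConj_of_conj_eq {k a x : G} (h : k * a * k⁻¹ = x) : IsConj x a :=
  (h ▸ isConj_conj k a).symm

theorem commute_of_conj {k a b : G} (h : Commute (k * a * k⁻¹) (k * b * k⁻¹)) : Commute a b := by
  have h1 : k * (a * b) * k⁻¹ = k * (b * a) * k⁻¹ := by
    have := h.eq
    simpa [mul_assoc] using this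
  exact mul_left_cancel (mul_right_cancel h1)

theorem caseA [Finite G] [IsSimpleGroup G] {x v u : G} (t : Trip x v u)
    (hv : IsConj x v) (hu : ¬ IsConj x u) : False := by
  have fact : ∀ d, d * x = x * d → orderOf d = 2 → IsConj u d → d = u := by
    intro d hd od hud
    rcases t.all d hd od with h | h | h
    · exact absurd (h ▸ hud.symm) hu
    · exact absurd (hv.trans (h ▸ hud.symm)) hu
    · exact h
  have key : ∀ k : G, k * u * k⁻¹ ∈ Subgroup.centralizer ({u} : Set G) := by
    intro k
    rw [Subgroup.mem_centralizer_singleton_iff]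
    have os : orderOf (k * u * k⁻¹) = 2 := by rw [order_conj]; exact t.ou
    have hus : IsConj u (k * u * k⁻¹) := isConj_conj k u
    have hxs : ¬ IsConj x (k * u * k⁻¹) := fun h => hu (h.trans hus.symm)
    obtain ⟨z, oz, hzx, hsz⟩ := Cfsg.Agent.S3276.exists_commuting_involution x (k * u * k⁻¹)
      (sq_of_order t.ox) (sq_of_order os) hxs
    rcases t.all z hzx.eq oz with h | h | h
    · have : k * u * k⁻¹ = u := fact _ (h ▸ hsz.eq) os hus
      rw [this]
    · obtain ⟨m, hm⟩ := isConj_iff.mp hv
      have hsv : (k * u * k⁻¹) * v = v * (k * u * k⁻¹) := h ▸ hsz.eq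
      have h1 : m⁻¹ * (k * u * k⁻¹) * m = u := by
        apply fact
        · rw [← hm] at hsv
          have := congrArg (fun y => m⁻¹ * y * m) hsv
          simpa [mul_assoc] using this
        · have := order_conj m⁻¹ (k * u * k⁻¹)
          rw [inv_inv] at this
          rw [this, os]
        · have := isConj_conj m⁻¹ (k * u * k⁻¹)
          rw [inv_inv] at this
          exact hus.trans this
      have h2 : m⁻¹ * u * m = u := by
        apply fact
        · have huv : u * v = v * u := t.comm_vu.symm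
          rw [← hm] at huv
          have := congrArg (fun y => m⁻¹ * y * m) huv
          simpa [mul_assoc] using this
        · have := order_conj m⁻¹ u
          rw [inv_inv] at this
          rw [this, t.ou]
        · have := isConj_conj m⁻¹ u
          rw [inv_inv] at this
          exact this
      have h3 : k * u * k⁻¹ = u := by
        have := h1.trans h2.symm
        exact mul_left_cancel (mul_right_cancel this)
      rw [h3]
    · exact (h ▸ hsz).eq
  have htop := eq_top_of_conj_mem (ne_one_of_order t.ou) _ key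
  have hcent : ∀ g : G, g * u = u * g := by
    intro g
    have : g ∈ Subgroup.centralizer ({u} : Set G) := htop ▸ Subgroup.mem_top g
    exact Subgroup.mem_centralizer_singleton_iff.mp this
  exact t.hxu (eq_of_central t.ou hcent t.ox)


theorem conj_commute {k a b : G} (h : Commute a b) : Commute (k * a * k⁻¹) (k * b * k⁻¹) := by
  have := h.eq
  show k * a * k⁻¹ * (k * b * k⁻¹) = k * b * k⁻¹ * (k * a * k⁻¹)
  simp only [mul_assoc, inv_mul_cancel_left]
  rw [← mul_assoc a b, this, mul_assoc]

theorem caseB [Finite G] [IsSimpleGroup G] {x v u : G} (t : Trip x v u) (S : Sylow 2 G)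
    (hS : ∀ s ∈ (S : Subgroup G), s * x = x * s)
    (hv : ¬ IsConj x v) (hu : ¬ IsConj x u) : False := by
  -- (B2)
  have B2 : ∀ a b : G, orderOf a = 2 → orderOf b = 2 → ¬ IsConj x a → ¬ IsConj x b →
      Commute a b → a ≠ b →
      ∃ k : G, (k * a * k⁻¹ = v ∧ k * b * k⁻¹ = u) ∨ (k * a * k⁻¹ = u ∧ k * b * k⁻¹ = v) := by
    intro a b oa ob na nb hab hne
    obtain ⟨k, hka, hkb⟩ := exists_conj_mem_sylow₂ S oa ob hab
    refine ⟨k, ?_⟩
    have h1 := t.all _ (hS _ hka) (by rw [order_conj]; exact oa)
    have h2 := t.all _ (hS _ hkb) (by rw [order_conj]; exact ob)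
    have hne' : k * a * k⁻¹ ≠ k * b * k⁻¹ := fun h => hne (mul_left_cancel (mul_right_cancel h))
    rcases h1 with h1 | h1 | h1
    · exact absurd (isConj_of_conj_eq h1) na
    · rcases h2 with h2 | h2 | h2
      · exact absurd (isConj_of_conj_eq h2) nb
      · exact absurd (h1.trans h2.symm) hne'
      · exact Or.inl ⟨h1, h2⟩
    · rcases h2 with h2 | h2 | h2
      · exact absurd (isConj_of_conj_eq h2) nb
      · exact Or.inr ⟨h1, h2⟩
      · exact absurd (h1.trans h2.symm) hne'
  -- (B3)
  have B3 : ∀ s a b : G, orderOf s = 2 → ¬ IsConj x s → orderOf a = 2 → orderOf b = 2 →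
      ¬ IsConj x a → ¬ IsConj x b → Commute a b → a ≠ b → Commute s a ∨ Commute s b := by
    intro s a b os ns oa ob na nb hab hne
    obtain ⟨k, hk⟩ := B2 a b oa ob na nb hab hne
    have os' : orderOf (k * s * k⁻¹) = 2 := by rw [order_conj]; exact os
    have ns' : ¬ IsConj x (k * s * k⁻¹) := fun h => ns (h.trans (isConj_conj k s).symm)
    obtain ⟨z, oz, hzx, hsz⟩ := Cfsg.Agent.S3276.exists_commuting_involution x (k * s * k⁻¹)
      (sq_of_order t.ox) (sq_of_order os') ns'
    have hP : Commute (k * s * k⁻¹) v ∨ Commute (k * s * k⁻¹) u := by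
      rcases t.all z hzx.eq oz with h | h | h
      · have hsx : (k * s * k⁻¹) * x = x * (k * s * k⁻¹) := h ▸ hsz.eq
        rcases t.all _ hsx os' with h' | h' | h'
        · exact absurd (isConj_of_conj_eq h') ns
        · left; rw [h']
        · right; rw [h']
      · left; exact h ▸ hsz
      · right; exact h ▸ hsz
    rcases hk with ⟨hka, hkb⟩ | ⟨hka, hkb⟩
    · rcases hP with hP | hP
      · left; rw [← hka] at hP; exact commute_of_conj hP
      · right; rw [← hkb] at hP; exact commute_of_conj hP
    · rcases hP with hP | hP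
      · right; rw [← hkb] at hP; exact commute_of_conj hP
      · left; rw [← hka] at hP; exact commute_of_conj hP
  -- the class of `u`
  let B : Set G := {s | (orderOf s = 2 ∧ ¬ IsConj x s) ∧ (s = u ∨ ¬ Commute s u)}
  let M : Subgroup G := Subgroup.closure B
  have huB : u ∈ B := ⟨⟨t.ou, hu⟩, Or.inl rfl⟩
  have hcen : ∀ s : G, orderOf s = 2 → ¬ IsConj x s → s ∉ B →
      s ∈ Subgroup.centralizer (M : Set G) := by
    intro s os ns hsB
    have hsu : s ≠ u ∧ Commute s u := by
      constructor
      · intro h; exact hsB (h ▸ huB)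
      · by_contra h; exact hsB ⟨⟨os, ns⟩, Or.inr h⟩
    show s ∈ Subgroup.centralizer ((Subgroup.closure B : Subgroup G) : Set G)
    rw [Subgroup.centralizer_closure, Subgroup.mem_centralizer_iff]
    intro b hb
    rcases hb.2 with hbu | hbu
    · rw [hbu]; exact hsu.2.eq.symm
    · rcases B3 b s u hb.1.1 hb.1.2 os t.ou ns hu hsu.2 hsu.1 with h | h
      · exact h.eq
      · exact absurd h hbu
  have hnorm : ∀ k : G, k * u * k⁻¹ ∈ Subgroup.normalizer (M : Set G) := by
    intro k
    have os : orderOf (k * u * k⁻¹) = 2 := by rw [order_conj]; exact t.ou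
    have ns : ¬ IsConj x (k * u * k⁻¹) := fun h => hu (h.trans (isConj_conj k u).symm)
    by_cases hB : k * u * k⁻¹ ∈ B
    · exact Subgroup.le_normalizer (Subgroup.subset_closure hB)
    · exact Subgroup.centralizer_le_normalizer _ (hcen _ os ns hB)
  have hNtop := eq_top_of_conj_mem (ne_one_of_order t.ou) _ hnorm
  have hMn : M.Normal := Subgroup.normalizer_eq_top_iff.mp hNtop
  have hMtop : M = ⊤ := by
    rcases hMn.eq_bot_or_eq_top with h | h
    · exfalso
      have : u ∈ (⊥ : Subgroup G) := h ▸ Subgroup.subset_closure huB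
      exact ne_one_of_order t.ou (Subgroup.mem_bot.mp this)
    · exact h
  have hvB : v ∉ B := by
    rintro ⟨_, h | h⟩
    · exact t.hvu h
    · exact h t.comm_vu
  have hvc := hcen v t.ov hv hvB
  rw [hMtop] at hvc
  have hcent : ∀ g : G, g * v = v * g := by
    intro g
    have := (Subgroup.mem_centralizer_iff.mp hvc) g (Subgroup.mem_top g)
    exact this
  exact t.hxv (eq_of_central t.ov hcent t.ox)


theorem part2 [Finite G] [IsSimpleGroup G] (x : G) (hx : orderOf x = 2)
    (h3 : Nat.card {u : ↥(Subgroup.centralizer ({x} : Set G)) // orderOf u = 2} ≤ 3)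
    (S : Sylow 2 G) (hS : (S : Subgroup G) ≤ Subgroup.centralizer ({x} : Set G)) :
    ∀ a : G, orderOf a = 2 → IsConj x a := by
  have hS' : ∀ s ∈ (S : Subgroup G), s * x = x * s := fun s hs =>
    Subgroup.mem_centralizer_singleton_iff.mp (hS hs)
  by_cases hex : ∃ v, orderOf v = 2 ∧ v * x = x * v ∧ x ≠ v
  · obtain ⟨v, ov, hvx, hne⟩ := hex
    have t := trip_of_ne x hx h3 ov hvx hne
    by_cases hv : IsConj x v
    · by_cases hu : IsConj x (x * v)
      · intro a oa
        obtain ⟨k, hk⟩ := exists_conj_mem_sylow S oa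
        rcases t.all _ (hS' _ hk) (by rw [order_conj]; exact oa) with h | h | h
        · exact isConj_of_conj_eq h
        · exact hv.trans (isConj_of_conj_eq h)
        · exact hu.trans (isConj_of_conj_eq h)
      · exact (caseA t hv hu).elim
    · by_cases hu : IsConj x (x * v)
      · exact (caseA t.symm hu hv).elim
      · exact (caseB t S hS' hv hu).elim
  · push Not at hex
    intro a oa
    obtain ⟨k, hk⟩ := exists_conj_mem_sylow S oa
    have := hex (k * a * k⁻¹) (by rw [order_conj]; exact oa) (hS' _ hk)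
    exact isConj_of_conj_eq this.symm


/-- Normalizer growth inside a Sylow `2`-subgroup. -/
theorem exists_normalizing [Finite G] (S : Sylow 2 G) (T : Subgroup G)
    (hTS : T ≤ (S : Subgroup G)) (hne : ∃ s ∈ (S : Subgroup G), s ∉ T) :
    ∃ g ∈ (S : Subgroup G), g ∉ T ∧ (∀ t ∈ T, g * t * g⁻¹ ∈ T) ∧ (∀ t ∈ T, g⁻¹ * t * g ∈ T) := by
  have : Group.IsNilpotent ↥(S : Subgroup G) := S.isPGroup'.isNilpotent
  have hnc := Group.normalizerCondition_of_isNilpotent (G := ↥(S : Subgroup G))
  have hlt : T.subgroupOf S < ⊤ := by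
    rw [lt_top_iff_ne_top]
    intro h
    obtain ⟨s, hs, hsT⟩ := hne
    have : (⟨s, hs⟩ : ↥(S : Subgroup G)) ∈ T.subgroupOf S := h ▸ Subgroup.mem_top _
    exact hsT (Subgroup.mem_subgroupOf.mp this)
  obtain ⟨g, hgN, hgT⟩ := SetLike.exists_of_lt (hnc _ hlt)
  rw [Subgroup.mem_normalizer_iff] at hgN
  refine ⟨g.1, g.2, fun h => hgT (Subgroup.mem_subgroupOf.mpr h), ?_, ?_⟩
  · intro t ht
    have := (hgN ⟨t, hTS ht⟩).mp (Subgroup.mem_subgroupOf.mpr ht)
    exact Subgroup.mem_subgroupOf.mp this
  · intro t ht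
    have h := (hgN (g⁻¹ * ⟨t, hTS ht⟩ * g)).mpr (by
      rw [Subgroup.mem_subgroupOf]
      have : ((g * (g⁻¹ * ⟨t, hTS ht⟩ * g) * g⁻¹ : ↥(S : Subgroup G)) : G) = t := by
        simp [mul_assoc]
      rw [this]; exact ht)
    exact Subgroup.mem_subgroupOf.mp h

theorem card_centralizer_conj_le [Finite G] (m x : G) :
    Nat.card ↥(Subgroup.centralizer ({m * x * m⁻¹} : Set G)) ≤
      Nat.card ↥(Subgroup.centralizer ({x} : Set G)) := by
  let f : ↥(Subgroup.centralizer ({m * x * m⁻¹} : Set G)) → ↥(Subgroup.centralizer ({x} : Set G)) :=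
    fun c => ⟨m⁻¹ * c.1 * m, by
      have hc := Subgroup.mem_centralizer_singleton_iff.mp c.2
      rw [Subgroup.mem_centralizer_singleton_iff]
      have := congrArg (fun y => m⁻¹ * y * m) hc
      simpa [mul_assoc] using this⟩
  have hf : Function.Injective f := by
    intro c c' h
    apply Subtype.ext
    have := congrArg (fun y : ↥(Subgroup.centralizer ({x} : Set G)) => (y : G)) h
    simp only [f] at this
    exact mul_left_cancel (mul_right_cancel this)
  exact Nat.card_le_card_of_injective f hf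


theorem comm_mul {c x v : G} (h1 : c * x = x * c) (h2 : c * v = v * c) :
    c * (x * v) = (x * v) * c := by
  rw [← mul_assoc, h1, mul_assoc, h2, mul_assoc]

theorem comm_conj_left (g c y : G) :
    (g⁻¹ * c * g) * y = y * (g⁻¹ * c * g) ↔ c * (g * y * g⁻¹) = (g * y * g⁻¹) * c := by
  constructor
  · intro h
    calc c * (g * y * g⁻¹) = g * ((g⁻¹ * c * g) * y) * g⁻¹ := by group
      _ = g * (y * (g⁻¹ * c * g)) * g⁻¹ := by rw [h]
      _ = (g * y * g⁻¹) * c := by group
  · intro h
    calc (g⁻¹ * c * g) * y = g⁻¹ * (c * (g * y * g⁻¹)) * g := by group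
      _ = g⁻¹ * ((g * y * g⁻¹) * c) * g := by rw [h]
      _ = y * (g⁻¹ * c * g) := by group

theorem zpowers_normal_of_central {z : G} (hz : ∀ g : G, g * z = z * g) :
    (Subgroup.zpowers z).Normal := by
  constructor
  intro n hn g
  obtain ⟨k, rfl⟩ := Subgroup.mem_zpowers_iff.mp hn
  have hc : Commute g z := hz g
  have : g * z ^ k * g⁻¹ = z ^ k := by
    rw [(hc.zpow_right k).eq, mul_inv_cancel_right]
  rw [this]; exact Subgroup.zpow_mem_zpowers z k

theorem part1 [Finite G] [IsSimpleGroup G] (x : G) (hx : orderOf x = 2)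
    (h3 : Nat.card {u : ↥(Subgroup.centralizer ({x} : Set G)) // orderOf u = 2} ≤ 3) :
    ∃ S : Sylow 2 G, (S : Subgroup G) ≤ Subgroup.centralizer ({x} : Set G) := by
  set C := Subgroup.centralizer ({x} : Set G) with hC
  have hxC : x ∈ C := Subgroup.mem_centralizer_singleton_iff.mpr rfl
  have P : Sylow 2 ↥C := Classical.arbitrary _
  set T : Subgroup G := (P : Subgroup ↥C).map C.subtype with hT
  have hTC : T ≤ C := Subgroup.map_subtype_le _
  have hTx : ∀ t ∈ T, t * x = x * t := fun t ht =>
    Subgroup.mem_centralizer_singleton_iff.mp (hTC ht)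
  have hT2 : IsPGroup 2 T := P.isPGroup'.map _
  obtain ⟨S, hTS⟩ := hT2.exists_le_sylow
  refine ⟨S, ?_⟩
  by_contra hSC
  -- (1) `S ⊓ C = T`
  have h1 : ∀ g, g ∈ (S : Subgroup G) → g * x = x * g → g ∈ T := by
    intro g hgS hgx
    have hQ : IsPGroup 2 (((S : Subgroup G) ⊓ C).subgroupOf C) :=
      (S.isPGroup'.to_le inf_le_left).comap_subtype
    have hPQ : (P : Subgroup ↥C) ≤ ((S : Subgroup G) ⊓ C).subgroupOf C := by
      intro c hc
      rw [Subgroup.mem_subgroupOf]
      exact ⟨hTS ⟨c, hc, rfl⟩, c.2⟩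
    have hmax := P.is_maximal' hQ hPQ
    have hgC : g ∈ C := Subgroup.mem_centralizer_singleton_iff.mpr hgx
    have : (⟨g, hgC⟩ : ↥C) ∈ (P : Subgroup ↥C) := by
      rw [← hmax, Subgroup.mem_subgroupOf]; exact ⟨hgS, hgC⟩
    exact ⟨⟨g, hgC⟩, this, rfl⟩
  -- (2) `x ∈ T`
  have hxT : x ∈ T := by
    have hcen : ∀ c : ↥C, c * (⟨x, hxC⟩ : ↥C) = ⟨x, hxC⟩ * c := by
      intro c
      apply Subtype.ext
      exact Subgroup.mem_centralizer_singleton_iff.mp c.2
    have := zpowers_normal_of_central hcen
    have h2 : IsPGroup 2 (Subgroup.zpowers (⟨x, hxC⟩ : ↥C)) := by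
      apply isPGroup_zpowers_of_order
      rw [Subgroup.orderOf_mk]; exact hx
    have := h2.le_sylow_of_normal P (Subgroup.mem_zpowers _)
    exact ⟨⟨x, hxC⟩, this, rfl⟩
  -- (3) normalizer growth
  have hne : ∃ s ∈ (S : Subgroup G), s ∉ T := by
    by_contra h
    push Not at h
    exact hSC (fun s hs => hTC (h s hs))
  obtain ⟨g, hgS, hgT, hgn, hgn'⟩ := exists_normalizing S T hTS hne
  have hvT : g * x * g⁻¹ ∈ T := hgn x hxT
  have ov : orderOf (g * x * g⁻¹) = 2 := by rw [order_conj]; exact hx
  have hvx : (g * x * g⁻¹) * x = x * (g * x * g⁻¹) := hTx _ hvT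
  have hxv : x ≠ g * x * g⁻¹ := by
    intro h
    apply hgT
    apply h1 g hgS
    have h' : g * x * g⁻¹ = x := h.symm
    rw [mul_inv_eq_iff_eq_mul] at h'
    exact h'
  have t := trip_of_ne x hx h3 ov hvx hxv
  set v := g * x * g⁻¹ with hv
  set u := x * v with hu
  -- (5) `T` centralizes `v`
  have hTv : ∀ t' ∈ T, t' * v = v * t' := by
    intro t' ht'
    exact (comm_conj_left g t' x).mp (hTx _ (hgn' t' ht'))
  -- (6) `C(x) ≤ C(v)`
  have hCv : ∀ c, c * x = x * c → c * v = v * c := by
    by_contra hcon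
    push Not at hcon
    obtain ⟨c, hcx, hcv⟩ := hcon
    -- conjugation by an element of `C` sends `v` to `v` or `u`
    have hact : ∀ b, b * x = x * b → b * v * b⁻¹ = v ∨ b * v * b⁻¹ = u := by
      intro b hb
      have hbC : Commute b x := hb
      have hcomm : Commute (b * v * b⁻¹) x := by
        have h1 : Commute (b * v * b⁻¹) (b * x * b⁻¹) := conj_commute (show Commute v x from hvx)
        have h2 : b * x * b⁻¹ = x := by rw [hbC.eq, mul_inv_cancel_right]
        rwa [h2] at h1
      rcases t.all _ hcomm.eq (by rw [order_conj]; exact ov) with h | h | h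
      · exfalso
        apply hxv
        have h2 : b * x * b⁻¹ = x := by rw [hbC.eq, mul_inv_cancel_right]
        have h3 : b * v * b⁻¹ = b * x * b⁻¹ := h.trans h2.symm
        exact (mul_left_cancel (mul_right_cancel h3)).symm
      · exact Or.inl h
      · exact Or.inr h
    have hfix : ∀ b, b * v * b⁻¹ = v ↔ b * v = v * b := fun b => mul_inv_eq_iff_eq_mul
    have hcu : c * v * c⁻¹ = u := by
      rcases hact c hcx with h | h
      · exact absurd ((hfix c).mp h) hcv
      · exact h
    let K : Subgroup G := Subgroup.centralizer ({v} : Set G)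
    have hK : ∀ b, b ∈ K ↔ b * v = v * b := fun b => Subgroup.mem_centralizer_singleton_iff
    have hidx : (K.subgroupOf C).index = 2 := by
      rw [Subgroup.index_eq_two_iff]
      refine ⟨⟨c, Subgroup.mem_centralizer_singleton_iff.mpr hcx⟩, fun b => ?_⟩
      have hbx : (b : G) * x = x * b := Subgroup.mem_centralizer_singleton_iff.mp b.2
      by_cases hb : (b : G) * v = v * b
      · right
        refine ⟨Subgroup.mem_subgroupOf.mpr ((hK _).mpr hb), ?_⟩
        intro hbc
        have hbc' : ((b : G) * c) * v = v * ((b : G) * c) := (hK _).mp (Subgroup.mem_subgroupOf.mp hbc)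
        apply hcv
        have h5 : (b : G) * (c * v) = (b : G) * (v * c) := by
          rw [← mul_assoc, hbc', ← mul_assoc, ← hb, mul_assoc, mul_assoc]
        exact mul_left_cancel h5
      · left
        refine ⟨?_, fun h => hb ((hK _).mp (Subgroup.mem_subgroupOf.mp h))⟩
        rw [Subgroup.mem_subgroupOf, hK]
        have hbu : (b : G) * v * (b : G)⁻¹ = u := by
          rcases hact b hbx with h | h
          · exact absurd ((hfix b).mp h) hb
          · exact h
        have hbuv : (b : G) * u * (b : G)⁻¹ = v := by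
          have hbC : Commute (b : G) x := hbx
          have h2 : (b : G) * x * (b : G)⁻¹ = x := by rw [hbC.eq, mul_inv_cancel_right]
          calc (b : G) * u * (b : G)⁻¹ = ((b : G) * x * (b : G)⁻¹) * ((b : G) * v * (b : G)⁻¹) := by
                rw [hu]; group
            _ = x * u := by rw [h2, hbu]
            _ = v := t.xu
        have : ((b : G) * c) * v * ((b : G) * c)⁻¹ = v := by
          calc ((b : G) * c) * v * ((b : G) * c)⁻¹ = (b : G) * (c * v * c⁻¹) * (b : G)⁻¹ := by group
            _ = v := by rw [hcu, hbuv]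
        exact (hfix _).mp this
    have hPK : (P : Subgroup ↥C) ≤ K.subgroupOf C := by
      intro c' hc'
      rw [Subgroup.mem_subgroupOf, hK]
      exact hTv _ ⟨c', hc', rfl⟩
    have hdvd := Subgroup.index_dvd_of_le hPK
    rw [hidx] at hdvd
    exact P.not_dvd_index hdvd
  -- (8) `g` centralizes `u`
  have hgu : g * u * g⁻¹ = u := by
    have hwT : g * v * g⁻¹ ∈ T := hgn v hvT
    have ow : orderOf (g * v * g⁻¹) = 2 := by rw [order_conj]; exact ov
    have hgu' : g * u * g⁻¹ = v * (g * v * g⁻¹) := by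
      rw [hu]
      calc g * (x * v) * g⁻¹ = (g * x * g⁻¹) * (g * v * g⁻¹) := by group
        _ = v * (g * v * g⁻¹) := by rw [← hv]
    rcases t.all _ (hTx _ hwT) ow with h | h | h
    · rw [hgu', h]; exact t.vx
    · exfalso
      apply hxv
      have : g * v * g⁻¹ = g * x * g⁻¹ := h
      exact (mul_left_cancel (mul_right_cancel this)).symm
    · exfalso
      have hgux : g * u * g⁻¹ = x := by rw [hgu', h]; exact t.vu
      -- `g ^ 3` centralizes `x`
      have h3x : (g * g * g) * x * (g * g * g)⁻¹ = x := by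
        calc (g * g * g) * x * (g * g * g)⁻¹ = g * (g * (g * x * g⁻¹) * g⁻¹) * g⁻¹ := by group
          _ = g * (g * v * g⁻¹) * g⁻¹ := by rw [← hv]
          _ = g * u * g⁻¹ := by rw [h]
          _ = x := hgux
      have hg3 : g ^ 3 = g * g * g := by rw [pow_succ, pow_two]
      have h3T : g ^ 3 ∈ T := by
        rw [hg3]
        apply h1 _ (Subgroup.mul_mem _ (Subgroup.mul_mem _ hgS hgS) hgS)
        exact mul_inv_eq_iff_eq_mul.mp h3x
      obtain ⟨k, hk⟩ := S.isPGroup' ⟨g, hgS⟩
      have hk' : g ^ (2 ^ k) = 1 := by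
        have := congrArg (fun y : ↥(S : Subgroup G) => (y : G)) hk
        simpa using this
      have hcop : Nat.Coprime 3 (orderOf g) := by
        apply Nat.Coprime.coprime_dvd_right (orderOf_dvd_of_pow_eq_one hk')
        apply Nat.Coprime.pow_right
        norm_num
      obtain ⟨m, hm⟩ := exists_pow_eq_self_of_coprime hcop
      apply hgT
      rw [← hm]
      exact Subgroup.pow_mem _ h3T m
  have hgu2 : g * u = u * g := mul_inv_eq_iff_eq_mul.mp hgu
  -- `C(x) ≤ C(u)` and `C(v) ≤ C(u)`
  have hCu : ∀ c, c * x = x * c → c * u = u * c := by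
    intro c hc
    exact comm_mul hc (hCv c hc)
  have hCvu : ∀ c, c * v = v * c → c * u = u * c := by
    intro c hc
    have h5 : (g⁻¹ * c * g) * x = x * (g⁻¹ * c * g) := (comm_conj_left g c x).mpr hc
    have h6 := (comm_conj_left g c u).mp (hCu _ h5)
    rwa [hgu] at h6
  -- (9)-(10) a conjugate of `u` outside `C(u)`
  have hex : ∃ k : G, ¬ ((k * u * k⁻¹) * u = u * (k * u * k⁻¹)) := by
    by_contra h
    push Not at h
    have htop := eq_top_of_conj_mem (ne_one_of_order t.ou) (Subgroup.centralizer ({u} : Set G))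
      (fun k => Subgroup.mem_centralizer_singleton_iff.mpr (h k))
    have hcent : ∀ a : G, a * u = u * a := by
      intro a
      have : a ∈ Subgroup.centralizer ({u} : Set G) := htop ▸ Subgroup.mem_top a
      exact Subgroup.mem_centralizer_singleton_iff.mp this
    exact t.hxu (eq_of_central t.ou hcent t.ox)
  obtain ⟨k, hk⟩ := hex
  have os : orderOf (k * u * k⁻¹) = 2 := by rw [order_conj]; exact t.ou
  by_cases hxs : IsConj x (k * u * k⁻¹)
  · -- then `x ~ u`, so `C(x) = C(u) ∋ g`
    have hxu : IsConj x u := hxs.trans (isConj_conj k u).symm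
    obtain ⟨m, hm⟩ := isConj_iff.mp hxu
    have hle : Subgroup.centralizer ({x} : Set G) ≤ Subgroup.centralizer ({u} : Set G) := by
      intro c hc
      rw [Subgroup.mem_centralizer_singleton_iff] at hc ⊢
      exact hCu c hc
    have hcard := card_centralizer_conj_le m x
    rw [hm] at hcard
    have heq := Subgroup.eq_of_le_of_card_ge hle hcard
    have : g ∈ Subgroup.centralizer ({x} : Set G) := by
      rw [heq, Subgroup.mem_centralizer_singleton_iff]; exact hgu2
    exact hgT (h1 g hgS (Subgroup.mem_centralizer_singleton_iff.mp this))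
  · obtain ⟨z, oz, hzx, hsz⟩ := Cfsg.Agent.S3276.exists_commuting_involution x (k * u * k⁻¹)
      (sq_of_order t.ox) (sq_of_order os) hxs
    rcases t.all z hzx.eq oz with h | h | h
    · exact hk (hCu _ (h ▸ hsz.eq))
    · exact hk (hCvu _ (h ▸ hsz.eq))
    · exact hk (h ▸ hsz.eq)


/-- Let G be a finite simple group and x an involution of G whose centralizer contains at most three involutions. Then C_G(x) contains a Sylow 2-subgroup of G, and all involutions of G are conjugate. -/
theorem result {G : Type*} [Group G] [Finite G] [IsSimpleGroup G] (x : G) (hx : orderOf x = 2)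
    (h3 : Nat.card {u : ↥(Subgroup.centralizer ({x} : Set G)) // orderOf u = 2} ≤ 3) :
    (∃ S : Sylow 2 G, (S : Subgroup G) ≤ Subgroup.centralizer ({x} : Set G)) ∧
      ∀ u v : G, orderOf u = 2 → orderOf v = 2 → IsConj u v := by
  obtain ⟨S, hS⟩ := part1 x hx h3
  refine ⟨⟨S, hS⟩, fun u v ou ov => ?_⟩
  exact (part2 x hx h3 S hS u ou).symm.trans (part2 x hx h3 S hS v ov)

end Cfsg.Agent.S3279
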