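import Cfsg.Statements.S3294
import Mathlib
import Cfsg.Agent.Lib.Helper54.QuatAut
import Cfsg.Agent.Lib.Helper54.Solv

set_option autoImplicit false
open Cfsg

namespace Cfsg.Agent.S3294

open Cfsg.Agent.Helper54

/-- A finite solvable group with `O(G) = 1` and generalized quaternion Sylow `2`-subgroups of order
at least `32` is a `2`-group. -/
theorem isPGroup_of_core_free {G : Type*} [Group G] [Finite G] (hsol : Group.IsSolvable G)
    (hO : Cfsg.pPrimeCore 2 G = ⊥) (T : Sylow 2 G) (n : ℕ) (hn : 3 ≤ n)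
    (e : (T : Subgroup G) ≃* QuaternionGroup (2 ^ n)) : IsPGroup 2 G := by
  have : Fact (Nat.Prime 2) := ⟨Nat.prime_two⟩
  have hPT : Cfsg.pCore 2 G ≤ (T : Subgroup G) := pCore_le_sylow T
  have hC : Subgroup.centralizer (Cfsg.pCore 2 G : Set G) ≤ Cfsg.pCore 2 G :=
    centralizer_pCore_le 2 hO
  have hP2 : IsPGroup 2 (Cfsg.pCore 2 G) := isPGroup_pCore
  -- odd order elements are trivial
  have hodd : ∀ g : G, Odd (orderOf g) → g = 1 := by
    intro g hg
    set P := Cfsg.pCore 2 G with hPdef
    let α : MulAut P := MulAut.conjNormal g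
    have hα : α ^ orderOf g = 1 := by
      show (MulAut.conjNormal g : MulAut P) ^ orderOf g = 1
      rw [← map_pow, pow_orderOf_eq_one, map_one]
    have hn1 : (P.subgroupOf (T : Subgroup G)).Normal := inferInstance
    let P' : Subgroup (QuaternionGroup (2 ^ n)) := (P.subgroupOf (T : Subgroup G)).map e.toMonoidHom
    have hP'n : P'.Normal := hn1.map e.toMonoidHom e.surjective
    let ϕ : P ≃* P' := (Subgroup.subgroupOfEquivOfLe hPT).symm.trans
      ((P.subgroupOf (T : Subgroup G)).equivMapOfInjective e.toMonoidHom e.injective)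
    have hα' : (MulAut.congr ϕ α) ^ orderOf g = 1 := by
      rw [← map_pow, hα, map_one]
    have h1 : MulAut.congr ϕ α = 1 := quat_odd_aut_trivial n hn P' _ (orderOf g) hg hα'
    have h2 : α = 1 := by
      apply (MulAut.congr ϕ).injective
      rw [h1, map_one]
    have h3 : g ∈ Subgroup.centralizer (P : Set G) := by
      rw [Subgroup.mem_centralizer_iff]
      intro h hh
      have h4 : α ⟨h, hh⟩ = ⟨h, hh⟩ := by rw [h2]; rfl
      have h5 := congrArg Subtype.val h4
      rw [MulAut.conjNormal_apply] at h5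
      -- g * h * g⁻¹ = h
      have h6 : g * h = h * g := by
        calc g * h = g * h * g⁻¹ * g := by group
          _ = h * g := by rw [h5]
      exact h6.symm
    have h4 : g ∈ P := hC h3
    obtain ⟨k, hk⟩ := (IsPGroup.iff_orderOf.mp hP2) ⟨g, h4⟩
    rw [Subgroup.orderOf_mk] at hk
    rw [hk] at hg
    rcases Nat.eq_zero_or_pos k with rfl | hkpos
    · rw [pow_zero] at hk; exact orderOf_eq_one_iff.mp hk
    · exfalso
      exact (Nat.not_odd_iff_even.mpr (Nat.even_pow.mpr ⟨even_two, hkpos.ne'⟩)) hg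
  intro g
  obtain ⟨a, m, hm, ham⟩ := Nat.exists_eq_two_pow_mul_odd (orderOf_pos g).ne'
  refine ⟨a, ?_⟩
  apply hodd
  rw [orderOf_pow' _ (by positivity), ham, Nat.gcd_eq_right (dvd_mul_right _ _),
    Nat.mul_div_cancel_left _ (by positivity)]
  exact hm

/-- A finite solvable group whose Sylow 2-subgroups are generalized quaternion of order at least 32 has a normal 2-complement. -/
theorem result {G : Type*} [Group G] [Finite G] (hsol : Group.IsSolvable G) (T : Sylow 2 G) (n : ℕ) (hn : 3 ≤ n) (hT : Nonempty ((T : Subgroup G) ≃* QuaternionGroup (2 ^ n))) : Cfsg.HasNormalPComplement 2 G := by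
  have hp2 : Fact (Nat.Prime 2) := ⟨Nat.prime_two⟩
  obtain ⟨e⟩ := hT
  set K := Cfsg.pPrimeCore 2 G with hKdef
  have hKcop : (Nat.card K).Coprime 2 := pPrimeCore_coprime 2
  have hTcard : ∃ j, Nat.card (T : Subgroup G) = 2 ^ j := ⟨_, T.card_eq_multiplicity⟩
  obtain ⟨j, hj⟩ := hTcard
  have hcop : (Nat.card K).Coprime (Nat.card (T : Subgroup G)) := by
    rw [hj]; exact Nat.Coprime.pow_right _ hKcop
  -- the image of `T` in the quotient
  have hsurj : Function.Surjective (QuotientGroup.mk' K) := QuotientGroup.mk'_surjective K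
  let Tbar : Sylow 2 (G ⧸ K) := T.mapSurjective hsurj
  let f : (T : Subgroup G) →* G ⧸ K := (QuotientGroup.mk' K).comp (T : Subgroup G).subtype
  have hfinj : Function.Injective f := by
    rw [← MonoidHom.ker_eq_bot_iff, eq_bot_iff]
    intro x hx
    rw [MonoidHom.mem_ker] at hx
    have h1 : (x : G) ∈ K := by
      have : (QuotientGroup.mk' K) (x : G) = 1 := hx
      rwa [QuotientGroup.mk'_apply, QuotientGroup.eq_one_iff] at this
    have h2 : (x : G) ∈ K ⊓ (T : Subgroup G) := ⟨h1, x.2⟩
    rw [(Subgroup.disjoint_of_coprime_natCard hcop).eq_bot] at h2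
    exact Subtype.ext (Subgroup.mem_bot.mp h2)
  have hrange : f.range = (Tbar : Subgroup (G ⧸ K)) := by
    show f.range = (T : Subgroup G).map (QuotientGroup.mk' K)
    rw [MonoidHom.range_comp, Subgroup.range_subtype]
  let ebar : (Tbar : Subgroup (G ⧸ K)) ≃* QuaternionGroup (2 ^ n) :=
    ((MulEquiv.subgroupCongr hrange).symm.trans (MonoidHom.ofInjective hfinj).symm).trans e
  have hsolq : Group.IsSolvable (G ⧸ K) := Group.isSolvable_of_surjective hsurj
  have hOq : Cfsg.pPrimeCore 2 (G ⧸ K) = ⊥ := pPrimeCore_quotient_eq_bot 2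
  have hpq : IsPGroup 2 (G ⧸ K) := isPGroup_of_core_free hsolq hOq Tbar n hn ebar
  -- card computations
  obtain ⟨i, hi⟩ := (IsPGroup.iff_card.mp hpq)
  have hTbar_card : Nat.card (Tbar : Subgroup (G ⧸ K)) = Nat.card (G ⧸ K) := by
    rw [Tbar.card_eq_multiplicity, hi, Nat.Prime.factorization_pow Nat.prime_two]
    simp
  have hTT : Nat.card (T : Subgroup G) = Nat.card (Tbar : Subgroup (G ⧸ K)) :=
    Nat.card_congr (e.trans ebar.symm).toEquiv
  have hcard : Nat.card K * Nat.card (T : Subgroup G) = Nat.card G := by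
    rw [hTT, hTbar_card, mul_comm]
    exact (Subgroup.card_eq_card_quotient_mul_card_subgroup K).symm
  exact ⟨T, K, inferInstance, Subgroup.isComplement'_of_coprime hcard hcop⟩

end Cfsg.Agent.S3294
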