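import Cfsg.Statements.S3299
import Cfsg.Agent.Lib.Helper32.LargeES

set_option autoImplicit false
open Cfsg

namespace Cfsg.Agent.S3299

/-- Let G be a finite group with no nontrivial 2-group quotient (O^2(G) = G), z an involution of G with H = C_G(z), and suppose E = O_2(H) is extraspecial with C_G(E) ≤ E and of order 2^(2n+1) with n ≥ 2. Then E is contained in every normal subgroup of H of index 2. -/
theorem result {G : Type*} [Group G] [Finite G] (hres : Cfsg.pResidual 2 G = ⊤) (z : G) (hz : orderOf z = 2)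
    (E : Subgroup G) (hE : E = (Cfsg.pCore 2 ↥(Subgroup.centralizer ({z} : Set G))).map (Subgroup.centralizer ({z} : Set G)).subtype)
    (hext : Cfsg.IsExtraspecial 2 ↥E) (hcent : Subgroup.centralizer (E : Set G) ≤ E) (n : ℕ) (hn : 2 ≤ n) (hcard : Nat.card ↥E = 2 ^ (2 * n + 1))
    (K : Subgroup G) (hKH : K ≤ Subgroup.centralizer ({z} : Set G))
    (hKn : ∀ h ∈ Subgroup.centralizer ({z} : Set G), K.map (MulAut.conj h).toMonoidHom = K)
    (hKi : K.relIndex (Subgroup.centralizer ({z} : Set G)) = 2) : E ≤ K := by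
  classical
  have : Fact (Nat.Prime 2) := ⟨Nat.prime_two⟩
  have hS := Cfsg.Agent.Helper32.LES.setting_of_hyps z hz E hE hext hcent
  have hes := hS.es
  have hcard32 : 32 ≤ Nat.card ↥E := by
    rw [hcard]
    calc 32 = 2 ^ 5 := by norm_num
      _ ≤ 2 ^ (2 * n + 1) := Nat.pow_le_pow_right (by norm_num) (by omega)
  -- the sign homomorphism with kernel `K`
  have hidx : (K.subgroupOf (Subgroup.centralizer ({z} : Set G))).index = 2 := hKi
  set ϕ := Cfsg.Agent.Helper32.LES.signHom (K.subgroupOf (Subgroup.centralizer ({z} : Set G))) hidx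
    with hϕ
  have hϕK : ∀ (y : G) (hy : y ∈ Subgroup.centralizer ({z} : Set G)), ϕ ⟨y, hy⟩ = 1 ↔ y ∈ K := by
    intro y hy
    rw [hϕ, Cfsg.Agent.Helper32.LES.signHom_eq_one_iff, Subgroup.mem_subgroupOf]
  have hKmul : ∀ a ∈ Subgroup.centralizer ({z} : Set G), ∀ b ∈ Subgroup.centralizer ({z} : Set G),
      (a * b ∈ K ↔ (a ∈ K ↔ b ∈ K)) := by
    intro a ha b hb
    have := Subgroup.mul_mem_iff_of_index_two hidx (a := ⟨a, ha⟩) (b := ⟨b, hb⟩)
    simpa [Subgroup.mem_subgroupOf] using this
  -- `z ∈ K`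
  have hzH : z ∈ Subgroup.centralizer ({z} : Set G) := hS.leH hes.mem
  have hzK : z ∈ K := by
    by_contra hzK
    -- then `E ∩ K` ... use a commutator
    obtain ⟨q, hq, hqz⟩ : ∃ q ∈ E, q ≠ 1 ∧ q ≠ z := by
      by_contra hcon
      push Not at hcon
      have hsub : (E : Set G) ⊆ (({1, z} : Finset G) : Set G) := by
        intro y hy
        simp only [Finset.coe_insert, Finset.coe_singleton, Set.mem_insert_iff,
          Set.mem_singleton_iff]
        by_cases h1 : y = 1
        · exact Or.inl h1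
        · exact Or.inr (hcon y hy h1)
      have hle : Nat.card E ≤ 2 := by
        have h1 : Nat.card E = (E : Set G).ncard := rfl
        rw [h1]
        calc (E : Set G).ncard ≤ ((({1, z} : Finset G) : Set G)).ncard :=
              Set.ncard_le_ncard hsub (Finset.finite_toSet _)
          _ = ({1, z} : Finset G).card := Set.ncard_coe_finset _
          _ ≤ 2 := Finset.card_le_two
      omega
    obtain ⟨q', hq', hqq'⟩ := hes.exists_conj hq hqz.1 hqz.2
    -- `z = q' q q'⁻¹ q⁻¹`
    have hcomm : q' * q * q'⁻¹ * q⁻¹ = z := by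
      rw [hqq']; group
    have h1 := Cfsg.Agent.Helper32.LES.Setting.extHom_commutator ϕ (hS.leH hq') (hS.leH hq)
    rw [congrArg (Cfsg.Agent.Helper70.extHom ϕ) hcomm,
      Cfsg.Agent.Helper70.extHom_of_mem ϕ hzH] at h1
    exact hzK ((hϕK z hzH).mp h1)
  intro x hxE
  by_contra hxK
  obtain ⟨u, huE, huK, hu2⟩ := hS.exists_involution_not_mem hcard32 K hKmul hzK hxE hxK
  have hu1 : u ≠ 1 := fun e => huK (e ▸ K.one_mem)
  have huz : u ≠ z := fun e => huK (e ▸ hzK)
  have htr := hS.transfer_involution_eq hcard32 ϕ huE hu1 huz hu2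
  rw [Cfsg.Agent.Helper32.LES.hom_eq_one_of_pResidual hres] at htr
  exact huK ((hϕK u (hS.leH huE)).mp htr.symm)

end Cfsg.Agent.S3299
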