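import Cfsg.Statements.S3303
import Cfsg.Agent.S3305
import Cfsg.Agent.Lib.Helper55.Solv

set_option autoImplicit false
open Cfsg

namespace Cfsg.Agent.S3303

open Cfsg.Agent.Helper55

/-- Let G be a finite solvable group in which the intersection of any two distinct Sylow 2-subgroups is cyclic. Then G/O(G) has a normal Sylow 2-subgroup, where O(G) is the largest normal subgroup of odd order. -/
theorem result {G : Type*} [Group G] [Finite G] (hs : Group.IsSolvable G)
    (hC : ∀ S T : Sylow 2 G, S ≠ T → IsCyclic ↥((S : Subgroup G) ⊓ (T : Subgroup G))) :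
    ∃ P : Sylow 2 (G ⧸ Cfsg.oddCore G), (P : Subgroup (G ⧸ Cfsg.oddCore G)).Normal := by
  have hC' := Cfsg.Agent.S3305.result hC (Cfsg.oddCore G)
  have hs' : Group.IsSolvable (G ⧸ Cfsg.oddCore G) := inferInstance
  have hO : pPrimeCore 2 (G ⧸ Cfsg.oddCore G) = ⊥ := pPrimeCore_quotient_eq_bot 2
  by_cases h : ∃ S T : Sylow 2 (G ⧸ Cfsg.oddCore G), S ≠ T
  · exfalso
    obtain ⟨S, T, hne⟩ := h
    have hcyc := hC' S T hne
    have hle : pCore 2 (G ⧸ Cfsg.oddCore G) ≤ (S : Subgroup _) ⊓ (T : Subgroup _) :=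
      le_inf (pCore_le_sylow S) (pCore_le_sylow T)
    have hcyc2 : IsCyclic (pCore 2 (G ⧸ Cfsg.oddCore G)) :=
      isCyclic_of_injective (Subgroup.inclusion hle) (Subgroup.inclusion_injective hle)
    have h2 : IsPGroup 2 (G ⧸ Cfsg.oddCore G) := isPGroup_two_of_cyclic_core hs' hO hcyc2
    have htop : IsPGroup 2 (⊤ : Subgroup (G ⧸ Cfsg.oddCore G)) := h2.to_subgroup _
    have hS : (S : Subgroup (G ⧸ Cfsg.oddCore G)) = ⊤ := (S.3 htop le_top).symm
    have hT : (T : Subgroup (G ⧸ Cfsg.oddCore G)) = ⊤ := (T.3 htop le_top).symm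
    exact hne (Sylow.ext (hS.trans hT.symm))
  · push Not at h
    have : Subsingleton (Sylow 2 (G ⧸ Cfsg.oddCore G)) := ⟨h⟩
    let P : Sylow 2 (G ⧸ Cfsg.oddCore G) := Classical.arbitrary _
    exact ⟨P, Sylow.normal_of_subsingleton P⟩

end Cfsg.Agent.S3303
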