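import Cfsg.Statements.S3309
import Cfsg.Agent.S0111

set_option autoImplicit false
open Cfsg

namespace Cfsg.Agent.S3309

open DihedralGroup

/-- The concrete group `Z₂ × D₈`. -/
abbrev C := Multiplicative (ZMod 2) × DihedralGroup 4

def ca : C := (Multiplicative.ofAdd 1, 1)
def cx : C := (1, r 1)
def cy : C := (1, sr 0)
def cz : C := (1, r 2)

/-! ### Homomorphisms `C →* Z₂` -/

def gamFun : C → Multiplicative (ZMod 2) := fun c =>
  match c.2 with
  | r _ => 1
  | sr _ => Multiplicative.ofAdd 1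

def parFun : C → Multiplicative (ZMod 2) := fun c =>
  match c.2 with
  | r i => Multiplicative.ofAdd ((i.val : ℕ) : ZMod 2)
  | sr i => Multiplicative.ofAdd ((i.val : ℕ) : ZMod 2)

/-- kernel `⟨a, x⟩`. -/
def phi1 : C →* Multiplicative (ZMod 2) := MonoidHom.mk' gamFun (by decide)
/-- kernel `⟨x, y⟩`. -/
def phi4 : C →* Multiplicative (ZMod 2) := MonoidHom.mk' (fun c => c.1) (by decide)
/-- kernel `⟨ax, y⟩`. -/
def phi5 : C →* Multiplicative (ZMod 2) := MonoidHom.mk' (fun c => c.1 * parFun c) (by decide)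
/-- kernel `⟨x, ay⟩`. -/
def phi6 : C →* Multiplicative (ZMod 2) := MonoidHom.mk' (fun c => c.1 * gamFun c) (by decide)
/-- kernel `⟨ax, ay⟩`. -/
def phi7 : C →* Multiplicative (ZMod 2) :=
  MonoidHom.mk' (fun c => c.1 * parFun c * gamFun c) (by decide)

theorem sq_cases : ∀ c : C, c ^ 2 = 1 ∨ c ^ 2 = cz := by decide

theorem central_invol : ∀ c : C, (∀ d : C, c * d = d * c) → c ^ 2 = 1 → c ≠ 1 →
    (c = ca ∨ c = cz ∨ c = ca * cz) := by decide

set_option synthInstance.maxSize 2000 in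
set_option synthInstance.maxHeartbeats 2000000 in
theorem L1 : ∀ c p q : C, ((c = ca ∨ c = cz ∨ c = ca * cz) ∧ p ^ 2 = 1 ∧ q ^ 2 = 1 ∧ p * q = q * p ∧
    p ≠ 1 ∧ q ≠ 1 ∧ p ≠ q ∧ p ≠ c ∧ q ≠ c ∧ p * q ≠ c) →
    (cz = p ∨ cz = q ∨ cz = p * q ∨ cz = c ∨ cz = c * p ∨ cz = c * q ∨ cz = c * p * q) := by
  decide

theorem ker1 : ∀ v : C, phi1 v = 1 → v ^ 2 = 1 → v ≠ 1 → (v = ca ∨ v = cz ∨ v = ca * cz) := by
  decide
theorem ker4 : ∀ v : C, phi4 v = 1 → v ^ 2 = 1 → v ≠ 1 →
    (v = cz ∨ v = cy ∨ v = cy * cz ∨ v = cy * cx ∨ v = cy * cx * cz) := by decide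
theorem ker5 : ∀ v : C, phi5 v = 1 → v ^ 2 = 1 → v ≠ 1 →
    (v = cz ∨ v = cy ∨ v = cy * cz ∨ v = ca * (cy * cx) ∨ v = ca * (cy * cx) * cz) := by decide
theorem ker6 : ∀ v : C, phi6 v = 1 → v ^ 2 = 1 → v ≠ 1 →
    (v = cz ∨ v = ca * cy ∨ v = ca * cy * cz ∨ v = ca * (cy * cx) ∨ v = ca * (cy * cx) * cz) := by
  decide
theorem ker7 : ∀ v : C, phi7 v = 1 → v ^ 2 = 1 → v ≠ 1 →
    (v = cz ∨ v = ca * cy ∨ v = ca * cy * cz ∨ v = cy * cx ∨ v = cy * cx * cz) := by decide


/-! ### The embedding of `C` onto the Sylow subgroup, and fusion -/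

section fusion

variable {G : Type*} [Group G] (S : Sylow 2 G) (e : ↥(S : Subgroup G) ≃* C)

/-- The embedding `C → G` with image `S`. -/
def emb : C →* G := (S : Subgroup G).subtype.comp e.symm.toMonoidHom

theorem emb_mem (c : C) : emb S e c ∈ (S : Subgroup G) := (e.symm c).2

theorem emb_inj : Function.Injective (emb S e) := by
  intro c d h
  have h1 : e.symm c = e.symm d := Subtype.ext h
  exact e.symm.injective h1

theorem exists_of_mem {g : G} (hg : g ∈ (S : Subgroup G)) : ∃ c : C, emb S e c = g :=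
  ⟨e ⟨g, hg⟩, by simp [emb]⟩

/-- Fusion: `ι c` and `ι d` are conjugate in `G`. -/
def Fus (c d : C) : Prop := ∃ g : G, g * emb S e c * g⁻¹ = emb S e d

theorem Fus.refl (c : C) : Fus S e c c := ⟨1, by simp⟩

variable {S e} in
theorem Fus.symm {c d : C} (h : Fus S e c d) : Fus S e d c := by
  obtain ⟨g, hg⟩ := h
  exact ⟨g⁻¹, by rw [← hg]; group⟩

variable {S e} in
theorem Fus.trans {c d f : C} (h1 : Fus S e c d) (h2 : Fus S e d f) : Fus S e c f := by
  obtain ⟨g, hg⟩ := h1
  obtain ⟨k, hk⟩ := h2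
  exact ⟨k * g, by rw [← hk, ← hg]; group⟩

theorem Fus.conj (s c : C) : Fus S e (s * c * s⁻¹) c :=
  ⟨emb S e s⁻¹, by simp [map_mul, mul_assoc]⟩

variable {S e} in
theorem Fus.orderOf_eq {c d : C} (h : Fus S e c d) : orderOf c = orderOf d := by
  obtain ⟨g, hg⟩ := h
  have h1 : orderOf (emb S e c) = orderOf c := orderOf_injective _ (emb_inj S e) c
  have h2 : orderOf (emb S e d) = orderOf d := orderOf_injective _ (emb_inj S e) d
  have h3 : orderOf (g * emb S e c * g⁻¹) = orderOf (emb S e c) := by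
    have := (MulAut.conj g).orderOf_eq (emb S e c)
    rwa [MulAut.conj_apply] at this
  rw [← h1, ← h2, ← hg, h3]

theorem no_index_two [Finite G] [IsSimpleGroup G] (hG : ¬ IsMulCommutative G) (M : Subgroup G)
    (hM : M.Normal) : M.index ≠ 2 := by
  intro h
  rcases hM.eq_bot_or_eq_top with h1 | h1
  · rw [h1, Subgroup.index_bot] at h
    have : Fact (Nat.Prime 2) := ⟨Nat.prime_two⟩
    have hc : IsCyclic G := isCyclic_of_prime_card h
    exact hG inferInstance
  · rw [h1, Subgroup.index_top] at h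
    omega

theorem thompson [Finite G] [IsSimpleGroup G] (hG : ¬ IsMulCommutative G)
    (φ : C →* Multiplicative (ZMod 2)) (hφ : Function.Surjective φ) (c : C) (hc : orderOf c = 2)
    (hφc : φ c ≠ 1) : ∃ v : C, φ v = 1 ∧ Fus S e c v := by
  set K : Subgroup ↥(S : Subgroup G) := (φ.comp e.toMonoidHom).ker with hK
  set Q : Subgroup G := K.map (S : Subgroup G).subtype with hQ
  have hQP : Q ≤ (S : Subgroup G) := Subgroup.map_subtype_le K
  have hsurj : Function.Surjective (φ.comp e.toMonoidHom) := hφ.comp e.surjective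
  have hQi : Q.relIndex (S : Subgroup G) = 2 := by
    have h1 : Q.subgroupOf (S : Subgroup G) = K :=
      Subgroup.comap_map_eq_self_of_injective (Subgroup.subtype_injective _) K
    rw [Subgroup.relIndex, h1, hK, Subgroup.index_ker, MonoidHom.range_eq_top.mpr hsurj,
      Subgroup.card_top]
    simp
  have hu : orderOf (emb S e c) = 2 := by
    rw [orderOf_injective _ (emb_inj S e) c, hc]
  have huQ : emb S e c ∉ Q := by
    rintro ⟨s, hs, hse⟩
    have h1 : s = e.symm c := Subtype.ext hse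
    rw [SetLike.mem_coe, hK, MonoidHom.mem_ker, h1] at hs
    simp at hs
    exact hφc hs
  rcases Cfsg.Agent.S0111.result S Q hQP hQi (emb S e c) hu (emb_mem S e c) huQ with
    ⟨M, hMn, hMi, -⟩ | ⟨g, hg⟩
  · exact absurd hMi (no_index_two hG M hMn)
  · obtain ⟨s, hs, hse⟩ := hg
    refine ⟨e s, ?_, g, ?_⟩
    · rw [SetLike.mem_coe, hK, MonoidHom.mem_ker] at hs
      simpa using hs
    · rw [← hse]; simp [emb]

theorem emb_central_comm {c : C} (hc : ∀ d : C, c * d = d * c) {s : G}
    (hs : s ∈ (S : Subgroup G)) : s * emb S e c = emb S e c * s := by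
  obtain ⟨d, rfl⟩ := exists_of_mem S e hs
  rw [← map_mul, ← map_mul, hc d]

theorem emb_central_mem_centralizer {c : C} (hc : ∀ d : C, c * d = d * c) :
    emb S e c ∈ Subgroup.centralizer ((S : Subgroup G) : Set G) := by
  rw [Subgroup.mem_centralizer_iff]
  intro s hs
  exact emb_central_comm S e hc hs

theorem norm_act {m : G} (hm : m ∈ Subgroup.normalizer ((S : Subgroup G) : Set G)) (c : C) :
    ∃ d : C, m * emb S e c * m⁻¹ = emb S e d := by
  have h1 := (Subgroup.mem_set_normalizer_iff.mp hm (emb S e c)).mp (emb_mem S e c)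
  obtain ⟨d, hd⟩ := exists_of_mem S e h1
  exact ⟨d, hd.symm⟩

theorem cz_ne_one : cz ≠ 1 := by decide
theorem cz_sq : cz ^ 2 = 1 := by decide
theorem cx_sq : cx ^ 2 = cz := by decide
theorem ca_central : ∀ d : C, ca * d = d * ca := by decide
theorem cz_central : ∀ d : C, cz * d = d * cz := by decide
theorem caz_central : ∀ d : C, (ca * cz) * d = d * (ca * cz) := by decide
theorem ca_ne_cz : ca ≠ cz := by decide
theorem ca_ne_caz : ca ≠ ca * cz := by decide
theorem cz_ne_caz : cz ≠ ca * cz := by decide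

theorem norm_fix_z {m : G} (hm : m ∈ Subgroup.normalizer ((S : Subgroup G) : Set G)) :
    m * emb S e cz * m⁻¹ = emb S e cz := by
  obtain ⟨d, hd⟩ := norm_act S e hm cx
  have h1 : m * emb S e cz * m⁻¹ = emb S e (d ^ 2) := by
    rw [map_pow, ← hd, ← cx_sq, map_pow, conj_pow]
  rcases sq_cases d with h2 | h2
  · exfalso
    rw [h2, map_one] at h1
    have h3 : emb S e cz = 1 := by
      have : emb S e cz = m⁻¹ * (m * emb S e cz * m⁻¹) * m := by group
      rw [this, h1]; group
    rw [← map_one (emb S e)] at h3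
    exact cz_ne_one (emb_inj S e h3)
  · rw [h1, h2]

theorem two_elt_normalizer_mem [Finite G] {y : G} {j : ℕ} (hy : y ^ (2 ^ j) = 1)
    (hn : y ∈ Subgroup.normalizer ((S : Subgroup G) : Set G)) : y ∈ (S : Subgroup G) := by
  have hdvd : orderOf y ∣ 2 ^ j := orderOf_dvd_of_pow_eq_one hy
  obtain ⟨i, -, hi⟩ := (Nat.dvd_prime_pow Nat.prime_two).mp hdvd
  have hP : IsPGroup 2 (Subgroup.zpowers y) := by
    apply IsPGroup.of_card (n := i)
    rw [Nat.card_zpowers, hi]
  have h1 := hP.inf_normalizer_sylow S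
  have h2 : y ∈ Subgroup.zpowers y ⊓ Subgroup.normalizer ((S : Subgroup G) : Set G) :=
    ⟨Subgroup.mem_zpowers y, hn⟩
  have h3 : y ∈ Subgroup.zpowers y ⊓ (S : Subgroup G) := by
    have : Subgroup.zpowers y ⊓ Subgroup.normalizer ((S : Subgroup G) : Set G) =
        Subgroup.zpowers y ⊓ (S : Subgroup G) := h1
    rw [← this]; exact h2
  exact h3.2

theorem no_swap [Finite G] {m : G} (hm : m ∈ Subgroup.normalizer ((S : Subgroup G) : Set G))
    (h : m * emb S e ca * m⁻¹ = emb S e (ca * cz)) : False := by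
  have hZ := norm_fix_z S e hm
  have hZ2 : emb S e cz ^ 2 = 1 := by rw [← map_pow, cz_sq, map_one]
  have hpow : ∀ k : ℕ, m ^ k * emb S e ca * (m ^ k)⁻¹ = emb S e ca * emb S e cz ^ k := by
    intro k
    induction k with
    | zero => simp
    | succ k ih =>
      have h1 : m ^ (k + 1) * emb S e ca * (m ^ (k + 1))⁻¹ =
          m * (m ^ k * emb S e ca * (m ^ k)⁻¹) * m⁻¹ := by
        rw [pow_succ']; group
      rw [h1, ih]
      have h2 : m * (emb S e ca * emb S e cz ^ k) * m⁻¹ =
          (m * emb S e ca * m⁻¹) * (m * emb S e cz * m⁻¹) ^ k := by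
        rw [conj_pow]; group
      rw [h2, h, hZ, map_mul, pow_succ', mul_assoc]
  have hord : orderOf m ≠ 0 := (orderOf_pos m).ne'
  obtain ⟨j, t, ht, hjt⟩ := Nat.exists_eq_two_pow_mul_odd hord
  have hy : (m ^ t) ^ (2 ^ j) = 1 := by
    rw [← pow_mul, mul_comm, ← hjt, pow_orderOf_eq_one]
  have hmt : m ^ t ∈ (S : Subgroup G) :=
    two_elt_normalizer_mem S hy (Subgroup.pow_mem _ hm t)
  have h1 := hpow t
  have h2 : m ^ t * emb S e ca * (m ^ t)⁻¹ = emb S e ca := by
    rw [emb_central_comm S e ca_central hmt]; group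
  have h3 : emb S e cz ^ t = emb S e cz := by
    obtain ⟨r, hr⟩ := ht
    rw [hr, pow_succ, pow_mul, hZ2, one_pow, one_mul]
  rw [h2, h3] at h1
  have h4 : emb S e cz = 1 := by
    have := mul_left_cancel (a := emb S e ca) (b := 1) (c := emb S e cz) (by rw [mul_one]; exact h1)
    exact this.symm
  rw [← map_one (emb S e)] at h4
  exact cz_ne_one (emb_inj S e h4)

theorem central_fus_eq [Finite G] {c1 c2 : C} (h1 : c1 = ca ∨ c1 = cz ∨ c1 = ca * cz)
    (h2 : c2 = ca ∨ c2 = cz ∨ c2 = ca * cz) (hf : Fus S e c1 c2) : c1 = c2 := by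
  have hc1 : ∀ d : C, c1 * d = d * c1 := by
    rcases h1 with rfl | rfl | rfl
    · exact ca_central
    · exact cz_central
    · exact caz_central
  have hc2 : ∀ d : C, c2 * d = d * c2 := by
    rcases h2 with rfl | rfl | rfl
    · exact ca_central
    · exact cz_central
    · exact caz_central
  obtain ⟨g0, hg0⟩ := hf
  obtain ⟨n, hn, hnx⟩ := S.conj_eq_normalizer_conj_of_mem_centralizer (emb S e c1) g0⁻¹
    (emb_central_mem_centralizer S e hc1)
    (by rw [inv_inv, hg0]; exact emb_central_mem_centralizer S e hc2)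
  have hm : n⁻¹ ∈ Subgroup.normalizer ((S : Subgroup G) : Set G) := inv_mem hn
  have hmx : n⁻¹ * emb S e c1 * n⁻¹⁻¹ = emb S e c2 := by
    rw [← hg0, inv_inv]; rw [inv_inv] at hnx; exact hnx.symm
  have hZ := norm_fix_z S e hm
  have hcancel : ∀ X Y : G, n⁻¹ * X * n⁻¹⁻¹ = n⁻¹ * Y * n⁻¹⁻¹ → X = Y := by
    intro X Y h
    exact mul_left_cancel (mul_right_cancel h)
  rcases h1 with rfl | rfl | rfl <;> rcases h2 with rfl | rfl | rfl
  · rfl
  · exfalso
    rw [← hZ] at hmx
    exact ca_ne_cz (emb_inj S e (hcancel _ _ hmx))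
  · exfalso
    exact no_swap S e hm hmx
  · exfalso
    rw [hZ] at hmx
    exact ca_ne_cz (emb_inj S e hmx).symm
  · rfl
  · exfalso
    rw [hZ] at hmx
    exact cz_ne_caz (emb_inj S e hmx)
  · exfalso
    apply no_swap S e hm
    have h3 : n⁻¹ * emb S e ca * n⁻¹⁻¹ =
        (n⁻¹ * emb S e (ca * cz) * n⁻¹⁻¹) * (n⁻¹ * emb S e cz * n⁻¹⁻¹)⁻¹ := by
      rw [map_mul]; group
    rw [h3, hmx, hZ, ← map_inv, ← map_mul]
    congr 1
  · exfalso
    rw [← hZ] at hmx
    exact cz_ne_caz (emb_inj S e (hcancel _ _ hmx)).symm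
  · rfl

theorem mem_smul_sylow' {H : Type*} [Group H] {p : ℕ} (g : H) (T : Sylow p H) (x : H) :
    x ∈ ((g • T : Sylow p H) : Subgroup H) ↔ g⁻¹ * x * g ∈ (T : Subgroup H) := by
  rw [Sylow.coe_subgroup_smul, Subgroup.mem_pointwise_smul_iff_inv_smul_mem]
  simp [MulAut.smul_def]

theorem isPGroup_C : IsPGroup 2 C := by
  apply IsPGroup.of_card (n := 4)
  rw [Nat.card_eq_fintype_card]
  decide

theorem extremal [Finite G] {u c : C} (hc : ∀ d : C, c * d = d * c) (hf : Fus S e u c) :
    ∃ g : G, g * emb S e u * g⁻¹ = emb S e c ∧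
      ∀ w : C, w * u = u * w → g * emb S e w * g⁻¹ ∈ (S : Subgroup G) := by
  obtain ⟨g0, hg0⟩ := hf
  set Cc : Subgroup G := Subgroup.centralizer {emb S e c} with hCc
  have hSC : (S : Subgroup G) ≤ Cc := by
    intro s hs
    rw [hCc, Subgroup.mem_centralizer_iff]
    intro x hx
    rw [Set.mem_singleton_iff] at hx
    rw [hx]
    exact (emb_central_comm S e hc hs).symm
  set D : Subgroup G :=
    (((Subgroup.centralizer {u} : Subgroup C).map (emb S e)).map (MulAut.conj g0).toMonoidHom)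
    with hD
  have hD2 : IsPGroup 2 D := ((isPGroup_C.to_subgroup _).map _).map _
  have hDmem : ∀ w : C, w * u = u * w → g0 * emb S e w * g0⁻¹ ∈ D := by
    intro w hw
    refine ⟨emb S e w, ⟨w, ?_, rfl⟩, ?_⟩
    · rw [SetLike.mem_coe, Subgroup.mem_centralizer_iff]
      intro x hx
      rw [Set.mem_singleton_iff] at hx
      rw [hx]; exact hw.symm
    · simp [MulAut.conj_apply]
  have hDC : D ≤ Cc := by
    rintro _ ⟨_, ⟨w, hw, rfl⟩, rfl⟩
    rw [SetLike.mem_coe, Subgroup.mem_centralizer_iff] at hw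
    have hwu : u * w = w * u := hw u rfl
    rw [hCc, Subgroup.mem_centralizer_iff]
    intro x hx
    rw [Set.mem_singleton_iff] at hx
    rw [hx, ← hg0]
    simp only [MulEquiv.coe_toMonoidHom, MulAut.conj_apply]
    have : g0 * emb S e u * g0⁻¹ * (g0 * emb S e w * g0⁻¹) = g0 * emb S e (u * w) * g0⁻¹ := by
      rw [map_mul]; group
    rw [this, hwu, map_mul]; group
  have hD2' : IsPGroup 2 (D.subgroupOf Cc) := hD2.comap_subtype
  obtain ⟨Q, hQ⟩ := hD2'.exists_le_sylow
  obtain ⟨h, hh⟩ := MulAction.exists_smul_eq Cc (S.subtype hSC) Q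
  have hcomm : (h : G) * emb S e c = emb S e c * (h : G) := by
    have h5 : (h : G) ∈ Subgroup.centralizer {emb S e c} := h.2
    rw [Subgroup.mem_centralizer_iff] at h5
    exact (h5 _ rfl).symm
  refine ⟨(h : G)⁻¹ * g0, ?_, ?_⟩
  · have : (h : G)⁻¹ * g0 * emb S e u * ((h : G)⁻¹ * g0)⁻¹ =
        (h : G)⁻¹ * (g0 * emb S e u * g0⁻¹) * (h : G) := by group
    rw [this, hg0, mul_assoc, ← hcomm]; group
  · intro w hw
    have h1 : (⟨g0 * emb S e w * g0⁻¹, hDC (hDmem w hw)⟩ : Cc) ∈ D.subgroupOf Cc := by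
      rw [Subgroup.mem_subgroupOf]; exact hDmem w hw
    have h2 := hQ h1
    rw [← hh, mem_smul_sylow', Sylow.coe_subtype, Subgroup.mem_subgroupOf] at h2
    have : (h : G)⁻¹ * g0 * emb S e w * ((h : G)⁻¹ * g0)⁻¹ =
        (h : G)⁻¹ * (g0 * emb S e w * g0⁻¹) * (h : G) := by group
    rw [this]
    simpa using h2

theorem phi1_surj : Function.Surjective phi1 := by decide
theorem phi4_surj : Function.Surjective phi4 := by decide
theorem phi5_surj : Function.Surjective phi5 := by decide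
theorem phi6_surj : Function.Surjective phi6 := by decide
theorem phi7_surj : Function.Surjective phi7 := by decide

theorem ca_ne_one : ca ≠ 1 := by decide
theorem ca_sq : ca ^ 2 = 1 := by decide
theorem ca_cz_comm : ca * cz = cz * ca := by decide
theorem caz_ne_one : ca * cz ≠ 1 := by decide

theorem sq_eq_one_of_orderOf {c : C} (h : orderOf c = 2) : c ^ 2 = 1 := by
  have h1 := pow_orderOf_eq_one c
  rwa [h] at h1

theorem ne_one_of_orderOf {c : C} (h : orderOf c = 2) : c ≠ 1 := by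
  rintro rfl
  rw [orderOf_one] at h
  omega

theorem key [Finite G] [IsSimpleGroup G] (hG : ¬ IsMulCommutative G) (u : C)
    (hu2 : orderOf u = 2) (hu1 : phi1 u ≠ 1) (hua : ca * u = u * ca) (huz : cz * u = u * cz)
    (hne1 : u ≠ ca) (hne2 : u ≠ cz) (hne3 : u ≠ ca * cz)
    (s : C) (hs : s * u * s⁻¹ = u * cz) (hs' : s * (ca * u) * s⁻¹ = u * ca * cz) :
    Fus S e u cz ∨ Fus S e (ca * u) cz := by
  obtain ⟨c, hc1, hfc⟩ := thompson S e hG phi1 phi1_surj u hu2 hu1
  have hc2 : orderOf c = 2 := by rw [← hfc.orderOf_eq, hu2]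
  have hc : c = ca ∨ c = cz ∨ c = ca * cz :=
    ker1 c hc1 (sq_eq_one_of_orderOf hc2) (ne_one_of_orderOf hc2)
  have hcen : ∀ d : C, c * d = d * c := by
    rcases hc with rfl | rfl | rfl
    · exact ca_central
    · exact cz_central
    · exact caz_central
  obtain ⟨g, hgu, hgw⟩ := extremal S e hcen hfc
  obtain ⟨p, hp⟩ := exists_of_mem S e (hgw ca hua)
  obtain ⟨q, hq⟩ := exists_of_mem S e (hgw cz huz)
  set ψ : C →* G := (MulAut.conj g).toMonoidHom.comp (emb S e) with hψ
  have hψa : ∀ w : C, ψ w = g * emb S e w * g⁻¹ := fun w => by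
    simp [hψ, MulAut.conj_apply]
  have hψinj : Function.Injective ψ := by
    intro w1 w2 h
    rw [hψa, hψa] at h
    exact emb_inj S e (mul_left_cancel (mul_right_cancel h))
  have hfus : ∀ w v : C, ψ w = emb S e v → Fus S e w v := fun w v h => ⟨g, by rw [← hψa]; exact h⟩
  rw [← hψa] at hp hq hgu
  have hp2 : p ^ 2 = 1 := by
    apply emb_inj S e
    rw [map_pow, hp, ← map_pow, ca_sq, map_one, map_one]
  have hq2 : q ^ 2 = 1 := by
    apply emb_inj S e
    rw [map_pow, hq, ← map_pow, cz_sq, map_one, map_one]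
  have hpq : p * q = q * p := by
    apply emb_inj S e
    rw [map_mul, map_mul, hp, hq, ← map_mul, ← map_mul, ca_cz_comm]
  have hp1 : p ≠ 1 := by
    rintro rfl
    rw [map_one, ← map_one ψ] at hp
    exact ca_ne_one (hψinj hp.symm)
  have hq1 : q ≠ 1 := by
    rintro rfl
    rw [map_one, ← map_one ψ] at hq
    exact cz_ne_one (hψinj hq.symm)
  have hpq' : p ≠ q := by
    rintro rfl
    rw [hp] at hq
    exact ca_ne_cz (hψinj hq)
  have hpc : p ≠ c := by
    rintro rfl
    rw [← hgu] at hp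
    exact hne1 (hψinj hp)
  have hqc : q ≠ c := by
    rintro rfl
    rw [← hgu] at hq
    exact hne2 (hψinj hq)
  have hpqc : p * q ≠ c := by
    intro h
    have h1 : ψ (ca * cz) = ψ u := by
      rw [map_mul, ← hp, ← hq, ← map_mul, h, hgu]
    exact hne3 (hψinj h1).symm
  have hconj : Fus S e (u * cz) u := by rw [← hs]; exact Fus.conj S e s u
  have hconj' : Fus S e (u * ca * cz) (ca * u) := by rw [← hs']; exact Fus.conj S e s (ca * u)
  rcases L1 c p q ⟨hc, hp2, hq2, hpq, hp1, hq1, hpq', hpc, hqc, hpqc⟩ with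
    h | h | h | h | h | h | h
  · -- cz = p
    exfalso
    have : Fus S e ca cz := hfus _ _ (by rw [h, hp])
    exact ca_ne_cz (central_fus_eq S e (Or.inl rfl) (Or.inr (Or.inl rfl)) this)
  · -- cz = q
    exfalso
    have h1 : Fus S e (u * cz) (c * cz) := hfus _ _ (by rw [map_mul, map_mul, hgu, ← hq, ← h])
    have h2 : Fus S e c (c * cz) := (hfc.symm.trans hconj.symm).trans h1
    rcases hc with rfl | rfl | rfl
    · exact ca_ne_caz (central_fus_eq S e (Or.inl rfl) (Or.inr (Or.inr rfl)) h2)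
    · exact hqc h.symm
    · have h3 : ca * cz * cz = ca := by decide
      rw [h3] at h2
      exact ca_ne_caz (central_fus_eq S e (Or.inr (Or.inr rfl)) (Or.inl rfl) h2).symm
  · -- cz = p * q
    exfalso
    have : Fus S e (ca * cz) cz := hfus _ _ (by rw [map_mul, ← hp, ← hq, ← map_mul, ← h])
    exact cz_ne_caz (central_fus_eq S e (Or.inr (Or.inr rfl)) (Or.inr (Or.inl rfl)) this).symm
  · -- cz = c
    left
    rw [h]; exact hfc
  · -- cz = c * p
    right
    have h1 : Fus S e (u * ca) cz := hfus _ _ (by rw [map_mul, hgu, ← hp, ← map_mul, ← h])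
    rw [hua]; exact h1
  · -- cz = c * q
    left
    have h1 : Fus S e (u * cz) cz := hfus _ _ (by rw [map_mul, hgu, ← hq, ← map_mul, ← h])
    exact hconj.symm.trans h1
  · -- cz = c * p * q
    right
    have h1 : Fus S e (u * ca * cz) cz :=
      hfus _ _ (by rw [map_mul, map_mul, hgu, ← hp, ← hq, ← map_mul, ← map_mul, ← h])
    exact hconj'.symm.trans h1

theorem orderOf_ca : orderOf ca = 2 := orderOf_eq_prime (by decide) (by decide)
theorem orderOf_cy : orderOf cy = 2 := orderOf_eq_prime (by decide) (by decide)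
theorem orderOf_cycx : orderOf (cy * cx) = 2 := orderOf_eq_prime (by decide) (by decide)

theorem finish [Finite G] [IsSimpleGroup G] (hG : ¬ IsMulCommutative G)
    (φ : C →* Multiplicative (ZMod 2)) (hφ : Function.Surjective φ) (hφa : φ ca ≠ 1)
    (hall : ∀ v : C, φ v = 1 → v ^ 2 = 1 → v ≠ 1 → Fus S e v cz) : False := by
  obtain ⟨v, hv1, hfv⟩ := thompson S e hG φ hφ ca orderOf_ca hφa
  have hv2 : orderOf v = 2 := by rw [← hfv.orderOf_eq, orderOf_ca]
  have h1 := hall v hv1 (sq_eq_one_of_orderOf hv2) (ne_one_of_orderOf hv2)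
  exact ca_ne_cz (central_fus_eq S e (Or.inl rfl) (Or.inr (Or.inl rfl)) (hfv.trans h1))

end fusion

/-- A finite group whose Sylow 2-subgroups are isomorphic to the direct product of a group of order 2 and the dihedral group of order 8 is not a non-abelian simple group. -/
theorem result {G : Type*} [Group G] [Finite G] (S : Sylow 2 G) (hS : Nonempty (↥(S : Subgroup G) ≃* Multiplicative (ZMod 2) × DihedralGroup 4))
    [IsSimpleGroup G] (hG : ¬ IsMulCommutative G) : False := by
  obtain ⟨e⟩ := hS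
  have hY : Fus S e cy cz ∨ Fus S e (ca * cy) cz :=
    key S e hG cy orderOf_cy (by decide) (by decide) (by decide) (by decide) (by decide) (by decide)
      cx (by decide) (by decide)
  have hX : Fus S e (cy * cx) cz ∨ Fus S e (ca * (cy * cx)) cz :=
    key S e hG (cy * cx) orderOf_cycx (by decide) (by decide) (by decide) (by decide) (by decide)
      (by decide) cx (by decide) (by decide)
  have c1 : ∀ v : C, Fus S e v cz → Fus S e (cx * v * cx⁻¹) cz := fun v h =>
    (Fus.conj S e cx v).trans h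
  have e1 : cy * cz = cx * cy * cx⁻¹ := by decide
  have e2 : cy * cx * cz = cx * (cy * cx) * cx⁻¹ := by decide
  have e3 : ca * cy * cz = cx * (ca * cy) * cx⁻¹ := by decide
  have e4 : ca * (cy * cx) * cz = cx * (ca * (cy * cx)) * cx⁻¹ := by decide
  rcases hY with hY | hY <;> rcases hX with hX | hX
  · refine finish S e hG phi4 phi4_surj (by decide) ?_
    intro v h1 h2 h3
    rcases ker4 v h1 h2 h3 with rfl | rfl | rfl | rfl | rfl
    · exact Fus.refl S e _
    · exact hY
    · rw [e1]; exact c1 _ hY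
    · exact hX
    · rw [e2]; exact c1 _ hX
  · refine finish S e hG phi5 phi5_surj (by decide) ?_
    intro v h1 h2 h3
    rcases ker5 v h1 h2 h3 with rfl | rfl | rfl | rfl | rfl
    · exact Fus.refl S e _
    · exact hY
    · rw [e1]; exact c1 _ hY
    · exact hX
    · rw [e4]; exact c1 _ hX
  · refine finish S e hG phi7 phi7_surj (by decide) ?_
    intro v h1 h2 h3
    rcases ker7 v h1 h2 h3 with rfl | rfl | rfl | rfl | rfl
    · exact Fus.refl S e _
    · exact hY
    · rw [e3]; exact c1 _ hY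
    · exact hX
    · rw [e2]; exact c1 _ hX
  · refine finish S e hG phi6 phi6_surj (by decide) ?_
    intro v h1 h2 h3
    rcases ker6 v h1 h2 h3 with rfl | rfl | rfl | rfl | rfl
    · exact Fus.refl S e _
    · exact hY
    · rw [e3]; exact c1 _ hY
    · exact hX
    · rw [e4]; exact c1 _ hX


end Cfsg.Agent.S3309
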