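import Cfsg.Statements.S3315
import Mathlib
import Cfsg.Agent.Lib.Helper39.UAutE
import Cfsg.Agent.Lib.Helper39.UAutF

set_option autoImplicit false
open Cfsg

namespace Cfsg.Agent.S3315

/-- Let S be a Sylow 2-subgroup of SU₃(2ⁿ), n ≥ 2 (realised over the field with 4ⁿ elements). If a finite 2-group R contains a subgroup S' of index 2 isomorphic to S, then the centre of S' is contained in the centre of R. -/
theorem result {R : Type*} [Group R] [Finite R]
    (hR : IsPGroup 2 R) (n : ℕ) (hn : 2 ≤ n) {F : Type*} [Field F] [Fintype F] (hF : Fintype.card F = 4 ^ n)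
    (P : Sylow 2 ↥(Cfsg.SU 3 F (2 ^ n))) (S' : Subgroup R) (hS : Nonempty (↥S' ≃* ↥(P : Subgroup ↥(Cfsg.SU 3 F (2 ^ n)))))
    (hidx : S'.index = 2) :
    (Subgroup.center ↥S').map S'.subtype ≤ Subgroup.center R := by
  classical
  obtain ⟨e0⟩ := hS
  have hK : Fintype.card F = (2 ^ n) ^ 2 := by
    rw [hF, ← pow_mul, mul_comm, pow_mul]
    norm_num
  haveI : CharP F 2 := Cfsg.Agent.Helper39.UAut.charP_two_of_card hK rfl (by omega)
  obtain ⟨e1⟩ := Cfsg.Agent.Helper39.UAut.sylow_SU3_equiv hK rfl (by omega) P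
  have hy := Cfsg.Agent.Helper39.UAut.uHyp_frobQ hK
  have hcardK : Nat.card F = 2 ^ (2 * n) := by
    rw [Nat.card_eq_fintype_card, hK, ← pow_mul, mul_comm]
  set e := e0.trans e1 with he
  haveI : S'.Normal := Subgroup.normal_of_index_eq_two hidx
  rintro _ ⟨z, hz, rfl⟩
  rw [Subgroup.mem_center_iff]
  intro g
  by_cases hg : g ∈ S'
  · have := (Subgroup.mem_center_iff.mp hz) ⟨g, hg⟩
    exact congrArg Subtype.val this
  · let α : MulAut ↥S' := MulAut.conjNormal g
    have hα : ∀ s : ↥S', ((α s : ↥S') : R) = g * s * g⁻¹ := fun s => rfl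
    let β := MulAut.congr e α
    have hβ : ∀ u, β u = e (α (e.symm u)) := fun u => rfl
    have hgg : g * g ∈ S' := by
      have := Subgroup.sq_mem_of_index_two hidx g
      rwa [sq] at this
    set s0 : ↥S' := ⟨g * g, hgg⟩ with hs0
    have hαα : ∀ s : ↥S', α (α s) = s0 * s * s0⁻¹ := by
      intro s
      apply Subtype.ext
      rw [hα, hα]
      change _ = g * g * s * (g * g)⁻¹
      group
    have hββ : ∀ u, β (β u) = e s0 * u * (e s0)⁻¹ := by
      intro u
      rw [hβ, hβ, MulEquiv.symm_apply_apply, hαα, map_mul, map_mul, map_inv,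
        MulEquiv.apply_symm_apply]
    have h1 : ∀ u, (β (β u)).b = u.b := by
      intro u
      rw [hββ]
      simp
    have h2 : ∀ u : Cfsg.Agent.Helper63.SuzModel.UM _ _, u.b = 0 → β (β u) = u := by
      intro u hu
      rw [hββ]
      have hc : u ∈ Subgroup.center _ :=
        (Cfsg.Agent.Helper63.SuzModel.mem_center_iff hy.tr u).mpr hu
      rw [Subgroup.mem_center_iff] at hc
      rw [hc (e s0), mul_assoc, mul_inv_cancel, mul_one]
    have hzc : e z ∈ Subgroup.center _ :=
      (Cfsg.Agent.Helper63.SuzModel.mem_center_mulEquiv e z).mpr hz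
    have hzb := (Cfsg.Agent.Helper63.SuzModel.mem_center_iff hy.tr (e z)).mp hzc
    have h3 := Cfsg.Agent.Helper39.UAut.involutive_aut_fixes_center hy n hcardK rfl β h1 h2
      (e z) hzb
    rw [hβ, MulEquiv.symm_apply_apply] at h3
    have h4 : α z = z := e.injective h3
    have h5 := congrArg Subtype.val h4
    rw [hα] at h5
    change g * (z : R) = (z : R) * g
    calc g * (z : R) = g * z * g⁻¹ * g := by group
      _ = z * g := by rw [h5]

end Cfsg.Agent.S3315
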