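import Cfsg.Statements.S3349

set_option autoImplicit false
open Cfsg

namespace Cfsg.Agent.S3349

/-- Let Q be a finite extraspecial p-group and α an automorphism of Q fixing every element of some maximal abelian subgroup of Q. Then the order of α is a power of p. -/
theorem result {Q : Type*} [Group Q] [Finite Q]
    (p : ℕ) [Fact p.Prime] (hQ : Cfsg.IsExtraspecial p Q) (α : MulAut Q)
    (A : Subgroup Q) (hA : IsMulCommutative A) (hmax : ∀ B : Subgroup Q, A ≤ B → IsMulCommutative B → B = A)
    (hfix : ∀ a ∈ A, α a = a) :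
    ∃ k : ℕ, orderOf α = p ^ k := by
  obtain ⟨⟨hp, -, hcomm⟩, -⟩ := hQ
  -- commutativity inside A
  have hAc : ∀ a ∈ A, ∀ b ∈ A, a * b = b * a := fun a ha b hb =>
    setLike_mul_comm ha hb
  -- anything centralizing A lies in A
  have hself : ∀ x : Q, (∀ a ∈ A, x * a = a * x) → x ∈ A := by
    intro x hx
    have hB : IsMulCommutative (Subgroup.closure ((A : Set Q) ∪ {x})) := by
      apply Subgroup.isMulCommutative_closure
      rintro u (hu | hu) v (hv | hv)
      · exact hAc u hu v hv
      · rw [Set.mem_singleton_iff] at hv; subst hv; exact (hx u hu).symm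
      · rw [Set.mem_singleton_iff] at hu; subst hu; exact hx v hv
      · rw [Set.mem_singleton_iff] at hu hv; subst hu; subst hv; rfl
    have hle : A ≤ Subgroup.closure ((A : Set Q) ∪ {x}) := fun a ha =>
      Subgroup.subset_closure (Or.inl ha)
    have := hmax _ hle hB
    rw [← this]
    exact Subgroup.subset_closure (Or.inr rfl)
  -- the centre lies in A
  have hZ : Subgroup.center Q ≤ A := by
    intro z hz
    apply hself
    intro a _
    exact (Subgroup.mem_center_iff.mp hz a).symm
  -- A is normalized by every x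
  have hnorm : ∀ x : Q, ∀ a ∈ A, x * a * x⁻¹ ∈ A := by
    intro x a ha
    have h1 : x * a * x⁻¹ * a⁻¹ ∈ commutator Q := by
      rw [commutator_def]
      exact Subgroup.commutator_mem_commutator (Subgroup.mem_top x) (Subgroup.mem_top a)
    rw [hcomm] at h1
    have h2 : x * a * x⁻¹ * a⁻¹ * a ∈ A := A.mul_mem (hZ h1) ha
    simpa using h2
  -- x⁻¹ α x lies in A
  have hc : ∀ x : Q, x⁻¹ * α x ∈ A := by
    intro x
    apply hself
    intro a ha
    have h1 := hfix _ (hnorm x a ha)
    rw [map_mul, map_mul, map_inv, hfix a ha] at h1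
    -- h1 : α x * a * (α x)⁻¹ = x * a * x⁻¹
    have h2 : α x * a = x * a * x⁻¹ * α x := by
      rw [← h1]; group
    calc x⁻¹ * α x * a = x⁻¹ * (α x * a) := by group
      _ = x⁻¹ * (x * a * x⁻¹ * α x) := by rw [h2]
      _ = a * (x⁻¹ * α x) := by group
  -- iterate
  have hiter : ∀ (k : ℕ) (x : Q), (α ^ k) x = x * (x⁻¹ * α x) ^ k := by
    intro k
    induction k with
    | zero => intro x; simp
    | succ k ih =>
      intro x
      rw [pow_succ', MulAut.mul_apply, ih, map_mul, map_pow, hfix _ (hc x), pow_succ', ← mul_assoc,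
        ← mul_assoc, mul_inv_cancel, one_mul]
  have hpow : α ^ Nat.card A = 1 := by
    ext x
    rw [hiter, MulAut.one_apply]
    have h3 : (⟨x⁻¹ * α x, hc x⟩ : A) ^ Nat.card A = 1 := pow_card_eq_one'
    have h2 : (x⁻¹ * α x) ^ Nat.card A = 1 := by
      have h4 := congrArg Subtype.val h3
      rw [Subgroup.coe_pow, Subgroup.coe_one] at h4
      exact h4
    rw [h2, mul_one]
  obtain ⟨m, hm⟩ := (hp.to_subgroup A).exists_card_eq
  rw [hm] at hpow
  have hdvd : orderOf α ∣ p ^ m := orderOf_dvd_of_pow_eq_one hpow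
  obtain ⟨k, -, hk⟩ := (Nat.dvd_prime_pow (Fact.out : p.Prime)).mp hdvd
  exact ⟨k, hk⟩

end Cfsg.Agent.S3349
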