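import Cfsg.Statements.S3356
import Mathlib
import Cfsg.Agent.Lib.Helper71.HalfTransitive

set_option autoImplicit false
open Cfsg

namespace Cfsg.Agent.S3356

open Cfsg.Agent.Helper71.HalfTrans

section aux

variable {G Ω : Type*} [Group G] [MulAction G Ω]

/-- for `x` in a regular normal subgroup, `G_a ∩ C(x) = G_a ∩ G_{x a}` -/
theorem stab_inf_centralizer (N : Subgroup G) [hN : N.Normal]
    (hNr : ∀ a : Ω, MulAction.stabilizer N a = ⊥) (a : Ω) {x : G} (hx : x ∈ N) :
    T (MulAction.stabilizer G a) x =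
      MulAction.stabilizer G a ⊓ MulAction.stabilizer G (x • a) := by
  ext g
  rw [mem_T, Subgroup.mem_inf, MulAction.mem_stabilizer_iff, MulAction.mem_stabilizer_iff]
  constructor
  · rintro ⟨hg, hgx⟩
    refine ⟨hg, ?_⟩
    rw [← mul_smul, hgx, mul_smul, hg]
  · rintro ⟨hg, hgx⟩
    refine ⟨hg, ?_⟩
    have hg' : g⁻¹ • a = a := by
      rw [inv_smul_eq_iff, hg]
    have hcN : x⁻¹ * (g * x * g⁻¹) ∈ N := N.mul_mem (N.inv_mem hx) (hN.conj_mem x hx g)
    have hca : (x⁻¹ * (g * x * g⁻¹)) • a = a := by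
      rw [mul_smul, mul_smul, mul_smul, hg', hgx, inv_smul_smul]
    have hmem : (⟨_, hcN⟩ : N) ∈ MulAction.stabilizer N a := by
      rw [MulAction.mem_stabilizer_iff]
      exact hca
    rw [hNr a, Subgroup.mem_bot] at hmem
    have h1 : x⁻¹ * (g * x * g⁻¹) = 1 := congrArg Subtype.val hmem
    calc g * x = x * (x⁻¹ * (g * x * g⁻¹)) * g := by group
      _ = x * g := by rw [h1, mul_one]

/-- the stabilizer of `c` in the subgroup `G_a` has the order of `G_a ∩ G_c` -/
theorem card_stabilizer_subgroup (H : Subgroup G) (c : Ω) :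
    Nat.card (MulAction.stabilizer H c) = Nat.card (H ⊓ MulAction.stabilizer G c : Subgroup G) := by
  refine Nat.card_congr
    { toFun := fun h => ⟨(h.1 : G), ⟨h.1.2, ?_⟩⟩
      invFun := fun h => ⟨⟨h.1, h.2.1⟩, ?_⟩
      left_inv := fun h => rfl
      right_inv := fun h => rfl }
  · have := h.2
    rw [MulAction.mem_stabilizer_iff] at this
    exact MulAction.mem_stabilizer_iff.mpr this
  · have : (h : G) ∈ MulAction.stabilizer G c := h.2.2
    rw [MulAction.mem_stabilizer_iff] at this
    exact MulAction.mem_stabilizer_iff.mpr this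

theorem card_orbit_mul [Finite G] (H : Subgroup G) (c : Ω) :
    Nat.card (MulAction.orbit H c) * Nat.card (H ⊓ MulAction.stabilizer G c : Subgroup G) =
      Nat.card H := by
  rw [← card_stabilizer_subgroup, Nat.card_coe_set_eq, ← MulAction.index_stabilizer]
  exact Subgroup.index_mul_card _

end aux

/-- Let G be a finite 3/2-transitive permutation group: G acts faithfully and transitively on a finite set, the point stabilizers are non-trivial, and for each point a all orbits of G_a on the remaining points have the same size. Suppose G has a regular normal subgroup N and G is not a Frobenius group (some two-point stabilizer is non-trivial). Then N is an elementary abelian p-group for some prime p, and every non-trivial normal subgroup of G contains N (so N is the unique minimal normal subgroup). -/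
theorem result {G Ω : Type*} [Group G] [Finite G]
    [MulAction G Ω] [FaithfulSMul G Ω] [Finite Ω] (htrans : MulAction.IsPretransitive G Ω)
    (hne : ∀ a : Ω, MulAction.stabilizer G a ≠ ⊥)
    (hhalf : ∀ a b c : Ω, b ≠ a → c ≠ a →
      Nat.card (MulAction.orbit (MulAction.stabilizer G a) b) = Nat.card (MulAction.orbit (MulAction.stabilizer G a) c))
    (N : Subgroup G) [hN : N.Normal] (hNt : MulAction.IsPretransitive N Ω) (hNr : ∀ a : Ω, MulAction.stabilizer N a = ⊥)
    (hnotF : ∃ a b : Ω, a ≠ b ∧ MulAction.stabilizer G a ⊓ MulAction.stabilizer G b ≠ ⊥) :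
    (∃ p : ℕ, p.Prime ∧ IsMulCommutative N ∧ ∀ x ∈ N, x ^ p = 1) ∧
    (∀ M : Subgroup G, M.Normal → M ≠ ⊥ → N ≤ M) := by
  obtain ⟨a, b, hab, hst⟩ := hnotF
  set H : Subgroup G := MulAction.stabilizer G a with hH
  set e : ℕ := Nat.card (H ⊓ MulAction.stabilizer G b : Subgroup G) with he
  -- all two point stabilizers `G_a ∩ G_c` have order `e`
  have hcard_c : ∀ c : Ω, c ≠ a → Nat.card (H ⊓ MulAction.stabilizer G c : Subgroup G) = e := by
    intro c hc
    have h1 := card_orbit_mul H c
    have h2 := card_orbit_mul H b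
    rw [hhalf a c b hc hab.symm] at h1
    have hpos : 0 < Nat.card (MulAction.orbit H b) := by
      rcases Nat.eq_zero_or_pos (Nat.card (MulAction.orbit H b)) with h0 | h0
      · rw [h0, zero_mul] at h2
        have : 0 < Nat.card H := Nat.card_pos
        omega
      · exact h0
    exact Nat.eq_of_mul_eq_mul_left hpos (h1.trans h2.symm)
  -- regularity
  have hreg : ∀ x ∈ N, x ≠ 1 → x • a ≠ a := by
    intro x hx hx1 h
    have hmem : (⟨x, hx⟩ : N) ∈ MulAction.stabilizer N a := by
      rw [MulAction.mem_stabilizer_iff]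
      exact h
    rw [hNr a, Subgroup.mem_bot] at hmem
    exact hx1 (congrArg Subtype.val hmem)
  have hNtrans : ∀ ω : Ω, ∃ n ∈ N, n • a = ω := by
    intro ω
    obtain ⟨n, hn⟩ := hNt.exists_smul_eq a ω
    exact ⟨n.1, n.2, hn⟩
  have hyp : Hyp H N e := by
    refine ⟨?_, ?_, ?_⟩
    · rw [he]
      exact (Subgroup.one_lt_card_iff_ne_bot _).mpr hst
    · intro x hx hx1
      rw [hH, stab_inf_centralizer N hNr a hx]
      exact hcard_c _ (hreg x hx hx1)
    · intro h hh hcomm
      have hha : h • a = a := by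
        rw [hH, MulAction.mem_stabilizer_iff] at hh
        exact hh
      apply FaithfulSMul.eq_of_smul_eq_smul (α := Ω)
      intro ω
      obtain ⟨n, hn, rfl⟩ := hNtrans ω
      rw [one_smul, ← mul_smul, hcomm n hn, mul_smul, hha]
  have hcomm : ∀ x ∈ N, ∀ y ∈ N, x * y = y * x := fun x hx y hy => hyp.comm hx hy
  have hHinv : ∀ (M : Subgroup G), M.Normal → ∀ h ∈ H, ∀ k ∈ M, h * k * h⁻¹ ∈ M :=
    fun M hM h _ k hk => hM.conj_mem k hk h
  -- `N` is non-trivial
  obtain ⟨n₀, hn₀, hn₀b⟩ := hNtrans b
  have hn₀1 : n₀ ≠ 1 := by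
    intro h
    rw [h, one_smul] at hn₀b
    exact hab hn₀b
  have hNbot : N ≠ ⊥ := by
    intro h
    rw [h, Subgroup.mem_bot] at hn₀
    exact hn₀1 hn₀
  constructor
  · -- elementary abelian
    have hcardN : Nat.card N ≠ 1 := by
      intro h
      exact hNbot (Subgroup.card_eq_one.mp h)
    set p := (Nat.card N).minFac with hp
    have hpp : p.Prime := Nat.minFac_prime hcardN
    have : Fact p.Prime := ⟨hpp⟩
    refine ⟨p, hpp, ⟨⟨fun x y => Subtype.ext (hcomm x x.2 y y.2)⟩⟩, ?_⟩
    -- the subgroup of elements of order dividing `p`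
    let M : Subgroup G :=
      { carrier := {x | x ∈ N ∧ x ^ p = 1}
        one_mem' := ⟨N.one_mem, one_pow p⟩
        mul_mem' := by
          rintro x y ⟨hx, hxp⟩ ⟨hy, hyp'⟩
          refine ⟨N.mul_mem hx hy, ?_⟩
          have hc : Commute x y := hcomm x hx y hy
          rw [hc.mul_pow, hxp, hyp', one_mul]
        inv_mem' := by
          rintro x ⟨hx, hxp⟩
          exact ⟨N.inv_mem hx, by rw [inv_pow, hxp, inv_one]⟩ }
    have hMN : M ≤ N := fun x hx => hx.1
    have hMinv : ∀ h ∈ H, ∀ k ∈ M, h * k * h⁻¹ ∈ M := by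
      rintro h _ k ⟨hk, hkp⟩
      refine ⟨hN.conj_mem k hk h, ?_⟩
      rw [conj_pow, hkp, mul_one, mul_inv_cancel]
    have hMbot : M ≠ ⊥ := by
      obtain ⟨x, hx⟩ := exists_prime_orderOf_dvd_card' (G := N) p (Nat.minFac_dvd _)
      intro h
      have hxM : (x : G) ∈ M := by
        refine ⟨x.2, ?_⟩
        have : x ^ p = 1 := by rw [← hx]; exact pow_orderOf_eq_one x
        have := congrArg Subtype.val this
        simpa using this
      rw [h, Subgroup.mem_bot] at hxM
      have hx1 : x = 1 := Subtype.ext hxM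
      rw [hx1, orderOf_one] at hx
      exact hpp.one_lt.ne hx
    rcases hyp.no_invariant M hMN hMinv with h | h
    · exact absurd h hMbot
    · intro x hx
      have : x ∈ M := by rw [h]; exact hx
      exact this.2
  · -- unique minimal normal subgroup
    intro K hK hKbot
    have hKN : ∀ h ∈ H, ∀ k ∈ K ⊓ N, h * k * h⁻¹ ∈ K ⊓ N := by
      rintro h _ k ⟨hk1, hk2⟩
      exact ⟨hK.conj_mem k hk1 h, hN.conj_mem k hk2 h⟩
    rcases hyp.no_invariant (K ⊓ N) inf_le_right hKN with h | h
    · exfalso
      -- `K` centralizes `N`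
      have hcen : ∀ k ∈ K, ∀ n ∈ N, k * n = n * k := by
        intro k hk n hn
        have hmem : k * n * k⁻¹ * n⁻¹ ∈ K ⊓ N := by
          refine ⟨?_, N.mul_mem (hN.conj_mem n hn k) (N.inv_mem hn)⟩
          have : k * n * k⁻¹ * n⁻¹ = k * (n * k⁻¹ * n⁻¹) := by group
          rw [this]
          exact K.mul_mem hk (hK.conj_mem k⁻¹ (K.inv_mem hk) n)
        rw [h, Subgroup.mem_bot] at hmem
        calc k * n = (k * n * k⁻¹ * n⁻¹) * n * k := by group
          _ = n * k := by rw [hmem, one_mul]
      obtain ⟨k, hk1⟩ := Subgroup.ne_bot_iff_exists_ne_one.mp hKbot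
      have hkK : (k : G) ∈ K := k.2
      have hk1' : (k : G) ≠ 1 := fun h' => hk1 (Subtype.ext h')
      obtain ⟨n, hn, hna⟩ := hNtrans ((k : G) • a)
      have hgH : n⁻¹ * (k : G) ∈ H := by
        rw [hH, MulAction.mem_stabilizer_iff, mul_smul, ← hna, inv_smul_smul]
      have hg1 : n⁻¹ * (k : G) = 1 := by
        apply hyp.faith _ hgH
        intro x hx
        calc n⁻¹ * (k : G) * x = n⁻¹ * ((k : G) * x) := by group
          _ = n⁻¹ * (x * (k : G)) := by rw [hcen _ hkK x hx]
          _ = (n⁻¹ * x) * (k : G) := by group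
          _ = (x * n⁻¹) * (k : G) := by rw [hcomm n⁻¹ (N.inv_mem hn) x hx]
          _ = x * (n⁻¹ * (k : G)) := by group
      have hkn : (k : G) = n := by
        calc (k : G) = n * (n⁻¹ * (k : G)) := by group
          _ = n := by rw [hg1, mul_one]
      have : (k : G) ∈ K ⊓ N := ⟨hkK, hkn ▸ hn⟩
      rw [h, Subgroup.mem_bot] at this
      exact hk1' this
    · rw [← h]
      exact inf_le_left

end Cfsg.Agent.S3356
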