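import Mathlib
import Cfsg.Statements.S3360
import Cfsg.Agent.Lib.Helper12.HupMain
import Cfsg.Agent.Lib.Helper12.Semilinear

set_option autoImplicit false
open Cfsg

namespace Cfsg.Agent.S3360

/-- Let q be a prime and V a non-trivial finite vector space over the field with q elements, and let G be a finite solvable group acting faithfully and linearly on V and transitively on the non-zero vectors. Then either V can be identified with the additive group of a finite field F in such a way that every element of G acts as x ↦ a·σ(x) for some a ∈ F and some field automorphism σ, or the number of elements of V is one of 3^2, 5^2, 7^2, 11^2, 23^2, 3^4. -/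
theorem result
    (q : ℕ) [Fact q.Prime] {V : Type*} [AddCommGroup V] [Module (ZMod q) V] [Finite V] [Nontrivial V]
    {G : Type*} [Group G] [Finite G] (hsol : Group.IsSolvable G)
    (ρ : G →* (V ≃ₗ[ZMod q] V)) (hρ : Function.Injective ρ)
    (htrans : ∀ v w : V, v ≠ 0 → w ≠ 0 → ∃ g : G, ρ g v = w) :
    (∃ (F : Type) (_ : Field F) (_ : Fintype F) (e : V ≃+ F),
        ∀ g : G, ∃ (a : F) (σ : F ≃+* F), ∀ v : V, e (ρ g v) = a * σ (e v)) ∨
    Nat.card V ∈ ({9, 25, 49, 121, 529, 81} : Set ℕ) := by
  classical
  set H : Subgroup (V ≃ₗ[ZMod q] V) := ρ.range with hH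
  let ε : G ≃* H := MonoidHom.ofInjective hρ
  have hsolvH : Group.IsSolvable H :=
    Group.isSolvable_of_surjective (f := ε.toMonoidHom) ε.surjective
  have htransH : ∀ v w : V, v ≠ 0 → w ≠ 0 → ∃ h ∈ H, h v = w := by
    intro v w hv hw
    obtain ⟨g, hg⟩ := htrans v w hv hw
    exact ⟨ρ g, ⟨g, rfl⟩, hg⟩
  rcases Cfsg.Agent.Helper12.HupMain.huppert H hsolvH htransH with
    ⟨B, hnorm, hcomm, hirr⟩ | h
  · left
    obtain ⟨F, iF, iFt, e, he⟩ :=
      Cfsg.Agent.Helper12.Semilinear.exists_semilinear H B hnorm hcomm hirr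
    exact ⟨F, iF, iFt, e, fun g => he (ρ g) ⟨g, rfl⟩⟩
  · right
    simp only [Set.mem_insert_iff, Set.mem_singleton_iff]
    exact h

end Cfsg.Agent.S3360
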