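import Mathlib
import Cfsg.Statements.S3361
import Cfsg.Agent.Lib.Helper12.RegLinSolv
import Cfsg.Agent.Lib.Helper12.Semilinear

set_option autoImplicit false
open Cfsg

namespace Cfsg.Agent.S3361

/-- Let q be a prime and V a non-trivial finite vector space over the field with q elements, and let G be a finite solvable group acting faithfully and linearly on V and regularly on the non-zero vectors (transitively, with only the identity fixing a non-zero vector). Then either V can be identified with the additive group of a finite field F so that every element of G acts as x ↦ a·σ(x) (a ∈ F, σ a field automorphism), or V has 5^2, 7^2, 11^2 or 23^2 elements. Moreover, if q ≠ 2 then G has a normal subgroup of index 2, except that when V has 25 elements G may be isomorphic to SL(2,3) and when V has 121 elements G may be isomorphic to SL(2,3) × C₅. -/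
theorem result
    (q : ℕ) [Fact q.Prime] {V : Type*} [AddCommGroup V] [Module (ZMod q) V] [Finite V] [Nontrivial V]
    {G : Type*} [Group G] [Finite G] (hsol : Group.IsSolvable G)
    (ρ : G →* (V ≃ₗ[ZMod q] V)) (hρ : Function.Injective ρ)
    (htrans : ∀ v w : V, v ≠ 0 → w ≠ 0 → ∃ g : G, ρ g v = w)
    (hreg : ∀ v : V, v ≠ 0 → ∀ g : G, ρ g v = v → g = 1) :
    ((∃ (F : Type) (_ : Field F) (_ : Fintype F) (e : V ≃+ F),
        ∀ g : G, ∃ (a : F) (σ : F ≃+* F), ∀ v : V, e (ρ g v) = a * σ (e v)) ∨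
      Nat.card V ∈ ({25, 49, 121, 529} : Set ℕ)) ∧
    (q ≠ 2 → (∃ N : Subgroup G, N.Normal ∧ N.index = 2) ∨
      (Nat.card V = 25 ∧ Nonempty (G ≃* Matrix.SpecialLinearGroup (Fin 2) (ZMod 3))) ∨
      (Nat.card V = 121 ∧ Nonempty (G ≃* Matrix.SpecialLinearGroup (Fin 2) (ZMod 3) × Multiplicative (ZMod 5)))) := by
  classical
  have hfinE : Finite (V ≃ₗ[ZMod q] V) :=
    Finite.of_injective (fun e : V ≃ₗ[ZMod q] V => (e : V → V)) DFunLike.coe_injective
  set H : Subgroup (V ≃ₗ[ZMod q] V) := ρ.range with hH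
  let ε : G ≃* H := MonoidHom.ofInjective hρ
  have hε : ∀ g : G, ((ε g : H) : V ≃ₗ[ZMod q] V) = ρ g := fun g => rfl
  have hregH : ∀ v w : V, v ≠ 0 → w ≠ 0 → ∃! h : H, (h : V ≃ₗ[ZMod q] V) v = w := by
    intro v w hv hw
    obtain ⟨g, hg⟩ := htrans v w hv hw
    refine ⟨ε g, hg, ?_⟩
    intro h' hh'
    obtain ⟨g', hg'⟩ := ε.surjective h'
    have h0 : ρ g' v = w := by
      rw [← hε g', hg']; exact hh'
    have h1 : ρ (g⁻¹ * g') v = v := by
      rw [map_mul, map_inv]
      change (ρ g)⁻¹ (ρ g' v) = v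
      rw [h0, ← hg]
      exact (ρ g).symm_apply_apply v
    have h2 := hreg v hv _ h1
    rw [← hg']
    congr 1
    exact (inv_mul_eq_one.mp h2).symm
  have hsolvH : Group.IsSolvable H :=
    Group.isSolvable_of_surjective (f := ε.toMonoidHom) ε.surjective
  obtain ⟨v₀, hv₀⟩ := exists_ne (0 : V)
  refine ⟨?_, ?_⟩
  · by_cases hI : ∀ A : Subgroup H, A.Normal → IsCyclic A → ∃ W : Submodule (ZMod q) V,
        W ≠ ⊥ ∧ W ≠ ⊤ ∧ ∀ a ∈ A, ∀ v ∈ W, ((a : H) : V ≃ₗ[ZMod q] V) v ∈ W
    · right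
      rcases Cfsg.Agent.Helper12.NearFieldSolv.main H hregH hI hsolvH with h | h | h | h <;>
        simp [h]
    · left
      push Not at hI
      obtain ⟨A₀, hAn, hAc, hirr⟩ := hI
      have hnorm : ∀ h ∈ H, ∀ b ∈ A₀.map H.subtype, h * b * h⁻¹ ∈ A₀.map H.subtype := by
        rintro h hh _ ⟨a, ha, rfl⟩
        exact ⟨⟨h, hh⟩ * a * ⟨h, hh⟩⁻¹, hAn.conj_mem a ha ⟨h, hh⟩, rfl⟩
      have hcomm : ∀ a ∈ A₀.map H.subtype, ∀ b ∈ A₀.map H.subtype, a * b = b * a := by
        rintro _ ⟨a, ha, rfl⟩ _ ⟨b, hb, rfl⟩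
        have h1 := (IsCyclic.isMulCommutative (α := A₀)).is_comm.comm ⟨a, ha⟩ ⟨b, hb⟩
        have h2 : a * b = b * a := congrArg Subtype.val h1
        exact congrArg Subtype.val h2
      have hirr' : ∀ W : Submodule (ZMod q) V,
          Cfsg.Agent.Helper12.FpfLinear.Inv (A₀.map H.subtype) W → W = ⊥ ∨ W = ⊤ := by
        intro W hW
        by_contra hcon
        rw [not_or] at hcon
        obtain ⟨a, ha, v, hv, hav⟩ := hirr W hcon.1 hcon.2
        exact hav (hW (a : V ≃ₗ[ZMod q] V) ⟨a, ha, rfl⟩ v hv)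
      obtain ⟨F, iF, iFt, e, he⟩ :=
        Cfsg.Agent.Helper12.Semilinear.exists_semilinear H (A₀.map H.subtype) hnorm hcomm hirr'
      exact ⟨F, iF, iFt, e, fun g => he (ρ g) ⟨g, rfl⟩⟩
  · intro hq2
    rcases Cfsg.Agent.Helper12.RegLinSolv.part2 H hregH v₀ hv₀ hq2 hsolvH with
      ⟨N, hN⟩ | ⟨h, hf⟩ | ⟨h, hf⟩
    · left
      have hidx : (N.comap ε.toMonoidHom).index = 2 := by
        have h1 : Function.Surjective ε.toMonoidHom := ε.surjective
        rw [Subgroup.index_comap_of_surjective N h1]; exact hN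
      exact ⟨N.comap ε.toMonoidHom, Subgroup.normal_of_index_eq_two hidx, hidx⟩
    · right; left
      obtain ⟨f⟩ := hf
      exact ⟨h, ⟨ε.trans f⟩⟩
    · right; right
      obtain ⟨f⟩ := hf
      exact ⟨h, ⟨ε.trans f⟩⟩

end Cfsg.Agent.S3361
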