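import Cfsg.Statements.S3362
import Mathlib

set_option autoImplicit false

namespace Cfsg.Agent.S3362

abbrev Pm := Equiv.Perm (Fin 12)

def gs : Pm := Equiv.swap (3 : Fin 12) 5 * Equiv.swap (3 : Fin 12) 4 * Equiv.swap (6 : Fin 12) 8 * Equiv.swap (6 : Fin 12) 7 * Equiv.swap (9 : Fin 12) 11 * Equiv.swap (9 : Fin 12) 10
def gt : Pm := Equiv.swap (3 : Fin 12) 9 * Equiv.swap (3 : Fin 12) 6 * Equiv.swap (4 : Fin 12) 10 * Equiv.swap (4 : Fin 12) 7 * Equiv.swap (5 : Fin 12) 11 * Equiv.swap (5 : Fin 12) 8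
def gu : Pm := Equiv.swap (4 : Fin 12) 9 * Equiv.swap (4 : Fin 12) 5 * Equiv.swap (4 : Fin 12) 6 * Equiv.swap (7 : Fin 12) 10 * Equiv.swap (7 : Fin 12) 11 * Equiv.swap (7 : Fin 12) 8
def gv : Pm := Equiv.swap (4 : Fin 12) 11 * Equiv.swap (4 : Fin 12) 5 * Equiv.swap (4 : Fin 12) 7 * Equiv.swap (6 : Fin 12) 8 * Equiv.swap (6 : Fin 12) 9 * Equiv.swap (6 : Fin 12) 10
def gw : Pm := Equiv.swap (4 : Fin 12) 8 * Equiv.swap (4 : Fin 12) 5 * Equiv.swap (4 : Fin 12) 10 * Equiv.swap (6 : Fin 12) 7 * Equiv.swap (6 : Fin 12) 9 * Equiv.swap (6 : Fin 12) 11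
def gx1 : Pm := Equiv.swap (0 : Fin 12) 3 * Equiv.swap (6 : Fin 12) 7 * Equiv.swap (8 : Fin 12) 10 * Equiv.swap (9 : Fin 12) 11
def gx2 : Pm := Equiv.swap (0 : Fin 12) 1 * Equiv.swap (6 : Fin 12) 9 * Equiv.swap (7 : Fin 12) 10 * Equiv.swap (8 : Fin 12) 11
def gx3 : Pm := Equiv.swap (1 : Fin 12) 2 * Equiv.swap (6 : Fin 12) 11 * Equiv.swap (7 : Fin 12) 9 * Equiv.swap (8 : Fin 12) 10

def gen : ℕ → Pm
  | 0 => gu | 1 => gv | 2 => gw | 3 => gs | 4 => gt | 5 => gx1 | 6 => gx2 | 7 => gx3 | _ => 1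

def evalWord : List ℕ → Pm
  | [] => 1
  | j :: w => gen j * evalWord w

structure Level where
  b : Fin 12
  m : ℕ
  tbl : List (Fin 12 × List ℕ)

def pts : List (Fin 12) := [0, 1, 2, 3, 4, 5, 6, 7, 8, 9, 10, 11]

def sift : List Level → Pm → Bool
  | [], g => pts.all fun i => g i == i
  | lv :: rest, g => lv.tbl.any fun e => (g lv.b == e.1) && sift rest ((evalWord e.2)⁻¹ * g)

def checkLevel (lv : Level) (rest : List Level) : Bool :=
  (List.range lv.m).all fun j =>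
    lv.tbl.all fun e =>
      (lv.tbl.any fun e' => (e'.1 == gen j e.1) && sift rest ((evalWord e'.2)⁻¹ * gen j * evalWord e.2)) &&
      (lv.tbl.any fun e' => (e'.1 == (gen j)⁻¹ e.1) && sift rest ((evalWord e'.2)⁻¹ * (gen j)⁻¹ * evalWord e.2))

def L1 : Level := ⟨2, 8, [(0, [6, 7]), (1, [7]), (2, []), (3, [5, 6, 7]), (4, [3, 5, 6, 7]), (5, [3, 3, 5, 6, 7]), (6, [4, 5, 6, 7]), (7, [1, 3, 5, 6, 7]), (8, [0, 1, 3, 5, 6, 7]), (9, [4, 4, 5, 6, 7]), (10, [2, 3, 5, 6, 7]), (11, [2, 4, 5, 6, 7])]⟩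
def L2 : Level := ⟨1, 7, [(0, [6]), (1, []), (3, [5, 6]), (4, [3, 5, 6]), (5, [3, 3, 5, 6]), (6, [4, 5, 6]), (7, [1, 3, 5, 6]), (8, [0, 1, 3, 5, 6]), (9, [4, 4, 5, 6]), (10, [2, 3, 5, 6]), (11, [2, 4, 5, 6])]⟩
def L3 : Level := ⟨0, 6, [(0, []), (3, [5]), (4, [3, 5]), (5, [3, 3, 5]), (6, [4, 5]), (7, [1, 3, 5]), (8, [0, 1, 3, 5]), (9, [4, 4, 5]), (10, [2, 3, 5]), (11, [2, 4, 5])]⟩
def L4 : Level := ⟨3, 5, [(3, []), (4, [3]), (5, [3, 3]), (6, [4]), (7, [1, 3]), (8, [0, 1, 3]), (9, [4, 4]), (10, [2, 3]), (11, [2, 4])]⟩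
def L5 : Level := ⟨4, 3, [(4, []), (5, [0, 0]), (6, [0]), (7, [1]), (8, [0, 1]), (9, [1, 2]), (10, [2]), (11, [2, 0])]⟩

lemma check5 : checkLevel L5 [] = true := by decide +kernel
lemma check4 : checkLevel L4 [L5] = true := by decide +kernel
lemma check3 : checkLevel L3 [L4, L5] = true := by decide +kernel
lemma check2 : checkLevel L2 [L3, L4, L5] = true := by decide +kernel
lemma check1 : checkLevel L1 [L2, L3, L4, L5] = true := by decide +kernel


/-! ### theory -/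

def K (m : ℕ) : Subgroup Pm := Subgroup.closure {g | ∃ j, j < m ∧ gen j = g}

lemma gen_mem {m j : ℕ} (h : j < m) : gen j ∈ K m := Subgroup.subset_closure ⟨j, h, rfl⟩

lemma K_mono {m m' : ℕ} (h : m ≤ m') : K m ≤ K m' := by
  apply Subgroup.closure_mono
  rintro g ⟨j, hj, rfl⟩
  exact ⟨j, lt_of_lt_of_le hj h, rfl⟩

lemma evalWord_mem {m : ℕ} : ∀ {w : List ℕ}, (∀ j ∈ w, j < m) → evalWord w ∈ K m
  | [], _ => one_mem _
  | j :: w, h => by
    show gen j * evalWord w ∈ K m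
    exact mul_mem (gen_mem (h j (by simp))) (evalWord_mem (fun i hi => h i (by simp [hi])))

def Level.wf (lv : Level) : Bool := lv.tbl.all fun e => e.2.all fun j => decide (j < lv.m)

lemma Level.wf_mem {lv : Level} (h : lv.wf = true) {e : Fin 12 × List ℕ} (he : e ∈ lv.tbl) :
    evalWord e.2 ∈ K lv.m := by
  apply evalWord_mem
  intro j hj
  simp only [Level.wf, List.all_eq_true, decide_eq_true_eq] at h
  exact h e he j hj

lemma eq_one_of_pts {g : Pm} (h : (pts.all fun i => g i == i) = true) : g = 1 := by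
  ext i
  simp only [List.all_eq_true, beq_iff_eq] at h
  have hi : i ∈ pts := by
    revert i; decide
  rw [h i hi]; rfl

lemma sift_sound (M : ℕ) : ∀ (chain : List Level),
    (∀ lv ∈ chain, lv.m ≤ M ∧ lv.wf = true) → ∀ g, sift chain g = true → g ∈ K M
  | [], _, g, h => by
    rw [eq_one_of_pts h]; exact one_mem _
  | lv :: rest, hc, g, h => by
    simp only [sift, List.any_eq_true, Bool.and_eq_true, beq_iff_eq] at h
    obtain ⟨e, he, _, h2⟩ := h
    have hrest : ∀ l ∈ rest, l.m ≤ M ∧ l.wf = true := fun l hl => hc l (by simp [hl])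
    have ih := sift_sound M rest hrest _ h2
    have hlv := hc lv (by simp)
    have hu : evalWord e.2 ∈ K M := K_mono hlv.1 (Level.wf_mem hlv.2 he)
    have : g = evalWord e.2 * ((evalWord e.2)⁻¹ * g) := by group
    rw [this]
    exact mul_mem hu ih

/-- Schreier step. -/
lemma step (lv : Level) (rest : List Level) (M' : ℕ)
    (hrest : ∀ l ∈ rest, l.m ≤ M' ∧ l.wf = true)
    (hcheck : checkLevel lv rest = true) (hbase : (lv.b, []) ∈ lv.tbl) :
    ∀ k ∈ K lv.m, ∃ e ∈ lv.tbl, ∃ l ∈ K M', k = evalWord e.2 * l := by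
  simp only [checkLevel, List.all_eq_true, List.mem_range, Bool.and_eq_true, List.any_eq_true,
    beq_iff_eq] at hcheck
  intro k hk
  induction hk using Subgroup.closure_induction_left with
  | one => exact ⟨_, hbase, 1, one_mem _, by simp [evalWord]⟩
  | mul_left x hx y _ ih =>
    obtain ⟨j, hj, rfl⟩ := hx
    obtain ⟨e, he, l, hl, rfl⟩ := ih
    obtain ⟨⟨e', he', _, hs⟩, _⟩ := hcheck j hj e he
    have hmem := sift_sound M' rest hrest _ hs
    refine ⟨e', he', ((evalWord e'.2)⁻¹ * gen j * evalWord e.2) * l, mul_mem hmem hl, ?_⟩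
    group
  | inv_mul_cancel x hx y _ ih =>
    obtain ⟨j, hj, rfl⟩ := hx
    obtain ⟨e, he, l, hl, rfl⟩ := ih
    obtain ⟨_, ⟨e', he', _, hs⟩⟩ := hcheck j hj e he
    have hmem := sift_sound M' rest hrest _ hs
    refine ⟨e', he', ((evalWord e'.2)⁻¹ * (gen j)⁻¹ * evalWord e.2) * l, mul_mem hmem hl, ?_⟩
    group

lemma fixes_of_gen {m : ℕ} {c : Fin 12} (h : ∀ j, j < m → gen j c = c) : ∀ k ∈ K m, k c = c := by
  intro k hk
  have : K m ≤ MulAction.stabilizer Pm c := by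
    apply (Subgroup.closure_le _).mpr
    rintro g ⟨j, hj, rfl⟩
    exact h j hj
  exact this hk

/-- transversal elements are correct -/
def Level.ok (lv : Level) : Bool := lv.tbl.all fun e => evalWord e.2 lv.b == e.1

/-- the only entry over the base point is the trivial one -/
def Level.baseOnly (lv : Level) : Bool := lv.tbl.all fun e => (e.1 != lv.b) || e.2.isEmpty

lemma stab_le (lv : Level) (rest : List Level) (M' : ℕ) (_hM' : M' ≤ lv.m)
    (hrest : ∀ l ∈ rest, l.m ≤ M' ∧ l.wf = true)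
    (hcheck : checkLevel lv rest = true) (hbase : (lv.b, []) ∈ lv.tbl)
    (hok : lv.ok = true) (hbo : lv.baseOnly = true) (hfix : ∀ j, j < M' → gen j lv.b = lv.b) :
    ∀ k ∈ K lv.m, k lv.b = lv.b → k ∈ K M' := by
  intro k hk hkb
  obtain ⟨e, he, l, hl, rfl⟩ := step lv rest M' hrest hcheck hbase k hk
  have hlb : l lv.b = lv.b := fixes_of_gen hfix l hl
  simp only [Level.ok, List.all_eq_true, beq_iff_eq] at hok
  simp only [Level.baseOnly, List.all_eq_true, Bool.or_eq_true, bne_iff_ne, ne_eq,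
    List.isEmpty_iff] at hbo
  have h1 : e.1 = lv.b := by
    have h2 := hkb
    rw [Equiv.Perm.mul_apply, hlb, hok e he] at h2
    exact h2
  rcases hbo e he with h | h
  · exact absurd h1 h
  · rw [h]; simpa [evalWord] using hl

lemma card_step (lv : Level) (rest : List Level) (M' : ℕ) (hM' : M' ≤ lv.m)
    (hrest : ∀ l ∈ rest, l.m ≤ M' ∧ l.wf = true) (hwf : lv.wf = true)
    (hcheck : checkLevel lv rest = true) (hbase : (lv.b, []) ∈ lv.tbl)
    (hok : lv.ok = true) (hnd : (lv.tbl.map Prod.fst).Nodup)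
    (hfix : ∀ j, j < M' → gen j lv.b = lv.b) :
    Nat.card (K lv.m) = lv.tbl.length * Nat.card (K M') := by
  simp only [Level.ok, List.all_eq_true, beq_iff_eq] at hok
  let Φ : Fin lv.tbl.length × K M' → K lv.m := fun p =>
    ⟨evalWord (lv.tbl.get p.1).2 * (p.2 : Pm),
      mul_mem (Level.wf_mem hwf (List.get_mem _ _)) (K_mono hM' p.2.2)⟩
  have hinj : Function.Injective Φ := by
    rintro ⟨i, l⟩ ⟨i', l'⟩ h
    have h' : evalWord (lv.tbl.get i).2 * (l : Pm) = evalWord (lv.tbl.get i').2 * (l' : Pm) :=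
      congrArg Subtype.val h
    have hb := congrArg (fun g : Pm => g lv.b) h'
    simp only [Equiv.Perm.coe_mul, Function.comp_apply] at hb
    rw [fixes_of_gen hfix _ l.2, fixes_of_gen hfix _ l'.2, hok _ (List.get_mem _ _),
      hok _ (List.get_mem _ _)] at hb
    have hii : i = i' := by
      have hinj' := List.nodup_iff_injective_get.mp hnd
      apply Fin.ext
      have h3 : (lv.tbl.map Prod.fst).get ⟨i, by simp⟩ = (lv.tbl.map Prod.fst).get ⟨i', by simp⟩ := by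
        simpa using hb
      have := hinj' h3
      simpa using congrArg Fin.val this
    subst hii
    have : (l : Pm) = l' := mul_left_cancel h'
    exact Prod.ext rfl (Subtype.ext this)
  have hsurj : Function.Surjective Φ := by
    rintro ⟨k, hk⟩
    obtain ⟨e, he, l, hl, rfl⟩ := step lv rest M' hrest hcheck hbase k hk
    obtain ⟨i, hi⟩ := List.get_of_mem he
    refine ⟨⟨i, ⟨l, hl⟩⟩, ?_⟩
    apply Subtype.ext
    show evalWord (lv.tbl.get i).2 * l = evalWord e.2 * l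
    rw [hi]
  have := Nat.card_congr (Equiv.ofBijective Φ ⟨hinj, hsurj⟩)
  rw [← this, Nat.card_prod, Nat.card_fin]

lemma K_zero : K 0 = ⊥ := by
  unfold K
  have : {g : Pm | ∃ j, j < 0 ∧ gen j = g} = ∅ := by
    ext g; simp
  rw [this, Subgroup.closure_empty]


/-! ### the concrete chain -/

lemma rest1 : ∀ l ∈ [L2, L3, L4, L5], l.m ≤ 7 ∧ l.wf = true := by decide
lemma rest2 : ∀ l ∈ [L3, L4, L5], l.m ≤ 6 ∧ l.wf = true := by decide
lemma rest3 : ∀ l ∈ [L4, L5], l.m ≤ 5 ∧ l.wf = true := by decide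
lemma rest4 : ∀ l ∈ [L5], l.m ≤ 3 ∧ l.wf = true := by decide
lemma rest5 : ∀ l ∈ ([] : List Level), l.m ≤ 0 ∧ l.wf = true := by simp

lemma gfix2 : ∀ j, j < 7 → gen j 2 = 2 := by decide +kernel
lemma gfix1 : ∀ j, j < 6 → gen j 1 = 1 := by decide +kernel
lemma gfix0 : ∀ j, j < 5 → gen j 0 = 0 := by decide +kernel
lemma gfix3 : ∀ j, j < 3 → gen j 3 = 3 := by decide +kernel
lemma gfix4 : ∀ j, j < 0 → gen j 4 = 4 := by simp

lemma fix2 : ∀ k ∈ K 7, k 2 = 2 := fixes_of_gen gfix2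
lemma fix1 : ∀ k ∈ K 6, k 1 = 1 := fixes_of_gen gfix1
lemma fix0 : ∀ k ∈ K 5, k 0 = 0 := fixes_of_gen gfix0
lemma fix3 : ∀ k ∈ K 3, k 3 = 3 := fixes_of_gen gfix3

lemma stab1 : ∀ k ∈ K 8, k 2 = 2 → k ∈ K 7 :=
  stab_le L1 [L2, L3, L4, L5] 7 (by decide) rest1 check1 (by decide) (by decide +kernel)
    (by decide) gfix2
lemma stab2 : ∀ k ∈ K 7, k 1 = 1 → k ∈ K 6 :=
  stab_le L2 [L3, L4, L5] 6 (by decide) rest2 check2 (by decide) (by decide +kernel)
    (by decide) gfix1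
lemma stab3 : ∀ k ∈ K 6, k 0 = 0 → k ∈ K 5 :=
  stab_le L3 [L4, L5] 5 (by decide) rest3 check3 (by decide) (by decide +kernel)
    (by decide) gfix0
lemma stab4 : ∀ k ∈ K 5, k 3 = 3 → k ∈ K 3 :=
  stab_le L4 [L5] 3 (by decide) rest4 check4 (by decide) (by decide +kernel)
    (by decide) gfix3
lemma stab5 : ∀ k ∈ K 3, k 4 = 4 → k ∈ K 0 :=
  stab_le L5 [] 0 (by decide) rest5 check5 (by decide) (by decide +kernel)
    (by decide) gfix4

lemma card1 : Nat.card (K 8) = 12 * Nat.card (K 7) :=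
  card_step L1 [L2, L3, L4, L5] 7 (by decide) rest1 (by decide) check1 (by decide)
    (by decide +kernel) (by decide) gfix2
lemma card2 : Nat.card (K 7) = 11 * Nat.card (K 6) :=
  card_step L2 [L3, L4, L5] 6 (by decide) rest2 (by decide) check2 (by decide)
    (by decide +kernel) (by decide) gfix1
lemma card3 : Nat.card (K 6) = 10 * Nat.card (K 5) :=
  card_step L3 [L4, L5] 5 (by decide) rest3 (by decide) check3 (by decide)
    (by decide +kernel) (by decide) gfix0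
lemma card4 : Nat.card (K 5) = 9 * Nat.card (K 3) :=
  card_step L4 [L5] 3 (by decide) rest4 (by decide) check4 (by decide)
    (by decide +kernel) (by decide) gfix3
lemma card5 : Nat.card (K 3) = 8 * Nat.card (K 0) :=
  card_step L5 [] 0 (by decide) rest5 (by decide) check5 (by decide)
    (by decide +kernel) (by decide) gfix4

lemma card_K0 : Nat.card (K 0) = 1 := by rw [K_zero]; simp

lemma card_K7 : Nat.card (K 7) = 7920 := by
  rw [card2, card3, card4, card5, card_K0]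
lemma card_K8 : Nat.card (K 8) = 95040 := by
  rw [card1, card_K7]

lemma trans_of_tbl (lv : Level) (hwf : lv.wf = true) (hok : lv.ok = true) (β : Fin 12)
    (hβ : β ∈ lv.tbl.map Prod.fst) : ∃ k ∈ K lv.m, k β = lv.b := by
  simp only [Level.ok, List.all_eq_true, beq_iff_eq] at hok
  obtain ⟨e, he, rfl⟩ := List.mem_map.mp hβ
  refine ⟨(evalWord e.2)⁻¹, inv_mem (Level.wf_mem hwf he), ?_⟩
  rw [← hok e he]
  simp

lemma trans1 : ∀ β : Fin 12, ∃ k ∈ K 8, k β = 2 := fun β =>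
  trans_of_tbl L1 (by decide) (by decide +kernel) β (by revert β; decide)
lemma trans2 : ∀ β : Fin 12, β ≠ 2 → ∃ k ∈ K 7, k β = 1 := fun β h =>
  trans_of_tbl L2 (by decide) (by decide +kernel) β (by revert β; decide)
lemma trans3 : ∀ β : Fin 12, β ≠ 2 → β ≠ 1 → ∃ k ∈ K 6, k β = 0 := fun β h h' =>
  trans_of_tbl L3 (by decide) (by decide +kernel) β (by revert β; decide)
lemma trans4 : ∀ β : Fin 12, β ≠ 2 → β ≠ 1 → β ≠ 0 → ∃ k ∈ K 5, k β = 3 := fun β h h' h'' =>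
  trans_of_tbl L4 (by decide) (by decide +kernel) β (by revert β; decide)
lemma trans5 : ∀ β : Fin 12, β ≠ 2 → β ≠ 1 → β ≠ 0 → β ≠ 3 → ∃ k ∈ K 3, k β = 4 :=
  fun β h h' h'' h''' =>
  trans_of_tbl L5 (by decide) (by decide +kernel) β (by revert β; decide)

lemma to_base (y : Fin 5 ↪ Fin 12) :
    ∃ g ∈ K 8, g (y 0) = 2 ∧ g (y 1) = 1 ∧ g (y 2) = 0 ∧ g (y 3) = 3 ∧ g (y 4) = 4 := by
  have hy : ∀ i j : Fin 5, i ≠ j → y i ≠ y j := fun i j h => y.injective.ne h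
  obtain ⟨g1, hg1, a1⟩ := trans1 (y 0)
  -- level 2
  have n1 : g1 (y 1) ≠ 2 := by
    rw [← a1]; exact g1.injective.ne (hy 1 0 (by decide))
  obtain ⟨k2, hk2, b2⟩ := trans2 _ n1
  set g2 := k2 * g1 with hg2def
  have hg2 : g2 ∈ K 8 := mul_mem (K_mono (by norm_num) hk2) hg1
  have a2_0 : g2 (y 0) = 2 := by
    rw [hg2def, Equiv.Perm.mul_apply, a1]; exact fix2 k2 hk2
  have a2_1 : g2 (y 1) = 1 := by rw [hg2def, Equiv.Perm.mul_apply]; exact b2
  -- level 3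
  have n2a : g2 (y 2) ≠ 2 := by rw [← a2_0]; exact g2.injective.ne (hy 2 0 (by decide))
  have n2b : g2 (y 2) ≠ 1 := by rw [← a2_1]; exact g2.injective.ne (hy 2 1 (by decide))
  obtain ⟨k3, hk3, b3⟩ := trans3 _ n2a n2b
  set g3 := k3 * g2 with hg3def
  have hg3 : g3 ∈ K 8 := mul_mem (K_mono (by norm_num) hk3) hg2
  have a3_0 : g3 (y 0) = 2 := by
    rw [hg3def, Equiv.Perm.mul_apply, a2_0]; exact fix2 k3 (K_mono (by norm_num) hk3)
  have a3_1 : g3 (y 1) = 1 := by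
    rw [hg3def, Equiv.Perm.mul_apply, a2_1]; exact fix1 k3 hk3
  have a3_2 : g3 (y 2) = 0 := by rw [hg3def, Equiv.Perm.mul_apply]; exact b3
  -- level 4
  have n3a : g3 (y 3) ≠ 2 := by rw [← a3_0]; exact g3.injective.ne (hy 3 0 (by decide))
  have n3b : g3 (y 3) ≠ 1 := by rw [← a3_1]; exact g3.injective.ne (hy 3 1 (by decide))
  have n3c : g3 (y 3) ≠ 0 := by rw [← a3_2]; exact g3.injective.ne (hy 3 2 (by decide))
  obtain ⟨k4, hk4, b4⟩ := trans4 _ n3a n3b n3c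
  set g4 := k4 * g3 with hg4def
  have hg4 : g4 ∈ K 8 := mul_mem (K_mono (by norm_num) hk4) hg3
  have a4_0 : g4 (y 0) = 2 := by
    rw [hg4def, Equiv.Perm.mul_apply, a3_0]; exact fix2 k4 (K_mono (by norm_num) hk4)
  have a4_1 : g4 (y 1) = 1 := by
    rw [hg4def, Equiv.Perm.mul_apply, a3_1]; exact fix1 k4 (K_mono (by norm_num) hk4)
  have a4_2 : g4 (y 2) = 0 := by
    rw [hg4def, Equiv.Perm.mul_apply, a3_2]; exact fix0 k4 hk4
  have a4_3 : g4 (y 3) = 3 := by rw [hg4def, Equiv.Perm.mul_apply]; exact b4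
  -- level 5
  have n4a : g4 (y 4) ≠ 2 := by rw [← a4_0]; exact g4.injective.ne (hy 4 0 (by decide))
  have n4b : g4 (y 4) ≠ 1 := by rw [← a4_1]; exact g4.injective.ne (hy 4 1 (by decide))
  have n4c : g4 (y 4) ≠ 0 := by rw [← a4_2]; exact g4.injective.ne (hy 4 2 (by decide))
  have n4d : g4 (y 4) ≠ 3 := by rw [← a4_3]; exact g4.injective.ne (hy 4 3 (by decide))
  obtain ⟨k5, hk5, b5⟩ := trans5 _ n4a n4b n4c n4d
  refine ⟨k5 * g4, mul_mem (K_mono (by norm_num) hk5) hg4, ?_, ?_, ?_, ?_, ?_⟩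
  · rw [Equiv.Perm.mul_apply, a4_0]; exact fix2 k5 (K_mono (by norm_num) hk5)
  · rw [Equiv.Perm.mul_apply, a4_1]; exact fix1 k5 (K_mono (by norm_num) hk5)
  · rw [Equiv.Perm.mul_apply, a4_2]; exact fix0 k5 (K_mono (by norm_num) hk5)
  · rw [Equiv.Perm.mul_apply, a4_3]; exact fix3 k5 hk5
  · rw [Equiv.Perm.mul_apply]; exact b5

lemma eq_one_of_fix_base (k : Pm) (hk : k ∈ K 8) (h2 : k 2 = 2) (h1 : k 1 = 1) (h0 : k 0 = 0)
    (h3 : k 3 = 3) (h4 : k 4 = 4) : k = 1 := by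
  have := stab5 k (stab4 k (stab3 k (stab2 k (stab1 k hk h2) h1) h0) h3) h4
  rw [K_zero] at this
  exact Subgroup.mem_bot.mp this

lemma gens8 : ({gs, gt, gu, gv, gw, gx1, gx2, gx3} : Set Pm) = {g | ∃ j, j < 8 ∧ gen j = g} := by
  ext g
  simp only [Set.mem_insert_iff, Set.mem_singleton_iff, Set.mem_ofPred_eq]
  constructor
  · rintro (rfl | rfl | rfl | rfl | rfl | rfl | rfl | rfl)
    · exact ⟨3, by norm_num, rfl⟩
    · exact ⟨4, by norm_num, rfl⟩
    · exact ⟨0, by norm_num, rfl⟩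
    · exact ⟨1, by norm_num, rfl⟩
    · exact ⟨2, by norm_num, rfl⟩
    · exact ⟨5, by norm_num, rfl⟩
    · exact ⟨6, by norm_num, rfl⟩
    · exact ⟨7, by norm_num, rfl⟩
  · rintro ⟨j, hj, rfl⟩
    interval_cases j <;> simp [gen]

lemma gens7 : ({gs, gt, gu, gv, gw, gx1, gx2} : Set Pm) = {g | ∃ j, j < 7 ∧ gen j = g} := by
  ext g
  simp only [Set.mem_insert_iff, Set.mem_singleton_iff, Set.mem_ofPred_eq]
  constructor
  · rintro (rfl | rfl | rfl | rfl | rfl | rfl | rfl)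
    · exact ⟨3, by norm_num, rfl⟩
    · exact ⟨4, by norm_num, rfl⟩
    · exact ⟨0, by norm_num, rfl⟩
    · exact ⟨1, by norm_num, rfl⟩
    · exact ⟨2, by norm_num, rfl⟩
    · exact ⟨5, by norm_num, rfl⟩
    · exact ⟨6, by norm_num, rfl⟩
  · rintro ⟨j, hj, rfl⟩
    interval_cases j <;> simp [gen]

lemma main :
    MulAction.IsMultiplyPretransitive (K 8) (Fin 12) 5 ∧
    (∀ y : Fin 5 ↪ Fin 12, MulAction.stabilizer (K 8) y = ⊥) ∧
    Nat.card (K 8) = 95040 ∧ Nat.card (K 7) = 7920 ∧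
    K 7 = K 8 ⊓ MulAction.stabilizer Pm (2 : Fin 12) := by
  refine ⟨?_, ?_, card_K8, card_K7, ?_⟩
  · refine ⟨fun x y => ?_⟩
    obtain ⟨gx, hgx, x0, x1, x2, x3, x4⟩ := to_base x
    obtain ⟨gy, hgy, y0, y1, y2, y3, y4⟩ := to_base y
    refine ⟨⟨gy⁻¹ * gx, mul_mem (inv_mem hgy) hgx⟩, ?_⟩
    refine Function.Embedding.ext (fun i => ?_)
    rw [Function.Embedding.smul_apply]
    show ((gy⁻¹ * gx) (x i) : Fin 12) = y i
    rw [Equiv.Perm.mul_apply, Equiv.Perm.inv_eq_iff_eq]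
    fin_cases i
    · exact x0.trans y0.symm
    · exact x1.trans y1.symm
    · exact x2.trans y2.symm
    · exact x3.trans y3.symm
    · exact x4.trans y4.symm
  · intro y
    rw [eq_bot_iff]
    rintro ⟨g, hg⟩ hgy
    rw [MulAction.mem_stabilizer_iff] at hgy
    have hfix : ∀ i, g (y i) = y i := by
      intro i
      have := congrArg (fun e : Fin 5 ↪ Fin 12 => e i) hgy
      simpa [Function.Embedding.smul_apply] using this
    obtain ⟨h, hh, y0, y1, y2, y3, y4⟩ := to_base y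
    have key : ∀ (i : Fin 5) (c : Fin 12), h (y i) = c → (h * g * h⁻¹) c = c := by
      intro i c hc
      rw [Equiv.Perm.mul_apply, Equiv.Perm.mul_apply]
      have : h⁻¹ c = y i := by rw [Equiv.Perm.inv_eq_iff_eq]; exact hc.symm
      rw [this, hfix i, hc]
    have h1 := eq_one_of_fix_base (h * g * h⁻¹) (mul_mem (mul_mem hh hg) (inv_mem hh))
      (key 0 _ y0) (key 1 _ y1) (key 2 _ y2) (key 3 _ y3) (key 4 _ y4)
    have hg1 : g = 1 := by
      have : g = h⁻¹ * (h * g * h⁻¹) * h := by group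
      rw [this, h1]; group
    rw [Subgroup.mem_bot]
    exact Subtype.ext hg1
  · apply le_antisymm
    · intro k hk
      exact Subgroup.mem_inf.mpr ⟨K_mono (by norm_num) hk, fix2 k hk⟩
    · intro k hk
      obtain ⟨h8, h2⟩ := Subgroup.mem_inf.mp hk
      exact stab1 k h8 h2


theorem result
    (s t u v w x₁ x₂ x₃ : Equiv.Perm (Fin 12))
    (hs : s = Equiv.swap (3 : Fin 12) 5 * Equiv.swap (3 : Fin 12) 4 * Equiv.swap (6 : Fin 12) 8 * Equiv.swap (6 : Fin 12) 7 * Equiv.swap (9 : Fin 12) 11 * Equiv.swap (9 : Fin 12) 10) (ht : t = Equiv.swap (3 : Fin 12) 9 * Equiv.swap (3 : Fin 12) 6 * Equiv.swap (4 : Fin 12) 10 * Equiv.swap (4 : Fin 12) 7 * Equiv.swap (5 : Fin 12) 11 * Equiv.swap (5 : Fin 12) 8)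
    (hu : u = Equiv.swap (4 : Fin 12) 9 * Equiv.swap (4 : Fin 12) 5 * Equiv.swap (4 : Fin 12) 6 * Equiv.swap (7 : Fin 12) 10 * Equiv.swap (7 : Fin 12) 11 * Equiv.swap (7 : Fin 12) 8) (hv : v = Equiv.swap (4 : Fin 12) 11 * Equiv.swap (4 : Fin 12) 5 * Equiv.swap (4 : Fin 12) 7 * Equiv.swap (6 : Fin 12) 8 * Equiv.swap (6 : Fin 12) 9 * Equiv.swap (6 : Fin 12) 10) (hw : w = Equiv.swap (4 : Fin 12) 8 * Equiv.swap (4 : Fin 12) 5 * Equiv.swap (4 : Fin 12) 10 * Equiv.swap (6 : Fin 12) 7 * Equiv.swap (6 : Fin 12) 9 * Equiv.swap (6 : Fin 12) 11)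
    (hx₁ : x₁ = Equiv.swap (0 : Fin 12) 3 * Equiv.swap (6 : Fin 12) 7 * Equiv.swap (8 : Fin 12) 10 * Equiv.swap (9 : Fin 12) 11) (hx₂ : x₂ = Equiv.swap (0 : Fin 12) 1 * Equiv.swap (6 : Fin 12) 9 * Equiv.swap (7 : Fin 12) 10 * Equiv.swap (8 : Fin 12) 11)
    (hx₃ : x₃ = Equiv.swap (1 : Fin 12) 2 * Equiv.swap (6 : Fin 12) 11 * Equiv.swap (7 : Fin 12) 9 * Equiv.swap (8 : Fin 12) 10)
    (M₁₂ M₁₁ : Subgroup (Equiv.Perm (Fin 12))) (hM₁₂ : M₁₂ = Subgroup.closure {s, t, u, v, w, x₁, x₂, x₃})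
    (hM₁₁ : M₁₁ = Subgroup.closure {s, t, u, v, w, x₁, x₂}) :
    MulAction.IsMultiplyPretransitive M₁₂ (Fin 12) 5 ∧ (∀ y : Fin 5 ↪ Fin 12, MulAction.stabilizer M₁₂ y = ⊥) ∧
    Nat.card M₁₂ = 95040 ∧ Nat.card M₁₁ = 7920 ∧
    M₁₁ = M₁₂ ⊓ MulAction.stabilizer (Equiv.Perm (Fin 12)) (2 : Fin 12) := by
  have e12 : M₁₂ = K 8 := by
    rw [hM₁₂, hs, ht, hu, hv, hw, hx₁, hx₂, hx₃]
    exact congrArg Subgroup.closure gens8
  have e11 : M₁₁ = K 7 := by
    rw [hM₁₁, hs, ht, hu, hv, hw, hx₁, hx₂]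
    exact congrArg Subgroup.closure gens7
  subst e12 e11
  exact main

end Cfsg.Agent.S3362
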