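import Cfsg.Statements.S3380
import Cfsg.Agent.Lib.Helper63.ImprimP
import Cfsg.Agent.Lib.Helper63.NoNormalFour
import Cfsg.Agent.S0636

set_option autoImplicit false
open Cfsg

namespace Cfsg.Agent.S3380

open Cfsg.Agent.Helper63

/-- Let a finite p-group G act faithfully and irreducibly on a non-trivial finite vector space V over the field with q elements (q prime), and suppose G is not cyclic, generalized quaternion, dihedral or semidihedral. Then G has a subgroup H of index p and V is the direct sum of p subspaces, each invariant under H, on none of which H acts faithfully, and which every element of G outside H permutes in a single p-cycle. -/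
theorem result
    (q : ℕ) [Fact q.Prime] {V : Type*} [AddCommGroup V] [Module (ZMod q) V] [Finite V] [Nontrivial V]
    {G : Type*} [Group G] [Finite G] (p : ℕ) [Fact p.Prime] (hG : IsPGroup p G)
    (ρ : G →* (V ≃ₗ[ZMod q] V)) (hρ : Function.Injective ρ)
    (hirr : ∀ W : Submodule (ZMod q) V, (∀ g : G, ∀ w ∈ W, ρ g w ∈ W) → W = ⊥ ∨ W = ⊤)
    (hnc : ¬ IsCyclic G) (hnq : ∀ n : ℕ, ¬ Nonempty (G ≃* QuaternionGroup n))
    (hnd : ∀ n : ℕ, ¬ Nonempty (G ≃* DihedralGroup n)) (hnsd : ¬ Cfsg.IsQuasiDihedral G) :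
    ∃ (H : Subgroup G) (W : Fin p → Submodule (ZMod q) V), H.index = p ∧
      iSup W = ⊤ ∧ iSupIndep W ∧
      (∀ h ∈ H, ∀ i, ∀ w ∈ W i, ρ h w ∈ W i) ∧
      (∀ i, ∃ h ∈ H, h ≠ 1 ∧ ∀ w ∈ W i, ρ h w = w) ∧
      ∀ g : G, g ∉ H → ∃ σ : Equiv.Perm (Fin p), orderOf σ = p ∧ ∀ i, (W i).map (ρ g : V →ₗ[ZMod q] V) = W (σ i) := by
  classical
  have hpp : p.Prime := Fact.out
  have hqp : q.Prime := Fact.out
  -- the characteristic differs from p
  have hpq : (p : ZMod q) ≠ 0 := by
    intro h0
    have hqp' : q = p := by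
      rw [ZMod.natCast_eq_zero_iff] at h0
      exact (Nat.prime_dvd_prime_iff_eq hqp hpp).mp h0
    subst hqp'
    apply hnc
    let σ : G →* Module.End (ZMod q) V :=
      { toFun := fun g => ((ρ g : V ≃ₗ[ZMod q] V) : V →ₗ[ZMod q] V)
        map_one' := by
          ext v
          simp
        map_mul' := by
          intro g h
          ext v
          simp }
    obtain ⟨w, hw0, hw⟩ := LinPGroup.exists_fixed (F := ZMod q) (p := q) h0 hG σ
    have hinv : ∀ g : G, ∀ v ∈ (⨅ g : G, ImprimP.fixSp ρ g), ρ g v ∈ (⨅ g : G, ImprimP.fixSp ρ g) := by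
      intro g v hv
      rw [Submodule.mem_iInf] at hv
      rw [(ImprimP.mem_fixSp ρ g v).mp (hv g)]
      exact (Submodule.mem_iInf _).mpr hv
    have hwmem : w ∈ (⨅ g : G, ImprimP.fixSp ρ g) := by
      rw [Submodule.mem_iInf]
      intro g
      exact (ImprimP.mem_fixSp ρ g w).mpr (hw g)
    rcases hirr _ hinv with h | h
    · rw [h, Submodule.mem_bot] at hwmem
      exact absurd hwmem hw0
    · have htriv : ∀ g : G, g = 1 := by
        intro g
        apply hρ
        rw [map_one]
        ext v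
        have hv : v ∈ (⨅ g : G, ImprimP.fixSp ρ g) := by rw [h]; trivial
        rw [Submodule.mem_iInf] at hv
        exact (ImprimP.mem_fixSp ρ g v).mp (hv g)
      have : Subsingleton G := ⟨fun a b => (htriv a).trans (htriv b).symm⟩
      exact isCyclic_of_subsingleton
  -- a normal elementary abelian subgroup of order p²
  have hA : ∃ A : Subgroup G, A.Normal ∧ (∀ a ∈ A, a ^ p = 1) ∧ Nat.card A = p ^ 2 := by
    by_cases hp2 : p = 2
    · subst hp2
      obtain ⟨U, hUn, hU4⟩ := NoNormalFour.exists_normal_klein hG hnc hnq hnd hnsd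
      refine ⟨U, hUn, ?_, ?_⟩
      · intro a ha
        have h1 : (⟨a, ha⟩ : U) ^ Monoid.exponent U = 1 := Monoid.pow_exponent_eq_one _
        rw [IsKleinFour.exponent_two] at h1
        exact congrArg Subtype.val h1
      · rw [IsKleinFour.card_four]; norm_num
    · have hntop : ¬ IsCyclic (⊤ : Subgroup G) := by
        intro h
        apply hnc
        exact isCyclic_of_surjective Subgroup.topEquiv.toMonoidHom Subgroup.topEquiv.surjective
      obtain ⟨M, -, hMn, -, hMe, hMc⟩ := Cfsg.Agent.S0636.main hp2 hG (⊤ : Subgroup G) hntop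
      exact ⟨M, hMn, hMe, hMc⟩
  obtain ⟨A, hAn, hAe, hAc⟩ := hA
  exact ImprimP.imprimitive p hG hpq ρ hρ hirr A hAe hAc

end Cfsg.Agent.S3380
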