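-- Statement S3371: half-transitive linear p-groups (Passman).
import Cfsg.Statements.S3371
import Cfsg.Agent.Lib.Helper56.HalfTransC
import Cfsg.Agent.Lib.Helper56.HalfTransF
import Cfsg.Agent.S3380
import Cfsg.Agent.S2777

set_option autoImplicit false
set_option linter.style.haveILetI false
set_option maxHeartbeats 1600000
open Cfsg

namespace Cfsg.Agent.S3371

open Cfsg.Agent.Helper56 Cfsg.Agent.Helper63 Cfsg.Agent.S3370

/-- Let q be a prime, V a non-trivial finite vector space over the field with q elements, and G a finite p-group (p prime) acting faithfully and linearly on V such that all G-orbits on the non-zero vectors have the same size. Then one of the following holds: G is cyclic or generalized quaternion and acts semiregularly on the non-zero vectors; or V has q² elements with q = 2^m − 1 and G is dihedral of order 2^(m+1) or semidihedral of order 2^(m+2); or V has q² elements with q = 2^m + 1 and, in suitable coordinates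 V = F_q², G is exactly the group of maps (x, y) ↦ (a x, ± a⁻¹ y) and (x, y) ↦ (± a⁻¹ y, a x) with a ≠ 0; or V has 81 elements (q = 3) and G is a 2-group. -/
theorem result (q : ℕ) [Fact q.Prime] {V : Type*} [AddCommGroup V] [Module (ZMod q) V] [Finite V] [Nontrivial V]
    {G : Type*} [Group G] [Finite G] (p : ℕ) [Fact p.Prime] (hG : IsPGroup p G)
    (ρ : G →* (V ≃ₗ[ZMod q] V)) (hρ : Function.Injective ρ)
    (hhalf : ∀ v w : V, v ≠ 0 → w ≠ 0 → Nat.card {u : V | ∃ g : G, ρ g v = u} = Nat.card {u : V | ∃ g : G, ρ g w = u}) :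
    ((IsCyclic G ∨ ∃ n : ℕ, Nonempty (G ≃* QuaternionGroup n)) ∧ ∀ v : V, v ≠ 0 → ∀ g : G, ρ g v = v → g = 1) ∨
    (Nat.card V = q ^ 2 ∧ ∃ m : ℕ, q = 2 ^ m - 1 ∧
      (Nonempty (G ≃* DihedralGroup (2 ^ m)) ∨ (Cfsg.IsQuasiDihedral G ∧ Nat.card G = 2 ^ (m + 2)))) ∨
    (Nat.card V = q ^ 2 ∧ (∃ m : ℕ, q = 2 ^ m + 1) ∧
      ∃ e : V ≃ₗ[ZMod q] (Fin 2 → ZMod q), ∀ f : (Fin 2 → ZMod q) ≃ₗ[ZMod q] (Fin 2 → ZMod q),
        (∃ g : G, f = e.symm.trans ((ρ g).trans e)) ↔
        ∃ a s : ZMod q, a ≠ 0 ∧ (s = 1 ∨ s = -1) ∧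
          ((∀ v, f v = ![a * v 0, s * a⁻¹ * v 1]) ∨ (∀ v, f v = ![s * a⁻¹ * v 1, a * v 0]))) ∨
    (Nat.card V = 81 ∧ q = 3 ∧ p = 2) := by
  classical
  have hpp : p.Prime := Fact.out
  have hqp : q.Prime := Fact.out
  by_cases hsr : ∀ v : V, v ≠ 0 → ∀ g : G, ρ g v = v → g = 1
  · left
    exact ⟨HT.semiregular_case ρ p hG hsr, hsr⟩
  right
  have hns : ∃ v : V, v ≠ 0 ∧ ∃ g : G, g ≠ 1 ∧ ρ g v = v := by
    by_contra h
    apply hsr
    intro v hv g hg
    by_contra hg1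
    exact h ⟨v, hv, g, hg1, hg⟩
  have hh : HT.HalfT ρ := HT.halfT_of_orbits ρ hhalf
  obtain ⟨v₀, hv₀, g₀, hg₀, hgv₀⟩ := id hns
  have hpq0 : (p : ZMod q) ≠ 0 := by
    intro h0
    exact hg₀ (HT.eq_one_of_char ρ p hG hρ hh h0 g₀)
  have hpq : p ≠ q := by
    rintro rfl
    exact hpq0 (ZMod.natCast_self p)
  have hcard0 : (Nat.card G : ZMod q) ≠ 0 := by
    obtain ⟨n, hn⟩ := IsPGroup.iff_card.mp hG
    rw [hn, Nat.cast_pow]
    exact pow_ne_zero n hpq0
  have hirr := HT.irreducible ρ hcard0 hρ hh hns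
  have hV : Nat.card V = q ^ Module.finrank (ZMod q) V := by
    rw [Module.natCard_eq_pow_finrank (K := ZMod q), Nat.card_zmod]
  have hQge : ∀ Q : ℕ, Nat.card V = Q * Q → 2 ≤ Q := by
    intro Q hQ
    have h1 : 1 < Nat.card V := Finite.one_lt_card
    rw [hQ] at h1
    by_contra h
    have h2 : Q = 0 ∨ Q = 1 := by omega
    rcases h2 with rfl | rfl <;> simp at h1
  -- a central element cannot fix a nonzero vector
  have hcentral : ∀ x : G, x ∈ Subgroup.center G → x ≠ 1 → ρ x v₀ ≠ v₀ := by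
    intro x hxc hx1 hxv
    have h1 := ImprimP.fixSp_central_eq_bot ρ hρ hirr x hxc hx1
    have hv : v₀ ∈ ImprimP.fixSp ρ x := (ImprimP.mem_fixSp ρ x v₀).mpr hxv
    rw [h1, Submodule.mem_bot] at hv
    exact hv₀ hv
  have hncomm : ¬ ∀ a b : G, a * b = b * a := by
    intro hcomm
    have hc : g₀ ∈ Subgroup.center G := by
      rw [Subgroup.mem_center_iff]
      intro g
      exact hcomm g g₀
    exact hcentral g₀ hc hg₀ hgv₀
  have hnc : ¬ IsCyclic G := by
    intro hcyc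
    apply hncomm
    intro a b
    exact (IsCyclic.isMulCommutative (α := G)).is_comm.comm a b
  have hnq : ∀ n : ℕ, ¬ Nonempty (G ≃* QuaternionGroup n) := by
    rintro n ⟨e⟩
    have htop : (⊤ : Subgroup G) ≠ ⊥ := by
      intro h
      have h1 : g₀ ∈ (⊤ : Subgroup G) := trivial
      rw [h, Subgroup.mem_bot] at h1
      exact hg₀ h1
    obtain ⟨x, -, hxc, hxo⟩ :=
      Cfsg.Agent.Helper11.exists_mem_center_orderOf_eq_of_normal hG ⊤ htop
    have hx1 : x ≠ 1 := by
      intro h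
      rw [h, orderOf_one] at hxo
      exact hpp.one_lt.ne hxo
    have hxp : x ^ p = 1 := by
      rw [← hxo]
      exact pow_orderOf_eq_one x
    obtain ⟨g₁, hg₁1, hg₁p, hg₁v⟩ : ∃ g₁ : G, g₁ ≠ 1 ∧ g₁ ^ p = 1 ∧ ρ g₁ v₀ = v₀ := by
      have hex : ∃ k : ℕ, g₀ ^ p ^ k = 1 := hG g₀
      have hk0 : Nat.find hex ≠ 0 := by
        intro h0
        have := Nat.find_spec hex
        rw [h0, pow_zero, pow_one] at this
        exact hg₀ this
      obtain ⟨j, hj⟩ : ∃ j, Nat.find hex = j + 1 := ⟨Nat.find hex - 1, by omega⟩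
      refine ⟨g₀ ^ p ^ j, ?_, ?_, ImprimP.rho_pow_fixed ρ g₀ v₀ hgv₀ _⟩
      · intro h
        exact Nat.find_min hex (m := j) (by omega) h
      · have := Nat.find_spec hex
        rw [hj, pow_succ, pow_mul] at this
        exact this
    have hmem := Cfsg.Agent.S2777.mem_zpowers_of_quaternion hG e hxp hg₁p hg₁1
    have hle : Subgroup.zpowers g₁ ≤ Stab ρ v₀ := Subgroup.zpowers_le.mpr hg₁v
    exact hcentral x hxc hx1 (hle hmem)
  by_cases hd : ∃ n : ℕ, Nonempty (G ≃* DihedralGroup n)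
  · left
    obtain ⟨n, ⟨φ⟩⟩ := hd
    have hn0 : n ≠ 0 := by
      rintro rfl
      haveI : Finite (DihedralGroup 0) := Finite.of_equiv G φ.toEquiv
      exact not_finite (DihedralGroup 0)
    haveI : NeZero n := ⟨hn0⟩
    have hcardG : Nat.card G = 2 * n := by
      rw [Nat.card_congr φ.toEquiv, DihedralGroup.nat_card]
    obtain ⟨j, hj⟩ := IsPGroup.iff_card.mp hG
    have hp2 : p = 2 := by
      have h1 : 2 ∣ p ^ j := by
        rw [← hj, hcardG]
        exact dvd_mul_right 2 n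
      have h2 := Nat.Prime.dvd_of_dvd_pow Nat.prime_two h1
      exact ((Nat.prime_dvd_prime_iff_eq Nat.prime_two hpp).mp h2).symm
    subst hp2
    have hq2 : q ≠ 2 := fun h => hpq h.symm
    have hj1 : j ≠ 0 := by
      rintro rfl
      rw [pow_zero] at hj
      omega
    obtain ⟨m, rfl⟩ : ∃ m, j = m + 1 := ⟨j - 1, by omega⟩
    have hnm : n = 2 ^ m := by
      rw [hcardG, pow_succ] at hj
      omega
    have hm2 : 2 ≤ m := by
      by_contra hlt
      apply hncomm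
      have hm : m = 0 ∨ m = 1 := by omega
      have hcommD : ∀ a b : DihedralGroup n, a * b = b * a := by
        rcases hm with rfl | rfl
        · have h1 : n = 1 := by rw [hnm]; rfl
          subst h1
          decide
        · have h1 : n = 2 := by rw [hnm]; rfl
          subst h1
          decide
      intro a b
      apply φ.injective
      rw [map_mul, map_mul, hcommD]
    obtain ⟨u, hu⟩ : ∃ u, n = 4 * u := by
      obtain ⟨r, rfl⟩ : ∃ r, m = r + 2 := ⟨m - 2, by omega⟩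
      refine ⟨2 ^ r, ?_⟩
      rw [hnm, pow_add]
      ring
    have hu0 : u ≠ 0 := by
      rintro rfl
      omega
    obtain ⟨Q, hQ1, hQ2⟩ := HT.dihedral_case n u hu hu0 (HT.trp ρ φ.symm) hq2
      (hG.of_equiv φ) (HT.trp_injective ρ φ.symm hρ) (HT.trp_irr ρ φ.symm hirr)
      (HT.trp_halfT ρ φ.symm hh) (HT.trp_hns ρ φ.symm hns)
    obtain ⟨h1, h2⟩ := HT.numeric_dih hqp hq2 (d := Module.finrank (ZMod q) V) (Q := Q) (M := m)
      (by rw [← hV, hQ1]) (by rw [hQ2, hnm]) (hQge Q hQ1)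
    exact ⟨by rw [hV, h1], m, h2, Or.inl ⟨by rw [← hnm]; exact φ⟩⟩
  by_cases hsd : Cfsg.IsQuasiDihedral G
  · left
    obtain ⟨k, hcardG, ⟨φ⟩⟩ := Cfsg.Agent.Helper20.exists_iso_SD hsd
    have hp2 : p = 2 := by
      obtain ⟨j, hj⟩ := IsPGroup.iff_card.mp hG
      have h1 : 2 ∣ p ^ j := by
        rw [← hj, hcardG]
        exact dvd_pow_self 2 (by omega)
      have h2 := Nat.Prime.dvd_of_dvd_pow Nat.prime_two h1
      exact ((Nat.prime_dvd_prime_iff_eq Nat.prime_two hpp).mp h2).symm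
    subst hp2
    have hq2 : q ≠ 2 := fun h => hpq h.symm
    obtain ⟨Q, hQ1, hQ2⟩ := HT.sd_case k (HT.trp ρ φ) hq2
      (hG.of_equiv φ.symm) (HT.trp_injective ρ φ hρ) (HT.trp_irr ρ φ hirr)
      (HT.trp_halfT ρ φ hh) (HT.trp_hns ρ φ hns)
    obtain ⟨h1, h2⟩ := HT.numeric_dih hqp hq2 (d := Module.finrank (ZMod q) V) (Q := Q)
      (M := k + 2) (by rw [← hV, hQ1]) hQ2 (hQge Q hQ1)
    exact ⟨by rw [hV, h1], k + 2, h2, Or.inr ⟨hsd, hcardG⟩⟩
  right
  have hnd : ∀ n : ℕ, ¬ Nonempty (G ≃* DihedralGroup n) := fun n h => hd ⟨n, h⟩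
  obtain ⟨H, W, hHi, hsup, hind, hHW, hK, hperm⟩ :=
    Cfsg.Agent.S3380.result q p hG ρ hρ hirr hnc hnq hnd hsd
  obtain ⟨hp2, h⟩ := HT.imprim_case ρ p hpq hG hρ hh H W hHi hsup hind hHW hK hperm
  rcases h with h | ⟨h1, h2⟩
  · left
    exact h
  · right
    exact ⟨h1, h2, hp2⟩

end Cfsg.Agent.S3371
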