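import Cfsg.Statements.S3374
import Cfsg.Agent.Lib.Helper56.SL25Mat
import Cfsg.Agent.Lib.Helper71.Frobenius

set_option autoImplicit false
open Cfsg

namespace Cfsg.Agent.S3374

open Matrix Cfsg.Agent.Helper56

abbrev V := Fin 2 → ZMod 11
abbrev H := SpecialLinearGroup (Fin 2) (ZMod 5)

instance fact11 : Fact (Nat.Prime 11) := ⟨by norm_num⟩

/-- a determinant one `2 × 2` matrix over `F₁₁` with a nonzero fixed vector has order dividing 11 -/
lemma pow11_of_fixed (M : Matrix (Fin 2) (Fin 2) (ZMod 11)) (hdet : M.det = 1)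
    (v : Fin 2 → ZMod 11) (hv : v ≠ 0) (h : M *ᵥ v = v) : M ^ 11 = 1 := by
  have hN : (M - 1) *ᵥ v = 0 := by rw [Matrix.sub_mulVec, h, Matrix.one_mulVec, sub_self]
  have hdetN : (M - 1).det = 0 := Matrix.exists_mulVec_eq_zero_iff.mp ⟨v, hv, hN⟩
  rw [Matrix.det_fin_two] at hdet hdetN
  simp only [Matrix.sub_apply, Matrix.one_apply_eq, Matrix.one_apply_ne, ne_eq, zero_ne_one,
    one_ne_zero, not_false_eq_true, sub_zero] at hdetN
  have hT : M 0 0 + M 1 1 = 2 := by linear_combination hdet - hdetN
  set N := M - 1 with hNdef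
  have hNN : N * N = 0 := by
    ext i j
    fin_cases i <;> fin_cases j
    · simp only [hNdef, Matrix.mul_apply, Fin.sum_univ_two, Matrix.sub_apply, Matrix.one_apply_eq,
        Matrix.one_apply_ne, ne_eq, zero_ne_one, one_ne_zero, not_false_eq_true, sub_zero,
        Fin.zero_eta, Fin.mk_one, Matrix.zero_apply]
      linear_combination (M 0 0) * hT - hdet
    · simp only [hNdef, Matrix.mul_apply, Fin.sum_univ_two, Matrix.sub_apply, Matrix.one_apply_eq,
        Matrix.one_apply_ne, ne_eq, zero_ne_one, one_ne_zero, not_false_eq_true, sub_zero,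
        Fin.zero_eta, Fin.mk_one, Matrix.zero_apply]
      linear_combination (M 0 1) * hT
    · simp only [hNdef, Matrix.mul_apply, Fin.sum_univ_two, Matrix.sub_apply, Matrix.one_apply_eq,
        Matrix.one_apply_ne, ne_eq, zero_ne_one, one_ne_zero, not_false_eq_true, sub_zero,
        Fin.zero_eta, Fin.mk_one, Matrix.zero_apply]
      linear_combination (M 1 0) * hT
    · simp only [hNdef, Matrix.mul_apply, Fin.sum_univ_two, Matrix.sub_apply, Matrix.one_apply_eq,
        Matrix.one_apply_ne, ne_eq, zero_ne_one, one_ne_zero, not_false_eq_true, sub_zero,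
        Fin.zero_eta, Fin.mk_one, Matrix.zero_apply]
      linear_combination (M 1 1) * hT - hdet
  have hM : M = 1 + N := by rw [hNdef]; abel
  have hpow : ∀ k : ℕ, M ^ k = 1 + k • N := by
    intro k
    induction k with
    | zero => simp
    | succ k ih =>
      rw [pow_succ, ih, hM]
      simp only [add_mul, mul_add, smul_mul_assoc, hNN, smul_zero, one_mul, mul_one, add_zero,
        succ_nsmul]
      abel
  rw [hpow 11]
  have h11 : (11 : ℕ) • N = 0 := by
    ext i j
    rw [Matrix.smul_apply, nsmul_eq_mul]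
    have : ((11 : ℕ) : ZMod 11) = 0 := by decide
    rw [this, zero_mul]; rfl
  rw [h11, add_zero]

/-- the matrix over `F₁₁` attached to an element of `SL(2,5)` -/
noncomputable def mat (g : H) : Matrix (Fin 2) (Fin 2) (ZMod 11) :=
  coeHom (ZMod 11) (θ g)

lemma mat_one : mat 1 = 1 := by
  unfold mat; rw [map_one, map_one]

lemma mat_mul (g h : H) : mat (g * h) = mat g * mat h := by
  unfold mat; rw [map_mul, map_mul]

lemma mat_pow (g : H) (n : ℕ) : mat (g ^ n) = mat g ^ n := by
  unfold mat; rw [map_pow, map_pow]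

lemma mat_det (g : H) : (mat g).det = 1 := (θ g).2

lemma mat_injective : Function.Injective mat := by
  intro a b h
  exact θ_injective (coeHom_injective (ZMod 11) h)

/-- the action of `SL(2,5)` on `F₁₁²` through the embedding into `SL(2,11)` -/
noncomputable def act : DistribMulAction H V where
  smul g v := mat g *ᵥ v
  one_smul v := by
    show mat 1 *ᵥ v = v
    rw [mat_one, Matrix.one_mulVec]
  mul_smul g h v := by
    show mat (g * h) *ᵥ v = mat g *ᵥ (mat h *ᵥ v)
    rw [mat_mul, Matrix.mulVec_mulVec]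
  smul_zero g := by
    show mat g *ᵥ (0 : V) = 0
    rw [Matrix.mulVec_zero]
  smul_add g v w := by
    show mat g *ᵥ (v + w) = mat g *ᵥ v + mat g *ᵥ w
    exact Matrix.mulVec_add _ _ _

lemma finite_H : Finite H := Nat.finite_of_card_ne_zero (by rw [card_SL25]; norm_num)

lemma fpf (h : H) (hh : h ≠ 1) (v : V) (hv : mat h *ᵥ v = v) : v = 0 := by
  by_contra hv0
  have h11 : mat h ^ 11 = 1 := pow11_of_fixed _ (mat_det h) v hv0 hv
  have hh11 : h ^ 11 = 1 := mat_injective (by rw [mat_pow, h11, mat_one])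
  have _ := finite_H
  have h120 : h ^ 120 = 1 := by
    rw [← card_SL25]; exact pow_card_eq_one'
  apply hh
  calc h = h ^ 121 := by rw [pow_succ h 120, h120, one_mul]
    _ = (h ^ 11) ^ 11 := by rw [← pow_mul]
    _ = 1 := by rw [hh11, one_pow]

theorem result :
    ∃ (L : Type) (_ : Group L) (_ : Finite L) (H : Subgroup L),
      Cfsg.IsFrobeniusComplement H ∧ Nonempty (H ≃* Matrix.SpecialLinearGroup (Fin 2) (ZMod 5)) := by
  have hfin := finite_H
  have hnt : Nontrivial H := by
    rw [← Finite.one_lt_card_iff_nontrivial, card_SL25]; norm_num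
  obtain ⟨L, hL, hLf, C, hC, ⟨e⟩⟩ :=
    @Cfsg.Agent.Helper71.exists_frobenius_of_distribMulAction V H _ _ act _ hfin _ hnt
      (fun h hh v hv => fpf h hh v hv)
  exact ⟨L, hL, hLf, C, hC, ⟨e.symm⟩⟩

end Cfsg.Agent.S3374
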