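import Cfsg.Statements.S3375

set_option autoImplicit false
open Cfsg

namespace Cfsg.Agent.S3375

variable {H : Type*} [Group H]

lemma sq_apply (γ : MulAut H) (hγ : orderOf γ = 2) (h : H) : γ (γ h) = h := by
  have h2 : γ ^ 2 = 1 := by rw [← hγ]; exact pow_orderOf_eq_one γ
  have := congrArg (fun f : MulAut H => f h) h2
  simpa [pow_two] using this

/-- part (i) -/
lemma part_one [Finite H] (γ : MulAut H) (hγ : orderOf γ = 2)
    (hfix : ∀ h : H, γ h = h → h = 1) :
    (∀ a b : H, a * b = b * a) ∧ ∀ h : H, γ h = h⁻¹ := by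
  have hinj : Function.Injective (fun h : H => h * (γ h)⁻¹) := by
    intro a b hab
    simp only at hab
    have h1 : γ (b⁻¹ * a) = b⁻¹ * a := by
      rw [map_mul, map_inv]
      have : b⁻¹ * a = (γ b)⁻¹ * γ a := by
        have h2 : a = b * (γ b)⁻¹ * γ a := by
          rw [← hab]; group
        calc b⁻¹ * a = b⁻¹ * (b * (γ b)⁻¹ * γ a) := by rw [← h2]
          _ = (γ b)⁻¹ * γ a := by group
      exact this.symm
    have := hfix _ h1
    have h3 : a = b * (b⁻¹ * a) := by group
    rw [h3, this, mul_one]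
  have hsurj : Function.Surjective (fun h : H => h * (γ h)⁻¹) :=
    Finite.surjective_of_injective hinj
  have hinv : ∀ h : H, γ h = h⁻¹ := by
    intro x
    obtain ⟨h, rfl⟩ := hsurj x
    simp only [map_mul, map_inv, sq_apply γ hγ, mul_inv_rev, inv_inv]
  refine ⟨?_, hinv⟩
  intro a b
  have h1 := hinv (a * b)
  rw [map_mul, hinv a, hinv b, mul_inv_rev] at h1
  have := congrArg (fun x => x⁻¹) h1
  simpa using this.symm

/-- The key counting step of part (ii): a `γ`-invariant subgroup of index two is inverted. -/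
lemma inverted_of_invariant [Finite H] (γ : MulAut H) (hγ : orderOf γ = 2)
    (hC : Nat.card {h : H // γ h = h} = 2) (M : Subgroup H) (hM : M.index = 2)
    (hinv : ∀ a ∈ M, γ a ∈ M) : ∀ a ∈ M, γ a = a⁻¹ := by
  classical
  -- the fixed subgroup
  let C : Subgroup H :=
    { carrier := {h | γ h = h}
      mul_mem' := by intro a b ha hb; simp only [Set.mem_ofPred_eq] at *; rw [map_mul, ha, hb]
      one_mem' := by simp
      inv_mem' := by intro a ha; simp only [Set.mem_ofPred_eq] at *; rw [map_inv, ha] }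
  have hCcard : Nat.card C = 2 := hC
  -- the map g
  have hgmem : ∀ h : H, h * (γ h)⁻¹ ∈ M := by
    intro h
    rw [Subgroup.mul_mem_iff_of_index_two hM, inv_mem_iff]
    constructor
    · exact hinv h
    · intro hh
      have := hinv _ hh
      rwa [sq_apply γ hγ] at this
  let g : H ⧸ C → M := Quotient.lift (fun h : H => (⟨h * (γ h)⁻¹, hgmem h⟩ : M)) (by
    intro a b hab
    have hab' : a⁻¹ * b ∈ C := QuotientGroup.leftRel_apply.mp hab
    have h1 : γ (a⁻¹ * b) = a⁻¹ * b := hab'
    rw [map_mul, map_inv] at h1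
    apply Subtype.ext
    simp only
    have h2 : γ b = γ a * (a⁻¹ * b) := by rw [← h1]; group
    rw [h2]; group)
  have hginj : Function.Injective g := by
    intro x y
    induction x using QuotientGroup.induction_on with | _ a =>
    induction y using QuotientGroup.induction_on with | _ b =>
    intro hxy
    have hxy' : a * (γ a)⁻¹ = b * (γ b)⁻¹ := congrArg Subtype.val hxy
    apply QuotientGroup.eq.mpr
    show γ (a⁻¹ * b) = a⁻¹ * b
    rw [map_mul, map_inv]
    have h2 : b = a * (γ a)⁻¹ * γ b := by rw [hxy']; group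
    calc (γ a)⁻¹ * γ b = a⁻¹ * (a * (γ a)⁻¹ * γ b) := by group
      _ = a⁻¹ * b := by rw [← h2]
  have hcard : Nat.card (H ⧸ C) = Nat.card M := by
    have h1 : C.index * Nat.card C = Nat.card H := Subgroup.index_mul_card C
    have h2 : M.index * Nat.card M = Nat.card H := Subgroup.index_mul_card M
    rw [hCcard] at h1
    rw [hM] at h2
    have : Nat.card (H ⧸ C) = C.index := rfl
    rw [this]
    omega
  have hgbij : Function.Bijective g :=
    (Nat.bijective_iff_injective_and_card g).mpr ⟨hginj, hcard⟩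
  intro a ha
  obtain ⟨x, hx⟩ := hgbij.2 ⟨a, ha⟩
  induction x using QuotientGroup.induction_on with | _ h =>
  have hx' : h * (γ h)⁻¹ = a := congrArg Subtype.val hx
  rw [← hx']
  simp only [map_mul, map_inv, sq_apply γ hγ, mul_inv_rev, inv_inv]

/-- existence of a `γ`-invariant subgroup of index two -/
lemma exists_invariant (γ : MulAut H) (hγ : orderOf γ = 2)
    (M : Subgroup H) (hM : M.index = 2) :
    ∃ M₀ : Subgroup H, M₀.index = 2 ∧ ∀ a ∈ M₀, γ a ∈ M₀ := by
  classical
  by_cases hinv : ∀ a ∈ M, γ a ∈ M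
  · exact ⟨M, hM, hinv⟩
  · -- M' = comap
    let M' : Subgroup H := M.comap γ.toMonoidHom
    have hM'mem : ∀ x, x ∈ M' ↔ γ x ∈ M := fun x => Iff.rfl
    have hM' : M'.index = 2 := by
      rw [Subgroup.index_comap_of_surjective M (f := γ.toMonoidHom) γ.surjective]
      exact hM
    let M₀ : Subgroup H :=
      { carrier := {h | h ∈ M ↔ h ∈ M'}
        mul_mem' := by
          intro a b ha hb
          simp only [Set.mem_ofPred_eq] at *
          rw [Subgroup.mul_mem_iff_of_index_two hM, Subgroup.mul_mem_iff_of_index_two hM', ha, hb]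
        one_mem' := by simp [one_mem]
        inv_mem' := by
          intro a ha
          simp only [Set.mem_ofPred_eq] at *
          rw [inv_mem_iff, inv_mem_iff]; exact ha }
    have hM₀mem : ∀ x, x ∈ M₀ ↔ (x ∈ M ↔ x ∈ M') := fun x => Iff.rfl
    refine ⟨M₀, ?_, ?_⟩
    · push Not at hinv
      obtain ⟨a, haM, haM'⟩ := hinv
      have haM'' : a ∉ M' := haM'
      rw [Subgroup.index_eq_two_iff]
      refine ⟨a, fun b => ?_⟩
      rw [hM₀mem, hM₀mem, Subgroup.mul_mem_iff_of_index_two hM,
        Subgroup.mul_mem_iff_of_index_two hM']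
      simp only [haM, haM'', iff_true, iff_false]
      by_cases h1 : b ∈ M <;> by_cases h2 : b ∈ M' <;> simp [h1, h2, Xor]
    · intro a ha
      rw [hM₀mem] at ha ⊢
      rw [hM'mem] at ha
      rw [hM'mem, sq_apply γ hγ]
      exact ha.symm

theorem result {H : Type*} [Group H] [Finite H] (γ : MulAut H) (hγ : orderOf γ = 2) :
    ((∀ h : H, γ h = h → h = 1) → (∀ a b : H, a * b = b * a) ∧ ∀ h : H, γ h = h⁻¹) ∧
    ((Nat.card {h : H // γ h = h} = 2 ∧ ∃ M : Subgroup H, M.index = 2) →
      ∃ A : Subgroup H, A.index = 2 ∧ IsMulCommutative A ∧ (∀ a ∈ A, γ a ∈ A) ∧ ∀ a ∈ A, γ a = a⁻¹) := by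
  refine ⟨part_one γ hγ, ?_⟩
  rintro ⟨hC, M, hM⟩
  obtain ⟨M₀, hM₀, hinv⟩ := exists_invariant γ hγ M hM
  have key := inverted_of_invariant γ hγ hC M₀ hM₀ hinv
  refine ⟨M₀, hM₀, ?_, hinv, key⟩
  refine ⟨⟨fun a b => ?_⟩⟩
  apply Subtype.ext
  have h1 := key (a * b) (mul_mem a.2 b.2)
  rw [map_mul, key a a.2, key b b.2, mul_inv_rev] at h1
  have := congrArg (fun x => x⁻¹) h1
  simpa using this.symm

end Cfsg.Agent.S3375
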