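import Cfsg.Statements.S3381

set_option autoImplicit false
set_option linter.unusedSectionVars false
open Cfsg

namespace Cfsg.Agent.S3381

section
variable {q : ℕ} [Fact q.Prime] {V : Type*} [AddCommGroup V] [Module (ZMod q) V]
  {G : Type*} [Group G] (ρ : G →* (V ≃ₗ[ZMod q] V))

/-- the fixed space of `g` -/
def Fx (g : G) : Submodule (ZMod q) V where
  carrier := {v | ρ g v = v}
  add_mem' := by
    intro a b ha hb
    simp only [Set.mem_ofPred_eq] at *
    rw [map_add, ha, hb]
  zero_mem' := by simp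
  smul_mem' := by
    intro c a ha
    simp only [Set.mem_ofPred_eq] at *
    rw [map_smul, ha]

lemma mem_Fx (g : G) (v : V) : v ∈ Fx ρ g ↔ ρ g v = v := Iff.rfl

lemma rho_mul (g h : G) (v : V) : ρ (g * h) v = ρ g (ρ h v) := by
  rw [map_mul]; rfl

lemma rho_one (v : V) : ρ 1 v = v := by
  rw [map_one]; rfl

/-- the stabilizer subgroup -/
def Stab (v : V) : Subgroup G where
  carrier := {g | ρ g v = v}
  mul_mem' := by
    intro a b ha hb
    simp only [Set.mem_ofPred_eq] at *
    rw [rho_mul, hb, ha]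
  one_mem' := rho_one ρ v
  inv_mem' := by
    intro a ha
    simp only [Set.mem_ofPred_eq] at *
    have := rho_mul ρ a⁻¹ a v
    rw [inv_mul_cancel, rho_one, ha] at this
    exact this.symm

lemma mem_Stab (g : G) (v : V) : g ∈ Stab ρ v ↔ ρ g v = v := Iff.rfl

end

section main
variable {q : ℕ} [Fact q.Prime] {V : Type*} [AddCommGroup V] [Module (ZMod q) V] [Finite V]
  {G : Type*} [Group G] [Finite G] (ρ : G →* (V ≃ₗ[ZMod q] V))
  (hstab : ∀ v : V, v ≠ 0 → Nat.card {g : G // ρ g v = v} = 2)

include hstab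

omit [Finite V] [Finite G] in
/-- the unique non-identity element of the stabilizer -/
lemma exists_tv (v : V) (hv : v ≠ 0) :
    ∃ t : G, t ≠ 1 ∧ ρ t v = v ∧ t * t = 1 ∧ ∀ g : G, ρ g v = v → g = 1 ∨ g = t := by
  classical
  have hc : Nat.card (Stab ρ v) = 2 := hstab v hv
  obtain ⟨x, y, hxy, huniv⟩ := Nat.card_eq_two_iff.mp hc
  have hall : ∀ g : Stab ρ v, g = x ∨ g = y := by
    intro g
    have : g ∈ ({x, y} : Set (Stab ρ v)) := by rw [huniv]; trivial
    simpa using this
  -- one of x, y is 1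
  obtain ⟨t, ht1, hall'⟩ : ∃ t : Stab ρ v, t ≠ 1 ∧ ∀ g : Stab ρ v, g = 1 ∨ g = t := by
    rcases hall 1 with h | h
    · refine ⟨y, ?_, ?_⟩
      · rw [h]; exact hxy.symm
      · intro g; rw [h]; exact hall g
    · refine ⟨x, ?_, ?_⟩
      · rw [h]; exact hxy
      · intro g; rw [h]; exact (hall g).symm
  refine ⟨t, ?_, t.2, ?_, ?_⟩
  · intro h; exact ht1 (Subtype.ext h)
  · rcases hall' (t * t) with h | h
    · exact congrArg Subtype.val h
    · exfalso
      apply ht1
      have : t * t = t * 1 := by rw [mul_one]; exact h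
      exact mul_left_cancel this
  · intro g hg
    rcases hall' ⟨g, hg⟩ with h | h
    · left; exact congrArg Subtype.val h
    · right; exact congrArg Subtype.val h

/-- a central involution acts as `-1` (and the characteristic is odd) -/
lemma central_neg (hρ : Function.Injective ρ) (c : G) (hc1 : c ≠ 1) (hcc : c * c = 1)
    (hcen : c ∈ Subgroup.center G) : (2 : ZMod q) ≠ 0 ∧ ∀ v : V, ρ c v = -v := by
  have hcomm : ∀ g : G, g * c = c * g := fun g => Subgroup.mem_center_iff.mp hcen g
  have hinv : ∀ v : V, ρ c (ρ c v) = v := by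
    intro v; rw [← rho_mul, hcc, rho_one]
  -- characteristic is not two
  have h2 : (2 : ZMod q) ≠ 0 := by
    intro h2
    have htwo : ∀ v : V, v + v = 0 := by
      intro v
      have : (2 : ZMod q) • v = 0 := by rw [h2, zero_smul]
      rwa [two_smul] at this
    -- c ≠ 1 so moves some w
    have : ∃ w : V, ρ c w ≠ w := by
      by_contra hcon
      push Not at hcon
      apply hc1
      apply hρ
      rw [map_one]
      ext w
      exact hcon w
    obtain ⟨w, hw⟩ := this
    have hw0 : w ≠ 0 := by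
      rintro rfl
      exact hw (map_zero _)
    set v := ρ c w + w with hvdef
    have hv0 : v ≠ 0 := by
      intro h
      apply hw
      have h3 : ρ c w = -w := eq_neg_of_add_eq_zero_left h
      have h4 : -w = w := by
        have := htwo w
        exact neg_eq_of_add_eq_zero_left this
      rw [h3, h4]
    have hcv : ρ c v = v := by
      rw [hvdef, map_add, hinv, add_comm]
    obtain ⟨t, ht1, htw, _, _⟩ := exists_tv ρ hstab w hw0
    have htv : ρ t v = v := by
      rw [hvdef, map_add, htw, ← rho_mul, hcomm t, rho_mul, htw]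
    obtain ⟨s, hs1, _, _, hsall⟩ := exists_tv ρ hstab v hv0
    have hcs : c = s := by
      rcases hsall c hcv with h | h
      · exact absurd h hc1
      · exact h
    have hts : t = s := by
      rcases hsall t htv with h | h
      · exact absurd h ht1
      · exact h
    apply hw
    rw [hcs, ← hts]
    exact htw
  refine ⟨h2, ?_⟩
  have hneg_self : ∀ v : V, v = -v → v = 0 := by
    intro v hv
    have : v + v = 0 := by
      nth_rewrite 1 [hv]; simp
    rw [← two_smul (ZMod q)] at this
    rcases smul_eq_zero.mp this with h | h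
    · exact absurd h h2
    · exact h
  -- key: a nonzero fixed vector and a nonzero negated vector cannot coexist
  have key : ∀ a b : V, a ≠ 0 → b ≠ 0 → ρ c a = a → ρ c b = -b → False := by
    intro a b ha hb hca hcb
    have hab : a + b ≠ 0 := by
      intro h
      have h3 : a = -b := eq_neg_of_add_eq_zero_left h
      apply ha
      apply hneg_self
      -- ρ c a = a, but a = -b so ρ c a = -ρ c b = b = -a
      have : ρ c a = -a := by
        rw [h3, map_neg, hcb, neg_neg]
      rw [hca] at this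
      exact this
    obtain ⟨t, ht1, htab, _, _⟩ := exists_tv ρ hstab (a + b) hab
    -- t fixes a and b
    have hta' : ρ c (ρ t a) = ρ t a := by
      rw [← rho_mul, ← hcomm t, rho_mul, hca]
    have htb' : ρ c (ρ t b) = -(ρ t b) := by
      rw [← rho_mul, ← hcomm t, rho_mul, hcb, map_neg]
    have hdiff : ρ t a - a = b - ρ t b := by
      have : ρ t a + ρ t b = a + b := by rw [← map_add]; exact htab
      have h5 : ρ t a - a = (ρ t a + ρ t b) - a - ρ t b := by abel
      rw [h5, this]; abel
    have hd0 : ρ t a - a = 0 := by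
      apply hneg_self
      have h6 : ρ c (ρ t a - a) = ρ t a - a := by rw [map_sub, hta', hca]
      have h7 : ρ c (ρ t a - a) = -(ρ t a - a) := by
        rw [hdiff, map_sub, htb', hcb]; abel
      rw [h6] at h7
      exact h7
    have hta : ρ t a = a := sub_eq_zero.mp hd0
    have htb : ρ t b = b := by
      have : b - ρ t b = 0 := by rw [← hdiff]; exact hd0
      exact (sub_eq_zero.mp this).symm
    obtain ⟨s, _, _, _, hsall⟩ := exists_tv ρ hstab a ha
    have hcs : c = s := by
      rcases hsall c hca with h | h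
      · exact absurd h hc1
      · exact h
    have hts : t = s := by
      rcases hsall t hta with h | h
      · exact absurd h ht1
      · exact h
    have : ρ c b = b := by rw [hcs, ← hts]; exact htb
    rw [hcb] at this
    exact hb (hneg_self b this.symm)
  -- decomposition
  have hu : (2 : ZMod q) * (2 : ZMod q)⁻¹ = 1 := mul_inv_cancel₀ h2
  have hdec : ∀ v : V, v = (2 : ZMod q)⁻¹ • (v + ρ c v) + (2 : ZMod q)⁻¹ • (v - ρ c v) := by
    intro v
    rw [← smul_add]
    have : v + ρ c v + (v - ρ c v) = (2 : ZMod q) • v := by rw [two_smul]; abel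
    rw [this, smul_smul, mul_comm, hu, one_smul]
  have hfix : ∀ v : V, ρ c ((2 : ZMod q)⁻¹ • (v + ρ c v)) = (2 : ZMod q)⁻¹ • (v + ρ c v) := by
    intro v
    rw [map_smul, map_add, hinv, add_comm]
  have hng : ∀ v : V, ρ c ((2 : ZMod q)⁻¹ • (v - ρ c v)) = -((2 : ZMod q)⁻¹ • (v - ρ c v)) := by
    intro v
    rw [map_smul, map_sub, hinv, ← smul_neg, neg_sub]
  -- if some fixed part is nonzero then all negated parts vanish, so c = 1
  by_cases hex : ∃ v₀ : V, (2 : ZMod q)⁻¹ • (v₀ + ρ c v₀) ≠ 0
  · exfalso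
    obtain ⟨v₀, hv₀⟩ := hex
    apply hc1
    apply hρ
    rw [map_one]
    ext v
    have hb : (2 : ZMod q)⁻¹ • (v - ρ c v) = 0 := by
      by_contra hb
      exact key _ _ hv₀ hb (hfix v₀) (hng v)
    have hv := hdec v
    rw [hb, add_zero] at hv
    show ρ c v = v
    rw [hv]
    exact hfix v
  · push Not at hex
    intro v
    have hv := hdec v
    rw [hex v, zero_add] at hv
    rw [hv]
    exact hng v


/-- data of the odd-characteristic situation -/
structure Setup (z : G) : Prop where
  inj : Function.Injective ρ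
  two : (2 : ZMod q) ≠ 0
  zz : z * z = 1
  z1 : z ≠ 1
  zcen : z ∈ Subgroup.center G
  zneg : ∀ v : V, ρ z v = -v

/-- noncentral involution -/
def NCI (t : G) : Prop := t * t = 1 ∧ t ≠ 1 ∧ t ∉ Subgroup.center G

variable {ρ} {z : G}

omit [Finite V] [Finite G] hstab in
lemma neg_self_zero (S : Setup ρ z) (v : V) (hv : v = -v) : v = 0 := by
  have : v + v = 0 := by
    nth_rewrite 1 [hv]; simp
  rw [← two_smul (ZMod q)] at this
  rcases smul_eq_zero.mp this with h | h
  · exact absurd h S.two
  · exact h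

omit [Finite V] [Finite G] hstab in
lemma zt_apply (S : Setup ρ z) (t : G) (v : V) : ρ (z * t) v = -(ρ t v) := by
  rw [rho_mul, S.zneg]

omit [Finite V] [Finite G] hstab in
lemma NCI_zt (S : Setup ρ z) {t : G} (ht : NCI t) : NCI (z * t) := by
  obtain ⟨htt, ht1, htc⟩ := ht
  have hcomm : ∀ g : G, g * z = z * g := fun g => Subgroup.mem_center_iff.mp S.zcen g
  refine ⟨?_, ?_, ?_⟩
  · calc z * t * (z * t) = z * (t * z) * t := by group
      _ = z * (z * t) * t := by rw [hcomm t]
      _ = (z * z) * (t * t) := by group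
      _ = 1 := by rw [S.zz, htt, one_mul]
  · intro h
    apply htc
    have : t = z := by
      have h2 : z * (z * t) = z * 1 := by rw [h]
      rw [← mul_assoc, S.zz, one_mul, mul_one] at h2
      exact h2
    rw [this]; exact S.zcen
  · intro h
    apply htc
    have : t = z * (z * t) := by rw [← mul_assoc, S.zz, one_mul]
    rw [this]
    exact mul_mem S.zcen h

omit [Finite V] [Finite G] hstab in
lemma zzt (S : Setup ρ z) (t : G) : z * (z * t) = t := by
  rw [← mul_assoc, S.zz, one_mul]

omit [Finite V] [Finite G] hstab in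
lemma inter_zero (S : Setup ρ z) (t : G) (u : V) (h1 : ρ t u = u) (h2 : ρ (z * t) u = u) : u = 0 := by
  rw [zt_apply S, h1] at h2
  exact neg_self_zero S u h2.symm

omit [Finite V] [Finite G] hstab in
/-- a noncentral involution fixes a nonzero vector -/
lemma exists_fixed (S : Setup ρ z) {t : G} (ht : NCI t) : ∃ a : V, a ≠ 0 ∧ ρ t a = a := by
  by_contra hcon
  push Not at hcon
  obtain ⟨htt, ht1, htc⟩ := ht
  apply htc
  have : t = z := by
    apply S.inj
    ext v
    have hfix : ρ t (v + ρ t v) = v + ρ t v := by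
      rw [map_add, ← rho_mul, htt, rho_one, add_comm]
    have h0 : v + ρ t v = 0 := by
      by_contra h
      exact hcon _ h hfix
    show ρ t v = ρ z v
    rw [S.zneg]
    exact eq_neg_of_add_eq_zero_right h0
  rw [this]; exact S.zcen

omit [Finite G] hstab in
/-- `V` is the direct sum of the fixed spaces of `t` and `z t` -/
lemma card_mul (S : Setup ρ z) {t : G} (ht : NCI t) :
    Nat.card V = Nat.card (Fx ρ t) * Nat.card (Fx ρ (z * t)) := by
  obtain ⟨htt, ht1, htc⟩ := ht
  rw [← Nat.card_prod]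
  symm
  let Φ : Fx ρ t × Fx ρ (z * t) → V := fun p => (p.1 : V) + (p.2 : V)
  have hu : (2 : ZMod q) * (2 : ZMod q)⁻¹ = 1 := mul_inv_cancel₀ S.two
  have hinv : ∀ v : V, ρ t (ρ t v) = v := by
    intro v; rw [← rho_mul, htt, rho_one]
  apply Nat.card_congr (Equiv.ofBijective Φ ⟨?_, ?_⟩)
  · rintro ⟨a, b⟩ ⟨a', b'⟩ h
    have h' : (a : V) + b = a' + b' := h
    have hdiff : (a : V) - a' = b' - b := by
      have : (a : V) = a' + b' - b := by rw [← h']; abel
      rw [this]; abel
    have hu1 : ρ t ((a : V) - a') = (a : V) - a' := by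
      rw [map_sub, a.2, a'.2]
    have hu2 : ρ (z * t) ((a : V) - a') = (a : V) - a' := by
      rw [hdiff, map_sub, b.2, b'.2]
    have h0 := inter_zero S t _ hu1 hu2
    have ha : (a : V) = a' := sub_eq_zero.mp h0
    have hb : (b : V) = b' := by
      rw [h0] at hdiff
      exact (sub_eq_zero.mp hdiff.symm).symm
    exact Prod.ext (Subtype.ext ha) (Subtype.ext hb)
  · intro v
    have h1 : (2 : ZMod q)⁻¹ • (v + ρ t v) ∈ Fx ρ t := by
      rw [mem_Fx, map_smul, map_add, hinv, add_comm]
    have h2 : (2 : ZMod q)⁻¹ • (v - ρ t v) ∈ Fx ρ (z * t) := by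
      rw [mem_Fx, zt_apply S, map_smul, map_sub, hinv, ← smul_neg, neg_sub]
    refine ⟨(⟨_, h1⟩, ⟨_, h2⟩), ?_⟩
    show (2 : ZMod q)⁻¹ • (v + ρ t v) + (2 : ZMod q)⁻¹ • (v - ρ t v) = v
    rw [← smul_add]
    have : v + ρ t v + (v - ρ t v) = (2 : ZMod q) • v := by rw [two_smul]; abel
    rw [this, smul_smul, mul_comm, hu, one_smul]

omit [Finite G] in
/-- distinct noncentral involutions have fixed spaces meeting trivially -/
lemma card_le (s t : G) (hs1 : s ≠ 1) (ht1 : t ≠ 1) (hst : s ≠ t) :
    Nat.card (Fx ρ s) * Nat.card (Fx ρ t) ≤ Nat.card V := by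
  rw [← Nat.card_prod]
  let Φ : Fx ρ s × Fx ρ t → V := fun p => (p.1 : V) + (p.2 : V)
  apply Nat.card_le_card_of_injective Φ
  rintro ⟨a, b⟩ ⟨a', b'⟩ h
  have h' : (a : V) + b = a' + b' := h
  have hdiff : (a : V) - a' = b' - b := by
    have : (a : V) = a' + b' - b := by rw [← h']; abel
    rw [this]; abel
  have hu1 : ρ s ((a : V) - a') = (a : V) - a' := by
    rw [map_sub, a.2, a'.2]
  have hu2 : ρ t ((a : V) - a') = (a : V) - a' := by
    rw [hdiff, map_sub, b.2, b'.2]
  have h0 : (a : V) - a' = 0 := by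
    by_contra hne
    obtain ⟨r, _, _, _, hall⟩ := exists_tv ρ hstab _ hne
    have e1 : s = r := by
      rcases hall s hu1 with h | h
      · exact absurd h hs1
      · exact h
    have e2 : t = r := by
      rcases hall t hu2 with h | h
      · exact absurd h ht1
      · exact h
    exact hst (e1.trans e2.symm)
  have ha : (a : V) = a' := sub_eq_zero.mp h0
  have hb : (b : V) = b' := by
    rw [h0] at hdiff
    exact (sub_eq_zero.mp hdiff.symm).symm
  exact Prod.ext (Subtype.ext ha) (Subtype.ext hb)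

/-- a third involution -/
lemma exists_third (S : Setup ρ z) {t : G} (ht : NCI t) :
    ∃ s : G, NCI s ∧ s ≠ t ∧ s ≠ z * t := by
  obtain ⟨a, ha0, ha⟩ := exists_fixed S ht
  obtain ⟨b, hb0, hb⟩ := exists_fixed S (NCI_zt S ht)
  have hb' : ρ t b = -b := by
    rw [zt_apply S] at hb
    have := congrArg (fun x => -x) hb
    simpa using this
  have hab : a + b ≠ 0 := by
    intro h
    have h3 : a = -b := eq_neg_of_add_eq_zero_left h
    apply ha0
    apply neg_self_zero S
    have : ρ t a = -a := by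
      rw [h3, map_neg, hb', neg_neg]
    rw [ha] at this
    exact this
  obtain ⟨s, hs1, hsv, hss, _⟩ := exists_tv ρ hstab (a + b) hab
  refine ⟨s, ⟨hss, hs1, ?_⟩, ?_, ?_⟩
  · intro hcen
    have := (central_neg ρ hstab S.inj s hs1 hss hcen).2 (a + b)
    rw [hsv] at this
    exact hab (neg_self_zero S _ this)
  · rintro rfl
    rw [map_add, ha, hb'] at hsv
    have : -b = b := add_left_cancel hsv
    exact hb0 (neg_self_zero S b this.symm)
  · rintro rfl
    rw [map_add, zt_apply S, ha, hb] at hsv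
    have : -a = a := add_right_cancel hsv
    exact ha0 (neg_self_zero S a this.symm)

omit [Finite G] hstab in
lemma card_Fx_pos (g : G) : 0 < Nat.card (Fx ρ g) := Nat.card_pos

omit [Finite G] in
/-- squeeze -/
lemma card_Fx_le (S : Setup ρ z) {s t : G} (hs : NCI s) (ht : NCI t) (h2 : s ≠ z * t) :
    Nat.card (Fx ρ s) ≤ Nat.card (Fx ρ t) := by
  have hzt := NCI_zt S ht
  have hle := card_le hstab s (z * t) hs.2.1 hzt.2.1 h2
  rw [card_mul S ht] at hle
  have hpos := card_Fx_pos (ρ := ρ) (z * t)
  exact Nat.le_of_mul_le_mul_right hle hpos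

omit [Finite G] in
lemma card_Fx_eq (S : Setup ρ z) {s t : G} (hs : NCI s) (ht : NCI t) (h1 : s ≠ t) (h2 : s ≠ z * t) :
    Nat.card (Fx ρ s) = Nat.card (Fx ρ t) := by
  apply le_antisymm (card_Fx_le hstab S hs ht h2)
  apply card_Fx_le hstab S ht hs
  intro h
  apply h2
  rw [h, zzt S]

/-- every fixed space has cardinality the square root of `|V|` -/
lemma card_sq (S : Setup ρ z) {t : G} (ht : NCI t) :
    Nat.card (Fx ρ t) * Nat.card (Fx ρ t) = Nat.card V := by
  obtain ⟨s, hs, h1, h2⟩ := exists_third hstab S ht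
  have hzt := NCI_zt S ht
  have e1 := card_Fx_eq hstab S hs ht h1 h2
  have e2 := card_Fx_eq hstab S hs hzt h2 (by rw [zzt S]; exact h1)
  rw [card_mul S ht, ← e2, e1]


omit [Finite V] [Finite G] in
lemma unique_fixer (v : V) (hv : v ≠ 0) (s t : G) (hs1 : s ≠ 1) (ht1 : t ≠ 1)
    (hs : ρ s v = v) (ht : ρ t v = v) : s = t := by
  obtain ⟨r, _, _, _, hall⟩ := exists_tv ρ hstab v hv
  have e1 : s = r := by
    rcases hall s hs with h | h
    · exact absurd h hs1
    · exact h
  have e2 : t = r := by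
    rcases hall t ht with h | h
    · exact absurd h ht1
    · exact h
  exact e1.trans e2.symm

end main

lemma card_ne_zero_subtype {α : Type*} [Zero α] [Finite α] :
    Nat.card {a : α // a ≠ 0} + 1 = Nat.card α := by
  classical
  have := Fintype.ofFinite α
  have e := Equiv.optionSubtypeNe (0 : α)
  rw [← Nat.card_congr e, Nat.card_eq_fintype_card, Nat.card_eq_fintype_card, Fintype.card_option]

theorem result
    (q : ℕ) [Fact q.Prime] {V : Type*} [AddCommGroup V] [Module (ZMod q) V] [Finite V] [Nontrivial V]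
    {G : Type*} [Group G] [Finite G] (ρ : G →* (V ≃ₗ[ZMod q] V)) (hρ : Function.Injective ρ)
    (hstab : ∀ v : V, v ≠ 0 → Nat.card {g : G // ρ g v = v} = 2)
    (z : G) (hz : orderOf z = 2) (hzc : z ∈ Subgroup.center G) :
    ∃ r : ℕ, Nat.card V = q ^ (2 * r) ∧
      Nat.card {g : G // orderOf g = 2 ∧ g ∉ Subgroup.center G} = q ^ r + 1 := by
  classical
  have hz1 : z ≠ 1 := by
    intro h; rw [h, orderOf_one] at hz; norm_num at hz
  have hzz : z * z = 1 := by rw [← pow_two, ← hz, pow_orderOf_eq_one]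
  obtain ⟨h2, hzneg⟩ := central_neg ρ hstab hρ z hz1 hzz hzc
  have S : Setup ρ z := ⟨hρ, h2, hzz, hz1, hzc, hzneg⟩
  have hI : ∀ t : {g : G // orderOf g = 2 ∧ g ∉ Subgroup.center G}, NCI t.1 := by
    rintro ⟨g, hg, hc⟩
    have hg2 : g ^ 2 = 1 := by rw [← hg]; exact pow_orderOf_eq_one _
    refine ⟨by rw [← pow_two]; exact hg2, ?_, hc⟩
    intro h
    have h' : g = 1 := h
    rw [h', orderOf_one] at hg
    norm_num at hg
  obtain ⟨v₀, hv₀⟩ := exists_ne (0 : V)
  have htv : ∀ v : {v : V // v ≠ 0},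
      ∃ t : {g : G // orderOf g = 2 ∧ g ∉ Subgroup.center G}, ρ t.1 v.1 = v.1 := by
    rintro ⟨v, hv⟩
    obtain ⟨t, ht1, htv, htt, _⟩ := exists_tv ρ hstab v hv
    have _ : Fact (Nat.Prime 2) := ⟨Nat.prime_two⟩
    have hord : orderOf t = 2 := orderOf_eq_prime (by rw [pow_two]; exact htt) ht1
    refine ⟨⟨t, hord, ?_⟩, htv⟩
    intro hcen
    have := (central_neg ρ hstab hρ t ht1 htt hcen).2 v
    rw [htv] at this
    exact hv (neg_self_zero S v this)
  choose τ hτ using htv
  set t₀ := τ ⟨v₀, hv₀⟩ with ht₀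
  set D := Nat.card (Fx ρ t₀.1) with hD
  have hDsq : D * D = Nat.card V := card_sq hstab S (hI t₀)
  have hDall : ∀ t : {g : G // orderOf g = 2 ∧ g ∉ Subgroup.center G},
      Nat.card (Fx ρ t.1) = D := by
    intro t
    have := card_sq hstab S (hI t)
    exact Nat.mul_self_inj.mp (this.trans hDsq.symm)
  have hDq : D = q ^ Module.finrank (ZMod q) (Fx ρ t₀.1) := by
    rw [hD, Module.natCard_eq_pow_finrank (K := ZMod q), Nat.card_zmod]
  refine ⟨Module.finrank (ZMod q) (Fx ρ t₀.1), ?_, ?_⟩
  · rw [← hDsq, hDq, ← pow_add, two_mul]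
  · rw [← hDq]
    -- fibers
    have hfib : ∀ t : {g : G // orderOf g = 2 ∧ g ∉ Subgroup.center G},
        Nat.card {v : {v : V // v ≠ 0} // τ v = t} + 1 = D := by
      intro t
      rw [← hDall t, ← card_ne_zero_subtype (α := Fx ρ t.1)]
      congr 1
      apply Nat.card_congr
      refine ⟨fun v => ⟨⟨v.1.1, ?_⟩, ?_⟩, fun a => ⟨⟨a.1.1, ?_⟩, ?_⟩, ?_, ?_⟩
      · have := hτ v.1
        rw [v.2] at this
        exact this
      · intro h
        exact v.1.2 (congrArg Subtype.val h)
      · intro h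
        exact a.2 (Subtype.ext h)
      · apply Subtype.ext
        have hne : (a.1 : V) ≠ 0 := fun h => a.2 (Subtype.ext h)
        have h1 := hτ ⟨a.1.1, hne⟩
        exact unique_fixer hstab a.1.1 hne _ _ (hI _).2.1 (hI t).2.1 h1 a.1.2
      · intro v; rfl
      · intro a; rfl
    have hsig := Nat.card_congr (Equiv.sigmaFiberEquiv τ)
    have _ := Fintype.ofFinite {g : G // orderOf g = 2 ∧ g ∉ Subgroup.center G}
    rw [Nat.card_sigma] at hsig
    have htot := card_ne_zero_subtype (α := V)
    have hD1 : 1 ≤ D := by rw [hD]; exact Nat.card_pos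
    have hsum : ∑ t : {g : G // orderOf g = 2 ∧ g ∉ Subgroup.center G},
        Nat.card {v : {v : V // v ≠ 0} // τ v = t} =
        Nat.card {g : G // orderOf g = 2 ∧ g ∉ Subgroup.center G} * (D - 1) := by
      rw [Finset.sum_congr rfl (fun t _ => (show _ = D - 1 by have := hfib t; omega)),
        Finset.sum_const, Finset.card_univ, smul_eq_mul, Nat.card_eq_fintype_card]
    rw [hsum] at hsig
    -- D ≥ 2
    have hD2 : 2 ≤ D := by
      have := hfib t₀
      have hpos : 0 < Nat.card {v : {v : V // v ≠ 0} // τ v = t₀} := by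
        rw [Nat.card_pos_iff]
        exact ⟨⟨⟨⟨v₀, hv₀⟩, rfl⟩⟩, inferInstance⟩
      omega
    -- arithmetic
    set n := Nat.card {g : G // orderOf g = 2 ∧ g ∉ Subgroup.center G} with hn
    have h3 : n * (D - 1) + 1 = D * D := by rw [hsig, htot, hDsq]
    obtain ⟨k, hk⟩ : ∃ k, D = k + 1 := ⟨D - 1, by omega⟩
    rw [hk] at h3 ⊢
    simp only [Nat.add_sub_cancel] at h3
    have hk0 : 0 < k := by omega
    have h4 : n * k = (k + 2) * k := by nlinarith
    have := Nat.eq_of_mul_eq_mul_right hk0 h4
    omega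

end Cfsg.Agent.S3381
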