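import Cfsg.Statements.S3382

set_option autoImplicit false
open Cfsg

namespace Cfsg.Agent.S3382

/-! ### abstract part -/

section abstract

variable {G : Type*} [Group G]

lemma fix_of_mul_mem (α : MulAut G) (p : ℕ) (hp : Odd p) (hα : α ^ p = 1)
    (y c : G) (hy : α y = y * c) (hc : α c = c) (hc2 : ∃ k : ℕ, c ^ (2 ^ k) = 1) : α y = y := by
  have key : ∀ n : ℕ, (α ^ n) y = y * c ^ n := by
    intro n
    induction n with
    | zero => simp
    | succ n ih =>
      rw [pow_succ', MulAut.mul_apply, ih, map_mul, map_pow, hy, hc, mul_assoc, ← pow_succ']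
  have h1 := key p
  rw [hα, MulAut.one_apply] at h1
  have hcp : c ^ p = 1 := by
    have : y * c ^ p = y * 1 := by rw [mul_one]; exact h1.symm
    exact mul_left_cancel this
  obtain ⟨k, hk⟩ := hc2
  have hd1 : orderOf c ∣ p := orderOf_dvd_of_pow_eq_one hcp
  have hd2 : orderOf c ∣ 2 ^ k := orderOf_dvd_of_pow_eq_one hk
  have hcop : Nat.Coprime p (2 ^ k) := by
    apply Nat.Coprime.pow_right
    exact (Nat.coprime_two_right.2 hp)
  have : orderOf c = 1 := Nat.eq_one_of_dvd_coprimes hcop hd1 hd2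
  rw [orderOf_eq_one_iff] at this
  rw [hy, this, mul_one]

lemma fix_abelian (α : MulAut G) (p : ℕ) (hp : Odd p) (hα : α ^ p = 1) (D : Subgroup G)
    (hcomm : ∀ x ∈ D, ∀ y ∈ D, x * y = y * x) (hinv : ∀ x ∈ D, α x ∈ D)
    (h1 : ∀ x ∈ D, x ^ 2 = 1 → α x = x) (h2 : ∀ x ∈ D, ∃ k : ℕ, x ^ (2 ^ k) = 1) :
    ∀ x ∈ D, α x = x := by
  have key : ∀ k : ℕ, ∀ x ∈ D, x ^ (2 ^ k) = 1 → α x = x := by
    intro k
    induction k with
    | zero =>
      intro x _ hx
      rw [pow_zero, pow_one] at hx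
      rw [hx, map_one]
    | succ k ih =>
      intro x hx hxk
      have hax := hinv x hx
      have hcD : x⁻¹ * α x ∈ D := D.mul_mem (D.inv_mem hx) hax
      have hu : (x ^ (2 ^ k)) ^ 2 = 1 := by rw [← pow_mul, ← pow_succ]; exact hxk
      have hau : α (x ^ (2 ^ k)) = x ^ (2 ^ k) := h1 _ (D.pow_mem hx _) hu
      have hck : (x⁻¹ * α x) ^ (2 ^ k) = 1 := by
        have hc : Commute x⁻¹ (α x) := hcomm _ (D.inv_mem hx) _ hax
        rw [hc.mul_pow, ← map_pow, hau, inv_pow, inv_mul_cancel]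
      have hac := ih _ hcD hck
      exact fix_of_mul_mem α p hp hα x (x⁻¹ * α x) (by group) hac ⟨k, hck⟩
  intro x hx
  obtain ⟨k, hk⟩ := h2 x hx
  exact key k x hx hk

lemma fix_all (α : MulAut G) (p : ℕ) (hp : Odd p) (hα : α ^ p = 1) (D : Subgroup G) (w : G)
    (hD : ∀ x ∈ D, α x = x) (hidx : ∀ x : G, x ∈ D ∨ w⁻¹ * x ∈ D)
    (h2 : ∀ x : G, ∃ k : ℕ, x ^ (2 ^ k) = 1) : α = 1 := by
  have hw : α w = w := by
    by_cases hwD : w ∈ D
    · exact hD w hwD
    · have h1 : α w ∉ D := by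
        intro h
        apply hwD
        have := hD _ h
        have h3 : α w = w := α.injective this
        rwa [h3] at h
      have h3 : w⁻¹ * α w ∈ D := (hidx (α w)).resolve_left h1
      exact fix_of_mul_mem α p hp hα w (w⁻¹ * α w) (by group) (hD _ h3) (h2 _)
  ext x
  rw [MulAut.one_apply]
  rcases hidx x with hx | hx
  · exact hD x hx
  · have : x = w * (w⁻¹ * x) := by group
    rw [this, map_mul, hw, hD _ hx]

lemma isPGroup_of_no_odd {A : Type*} [Group A] [Finite A]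
    (h : ∀ p : ℕ, p.Prime → p ≠ 2 → ∀ α : A, α ^ p = 1 → α = 1) : IsPGroup 2 A := by
  have _ : Fact (Nat.Prime 2) := ⟨Nat.prime_two⟩
  have hcard : Nat.card A = 2 ^ (Nat.card A).primeFactorsList.length := by
    apply Nat.eq_prime_pow_of_unique_prime_dvd Nat.card_pos.ne'
    intro d hd hdvd
    by_contra hne
    have _ : Fact d.Prime := ⟨hd⟩
    obtain ⟨α, hα⟩ := exists_prime_orderOf_dvd_card' d hdvd
    have h1 := h d hd hne α (by rw [← hα]; exact pow_orderOf_eq_one α)
    rw [h1, orderOf_one] at hα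
    exact hd.one_lt.ne hα
  exact IsPGroup.of_card hcard

end abstract

/-! ### monomial maps -/

section concrete

variable {q : ℕ} [Fact q.Prime]

/-- the diagonal map as a linear map -/
def dgL (a b : ZMod q) : (Fin 2 → ZMod q) →ₗ[ZMod q] (Fin 2 → ZMod q) where
  toFun v := ![a * v 0, b * v 1]
  map_add' v w := by
    ext i; fin_cases i <;> simp [mul_add]
  map_smul' c v := by
    ext i; fin_cases i <;> simp [mul_left_comm]

/-- the antidiagonal map as a linear map -/
def adL (a b : ZMod q) : (Fin 2 → ZMod q) →ₗ[ZMod q] (Fin 2 → ZMod q) where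
  toFun v := ![b * v 1, a * v 0]
  map_add' v w := by
    ext i; fin_cases i <;> simp [mul_add]
  map_smul' c v := by
    ext i; fin_cases i <;> simp [mul_left_comm]

lemma dgL_apply (a b : ZMod q) (v : Fin 2 → ZMod q) : dgL a b v = ![a * v 0, b * v 1] := rfl

lemma adL_apply (a b : ZMod q) (v : Fin 2 → ZMod q) : adL a b v = ![b * v 1, a * v 0] := rfl

/-- diagonal maps -/
def dg (a b : (ZMod q)ˣ) : (Fin 2 → ZMod q) ≃ₗ[ZMod q] (Fin 2 → ZMod q) :=
  LinearEquiv.ofLinearMap (dgL (a : ZMod q) b)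
    (dgL ((a⁻¹ : (ZMod q)ˣ) : ZMod q) (b⁻¹ : (ZMod q)ˣ))
    (by
      apply LinearMap.ext; intro v; funext i
      rw [LinearMap.comp_apply, dgL_apply, dgL_apply]
      fin_cases i
      · show (a : ZMod q) * (((a⁻¹ : (ZMod q)ˣ) : ZMod q) * v 0) = v 0
        rw [← mul_assoc, ← Units.val_mul, mul_inv_cancel, Units.val_one, one_mul]
      · show (b : ZMod q) * (((b⁻¹ : (ZMod q)ˣ) : ZMod q) * v 1) = v 1
        rw [← mul_assoc, ← Units.val_mul, mul_inv_cancel, Units.val_one, one_mul])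
    (by
      apply LinearMap.ext; intro v; funext i
      rw [LinearMap.comp_apply, dgL_apply, dgL_apply]
      fin_cases i
      · show ((a⁻¹ : (ZMod q)ˣ) : ZMod q) * ((a : ZMod q) * v 0) = v 0
        rw [← mul_assoc, ← Units.val_mul, inv_mul_cancel, Units.val_one, one_mul]
      · show ((b⁻¹ : (ZMod q)ˣ) : ZMod q) * ((b : ZMod q) * v 1) = v 1
        rw [← mul_assoc, ← Units.val_mul, inv_mul_cancel, Units.val_one, one_mul])

/-- antidiagonal maps -/
def ad (a b : (ZMod q)ˣ) : (Fin 2 → ZMod q) ≃ₗ[ZMod q] (Fin 2 → ZMod q) :=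
  LinearEquiv.ofLinearMap (adL (a : ZMod q) b)
    (adL ((b⁻¹ : (ZMod q)ˣ) : ZMod q) (a⁻¹ : (ZMod q)ˣ))
    (by
      apply LinearMap.ext; intro v; funext i
      rw [LinearMap.comp_apply, adL_apply, adL_apply]
      fin_cases i
      · show (b : ZMod q) * (((b⁻¹ : (ZMod q)ˣ) : ZMod q) * v 0) = v 0
        rw [← mul_assoc, ← Units.val_mul, mul_inv_cancel, Units.val_one, one_mul]
      · show (a : ZMod q) * (((a⁻¹ : (ZMod q)ˣ) : ZMod q) * v 1) = v 1
        rw [← mul_assoc, ← Units.val_mul, mul_inv_cancel, Units.val_one, one_mul])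
    (by
      apply LinearMap.ext; intro v; funext i
      rw [LinearMap.comp_apply, adL_apply, adL_apply]
      fin_cases i
      · show ((a⁻¹ : (ZMod q)ˣ) : ZMod q) * ((a : ZMod q) * v 0) = v 0
        rw [← mul_assoc, ← Units.val_mul, inv_mul_cancel, Units.val_one, one_mul]
      · show ((b⁻¹ : (ZMod q)ˣ) : ZMod q) * ((b : ZMod q) * v 1) = v 1
        rw [← mul_assoc, ← Units.val_mul, inv_mul_cancel, Units.val_one, one_mul])

lemma dg_apply (a b : (ZMod q)ˣ) (v : Fin 2 → ZMod q) :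
    dg a b v = ![(a : ZMod q) * v 0, (b : ZMod q) * v 1] := rfl

lemma ad_apply (a b : (ZMod q)ˣ) (v : Fin 2 → ZMod q) :
    ad a b v = ![(b : ZMod q) * v 1, (a : ZMod q) * v 0] := rfl

lemma dg_mul_dg (a b a' b' : (ZMod q)ˣ) : dg a b * dg a' b' = dg (a * a') (b * b') := by
  ext v i
  rw [LinearEquiv.mul_apply]
  fin_cases i <;> simp [dg_apply, mul_assoc]

lemma dg_mul_ad (a b a' b' : (ZMod q)ˣ) : dg a b * ad a' b' = ad (b * a') (a * b') := by
  ext v i
  rw [LinearEquiv.mul_apply]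
  fin_cases i <;> simp [dg_apply, ad_apply, mul_assoc]

lemma ad_mul_dg (a b a' b' : (ZMod q)ˣ) : ad a b * dg a' b' = ad (a * a') (b * b') := by
  ext v i
  rw [LinearEquiv.mul_apply]
  fin_cases i <;> simp [dg_apply, ad_apply, mul_assoc]

lemma ad_mul_ad (a b a' b' : (ZMod q)ˣ) : ad a b * ad a' b' = dg (b * a') (a * b') := by
  ext v i
  rw [LinearEquiv.mul_apply]
  fin_cases i <;> simp [dg_apply, ad_apply, mul_assoc]

lemma dg_one : dg (1 : (ZMod q)ˣ) 1 = 1 := by
  ext v i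
  fin_cases i <;> simp [dg_apply]

lemma dg_inj {a b a' b' : (ZMod q)ˣ} (h : dg a b = dg a' b') : a = a' ∧ b = b' := by
  have h1 := congrArg (fun f => f ![1, 0] 0) h
  have h2 := congrArg (fun f => f ![0, 1] 1) h
  simp [dg_apply] at h1 h2
  exact ⟨Units.ext h1, Units.ext h2⟩

lemma dg_ne_ad (a b a' b' : (ZMod q)ˣ) : dg a b ≠ ad a' b' := by
  intro h
  have h1 := congrArg (fun f => f ![1, 0] 0) h
  simp [dg_apply, ad_apply] at h1

lemma ad_inj {a b a' b' : (ZMod q)ˣ} (h : ad a b = ad a' b') : a = a' ∧ b = b' := by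
  have h1 := congrArg (fun f => f ![1, 0] 1) h
  have h2 := congrArg (fun f => f ![0, 1] 0) h
  simp [ad_apply] at h1 h2
  exact ⟨Units.ext h1, Units.ext h2⟩

lemma dg_pow (a b : (ZMod q)ˣ) (n : ℕ) : dg a b ^ n = dg (a ^ n) (b ^ n) := by
  induction n with
  | zero => simp [dg_one]
  | succ n ih => rw [pow_succ, ih, dg_mul_dg, pow_succ, pow_succ]

/-- the hypothesis describing the group -/
def Desc (T : Subgroup ((Fin 2 → ZMod q) ≃ₗ[ZMod q] (Fin 2 → ZMod q))) : Prop :=
  ∀ f, f ∈ T ↔ ∃ a s : ZMod q, a ≠ 0 ∧ (s = 1 ∨ s = -1) ∧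
      ((∀ v, f v = ![a * v 0, s * a⁻¹ * v 1]) ∨ (∀ v, f v = ![s * a⁻¹ * v 1, a * v 0]))

lemma mem_T_iff {T : Subgroup ((Fin 2 → ZMod q) ≃ₗ[ZMod q] (Fin 2 → ZMod q))} (hT : Desc T)
    (f : (Fin 2 → ZMod q) ≃ₗ[ZMod q] (Fin 2 → ZMod q)) :
    f ∈ T ↔ ∃ a b : (ZMod q)ˣ, (a * b = 1 ∨ a * b = -1) ∧ (f = dg a b ∨ f = ad a b) := by
  constructor
  · intro hf
    obtain ⟨a, s, ha, hs, h⟩ := (hT f).1 hf
    have key : ∃ s' : (ZMod q)ˣ, (s' = 1 ∨ s' = -1) ∧ (s' : ZMod q) = s := by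
      rcases hs with rfl | rfl
      · exact ⟨1, Or.inl rfl, rfl⟩
      · exact ⟨-1, Or.inr rfl, by simp⟩
    obtain ⟨s', hs', rfl⟩ := key
    refine ⟨Units.mk0 a ha, s' * (Units.mk0 a ha)⁻¹, ?_, ?_⟩
    · rw [mul_comm, mul_assoc, inv_mul_cancel, mul_one]; exact hs'
    · have hb : ((s' * (Units.mk0 a ha)⁻¹ : (ZMod q)ˣ) : ZMod q) = (s' : ZMod q) * a⁻¹ := by
        rw [Units.val_mul, Units.val_inv_eq_inv_val, Units.val_mk0]
      rcases h with h | h
      · left
        ext v i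
        rw [h v, dg_apply, hb, Units.val_mk0]
      · right
        ext v i
        rw [h v, ad_apply, hb, Units.val_mk0]
  · rintro ⟨a, b, hab, hf⟩
    have hb : (b : ZMod q) = ((a * b : (ZMod q)ˣ) : ZMod q) * (a : ZMod q)⁻¹ := by
      rw [Units.val_mul, mul_comm (a : ZMod q), mul_assoc, mul_inv_cancel₀ a.ne_zero, mul_one]
    have hs : ((a * b : (ZMod q)ˣ) : ZMod q) = 1 ∨ ((a * b : (ZMod q)ˣ) : ZMod q) = -1 := by
      rcases hab with h | h
      · left; rw [h]; rfl
      · right; rw [h]; simp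
    refine (hT f).2 ⟨a, ((a * b : (ZMod q)ˣ) : ZMod q), a.ne_zero, hs, ?_⟩
    rcases hf with rfl | rfl
    · left
      intro v
      rw [dg_apply, ← hb]
    · right
      intro v
      rw [ad_apply, ← hb]

section group

variable {T : Subgroup ((Fin 2 → ZMod q) ≃ₗ[ZMod q] (Fin 2 → ZMod q))} (hT : Desc T)

include hT in
lemma cases_T (x : T) : (∃ a b : (ZMod q)ˣ, (a * b = 1 ∨ a * b = -1) ∧ x.1 = dg a b) ∨
    (∃ a b : (ZMod q)ˣ, (a * b = 1 ∨ a * b = -1) ∧ x.1 = ad a b) := by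
  obtain ⟨a, b, hab, h | h⟩ := (mem_T_iff hT x.1).1 x.2
  · exact Or.inl ⟨a, b, hab, h⟩
  · exact Or.inr ⟨a, b, hab, h⟩

include hT in
lemma dg_mem (a b : (ZMod q)ˣ) (hab : a * b = 1 ∨ a * b = -1) : dg a b ∈ T :=
  (mem_T_iff hT _).2 ⟨a, b, hab, Or.inl rfl⟩

include hT in
lemma ad_mem (a b : (ZMod q)ˣ) (hab : a * b = 1 ∨ a * b = -1) : ad a b ∈ T :=
  (mem_T_iff hT _).2 ⟨a, b, hab, Or.inr rfl⟩

lemma sq_pm (s : (ZMod q)ˣ) (hs : s = 1 ∨ s = -1) : s * s = 1 := by
  rcases hs with rfl | rfl <;> simp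

lemma ad_sq (a b : (ZMod q)ˣ) : ad a b * ad a b = dg (a * b) (a * b) := by
  rw [ad_mul_ad, mul_comm b a]

lemma ad_pow_four (a b : (ZMod q)ˣ) (hab : a * b = 1 ∨ a * b = -1) : ad a b ^ 4 = 1 := by
  have : ad a b ^ 4 = (ad a b * ad a b) * (ad a b * ad a b) := by
    rw [show (4 : ℕ) = 2 + 2 from rfl, pow_add, pow_two]
  rw [this, ad_sq, dg_mul_dg, sq_pm _ hab, dg_one]

/-- the diagonal subgroup -/
def Dsub (T : Subgroup ((Fin 2 → ZMod q) ≃ₗ[ZMod q] (Fin 2 → ZMod q))) : Subgroup T where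
  carrier := {x | ∃ a b : (ZMod q)ˣ, x.1 = dg a b}
  one_mem' := ⟨1, 1, dg_one.symm⟩
  mul_mem' := by
    rintro x y ⟨a, b, hx⟩ ⟨a', b', hy⟩
    exact ⟨a * a', b * b', by rw [Subgroup.coe_mul, hx, hy, dg_mul_dg]⟩
  inv_mem' := by
    rintro x ⟨a, b, hx⟩
    refine ⟨a⁻¹, b⁻¹, ?_⟩
    rw [Subgroup.coe_inv, hx]
    apply inv_eq_of_mul_eq_one_right
    rw [dg_mul_dg, mul_inv_cancel, mul_inv_cancel, dg_one]

lemma mem_Dsub (x : T) : x ∈ Dsub T ↔ ∃ a b : (ZMod q)ˣ, x.1 = dg a b := Iff.rfl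

lemma Dsub_comm (x y : T) (hx : x ∈ Dsub T) (hy : y ∈ Dsub T) : x * y = y * x := by
  obtain ⟨a, b, hx⟩ := hx
  obtain ⟨a', b', hy⟩ := hy
  apply Subtype.ext
  rw [Subgroup.coe_mul, Subgroup.coe_mul, hx, hy, dg_mul_dg, dg_mul_dg, mul_comm a, mul_comm b]

include hT in
/-- every element has order dividing `2 (q - 1)` -/
lemma pow_two_mul (x : T) : x ^ (2 * (q - 1)) = 1 := by
  apply Subtype.ext
  rw [Subgroup.coe_pow, Subgroup.coe_one]
  rcases cases_T hT x with ⟨a, b, _, hx⟩ | ⟨a, b, _, hx⟩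
  · rw [hx, mul_comm, pow_mul, dg_pow, ZMod.units_pow_card_sub_one_eq_one,
      ZMod.units_pow_card_sub_one_eq_one, dg_one, one_pow]
  · rw [hx, pow_mul, pow_two, ad_sq, dg_pow, ZMod.units_pow_card_sub_one_eq_one, dg_one]

include hT in
lemma idx_Dsub (x : T) : x ∈ Dsub T ∨ (⟨ad 1 1, ad_mem hT 1 1 (Or.inl (mul_one 1))⟩ : T)⁻¹ * x ∈ Dsub T := by
  rcases cases_T hT x with ⟨a, b, _, hx⟩ | ⟨a, b, hab, hx⟩
  · exact Or.inl ⟨a, b, hx⟩
  · right
    refine ⟨a, b, ?_⟩
    have : x = (⟨ad 1 1, ad_mem hT 1 1 (Or.inl (mul_one 1))⟩ : T) * ⟨dg a b, dg_mem hT a b hab⟩ := by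
      apply Subtype.ext
      rw [Subgroup.coe_mul, hx]
      show ad a b = ad 1 1 * dg a b
      rw [ad_mul_dg, one_mul, one_mul]
    rw [this, inv_mul_cancel_left]

lemma unit_sq (a : (ZMod q)ˣ) (h : a * a = 1) : a = 1 ∨ a = -1 := by
  have h1 : (a : ZMod q) * (a : ZMod q) = 1 := by rw [← Units.val_mul, h, Units.val_one]
  rcases mul_self_eq_one_iff.1 h1 with h2 | h2
  · left; exact Units.ext h2
  · right; exact Units.ext (by rw [h2]; simp)

/-- the central involution -/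
def zT (hT : Desc T) : T := ⟨dg (-1) (-1), dg_mem hT _ _ (Or.inl (by simp))⟩

/-- a noncentral diagonal involution -/
def eT (hT : Desc T) : T := ⟨dg 1 (-1), dg_mem hT _ _ (Or.inr (by simp))⟩

include hT in
lemma exists_orderOf : ∃ x : T, orderOf x = q - 1 := by
  obtain ⟨g, hg⟩ := IsCyclic.exists_generator (α := (ZMod q)ˣ)
  have hog : orderOf g = q - 1 := by
    rw [orderOf_eq_card_of_forall_mem_zpowers hg, Nat.card_eq_fintype_card, ZMod.card_units]
  refine ⟨⟨dg g g⁻¹, dg_mem hT _ _ (Or.inl (mul_inv_cancel g))⟩, ?_⟩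
  rw [← hog, ← Subgroup.orderOf_coe]
  show orderOf (dg g g⁻¹) = orderOf g
  rw [orderOf_eq_orderOf_iff]
  intro n
  rw [dg_pow]
  constructor
  · intro h
    rw [← dg_one] at h
    exact (dg_inj h).1
  · intro h
    rw [inv_pow, h, inv_one, dg_one]

section main

variable {m : ℕ} (hm : 3 ≤ m) (hq : q - 1 = 2 ^ m)

omit [Fact q.Prime] in
include hm hq in
lemma four_lt : 4 < q - 1 := by
  rw [hq]
  calc 4 < 2 ^ 3 := by norm_num
    _ ≤ 2 ^ m := Nat.pow_le_pow_right (by norm_num) hm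

include hT hm hq in
lemma S1 (x : T) (hx : orderOf x = q - 1) : x ∈ Dsub T := by
  rcases cases_T hT x with ⟨a, b, _, h⟩ | ⟨a, b, hab, h⟩
  · exact ⟨a, b, h⟩
  · exfalso
    have h4 : x ^ 4 = 1 := by
      apply Subtype.ext
      rw [Subgroup.coe_pow, h, ad_pow_four a b hab]; rfl
    have := Nat.le_of_dvd (by norm_num) (orderOf_dvd_of_pow_eq_one h4)
    have := four_lt hm hq
    omega

include hT hm hq in
lemma S3 (x : T) (hx : orderOf x = q - 1) (y : T) (hy : y * x = x * y) : y ∈ Dsub T := by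
  obtain ⟨a, b, hxv⟩ := S1 hT hm hq x hx
  rcases cases_T hT y with ⟨a', b', _, h⟩ | ⟨a', b', _, h⟩
  · exact ⟨a', b', h⟩
  · exfalso
    have h1 := congrArg Subtype.val hy
    rw [Subgroup.coe_mul, Subgroup.coe_mul, hxv, h, ad_mul_dg, dg_mul_ad] at h1
    have h2 := (ad_inj h1).1
    have hab : a = b := by
      have : a' * a = a' * b := by rw [h2, mul_comm]
      exact mul_left_cancel this
    subst hab
    obtain ⟨a'', b'', hab'', hx2 | hx2⟩ := (mem_T_iff hT x.1).1 x.2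
    · rw [hxv] at hx2
      obtain ⟨rfl, rfl⟩ := dg_inj hx2
      have h4 : x ^ 4 = 1 := by
        apply Subtype.ext
        rw [Subgroup.coe_pow, hxv, dg_pow]
        have : a ^ 4 = 1 := by
          rw [show (4 : ℕ) = 2 + 2 from rfl, pow_add, pow_two, sq_pm _ hab'']
        rw [this, dg_one]; rfl
      have := Nat.le_of_dvd (by norm_num) (orderOf_dvd_of_pow_eq_one h4)
      have := four_lt hm hq
      omega
    · rw [hxv] at hx2
      exact dg_ne_ad _ _ _ _ hx2

include hT hm hq in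
lemma S2 (x : T) (hx : orderOf x = q - 1) : x ^ ((q - 1) / 2) = zT hT := by
  obtain ⟨a, b, hxv⟩ := S1 hT hm hq x hx
  obtain ⟨a'', b'', hab, hx2 | hx2⟩ := (mem_T_iff hT x.1).1 x.2
  swap
  · rw [hxv] at hx2
    exact absurd hx2 (dg_ne_ad _ _ _ _)
  rw [hxv] at hx2
  obtain ⟨rfl, rfl⟩ := dg_inj hx2
  obtain ⟨m', rfl⟩ : ∃ m', m = m' + 2 := ⟨m - 2, by omega⟩
  have hh : (q - 1) / 2 = 2 * 2 ^ m' := by
    rw [hq, pow_succ, pow_succ]
    omega
  have h2h : 2 * ((q - 1) / 2) = q - 1 := by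
    rw [hh, hq, pow_succ, pow_succ]; ring
  set h := (q - 1) / 2 with hdef
  have hε : a ^ h * a ^ h = 1 := by
    rw [← pow_add, ← two_mul, h2h, ZMod.units_pow_card_sub_one_eq_one]
  have hb : b = a⁻¹ * (a * b) := by rw [inv_mul_cancel_left]
  have hs : (a * b) ^ h = 1 := by
    rw [hh, pow_mul, pow_two, sq_pm _ hab, one_pow]
  have hbh : b ^ h = (a ^ h)⁻¹ := by
    rw [hb, mul_pow, hs, mul_one, inv_pow]
  rcases unit_sq _ hε with h1 | h1
  · exfalso
    have hx1 : x ^ h = 1 := by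
      apply Subtype.ext
      rw [Subgroup.coe_pow, hxv, dg_pow, hbh, h1, inv_one, dg_one]; rfl
    have hdvd := orderOf_dvd_of_pow_eq_one hx1
    rw [hx] at hdvd
    have hpos : 0 < h := by rw [hh]; positivity
    have := Nat.le_of_dvd hpos hdvd
    omega
  · apply Subtype.ext
    rw [Subgroup.coe_pow, hxv, dg_pow, hbh, h1]
    show dg (-1) (-1)⁻¹ = dg (-1) (-1)
    rw [inv_neg, inv_one]

include hT in
lemma invol_Dsub (x : T) (hx : x ∈ Dsub T) (h2 : x ^ 2 = 1) :
    x = 1 ∨ x = zT hT ∨ x = eT hT ∨ x = eT hT * zT hT := by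
  obtain ⟨a, b, hxv⟩ := hx
  have h3 := congrArg Subtype.val h2
  rw [Subgroup.coe_pow, hxv, dg_pow, Subgroup.coe_one, ← dg_one] at h3
  obtain ⟨ha, hb⟩ := dg_inj h3
  rw [pow_two] at ha hb
  rcases unit_sq a ha with rfl | rfl <;> rcases unit_sq b hb with rfl | rfl
  · left; apply Subtype.ext; rw [hxv, dg_one]; rfl
  · right; right; left; apply Subtype.ext; rw [hxv]; rfl
  · right; right; right; apply Subtype.ext
    rw [hxv, Subgroup.coe_mul]
    show dg (-1) 1 = dg 1 (-1) * dg (-1) (-1)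
    rw [dg_mul_dg]; simp
  · right; left; apply Subtype.ext; rw [hxv]; rfl

instance finL : Finite ((Fin 2 → ZMod q) ≃ₗ[ZMod q] (Fin 2 → ZMod q)) :=
  Finite.of_injective (fun f => (f : (Fin 2 → ZMod q) → (Fin 2 → ZMod q))) DFunLike.coe_injective

include hT hm hq in
lemma main_case : IsPGroup 2 (MulAut T) := by
  apply isPGroup_of_no_odd
  intro p hp hp2 α hα
  have hodd : Odd p := hp.odd_of_ne_two hp2
  have h2grp : ∀ x : T, ∃ k : ℕ, x ^ (2 ^ k) = 1 := fun x =>
    ⟨m + 1, by rw [pow_succ', ← hq]; exact pow_two_mul hT x⟩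
  obtain ⟨d₀, hd₀⟩ := exists_orderOf hT
  have hαord : ∀ x : T, orderOf (α x) = orderOf x := fun x => MulEquiv.orderOf_eq α x
  have hd₀D := S1 hT hm hq d₀ hd₀
  have hinv : ∀ y ∈ Dsub T, α y ∈ Dsub T := by
    intro y hy
    apply S3 hT hm hq (α d₀) (by rw [hαord, hd₀])
    rw [← map_mul, ← map_mul, Dsub_comm y d₀ hy hd₀D]
  have hz : α (zT hT) = zT hT := by
    have h1 := S2 hT hm hq d₀ hd₀
    have h2 := S2 hT hm hq (α d₀) (by rw [hαord, hd₀])
    rw [← map_pow, h1] at h2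
    exact h2
  have heD : eT hT ∈ Dsub T := ⟨1, -1, rfl⟩
  have he2 : (eT hT) ^ 2 = 1 := by
    apply Subtype.ext
    rw [Subgroup.coe_pow]
    show dg 1 (-1) ^ 2 = 1
    rw [dg_pow]; simp [dg_one]
  have hz2 : (zT hT) ^ 2 = 1 := by
    apply Subtype.ext
    rw [Subgroup.coe_pow]
    show dg (-1) (-1) ^ 2 = 1
    rw [dg_pow]; simp [dg_one]
  have he : α (eT hT) = eT hT := by
    have h1 : α (eT hT) ∈ Dsub T := hinv _ heD
    have h2 : (α (eT hT)) ^ 2 = 1 := by rw [← map_pow, he2, map_one]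
    rcases invol_Dsub hT _ h1 h2 with h | h | h | h
    · have : eT hT = 1 := α.injective (by rw [h, map_one])
      rw [this, map_one]
    · have : eT hT = zT hT := α.injective (by rw [h, hz])
      rw [this, hz]
    · exact h
    · exact fix_of_mul_mem α p hodd hα (eT hT) (zT hT) h hz ⟨1, by rw [pow_one]; exact hz2⟩
  have hΩ : ∀ x ∈ Dsub T, x ^ 2 = 1 → α x = x := by
    intro x hx h2
    rcases invol_Dsub hT x hx h2 with rfl | rfl | rfl | rfl
    · exact map_one α
    · exact hz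
    · exact he
    · rw [map_mul, he, hz]
  have hD := fix_abelian α p hodd hα (Dsub T) (fun x hx y hy => Dsub_comm x y hx hy) hinv hΩ
    (fun x _ => h2grp x)
  exact fix_all α p hodd hα (Dsub T) _ hD (idx_Dsub hT) h2grp

end main

/-! ### the case `q = 2` -/

include hT in
lemma case_two (hq : q - 1 = 1) : IsPGroup 2 (MulAut T) := by
  have huniq : ∀ a : (ZMod q)ˣ, a = 1 := by
    have hc : Fintype.card (ZMod q)ˣ = 1 := by rw [ZMod.card_units, hq]
    have := Fintype.card_le_one_iff_subsingleton.1 hc.le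
    intro a
    exact Subsingleton.elim _ _
  apply isPGroup_of_no_odd
  intro p hp hp2 α hα
  have hodd : Odd p := hp.odd_of_ne_two hp2
  have h2grp : ∀ x : T, ∃ k : ℕ, x ^ (2 ^ k) = 1 := fun x =>
    ⟨1, by have := pow_two_mul hT x; rwa [hq] at this⟩
  apply fix_all α p hodd hα ⊥ (⟨ad 1 1, ad_mem hT 1 1 (Or.inl (mul_one 1))⟩ : T)
  · intro x hx
    rw [Subgroup.mem_bot] at hx
    rw [hx, map_one]
  · intro x
    rcases cases_T hT x with ⟨a, b, _, hx⟩ | ⟨a, b, _, hx⟩
    · left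
      rw [Subgroup.mem_bot]
      apply Subtype.ext
      rw [hx, huniq a, huniq b, dg_one]; rfl
    · right
      rw [Subgroup.mem_bot, inv_mul_eq_one]
      apply Subtype.ext
      rw [hx, huniq a, huniq b]
  · exact h2grp

/-! ### the case `q = 3` -/

section three

variable (hq : q - 1 = 2)

include hq in
lemma unit_pm (a : (ZMod q)ˣ) : a = 1 ∨ a = -1 := by
  apply unit_sq
  rw [← pow_two, ← hq, ZMod.units_pow_card_sub_one_eq_one]

include hq in
lemma neg_one_ne_one : (-1 : (ZMod q)ˣ) ≠ 1 := by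
  intro h
  have h1 : ((-1 : (ZMod q)ˣ) : ZMod q) = 1 := by rw [h]; rfl
  have h2 : ((2 : ℕ) : ZMod q) = 0 := by
    have : (1 : ZMod q) + 1 = 0 := by
      nth_rewrite 1 [← h1]
      simp
    rw [← this]; norm_num
  have h3 := (ZMod.natCast_eq_zero_iff 2 q).1 h2
  have := Nat.le_of_dvd (by norm_num) h3
  omega

/-- the element of order four -/
def rT (hT : Desc T) : T := ⟨ad 1 (-1), ad_mem hT _ _ (Or.inr (by simp))⟩

include hT hq in
lemma case_three : IsPGroup 2 (MulAut T) := by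
  have hne := neg_one_ne_one hq
  apply isPGroup_of_no_odd
  intro p hp hp2 α hα
  have hodd : Odd p := hp.odd_of_ne_two hp2
  have h2grp : ∀ x : T, ∃ k : ℕ, x ^ (2 ^ k) = 1 := fun x =>
    ⟨2, by have := pow_two_mul hT x; rwa [hq] at this⟩
  have hz1 : zT hT ≠ 1 := by
    intro h
    have := congrArg Subtype.val h
    rw [Subgroup.coe_one, ← dg_one] at this
    exact hne (dg_inj this).1
  have hz2 : (zT hT) ^ 2 = 1 := by
    apply Subtype.ext
    rw [Subgroup.coe_pow]
    show dg (-1) (-1) ^ 2 = 1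
    rw [dg_pow]; simp [dg_one]
  have hsq : ∀ x : T, x ^ 2 = 1 ∨ x ^ 2 = zT hT := by
    intro x
    rcases cases_T hT x with ⟨a, b, _, hx⟩ | ⟨a, b, hab, hx⟩
    · left
      apply Subtype.ext
      rw [Subgroup.coe_pow, hx, dg_pow, pow_two, pow_two]
      rcases unit_pm hq a with rfl | rfl <;> rcases unit_pm hq b with rfl | rfl <;>
        simp [dg_one]
    · rcases hab with hab | hab
      · left
        apply Subtype.ext
        rw [Subgroup.coe_pow, hx, pow_two, ad_sq, hab, dg_one]; rfl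
      · right
        apply Subtype.ext
        rw [Subgroup.coe_pow, hx, pow_two, ad_sq, hab]; rfl
  have hr2 : (rT hT) ^ 2 = zT hT := by
    apply Subtype.ext
    rw [Subgroup.coe_pow]
    show ad 1 (-1) ^ 2 = dg (-1) (-1)
    rw [pow_two, ad_sq]; simp
  have hrz : rT hT * zT hT = (rT hT)⁻¹ := by
    apply eq_inv_of_mul_eq_one_right
    rw [← mul_assoc, ← pow_two, hr2, ← pow_two, hz2]
  have hroot : ∀ x : T, x ^ 2 = zT hT → x = rT hT ∨ x = rT hT * zT hT := by
    intro x hx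
    rcases cases_T hT x with ⟨a, b, _, hxv⟩ | ⟨a, b, hab, hxv⟩
    · exfalso
      have h1 : x ^ 2 = 1 := by
        apply Subtype.ext
        rw [Subgroup.coe_pow, hxv, dg_pow, pow_two, pow_two]
        rcases unit_pm hq a with rfl | rfl <;> rcases unit_pm hq b with rfl | rfl <;>
          simp [dg_one]
      rw [h1] at hx
      exact hz1 hx.symm
    · have h1 := congrArg Subtype.val hx
      rw [Subgroup.coe_pow, hxv, pow_two, ad_sq] at h1
      have hab' : a * b = -1 := (dg_inj h1).1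
      rcases unit_pm hq a with rfl | rfl
      · left
        apply Subtype.ext
        rw [hxv]
        rw [one_mul] at hab'
        rw [hab']; rfl
      · right
        apply Subtype.ext
        rw [hxv, Subgroup.coe_mul]
        show ad (-1) b = ad 1 (-1) * dg (-1) (-1)
        have hb : b = 1 := by
          have : -b = -1 := by simpa using hab'
          exact neg_injective this
        rw [hb, ad_mul_dg]; simp
  have hz : α (zT hT) = zT hT := by
    rcases hsq (α (rT hT)) with h | h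
    · exfalso
      rw [← map_pow, hr2] at h
      have : zT hT = 1 := α.injective (by rw [h, map_one])
      exact hz1 this
    · rw [← map_pow, hr2] at h
      exact h
  have hr : α (rT hT) = rT hT := by
    have h1 : (α (rT hT)) ^ 2 = zT hT := by rw [← map_pow, hr2, hz]
    rcases hroot _ h1 with h | h
    · exact h
    · exact fix_of_mul_mem α p hodd hα (rT hT) (zT hT) h hz ⟨1, by rw [pow_one]; exact hz2⟩
  apply fix_all α p hodd hα (Subgroup.zpowers (rT hT)) (eT hT)
  · intro x hx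
    obtain ⟨k, rfl⟩ := Subgroup.mem_zpowers_iff.1 hx
    rw [map_zpow, hr]
  · intro x
    have he_inv : (eT hT)⁻¹ = eT hT := by
      apply inv_eq_of_mul_eq_one_right
      apply Subtype.ext
      rw [Subgroup.coe_mul]
      show dg 1 (-1) * dg 1 (-1) = 1
      rw [dg_mul_dg]; simp [dg_one]
    have hrmem : rT hT ∈ Subgroup.zpowers (rT hT) := Subgroup.mem_zpowers _
    have hzmem : zT hT ∈ Subgroup.zpowers (rT hT) := by
      rw [← hr2]; exact Subgroup.pow_mem _ hrmem 2
    have hrzmem : rT hT * zT hT ∈ Subgroup.zpowers (rT hT) := Subgroup.mul_mem _ hrmem hzmem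
    rw [he_inv]
    rcases cases_T hT x with ⟨a, b, _, hxv⟩ | ⟨a, b, _, hxv⟩
    · rcases unit_pm hq a with rfl | rfl <;> rcases unit_pm hq b with rfl | rfl
      · left
        have : x = 1 := by apply Subtype.ext; rw [hxv, dg_one]; rfl
        rw [this]; exact Subgroup.one_mem _
      · right
        have : eT hT * x = 1 := by
          apply Subtype.ext
          rw [Subgroup.coe_mul, hxv]
          show dg 1 (-1) * dg 1 (-1) = 1
          rw [dg_mul_dg]; simp [dg_one]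
        rw [this]; exact Subgroup.one_mem _
      · right
        have : eT hT * x = zT hT := by
          apply Subtype.ext
          rw [Subgroup.coe_mul, hxv]
          show dg 1 (-1) * dg (-1) 1 = dg (-1) (-1)
          rw [dg_mul_dg]; simp
        rw [this]; exact hzmem
      · left
        have : x = zT hT := by apply Subtype.ext; rw [hxv]; rfl
        rw [this]; exact hzmem
    · rcases unit_pm hq a with rfl | rfl <;> rcases unit_pm hq b with rfl | rfl
      · right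
        have : eT hT * x = rT hT * zT hT := by
          apply Subtype.ext
          rw [Subgroup.coe_mul, Subgroup.coe_mul, hxv]
          show dg 1 (-1) * ad 1 1 = ad 1 (-1) * dg (-1) (-1)
          rw [dg_mul_ad, ad_mul_dg]; simp
        rw [this]; exact hrzmem
      · left
        have : x = rT hT := by apply Subtype.ext; rw [hxv]; rfl
        rw [this]; exact hrmem
      · left
        have : x = rT hT * zT hT := by
          apply Subtype.ext
          rw [Subgroup.coe_mul, hxv]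
          show ad (-1) 1 = ad 1 (-1) * dg (-1) (-1)
          rw [ad_mul_dg]; simp
        rw [this]; exact hrzmem
      · right
        have : eT hT * x = rT hT := by
          apply Subtype.ext
          rw [Subgroup.coe_mul, hxv]
          show dg 1 (-1) * ad (-1) (-1) = ad 1 (-1)
          rw [dg_mul_ad]; simp
        rw [this]; exact hrmem
  · exact h2grp

end three

end group

end concrete

/-- Let q = 2^m + 1 be a prime other than 5. Then the automorphism group of the group of linear maps of F_q² of the forms (x, y) ↦ (a x, ± a⁻¹ y) and (x, y) ↦ (± a⁻¹ y, a x) with a ≠ 0 is itself a 2-group. -/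
theorem result (q m : ℕ) [Fact q.Prime] (hq : q = 2 ^ m + 1) (hq5 : q ≠ 5)
    (T : Subgroup ((Fin 2 → ZMod q) ≃ₗ[ZMod q] (Fin 2 → ZMod q)))
    (hT : ∀ f, f ∈ T ↔ ∃ a s : ZMod q, a ≠ 0 ∧ (s = 1 ∨ s = -1) ∧
      ((∀ v, f v = ![a * v 0, s * a⁻¹ * v 1]) ∨ (∀ v, f v = ![s * a⁻¹ * v 1, a * v 0]))) :
    IsPGroup 2 (MulAut T) := by
  have hT' : Desc T := hT
  have hq1 : q - 1 = 2 ^ m := by rw [hq, Nat.add_sub_cancel]
  rcases Nat.lt_or_ge m 3 with h | h
  · interval_cases m
    · exact case_two hT' (by rw [hq1]; rfl)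
    · exact case_three hT' (by rw [hq1]; rfl)
    · exfalso
      apply hq5
      rw [hq]; norm_num
  · exact main_case hT' h hq1

end Cfsg.Agent.S3382
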