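import Cfsg.Statements.S3385
import Mathlib
import Cfsg.Agent.Lib.Helper61.SimsAbs
-- import your own Cfsg.Agent.* helpers here

set_option autoImplicit false
open Cfsg

namespace Cfsg.Agent.S3385

open MulAction Cfsg.Agent.Helper61.TutteBase Cfsg.Agent.Helper61.SimsAbs

/-- Setup: translate the permutation-group hypotheses to the abstract pair. -/
theorem setup {G : Type*} [Group G] [Finite G] {Ω : Type*} [MulAction G Ω] [FaithfulSMul G Ω]
    (hprim : MulAction.IsPreprimitive G Ω) (a b : Ω)
    (h3 : Nat.card (MulAction.orbit (MulAction.stabilizer G a) b) = 3) :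
    IsCoatom (stabilizer G a) ∧
    (∀ H : Subgroup G, H.Normal → H ≤ stabilizer G a → H = ⊥) ∧
    ∃ g : G, stabilizer G b = cj g (stabilizer G a) ∧
      Nat.card (stabilizer G a) = 3 * Nat.card ↥(stabilizer G a ⊓ stabilizer G b) := by
  have := hprim.toIsPretransitive
  have hba : b ≠ a := by
    rintro rfl
    have : orbit (stabilizer G b) b = {b} := by
      ext x
      constructor
      · rintro ⟨g, rfl⟩
        exact g.2
      · rintro rfl
        exact mem_orbit_self _
    rw [this] at h3
    simp at h3
  have : Nontrivial Ω := ⟨⟨b, a, hba⟩⟩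
  have hcoatom : IsCoatom (stabilizer G a) := (isCoatom_stabilizer_iff_preprimitive G a).mpr hprim
  refine ⟨hcoatom, ?_, ?_⟩
  · intro H hH hle
    rw [eq_bot_iff]
    intro l hl
    rw [Subgroup.mem_bot]
    apply FaithfulSMul.eq_of_smul_eq_smul (α := Ω)
    intro x
    obtain ⟨g, rfl⟩ := exists_smul_eq G a x
    have : g⁻¹ * l * g ∈ H := by
      have := hH.conj_mem l hl g⁻¹
      simpa using this
    have h5 : (g⁻¹ * l * g) • a = a := hle this
    rw [mul_smul, mul_smul, inv_smul_eq_iff] at h5
    rw [one_smul, h5]
  · obtain ⟨g, hg⟩ := exists_smul_eq G a b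
    refine ⟨g, ?_, ?_⟩
    · rw [← hg, stabilizer_smul_eq_stabilizer_map_conj]; rfl
    · set H := stabilizer G a with hH
      set K := stabilizer G b with hK
      have hst : stabilizer H b = K.subgroupOf H := by
        ext g
        simp only [mem_stabilizer_iff, Subgroup.mem_subgroupOf, hK]
        rfl
      have h1 : K.relIndex H = 3 := by
        rw [Subgroup.relIndex, ← hst, index_stabilizer, ← Nat.card_coe_set_eq]; exact h3
      have h2 : (H ⊓ K).relIndex H = 3 := by rw [Subgroup.inf_relIndex_left]; exact h1
      have := card_eq_relIndex_mul (inf_le_left : H ⊓ K ≤ H)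
      rw [h2] at this
      exact this

/-- Sims' Theorem on primitive groups with a suborbit of length 3. Let G be a finite group acting faithfully and primitively on a set Ω, and suppose the stabilizer of a point a has an orbit of length 3 on Ω. Then the stabilizer of a has order 2^k · 3 for some k ≤ 4. -/
theorem result {G : Type*} [Group G] [Finite G] {Ω : Type*} [MulAction G Ω] [FaithfulSMul G Ω]
    (hprim : MulAction.IsPreprimitive G Ω) (a b : Ω)
    (h3 : Nat.card (MulAction.orbit (MulAction.stabilizer G a) b) = 3) :
    ∃ k : ℕ, k ≤ 4 ∧ Nat.card ↥(MulAction.stabilizer G a) = 2 ^ k * 3 := by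
  obtain ⟨hM, hcore, g, hN, hcard⟩ := setup hprim a b h3
  exact sims_abstract hM hcore g hN hcard

end Cfsg.Agent.S3385
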