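import Cfsg.Statements.S3389

set_option autoImplicit false
open Cfsg

namespace Cfsg.Agent.S3389

variable {G : Type*} [Group G] {Ω : Type*} [MulAction G Ω]

/-- Part (a): the centre acts freely on the fixed points of any element. -/
lemma center_card_dvd [Finite G] [Finite Ω] [FaithfulSMul G Ω]
    (htr : MulAction.IsPretransitive G Ω) (g : G) :
    Nat.card (Subgroup.center G) ∣ Nat.card (MulAction.fixedBy Ω g) := by
  classical
  let _ : MulAction (Subgroup.center G) (MulAction.fixedBy Ω g) :=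
    { smul := fun z x => ⟨(z : G) • (x : Ω), by
        have hx : g • (x : Ω) = x := x.2
        rw [MulAction.mem_fixedBy, smul_smul, (Subgroup.mem_center_iff.mp z.2 g), ← smul_smul, hx]⟩
      one_smul := fun x => Subtype.ext (one_smul _ _)
      mul_smul := fun a b x => Subtype.ext (mul_smul _ _ _) }
  have hsmul : ∀ (z : Subgroup.center G) (x : MulAction.fixedBy Ω g),
      ((z • x : MulAction.fixedBy Ω g) : Ω) = (z : G) • (x : Ω) := fun _ _ => rfl
  have hfree : ∀ x : MulAction.fixedBy Ω g, MulAction.stabilizer (Subgroup.center G) x = ⊥ := by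
    intro x
    rw [eq_bot_iff]
    intro z hz
    rw [MulAction.mem_stabilizer_iff] at hz
    have hz' : (z : G) • (x : Ω) = x := by rw [← hsmul, hz]
    have h1 : (z : G) = 1 := by
      apply FaithfulSMul.eq_of_smul_eq_smul (α := Ω)
      intro y
      obtain ⟨h, rfl⟩ := MulAction.exists_smul_eq G (x : Ω) y
      rw [one_smul, smul_smul, ← (Subgroup.mem_center_iff.mp z.2 h), ← smul_smul, hz']
    rw [Subgroup.mem_bot]
    exact Subtype.ext h1
  have e := MulAction.selfEquivOrbitsQuotientProd hfree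
  rw [Nat.card_congr e, Nat.card_prod]
  exact dvd_mul_left _ _

/-- Part (c). -/
lemma part_c [Finite G] [Finite Ω] (htr : MulAction.IsPretransitive G Ω) (k : ℕ)
    (hfix : ∀ g : G, g ≠ 1 → Nat.card (MulAction.fixedBy Ω g) ≤ k)
    (p : ℕ) (hp : p.Prime) (hkp : k < p) (α : Ω)
    (h1 : p ∣ Nat.card (MulAction.stabilizer G α)) : ¬ p ∣ (MulAction.stabilizer G α).index := by
  classical
  have _ : Fact p.Prime := ⟨hp⟩
  have _ : Fintype (MulAction.stabilizer G α) := Fintype.ofFinite _
  obtain ⟨x, hx⟩ := exists_prime_orderOf_dvd_card (G := MulAction.stabilizer G α) p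
    (by rwa [Nat.card_eq_fintype_card] at h1)
  have hxo : orderOf (x : G) = p := by rw [Subgroup.orderOf_coe, hx]
  have hx1 : (x : G) ≠ 1 := by
    intro h
    rw [h, orderOf_one] at hxo
    exact hp.one_lt.ne hxo
  have hPG : IsPGroup p (Subgroup.zpowers (x : G)) := by
    apply IsPGroup.of_card (n := 1)
    rw [Nat.card_zpowers, hxo, pow_one]
  have hmod := hPG.card_modEq_card_fixedPoints Ω
  have hsub : MulAction.fixedPoints (Subgroup.zpowers (x : G)) Ω ⊆ MulAction.fixedBy Ω (x : G) := by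
    intro ω hω
    exact hω ⟨(x : G), Subgroup.mem_zpowers _⟩
  have hle : Nat.card (MulAction.fixedPoints (Subgroup.zpowers (x : G)) Ω) ≤ k :=
    le_trans (Nat.card_mono (Set.toFinite _) hsub) (hfix _ hx1)
  have hα : α ∈ MulAction.fixedPoints (Subgroup.zpowers (x : G)) Ω := by
    rintro ⟨y, hy⟩
    have : y ∈ MulAction.stabilizer G α := by
      have hle : Subgroup.zpowers (x : G) ≤ MulAction.stabilizer G α := by
        rw [Subgroup.zpowers_le]; exact x.2
      exact hle hy
    exact this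
  have hpos : 0 < Nat.card (MulAction.fixedPoints (Subgroup.zpowers (x : G)) Ω) := by
    rw [Nat.card_pos_iff]
    exact ⟨⟨⟨α, hα⟩⟩, inferInstance⟩
  rw [MulAction.index_stabilizer_of_transitive]
  intro hdvd
  have h0 : Nat.card Ω ≡ 0 [MOD p] := (Nat.modEq_zero_iff_dvd).mpr hdvd
  have h2 := hmod.symm.trans h0
  have h3 := (Nat.modEq_zero_iff_dvd).mp h2
  have := Nat.le_of_dvd hpos h3
  omega

/-- odd order element fixing a point with its square fixes it -/
lemma fix_of_sq_fix (g : G) (hodd : Odd (orderOf g)) (ω : Ω) (h : g ^ 2 • ω = ω) : g • ω = ω := by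
  obtain ⟨j, hj⟩ := hodd
  have h1 : g = (g ^ 2) ^ (j + 1) := by
    rw [← pow_mul, show 2 * (j + 1) = orderOf g + 1 by omega, pow_succ, pow_orderOf_eq_one, one_mul]
  have h2 : ∀ n : ℕ, (g ^ 2) ^ n • ω = ω := by
    intro n
    induction n with
    | zero => simp
    | succ n ih => rw [pow_succ, mul_smul, h, ih]
  conv_lhs => rw [h1]
  exact h2 _

lemma fix_of_pair (g : G) (hodd : Odd (orderOf g)) (α β : Ω)
    (hα : g • α = α ∨ g • α = β) (hβ : g • β = α ∨ g • β = β) : g • α = α := by
  rcases hα with h | h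
  · exact h
  · rcases hβ with h' | h'
    · apply fix_of_sq_fix g hodd
      rw [pow_two, mul_smul, h, h']
    · have : α = β := by
        have := h.trans h'.symm
        exact smul_left_cancel g this
      rw [this]; exact h'

/-- Part (b). -/
lemma part_b [Finite G] [Finite Ω] (htr : MulAction.IsPretransitive G Ω)
    (hfix : ∀ g : G, g ≠ 1 → Nat.card (MulAction.fixedBy Ω g) ≤ 2)
    (hex : ∃ g : G, g ≠ 1 ∧ Nat.card (MulAction.fixedBy Ω g) = 2) : 2 ∣ Nat.card G := by
  classical
  by_contra hodd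
  have hoddG : Odd (Nat.card G) := Nat.odd_iff.mpr (by omega)
  have hoddg : ∀ g : G, Odd (orderOf g) := fun g =>
    Odd.of_dvd_nat hoddG (orderOf_dvd_natCard g)
  obtain ⟨x, hx1, hxcard⟩ := hex
  -- Fix(x) = {α, β}
  have hxc : (MulAction.fixedBy Ω x).ncard = 2 := by
    rw [← Nat.card_coe_set_eq]; exact hxcard
  obtain ⟨α, β, hαβ, hFx⟩ := Set.ncard_eq_two.mp hxc
  -- a general principle
  have key : ∀ y : G, y ≠ 1 → y • α = α → y • β = β → ∀ ω : Ω, y • ω = ω → ω = α ∨ ω = β := by
    intro y hy1 hyα hyβ ω hω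
    have hsub : ({α, β} : Set Ω) ⊆ MulAction.fixedBy Ω y := by
      intro t ht
      rcases ht with rfl | rfl
      · exact hyα
      · exact hyβ
    have hc : (MulAction.fixedBy Ω y).ncard ≤ ({α, β} : Set Ω).ncard := by
      rw [Set.ncard_pair hαβ, ← Nat.card_coe_set_eq]
      exact hfix y hy1
    have := Set.eq_of_subset_of_ncard_le hsub hc (Set.toFinite _)
    have hω' : ω ∈ MulAction.fixedBy Ω y := hω
    rw [← this] at hω'
    exact hω'
  have hxα : x • α = α := by
    have : α ∈ MulAction.fixedBy Ω x := by rw [hFx]; simp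
    exact this
  have hxβ : x • β = β := by
    have : β ∈ MulAction.fixedBy Ω x := by rw [hFx]; simp
    exact this
  -- commuting elements
  have comm : ∀ y z : G, y ≠ 1 → y • α = α → y • β = β → z * y = y * z → z • α = α ∧ z • β = β := by
    intro y z hy1 hyα hyβ hzy
    have h1 : y • (z • α) = z • α := by rw [smul_smul, ← hzy, ← smul_smul, hyα]
    have h2 : y • (z • β) = z • β := by rw [smul_smul, ← hzy, ← smul_smul, hyβ]
    have h1' := key y hy1 hyα hyβ _ h1
    have h2' := key y hy1 hyα hyβ _ h2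
    refine ⟨fix_of_pair z (hoddg z) α β h1' h2', ?_⟩
    exact fix_of_pair z (hoddg z) β α h2'.symm h1'.symm
  -- prime p dividing the order of x
  have hox : orderOf x ≠ 1 := by rwa [Ne, orderOf_eq_one_iff]
  obtain ⟨p, hp, hpx⟩ := Nat.exists_prime_and_dvd hox
  have _ : Fact p.Prime := ⟨hp⟩
  set y := x ^ (orderOf x / p) with hy
  have hyo : orderOf y = p := orderOf_pow_orderOf_div (orderOf_pos x).ne' hpx
  have hy1 : y ≠ 1 := by
    intro h
    rw [h, orderOf_one] at hyo
    exact hp.one_lt.ne hyo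
  have hpow : ∀ (n : ℕ) (ω : Ω), x • ω = ω → x ^ n • ω = ω := by
    intro n ω h
    induction n with
    | zero => simp
    | succ n ih => rw [pow_succ, mul_smul, h, ih]
  have hyα : y • α = α := hpow _ _ hxα
  have hyβ : y • β = β := hpow _ _ hxβ
  have hPGy : IsPGroup p (Subgroup.zpowers y) := by
    apply IsPGroup.of_card (n := 1)
    rw [Nat.card_zpowers, hyo, pow_one]
  obtain ⟨P, hP⟩ := hPGy.exists_le_sylow
  have hyP : y ∈ P := hP (Subgroup.mem_zpowers y)
  have _ : Nontrivial P := ⟨⟨⟨y, hyP⟩, 1, fun h => hy1 (congrArg Subtype.val h)⟩⟩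
  have _ := P.isPGroup'.center_nontrivial
  obtain ⟨⟨z, hzc⟩, hz1⟩ := exists_ne (1 : Subgroup.center P)
  have hz1' : (z : G) ≠ 1 := by
    intro h
    apply hz1
    apply Subtype.ext
    apply Subtype.ext
    exact h
  have hzcomm : ∀ u : G, u ∈ P → u * (z : G) = (z : G) * u := by
    intro u hu
    have := Subgroup.mem_center_iff.mp hzc ⟨u, hu⟩
    exact congrArg Subtype.val this
  obtain ⟨hzα, hzβ⟩ := comm y z hy1 hyα hyβ ((hzcomm y hyP).symm ▸ rfl)
  -- all of P fixes α and β
  have hPfix : ∀ u : G, u ∈ P → u • α = α ∧ u • β = β := by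
    intro u hu
    exact comm z u hz1' hzα hzβ (hzcomm u hu)
  -- transitivity
  obtain ⟨t, ht⟩ := MulAction.exists_smul_eq G α β
  have h1 : (P : Subgroup G) ≤ MulAction.stabilizer G β := fun u hu => (hPfix u hu).2
  have h2 : ((t • P : Sylow p G) : Subgroup G) ≤ MulAction.stabilizer G β := by
    intro u hu
    rw [Sylow.coe_subgroup_smul, Subgroup.mem_pointwise_smul_iff_inv_smul_mem] at hu
    rw [← map_inv, MulAut.smul_def, MulAut.conj_apply, inv_inv] at hu
    have := (hPfix _ hu).1
    rw [MulAction.mem_stabilizer_iff, ← ht]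
    rw [mul_smul, mul_smul] at this
    have h3 := congrArg (fun w => t • w) this
    simpa using h3
  obtain ⟨h, hh⟩ :=
    MulAction.exists_smul_eq (MulAction.stabilizer G β) ((t • P).subtype h2) (P.subtype h1)
  simp_rw [Sylow.smul_subtype, Subgroup.smul_def, smul_smul] at hh
  have hn : (h : G) * t ∈ Subgroup.normalizer (P : Set G) :=
    Sylow.smul_eq_iff_mem_normalizer.mp (Sylow.subtype_injective hh)
  set n := (h : G) * t with hndef
  have hnα : n • α = β := by
    rw [hndef, mul_smul, ht]; exact h.2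
  -- n maps Fix(P) to Fix(P)
  have hnβ : (z : G) • (n • β) = n • β := by
    have hmem : n⁻¹ * (z : G) * n ∈ P := by
      have := (Subgroup.mem_normalizer_iff''.mp hn) (z : G)
      exact this.mp z.2
    have h3 := (hPfix _ hmem).2
    have h4 := congrArg (fun w => n • w) h3
    simp only [smul_smul] at h4
    rw [smul_smul]
    convert h4 using 2
    group
  have hnβ' := key (z : G) hz1' hzα hzβ _ hnβ
  have hfinal := fix_of_pair n (hoddg n) α β (Or.inr hnα) hnβ'
  exact hαβ (hfinal.symm.trans hnα)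

theorem result {G : Type*} [Group G] [Finite G] {Ω : Type*} [Fintype Ω] [MulAction G Ω] [FaithfulSMul G Ω]
    (htr : MulAction.IsPretransitive G Ω) (k : ℕ) (hk : 1 ≤ k)
    (hfix : ∀ g : G, g ≠ 1 → Nat.card (MulAction.fixedBy Ω g) ≤ k) (hex : ∃ g : G, g ≠ 1 ∧ Nat.card (MulAction.fixedBy Ω g) = k) :
    Nat.card (Subgroup.center G) ∣ k ∧ (k = 2 → 2 ∣ Nat.card G) ∧
      ∀ (p : ℕ), p.Prime → k < p → p ∣ Nat.card G → ∀ α : Ω,
        ¬ p ∣ Nat.card (MulAction.stabilizer G α) ∨ ¬ p ∣ (MulAction.stabilizer G α).index := by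
  refine ⟨?_, ?_, ?_⟩
  · obtain ⟨g, _, hg⟩ := hex
    rw [← hg]
    exact center_card_dvd htr g
  · intro hk2
    subst hk2
    exact part_b htr hfix hex
  · intro p hp hkp _ α
    by_cases h : p ∣ Nat.card (MulAction.stabilizer G α)
    · right
      exact part_c htr k hfix p hp hkp α h
    · left; exact h

end Cfsg.Agent.S3389
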