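import Cfsg.Statements.S3390
import Cfsg.Agent.Lib.Helper58.Fix2D

set_option autoImplicit false
open Cfsg

namespace Cfsg.Agent.S3390

/-- Let G be a finite group acting faithfully and transitively on a finite set Ω with fixity 2 (every non-identity element fixes at most two points, and some fixes exactly two). Let α ∈ Ω and S a Sylow 2-subgroup of G. Then one of the following holds: the stabilizer S_α of α in S is trivial; S is dihedral or semidihedral and either |S_α| = 2 or |S : S_α| = 2; |S| ≥ 4, S has exactly one orbit of size 2 on Ω, every other S-orbit is regular, and G has a normal subgroup of index 2 or of index |S| which is a Frobenius group; or S ≤ G_α. -/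
theorem result {G : Type*} [Group G] [Finite G] {Ω : Type*} [Fintype Ω] [MulAction G Ω] [FaithfulSMul G Ω] (htr : MulAction.IsPretransitive G Ω)
    (hfix : ∀ g : G, g ≠ 1 → Nat.card (MulAction.fixedBy Ω g) ≤ 2) (hex : ∃ g : G, g ≠ 1 ∧ Nat.card (MulAction.fixedBy Ω g) = 2) (α : Ω) (S : Sylow 2 G) :
    (S : Subgroup G) ⊓ MulAction.stabilizer G α = ⊥ ∨
    (((∃ n : ℕ, Nonempty (↥(S : Subgroup G) ≃* DihedralGroup n)) ∨ Cfsg.IsQuasiDihedral ↥(S : Subgroup G)) ∧
       (Nat.card ↥((S : Subgroup G) ⊓ MulAction.stabilizer G α) = 2 ∨ ((S : Subgroup G) ⊓ MulAction.stabilizer G α).relIndex (S : Subgroup G) = 2)) ∨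
    (4 ≤ Nat.card (S : Subgroup G) ∧
       (∃ ω : Ω, Nat.card (MulAction.orbit ↥(S : Subgroup G) ω) = 2 ∧
          ∀ ω' : Ω, ω' ∉ MulAction.orbit ↥(S : Subgroup G) ω → Nat.card (MulAction.orbit ↥(S : Subgroup G) ω') = Nat.card (S : Subgroup G)) ∧
       ∃ N : Subgroup G, N.Normal ∧ (N.index = 2 ∨ N.index = Nat.card (S : Subgroup G)) ∧ (∃ H : Subgroup ↥N, Cfsg.IsFrobeniusComplement H)) ∨
    (S : Subgroup G) ≤ MulAction.stabilizer G α := by
  classical
  have hF : Cfsg.Agent.Helper58.Fix2.Fix3 G Ω := Cfsg.Agent.Helper58.Fix2.fix3_of_card hfix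
  have hS : IsPGroup 2 ↥(S : Subgroup G) := S.2
  set T := (S : Subgroup G) ⊓ MulAction.stabilizer G α with hT
  by_cases hT1 : T = ⊥
  · exact Or.inl hT1
  by_cases hTS : (S : Subgroup G) ≤ MulAction.stabilizer G α
  · exact Or.inr (Or.inr (Or.inr hTS))
  have hTS' : T ≠ S := by
    intro h
    apply hTS
    rw [← h]
    exact inf_le_right
  obtain ⟨x, hxS, hxT, hxN⟩ :=
    Cfsg.Agent.Helper58.Fix2.exists_normalizing hS (inf_le_left : T ≤ S) hTS'
  by_cases hall : ∀ y ∈ (S : Subgroup G), ∀ u, u ∈ T ↔ y * u * y⁻¹ ∈ T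
  swap
  · -- T is not normal in S: then |T| = 2 and S is dihedral or quasi-dihedral
    rcases Cfsg.Agent.Helper58.Fix2.normal_or_card_two hF hS α hT1 hTS' with h | hcard2
    · exact absurd h hall
    · right; left
      exact ⟨Cfsg.Agent.Helper58.Fix2.dqd_of_card_two hF hS α hcard2 hTS' hall, Or.inl hcard2⟩
  have hidx : T.relIndex S = 2 :=
    Cfsg.Agent.Helper58.Fix2.relIndex_eq_two hF α hT1 hall x hxS hxT
  obtain ⟨hxα, hTfix, hcos⟩ := Cfsg.Agent.Helper58.Fix2.stab_step hF α hT1 x hxS hxT hxN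
  obtain ⟨t₀, ht₀T, ht₀1⟩ := (Subgroup.bot_or_exists_ne_one _).resolve_left hT1
  by_cases hR : ∀ y ∈ (S : Subgroup G), ∀ ω : Ω, y • ω = ω → y ∈ T
  · -- third alternative
    right; right; left
    refine ⟨?_, ⟨α, ?_, ?_⟩, ?_⟩
    · have h1 : Nat.card T * T.relIndex S = Nat.card (S : Subgroup G) :=
        Cfsg.Agent.Helper58.Fix2.card_mul_relIndex' (inf_le_left : T ≤ S)
      rw [hidx] at h1
      have h2 : 1 < Nat.card T := (Subgroup.one_lt_card_iff_ne_bot T).mpr hT1
      omega
    · have hstab : MulAction.stabilizer ↥(S : Subgroup G) α = T.subgroupOf (S : Subgroup G) := by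
        ext s
        rw [MulAction.mem_stabilizer_iff, Subgroup.mem_subgroupOf, hT, Subgroup.mem_inf,
          MulAction.mem_stabilizer_iff]
        constructor
        · intro h; exact ⟨s.2, h⟩
        · intro h; exact h.2
      rw [Nat.card_coe_set_eq, ← MulAction.index_stabilizer, hstab]
      exact hidx
    · intro ω' hω'
      have hstab : MulAction.stabilizer ↥(S : Subgroup G) ω' = ⊥ := by
        rw [eq_bot_iff]
        intro s hs
        rw [Subgroup.mem_bot]
        have hsω : (s : G) • ω' = ω' := MulAction.mem_stabilizer_iff.mp hs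
        have hsT : (s : G) ∈ T := hR _ s.2 _ hsω
        by_contra hs1
        have hs1' : (s : G) ≠ 1 := fun h => hs1 (Subtype.ext h)
        have h1 : (s : G) • α = α := MulAction.mem_stabilizer_iff.mp hsT.2
        have h2 := hTfix _ hsT
        rcases hF _ hs1' α (x • α) ω' h1 h2 hsω with h | h | h
        · exact hxα h.symm
        · apply hω'
          rw [← h]
          exact MulAction.mem_orbit_self α
        · apply hω'
          rw [← h]
          exact ⟨⟨x, hxS⟩, rfl⟩
      rw [Nat.card_coe_set_eq, ← MulAction.index_stabilizer, hstab, Subgroup.index_bot]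
    · obtain ⟨N, hNn, hN2, H, hH⟩ :=
        Cfsg.Agent.Helper58.Fix2.exists_frobenius_index_two htr hF S α hT1 hidx hall x hxS hxT hR
      exact ⟨N, hNn, Or.inl hN2, H, hH⟩
  · -- some element of S outside T fixes a point: S is dihedral, quasi-dihedral or a four-group
    push Not at hR
    obtain ⟨u, huS, ω, huω, huT⟩ := hR
    right; left
    refine ⟨?_, Or.inr hidx⟩
    set U := (S : Subgroup G) ⊓ MulAction.stabilizer G ω with hU
    have huU : u ∈ U := ⟨huS, MulAction.mem_stabilizer_iff.mpr huω⟩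
    have hu1 : u ≠ 1 := fun h => huT (h ▸ T.one_mem)
    have hUne : U ≠ ⊥ := by
      intro h
      rw [h, Subgroup.mem_bot] at huU
      exact hu1 huU
    have hωα : ω ≠ α := by
      intro h
      apply huT
      exact ⟨huS, MulAction.mem_stabilizer_iff.mpr (h ▸ huω)⟩
    have hωβ : ω ≠ x • α := by
      intro h
      apply huT
      have h1 : x⁻¹ * u * x ∈ T := by
        refine ⟨Subgroup.mul_mem _ (Subgroup.mul_mem _ (Subgroup.inv_mem _ hxS) huS) hxS,
          MulAction.mem_stabilizer_iff.mpr ?_⟩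
        rw [mul_smul, mul_smul, ← h, huω, h, ← mul_smul, inv_mul_cancel, one_smul]
      have h2 := (hxN _).mp h1
      have h3 : x * (x⁻¹ * u * x) * x⁻¹ = u := by group
      rw [h3] at h2
      exact h2
    have hTU : T ⊓ U = ⊥ := by
      rw [eq_bot_iff]
      intro v hv
      rw [Subgroup.mem_bot]
      by_contra hv1
      have h1 : v • α = α := MulAction.mem_stabilizer_iff.mp hv.1.2
      have h2 := hTfix _ hv.1
      have h3 : v • ω = ω := MulAction.mem_stabilizer_iff.mp hv.2.2
      rcases hF _ hv1 α (x • α) ω h1 h2 h3 with h | h | h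
      · exact hxα h.symm
      · exact hωα h.symm
      · exact hωβ h.symm
    have hU2 : Nat.card U = 2 := by
      apply Cfsg.Agent.Helper58.Fix2.card_eq_two_of_unique hUne
      intro a ha b hb ha1 hb1
      have haT : a ∉ T := by
        intro h
        have : a ∈ T ⊓ U := ⟨h, ha⟩
        rw [hTU, Subgroup.mem_bot] at this
        exact ha1 this
      have hbT : b ∉ T := by
        intro h
        have : b ∈ T ⊓ U := ⟨h, hb⟩
        rw [hTU, Subgroup.mem_bot] at this
        exact hb1 this
      have h1 : x⁻¹ * a ∈ T := (hcos a ha.1 (hall a ha.1)).resolve_left haT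
      have h2 : x⁻¹ * b ∈ T := (hcos b hb.1 (hall b hb.1)).resolve_left hbT
      have h3 : a⁻¹ * b ∈ T := by
        have : a⁻¹ * b = (x⁻¹ * a)⁻¹ * (x⁻¹ * b) := by group
        rw [this]
        exact T.mul_mem (T.inv_mem h1) h2
      have h4 : a⁻¹ * b ∈ T ⊓ U := ⟨h3, U.mul_mem (U.inv_mem ha) hb⟩
      rw [hTU, Subgroup.mem_bot] at h4
      calc a = a * (a⁻¹ * b) := by rw [h4, mul_one]
        _ = b := by group
    have hUS : U ≠ S := by
      intro h
      have : t₀ ∈ T ⊓ U := ⟨ht₀T, by rw [h]; exact ht₀T.1⟩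
      rw [hTU, Subgroup.mem_bot] at this
      exact ht₀1 this
    by_cases hallU : ∀ y ∈ (S : Subgroup G), ∀ v, v ∈ U ↔ y * v * y⁻¹ ∈ U
    · have ht₀U : t₀ ∉ U := by
        intro h
        have : t₀ ∈ T ⊓ U := ⟨ht₀T, h⟩
        rw [hTU, Subgroup.mem_bot] at this
        exact ht₀1 this
      have hidxU : U.relIndex S = 2 :=
        Cfsg.Agent.Helper58.Fix2.relIndex_eq_two hF ω hUne hallU t₀ ht₀T.1 ht₀U
      left
      exact ⟨2, Cfsg.Agent.Helper58.Fix2.klein_case hidx hidxU inf_le_left hTU hU2⟩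
    · exact Cfsg.Agent.Helper58.Fix2.dqd_of_card_two hF hS ω hU2 hUS hallU

end Cfsg.Agent.S3390
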