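-- Statement S3401 (Cfsg.chz2_two_transitive_degree_two_mod_four_minimal_normal).
import Cfsg.Statements.S3401
import Cfsg.Agent.Lib.Helper66.TwoTransD

set_option autoImplicit false
open Cfsg

namespace Cfsg.Agent.S3401

/-- Let G be a doubly transitive permutation group on a finite set Ω with |Ω| ≡ 2 mod 4 and |Ω| > 2. Then G has a unique minimal normal subgroup M (a nontrivial normal subgroup contained in every nontrivial normal subgroup); M is simple and doubly transitive on Ω, and its centralizer in G is trivial (so G embeds in Aut(M)). -/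
theorem result {G : Type*} [Group G] [Finite G] {Ω : Type*} [Fintype Ω] [MulAction G Ω] [FaithfulSMul G Ω]
    (h2 : MulAction.IsMultiplyPretransitive G Ω 2) (hn : Fintype.card Ω % 4 = 2) (hn2 : 2 < Fintype.card Ω) :
    ∃ M : Subgroup G, M.Normal ∧ M ≠ ⊥ ∧ (∀ N : Subgroup G, N.Normal → N ≠ ⊥ → M ≤ N) ∧
      IsSimpleGroup ↥M ∧ MulAction.IsMultiplyPretransitive ↥M Ω 2 ∧ Subgroup.centralizer (M : Set G) = ⊥ := by
  have hfaith : ∀ g : G, (∀ x : Ω, g • x = x) → g = 1 := fun g hg =>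
    FaithfulSMul.eq_of_smul_eq_smul (α := Ω) (fun x => by rw [hg x, one_smul])
  have hG2 : ∀ a b c d : Ω, a ≠ b → c ≠ d → ∃ g : G, g • a = c ∧ g • b = d :=
    fun a b c d hab hcd => MulAction.is_two_pretransitive_iff.mp h2 hab hcd
  obtain ⟨M, hMn, hM1, hMmin, hMs, hM2, hMc⟩ :=
    Cfsg.Agent.Helper66.TwoTrans.exists_simple_minimal_normal hfaith hG2 hn hn2
  refine ⟨M, hMn, hM1, hMmin, hMs, ?_, hMc⟩
  rw [MulAction.is_two_pretransitive_iff]
  intro a b c d hab hcd
  obtain ⟨m, hm, h⟩ := hM2 a b c d hab hcd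
  exact ⟨⟨m, hm⟩, h⟩

end Cfsg.Agent.S3401
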