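import Cfsg.Statements.S3419
import Cfsg.Agent.Lib.Helper57.TwoPrimes
import Cfsg.Agent.Lib.Helper57.SolvPQ
import Cfsg.Agent.Lib.Helper57.AltFacts

set_option autoImplicit false
open Cfsg

namespace Cfsg.Agent.S3419

open Cfsg.Agent.Helper57

theorem core {G : Type*} [Group G] [Finite G] (n : ℕ) (hn : 5 ≤ n)
    (hcard : Nat.card G = Nat.card ↥(alternatingGroup (Fin n)))
    (hspec : Set.range (orderOf : G → ℕ) = Set.range (orderOf : ↥(alternatingGroup (Fin n)) → ℕ))
    (hs : Group.IsSolvable G) (p q : ℕ) (hp : p.Prime) (hq : q.Prime) (hqp : q < p)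
    (hnpq : n < p + q) (hp2 : p ≠ 2) (hq2 : q ≠ 2) (hnp2 : n < p ^ 2) (hnq2 : n < q ^ 2)
    (hqp1 : ¬ q ∣ p - 1) (hnp : n / p = 1) (hbad : ¬ q ^ (n / q) ≡ 1 [MOD p]) : False := by
  have hvp : (Nat.card G).factorization p = 1 := by
    rw [hcard, card_alt_factorization n p hp hp2 (by omega) hnp2, hnp]
  have hvq : (Nat.card G).factorization q = n / q := by
    rw [hcard, card_alt_factorization n q hq hq2 (by omega) hnq2]
  have hno : ∀ g : G, orderOf g ≠ p * q := by
    intro g hg
    have : orderOf g ∈ Set.range (orderOf : ↥(alternatingGroup (Fin n)) → ℕ) := by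
      rw [← hspec]; exact ⟨g, rfl⟩
    obtain ⟨σ, hσ⟩ := this
    exact alt_orderOf_ne_mul n p q hp hq (Nat.ne_of_gt hqp) hnpq σ (hσ.trans hg)
  have := solv_pq hs p q hp hq (Nat.ne_of_gt hqp) hvp hqp1 hno
  rw [hvq] at this
  exact hbad this

/-- Let n ≥ 5 and let G be a finite group with the same order and the same set of element orders as the alternating group of degree n. Then G is not solvable. -/
theorem result {G : Type*} [Group G] [Finite G] (n : ℕ) (hn : 5 ≤ n)
    (hcard : Nat.card G = Nat.card ↥(alternatingGroup (Fin n)))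
    (hspec : Set.range (orderOf : G → ℕ) = Set.range (orderOf : ↥(alternatingGroup (Fin n)) → ℕ)) :
    ¬ Group.IsSolvable G := by
  intro hs
  by_cases h6 : n = 6
  · subst h6
    exact core 6 hn hcard hspec hs 5 3 (by norm_num) (by norm_num) (by norm_num) (by norm_num)
      (by norm_num) (by norm_num) (by norm_num) (by norm_num) (by norm_num) (by norm_num)
      (by decide)
  by_cases h10 : n = 10
  · subst h10
    exact core 10 hn hcard hspec hs 7 5 (by norm_num) (by norm_num) (by norm_num) (by norm_num)
      (by norm_num) (by norm_num) (by norm_num) (by norm_num) (by norm_num) (by norm_num)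
      (by decide)
  obtain ⟨p, q, hp, hq, hqp, hpn, hnq⟩ := two_primes_half n hn h6 h10
  have hq3 : 3 ≤ q := by omega
  have hnp : n / p = 1 := by
    apply Nat.div_eq_of_lt_le <;> omega
  have hnq' : n / q = 1 := by
    apply Nat.div_eq_of_lt_le <;> omega
  refine core n hn hcard hspec hs p q hp hq hqp (by omega) (by omega) (by omega) (by nlinarith)
    (by nlinarith) ?_ hnp ?_
  · rintro ⟨c, hc⟩
    have hp2 := hp.two_le
    have hc1 : c = 1 := by
      rcases c with _ | _ | c
      · omega
      · rfl
      · exfalso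
        have : q * (c + 1 + 1) ≥ 2 * q := by nlinarith
        omega
    subst hc1
    rw [mul_one] at hc
    -- p = q + 1, both primes, q ≥ 3
    have hqodd : ¬ 2 ∣ q := by
      intro h2
      have := (Nat.prime_dvd_prime_iff_eq Nat.prime_two hq).mp h2
      omega
    have hpeven : 2 ∣ p := by omega
    have := (Nat.prime_dvd_prime_iff_eq Nat.prime_two hp).mp hpeven
    omega
  · rw [hnq', pow_one]
    intro hmod
    have h1 : q % p = q := Nat.mod_eq_of_lt hqp
    have h2 : 1 % p = 1 := Nat.mod_eq_of_lt (by omega)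
    unfold Nat.ModEq at hmod
    omega

end Cfsg.Agent.S3419
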