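import Cfsg.Statements.S3420
import Cfsg.Agent.Lib.Helper57.TwoPrimes
import Cfsg.Agent.Lib.Helper57.AltFacts
import Cfsg.Agent.Lib.Helper57.FrattiniPQ
import Cfsg.Agent.Lib.Helper57.ChiefSimple

set_option autoImplicit false
open Cfsg

namespace Cfsg.Agent.S3420

open Cfsg.Agent.Helper57

theorem prime_ndvd_pred (n a b : ℕ) (ha : a.Prime) (hb : b.Prime) (h1 : n < 2 * a) (h2 : b ≤ n)
    (h3 : 3 ≤ a) (h4 : 3 ≤ b) : ¬ a ∣ b - 1 := by
  rintro ⟨c, hc⟩
  have hc1 : c = 1 := by
    rcases c with _ | _ | c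
    · omega
    · rfl
    · exfalso
      have : a * (c + 1 + 1) ≥ 2 * a := by nlinarith
      omega
  subst hc1
  rw [mul_one] at hc
  have haodd : ¬ 2 ∣ a := by
    intro h
    have := (Nat.prime_dvd_prime_iff_eq Nat.prime_two ha).mp h
    omega
  have hbeven : 2 ∣ b := by omega
  have := (Nat.prime_dvd_prime_iff_eq Nat.prime_two hb).mp hbeven
  omega

/-- Let n ≥ 11 and let G be a finite group with the same order and the same set of element orders as the alternating group of degree n. Then G has normal subgroups N < H such that H/N is a non-abelian simple group whose order is divisible by every prime p with n/2 < p ≤ n. -/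
theorem result {G : Type*} [Group G] [Finite G] (n : ℕ) (hn : 11 ≤ n)
    (hcard : Nat.card G = Nat.card ↥(alternatingGroup (Fin n)))
    (hspec : Set.range (orderOf : G → ℕ) = Set.range (orderOf : ↥(alternatingGroup (Fin n)) → ℕ)) :
    ∃ (N H : Subgroup G) (_ : N.Normal), H.Normal ∧ N < H ∧
      IsSimpleGroup (↥H ⧸ N.subgroupOf H) ∧ ¬ IsMulCommutative (↥H ⧸ N.subgroupOf H) ∧
      ∀ p : ℕ, p.Prime → n < 2 * p → p ≤ n → p ∣ Nat.card (↥H ⧸ N.subgroupOf H) := by
  obtain ⟨p, q, hp, hq, hqp, hpn, hnq⟩ := two_primes_half n (by omega) (by omega) (by omega)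
  have hfac : ∀ a : ℕ, a.Prime → n < 2 * a → a ≤ n → (Nat.card G).factorization a = 1 := by
    intro a ha h1 h2
    have ha6 : 6 ≤ a := by omega
    have h3 : n / a = 1 := by apply Nat.div_eq_of_lt_le <;> omega
    rw [hcard, card_alt_factorization n a ha (by omega) (by omega) (by nlinarith), h3]
  have hno : ∀ a b : ℕ, a.Prime → b.Prime → a ≠ b → n < 2 * a → n < 2 * b →
      ∀ g : G, orderOf g ≠ a * b := by
    intro a b ha hb hab h1 h2 g hg
    have : orderOf g ∈ Set.range (orderOf : ↥(alternatingGroup (Fin n)) → ℕ) := by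
      rw [← hspec]; exact ⟨g, rfl⟩
    obtain ⟨σ, hσ⟩ := this
    exact alt_orderOf_ne_mul n a b ha hb hab (by omega) σ (hσ.trans hg)
  have hGpos : Nat.card G ≠ 0 := Nat.card_pos.ne'
  have hpG : p ∣ Nat.card G := Nat.dvd_of_factorization_pos (by rw [hfac p hp (by omega) hpn]; omega)
  -- choose H and N
  let TH := {K : Subgroup G // K.Normal ∧ p ∣ Nat.card K}
  have : Nonempty TH := ⟨⟨⊤, inferInstance, by rw [Subgroup.card_top]; exact hpG⟩⟩
  obtain ⟨⟨H, hHn, hpH⟩, hHmin⟩ := Finite.exists_min (fun K : TH => Nat.card K.1)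
  have hHbot : H ≠ ⊥ := by
    rintro rfl
    rw [Subgroup.card_bot] at hpH
    exact hp.one_lt.ne' (Nat.dvd_one.mp hpH)
  let TN := {K : Subgroup G // K.Normal ∧ K < H}
  have : Nonempty TN := ⟨⟨⊥, inferInstance, bot_lt_iff_ne_bot.mpr hHbot⟩⟩
  obtain ⟨⟨N, hNn, hNH⟩, hNmax⟩ := Finite.exists_max (fun K : TN => Nat.card K.1)
  have hpN : ¬ p ∣ Nat.card N := by
    intro h
    have h1 : Nat.card H ≤ Nat.card N := hHmin ⟨N, hNn, h⟩
    exact hNH.ne (Subgroup.eq_of_le_of_card_ge hNH.le h1)
  have hchief : ∀ K : Subgroup G, K.Normal → N ≤ K → K ≤ H → K = N ∨ K = H := by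
    intro K hKn hNK hKH
    by_cases hK : K = H
    · right; exact hK
    · left
      have h1 : Nat.card K ≤ Nat.card N := hNmax ⟨K, hKn, lt_of_le_of_ne hKH hK⟩
      exact (Subgroup.eq_of_le_of_card_ge hNK h1).symm
  -- cardinalities
  have hcN : Nat.card (N.subgroupOf H) = Nat.card N :=
    Nat.card_congr (Subgroup.subgroupOfEquivOfLe hNH.le).toEquiv
  have hcH : Nat.card H = Nat.card (↥H ⧸ N.subgroupOf H) * Nat.card N := by
    rw [← hcN]; exact Subgroup.card_eq_card_quotient_mul_card_subgroup _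
  have hcG : Nat.card G = Nat.card H * H.index := (Subgroup.card_mul_index H).symm
  have hQG : Nat.card (↥H ⧸ N.subgroupOf H) ∣ Nat.card G := by
    rw [hcG, hcH]; exact (dvd_mul_right _ _).mul_right _
  have hNG : Nat.card N ∣ Nat.card G := Subgroup.card_subgroup_dvd_card N
  have hHG : Nat.card H ∣ Nat.card G := Subgroup.card_subgroup_dvd_card H
  have hQpos : Nat.card (↥H ⧸ N.subgroupOf H) ≠ 0 := Nat.card_pos.ne'
  have hle1 : ∀ (m a : ℕ), m ∣ Nat.card G → a.Prime → n < 2 * a → a ≤ n → a ∣ m →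
      m.factorization a = 1 := by
    intro m a hm ha h1 h2 ham
    have hm0 : m ≠ 0 := fun h => hGpos (by rw [h] at hm; exact Nat.eq_zero_of_zero_dvd hm)
    have h3 : m.factorization a ≤ (Nat.card G).factorization a :=
      (Nat.factorization_le_iff_dvd hm0 hGpos).mpr hm a
    rw [hfac a ha h1 h2] at h3
    have h4 : 0 < m.factorization a := ha.factorization_pos_of_dvd hm0 ham
    omega
  have hpQ : p ∣ Nat.card (↥H ⧸ N.subgroupOf H) := by
    rw [hcH] at hpH
    exact ((Nat.Prime.dvd_mul hp).mp hpH).resolve_right hpN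
  have hvpQ : (Nat.card (↥H ⧸ N.subgroupOf H)).factorization p = 1 :=
    hle1 _ p hQG hp (by omega) hpn hpQ
  have := hNn
  have := hHn
  have hsimple : IsSimpleGroup (↥H ⧸ N.subgroupOf H) :=
    simple_section N H hNH.le hchief p hp hvpQ
  have hall : ∀ a : ℕ, a.Prime → n < 2 * a → a ≤ n → a ∣ Nat.card (↥H ⧸ N.subgroupOf H) := by
    intro a ha h1 h2
    by_contra hnd
    have hap : a ≠ p := fun h => hnd (h ▸ hpQ)
    have haG : a ∣ Nat.card G := Nat.dvd_of_factorization_pos (by rw [hfac a ha h1 h2]; omega)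
    by_cases haN : a ∣ Nat.card N
    · obtain ⟨g, hg⟩ := frattini_pq N a p ha hp hap (hle1 _ a hNG ha h1 h2 haN) hpG hpN
        (prime_ndvd_pred n p a hp ha (by omega) h2 (by omega) (by omega))
      exact hno a p ha hp hap h1 (by omega) g hg
    · have haH : ¬ a ∣ Nat.card H := by
        rw [hcH]
        intro h
        rcases (Nat.Prime.dvd_mul ha).mp h with h | h
        · exact hnd h
        · exact haN h
      obtain ⟨g, hg⟩ := frattini_pq H p a hp ha (Ne.symm hap) (hle1 _ p hHG hp (by omega) hpn hpH)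
        haG haH (prime_ndvd_pred n a p ha hp h1 hpn (by omega) (by omega))
      exact hno p a hp ha (Ne.symm hap) (by omega) h1 g hg
  refine ⟨N, H, hNn, hHn, hNH, hsimple, ?_, hall⟩
  intro hcomm
  have := Fact.mk hp
  obtain ⟨x, hx⟩ := exists_prime_orderOf_dvd_card' p hpQ
  have hx1 : x ≠ 1 := by
    rintro rfl
    rw [orderOf_one] at hx
    exact hp.one_lt.ne hx
  have hzn : (Subgroup.zpowers x).Normal := by
    constructor
    intro y hy g
    have : g * y * g⁻¹ = y := by
      rw [hcomm.is_comm.comm g y, mul_inv_cancel_right]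
    rw [this]; exact hy
  rcases hsimple.eq_bot_or_eq_top_of_normal _ hzn with h | h
  · exact hx1 (Subgroup.zpowers_eq_bot.mp h)
  · have h1 : Nat.card (Subgroup.zpowers x) = p := by rw [Nat.card_zpowers, hx]
    rw [h, Subgroup.card_top] at h1
    have h2 := hall q hq (by omega) (by omega)
    rw [h1] at h2
    have := (Nat.prime_dvd_prime_iff_eq hq hp).mp h2
    omega

end Cfsg.Agent.S3420
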