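import Cfsg.Statements.S3430
import Cfsg.Agent.Lib.Helper57.FeitCore

set_option autoImplicit false
open Cfsg

namespace Cfsg.Agent.S3430

open Cfsg.Agent.Helper57 Cfsg.Agent.Helper41

theorem case_two (q : ℕ) (hq : 2 ≤ q) (h1 : ¬ ∃ s t : ℕ, t ≤ 1 ∧ q + 1 = 2 ^ s * 3 ^ t) :
    ∃ p, IsLargeZsig q 2 p := by
  have hsq : q ^ 2 - 1 = (q + 1) * (q - 1) := by
    have := Nat.sq_sub_sq q 1
    simpa using this
  -- a prime dividing both q + 1 and q - 1 is 2
  have hprim : ∀ p : ℕ, p ∣ q + 1 → p ≠ 2 → p.Prime →
      ∀ i : ℕ, 1 ≤ i → i < 2 → ¬ p ∣ q ^ i - 1 := by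
    intro p hp1 hp2 hpp i hi1 hi2 hdvd
    have hi : i = 1 := by omega
    subst hi
    rw [pow_one] at hdvd
    have h2' : p ∣ 2 := by
      have : q + 1 = (q - 1) + 2 := by omega
      rw [this] at hp1
      exact (Nat.dvd_add_right hdvd).mp hp1
    exact hp2 ((Nat.prime_dvd_prime_iff_eq hpp Nat.prime_two).mp h2')
  obtain ⟨s, m, hm2, hqm⟩ := Nat.exists_eq_pow_mul_and_not_dvd (by omega : q + 1 ≠ 0) 2 (by norm_num)
  have hm0 : m ≠ 0 := by
    rintro rfl
    simp at hm2
  obtain ⟨t, m', hm3, hmm⟩ := Nat.exists_eq_pow_mul_and_not_dvd hm0 3 (by norm_num)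
  have hm'0 : m' ≠ 0 := by
    rintro rfl
    simp at hm3
  have hm'2 : ¬ 2 ∣ m' := fun h => hm2 (hmm ▸ Dvd.dvd.mul_left h _)
  by_cases hm1 : m' = 1
  · -- q + 1 = 2^s * 3^t
    subst hm1
    rw [mul_one] at hmm
    have ht : 2 ≤ t := by
      by_contra h
      push Not at h
      exact h1 ⟨s, t, by omega, by rw [hqm, hmm]⟩
    have h9 : 3 ^ 2 ∣ q + 1 := by
      rw [hqm, hmm]
      exact Dvd.dvd.mul_left (pow_dvd_pow 3 ht) _
    have h3 : 3 ∣ q + 1 := (dvd_pow_self 3 (by norm_num : 2 ≠ 0)).trans h9
    refine ⟨3, Nat.prime_three, ?_, hprim 3 h3 (by norm_num) Nat.prime_three, Or.inr ?_⟩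
    · rw [hsq]; exact Dvd.dvd.mul_right h3 _
    · rw [hsq]; exact Dvd.dvd.mul_right h9 _
  · -- a prime p ≥ 5 divides m'
    have hpp : (m'.minFac).Prime := Nat.minFac_prime hm1
    have hpm : m'.minFac ∣ m' := Nat.minFac_dvd m'
    obtain ⟨p, hpdef⟩ : ∃ p, p = m'.minFac := ⟨_, rfl⟩
    rw [← hpdef] at hpp hpm
    have hp2 : p ≠ 2 := fun h => hm'2 (h ▸ hpm)
    have hp3 : p ≠ 3 := fun h => hm3 (h ▸ hpm)
    have hp4 : p ≠ 4 := fun h => by rw [h] at hpp; exact absurd hpp (by norm_num)
    have hp5 : 5 ≤ p := by have := hpp.two_le; omega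
    have hpq : p ∣ q + 1 := by
      rw [hqm, hmm]
      exact Dvd.dvd.mul_left (Dvd.dvd.mul_left hpm _) _
    refine ⟨p, hpp, ?_, hprim p hpq hp2 hpp, Or.inl (by omega)⟩
    rw [hsq]; exact Dvd.dvd.mul_right hpq _

/-- Let q, n ≥ 2 be integers. Unless (n = 2 and q + 1 = 2^s·3^t for some s ≥ 0 and t ≤ 1), or (q = 2 and n ∈ {4, 6, 10, 12, 18}), or (q = 3 and n ∈ {4, 6}), or (q, n) = (5, 6), there is a prime p dividing q^n − 1 but no q^i − 1 with 1 ≤ i < n (a primitive prime divisor), such that p > n + 1 or p² divides q^n − 1. -/
theorem result (q n : ℕ) (hq : 2 ≤ q) (hn : 2 ≤ n)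
    (h1 : ¬ (n = 2 ∧ ∃ s t : ℕ, t ≤ 1 ∧ q + 1 = 2 ^ s * 3 ^ t))
    (h2 : ¬ (q = 2 ∧ (n = 4 ∨ n = 6 ∨ n = 10 ∨ n = 12 ∨ n = 18)))
    (h3 : ¬ (q = 3 ∧ (n = 4 ∨ n = 6))) (h4 : ¬ (q = 5 ∧ n = 6)) :
    ∃ p : ℕ, p.Prime ∧ p ∣ q ^ n - 1 ∧ (∀ i : ℕ, 1 ≤ i → i < n → ¬ p ∣ q ^ i - 1) ∧ (n + 1 < p ∨ p ^ 2 ∣ q ^ n - 1) := by
  suffices h : ∃ p, IsLargeZsig q n p by
    obtain ⟨p, hp⟩ := h
    exact ⟨p, hp.1, hp.2.1, hp.2.2.1, hp.2.2.2⟩
  rcases Nat.eq_or_lt_of_le hn with hn2 | hn3
  · subst hn2
    exact case_two q hq (fun h => h1 ⟨rfl, h⟩)
  · have hn3' : 3 ≤ n := hn3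
    by_contra hno
    have hdvd := cycVal_dvd_of_no_large q n hq hn3' hno
    have hle : cycVal n q ≤ n * (n + 1) := Nat.le_of_dvd (by positivity) hdvd
    have hlow := cyc_lower q n hq hn3'
    have hb1 : 3 ^ n.totient ≤ 2 ^ n.totient * (n * (n + 1)) :=
      hlow.trans (Nat.mul_le_mul_left _ hle)
    have hn230 := n_le_of_bounds n n.totient hb1 (totient_quartic n (by omega))
    have hmem := small_list n (by omega) hn3' hb1
    have hqb : q = 2 ∨ (q - 1) ^ n.totient < n * (n + 1) := by
      by_cases h : q = 2
      · left; exact h
      · right; exact (cycVal_gt n q (by omega) (by omega)).trans_le hle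
    clear hdvd hle hlow hb1 hn230 hn hn3 hn3'
    simp only [List.mem_cons, List.mem_nil_iff, or_false] at hmem
    rcases hmem with rfl | rfl | rfl | rfl | rfl | rfl | rfl | rfl | rfl | rfl | rfl | rfl | rfl | rfl | rfl | rfl | rfl | rfl | rfl | rfl | rfl | rfl | rfl | rfl | rfl | rfl | rfl | rfl | rfl | rfl | rfl | rfl
    · -- n = 3
      have ht : Nat.totient 3 = 2 := by decide
      rw [ht] at hqb
      have hq' : q ≤ 4 := by
        rcases hqb with h | h
        · omega
        · by_contra hc
          push Not at hc
          have h5 : 4 ^ 2 ≤ (q - 1) ^ 2 := Nat.pow_le_pow_left (by omega) 2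
          norm_num at h5 h
          omega
      interval_cases q
      · exact hno ⟨_, lz_2_3⟩
      · exact hno ⟨_, lz_3_3⟩
      · exact hno ⟨_, lz_4_3⟩
    · -- n = 4
      have ht : Nat.totient 4 = 2 := by decide
      rw [ht] at hqb
      have hq' : q ≤ 5 := by
        rcases hqb with h | h
        · omega
        · by_contra hc
          push Not at hc
          have h5 : 5 ^ 2 ≤ (q - 1) ^ 2 := Nat.pow_le_pow_left (by omega) 2
          norm_num at h5 h
          omega
      interval_cases q
      · exact h2 ⟨rfl, by decide⟩
      · exact h3 ⟨rfl, by decide⟩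
      · exact hno ⟨_, lz_4_4⟩
      · exact hno ⟨_, lz_5_4⟩
    · -- n = 5
      have ht : Nat.totient 5 = 4 := by decide
      rw [ht] at hqb
      have hq' : q ≤ 3 := by
        rcases hqb with h | h
        · omega
        · by_contra hc
          push Not at hc
          have h5 : 3 ^ 4 ≤ (q - 1) ^ 4 := Nat.pow_le_pow_left (by omega) 4
          norm_num at h5 h
          omega
      interval_cases q
      · exact hno ⟨_, lz_2_5⟩
      · exact hno ⟨_, lz_3_5⟩
    · -- n = 6
      have ht : Nat.totient 6 = 2 := by decide
      rw [ht] at hqb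
      have hq' : q ≤ 7 := by
        rcases hqb with h | h
        · omega
        · by_contra hc
          push Not at hc
          have h5 : 7 ^ 2 ≤ (q - 1) ^ 2 := Nat.pow_le_pow_left (by omega) 2
          norm_num at h5 h
          omega
      interval_cases q
      · exact h2 ⟨rfl, by decide⟩
      · exact h3 ⟨rfl, by decide⟩
      · exact hno ⟨_, lz_4_6⟩
      · exact h4 ⟨rfl, rfl⟩
      · exact hno ⟨_, lz_6_6⟩
      · exact hno ⟨_, lz_7_6⟩
    · -- n = 7
      have ht : Nat.totient 7 = 6 := by decide
      rw [ht] at hqb
      have hq' : q ≤ 2 := by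
        rcases hqb with h | h
        · omega
        · by_contra hc
          push Not at hc
          have h5 : 2 ^ 6 ≤ (q - 1) ^ 6 := Nat.pow_le_pow_left (by omega) 6
          norm_num at h5 h
          omega
      interval_cases q
      · exact hno ⟨_, lz_2_7⟩
    · -- n = 8
      have ht : Nat.totient 8 = 4 := by decide
      rw [ht] at hqb
      have hq' : q ≤ 3 := by
        rcases hqb with h | h
        · omega
        · by_contra hc
          push Not at hc
          have h5 : 3 ^ 4 ≤ (q - 1) ^ 4 := Nat.pow_le_pow_left (by omega) 4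
          norm_num at h5 h
          omega
      interval_cases q
      · exact hno ⟨_, lz_2_8⟩
      · exact hno ⟨_, lz_3_8⟩
    · -- n = 9
      have ht : Nat.totient 9 = 6 := by decide
      rw [ht] at hqb
      have hq' : q ≤ 3 := by
        rcases hqb with h | h
        · omega
        · by_contra hc
          push Not at hc
          have h5 : 3 ^ 6 ≤ (q - 1) ^ 6 := Nat.pow_le_pow_left (by omega) 6
          norm_num at h5 h
          omega
      interval_cases q
      · exact hno ⟨_, lz_2_9⟩
      · exact hno ⟨_, lz_3_9⟩
    · -- n = 10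
      have ht : Nat.totient 10 = 4 := by decide
      rw [ht] at hqb
      have hq' : q ≤ 4 := by
        rcases hqb with h | h
        · omega
        · by_contra hc
          push Not at hc
          have h5 : 4 ^ 4 ≤ (q - 1) ^ 4 := Nat.pow_le_pow_left (by omega) 4
          norm_num at h5 h
          omega
      interval_cases q
      · exact h2 ⟨rfl, by decide⟩
      · exact hno ⟨_, lz_3_10⟩
      · exact hno ⟨_, lz_4_10⟩
    · -- n = 11
      have ht : Nat.totient 11 = 10 := by decide
      rw [ht] at hqb
      have hq' : q ≤ 2 := by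
        rcases hqb with h | h
        · omega
        · by_contra hc
          push Not at hc
          have h5 : 2 ^ 10 ≤ (q - 1) ^ 10 := Nat.pow_le_pow_left (by omega) 10
          norm_num at h5 h
          omega
      interval_cases q
      · exact hno ⟨_, lz_2_11⟩
    · -- n = 12
      have ht : Nat.totient 12 = 4 := by decide
      rw [ht] at hqb
      have hq' : q ≤ 4 := by
        rcases hqb with h | h
        · omega
        · by_contra hc
          push Not at hc
          have h5 : 4 ^ 4 ≤ (q - 1) ^ 4 := Nat.pow_le_pow_left (by omega) 4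
          norm_num at h5 h
          omega
      interval_cases q
      · exact h2 ⟨rfl, by decide⟩
      · exact hno ⟨_, lz_3_12⟩
      · exact hno ⟨_, lz_4_12⟩
    · -- n = 13
      have ht : Nat.totient 13 = 12 := by decide
      rw [ht] at hqb
      have hq' : q ≤ 2 := by
        rcases hqb with h | h
        · omega
        · by_contra hc
          push Not at hc
          have h5 : 2 ^ 12 ≤ (q - 1) ^ 12 := Nat.pow_le_pow_left (by omega) 12
          norm_num at h5 h
          omega
      interval_cases q
      · exact hno ⟨_, lz_2_13⟩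
    · -- n = 14
      have ht : Nat.totient 14 = 6 := by decide
      rw [ht] at hqb
      have hq' : q ≤ 3 := by
        rcases hqb with h | h
        · omega
        · by_contra hc
          push Not at hc
          have h5 : 3 ^ 6 ≤ (q - 1) ^ 6 := Nat.pow_le_pow_left (by omega) 6
          norm_num at h5 h
          omega
      interval_cases q
      · exact hno ⟨_, lz_2_14⟩
      · exact hno ⟨_, lz_3_14⟩
    · -- n = 15
      have ht : Nat.totient 15 = 8 := by decide
      rw [ht] at hqb
      have hq' : q ≤ 2 := by
        rcases hqb with h | h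
        · omega
        · by_contra hc
          push Not at hc
          have h5 : 2 ^ 8 ≤ (q - 1) ^ 8 := Nat.pow_le_pow_left (by omega) 8
          norm_num at h5 h
          omega
      interval_cases q
      · exact hno ⟨_, lz_2_15⟩
    · -- n = 16
      have ht : Nat.totient 16 = 8 := by decide
      rw [ht] at hqb
      have hq' : q ≤ 3 := by
        rcases hqb with h | h
        · omega
        · by_contra hc
          push Not at hc
          have h5 : 3 ^ 8 ≤ (q - 1) ^ 8 := Nat.pow_le_pow_left (by omega) 8
          norm_num at h5 h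
          omega
      interval_cases q
      · exact hno ⟨_, lz_2_16⟩
      · exact hno ⟨_, lz_3_16⟩
    · -- n = 18
      have ht : Nat.totient 18 = 6 := by decide
      rw [ht] at hqb
      have hq' : q ≤ 3 := by
        rcases hqb with h | h
        · omega
        · by_contra hc
          push Not at hc
          have h5 : 3 ^ 6 ≤ (q - 1) ^ 6 := Nat.pow_le_pow_left (by omega) 6
          norm_num at h5 h
          omega
      interval_cases q
      · exact h2 ⟨rfl, by decide⟩
      · exact hno ⟨_, lz_3_18⟩
    · -- n = 20
      have ht : Nat.totient 20 = 8 := by decide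
      rw [ht] at hqb
      have hq' : q ≤ 3 := by
        rcases hqb with h | h
        · omega
        · by_contra hc
          push Not at hc
          have h5 : 3 ^ 8 ≤ (q - 1) ^ 8 := Nat.pow_le_pow_left (by omega) 8
          norm_num at h5 h
          omega
      interval_cases q
      · exact hno ⟨_, lz_2_20⟩
      · exact hno ⟨_, lz_3_20⟩
    · -- n = 21
      have ht : Nat.totient 21 = 12 := by decide
      rw [ht] at hqb
      have hq' : q ≤ 2 := by
        rcases hqb with h | h
        · omega
        · by_contra hc
          push Not at hc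
          have h5 : 2 ^ 12 ≤ (q - 1) ^ 12 := Nat.pow_le_pow_left (by omega) 12
          norm_num at h5 h
          omega
      interval_cases q
      · exact hno ⟨_, lz_2_21⟩
    · -- n = 22
      have ht : Nat.totient 22 = 10 := by decide
      rw [ht] at hqb
      have hq' : q ≤ 2 := by
        rcases hqb with h | h
        · omega
        · by_contra hc
          push Not at hc
          have h5 : 2 ^ 10 ≤ (q - 1) ^ 10 := Nat.pow_le_pow_left (by omega) 10
          norm_num at h5 h
          omega
      interval_cases q
      · exact hno ⟨_, lz_2_22⟩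
    · -- n = 24
      have ht : Nat.totient 24 = 8 := by decide
      rw [ht] at hqb
      have hq' : q ≤ 3 := by
        rcases hqb with h | h
        · omega
        · by_contra hc
          push Not at hc
          have h5 : 3 ^ 8 ≤ (q - 1) ^ 8 := Nat.pow_le_pow_left (by omega) 8
          norm_num at h5 h
          omega
      interval_cases q
      · exact hno ⟨_, lz_2_24⟩
      · exact hno ⟨_, lz_3_24⟩
    · -- n = 26
      have ht : Nat.totient 26 = 12 := by decide
      rw [ht] at hqb
      have hq' : q ≤ 2 := by
        rcases hqb with h | h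
        · omega
        · by_contra hc
          push Not at hc
          have h5 : 2 ^ 12 ≤ (q - 1) ^ 12 := Nat.pow_le_pow_left (by omega) 12
          norm_num at h5 h
          omega
      interval_cases q
      · exact hno ⟨_, lz_2_26⟩
    · -- n = 28
      have ht : Nat.totient 28 = 12 := by decide
      rw [ht] at hqb
      have hq' : q ≤ 2 := by
        rcases hqb with h | h
        · omega
        · by_contra hc
          push Not at hc
          have h5 : 2 ^ 12 ≤ (q - 1) ^ 12 := Nat.pow_le_pow_left (by omega) 12
          norm_num at h5 h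
          omega
      interval_cases q
      · exact hno ⟨_, lz_2_28⟩
    · -- n = 30
      have ht : Nat.totient 30 = 8 := by decide
      rw [ht] at hqb
      have hq' : q ≤ 3 := by
        rcases hqb with h | h
        · omega
        · by_contra hc
          push Not at hc
          have h5 : 3 ^ 8 ≤ (q - 1) ^ 8 := Nat.pow_le_pow_left (by omega) 8
          norm_num at h5 h
          omega
      interval_cases q
      · exact hno ⟨_, lz_2_30⟩
      · exact hno ⟨_, lz_3_30⟩
    · -- n = 32
      have ht : Nat.totient 32 = 16 := by decide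
      rw [ht] at hqb
      have hq' : q ≤ 2 := by
        rcases hqb with h | h
        · omega
        · by_contra hc
          push Not at hc
          have h5 : 2 ^ 16 ≤ (q - 1) ^ 16 := Nat.pow_le_pow_left (by omega) 16
          norm_num at h5 h
          omega
      interval_cases q
      · exact hno ⟨_, lz_2_32⟩
    · -- n = 34
      have ht : Nat.totient 34 = 16 := by decide
      rw [ht] at hqb
      have hq' : q ≤ 2 := by
        rcases hqb with h | h
        · omega
        · by_contra hc
          push Not at hc
          have h5 : 2 ^ 16 ≤ (q - 1) ^ 16 := Nat.pow_le_pow_left (by omega) 16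
          norm_num at h5 h
          omega
      interval_cases q
      · exact hno ⟨_, lz_2_34⟩
    · -- n = 36
      have ht : Nat.totient 36 = 12 := by decide
      rw [ht] at hqb
      have hq' : q ≤ 2 := by
        rcases hqb with h | h
        · omega
        · by_contra hc
          push Not at hc
          have h5 : 2 ^ 12 ≤ (q - 1) ^ 12 := Nat.pow_le_pow_left (by omega) 12
          norm_num at h5 h
          omega
      interval_cases q
      · exact hno ⟨_, lz_2_36⟩
    · -- n = 38
      have ht : Nat.totient 38 = 18 := by decide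
      rw [ht] at hqb
      have hq' : q ≤ 2 := by
        rcases hqb with h | h
        · omega
        · by_contra hc
          push Not at hc
          have h5 : 2 ^ 18 ≤ (q - 1) ^ 18 := Nat.pow_le_pow_left (by omega) 18
          norm_num at h5 h
          omega
      interval_cases q
      · exact hno ⟨_, lz_2_38⟩
    · -- n = 40
      have ht : Nat.totient 40 = 16 := by decide
      rw [ht] at hqb
      have hq' : q ≤ 2 := by
        rcases hqb with h | h
        · omega
        · by_contra hc
          push Not at hc
          have h5 : 2 ^ 16 ≤ (q - 1) ^ 16 := Nat.pow_le_pow_left (by omega) 16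
          norm_num at h5 h
          omega
      interval_cases q
      · exact hno ⟨_, lz_2_40⟩
    · -- n = 42
      have ht : Nat.totient 42 = 12 := by decide
      rw [ht] at hqb
      have hq' : q ≤ 2 := by
        rcases hqb with h | h
        · omega
        · by_contra hc
          push Not at hc
          have h5 : 2 ^ 12 ≤ (q - 1) ^ 12 := Nat.pow_le_pow_left (by omega) 12
          norm_num at h5 h
          omega
      interval_cases q
      · exact hno ⟨_, lz_2_42⟩
    · -- n = 48
      have ht : Nat.totient 48 = 16 := by decide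
      rw [ht] at hqb
      have hq' : q ≤ 2 := by
        rcases hqb with h | h
        · omega
        · by_contra hc
          push Not at hc
          have h5 : 2 ^ 16 ≤ (q - 1) ^ 16 := Nat.pow_le_pow_left (by omega) 16
          norm_num at h5 h
          omega
      interval_cases q
      · exact hno ⟨_, lz_2_48⟩
    · -- n = 54
      have ht : Nat.totient 54 = 18 := by decide
      rw [ht] at hqb
      have hq' : q ≤ 2 := by
        rcases hqb with h | h
        · omega
        · by_contra hc
          push Not at hc
          have h5 : 2 ^ 18 ≤ (q - 1) ^ 18 := Nat.pow_le_pow_left (by omega) 18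
          norm_num at h5 h
          omega
      interval_cases q
      · exact hno ⟨_, lz_2_54⟩
    · -- n = 60
      have ht : Nat.totient 60 = 16 := by decide
      rw [ht] at hqb
      have hq' : q ≤ 2 := by
        rcases hqb with h | h
        · omega
        · by_contra hc
          push Not at hc
          have h5 : 2 ^ 16 ≤ (q - 1) ^ 16 := Nat.pow_le_pow_left (by omega) 16
          norm_num at h5 h
          omega
      interval_cases q
      · exact hno ⟨_, lz_2_60⟩
    · -- n = 66
      have ht : Nat.totient 66 = 20 := by decide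
      rw [ht] at hqb
      have hq' : q ≤ 2 := by
        rcases hqb with h | h
        · omega
        · by_contra hc
          push Not at hc
          have h5 : 2 ^ 20 ≤ (q - 1) ^ 20 := Nat.pow_le_pow_left (by omega) 20
          norm_num at h5 h
          omega
      interval_cases q
      · exact hno ⟨_, lz_2_66⟩

end Cfsg.Agent.S3430
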