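import Cfsg.Statements.S3431
import Mathlib
import Cfsg.Agent.Lib.Helper71.NseArith5
import Cfsg.Agent.Lib.Helper71.NseArith6
import Cfsg.Agent.Lib.Helper71.NseSimple
import Cfsg.Agent.Lib.Helper71.NseAlt6
import Cfsg.Agent.S0228
import Cfsg.Agent.Lib.Helper5.Order60
import Cfsg.Agent.Lib.Helper17.Order360D

set_option autoImplicit false
set_option linter.style.haveILetI false
open Cfsg

namespace Cfsg.Agent.S3431

open Cfsg.Agent.Helper71.Nse

theorem case4 {G : Type*} [Group G] [Finite G]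
    (h : ((fun m : ℕ => Nat.card {g : G // orderOf g = m}) '' Set.range (orderOf : G → ℕ)) = ((fun m : ℕ => Nat.card {g : ↥(alternatingGroup (Fin 4)) // orderOf g = m}) '' Set.range (orderOf : ↥(alternatingGroup (Fin 4)) → ℕ))) :
    Nonempty (G ≃* ↥(alternatingGroup (Fin 4))) := by
  obtain ⟨t1, t2⟩ := nse_transfer h
  have D := data_of_group G
  have hV : ∀ m, cnt G m ≠ 0 → cnt G m = 1 ∨ cnt G m = 3 ∨ cnt G m = 8 := by
    intro m hm
    obtain ⟨m', hm'1, hm'2⟩ := t1 m hm
    rw [← hm'2]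
    rcases alt4_supp m' hm'1 with rfl | rfl | rfl
    · left; exact cnt_one
    · right; left; exact alt4_cnt2
    · right; right; exact alt4_cnt3
  have h3 : ∃ m, cnt G m = 3 := by
    obtain ⟨m, hm⟩ := t2 2 (by rw [alt4_cnt2]; norm_num)
    exact ⟨m, by rw [hm, alt4_cnt2]⟩
  have h8 : ∃ m, cnt G m = 8 := by
    obtain ⟨m, hm⟩ := t2 3 (by rw [alt4_cnt3]; norm_num)
    exact ⟨m, by rw [hm, alt4_cnt3]⟩
  obtain ⟨hN, hs3, hsupp⟩ := arith4 D hV h3 h8
  haveI : Fact (Nat.Prime 3) := ⟨Nat.prime_three⟩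
  have hsyl : ∀ P : Sylow 3 G, Nat.card (P : Subgroup G) = 3 := by
    intro P
    have := card_sylow_eq 3 1 (by rw [hN]; norm_num) (by rw [hN]; norm_num) P
    simpa using this
  have h4 := Cfsg.Agent.Helper17.card_orderOf_eq_prime hsyl
  have h4' : Nat.card (Sylow 3 G) = 4 := by
    unfold cnt at hs3
    omega
  exact Cfsg.Agent.S0228.case_four hN h4'

theorem case5 {G : Type*} [Group G] [Finite G]
    (h : ((fun m : ℕ => Nat.card {g : G // orderOf g = m}) '' Set.range (orderOf : G → ℕ)) = ((fun m : ℕ => Nat.card {g : ↥(alternatingGroup (Fin 5)) // orderOf g = m}) '' Set.range (orderOf : ↥(alternatingGroup (Fin 5)) → ℕ))) :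
    Nonempty (G ≃* ↥(alternatingGroup (Fin 5))) := by
  obtain ⟨t1, t2⟩ := nse_transfer h
  have D := data_of_group G
  have hV : ∀ m, cnt G m ≠ 0 → cnt G m = 1 ∨ cnt G m = 15 ∨ cnt G m = 20 ∨ cnt G m = 24 := by
    intro m hm
    obtain ⟨m', hm'1, hm'2⟩ := t1 m hm
    rw [← hm'2]
    rcases alt5_supp m' hm'1 with rfl | rfl | rfl | rfl
    · left; exact cnt_one
    · right; left; exact alt5_cnt2
    · right; right; left; exact alt5_cnt3
    · right; right; right; exact alt5_cnt5
  have h15 : ∃ m, cnt G m = 15 := by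
    obtain ⟨m, hm⟩ := t2 2 (by rw [alt5_cnt2]; norm_num)
    exact ⟨m, by rw [hm, alt5_cnt2]⟩
  have h20 : ∃ m, cnt G m = 20 := by
    obtain ⟨m, hm⟩ := t2 3 (by rw [alt5_cnt3]; norm_num)
    exact ⟨m, by rw [hm, alt5_cnt3]⟩
  obtain ⟨hN, hs3, hs5, hsupp⟩ := A5.main ⟨D, hV, h15, h20⟩
  haveI := simple60 hN hs3 hs5 hsupp
  exact Cfsg.Agent.Helper5.simple_order_sixty hN

theorem case6 {G : Type*} [Group G] [Finite G]
    (h : ((fun m : ℕ => Nat.card {g : G // orderOf g = m}) '' Set.range (orderOf : G → ℕ)) = ((fun m : ℕ => Nat.card {g : ↥(alternatingGroup (Fin 6)) // orderOf g = m}) '' Set.range (orderOf : ↥(alternatingGroup (Fin 6)) → ℕ))) :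
    Nonempty (G ≃* ↥(alternatingGroup (Fin 6))) := by
  obtain ⟨t1, t2⟩ := nse_transfer h
  have D := data_of_group G
  have hV : ∀ m, cnt G m ≠ 0 →
      cnt G m = 1 ∨ cnt G m = 45 ∨ cnt G m = 80 ∨ cnt G m = 90 ∨ cnt G m = 144 := by
    intro m hm
    obtain ⟨m', hm'1, hm'2⟩ := t1 m hm
    rw [← hm'2]
    rcases alt6_supp m' hm'1 with rfl | rfl | rfl | rfl | rfl
    · left; exact cnt_one
    · right; left; exact alt6_cnt2
    · right; right; left; exact alt6_cnt3
    · right; right; right; left; exact alt6_cnt4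
    · right; right; right; right; exact alt6_cnt5
  have h45 : ∃ m, cnt G m = 45 := by
    obtain ⟨m, hm⟩ := t2 2 (by rw [alt6_cnt2]; norm_num)
    exact ⟨m, by rw [hm, alt6_cnt2]⟩
  have h144 : ∃ m, cnt G m = 144 := by
    obtain ⟨m, hm⟩ := t2 5 (by rw [alt6_cnt5]; norm_num)
    exact ⟨m, by rw [hm, alt6_cnt5]⟩
  obtain ⟨hN, hs3, hs5, hsupp⟩ := A6.main ⟨D, hV, h45, h144⟩
  haveI := simple360 hN hs3 hs5 hsupp
  haveI : IsSimpleGroup (alternatingGroup (Fin 6)) :=
    alternatingGroup.isSimpleGroup (by simp)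
  have hA : Nat.card (alternatingGroup (Fin 6)) = 360 := by
    rw [nat_card_alternatingGroup]
    simp [Nat.factorial]
  exact Cfsg.Agent.Helper17.O360.iso_of_simple360 hN hA

/-- Let n be 4, 5 or 6 and let G be a finite group whose set of sizes of same-order classes (the set of numbers #{g : o(g) = m} over the element orders m of G) equals that of the alternating group of degree n. Then G is isomorphic to that alternating group. -/
theorem result {G : Type*} [Group G] [Finite G] (n : ℕ) (hn : n = 4 ∨ n = 5 ∨ n = 6)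
    (h : ((fun m : ℕ => Nat.card {g : G // orderOf g = m}) '' Set.range (orderOf : G → ℕ)) = ((fun m : ℕ => Nat.card {g : ↥(alternatingGroup (Fin n)) // orderOf g = m}) '' Set.range (orderOf : ↥(alternatingGroup (Fin n)) → ℕ))) :
    Nonempty (G ≃* ↥(alternatingGroup (Fin n))) := by
  rcases hn with rfl | rfl | rfl
  · exact case4 h
  · exact case5 h
  · exact case6 h

end Cfsg.Agent.S3431
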