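import Cfsg.Statements.S3443
import Mathlib

set_option autoImplicit false
open Cfsg

namespace Cfsg.Agent.S3443

theorem nat_key (p a b : ℕ) (hp : p.Prime) (ha : 0 < a) (hb : 0 < b) (h1 : a ∣ p * b) (h2 : b ∣ p * a) :
    a ∣ b ∨ b ∣ a := by
  obtain ⟨c, hc⟩ := h1
  obtain ⟨d, hd⟩ := h2
  have hcd : c * d = p ^ 2 := by
    have h : (a * b) * (c * d) = (a * b) * p ^ 2 := by
      calc (a * b) * (c * d) = (a * c) * (b * d) := by ring
        _ = (p * b) * (p * a) := by rw [hc, hd]
        _ = (a * b) * p ^ 2 := by ring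
    exact Nat.eq_of_mul_eq_mul_left (Nat.mul_pos ha hb) h
  have hcdvd : c ∣ p ^ 2 := ⟨d, hcd.symm⟩
  obtain ⟨i, hi, rfl⟩ := (Nat.dvd_prime_pow hp).mp hcdvd
  have hp0 : 0 < p := hp.pos
  interval_cases i
  · right
    refine ⟨p, ?_⟩
    rw [pow_zero, mul_one] at hc
    rw [← hc, mul_comm]
  · left
    rw [pow_one] at hc
    have : b = a := by
      have : p * b = p * a := by rw [hc, mul_comm]
      exact Nat.eq_of_mul_eq_mul_left hp0 this
    rw [this]
  · left
    have hd1 : d = 1 := by
      have : p ^ 2 * d = p ^ 2 * 1 := by rw [hcd, mul_one]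
      exact Nat.eq_of_mul_eq_mul_left (pow_pos hp0 2) this
    rw [hd1, mul_one] at hd
    exact ⟨p, by rw [← hd, mul_comm]⟩

variable {G : Type*} [Group G] (V : Subgroup G) [V.Normal]

/-- The embedding `(v, g) ↦ (v * g, g)`. -/
def emb : V ⋊[MulAut.conjNormal] G →* G × G :=
  MonoidHom.prod
    (SemidirectProduct.lift V.subtype (MonoidHom.id G) (by
      intro g
      ext v
      simp [MulAut.conjNormal_apply]))
    SemidirectProduct.rightHom

theorem emb_apply (x : V ⋊[MulAut.conjNormal] G) :
    emb V x = ((x.left : G) * x.right, x.right) := by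
  simp [emb, SemidirectProduct.lift, SemidirectProduct.rightHom]

theorem emb_injective : Function.Injective (emb V) := by
  intro x y h
  rw [emb_apply, emb_apply] at h
  have h2 : x.right = y.right := congrArg Prod.snd h
  have h1 : (x.left : G) * x.right = (y.left : G) * y.right := congrArg Prod.fst h
  rw [h2] at h1
  have h3 : (x.left : G) = y.left := mul_right_cancel h1
  ext
  · exact h3
  · exact h2

theorem pow_mem_of_pow_eq_one (v : V) (g : G) (n : ℕ) (h : g ^ n = 1) :
    ((v : G) * g) ^ n ∈ V := by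
  rw [← QuotientGroup.eq_one_iff, QuotientGroup.mk_pow, QuotientGroup.mk_mul,
    (QuotientGroup.eq_one_iff (v : G)).mpr v.2, one_mul, ← QuotientGroup.mk_pow, h]
  rfl

theorem pow_mem_of_mul_pow_eq_one (v : V) (g : G) (n : ℕ) (h : ((v : G) * g) ^ n = 1) :
    g ^ n ∈ V := by
  have h1 : ((g : G) : G ⧸ V) = (((v : G) * g : G) : G ⧸ V) := by
    rw [QuotientGroup.mk_mul, (QuotientGroup.eq_one_iff (v : G)).mpr v.2, one_mul]
  rw [← QuotientGroup.eq_one_iff, QuotientGroup.mk_pow, h1, ← QuotientGroup.mk_pow, h]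
  rfl

/-- Let G be a finite group and V a normal elementary abelian subgroup of G (abelian of prime exponent p, possibly trivial). Then the semidirect product V ⋊ G, with G acting on V by conjugation, has exactly the same set of element orders as G. -/
theorem result {G : Type*} [Group G] [Finite G] (V : Subgroup G) [V.Normal] (p : ℕ) (hp : p.Prime)
    (hcomm : ∀ x y : V, x * y = y * x) (hexp : ∀ x : V, x ^ p = 1) :
    Set.range (orderOf : V ⋊[MulAut.conjNormal] G → ℕ) = Set.range (orderOf : G → ℕ) := by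
  apply Set.Subset.antisymm
  · rintro _ ⟨x, rfl⟩
    rw [← orderOf_injective (emb V) (emb_injective V) x, emb_apply, Prod.orderOf]
    set v := x.left with hv
    set g := x.right with hg
    have hexp' : ∀ y : G, y ∈ V → y ^ p = 1 := by
      intro y hy
      have := hexp ⟨y, hy⟩
      exact congrArg Subtype.val this
    have h1 : orderOf ((v : G) * g) ∣ p * orderOf g := by
      apply orderOf_dvd_of_pow_eq_one
      rw [mul_comm, pow_mul]
      exact hexp' _ (pow_mem_of_pow_eq_one V v g _ (pow_orderOf_eq_one g))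
    have h2 : orderOf g ∣ p * orderOf ((v : G) * g) := by
      apply orderOf_dvd_of_pow_eq_one
      rw [mul_comm, pow_mul]
      exact hexp' _ (pow_mem_of_mul_pow_eq_one V v g _ (pow_orderOf_eq_one _))
    rcases nat_key p _ _ hp (orderOf_pos _) (orderOf_pos _) h1 h2 with h | h
    · exact ⟨g, (Nat.lcm_eq_right h).symm⟩
    · exact ⟨(v : G) * g, (Nat.lcm_eq_left h).symm⟩
  · rintro _ ⟨g, rfl⟩
    exact ⟨SemidirectProduct.inr g, orderOf_injective _ SemidirectProduct.inr_injective g⟩

end Cfsg.Agent.S3443
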