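import Cfsg.Statements.S3444
import Cfsg.Agent.S3443
import Mathlib

set_option autoImplicit false
open Cfsg

namespace Cfsg.Agent.S3444

universe u

open scoped commutatorElement

/-- A nontrivial abelian normal subgroup contains a nontrivial normal elementary abelian subgroup. -/
theorem exists_elemAb_of_abelian {G : Type u} [Group G] [Finite G] (A : Subgroup G) [hA : A.Normal]
    (hne : A ≠ ⊥) (hcomm : ∀ x ∈ A, ∀ y ∈ A, x * y = y * x) :
    ∃ (V : Subgroup G) (p : ℕ), V.Normal ∧ p.Prime ∧ V ≠ ⊥ ∧ (∀ x y : V, x * y = y * x) ∧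
      (∀ x : V, x ^ p = 1) := by
  have hcard : Nat.card A ≠ 1 := by
    intro h
    exact hne (Subgroup.card_eq_one.mp h)
  obtain ⟨p, hp, hdvd⟩ := Nat.exists_prime_and_dvd hcard
  haveI : Fact p.Prime := ⟨hp⟩
  obtain ⟨x, hx⟩ := exists_prime_orderOf_dvd_card' (G := A) p hdvd
  let V : Subgroup G :=
    { carrier := {a | a ∈ A ∧ a ^ p = 1}
      mul_mem' := by
        rintro a b ⟨ha, ha'⟩ ⟨hb, hb'⟩
        refine ⟨A.mul_mem ha hb, ?_⟩
        have hc : Commute a b := hcomm a ha b hb
        rw [hc.mul_pow, ha', hb', one_mul]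
      one_mem' := ⟨A.one_mem, one_pow p⟩
      inv_mem' := by
        rintro a ⟨ha, ha'⟩
        exact ⟨A.inv_mem ha, by rw [inv_pow, ha', inv_one]⟩ }
  refine ⟨V, p, ?_, hp, ?_, ?_, ?_⟩
  · constructor
    rintro a ⟨ha, ha'⟩ g
    refine ⟨hA.conj_mem a ha g, ?_⟩
    rw [conj_pow, ha', mul_one, mul_inv_cancel]
  · intro hV
    have hxV : (x : G) ∈ V := by
      refine ⟨x.2, ?_⟩
      have h1 : x ^ p = 1 := by rw [← hx]; exact pow_orderOf_eq_one x
      have := congrArg Subtype.val h1
      simpa using this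
    rw [hV, Subgroup.mem_bot] at hxV
    have hx1 : x = 1 := Subtype.ext hxV
    rw [hx1, orderOf_one] at hx
    exact hp.one_lt.ne hx
  · rintro ⟨a, ha, _⟩ ⟨b, hb, _⟩
    exact Subtype.ext (hcomm a ha b hb)
  · rintro ⟨a, _, ha'⟩
    exact Subtype.ext ha'

/-- A nontrivial solvable normal subgroup contains a nontrivial abelian subgroup normal in `G`. -/
theorem exists_abelian_normal {G : Type u} [Group G] (K : Subgroup G) [K.Normal] (hK : K ≠ ⊥)
    (hs : Group.IsSolvable K) :
    ∃ (A : Subgroup G), A.Normal ∧ A ≠ ⊥ ∧ (∀ x ∈ A, ∀ y ∈ A, x * y = y * x) := by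
  classical
  have hex : ∃ n, derivedSeries K n = ⊥ := (Group.isSolvable_def K).mp hs
  have hntK : (⊤ : Subgroup K) ≠ ⊥ := by
    intro h
    apply hK
    rw [Subgroup.eq_bot_iff_forall]
    intro x hx
    have : (⟨x, hx⟩ : K) ∈ (⊤ : Subgroup K) := Subgroup.mem_top _
    rw [h, Subgroup.mem_bot] at this
    exact congrArg Subtype.val this
  have h0 : Nat.find hex ≠ 0 := by
    intro h0
    have := Nat.find_spec hex
    rw [h0, derivedSeries_zero] at this
    exact hntK this
  obtain ⟨m, hm⟩ := Nat.exists_eq_succ_of_ne_zero h0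
  have hm1 : derivedSeries K (m + 1) = ⊥ := by
    have := Nat.find_spec hex
    rwa [hm] at this
  have hm0 : derivedSeries K m ≠ ⊥ := by
    have := Nat.find_min hex (m := m) (by omega)
    exact this
  refine ⟨(derivedSeries K m).map K.subtype, inferInstance, ?_, ?_⟩
  · intro h
    apply hm0
    rw [Subgroup.eq_bot_iff_forall]
    intro x hx
    have : (K.subtype x) ∈ (derivedSeries K m).map K.subtype := Subgroup.mem_map_of_mem _ hx
    rw [h, Subgroup.mem_bot] at this
    exact Subtype.ext this
  · rintro _ ⟨x, hx, rfl⟩ _ ⟨y, hy, rfl⟩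
    have hc : ⁅x, y⁆ ∈ derivedSeries K (m + 1) := by
      rw [derivedSeries_succ]
      exact Subgroup.commutator_mem_commutator hx hy
    rw [hm1, Subgroup.mem_bot, commutatorElement_eq_one_iff_mul_comm] at hc
    have := congrArg K.subtype hc
    simpa using this

theorem grow (n : ℕ) : ∀ (G : Type u) [Group G] [Finite G] (V : Subgroup G) [V.Normal] (p : ℕ)
    (_ : p.Prime) (_ : ∀ x y : V, x * y = y * x) (_ : ∀ x : V, x ^ p = 1) (_ : V ≠ ⊥),
    ∃ (H : Type u) (_ : Group H) (_ : Finite H), Nat.card G + n ≤ Nat.card H ∧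
      Set.range (orderOf : H → ℕ) = Set.range (orderOf : G → ℕ) := by
  induction n with
  | zero =>
    intro G _ _ V _ p hp hcomm hexp hV
    exact ⟨G, inferInstance, inferInstance, le_rfl, rfl⟩
  | succ n ih =>
    intro G _ _ V _ p hp hcomm hexp hV
    let G' := V ⋊[MulAut.conjNormal] G
    haveI : Finite G' := Finite.of_equiv _ SemidirectProduct.equivProd.symm
    let V' : Subgroup G' := (SemidirectProduct.inl : V →* G').range
    haveI hV'n : V'.Normal := by
      show (SemidirectProduct.inl : V →* G').range.Normal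
      rw [SemidirectProduct.range_inl_eq_ker_rightHom]
      infer_instance
    have hcomm' : ∀ x y : V', x * y = y * x := by
      rintro ⟨_, a, rfl⟩ ⟨_, b, rfl⟩
      apply Subtype.ext
      show SemidirectProduct.inl a * SemidirectProduct.inl b =
        SemidirectProduct.inl b * SemidirectProduct.inl a
      rw [← map_mul, ← map_mul, hcomm a b]
    have hexp' : ∀ x : V', x ^ p = 1 := by
      rintro ⟨_, a, rfl⟩
      apply Subtype.ext
      show (SemidirectProduct.inl a : G') ^ p = 1
      rw [← map_pow, hexp a, map_one]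
    have hV' : V' ≠ ⊥ := by
      intro h
      apply hV
      rw [Subgroup.eq_bot_iff_forall]
      intro x hx
      have hmem : (SemidirectProduct.inl (⟨x, hx⟩ : V) : G') ∈ V' := ⟨_, rfl⟩
      rw [h, Subgroup.mem_bot] at hmem
      have h1 : (⟨x, hx⟩ : V) = 1 := SemidirectProduct.inl_injective (by rw [hmem, map_one])
      exact congrArg Subtype.val h1
    obtain ⟨H, hg, hf, hcard, hspec⟩ := ih G' V' p hp hcomm' hexp' hV'
    refine ⟨H, hg, hf, ?_, ?_⟩
    · have h1 : Nat.card G' = Nat.card V * Nat.card G := SemidirectProduct.card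
      have h2 : 2 ≤ Nat.card V := by
        have hpos : 0 < Nat.card V := Nat.card_pos
        have hne1 : Nat.card V ≠ 1 := fun h => hV (Subgroup.card_eq_one.mp h)
        omega
      have h3 : 0 < Nat.card G := Nat.card_pos
      have h4 : 2 * Nat.card G ≤ Nat.card V * Nat.card G := Nat.mul_le_mul_right _ h2
      omega
    · rw [hspec]
      exact Cfsg.Agent.S3443.result V p hp hcomm hexp

/-- A copy of `Fin n` carrying no algebraic instances. -/
def Carrier (n : ℕ) : Type := Fin n

instance (n : ℕ) : Fintype (Carrier n) := inferInstanceAs (Fintype (Fin n))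

theorem card_carrier (n : ℕ) : Fintype.card (Carrier n) = n := Fintype.card_fin n

theorem shrink (H : Type u) [Group H] [Finite H] :
    ∃ (H0 : Type) (_ : Group H0) (_ : Fintype H0), Fintype.card H0 = Nat.card H ∧
      Set.range (orderOf : H0 → ℕ) = Set.range (orderOf : H → ℕ) := by
  let e : Carrier (Nat.card H) ≃ H := (Finite.equivFin H).symm
  letI : Group (Carrier (Nat.card H)) := e.group
  let em : Carrier (Nat.card H) ≃* H := e.mulEquiv
  refine ⟨Carrier (Nat.card H), inferInstance, inferInstance, card_carrier _, ?_⟩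
  ext k
  constructor
  · rintro ⟨x, rfl⟩
    exact ⟨em x, em.orderOf_eq x⟩
  · rintro ⟨x, rfl⟩
    exact ⟨em.symm x, em.symm.orderOf_eq x⟩

/-- A finite group with a non-trivial solvable normal subgroup is not determined by its set of element orders, not even up to finitely many possibilities: for every bound N there is a finite group of order greater than N with exactly the same set of element orders. -/
theorem result {G : Type*} [Group G] [Finite G] (K : Subgroup G) [K.Normal] (hK : K ≠ ⊥)
    (hs : Group.IsSolvable K) (N : ℕ) :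
    ∃ (H : Type) (_ : Group H) (_ : Fintype H), N < Fintype.card H ∧ Set.range (orderOf : H → ℕ) = Set.range (orderOf : G → ℕ) := by
  obtain ⟨A, hAn, hAne, hAc⟩ := exists_abelian_normal K hK hs
  obtain ⟨V, p, hVn, hp, hVne, hcomm, hexp⟩ := exists_elemAb_of_abelian A hAne hAc
  obtain ⟨H, hg, hf, hcard, hspec⟩ := grow (N + 1) G V p hp hcomm hexp hVne
  obtain ⟨H0, hg0, hf0, hc0, hs0⟩ := shrink H
  refine ⟨H0, hg0, hf0, ?_, ?_⟩
  · rw [hc0]
    omega
  · rw [hs0, hspec]

end Cfsg.Agent.S3444
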