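import Cfsg.Statements.S3448

set_option autoImplicit false
open Cfsg

namespace Cfsg.Agent.S3448

open Equiv

set_option maxRecDepth 100000 in
theorem pow_cases : ∀ g : Perm (Fin 5), Perm.sign g = 1 → g ^ 2 = 1 ∨ g ^ 3 = 1 ∨ g ^ 5 = 1 := by
  decide

theorem order_mem (g : alternatingGroup (Fin 5)) : orderOf g ∈ ({1, 2, 3, 5} : Set ℕ) := by
  have hg : Perm.sign (g : Perm (Fin 5)) = 1 := Perm.mem_alternatingGroup.mp g.2
  rw [← Subgroup.orderOf_coe]
  rcases pow_cases _ hg with h | h | h
  · have := orderOf_dvd_of_pow_eq_one h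
    rcases (Nat.dvd_prime Nat.prime_two).mp this with h1 | h1 <;> simp [h1]
  · have := orderOf_dvd_of_pow_eq_one h
    rcases (Nat.dvd_prime Nat.prime_three).mp this with h1 | h1 <;> simp [h1]
  · have := orderOf_dvd_of_pow_eq_one h
    rcases (Nat.dvd_prime Nat.prime_five).mp this with h1 | h1 <;> simp [h1]

def e2 : alternatingGroup (Fin 5) :=
  ⟨swap 0 1 * swap 2 3, Perm.mem_alternatingGroup.mpr (by decide)⟩
def e3 : alternatingGroup (Fin 5) :=
  ⟨swap 0 1 * swap 1 2, Perm.mem_alternatingGroup.mpr (by decide)⟩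
def e5 : alternatingGroup (Fin 5) :=
  ⟨swap 0 1 * swap 1 2 * swap 2 3 * swap 3 4, Perm.mem_alternatingGroup.mpr (by decide)⟩

theorem order_e2 : orderOf e2 = 2 := by
  rw [← Subgroup.orderOf_coe]
  have : Fact (Nat.Prime 2) := ⟨Nat.prime_two⟩
  exact orderOf_eq_prime (by decide) (by decide)

theorem order_e3 : orderOf e3 = 3 := by
  rw [← Subgroup.orderOf_coe]
  have : Fact (Nat.Prime 3) := ⟨Nat.prime_three⟩
  exact orderOf_eq_prime (by decide) (by decide)

theorem order_e5 : orderOf e5 = 5 := by
  rw [← Subgroup.orderOf_coe]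
  have : Fact (Nat.Prime 5) := ⟨Nat.prime_five⟩
  exact orderOf_eq_prime (by decide) (by decide)

theorem spec_A5 : Set.range (orderOf : alternatingGroup (Fin 5) → ℕ) = {1, 2, 3, 5} := by
  apply Set.Subset.antisymm
  · rintro _ ⟨g, rfl⟩
    exact order_mem g
  · intro n hn
    simp only [Set.mem_insert_iff, Set.mem_singleton_iff] at hn
    rcases hn with rfl | rfl | rfl | rfl
    · exact ⟨1, orderOf_one⟩
    · exact ⟨e2, order_e2⟩
    · exact ⟨e3, order_e3⟩
    · exact ⟨e5, order_e5⟩

/-- The set of element orders of the direct product of two copies of the alternating group of degree 5 is {1, 2, 3, 5, 6, 10, 15}. (It is shared by the direct product of two Frobenius groups of orders 50 and 75, so this direct product is not determined by its element orders.) -/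
theorem result : Set.range (orderOf : alternatingGroup (Fin 5) × alternatingGroup (Fin 5) → ℕ) = {1, 2, 3, 5, 6, 10, 15} := by
  apply Set.Subset.antisymm
  · rintro _ ⟨⟨a, b⟩, rfl⟩
    rw [Prod.orderOf]
    have ha := order_mem a
    have hb := order_mem b
    simp only [Set.mem_insert_iff, Set.mem_singleton_iff] at ha hb ⊢
    rcases ha with ha | ha | ha | ha <;> rcases hb with hb | hb | hb | hb <;>
      simp only [ha, hb] <;> decide
  · intro n hn
    simp only [Set.mem_insert_iff, Set.mem_singleton_iff] at hn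
    rcases hn with rfl | rfl | rfl | rfl | rfl | rfl | rfl
    · exact ⟨(1, 1), by rw [Prod.orderOf]; simp⟩
    · exact ⟨(e2, 1), by rw [Prod.orderOf]; simp [order_e2]⟩
    · exact ⟨(e3, 1), by rw [Prod.orderOf]; simp [order_e3]⟩
    · exact ⟨(e5, 1), by rw [Prod.orderOf]; simp [order_e5]⟩
    · exact ⟨(e2, e3), by rw [Prod.orderOf]; simp only [order_e2, order_e3]; decide⟩
    · exact ⟨(e2, e5), by rw [Prod.orderOf]; simp only [order_e2, order_e5]; decide⟩
    · exact ⟨(e3, e5), by rw [Prod.orderOf]; simp only [order_e3, order_e5]; decide⟩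

end Cfsg.Agent.S3448
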