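import Cfsg.Statements.S3449
import Cfsg.Agent.S3448

set_option autoImplicit false
open Cfsg

namespace Cfsg.Agent.S3449

open Cfsg.Agent.S3448

theorem spec_cyclic : Set.range (orderOf : Multiplicative (ZMod 30) → ℕ) = {1, 2, 3, 5, 6, 10, 15, 30} := by
  apply Set.Subset.antisymm
  · rintro _ ⟨g, rfl⟩
    have h : orderOf g ∣ 30 := by
      have := orderOf_dvd_natCard g
      simpa using this
    have h2 : orderOf g ∈ Nat.divisors 30 := Nat.mem_divisors.mpr ⟨h, by norm_num⟩
    have h3 : Nat.divisors 30 = {1, 2, 3, 5, 6, 10, 15, 30} := by decide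
    rw [h3] at h2
    simpa using h2
  · intro n hn
    have key : ∀ k : ℕ, orderOf (Multiplicative.ofAdd ((k : ℕ) : ZMod 30)) = 30 / Nat.gcd 30 k := by
      intro k
      rw [orderOf_ofAdd_eq_addOrderOf, ZMod.addOrderOf_coe k (by norm_num)]
    simp only [Set.mem_insert_iff, Set.mem_singleton_iff] at hn
    rcases hn with rfl | rfl | rfl | rfl | rfl | rfl | rfl | rfl
    · exact ⟨_, (key 30).trans (by decide)⟩
    · exact ⟨_, (key 15).trans (by decide)⟩
    · exact ⟨_, (key 10).trans (by decide)⟩
    · exact ⟨_, (key 6).trans (by decide)⟩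
    · exact ⟨_, (key 5).trans (by decide)⟩
    · exact ⟨_, (key 3).trans (by decide)⟩
    · exact ⟨_, (key 2).trans (by decide)⟩
    · exact ⟨_, (key 1).trans (by decide)⟩

/-- The direct product of three copies of the alternating group of degree 5 has exactly the same set of element orders as the cyclic group of order 30, namely the divisors of 30; in particular a direct power of a non-abelian simple group need not be determined by its element orders. -/
theorem result : Set.range (orderOf : alternatingGroup (Fin 5) × alternatingGroup (Fin 5) × alternatingGroup (Fin 5) → ℕ) =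
      Set.range (orderOf : Multiplicative (ZMod 30) → ℕ) := by
  rw [spec_cyclic]
  apply Set.Subset.antisymm
  · rintro _ ⟨⟨a, b, c⟩, rfl⟩
    rw [Prod.orderOf, Prod.orderOf]
    have ha := order_mem a
    have hb := order_mem b
    have hc := order_mem c
    simp only [Set.mem_insert_iff, Set.mem_singleton_iff] at ha hb hc ⊢
    rcases ha with ha | ha | ha | ha <;> rcases hb with hb | hb | hb | hb <;>
      rcases hc with hc | hc | hc | hc <;>
      simp only [ha, hb, hc] <;> decide
  · intro n hn
    simp only [Set.mem_insert_iff, Set.mem_singleton_iff] at hn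
    rcases hn with rfl | rfl | rfl | rfl | rfl | rfl | rfl | rfl
    · exact ⟨(1, 1, 1), by rw [Prod.orderOf, Prod.orderOf]; simp⟩
    · exact ⟨(e2, 1, 1), by rw [Prod.orderOf, Prod.orderOf]; simp [order_e2]⟩
    · exact ⟨(e3, 1, 1), by rw [Prod.orderOf, Prod.orderOf]; simp [order_e3]⟩
    · exact ⟨(e5, 1, 1), by rw [Prod.orderOf, Prod.orderOf]; simp [order_e5]⟩
    · exact ⟨(e2, e3, 1), by
        rw [Prod.orderOf, Prod.orderOf]; simp only [order_e2, order_e3, orderOf_one]; decide⟩
    · exact ⟨(e2, e5, 1), by
        rw [Prod.orderOf, Prod.orderOf]; simp only [order_e2, order_e5, orderOf_one]; decide⟩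
    · exact ⟨(e3, e5, 1), by
        rw [Prod.orderOf, Prod.orderOf]; simp only [order_e3, order_e5, orderOf_one]; decide⟩
    · exact ⟨(e2, e3, e5), by
        rw [Prod.orderOf, Prod.orderOf]; simp only [order_e2, order_e3, order_e5]; decide⟩

end Cfsg.Agent.S3449
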