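import Cfsg.Statements.S3452
import Cfsg.Agent.S3444
import Cfsg.Agent.Lib.Helper38.PGL2Exist
import Cfsg.Agent.Lib.Helper38.PGL2Nine
import Cfsg.Agent.Lib.Helper38.WeilTwoField
-- import your own Cfsg.Agent.* helpers here

set_option autoImplicit false
open Cfsg

namespace Cfsg.Agent.S3452

open Cfsg.Agent.Helper38

/-- a finite group with a nontrivial solvable normal subgroup and the element orders of
`PGL₂(F)` -/
theorem exists_model {F : Type*} [Field F] [Fintype F]
    (hF : (Fintype.card F).Prime ∨ Fintype.card F = 9) :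
    ∃ (G : Type) (_ : Group G) (_ : Finite G) (N : Subgroup G), N.Normal ∧ N ≠ ⊥ ∧
      Group.IsSolvable N ∧
      Set.range (orderOf : G → ℕ) =
        Set.range (orderOf : Matrix.GeneralLinearGroup (Fin 2) F ⧸
          Subgroup.center (Matrix.GeneralLinearGroup (Fin 2) F) → ℕ) := by
  obtain ⟨p, hpc⟩ := CharP.exists F
  have hpp : p.Prime := CharP.char_is_prime F p
  have : Fact p.Prime := ⟨hpp⟩
  obtain ⟨n, -, hn⟩ := FiniteField.card F p
  have hdvd : p ∣ Fintype.card F := by
    rw [hn]
    exact dvd_pow_self p n.ne_zero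
  have hspec := PGL2Spec.pgl_spectrum (F := F) p
  rcases hF with hF | hF
  · -- prime order
    have hpq : p = Fintype.card F := (Nat.prime_dvd_prime_iff_eq hpp hF).mp hdvd
    rw [← hpq] at hspec
    by_cases hp2 : p = 2
    · obtain ⟨G, hG1, hG2, N, hN1, hN2, hN3, hN4⟩ := PGL2Nine.exists_model_two
      refine ⟨G, hG1, hG2, N, hN1, hN2, hN3, ?_⟩
      rw [hN4, hspec, hp2]
    · obtain ⟨G, hG1, hG2, N, hN1, hN2, hN3, hN4⟩ := WeilTwo.exists_model_odd p hp2
      refine ⟨G, hG1, hG2, N, hN1, hN2, hN3, ?_⟩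
      rw [hN4, hspec]
  · -- order nine
    have hp3 : p = 3 := by
      rw [hF] at hdvd
      have h9 : (9 : ℕ) = 3 ^ 2 := by norm_num
      rw [h9] at hdvd
      exact (Nat.prime_dvd_prime_iff_eq hpp Nat.prime_three).mp (hpp.dvd_of_dvd_pow hdvd)
    rw [hF, hp3] at hspec
    obtain ⟨G, hG1, hG2, N, hN1, hN2, hN3, hN4⟩ := PGL2Nine.exists_model_nine
    refine ⟨G, hG1, hG2, N, hN1, hN2, hN3, ?_⟩
    rw [hN4, hspec]

/-- For F a finite field whose number of elements is a prime or equals 9, the group PGL(2,F) = GL(2,F)/Z(GL(2,F)) is not determined by its set of element orders: for every bound N there is a finite group of order greater than N with exactly the same set of element orders as PGL(2,F). -/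
theorem result {F : Type*} [Field F] [Fintype F] (hF : (Fintype.card F).Prime ∨ Fintype.card F = 9) (N : ℕ) :
    ∃ (H : Type) (_ : Group H) (_ : Fintype H), N < Fintype.card H ∧
      Set.range (orderOf : H → ℕ) = Set.range (orderOf : Matrix.GeneralLinearGroup (Fin 2) F ⧸ Subgroup.center (Matrix.GeneralLinearGroup (Fin 2) F) → ℕ) := by
  obtain ⟨G, hG1, hG2, K, hK1, hK2, hK3, hK4⟩ := exists_model hF
  obtain ⟨H, hH1, hH2, hcard, hs⟩ := Cfsg.Agent.S3444.result K hK2 hK3 N
  exact ⟨H, hH1, hH2, hcard, by rw [hs, hK4]⟩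

end Cfsg.Agent.S3452
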