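import Cfsg.Statements.S3489
import Mathlib
import Cfsg.Agent.S3444
import Cfsg.Agent.Lib.Helper35.IsoA10W
-- import your own Cfsg.Agent.* helpers here

set_option autoImplicit false
open Cfsg

namespace Cfsg.Agent.S3489

/-- The alternating group of degree 10 is not determined by its set of element orders, not even up to finitely many groups: for every bound N there is a finite group of order greater than N with exactly the same set of element orders as the alternating group of degree 10. -/
theorem result (N : ℕ) : ∃ (H : Type) (_ : Group H) (_ : Fintype H), N < Fintype.card H ∧ Set.range (orderOf : H → ℕ) = Set.range (orderOf : alternatingGroup (Fin 10) → ℕ) := by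
  obtain ⟨H, hg, hf, hcard, hspec⟩ :=
    Cfsg.Agent.S3444.result (G := Cfsg.Agent.Helper35.IsoA10.G) Cfsg.Agent.Helper35.IsoA10.KG
      Cfsg.Agent.Helper35.IsoA10.KG_ne_bot Cfsg.Agent.Helper35.IsoA10.KG_solvable N
  refine ⟨H, hg, hf, hcard, ?_⟩
  rw [hspec, Cfsg.Agent.Helper35.IsoA10.range_orderOf_G,
    Cfsg.Agent.Helper35.IsoA10.range_orderOf_alt10]

end Cfsg.Agent.S3489
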