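import Cfsg.Statements.S3491
import Mathlib
import Cfsg.Agent.Lib.Helper58.AffBig
import Cfsg.Agent.Lib.Helper58.A6Spec

set_option autoImplicit false
open Cfsg

namespace Cfsg.Agent.S3491

/-- The alternating group of degree 6 is not determined by its set of element orders, not even up to finitely many groups: for every bound N there is a finite group of order greater than N with exactly the same set of element orders as the alternating group of degree 6. -/
theorem result (N : ℕ) : ∃ (H : Type) (_ : Group H) (_ : Fintype H), N < Fintype.card H ∧ Set.range (orderOf : H → ℕ) = Set.range (orderOf : alternatingGroup (Fin 6) → ℕ) := by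
  rw [Cfsg.Agent.Helper58.spec_A6]
  exact Cfsg.Agent.Helper58.exists_large_spec N

end Cfsg.Agent.S3491
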