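import Cfsg.Statements.S3495
import Mathlib
import Cfsg.Agent.Lib.Helper58.Manning

set_option autoImplicit false
open Cfsg

namespace Cfsg.Agent.S3495

open MulAction Cfsg.Agent.Helper58 in
/-- part (a): a nontrivial normal subgroup of the point stabilizer has the same orbits -/
theorem partA {G : Type*} [Group G] [Finite G] {Ω : Type*} [Fintype Ω] [MulAction G Ω] [FaithfulSMul G Ω]
    (hprim : IsPreprimitive G Ω)
    (hep : ∀ (α : Ω) (ω : Ω), IsPreprimitive (stabilizer G α) (orbit (stabilizer G α) ω))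
    (α : Ω) (M : Subgroup G) (hM : M ≠ ⊥) (hMle : M ≤ stabilizer G α)
    (hMn : stabilizer G α ≤ Subgroup.normalizer (M : Set G)) (ω : Ω) :
    orbit M ω = orbit (stabilizer G α) ω := by
  apply Set.eq_of_subset_of_subset
  · rintro y ⟨m, rfl⟩
    exact ⟨⟨m.1, hMle m.2⟩, rfl⟩
  · by_cases hω : ω = α
    · rintro y ⟨h, rfl⟩
      have : (h : G) • ω = ω := by rw [hω]; exact h.2
      refine ⟨1, ?_⟩
      change (1 : M) • ω = (h : G) • ω
      rw [one_smul, this]
    · -- Manning
      have hK := manning hprim hep α ω hω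
      obtain ⟨m, hm, hm1⟩ : ∃ m ∈ M, m ≠ 1 := by
        by_contra hcon
        push Not at hcon
        exact hM ((Subgroup.eq_bot_iff_forall M).mpr hcon)
      have hnot : m ∉ kerOn (stabilizer G α) (orbit (stabilizer G α) ω) := by
        rw [hK, Subgroup.mem_bot]; exact hm1
      rw [mem_kerOn] at hnot
      push Not at hnot
      obtain ⟨x, hx, hmx⟩ := hnot (hMle hm)
      -- orbit of x equals orbit of ω
      have hxo : orbit (stabilizer G α) x = orbit (stabilizer G α) ω := orbit_eq_iff.mpr hx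
      have hNn : (M.subgroupOf (stabilizer G α)).Normal :=
        (Subgroup.normal_subgroupOf_iff_le_normalizer hMle).mpr hMn
      have htrans : ∀ y ∈ orbit (stabilizer G α) x, ∃ n ∈ M, n • x = y := by
        intro y hy
        obtain ⟨n, hn, hny⟩ := exists_smul_eq_of_normal (H := stabilizer G α) x (hep α x)
          (M.subgroupOf (stabilizer G α))
          ⟨⟨m, hMle hm⟩, by rw [Subgroup.mem_subgroupOf]; exact hm, hmx⟩ y hy
        refine ⟨n.1, ?_, hny⟩
        rw [Subgroup.mem_subgroupOf] at hn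
        exact hn
      intro y hy
      rw [← hxo] at hy
      have hω' : ω ∈ orbit (stabilizer G α) x := by rw [hxo]; exact mem_orbit_self ω
      obtain ⟨n₁, hn₁, h1⟩ := htrans ω hω'
      obtain ⟨n₂, hn₂, h2⟩ := htrans y hy
      refine ⟨⟨n₂ * n₁⁻¹, M.mul_mem hn₂ (M.inv_mem hn₁)⟩, ?_⟩
      change (n₂ * n₁⁻¹) • ω = y
      rw [mul_smul, ← h1, inv_smul_smul, h2]

/-- Let a finite group G act faithfully and primitively on a finite set Ω with non-trivial point stabilizers, each acting primitively on every one of its orbits (an extremely primitive group), and suppose G has an elementary abelian normal p-subgroup N acting regularly on Ω (affine type). Then every non-trivial subgroup M of a point stabilizer G_α that is normal in G_α has the same orbits on Ω as G_α, and normalizes no subgroup of N other than 1 and N. -/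
theorem result {G : Type*} [Group G] [Finite G] {Ω : Type*} [Fintype Ω] [MulAction G Ω] [FaithfulSMul G Ω] (hprim : MulAction.IsPreprimitive G Ω) (hH : ∀ α : Ω, MulAction.stabilizer G α ≠ ⊥) (hep : ∀ (α : Ω) (ω : Ω), MulAction.IsPreprimitive (MulAction.stabilizer G α) (MulAction.orbit (MulAction.stabilizer G α) ω))
    (N : Subgroup G) [N.Normal] (hNc : IsMulCommutative N) (p : ℕ) (hp : p.Prime) (hNp : ∀ n ∈ N, n ^ p = 1)
    (hNtr : MulAction.IsPretransitive N Ω) (hNreg : ∀ ω : Ω, MulAction.stabilizer N ω = ⊥) (α : Ω) (M : Subgroup G) (hM : M ≠ ⊥) (hMle : M ≤ MulAction.stabilizer G α)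
    (hMn : MulAction.stabilizer G α ≤ Subgroup.normalizer (M : Set G)) :
    (∀ ω : Ω, MulAction.orbit M ω = MulAction.orbit (MulAction.stabilizer G α) ω) ∧
    (∀ L : Subgroup G, L ≤ N → M ≤ Subgroup.normalizer (L : Set G) → L = ⊥ ∨ L = N) := by
  have hA := fun ω => partA hprim hep α M hM hMle hMn ω
  refine ⟨hA, ?_⟩
  intro L hLN hML
  by_cases hLbot : L = ⊥
  · exact Or.inl hLbot
  right
  have htr : MulAction.IsPretransitive G Ω := hprim.toIsPretransitive
  -- regularity of N in a usable form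
  have hreg : ∀ n ∈ N, ∀ ω : Ω, n • ω = ω → n = 1 := by
    intro n hn ω hfix
    have : (⟨n, hn⟩ : N) ∈ MulAction.stabilizer N ω := hfix
    rw [hNreg ω, Subgroup.mem_bot] at this
    exact congrArg Subtype.val this
  -- the orbit of α under L is invariant under the stabilizer
  have hinvM : ∀ m ∈ M, ∀ l ∈ L, ∃ l' ∈ L, m • l • α = l' • α := by
    intro m hm l hl
    have hmn := hML hm
    rw [Subgroup.mem_normalizer_iff] at hmn
    refine ⟨m * l * m⁻¹, (hmn l).mp hl, ?_⟩
    have hmα : m • α = α := hMle hm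
    have hmα' : m⁻¹ • α = α := by rw [inv_smul_eq_iff, hmα]
    rw [mul_smul, mul_smul, hmα']
  have hinvH : ∀ h ∈ MulAction.stabilizer G α, ∀ l ∈ L, ∃ l' ∈ L, h • l • α = l' • α := by
    intro h hh l hl
    have hmem : h • l • α ∈ MulAction.orbit (MulAction.stabilizer G α) (l • α) :=
      ⟨⟨h, hh⟩, rfl⟩
    rw [← hA (l • α)] at hmem
    obtain ⟨m, hm⟩ := hmem
    obtain ⟨l', hl', h'⟩ := hinvM m.1 m.2 l hl
    refine ⟨l', hl', ?_⟩
    rw [← h']
    exact hm.symm
  -- the stabilizer normalizes L
  have hHL : ∀ h ∈ MulAction.stabilizer G α, ∀ l ∈ L, h * l * h⁻¹ ∈ L := by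
    intro h hh l hl
    obtain ⟨l', hl', h'⟩ := hinvH h hh l hl
    have hhα' : h⁻¹ • α = α := by rw [inv_smul_eq_iff]; exact hh.symm
    have hfix : (l'⁻¹ * (h * l * h⁻¹)) • α = α := by
      rw [mul_smul, mul_smul, mul_smul, hhα', h', inv_smul_smul]
    have hN1 : h * l * h⁻¹ ∈ N := Subgroup.Normal.conj_mem inferInstance l (hLN hl) h
    have hN2 : l'⁻¹ * (h * l * h⁻¹) ∈ N := N.mul_mem (N.inv_mem (hLN hl')) hN1
    have := hreg _ hN2 α hfix
    have h2 : h * l * h⁻¹ = l' := by
      have := inv_mul_eq_one.mp this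
      exact this.symm
    rw [h2]; exact hl'
  -- L is normal in G
  have hLnormal : L.Normal := by
    constructor
    intro l hl g
    obtain ⟨n, hn⟩ := hNtr.exists_smul_eq α (g • α)
    have hnα : (n : G) • α = g • α := hn
    have hh : (n : G)⁻¹ * g ∈ MulAction.stabilizer G α := by
      rw [MulAction.mem_stabilizer_iff, mul_smul, ← hnα, inv_smul_smul]
    have h1 := hHL _ hh l hl
    have hcomm : ∀ a ∈ N, ∀ b ∈ N, a * b = b * a := by
      intro a ha b hb
      have := mul_comm' (⟨a, ha⟩ : N) ⟨b, hb⟩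
      exact congrArg Subtype.val this
    have h2 : g * l * g⁻¹ = (n : G) * (((n : G)⁻¹ * g) * l * ((n : G)⁻¹ * g)⁻¹) * (n : G)⁻¹ := by
      group
    rw [h2]
    have h3 := hcomm _ n.2 _ (hLN h1)
    rw [h3, mul_inv_cancel_right]
    exact h1
  -- L is transitive
  have hq : MulAction.IsQuasiPreprimitive G Ω := inferInstance
  have hLtr : MulAction.IsPretransitive L Ω := by
    apply hq.isPretransitive_of_normal
    intro hfix
    apply hLbot
    rw [eq_bot_iff]
    intro l hl
    rw [Subgroup.mem_bot]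
    apply FaithfulSMul.eq_of_smul_eq_smul (α := Ω)
    intro ω
    have : ω ∈ MulAction.fixedPoints L Ω := by rw [hfix]; trivial
    rw [MulAction.mem_fixedPoints] at this
    rw [one_smul]
    exact this ⟨l, hl⟩
  apply le_antisymm hLN
  intro n hn
  obtain ⟨l, hl⟩ := hLtr.exists_smul_eq α (n • α)
  have hlα : (l : G) • α = n • α := hl
  have hfix : ((l : G)⁻¹ * n) • α = α := by
    rw [mul_smul, ← hlα, inv_smul_smul]
  have := hreg _ (N.mul_mem (N.inv_mem (hLN l.2)) hn) α hfix
  have h2 : n = (l : G) := by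
    have := inv_mul_eq_one.mp this
    exact this.symm
  rw [h2]; exact l.2

end Cfsg.Agent.S3495
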