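import Mathlib
import Cfsg.Statements.S3496
import Cfsg.Agent.Lib.Helper58.SolvEPMain

set_option autoImplicit false
open Cfsg

namespace Cfsg.Agent.S3496

open Cfsg.Agent.Helper58 MulAction

/-- a hom with cyclic image: the group is generated by the kernel and one element -/
theorem exists_gen_mod_ker {H : Type*} [Group H] {C : Type*} [Group C] [IsCyclic C]
    (Θ : H →* C) : ∃ h₀ : H, ∀ x : H, ∃ t ∈ Θ.ker, ∃ k : ℤ, x = t * h₀ ^ k := by
  have hcyc : IsCyclic Θ.range := inferInstance
  obtain ⟨⟨y, h₀, rfl⟩, hgen⟩ := hcyc.exists_generator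
  refine ⟨h₀, fun x => ?_⟩
  obtain ⟨k, hk⟩ := Subgroup.mem_zpowers_iff.mp (hgen ⟨Θ x, x, rfl⟩)
  have hk' : Θ h₀ ^ k = Θ x := by
    have := congrArg Subtype.val hk
    simpa using this
  refine ⟨x * (h₀ ^ k)⁻¹, ?_, k, by group⟩
  rw [MonoidHom.mem_ker, map_mul, map_inv, map_zpow, hk', mul_inv_cancel]

theorem card_dvd_of_hom {H : Type*} [Group H] [Finite H] {C : Type*} [Group C] [Finite C]
    (Θ : H →* C) : Nat.card H ∣ Nat.card Θ.ker * Nat.card C := by
  rw [Subgroup.card_eq_card_quotient_mul_card_subgroup Θ.ker,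
    Nat.card_congr (QuotientGroup.quotientKerEquivRange Θ).toEquiv, mul_comm]
  exact Nat.mul_dvd_mul_left _ (Subgroup.card_subgroup_dvd_card _)

/-- The soluble extremely primitive groups. Let a finite solvable group G act faithfully and primitively on a finite set Ω with p ^ d points (p prime), with non-trivial point stabilizers each acting primitively on every one of its orbits. Then there is a prime q such that every orbit of a point stabilizer G_α other than {α} has exactly q points, q divides p ^ d − 1 but no p ^ i − 1 with 0 < i < d, and G_α has a normal subgroup T of order q with G_α generated by T and one further element and the order of G_α dividing q·d (so G_α is cyclic of order q, or an extension of T by a cyclic group of order dividing d). -/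
theorem result {G : Type*} [Group G] [Finite G] {Ω : Type*} [Fintype Ω] [MulAction G Ω] [FaithfulSMul G Ω] [Group.IsSolvable G] (p d : ℕ) (hp : p.Prime) (hcard : Fintype.card Ω = p ^ d)
    (hprim : MulAction.IsPreprimitive G Ω) (hH : ∀ α : Ω, MulAction.stabilizer G α ≠ ⊥) (hep : ∀ (α : Ω) (ω : Ω), MulAction.IsPreprimitive (MulAction.stabilizer G α) (MulAction.orbit (MulAction.stabilizer G α) ω)) (α : Ω) :
    ∃ q : ℕ, q.Prime ∧ (∀ ω : Ω, ω ≠ α → Nat.card (MulAction.orbit (MulAction.stabilizer G α) ω) = q) ∧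
      q ∣ p ^ d - 1 ∧ (∀ i : ℕ, 0 < i → i < d → ¬ q ∣ p ^ i - 1) ∧
      ∃ T : Subgroup G, T ≤ MulAction.stabilizer G α ∧ MulAction.stabilizer G α ≤ Subgroup.normalizer (T : Set G) ∧ Nat.card T = q ∧
        (∃ h : G, MulAction.stabilizer G α = T ⊔ Subgroup.zpowers h) ∧ Nat.card (MulAction.stabilizer G α) ∣ q * d := by
  have : Fact p.Prime := ⟨hp⟩
  obtain ⟨hd, V, hVn, hV, hVcomm, hVexp, q, b, hq, hb1, hbq, hqdiv, hTn, hcent, horb, htr⟩ :=
    solvEP_step1 p d hp hcard hprim hH hep α
  have : Fact q.Prime := ⟨hq⟩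
  obtain ⟨hc, C, iG, iC, hcC, Θ, hΘ⟩ :=
    solvEP_step2 p d hcard hprim α V hV hVcomm hVexp q b hbq hTn hcent htr
  refine ⟨q, hq, horb, hqdiv, hc, Subgroup.zpowers (b : G), ?_, ?_, ?_, ?_, ?_⟩
  · rw [Subgroup.zpowers_le]; exact b.2
  · -- normalizer
    have hconj : ∀ x : stabilizer G α, ∀ n ∈ Subgroup.zpowers (b : G),
        (x : G) * n * (x : G)⁻¹ ∈ Subgroup.zpowers (b : G) := by
      intro x n hn
      obtain ⟨k, rfl⟩ := Subgroup.mem_zpowers_iff.mp hn
      have hmem : x * b ^ k * x⁻¹ ∈ Subgroup.zpowers b :=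
        hTn.conj_mem _ (Subgroup.zpow_mem _ (Subgroup.mem_zpowers b) k) x
      obtain ⟨j, hj⟩ := Subgroup.mem_zpowers_iff.mp hmem
      rw [Subgroup.mem_zpowers_iff]
      refine ⟨j, ?_⟩
      have := congrArg Subtype.val hj
      simpa using this
    intro x hx
    rw [Subgroup.mem_set_normalizer_iff]
    intro n
    constructor
    · intro hn
      exact hconj ⟨x, hx⟩ n hn
    · intro hn
      have := hconj (⟨x, hx⟩⁻¹ : stabilizer G α) _ hn
      simpa [mul_assoc] using this
  · rw [Nat.card_zpowers, Subgroup.orderOf_coe]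
    exact orderOf_eq_prime hbq hb1
  · obtain ⟨h₀, hgen⟩ := exists_gen_mod_ker Θ
    refine ⟨(h₀ : G), le_antisymm ?_ ?_⟩
    · intro x hx
      obtain ⟨t, ht, k, hk⟩ := hgen ⟨x, hx⟩
      rw [hΘ] at ht
      obtain ⟨j, rfl⟩ := Subgroup.mem_zpowers_iff.mp ht
      have hx' : x = (b : G) ^ j * (h₀ : G) ^ k := by
        have := congrArg Subtype.val hk
        simpa using this
      rw [hx']
      exact Subgroup.mul_mem_sup (Subgroup.zpow_mem _ (Subgroup.mem_zpowers _) j)
        (Subgroup.zpow_mem _ (Subgroup.mem_zpowers _) k)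
    · rw [sup_le_iff, Subgroup.zpowers_le, Subgroup.zpowers_le]
      exact ⟨b.2, h₀.2⟩
  · have hfinC : Finite C := Nat.finite_of_card_ne_zero (by rw [hcC]; omega)
    have h1 := card_dvd_of_hom Θ
    rw [hΘ, Nat.card_zpowers, orderOf_eq_prime hbq hb1, hcC] at h1
    exact h1

end Cfsg.Agent.S3496
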