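import Mathlib
import Cfsg.Statements.S3497
import Cfsg.Agent.Lib.Helper58.ExtPrim

set_option autoImplicit false
open Cfsg

namespace Cfsg.Agent.S3497

open Cfsg.Agent.Helper58 MulAction

theorem main {H : Type*} [Group H] [Finite H] {Ω : Type*} [Fintype Ω] [MulAction H Ω] {α : Ω}
    (hE : EPStab H Ω α) {ω : Ω} (hω : ω ≠ α) (hH : Nontrivial H)
    (hHp : ¬ (Nat.card H).Prime) :
    Subgroup.center H = ⊥ ∧
    IsMulCommutative (Cfsg.fittingSubgroup H) ∧
    ∃ p e : ℕ, p.Prime ∧ Nat.card (Cfsg.fittingSubgroup H) = p ^ e ∧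
      (∀ x ∈ Cfsg.fittingSubgroup H, x ^ p = 1) ∧
      (Cfsg.fittingSubgroup H ≠ ⊥ →
        p ^ e ∣ Fintype.card Ω - 1 ∧
        ∃ φ : H →* GL (Fin e) (ZMod p), φ.ker = Cfsg.fittingSubgroup H) := by
  have hFn : (Cfsg.fittingSubgroup H).Normal := Helper70.fittingSubgroup_normal H
  have hFnil : Group.IsNilpotent (Cfsg.fittingSubgroup H) := Helper70.fittingSubgroup_isNilpotent H
  have hcomm := hE.comm_of_nilpotent (Cfsg.fittingSubgroup H) hω
  refine ⟨hE.center_eq_bot hω hH hHp, ⟨⟨fun a b => Subtype.ext (hcomm a a.2 b b.2)⟩⟩, ?_⟩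
  by_cases hF : Cfsg.fittingSubgroup H = ⊥
  · refine ⟨2, 0, Nat.prime_two, ?_, ?_, fun h => absurd hF h⟩
    · rw [hF, Subgroup.card_bot, pow_zero]
    · intro x hx
      rw [hF, Subgroup.mem_bot] at hx
      rw [hx, one_pow]
  obtain ⟨p, e, hp, hcard, hexp⟩ := hE.exists_prime_exponent hω (Cfsg.fittingSubgroup H) hF hcomm
  refine ⟨p, e, hp, hcard, hexp, fun _ => ⟨?_, ?_⟩⟩
  · have : Fintype (Cfsg.fittingSubgroup H) := Fintype.ofFinite _
    have hle : Cfsg.fittingSubgroup H ≤ Subgroup.centralizer (Cfsg.fittingSubgroup H : Set H) := by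
      intro a ha
      rw [Subgroup.mem_centralizer_iff]
      intro b hb
      exact hcomm b hb a ha
    have hd := card_dvd_card_sub_one_of_free (F := Cfsg.fittingSubgroup H) (X := Ω) α
      (fun f => hE.fix f) (by
        intro f hf x hx
        by_contra hxα
        apply hf
        exact Subtype.ext
          (hE.eq_one_of_centralizer (Cfsg.fittingSubgroup H) hF hxα (f : H) (hle f.2) hx))
    rw [← Nat.card_eq_fintype_card, hcard] at hd
    exact hd
  · have : Fact p.Prime := ⟨hp⟩
    obtain ⟨φ, hφ⟩ := exists_hom_GL_ker_eq_centralizer (Cfsg.fittingSubgroup H) p e hcomm hexp hcard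
    exact ⟨φ, by rw [hφ, hE.centralizer_eq (Cfsg.fittingSubgroup H) hF hcomm hω]⟩

/-- Restrictions on the point stabilizer of an extremely primitive group. Let a finite group G act faithfully and primitively on a finite set Ω with point stabilizers H = G_α whose order is neither 1 nor a prime, each acting primitively on every one of its orbits. Then H has trivial center, the Fitting subgroup F(H) is an elementary abelian p-group for some prime p, and if F(H) ≠ 1 has order p ^ e then p ^ e divides the number of points minus one and H / F(H) embeds in GL_e(p) (there is a homomorphism from H to GL_e(p) with kernel exactly F(H)). -/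
theorem result {G : Type*} [Group G] [Finite G] {Ω : Type*} [Fintype Ω] [MulAction G Ω] [FaithfulSMul G Ω] (hprim : MulAction.IsPreprimitive G Ω) (hep : ∀ (α : Ω) (ω : Ω), MulAction.IsPreprimitive (MulAction.stabilizer G α) (MulAction.orbit (MulAction.stabilizer G α) ω)) (α : Ω)
    (hH1 : MulAction.stabilizer G α ≠ ⊥) (hHp : ¬ (Nat.card (MulAction.stabilizer G α)).Prime) :
    Subgroup.center (MulAction.stabilizer G α) = ⊥ ∧
    IsMulCommutative (Cfsg.fittingSubgroup (MulAction.stabilizer G α)) ∧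
    ∃ p e : ℕ, p.Prime ∧ Nat.card (Cfsg.fittingSubgroup (MulAction.stabilizer G α)) = p ^ e ∧
      (∀ x ∈ Cfsg.fittingSubgroup (MulAction.stabilizer G α), x ^ p = 1) ∧
      (Cfsg.fittingSubgroup (MulAction.stabilizer G α) ≠ ⊥ →
        p ^ e ∣ Fintype.card Ω - 1 ∧
        ∃ φ : MulAction.stabilizer G α →* GL (Fin e) (ZMod p), φ.ker = Cfsg.fittingSubgroup (MulAction.stabilizer G α)) := by
  have hE : EPStab (stabilizer G α) Ω α := by
    refine ⟨fun h => h.2, fun ω => hep α ω, ?_⟩
    intro ω hω h hh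
    have hm := manning hprim hep α ω hω
    have : (h : G) ∈ kerOn (stabilizer G α) (orbit (stabilizer G α) ω) := ⟨h.2, fun x hx => hh x hx⟩
    rw [hm, Subgroup.mem_bot] at this
    exact Subtype.ext this
  have hnt : Nontrivial (stabilizer G α) := (Subgroup.nontrivial_iff_ne_bot _).mpr hH1
  obtain ⟨h, hh⟩ := exists_ne (1 : stabilizer G α)
  have hex : ∃ ω : Ω, (h : G) • ω ≠ ω := by
    by_contra hcon
    push Not at hcon
    apply hh
    apply Subtype.ext
    apply FaithfulSMul.eq_of_smul_eq_smul (α := Ω)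
    intro ω
    rw [hcon ω]; exact (one_smul G ω).symm
  obtain ⟨ω, hω⟩ := hex
  have hωα : ω ≠ α := by
    rintro rfl
    exact hω h.2
  exact main hE hωα hnt hHp

end Cfsg.Agent.S3497
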