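import Cfsg.Statements.S3498
import Mathlib

set_option autoImplicit false
open Cfsg

namespace Cfsg.Agent.S3498

open Subgroup

/-- Steps 1-5: `H ⊓ T = ⊥` and `p ∤ |T|`. -/
theorem step15 {G : Type*} [Group G] [Finite G] (T : Subgroup G) [T.Normal] (hT : IsSimpleGroup T)
    (hTc : ¬ IsMulCommutative T) (hC : Subgroup.centralizer (T : Set G) = ⊥) (H : Subgroup G)
    (hmax : IsCoatom H) (p : ℕ) [hp : Fact p.Prime] (hcard : Nat.card H = p) :
    H ⊓ T = ⊥ ∧ ¬ p ∣ Nat.card T := by
  have hHcyc : IsCyclic H := isCyclic_of_prime_card hcard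
  have hHcomm : ∀ a ∈ H, ∀ b ∈ H, a * b = b * a := by
    intro a ha b hb
    have hc : IsMulCommutative H := IsCyclic.isMulCommutative
    have := mul_comm' (⟨a, ha⟩ : H) ⟨b, hb⟩
    exact congrArg Subtype.val this
  have hHbot : H ≠ ⊥ := by
    intro h
    rw [h] at hcard
    simp at hcard
    exact hp.out.ne_one hcard.symm
  -- Step 1: H is not normal
  have hnotnormal : ¬ H.Normal := by
    intro hn
    by_cases hle : H ≤ T
    · have hn' : (H.subgroupOf T).Normal := inferInstance
      rcases hT.eq_bot_or_eq_top_of_normal _ hn' with h | h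
      · rw [Subgroup.subgroupOf_eq_bot] at h
        have : H = ⊥ := by
          have h2 := h.eq_bot
          rwa [inf_eq_left.mpr hle] at h2
        exact hHbot this
      · rw [Subgroup.subgroupOf_eq_top] at h
        apply hTc
        constructor
        constructor
        intro a b
        exact Subtype.ext (hHcomm a (h a.2) b (h b.2))
    · have hdis : Disjoint H T := by
        rw [disjoint_iff]
        have hdvd : Nat.card (H ⊓ T : Subgroup G) ∣ p := by
          rw [← hcard]; exact Subgroup.card_dvd_of_le inf_le_left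
        rcases (Nat.dvd_prime hp.out).mp hdvd with h1 | h1
        · exact Subgroup.eq_bot_of_card_eq _ h1
        · exfalso
          apply hle
          have : H ⊓ T = H := Subgroup.eq_of_le_of_card_ge inf_le_left (by rw [h1, hcard])
          rw [← this]; exact inf_le_right
      have : H ≤ Subgroup.centralizer (T : Set G) := by
        intro h hh t ht
        exact (Subgroup.commute_of_normal_of_disjoint H T hn inferInstance hdis h t hh ht).eq.symm
      rw [hC] at this
      exact hHbot (le_bot_iff.mp this)
  -- Step 2: normalizer H = H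
  have hnorm : Subgroup.normalizer (H : Set G) = H := by
    have hle : H ≤ Subgroup.normalizer (H : Set G) := Subgroup.le_normalizer
    rcases eq_or_lt_of_le hle with h | h
    · exact h.symm
    · have := hmax.2 _ h
      exact absurd (Subgroup.normalizer_eq_top_iff.mp this) hnotnormal
  -- Step 3: p ∤ H.index
  have hidx : ¬ p ∣ H.index := by
    have hmod := Sylow.card_quotient_normalizer_modEq_card_quotient (H := H) (p := p) (n := 1)
      (by rw [hcard, pow_one])
    have h1 : Nat.card (Subgroup.normalizer (H : Set G) ⧸
        H.comap (Subgroup.normalizer (H : Set G)).subtype) = 1 := by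
      have : H.comap (Subgroup.normalizer (H : Set G)).subtype = ⊤ := by
        rw [eq_top_iff]
        intro x _
        rw [Subgroup.mem_comap]
        have hx : (x : G) ∈ Subgroup.normalizer (H : Set G) := x.2
        have hle : Subgroup.normalizer (H : Set G) ≤ H := hnorm.le
        exact hle hx
      rw [this]
      exact Subgroup.index_top
    rw [h1] at hmod
    intro hdvd
    have h0 : Nat.card (G ⧸ H) ≡ 0 [MOD p] := (Nat.modEq_zero_iff_dvd).mpr hdvd
    have := hmod.trans h0
    have h2 : p ∣ 1 := (Nat.modEq_zero_iff_dvd).mp this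
    exact hp.out.one_lt.ne' (Nat.dvd_one.mp h2)
  -- Step 4: Sylow and Burnside
  have hPG : IsPGroup p H := IsPGroup.of_card (n := 1) (by rw [hcard, pow_one])
  let P : Sylow p G := hPG.toSylow hidx
  have hPH : (P : Subgroup G) = H := IsPGroup.toSylow_coe hPG hidx
  have hP : Subgroup.normalizer ((P : Subgroup G) : Set G) ≤ Subgroup.centralizer ((P : Subgroup G) : Set G) := by
    rw [hPH, hnorm]
    intro h hh x hx
    exact hHcomm x hx h hh
  set K := (MonoidHom.transferSylow P hP).ker with hK
  have hKP : IsComplement' K P := MonoidHom.ker_transferSylow_isComplement' P hP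
  have hKp : ¬ p ∣ Nat.card K := MonoidHom.not_dvd_card_ker_transferSylow P hP
  have hKH : Disjoint K H := MonoidHom.ker_transferSylow_disjoint P hP H hPG
  have hKn : K.Normal := MonoidHom.normal_ker _
  -- Step 5: T ≤ K
  have hTK : T ≤ K := by
    have hn' : ((T ⊓ K).subgroupOf T).Normal := inferInstance
    rcases hT.eq_bot_or_eq_top_of_normal _ hn' with h | h
    · exfalso
      rw [Subgroup.subgroupOf_eq_bot] at h
      have hdis : Disjoint T K := by
        rw [disjoint_iff] at h ⊢
        rw [inf_comm, ← inf_assoc, inf_idem] at h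
        exact h
      have hle : K ≤ Subgroup.centralizer (T : Set G) := by
        intro k hk t ht
        exact (Subgroup.commute_of_normal_of_disjoint T K inferInstance hKn hdis t k ht hk).eq
      rw [hC] at hle
      have hKbot : K = ⊥ := le_bot_iff.mp hle
      rw [hKbot, Subgroup.isComplement'_bot_left, hPH] at hKP
      exact hmax.1 hKP
    · rw [Subgroup.subgroupOf_eq_top] at h
      exact le_trans h inf_le_right
  constructor
  · have := hKH.symm.mono_right hTK
    exact disjoint_iff.mp this
  · intro hdvd
    exact hKp (dvd_trans hdvd (Subgroup.card_dvd_of_le hTK))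

open scoped Pointwise in
/-- A maximal subgroup of a finite almost simple group does not have prime order. Here G is almost simple in the sense that it has a non-abelian simple normal subgroup T with trivial centralizer. -/
theorem result {G : Type*} [Group G] [Finite G] (T : Subgroup G) [T.Normal] (hT : IsSimpleGroup T) (hTc : ¬ IsMulCommutative T)
    (hC : Subgroup.centralizer (T : Set G) = ⊥) (H : Subgroup G) (hmax : IsCoatom H) : ¬ (Nat.card H).Prime := by
  intro hprime
  have : Fact (Nat.card H).Prime := ⟨hprime⟩
  obtain ⟨hHT, hpT⟩ := step15 T hT hTc hC H hmax (Nat.card H) rfl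
  -- a prime r dividing |T|
  have : Nontrivial T := hT.toNontrivial
  have h1 : Nat.card T ≠ 1 := (Finite.one_lt_card (α := T)).ne'
  obtain ⟨r, hr, hrT⟩ := Nat.exists_prime_and_dvd h1
  have : Fact r.Prime := ⟨hr⟩
  -- the image of H in ConjAct G
  let A : Subgroup (ConjAct G) := H.map (ConjAct.toConjAct (G := G)).toMonoidHom
  have hPH : IsPGroup (Nat.card H) H := IsPGroup.of_card (n := 1) (by rw [pow_one])
  have hA : IsPGroup (Nat.card H) A := hPH.map _
  have hcardS : ¬ Nat.card H ∣ Nat.card (Sylow r T) := by
    obtain ⟨R0⟩ : Nonempty (Sylow r T) := inferInstance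
    intro h
    exact hpT (dvd_trans h (dvd_trans (Sylow.card_dvd_index R0) (Subgroup.index_dvd_card _)))
  obtain ⟨R, hR⟩ := hA.nonempty_fixed_point_of_prime_not_dvd_card (Sylow r T) hcardS
  rw [MulAction.mem_fixedPoints] at hR
  have hinv : ∀ h ∈ H, ∀ t : T, t ∈ R → (ConjAct.toConjAct h) • t ∈ R := by
    intro h hh t ht
    have ha : ConjAct.toConjAct h ∈ A := Subgroup.mem_map_of_mem _ hh
    have hfix := hR ⟨ConjAct.toConjAct h, ha⟩
    have hmem : (ConjAct.toConjAct h) • t ∈ ((⟨ConjAct.toConjAct h, ha⟩ : A) • R : Sylow r T) := by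
      change (ConjAct.toConjAct h) • t ∈ ((ConjAct.toConjAct h) • (R : Subgroup T))
      exact Subgroup.smul_mem_pointwise_smul t _ _ ht
    rw [hfix] at hmem
    exact hmem
  -- the image of R in G
  set R' : Subgroup G := (R : Subgroup T).map T.subtype with hR'
  have hR'T : R' ≤ T := Subgroup.map_subtype_le _
  have hconj : ∀ h ∈ H, ∀ x ∈ R', h * x * h⁻¹ ∈ R' := by
    intro h hh x hx
    obtain ⟨t, ht, rfl⟩ := hx
    refine ⟨(ConjAct.toConjAct h) • t, hinv h hh t ht, ?_⟩
    change ((ConjAct.toConjAct h • t : T) : G) = h * (t : G) * h⁻¹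
    rw [ConjAct.Subgroup.val_conj_smul, ConjAct.toConjAct_smul]
  have hnorm : H ≤ Subgroup.normalizer (R' : Set G) := by
    intro h hh
    rw [Subgroup.mem_normalizer_iff]
    intro x
    constructor
    · exact hconj h hh x
    · intro hx
      have := hconj h⁻¹ (H.inv_mem hh) _ hx
      simpa [mul_assoc] using this
  have hR'bot : R' ≠ ⊥ := by
    intro h
    rw [hR', Subgroup.map_eq_bot_iff_of_injective _ T.subtype_injective] at h
    exact (Sylow.ne_bot_of_dvd_card R hrT) h
  -- the subgroup H ⊔ R'
  have hle : H ≤ R' ⊔ H := le_sup_right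
  rcases eq_or_lt_of_le hle with h | h
  · -- R' ≤ H
    have h2 : R' ≤ H ⊓ T := le_inf (by rw [h]; exact le_sup_left) hR'T
    rw [hHT] at h2
    exact hR'bot (le_bot_iff.mp h2)
  · have htop := hmax.2 _ h
    -- T ≤ R'
    have hTR' : T ≤ R' := by
      intro t ht
      have hmem : t ∈ ((R' ⊔ H : Subgroup G) : Set G) := by rw [htop]; trivial
      rw [Subgroup.coe_mul_of_right_le_normalizer_left R' H hnorm] at hmem
      obtain ⟨x, hx, y, hy, hxy⟩ := hmem
      have hyT : y ∈ T := by
        have : y = x⁻¹ * t := by rw [← hxy]; group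
        rw [this]
        exact T.mul_mem (T.inv_mem (hR'T hx)) ht
      have hy1 : y ∈ H ⊓ T := ⟨hy, hyT⟩
      rw [hHT, Subgroup.mem_bot] at hy1
      have hxt : x = t := by
        have : x * y = t := hxy
        rw [hy1, mul_one] at this
        exact this
      rw [← hxt]
      exact hx
    -- so R = ⊤ in T, T is an r-group
    have hRtop : (R : Subgroup T) = ⊤ := by
      rw [eq_top_iff]
      intro t _
      obtain ⟨t', ht', htt'⟩ := hTR' t.2
      have : t' = t := Subtype.ext htt'
      rw [← this]; exact ht'
    have hTr : IsPGroup r T := by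
      have := R.isPGroup'
      rw [hRtop] at this
      exact this.of_equiv Subgroup.topEquiv
    have hnil : Group.IsNilpotent T := hTr.isNilpotent
    have hsol : Group.IsSolvable T := inferInstance
    apply hTc
    constructor
    constructor
    exact IsSimpleGroup.comm_iff_isSolvable.mpr hsol

end Cfsg.Agent.S3498
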