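import Mathlib
import Cfsg.Statements.S3501
import Cfsg.Agent.Lib.Helper58.DerClassNA
-- import your own Cfsg.Agent.* helpers here

set_option autoImplicit false
open Cfsg

namespace Cfsg.Agent.S3501

open Cfsg.Agent.Helper58 MulAction in
/-- Let a finite group G act faithfully and primitively on a finite set Ω with at least two points, and suppose G is not almost simple (it has no non-abelian simple normal subgroup with trivial centralizer). Then the derangements of G form a single conjugacy class if and only if G is sharply 2-transitive (2-transitive, and no non-identity element fixes two points). -/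
theorem result {G : Type*} [Group G] [Finite G] {Ω : Type*} [Fintype Ω] [MulAction G Ω] [FaithfulSMul G Ω] (hΩ : 2 ≤ Fintype.card Ω) (hprim : MulAction.IsPreprimitive G Ω) (hnas : ¬ ∃ T : Subgroup G, T.Normal ∧ IsSimpleGroup T ∧ ¬ IsMulCommutative T ∧ Subgroup.centralizer (T : Set G) = ⊥) :
    Nat.card {c : ConjClasses G // ∃ g : G, ConjClasses.mk g = c ∧ ∀ ω : Ω, g • ω ≠ ω} = 1 ↔ (MulAction.IsMultiplyPretransitive G Ω 2 ∧ ∀ g : G, g ≠ 1 → ∀ a b : Ω, a ≠ b → g • a = a → g • b ≠ b) := by
  have hcardΩ : Nat.card Ω = Fintype.card Ω := Nat.card_eq_fintype_card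
  have hΩ' : 2 ≤ Nat.card Ω := by omega
  constructor
  · intro hcard
    have hcard' : Nat.card (DC G Ω) = 1 := hcard
    rcases three_le_or_exists_regular_abelian hΩ' hprim hnas with h3 | ⟨N, hNn, hN, hcomm, htr, hfree⟩
    · omega
    · obtain ⟨v, hvN, hv⟩ := exists_der_mem N htr hΩ'
      have hder : ∀ g : G, (∀ ω : Ω, g • ω ≠ ω) → g ∈ N := by
        intro g hg
        obtain ⟨k, hk⟩ := isConj_iff.mp (isConj_of_card_DC_eq_one hcard' hv hg)
        rw [← hk]
        exact hNn.conj_mem v hvN k
      have hfree' : ∀ n ∈ N, n ≠ 1 → ∀ ω : Ω, n • ω ≠ ω :=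
        fun n hn hn1 ω hω => hn1 (hfree n hn ω hω)
      have hconj : ∀ u ∈ N, ∀ v ∈ N, u ≠ 1 → v ≠ 1 → IsConj u v :=
        fun u hu v hv hu1 hv1 =>
          isConj_of_card_DC_eq_one hcard' (hfree' u hu hu1) (hfree' v hv hv1)
      have := hprim.toIsPretransitive
      refine ⟨two_trans_of_conj N hcomm htr hconj, ?_⟩
      intro g hg a b hab ha hb
      exact hab (eq_of_card_fixedBy_le_one (card_fixedBy_le_one N hfree' hder g hg) ha hb)
  · rintro ⟨h2, hsharp⟩
    exact card_DC_eq_one_of_sharp2 hΩ' h2 hsharp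

end Cfsg.Agent.S3501
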