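import Cfsg.Statements.S3504
import Mathlib

set_option autoImplicit false
open Cfsg

namespace Cfsg.Agent.S3504

open Equiv Equiv.Perm

/-- cycle type of a fixed-point-free permutation of prime order -/
theorem cycleType_of_fpf {n : ℕ} {g : Perm (Fin n)} (hg : (orderOf g).Prime)
    (hfix : ∀ i : Fin n, g i ≠ i) :
    orderOf g ∣ n ∧ g.cycleType = Multiset.replicate (n / orderOf g) (orderOf g) := by
  obtain ⟨k, hk⟩ := cycleType_prime_order hg
  have hsum := sum_cycleType g
  have hsupp : g.support = Finset.univ := by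
    ext i
    simp [hfix i]
  rw [hsupp, Finset.card_univ, Fintype.card_fin, hk, Multiset.sum_replicate, smul_eq_mul] at hsum
  have hdvd : orderOf g ∣ n := Dvd.intro_left (k + 1) hsum
  refine ⟨hdvd, ?_⟩
  rw [hk]
  congr 1
  exact (Nat.div_eq_of_eq_mul_left hg.pos hsum.symm).symm

/-- existence of a fixed-point-free permutation of prime order `p` when `p ∣ n` -/
theorem exists_fpf {n p : ℕ} (hn : 0 < n) (hp : p.Prime) (hpn : p ∣ n) :
    ∃ g : Perm (Fin n), g.cycleType = Multiset.replicate (n / p) p ∧ orderOf g = p ∧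
      ∀ i : Fin n, g i ≠ i := by
  have hsum : (Multiset.replicate (n / p) p).sum = n := by
    rw [Multiset.sum_replicate, smul_eq_mul, Nat.div_mul_cancel hpn]
  obtain ⟨g, hg⟩ := (Equiv.Perm.exists_with_cycleType_iff (α := Fin n)
    (m := Multiset.replicate (n / p) p)).mpr ⟨by rw [hsum, Fintype.card_fin], by
      intro a ha
      rw [Multiset.eq_of_mem_replicate ha]
      exact hp.two_le⟩
  have hnp : 0 < n / p := Nat.div_pos (Nat.le_of_dvd hn hpn) hp.pos
  refine ⟨g, hg, ?_, ?_⟩
  · rw [← lcm_cycleType, hg]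
    obtain ⟨k, hk⟩ := Nat.exists_eq_succ_of_ne_zero hnp.ne'
    rw [hk, Multiset.replicate_succ, Multiset.lcm_cons]
    have : (Multiset.replicate k p).lcm ∣ p := by
      apply Multiset.lcm_dvd.mpr
      intro a ha
      rw [Multiset.eq_of_mem_replicate ha]
    exact Nat.lcm_eq_left this |>.trans rfl |> fun h => by simpa [lcm_eq_nat_lcm] using h
  · have hcard : g.support.card = n := by
      rw [← sum_cycleType, hg, hsum]
    have hsupp : g.support = Finset.univ := by
      apply Finset.eq_univ_of_card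
      rw [hcard, Fintype.card_fin]
    intro i
    have : i ∈ g.support := by rw [hsupp]; exact Finset.mem_univ i
    exact mem_support.mp this

/-- For n ≥ 5, the fixed-point-free permutations of prime order in the symmetric group of degree n form a single conjugacy class if and only if n is a prime power. -/
theorem result (n : ℕ) (hn : 5 ≤ n) :
    Nat.card {c : ConjClasses (Equiv.Perm (Fin n)) // ∃ g : Equiv.Perm (Fin n), ConjClasses.mk g = c ∧ (orderOf g).Prime ∧ ∀ i : Fin n, g i ≠ i} = 1 ↔ IsPrimePow n := by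
  have hn0 : 0 < n := by omega
  rw [isPrimePow_iff_card_primeFactors_eq_one]
  suffices h : Nat.card {c : ConjClasses (Equiv.Perm (Fin n)) // ∃ g : Equiv.Perm (Fin n), ConjClasses.mk g = c ∧ (orderOf g).Prime ∧ ∀ i : Fin n, g i ≠ i} = n.primeFactors.card by
    rw [h]
  have key : ∀ p : n.primeFactors, ∃ g : Perm (Fin n),
      g.cycleType = Multiset.replicate (n / p.1) p.1 ∧ orderOf g = p.1 ∧ ∀ i : Fin n, g i ≠ i := by
    intro p
    have hp := Nat.prime_of_mem_primeFactors p.2
    have hpn := Nat.dvd_of_mem_primeFactors p.2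
    exact exists_fpf hn0 hp hpn
  choose G hG1 hG2 hG3 using key
  let f : n.primeFactors → {c : ConjClasses (Equiv.Perm (Fin n)) // ∃ g : Equiv.Perm (Fin n), ConjClasses.mk g = c ∧ (orderOf g).Prime ∧ ∀ i : Fin n, g i ≠ i} :=
    fun p => ⟨ConjClasses.mk (G p), G p, rfl, by
      rw [hG2 p]; exact Nat.prime_of_mem_primeFactors p.2, hG3 p⟩
  have hf : Function.Bijective f := by
    constructor
    · intro p p' h
      have h1 : ConjClasses.mk (G p) = ConjClasses.mk (G p') := congrArg Subtype.val h
      rw [ConjClasses.mk_eq_mk_iff_isConj, isConj_iff_cycleType_eq, hG1 p, hG1 p'] at h1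
      have hp := Nat.prime_of_mem_primeFactors p.2
      have hpn := Nat.dvd_of_mem_primeFactors p.2
      have hnp : 0 < n / p.1 := Nat.div_pos (Nat.le_of_dvd hn0 hpn) hp.pos
      have hmem : p.1 ∈ Multiset.replicate (n / p.1) p.1 := by
        rw [Multiset.mem_replicate]
        exact ⟨hnp.ne', rfl⟩
      rw [h1] at hmem
      exact Subtype.ext (Multiset.eq_of_mem_replicate hmem)
    · rintro ⟨c, g, rfl, hg, hfix⟩
      obtain ⟨hdvd, hct⟩ := cycleType_of_fpf hg hfix
      have hmem : orderOf g ∈ n.primeFactors :=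
        Nat.mem_primeFactors.mpr ⟨hg, hdvd, hn0.ne'⟩
      refine ⟨⟨orderOf g, hmem⟩, ?_⟩
      apply Subtype.ext
      change ConjClasses.mk (G ⟨orderOf g, hmem⟩) = ConjClasses.mk g
      rw [ConjClasses.mk_eq_mk_iff_isConj, isConj_iff_cycleType_eq, hG1, hct]
  rw [← Nat.card_congr (Equiv.ofBijective f hf)]
  exact Nat.card_eq_finsetCard n.primeFactors

end Cfsg.Agent.S3504
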