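import Mathlib
import Cfsg.Statements.S3508
import Cfsg.Agent.Lib.Helper58.AffineP

set_option autoImplicit false
open Cfsg

namespace Cfsg.Agent.S3508

open Cfsg.Agent.Helper58

theorem arith2 (k : ℕ) (hk : 2 ≤ k) : k + 1 < 2 ^ k := by
  induction k, hk using Nat.le_induction with
  | base => norm_num
  | succ k hk ih => rw [pow_succ]; omega

theorem arith3 (k : ℕ) (hk : 1 ≤ k) : k + 1 < 3 ^ k := by
  induction k, hk using Nat.le_induction with
  | base => norm_num
  | succ k hk ih => rw [pow_succ]; omega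

theorem main {G : Type*} [Group G] [Finite G] {Ω : Type*} [Fintype Ω] [MulAction G Ω]
    [FaithfulSMul G Ω] (p m : ℕ) (hp : p.Prime) (hcard : Fintype.card Ω = p ^ m)
    (N : Subgroup G) [N.Normal] (hNc : IsMulCommutative N) (hNp : ∀ n ∈ N, n ^ p = 1)
    (hNtr : MulAction.IsPretransitive N Ω) (hNreg : ∀ ω : Ω, MulAction.stabilizer N ω = ⊥)
    (g : G) (r : ℕ) (hr : 1 ≤ r) (hg : orderOf g = p ^ r) :
    p ^ (r - 1) ≤ m := by
  by_contra hlt
  rw [not_le] at hlt
  have : Fact p.Prime := ⟨hp⟩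
  let _inst : CommGroup N := { (inferInstance : Group N) with mul_comm := fun a b => mul_comm' a b }
  -- card N = p ^ m
  have hne : Nonempty Ω := by
    rw [← Fintype.card_pos_iff, hcard]; exact Nat.pos_of_ne_zero (pow_ne_zero _ hp.ne_zero)
  have hcN : Nat.card N = p ^ m := by
    obtain ⟨ω₀⟩ := hne
    rw [← hcard, ← Nat.card_eq_fintype_card]
    refine Nat.card_congr (Equiv.ofBijective (fun n : N => n • ω₀) ⟨?_, ?_⟩)
    · intro a b hab
      have : b⁻¹ * a ∈ MulAction.stabilizer N ω₀ := by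
        rw [MulAction.mem_stabilizer_iff, mul_smul]
        change b⁻¹ • (a • ω₀) = ω₀
        rw [show a • ω₀ = b • ω₀ from hab, inv_smul_smul]
      rw [hNreg, Subgroup.mem_bot] at this
      exact (inv_mul_eq_one.mp this).symm
    · intro ω
      exact MulAction.exists_smul_eq N ω₀ ω
  have hA : ∀ a : N, a ^ p = 1 := fun a => Subtype.ext (by simpa using hNp a a.2)
  set φ : MulAut N := MulAut.conjNormal g with hφdef
  have hφ : φ ^ (p ^ r) = 1 := by
    rw [hφdef, ← map_pow, ← hg, pow_orderOf_eq_one, map_one]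
  -- g ^ q fixes every point
  have hfix : ∀ ω : Ω, g ^ (p ^ (r - 1)) • ω = ω := by
    intro ω₀
    obtain ⟨n₀, hn₀⟩ := MulAction.exists_smul_eq N ω₀ (g • ω₀)
    have key : ∀ k : ℕ, g ^ k • ω₀ = (∏ i ∈ Finset.range k, (φ ^ i) n₀) • ω₀ := by
      intro k
      induction k with
      | zero => simp
      | succ k ih =>
        rw [pow_succ', mul_smul, ih, Finset.prod_range_succ']
        simp only [pow_succ', pow_zero, MulAut.one_apply, MulAut.mul_apply]
        rw [← map_prod, mul_smul, hn₀]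
        change g • ((∏ i ∈ Finset.range k, (φ ^ i) n₀ : N) : G) • ω₀ =
          ((φ (∏ i ∈ Finset.range k, (φ ^ i) n₀) : N) : G) • g • ω₀
        rw [hφdef, MulAut.conjNormal_apply, mul_smul, mul_smul, inv_smul_smul]
    rw [key, prod_pow_aut_eq_one p hA φ m (r - 1) r hcN hφ hlt n₀, one_smul]
  have h1 : g ^ (p ^ (r - 1)) = 1 := by
    apply FaithfulSMul.eq_of_smul_eq_smul (α := Ω)
    intro ω
    rw [hfix, one_smul]
  have hdvd := orderOf_dvd_of_pow_eq_one h1
  rw [hg] at hdvd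
  have := (Nat.pow_dvd_pow_iff_le_right hp.one_lt).mp hdvd
  omega

theorem result {G : Type*} [Group G] [Finite G] {Ω : Type*} [Fintype Ω] [MulAction G Ω] [FaithfulSMul G Ω] (p m : ℕ) (hp : p.Prime) (hcard : Fintype.card Ω = p ^ m)
    (N : Subgroup G) [N.Normal] (hNc : IsMulCommutative N) (hNp : ∀ n ∈ N, n ^ p = 1)
    (hNtr : MulAction.IsPretransitive N Ω) (hNreg : ∀ ω : Ω, MulAction.stabilizer N ω = ⊥)
    (g : G) (r : ℕ) (hr : 1 ≤ r) (hg : orderOf g = p ^ r) :
    p ^ (r - 1) ≤ m ∧ (r = m → m ≤ 2 ∧ (2 < p → m ≤ 1)) := by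
  have h := main p m hp hcard N hNc hNp hNtr hNreg g r hr hg
  refine ⟨h, ?_⟩
  rintro rfl
  constructor
  · by_contra hcon
    rw [not_le] at hcon
    have h2 := arith2 (r - 1) (by omega)
    have h3 : 2 ^ (r - 1) ≤ p ^ (r - 1) := Nat.pow_le_pow_left hp.two_le _
    omega
  · intro hp2
    by_contra hcon
    rw [not_le] at hcon
    have h2 := arith3 (r - 1) (by omega)
    have h3 : 3 ^ (r - 1) ≤ p ^ (r - 1) := Nat.pow_le_pow_left hp2 _
    omega

end Cfsg.Agent.S3508
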