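import Cfsg.Statements.S3511
import Mathlib

set_option autoImplicit false
open Cfsg

namespace Cfsg.Agent.S3511

/-- Let a finite group G act faithfully on a set Ω. If every element of G of square-free order has a regular cycle (an orbit of the cyclic group it generates with trivial stabilizer), then every element of G has a regular cycle. -/
theorem result {G : Type*} [Group G] [Finite G] {Ω : Type*} [MulAction G Ω] [FaithfulSMul G Ω]
    (h : ∀ g : G, Squarefree (orderOf g) → ∃ ω : Ω, MulAction.stabilizer (Subgroup.zpowers g) ω = ⊥) (g : G) :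
    ∃ ω : Ω, MulAction.stabilizer (Subgroup.zpowers g) ω = ⊥ := by
  classical
  -- strong induction on the order of g
  suffices H : ∀ n : ℕ, ∀ g : G, orderOf g = n →
      ∃ ω : Ω, MulAction.stabilizer (Subgroup.zpowers g) ω = ⊥ from H _ g rfl
  intro n
  induction n using Nat.strong_induction_on with
  | _ n ih =>
    intro g hgn
    by_cases hsq : Squarefree (orderOf g)
    · exact h g hsq
    · rw [Nat.squarefree_iff_prime_squarefree] at hsq
      push Not at hsq
      obtain ⟨p, hp, hpp⟩ := hsq
      have hnpos : 0 < orderOf g := orderOf_pos g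
      have hpn : p ∣ orderOf g := dvd_trans (dvd_mul_right p p) hpp
      have hord : orderOf (g ^ p) = orderOf g / p := orderOf_pow_of_dvd hp.ne_zero hpn
      have hlt : orderOf (g ^ p) < n := by
        rw [hord, ← hgn]
        exact Nat.div_lt_self hnpos hp.one_lt
      obtain ⟨ω, hω⟩ := ih _ hlt (g ^ p) rfl
      refine ⟨ω, ?_⟩
      rw [eq_bot_iff]
      rintro ⟨x, hx⟩ hxs
      rw [MulAction.mem_stabilizer_iff] at hxs
      have hxω : x • ω = ω := hxs
      obtain ⟨k, hk⟩ := Subgroup.mem_zpowers_iff.mp hx
      -- x ^ p lies in zpowers (g^p) and fixes ω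
      have hxp_mem : x ^ p ∈ Subgroup.zpowers (g ^ p) := by
        rw [Subgroup.mem_zpowers_iff]
        refine ⟨k, ?_⟩
        rw [← hk, ← zpow_natCast, ← zpow_natCast, ← zpow_mul, ← zpow_mul, mul_comm]
      have hxp_fix : x ^ p • ω = ω := by
        have : ∀ m : ℕ, x ^ m • ω = ω := by
          intro m
          induction m with
          | zero => simp
          | succ m ihm => rw [pow_succ, mul_smul, hxω, ihm]
        exact this p
      have h1 : (⟨x ^ p, hxp_mem⟩ : Subgroup.zpowers (g ^ p)) ∈
          MulAction.stabilizer (Subgroup.zpowers (g ^ p)) ω := by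
        rw [MulAction.mem_stabilizer_iff]
        exact hxp_fix
      rw [hω, Subgroup.mem_bot] at h1
      have hxp1 : x ^ p = 1 := by
        have := congrArg Subtype.val h1
        simpa using this
      -- so g ^ (k * p) = 1
      have hgkp : g ^ (k * (p : ℤ)) = 1 := by
        rw [zpow_mul, hk, zpow_natCast, hxp1]
      have hdvd : (orderOf g : ℤ) ∣ k * (p : ℤ) := orderOf_dvd_iff_zpow_eq_one.mpr hgkp
      obtain ⟨c, hc⟩ := hpp
      -- orderOf g = p * p * c
      have hdvd2 : ((p : ℤ) * c) ∣ k := by
        have hp0 : (p : ℤ) ≠ 0 := by exact_mod_cast hp.ne_zero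
        have : ((p : ℤ) * c) * p ∣ k * p := by
          have e : ((p : ℤ) * c) * p = (orderOf g : ℤ) := by
            rw [hc]; push_cast; ring
          rw [e]; exact hdvd
        exact (mul_dvd_mul_iff_right hp0).mp this
      obtain ⟨j, hj⟩ := hdvd2
      have hx_mem : x ∈ Subgroup.zpowers (g ^ p) := by
        rw [Subgroup.mem_zpowers_iff]
        refine ⟨c * j, ?_⟩
        rw [← hk, hj, ← zpow_natCast, ← zpow_mul]
        congr 1
        ring
      have h2 : (⟨x, hx_mem⟩ : Subgroup.zpowers (g ^ p)) ∈
          MulAction.stabilizer (Subgroup.zpowers (g ^ p)) ω := by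
        rw [MulAction.mem_stabilizer_iff]
        exact hxω
      rw [hω, Subgroup.mem_bot] at h2
      have hx1 : x = 1 := by
        have := congrArg Subtype.val h2
        simpa using this
      rw [Subgroup.mem_bot]
      exact Subtype.ext hx1

end Cfsg.Agent.S3511
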