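import Cfsg.Statements.S3514
import Mathlib

set_option autoImplicit false
open Cfsg

namespace Cfsg.Agent.S3514

theorem relIndex_sup_of_le_normalizer {Γ : Type*} [Group Γ] (K B : Subgroup Γ)
    (hB : B ≤ Subgroup.normalizer (K : Set Γ)) :
    B.relIndex (K ⊔ B) = B.relIndex K := by
  unfold Subgroup.relIndex Subgroup.index
  symm
  apply Nat.card_congr
  refine Equiv.ofBijective
    (Quotient.map' (fun k : K => (⟨k, (le_sup_left : K ≤ K ⊔ B) k.2⟩ : ↥(K ⊔ B))) ?_) ⟨?_, ?_⟩
  · intro a b hab
    rw [QuotientGroup.leftRel_apply] at hab ⊢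
    rw [Subgroup.mem_subgroupOf] at hab ⊢
    simpa using hab
  · intro x y
    induction x using Quotient.inductionOn' with
    | h a =>
    induction y using Quotient.inductionOn' with
    | h b =>
    intro h
    simp only [Quotient.map'_mk''] at h
    rw [Quotient.eq''] at h ⊢
    rw [QuotientGroup.leftRel_apply] at h ⊢
    rw [Subgroup.mem_subgroupOf] at h ⊢
    simpa using h
  · intro y
    induction y using Quotient.inductionOn' with
    | h x =>
    obtain ⟨x, hx⟩ := x
    have hx' : x ∈ ((K ⊔ B : Subgroup Γ) : Set Γ) := hx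
    rw [Subgroup.coe_mul_of_right_le_normalizer_left K B hB] at hx'
    obtain ⟨k, hk, b, hb, rfl⟩ := hx'
    refine ⟨Quotient.mk'' ⟨k, hk⟩, ?_⟩
    simp only [Quotient.map'_mk'']
    rw [Quotient.eq'']
    rw [QuotientGroup.leftRel_apply, Subgroup.mem_subgroupOf]
    simpa using hb

/-- orbit size of a subgroup as a relative index of the stabilizer -/
theorem card_orbit_eq_relIndex {Γ X : Type*} [Group Γ] [MulAction Γ X] (S : Subgroup Γ) (v : X) :
    Nat.card {u : X | ∃ s ∈ S, s • v = u} = (MulAction.stabilizer Γ v).relIndex S := by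
  have h1 : {u : X | ∃ s ∈ S, s • v = u} = MulAction.orbit S v := by
    ext u
    constructor
    · rintro ⟨s, hs, rfl⟩
      exact ⟨⟨s, hs⟩, rfl⟩
    · rintro ⟨⟨s, hs⟩, rfl⟩
      exact ⟨s, hs, rfl⟩
  rw [h1]
  have h2 : MulAction.stabilizer S v = (MulAction.stabilizer Γ v).subgroupOf S := by
    ext ⟨s, hs⟩
    rw [Subgroup.mem_subgroupOf, MulAction.mem_stabilizer_iff, MulAction.mem_stabilizer_iff]
    rfl
  rw [Subgroup.relIndex, ← h2, MulAction.index_stabilizer, Nat.card_coe_set_eq]

/-- Let p be a prime, V a finite vector space over the field with p elements, and H a group of linear transformations of V all of whose orbits on V have size coprime to p. (i) Every normal subgroup K of H has all its orbits on V of size coprime to p. (ii) If N is a group of linear transformations of V of order coprime to p that is normalized by H, then the group generated by N and H has all its orbits on V of size coprime to p. -/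
theorem result (p : ℕ) [Fact p.Prime] {V : Type*} [AddCommGroup V] [Module (ZMod p) V] [Finite V]
    (H : Subgroup (V ≃ₗ[ZMod p] V)) (hH : ∀ v : V, ¬ p ∣ Nat.card {u : V | ∃ h ∈ H, h v = u}) :
    (∀ K : Subgroup (V ≃ₗ[ZMod p] V), K ≤ H → H ≤ Subgroup.normalizer (K : Set (V ≃ₗ[ZMod p] V)) →
        ∀ v : V, ¬ p ∣ Nat.card {u : V | ∃ k ∈ K, k v = u}) ∧
    (∀ N : Subgroup (V ≃ₗ[ZMod p] V), ¬ p ∣ Nat.card N → H ≤ Subgroup.normalizer (N : Set (V ≃ₗ[ZMod p] V)) →
        ∀ v : V, ¬ p ∣ Nat.card {u : V | ∃ x ∈ N ⊔ H, x v = u}) := by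
  have hp : p.Prime := Fact.out
  have key : ∀ (S : Subgroup (V ≃ₗ[ZMod p] V)) (v : V),
      Nat.card {u : V | ∃ s ∈ S, s v = u} = (MulAction.stabilizer (V ≃ₗ[ZMod p] V) v).relIndex S :=
    fun S v => card_orbit_eq_relIndex S v
  constructor
  · intro K hKH hHK v
    rw [key]
    have hHv := hH v
    rw [key] at hHv
    intro hdvd
    apply hHv
    set A := MulAction.stabilizer (V ≃ₗ[ZMod p] V) v with hA
    have hBn : A ⊓ H ≤ Subgroup.normalizer (K : Set (V ≃ₗ[ZMod p] V)) := le_trans inf_le_right hHK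
    have e1 : A.relIndex K = (A ⊓ H).relIndex K := by
      rw [← Subgroup.inf_relIndex_right A K, ← Subgroup.inf_relIndex_right (A ⊓ H) K]
      congr 1
      rw [inf_assoc, inf_eq_right.mpr hKH]
    have e2 : (A ⊓ H).relIndex K = (A ⊓ H).relIndex (K ⊔ (A ⊓ H)) :=
      (relIndex_sup_of_le_normalizer K (A ⊓ H) hBn).symm
    have e3 : (A ⊓ H).relIndex (K ⊔ (A ⊓ H)) * (K ⊔ (A ⊓ H)).relIndex H = (A ⊓ H).relIndex H :=
      Subgroup.relIndex_mul_relIndex _ _ _ le_sup_right (sup_le hKH inf_le_right)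
    have e4 : (A ⊓ H).relIndex H = A.relIndex H := Subgroup.inf_relIndex_right A H
    rw [← e4, ← e3, ← e2, ← e1]
    exact Dvd.dvd.mul_right hdvd _
  · intro N hN hHN v
    rw [key]
    have hHv := hH v
    rw [key] at hHv
    set A := MulAction.stabilizer (V ≃ₗ[ZMod p] V) v with hA
    intro hdvd
    have d1 : A.relIndex (N ⊔ H) ∣ (A ⊓ H).relIndex (N ⊔ H) :=
      Subgroup.relIndex_dvd_of_le_left _ inf_le_left
    have e1 : (A ⊓ H).relIndex H * H.relIndex (N ⊔ H) = (A ⊓ H).relIndex (N ⊔ H) :=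
      Subgroup.relIndex_mul_relIndex _ _ _ inf_le_right le_sup_right
    have e2 : (A ⊓ H).relIndex H = A.relIndex H := Subgroup.inf_relIndex_right A H
    have e3 : H.relIndex (N ⊔ H) = H.relIndex N := relIndex_sup_of_le_normalizer N H hHN
    have d2 : H.relIndex N ∣ Nat.card N := Subgroup.relIndex_dvd_card H N
    have := dvd_trans hdvd d1
    rw [← e1, e2, e3] at this
    rcases (Nat.Prime.dvd_mul hp).mp this with h | h
    · exact hHv h
    · exact hN (dvd_trans h d2)

end Cfsg.Agent.S3514
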