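import Mathlib
import Cfsg.Statements.S3515

set_option autoImplicit false
open Cfsg

namespace Cfsg.Agent.S3515

variable (p : ℕ) [Fact p.Prime]

/-- a permutation of `F_p²` that agrees with an affine map on every triple of points is of the
form `L x + c` with `L` linear -/
theorem affine_of_triples (σ : Equiv.Perm (Fin 2 → ZMod p))
    (key : ∀ x y z : Fin 2 → ZMod p, ∃ (A : (Fin 2 → ZMod p) ≃ₗ[ZMod p] (Fin 2 → ZMod p))
      (b : Fin 2 → ZMod p), σ x = A x + b ∧ σ y = A y + b ∧ σ z = A z + b) :
    ∃ L : (Fin 2 → ZMod p) →ₗ[ZMod p] (Fin 2 → ZMod p), ∀ v, σ v = L v + σ 0 := by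
  classical
  have hp : p.Prime := Fact.out
  have haffc : ∀ (x y : Fin 2 → ZMod p) (c : ZMod p),
      σ (c • x + (1 - c) • y) = c • σ x + (1 - c) • σ y := by
    intro x y c
    obtain ⟨A, b, h1, h2, h3⟩ := key x y (c • x + (1 - c) • y)
    rw [h3, h1, h2, map_add, map_smul, map_smul]
    simp only [smul_add, sub_smul, one_smul]
    abel
  have hhom : ∀ (c : ZMod p) (x : Fin 2 → ZMod p), σ (c • x) - σ 0 = c • (σ x - σ 0) := by
    intro c x
    have h := haffc x 0 c
    rw [smul_zero, add_zero] at h
    rw [h]
    simp only [smul_sub, sub_smul, one_smul]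
    abel
  have hadd : ∀ x y : Fin 2 → ZMod p, σ (x + y) - σ 0 = (σ x - σ 0) + (σ y - σ 0) := by
    by_cases hp2 : p = 2
    · -- characteristic two
      have h2 : (2 : ZMod p) = 0 := by
        have h' : ((2 : ℕ) : ZMod p) = 0 := (ZMod.natCast_eq_zero_iff 2 p).mpr (by rw [hp2])
        exact_mod_cast h'
      have hvv : ∀ v : Fin 2 → ZMod p, v + v = 0 := by
        intro v
        rw [← two_smul (ZMod p) v, h2, zero_smul]
      have hneg : ∀ v : Fin 2 → ZMod p, -v = v := fun v => neg_eq_of_add_eq_zero_left (hvv v)
      intro x y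
      by_cases hx : x = 0
      · subst hx; rw [zero_add, sub_self, zero_add]
      by_cases hy : y = 0
      · subst hy; rw [add_zero, sub_self, add_zero]
      by_cases hxy : x = y
      · subst hxy
        rw [hvv x, sub_self, hvv]
      have hcardV : Fintype.card (Fin 2 → ZMod p) = 4 := by
        rw [Fintype.card_fun, ZMod.card, Fintype.card_fin, hp2]
        norm_num
      have hxy0 : x + y ≠ 0 := by
        intro h
        apply hxy
        have := eq_neg_of_add_eq_zero_left h
        rw [this, hneg]
      have hS : ({0, x, y, x + y} : Finset (Fin 2 → ZMod p)) = Finset.univ := by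
        apply Finset.eq_univ_of_card
        rw [hcardV]
        rw [Finset.card_insert_of_notMem, Finset.card_insert_of_notMem,
          Finset.card_insert_of_notMem, Finset.card_singleton]
        · simp only [Finset.mem_singleton]
          intro h
          apply hx
          have : x + y = 0 + y := by rw [zero_add]; exact h.symm
          exact add_right_cancel this
        · simp only [Finset.mem_insert, Finset.mem_singleton, not_or]
          refine ⟨hxy, ?_⟩
          intro h
          apply hy
          have : x + y = x + 0 := by rw [add_zero]; exact h.symm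
          exact add_left_cancel this
        · simp only [Finset.mem_insert, Finset.mem_singleton, not_or]
          exact ⟨fun h => hx h.symm, fun h => hy h.symm, fun h => hxy0 h.symm⟩
      have hsum1 : ∑ v : Fin 2 → ZMod p, σ v = ∑ v : Fin 2 → ZMod p, v :=
        Equiv.sum_comp σ (fun v => v)
      rw [← hS] at hsum1
      have hn1 : (0 : Fin 2 → ZMod p) ∉ ({x, y, x + y} : Finset (Fin 2 → ZMod p)) := by
        simp only [Finset.mem_insert, Finset.mem_singleton, not_or]
        exact ⟨fun h => hx h.symm, fun h => hy h.symm, fun h => hxy0 h.symm⟩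
      have hn2 : x ∉ ({y, x + y} : Finset (Fin 2 → ZMod p)) := by
        simp only [Finset.mem_insert, Finset.mem_singleton, not_or]
        refine ⟨hxy, ?_⟩
        intro h
        apply hy
        have : x + y = x + 0 := by rw [add_zero]; exact h.symm
        exact add_left_cancel this
      have hn3 : y ∉ ({x + y} : Finset (Fin 2 → ZMod p)) := by
        simp only [Finset.mem_singleton]
        intro h
        apply hx
        have : x + y = 0 + y := by rw [zero_add]; exact h.symm
        exact add_right_cancel this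
      rw [Finset.sum_insert hn1, Finset.sum_insert hn2, Finset.sum_insert hn3,
        Finset.sum_singleton, Finset.sum_insert hn1, Finset.sum_insert hn2, Finset.sum_insert hn3,
        Finset.sum_singleton] at hsum1
      have h4 : (0 : Fin 2 → ZMod p) + (x + (y + (x + y))) = 0 := by
        rw [zero_add, ← add_assoc, hvv]
      rw [h4] at hsum1
      -- σ0 + (σx + (σy + σ(x+y))) = 0
      have h5 : σ (x + y) = -(σ 0 + σ x + σ y) := by
        apply eq_neg_of_add_eq_zero_right
        have h5' : σ 0 + σ x + σ y + σ (x + y) = σ 0 + (σ x + (σ y + σ (x + y))) := by abel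
        rw [h5', hsum1]
      rw [h5, hneg]
      have := hvv (σ 0)
      calc σ 0 + σ x + σ y - σ 0 = σ x + σ y := by abel
        _ = σ x + σ y - (σ 0 + σ 0) := by rw [this, sub_zero]
        _ = σ x - σ 0 + (σ y - σ 0) := by abel
    · -- odd characteristic
      have h2 : (2 : ZMod p) ≠ 0 := by
        intro h
        have h' : ((2 : ℕ) : ZMod p) = 0 := by exact_mod_cast h
        rw [ZMod.natCast_eq_zero_iff] at h'
        have := (Nat.prime_dvd_prime_iff_eq hp Nat.prime_two).mp h'
        exact hp2 this
      intro x y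
      have hhalf : (1 : ZMod p) - 2⁻¹ = 2⁻¹ := by
        field_simp
        norm_num
      have h1 := haffc x y (2⁻¹ : ZMod p)
      rw [hhalf] at h1
      have h3 : x + y = (2 : ZMod p) • ((2⁻¹ : ZMod p) • x + (2⁻¹ : ZMod p) • y) := by
        rw [smul_add, smul_smul, smul_smul, mul_inv_cancel₀ h2, one_smul, one_smul]
      have h4 := hhom 2 ((2⁻¹ : ZMod p) • x + (2⁻¹ : ZMod p) • y)
      rw [← h3, h1] at h4
      rw [h4]
      simp only [smul_sub, smul_add, smul_smul, mul_inv_cancel₀ h2, one_smul, two_smul]
      abel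
  refine ⟨{ toFun := fun v => σ v - σ 0
            map_add' := hadd
            map_smul' := fun c x => hhom c x }, fun v => ?_⟩
  simp

/-- Every primitive affine permutation group of degree p² is 3-closed. Let p be a prime and G a group of permutations of the plane V = F_p² consisting of affine maps x ↦ Ax + b, containing all translations, and acting primitively on V. Then any permutation σ of V that agrees on every triple of points with some element of G (σ preserves every G-orbit on ordered triples) already lies in G. -/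
theorem result (p : ℕ) [Fact p.Prime] (G : Subgroup (Equiv.Perm (Fin 2 → ZMod p)))
    (haff : (G : Set (Equiv.Perm (Fin 2 → ZMod p))) ⊆ {τ : Equiv.Perm (Fin 2 → ZMod p) | ∃ (A : (Fin 2 → ZMod p) ≃ₗ[ZMod p] (Fin 2 → ZMod p)) (b : Fin 2 → ZMod p), ∀ x, τ x = A x + b})
    (htrans : ∀ b : Fin 2 → ZMod p, ∃ g ∈ G, ∀ x, g x = x + b) (hprim : MulAction.IsPreprimitive G (Fin 2 → ZMod p))
    (σ : Equiv.Perm (Fin 2 → ZMod p)) (hσ : (∀ t : Fin 3 → (Fin 2 → ZMod p), ∃ g ∈ G, ∀ i, σ (t i) = g (t i))) : σ ∈ G := by
  have _ := htrans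
  have _ := hprim
  have key : ∀ x y z : Fin 2 → ZMod p, ∃ g ∈ G, ∃ (A : (Fin 2 → ZMod p) ≃ₗ[ZMod p] (Fin 2 → ZMod p))
      (b : Fin 2 → ZMod p), (∀ v, g v = A v + b) ∧ σ x = g x ∧ σ y = g y ∧ σ z = g z := by
    intro x y z
    obtain ⟨g, hg, hgσ⟩ := hσ ![x, y, z]
    obtain ⟨A, b, hAb⟩ := haff hg
    refine ⟨g, hg, A, b, hAb, ?_, ?_, ?_⟩
    · simpa using hgσ 0
    · simpa using hgσ 1
    · simpa using hgσ 2
  obtain ⟨L, hL⟩ := affine_of_triples p σ (by
    intro x y z
    obtain ⟨g, -, A, b, hAb, h1, h2, h3⟩ := key x y z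
    exact ⟨A, b, by rw [h1, hAb], by rw [h2, hAb], by rw [h3, hAb]⟩)
  obtain ⟨g, hg, A, b, hAb, h0, h1, h2⟩ := key 0 (Pi.single 0 1) (Pi.single 1 1)
  have hb : b = σ 0 := by
    rw [h0, hAb, map_zero, zero_add]
  have hLA : L = (A : (Fin 2 → ZMod p) →ₗ[ZMod p] (Fin 2 → ZMod p)) := by
    apply (Pi.basisFun (ZMod p) (Fin 2)).ext
    intro i
    rw [Pi.basisFun_apply]
    fin_cases i
    · have := h1
      rw [hL, hAb, hb] at this
      exact add_right_cancel this
    · have := h2
      rw [hL, hAb, hb] at this
      exact add_right_cancel this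
  have : σ = g := by
    ext v : 1
    rw [hL, hAb, hLA, hb]
    rfl
  rw [this]; exact hg

end Cfsg.Agent.S3515
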