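import Cfsg.Statements.S3516
import Mathlib

set_option autoImplicit false
open Cfsg

namespace Cfsg.Agent.S3516

/-- a map agreeing with affine maps on all triples is affine (odd characteristic) -/
theorem affine_of_triples {K V : Type*} [Field K] [AddCommGroup V] [Module K V]
    (h2 : (2 : K) ≠ 0) (σ : Equiv.Perm V)
    (h : ∀ t : Fin 3 → V, ∃ (A : V ≃ₗ[K] V) (b : V), ∀ i, σ (t i) = A (t i) + b) :
    ∃ (A : V ≃ₗ[K] V) (b : V), ∀ x, σ x = A x + b := by
  -- homogeneity
  have hhom : ∀ (c : K) (x : V), σ (c • x) - σ 0 = c • (σ x - σ 0) := by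
    intro c x
    obtain ⟨A, b, hA⟩ := h ![0, x, c • x]
    have h0 := hA 0
    have h1 := hA 1
    have h2' := hA 2
    simp only [Matrix.cons_val_zero, Matrix.cons_val_one, Matrix.cons_val_two, Matrix.tail_cons,
      Matrix.head_cons] at h0 h1 h2'
    rw [h0, h1, h2', map_zero, map_smul]
    simp only [zero_add, add_sub_cancel_right]
  -- midpoints
  have hmid : ∀ x y : V, σ ((2 : K)⁻¹ • (x + y)) = (2 : K)⁻¹ • (σ x + σ y) := by
    intro x y
    obtain ⟨A, b, hA⟩ := h ![x, y, (2 : K)⁻¹ • (x + y)]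
    have h0 := hA 0
    have h1 := hA 1
    have h2' := hA 2
    simp only [Matrix.cons_val_zero, Matrix.cons_val_one, Matrix.cons_val_two, Matrix.tail_cons,
      Matrix.head_cons] at h0 h1 h2'
    rw [h0, h1, h2', map_smul, map_add]
    have : b = (2 : K)⁻¹ • (b + b) := by
      rw [← two_smul K b, smul_smul, inv_mul_cancel₀ h2, one_smul]
    nth_rewrite 1 [this]
    rw [← smul_add]
    congr 1
    abel
  have hadd : ∀ x y : V, σ (x + y) - σ 0 = (σ x - σ 0) + (σ y - σ 0) := by
    intro x y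
    have h1 := hhom 2 ((2 : K)⁻¹ • (x + y))
    rw [smul_smul, mul_inv_cancel₀ h2, one_smul, hmid, smul_sub, smul_smul, mul_inv_cancel₀ h2,
      one_smul, two_smul] at h1
    rw [h1]
    abel
  let f : V →ₗ[K] V :=
    { toFun := fun x => σ x - σ 0
      map_add' := hadd
      map_smul' := by
        intro c x
        simpa using hhom c x }
  have hbij : Function.Bijective f := by
    constructor
    · intro x y hxy
      have : σ x - σ 0 = σ y - σ 0 := hxy
      exact σ.injective (sub_left_injective this)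
    · intro y
      obtain ⟨x, hx⟩ := σ.surjective (y + σ 0)
      exact ⟨x, by change σ x - σ 0 = y; rw [hx]; abel⟩
  refine ⟨LinearEquiv.ofBijective f hbij, σ 0, fun x => ?_⟩
  change σ x = (σ x - σ 0) + σ 0
  abel

/-- extension of the restriction of a linear automorphism to a small subspace to an automorphism
of determinant one -/
theorem exists_det_one_agree {K V : Type*} [Field K] [AddCommGroup V] [Module K V]
    [FiniteDimensional K V] (A : V ≃ₗ[K] V) (W : Submodule K V) (hW : W < ⊤) :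
    ∃ A' : V ≃ₗ[K] V, LinearMap.det (A' : V →ₗ[K] V) = 1 ∧ ∀ w ∈ W, A' w = A w := by
  obtain ⟨φ, hφ0, hφW⟩ := Submodule.exists_le_ker_of_lt_top W hW
  have hex : ∃ v₀ : V, φ v₀ ≠ 0 := by
    by_contra hcon
    push Not at hcon
    apply hφ0
    ext x
    simp [hcon x]
  obtain ⟨v₀, hv₀⟩ := hex
  set δ := LinearMap.det (A : V →ₗ[K] V) with hδ
  have hδ0 : δ ≠ 0 := (LinearEquiv.isUnit_det' A).ne_zero
  set v := ((δ⁻¹ - 1) / φ v₀) • v₀ with hv
  have hφv : φ v = δ⁻¹ - 1 := by
    rw [hv, map_smul, smul_eq_mul, div_mul_cancel₀ _ hv₀]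
  have hunit : IsUnit (1 + φ v) := by
    rw [hφv]
    simp only [add_sub_cancel]
    exact (inv_ne_zero hδ0).isUnit
  let D : V ≃ₗ[K] V := LinearEquiv.dilatransvection hunit
  refine ⟨D.trans A, ?_, ?_⟩
  · have h1 : ((D.trans A : V ≃ₗ[K] V) : V →ₗ[K] V) = (A : V →ₗ[K] V) ∘ₗ (D : V →ₗ[K] V) := rfl
    rw [h1, LinearMap.det_comp]
    have h2 : (D : V →ₗ[K] V) = LinearMap.transvection φ v :=
      LinearEquiv.dilatransvection.coe_toLinearMap
    rw [h2, LinearMap.transvection.det, hφv, ← hδ]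
    simp only [add_sub_cancel]
    exact mul_inv_cancel₀ hδ0
  · intro w hw
    have hφw : φ w = 0 := hφW hw
    change A (D w) = A w
    rw [LinearEquiv.dilatransvection.apply, hφw, zero_smul, add_zero]

/-- Let p be an odd prime, d ≥ 3, and G a group of affine permutations x ↦ Ax + b of V = F_p^d containing all translations and all maps x ↦ Ax with A of determinant 1. Then the 3-closure of G is the full affine group: a permutation σ of V agrees on every triple of points with some element of G if and only if σ is an affine map. -/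
theorem result (p : ℕ) [Fact p.Prime] (hp : p ≠ 2) (d : ℕ) (hd : 3 ≤ d) (G : Subgroup (Equiv.Perm (Fin d → ZMod p)))
    (haff : (G : Set (Equiv.Perm (Fin d → ZMod p))) ⊆ {τ : Equiv.Perm (Fin d → ZMod p) | ∃ (A : (Fin d → ZMod p) ≃ₗ[ZMod p] (Fin d → ZMod p)) (b : Fin d → ZMod p), ∀ x, τ x = A x + b})
    (htrans : ∀ b : Fin d → ZMod p, ∃ g ∈ G, ∀ x, g x = x + b)
    (hsl : ∀ A : (Fin d → ZMod p) ≃ₗ[ZMod p] (Fin d → ZMod p), LinearMap.det (A : (Fin d → ZMod p) →ₗ[ZMod p] (Fin d → ZMod p)) = 1 → ∃ g ∈ G, ∀ x, g x = A x)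
    (σ : Equiv.Perm (Fin d → ZMod p)) :
    (∀ t : Fin 3 → (Fin d → ZMod p), ∃ g ∈ G, ∀ i, σ (t i) = g (t i)) ↔ σ ∈ {τ : Equiv.Perm (Fin d → ZMod p) | ∃ (A : (Fin d → ZMod p) ≃ₗ[ZMod p] (Fin d → ZMod p)) (b : Fin d → ZMod p), ∀ x, τ x = A x + b} := by
  have h2 : (2 : ZMod p) ≠ 0 := by
    intro h
    have h' : ((2 : ℕ) : ZMod p) = 0 := by exact_mod_cast h
    rw [ZMod.natCast_eq_zero_iff] at h'
    have := (Nat.prime_dvd_prime_iff_eq (Fact.out : p.Prime) Nat.prime_two).mp h'
    exact hp this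
  constructor
  · intro h
    apply affine_of_triples h2 σ
    intro t
    obtain ⟨g, hg, hgt⟩ := h t
    obtain ⟨A, b, hAb⟩ := haff hg
    exact ⟨A, b, fun i => by rw [hgt i, hAb]⟩
  · rintro ⟨A, b, hAb⟩ t
    -- the subspace spanned by the differences
    set W : Submodule (ZMod p) (Fin d → ZMod p) :=
      Submodule.span (ZMod p) (({t 1 - t 0, t 2 - t 0} : Finset (Fin d → ZMod p)) : Set (Fin d → ZMod p)) with hW
    have hWlt : W < ⊤ := by
      rw [lt_top_iff_ne_top]
      intro htop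
      have h1 : Module.finrank (ZMod p) W ≤ 2 := by
        have := finrank_span_finset_le_card (R := ZMod p) ({t 1 - t 0, t 2 - t 0} : Finset (Fin d → ZMod p))
        have h3 : ({t 1 - t 0, t 2 - t 0} : Finset (Fin d → ZMod p)).card ≤ 2 := Finset.card_le_two
        exact le_trans this h3
      rw [htop, finrank_top, Module.finrank_fin_fun] at h1
      omega
    obtain ⟨A', hdet, hA'⟩ := exists_det_one_agree A W hWlt
    obtain ⟨g₁, hg₁, hg₁x⟩ := hsl A' hdet
    obtain ⟨g₂, hg₂, hg₂x⟩ := htrans (A (t 0) - A' (t 0) + b)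
    refine ⟨g₂ * g₁, G.mul_mem hg₂ hg₁, ?_⟩
    have hmem1 : t 1 - t 0 ∈ W := Submodule.subset_span (by simp)
    have hmem2 : t 2 - t 0 ∈ W := Submodule.subset_span (by simp)
    have key : ∀ x, x - t 0 ∈ W → σ x = (g₂ * g₁) x := by
      intro x hx
      rw [Equiv.Perm.mul_apply, hg₂x, hg₁x, hAb]
      have h1 := hA' _ hx
      rw [map_sub, map_sub] at h1
      have : A' x = A x - A (t 0) + A' (t 0) := by
        rw [← h1]; abel
      rw [this]
      abel
    intro i
    fin_cases i
    · exact key _ (by simp)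
    · exact key _ hmem1
    · exact key _ hmem2

end Cfsg.Agent.S3516
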