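import Cfsg.Statements.S3517
import Mathlib

set_option autoImplicit false
open Cfsg

namespace Cfsg.Agent.S3517

open Module in
theorem exists_equiv_of_li {K V ι : Type*} [Field K] [AddCommGroup V] [Module K V]
    [FiniteDimensional K V] {u w : ι → V} (hu : LinearIndependent K u)
    (hw : LinearIndependent K w) :
    ∃ A : V ≃ₗ[K] V, ∀ i, A (u i) = w i := by
  classical
  let bu := Basis.span hu
  let bw := Basis.span hw
  let f := bu.equiv bw (Equiv.refl ι)
  obtain ⟨g, hg⟩ := Submodule.exists_linearEquiv_restrict_eq f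
  refine ⟨g, fun i => ?_⟩
  have h1 := hg (bu i)
  have h2 : ((bu i : Submodule.span K (Set.range u)) : V) = u i := by
    rw [show bu i = _ from Basis.span_apply hu i]
  have h3 : f (bu i) = bw i := by simp [f]
  have h4 : ((bw i : Submodule.span K (Set.range w)) : V) = w i := by
    rw [show bw i = _ from Basis.span_apply hw i]
  rw [h3, h4, h2] at h1
  exact h1.symm

theorem exists_equiv_single {V : Type*} [AddCommGroup V] [Module (ZMod 2) V]
    [FiniteDimensional (ZMod 2) V] {x y : V} (hx : x ≠ 0) (hy : y ≠ 0) :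
    ∃ A : V ≃ₗ[ZMod 2] V, A x = y := by
  have hu : LinearIndependent (ZMod 2) (fun _ : Unit => x) := by
    rw [linearIndependent_unique_iff]; exact hx
  have hw : LinearIndependent (ZMod 2) (fun _ : Unit => y) := by
    rw [linearIndependent_unique_iff]; exact hy
  obtain ⟨A, hA⟩ := exists_equiv_of_li hu hw
  exact ⟨A, hA ()⟩

theorem li_pair {V : Type*} [AddCommGroup V] [Module (ZMod 2) V]
    {a b : V} (ha : a ≠ 0) (hb : b ≠ 0) (hab : a ≠ b) :
    LinearIndependent (ZMod 2) ![a, b] := by
  rw [LinearIndependent.pair_iff]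
  intro s t hst
  have h01 : ∀ z : ZMod 2, z = 0 ∨ z = 1 := by decide
  have hs : s = 0 ∨ s = 1 := h01 s
  have ht : t = 0 ∨ t = 1 := h01 t
  rcases hs with rfl | rfl <;> rcases ht with rfl | rfl
  · exact ⟨rfl, rfl⟩
  · simp at hst; exact absurd hst hb
  · simp at hst; exact absurd hst ha
  · exfalso
    simp at hst
    apply hab
    have h2 : b + b = 0 := by
      have : (2 : ZMod 2) • b = 0 := by
        have : (2 : ZMod 2) = 0 := by decide
        rw [this, zero_smul]
      rwa [two_smul] at this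
    have : a = a + (b + b) := by rw [h2, add_zero]
    rw [this, ← add_assoc, hst, zero_add]

theorem exists_equiv_pair {V : Type*} [AddCommGroup V] [Module (ZMod 2) V]
    [FiniteDimensional (ZMod 2) V] {a b a' b' : V}
    (h0 : a = 0 ↔ a' = 0) (h1 : b = 0 ↔ b' = 0) (h2 : a = b ↔ a' = b') :
    ∃ A : V ≃ₗ[ZMod 2] V, A a = a' ∧ A b = b' := by
  by_cases ha : a = 0
  · have ha' := h0.mp ha
    by_cases hb : b = 0
    · have hb' := h1.mp hb
      exact ⟨LinearEquiv.refl _ _, by simp [ha, ha'], by simp [hb, hb']⟩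
    · have hb' : b' ≠ 0 := fun h => hb (h1.mpr h)
      obtain ⟨A, hA⟩ := exists_equiv_single hb hb'
      exact ⟨A, by simp [ha, ha'], hA⟩
  · have ha' : a' ≠ 0 := fun h => ha (h0.mpr h)
    by_cases hb : b = 0
    · have hb' := h1.mp hb
      obtain ⟨A, hA⟩ := exists_equiv_single ha ha'
      exact ⟨A, hA, by simp [hb, hb']⟩
    · have hb' : b' ≠ 0 := fun h => hb (h1.mpr h)
      by_cases hab : a = b
      · have hab' := h2.mp hab
        obtain ⟨A, hA⟩ := exists_equiv_single ha ha'
        refine ⟨A, hA, ?_⟩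
        rw [← hab, hA, hab']
      · have hab' : a' ≠ b' := fun h => hab (h2.mpr h)
        obtain ⟨A, hA⟩ := exists_equiv_of_li (li_pair ha hb hab) (li_pair ha' hb' hab')
        exact ⟨A, by simpa using hA 0, by simpa using hA 1⟩

/-- For d ≥ 3, the 3-closure of the affine group AGL_d(2) acting on F_2^d is the full symmetric group: every permutation of F_2^d agrees on every ordered triple of points with some affine map (AGL_d(2) is 3-transitive). -/
theorem result (d : ℕ) (hd : 3 ≤ d) (σ : Equiv.Perm (Fin d → ZMod 2)) (t : Fin 3 → (Fin d → ZMod 2)) :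
    ∃ (A : (Fin d → ZMod 2) ≃ₗ[ZMod 2] (Fin d → ZMod 2)) (b : Fin d → ZMod 2), ∀ i, σ (t i) = A (t i) + b := by
  have hinj := σ.injective
  obtain ⟨A, hA1, hA2⟩ := exists_equiv_pair
    (a := t 1 - t 0) (b := t 2 - t 0) (a' := σ (t 1) - σ (t 0)) (b' := σ (t 2) - σ (t 0))
    (by rw [sub_eq_zero, sub_eq_zero]; exact ⟨fun h => by rw [h], fun h => hinj h⟩)
    (by rw [sub_eq_zero, sub_eq_zero]; exact ⟨fun h => by rw [h], fun h => hinj h⟩)
    (by
      rw [sub_left_inj, sub_left_inj]; exact ⟨fun h => by rw [h], fun h => hinj h⟩)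
  refine ⟨A, σ (t 0) - A (t 0), ?_⟩
  intro i
  fin_cases i
  · simp
  · have : A (t 1) = A (t 1 - t 0) + A (t 0) := by rw [map_sub]; abel
    simp only [Fin.mk_one, Fin.isValue]
    rw [this, hA1]; abel
  · have : A (t 2) = A (t 2 - t 0) + A (t 0) := by rw [map_sub]; abel
    simp only [Fin.reduceFinMk, Fin.isValue]
    rw [this, hA2]; abel

end Cfsg.Agent.S3517
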