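import Mathlib
import Cfsg.Statements.S3518
import Cfsg.Agent.Lib.Helper58.Redei

set_option autoImplicit false
open Cfsg

namespace Cfsg.Agent.S3518

open Cfsg.Agent.Helper58

variable (p : ℕ) [Fact p.Prime]

/-- the affine permutation `z ↦ a * z + b` -/
def affPerm (a : (ZMod p)ˣ) (b : ZMod p) : Equiv.Perm (ZMod p) :=
  (Equiv.addRight b) * (Units.mulLeft a)

theorem affPerm_apply (a : (ZMod p)ˣ) (b : ZMod p) (z : ZMod p) :
    affPerm p a b z = (a : ZMod p) * z + b := rfl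

theorem affPerm_mem (a : (ZMod p)ˣ) (b : ZMod p) : affPerm p a b ∈ Cfsg.affineGroup (ZMod p) :=
  ⟨a, b, fun x => affPerm_apply p a b x⟩

/-- the multiplier subgroup of `G` -/
def multSub (G : Subgroup (Equiv.Perm (ZMod p))) : Subgroup (ZMod p)ˣ where
  carrier := {a | ∃ g ∈ G, ∀ x, g x = (a : ZMod p) * x}
  mul_mem' := by
    rintro a c ⟨g, hg, hga⟩ ⟨h, hh, hhc⟩
    refine ⟨g * h, G.mul_mem hg hh, fun x => ?_⟩
    rw [Equiv.Perm.mul_apply, hhc, hga, Units.val_mul, mul_assoc]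
  one_mem' := ⟨1, G.one_mem, fun x => by simp⟩
  inv_mem' := by
    rintro a ⟨g, hg, hga⟩
    refine ⟨g⁻¹, G.inv_mem hg, fun x => ?_⟩
    apply g.injective
    rw [Equiv.Perm.inv_def, Equiv.apply_symm_apply, hga, ← mul_assoc, Units.mul_inv, one_mul]

theorem part1 (G : Subgroup (Equiv.Perm (ZMod p))) (hG : G ≤ Cfsg.affineGroup (ZMod p))
    (htrans : ∀ b : ZMod p, ∃ g ∈ G, ∀ x, g x = x + b) (hne : G ≠ Cfsg.affineGroup (ZMod p))
    (σ : Equiv.Perm (ZMod p))
    (hσ : ∀ t : Fin 2 → ZMod p, ∃ g ∈ G, ∀ i, σ (t i) = g (t i)) : σ ∈ G := by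
  classical
  have hp : p.Prime := Fact.out
  set A := multSub p G with hA
  have hmem : ∀ g ∈ G, ∀ (a : (ZMod p)ˣ) (b : ZMod p), (∀ x, g x = (a : ZMod p) * x + b) → a ∈ A := by
    intro g hg a b hgab
    obtain ⟨τ, hτ, hτb⟩ := htrans (-b)
    refine ⟨τ * g, G.mul_mem hτ hg, fun x => ?_⟩
    rw [Equiv.Perm.mul_apply, hτb, hgab]
    ring
  have hbuild : ∀ (a : (ZMod p)ˣ) (b : ZMod p), a ∈ A → ∀ τ : Equiv.Perm (ZMod p),
      (∀ x, τ x = (a : ZMod p) * x + b) → τ ∈ G := by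
    intro a b ha τ hτ
    obtain ⟨g, hg, hga⟩ := ha
    obtain ⟨t, ht, htb⟩ := htrans b
    have : τ = t * g := by
      ext x
      rw [Equiv.Perm.mul_apply, htb, hga, hτ]
    rw [this]
    exact G.mul_mem ht hg
  have hAtop : A ≠ ⊤ := by
    intro htop
    apply hne
    apply le_antisymm hG
    rintro τ ⟨a, b, hτ⟩
    exact hbuild a b (by rw [htop]; exact Subgroup.mem_top a) τ hτ
  have hcardA : 2 * Nat.card A ≤ p - 1 := by
    have h1 := A.card_mul_index
    rw [Nat.card_eq_fintype_card (α := (ZMod p)ˣ), ZMod.card_units p] at h1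
    have h2 : A.index ≠ 1 := fun h => hAtop (Subgroup.index_eq_one.mp h)
    have h3 : A.index ≠ 0 := Subgroup.index_ne_zero_of_finite
    have h4 : 2 ≤ A.index := by omega
    calc 2 * Nat.card A ≤ A.index * Nat.card A := Nat.mul_le_mul_right _ h4
      _ = p - 1 := by rw [mul_comm, h1]
  have : Fintype A := Fintype.ofFinite A
  set D : Finset (ZMod p) := Finset.image (fun a : A => ((a : (ZMod p)ˣ) : ZMod p)) Finset.univ
    with hD
  have hDcard : 2 * D.card + 1 ≤ p := by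
    have h1 : D.card ≤ Nat.card A := by
      rw [Nat.card_eq_fintype_card, ← Finset.card_univ]
      exact Finset.card_image_le
    have := hp.pos
    omega
  have hf : ∀ x y, x ≠ y → ∃ s ∈ D, σ x - σ y = s * (x - y) := by
    intro x y _
    obtain ⟨g, hg, hgσ⟩ := hσ ![x, y]
    obtain ⟨a, b, hgab⟩ := hG hg
    have ha := hmem g hg a b hgab
    refine ⟨(a : ZMod p), ?_, ?_⟩
    · rw [hD, Finset.mem_image]
      exact ⟨⟨a, ha⟩, Finset.mem_univ _, rfl⟩
    · have h0 := hgσ 0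
      have h1 := hgσ 1
      simp only [Matrix.cons_val_zero, Matrix.cons_val_one] at h0 h1
      rw [h0, h1, hgab, hgab]
      ring
  obtain ⟨c₁, c₀, hc⟩ := affine_of_few_directions p σ D hDcard hf
  obtain ⟨s, hs, hs1⟩ := hf 1 0 one_ne_zero
  rw [hD, Finset.mem_image] at hs
  obtain ⟨a, -, rfl⟩ := hs
  have hc1 : c₁ = ((a : (ZMod p)ˣ) : ZMod p) := by
    rw [hc 1, hc 0] at hs1
    linear_combination hs1
  exact hbuild a c₀ a.2 σ (fun x => by rw [hc x, hc1])

theorem part2 (σ : Equiv.Perm (ZMod p)) (t : Fin 2 → ZMod p) :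
    ∃ g ∈ Cfsg.affineGroup (ZMod p), ∀ i, σ (t i) = g (t i) := by
  by_cases hxy : t 0 = t 1
  · refine ⟨affPerm p 1 (σ (t 0) - t 0), affPerm_mem p _ _, ?_⟩
    rw [Fin.forall_fin_two]
    constructor
    · rw [affPerm_apply]; simp
    · rw [affPerm_apply, ← hxy]; simp
  · have hne : t 0 - t 1 ≠ 0 := sub_ne_zero.mpr hxy
    have hne' : σ (t 0) - σ (t 1) ≠ 0 := sub_ne_zero.mpr (fun h => hxy (σ.injective h))
    have ha : (σ (t 0) - σ (t 1)) / (t 0 - t 1) ≠ 0 := div_ne_zero hne' hne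
    refine ⟨affPerm p (Units.mk0 _ ha) (σ (t 0) - (σ (t 0) - σ (t 1)) / (t 0 - t 1) * t 0),
      affPerm_mem p _ _, ?_⟩
    rw [Fin.forall_fin_two]
    constructor
    · rw [affPerm_apply, Units.val_mk0]; ring
    · rw [affPerm_apply, Units.val_mk0]
      field_simp
      ring

theorem part3 (σ : Equiv.Perm (ZMod p))
    (hσ : ∀ t : Fin 3 → ZMod p, ∃ g ∈ Cfsg.affineGroup (ZMod p), ∀ i, σ (t i) = g (t i)) :
    σ ∈ Cfsg.affineGroup (ZMod p) := by
  have ha : σ 1 - σ 0 ≠ 0 := sub_ne_zero.mpr (fun h => one_ne_zero (σ.injective h))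
  refine ⟨Units.mk0 _ ha, σ 0, fun x => ?_⟩
  obtain ⟨g, ⟨a, b, hgab⟩, hg⟩ := hσ ![0, 1, x]
  have h0 := hg 0
  have h1 := hg 1
  have h2 := hg 2
  simp only [Matrix.cons_val_zero, Matrix.cons_val_one, Matrix.cons_val_two, Matrix.tail_cons,
    Matrix.head_cons] at h0 h1 h2
  rw [hgab] at h0 h1 h2
  rw [Units.val_mk0, h2, h0, h1]
  ring

/-- Closures of subgroups of the one-dimensional affine group. Let p be a prime and G a group of permutations of F_p lying in the affine group AGL₁(p) = {x ↦ ax + b, a ≠ 0} and containing all translations. (1) If G is a proper subgroup of AGL₁(p), then G is 2-closed: a permutation of F_p agreeing on every ordered pair of points with some element of G lies in G. (2) Every permutation of F_p agrees on every ordered pair with some element of AGL₁(p) (the 2-closure of AGL₁(p) is the symmetric group). (3) AGL₁(p) is 3-closed: a permutation agreeing on every ordered triple with some affine map is affine.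 -/
theorem result (p : ℕ) [Fact p.Prime] (G : Subgroup (Equiv.Perm (ZMod p))) (hG : G ≤ Cfsg.affineGroup (ZMod p))
    (htrans : ∀ b : ZMod p, ∃ g ∈ G, ∀ x, g x = x + b) :
    (G ≠ Cfsg.affineGroup (ZMod p) → ∀ σ : Equiv.Perm (ZMod p), (∀ t : Fin 2 → ZMod p, ∃ g ∈ G, ∀ i, σ (t i) = g (t i)) → σ ∈ G) ∧
    (∀ σ : Equiv.Perm (ZMod p), (∀ t : Fin 2 → ZMod p, ∃ g ∈ Cfsg.affineGroup (ZMod p), ∀ i, σ (t i) = g (t i))) ∧
    (∀ σ : Equiv.Perm (ZMod p), (∀ t : Fin 3 → ZMod p, ∃ g ∈ Cfsg.affineGroup (ZMod p), ∀ i, σ (t i) = g (t i)) → σ ∈ Cfsg.affineGroup (ZMod p)) :=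
  ⟨fun hne σ hσ => part1 p G hG htrans hne σ hσ, fun σ t => part2 p σ t, fun σ hσ => part3 p σ hσ⟩

end Cfsg.Agent.S3518
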