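import Mathlib
import Cfsg.Statements.S3520
import Cfsg.Agent.Lib.Helper58.DerClassNA
-- import your own Cfsg.Agent.* helpers here

set_option autoImplicit false
open Cfsg

namespace Cfsg.Agent.S3520

open Cfsg.Agent.Helper58 MulAction in
/-- Let a finite group G act faithfully and primitively on a finite set Ω with at least two points, suppose G is not almost simple (no non-abelian simple normal subgroup with trivial centralizer), and suppose the derangements of G form exactly two conjugacy classes. Then either Ω has 3 points and G has order 3; or G has a non-trivial abelian normal subgroup N acting regularly, every non-identity element of G fixes at most one point (so, when n > 3, G is a Frobenius group with kernel N), the number n of points is odd and a point stabilizer has order (n − 1)/2; or G is 2-transitive with a non-trivial abelian regular normal subgroup and some non-identity element fixes at least two points (a non-Frobenius 2-transitive affine group). -/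
theorem result {G : Type*} [Group G] [Finite G] {Ω : Type*} [Fintype Ω] [MulAction G Ω] [FaithfulSMul G Ω] (hΩ : 2 ≤ Fintype.card Ω) (hprim : MulAction.IsPreprimitive G Ω) (hnas : ¬ ∃ T : Subgroup G, T.Normal ∧ IsSimpleGroup T ∧ ¬ IsMulCommutative T ∧ Subgroup.centralizer (T : Set G) = ⊥)
    (hκ : Nat.card {c : ConjClasses G // ∃ g : G, ConjClasses.mk g = c ∧ ∀ ω : Ω, g • ω ≠ ω} = 2) (α : Ω) :
    (Fintype.card Ω = 3 ∧ Nat.card G = 3) ∨
    ((∃ N : Subgroup G, N.Normal ∧ N ≠ ⊥ ∧ IsMulCommutative N ∧ ∀ ω : Ω, MulAction.stabilizer N ω = ⊥) ∧ (∀ g : G, g ≠ 1 → Nat.card (MulAction.fixedBy Ω g) ≤ 1) ∧ ¬ 2 ∣ Fintype.card Ω ∧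
        2 * Nat.card (MulAction.stabilizer G α) = Fintype.card Ω - 1) ∨
    ((∃ N : Subgroup G, N.Normal ∧ N ≠ ⊥ ∧ IsMulCommutative N ∧ ∀ ω : Ω, MulAction.stabilizer N ω = ⊥) ∧ MulAction.IsMultiplyPretransitive G Ω 2 ∧ ∃ g : G, g ≠ 1 ∧ 2 ≤ Nat.card (MulAction.fixedBy Ω g)) := by
  have hcardΩ : Nat.card Ω = Fintype.card Ω := Nat.card_eq_fintype_card
  have hΩ' : 2 ≤ Nat.card Ω := by omega
  have hcard' : Nat.card (DC G Ω) = 2 := hκ
  rcases three_le_or_exists_regular_abelian hΩ' hprim hnas with h3 | ⟨N, hNn, hN, hcomm, htr, hfree⟩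
  · omega
  have hfree' : ∀ n ∈ N, n ≠ 1 → ∀ ω : Ω, n • ω ≠ ω :=
    fun n hn hn1 ω hω => hn1 (hfree n hn ω hω)
  have hNstuff : ∃ N : Subgroup G, N.Normal ∧ N ≠ ⊥ ∧ IsMulCommutative N ∧
      ∀ ω : Ω, MulAction.stabilizer N ω = ⊥ := by
    refine ⟨N, hNn, hN, ⟨⟨fun a b => Subtype.ext (hcomm a a.2 b b.2)⟩⟩, fun ω => ?_⟩
    rw [eq_bot_iff]
    intro n hn
    rw [mem_stabilizer_iff, Subgroup.smul_def] at hn
    rw [Subgroup.mem_bot]
    exact Subtype.ext (hfree n n.2 ω hn)
  have := hprim.toIsPretransitive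
  by_cases hconj : ∀ u ∈ N, ∀ v ∈ N, u ≠ 1 → v ≠ 1 → IsConj u v
  · right; right
    have h2 := two_trans_of_conj N hcomm htr hconj
    refine ⟨hNstuff, h2, ?_⟩
    by_contra hcon
    push Not at hcon
    have hsharp : ∀ g : G, g ≠ 1 → ∀ a b : Ω, a ≠ b → g • a = a → g • b ≠ b := by
      intro g hg a b hab ha hb
      have := hcon g hg
      exact hab (eq_of_card_fixedBy_le_one (by omega) ha hb)
    have := card_DC_eq_one_of_sharp2 hΩ' h2 hsharp
    omega
  · right; left
    push Not at hconj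
    obtain ⟨u₁, hu₁, u₂, hu₂, hu₁1, hu₂1, hnc⟩ := hconj
    have hall : ∀ g : G, (∀ ω : Ω, g • ω ≠ ω) → IsConj u₁ g ∨ IsConj u₂ g := fun g hg =>
      isConj_of_card_DC_eq_two hcard' (hfree' u₁ hu₁ hu₁1) (hfree' u₂ hu₂ hu₂1) hg hnc
    have hder : ∀ g : G, (∀ ω : Ω, g • ω ≠ ω) → g ∈ N := by
      intro g hg
      rcases hall g hg with h | h
      · obtain ⟨k, hk⟩ := isConj_iff.mp h
        rw [← hk]
        exact hNn.conj_mem u₁ hu₁ k
      · obtain ⟨k, hk⟩ := isConj_iff.mp h
        rw [← hk]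
        exact hNn.conj_mem u₂ hu₂ k
    have hfixle := card_fixedBy_le_one N hfree' hder
    have hcardN : Nat.card N = Fintype.card Ω := by
      rw [card_eq_of_regular N htr hfree α, hcardΩ]
    have hcount := frob_count N hcomm htr hfree hcardN
      (fun g hg a b ha hb => eq_of_card_fixedBy_le_one (hfixle g hg) ha hb)
      u₁ u₂ hu₁ hu₂ hu₁1 hu₂1 hnc (fun u hu hu1 => hall u (hfree' u hu hu1)) α
    refine ⟨hNstuff, hfixle, ?_, ?_⟩
    · omega
    · omega

end Cfsg.Agent.S3520
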