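import Cfsg.Statements.S3532
import Mathlib
import Cfsg.Agent.S2475
import Cfsg.Agent.Lib.Helper58.Frob

set_option autoImplicit false
open Cfsg

namespace Cfsg.Agent.S3532

open Cfsg.Agent.Helper58

theorem range_orderOf_prod {G G' : Type*} [Monoid G] [Monoid G'] :
    Set.range (orderOf : G × G' → ℕ) =
      Set.image2 Nat.lcm (Set.range (orderOf : G → ℕ)) (Set.range (orderOf : G' → ℕ)) := by
  ext k
  constructor
  · rintro ⟨x, rfl⟩
    exact ⟨_, ⟨x.1, rfl⟩, _, ⟨x.2, rfl⟩, (Prod.orderOf x).symm⟩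
  · rintro ⟨_, ⟨a, rfl⟩, _, ⟨b, rfl⟩, rfl⟩
    exact ⟨(a, b), Prod.orderOf_mk⟩

theorem image2_lcm_eq (a b c : ℕ) :
    Set.image2 Nat.lcm {m : ℕ | m ∣ a ∨ m ∣ b} {m : ℕ | m ∣ a ∨ m ∣ c} =
      Set.image2 Nat.lcm {m : ℕ | m ∣ a ∨ m ∣ b ∨ m ∣ c} {m : ℕ | m ∣ a ∨ m ∣ b ∨ m ∣ c} := by
  apply Set.eq_of_subset_of_subset
  · rintro k ⟨x, hx, y, hy, rfl⟩
    refine ⟨x, ?_, y, ?_, rfl⟩
    · rcases hx with h | h
      · exact Or.inl h
      · exact Or.inr (Or.inl h)
    · rcases hy with h | h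
      · exact Or.inl h
      · exact Or.inr (Or.inr h)
  · rintro k ⟨x, hx, y, hy, rfl⟩
    -- x, y ∈ A ∪ B ∪ C
    rcases hx with hx | hx | hx
    · -- x ∈ A
      rcases hy with hy | hy | hy
      · exact ⟨x, Or.inl hx, y, Or.inl hy, rfl⟩
      · exact ⟨y, Or.inr hy, x, Or.inl hx, Nat.lcm_comm _ _⟩
      · exact ⟨x, Or.inl hx, y, Or.inr hy, rfl⟩
    · -- x ∈ B
      rcases hy with hy | hy | hy
      · exact ⟨x, Or.inr hx, y, Or.inl hy, rfl⟩
      · exact ⟨Nat.lcm x y, Or.inr (Nat.lcm_dvd hx hy), 1, Or.inl (one_dvd _), by simp⟩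
      · exact ⟨x, Or.inr hx, y, Or.inr hy, rfl⟩
    · -- x ∈ C
      rcases hy with hy | hy | hy
      · exact ⟨y, Or.inl hy, x, Or.inr hx, Nat.lcm_comm _ _⟩
      · exact ⟨y, Or.inr hy, x, Or.inr hx, Nat.lcm_comm _ _⟩
      · exact ⟨1, Or.inl (one_dvd _), Nat.lcm x y, Or.inr (Nat.lcm_dvd hx hy), by simp⟩

theorem exists_unit_orderOf {E : Type} [Field E] [Finite E] (m : ℕ) (hm : m ∣ Nat.card E - 1) :
    ∃ c : Eˣ, orderOf c = m := by
  obtain ⟨g, hg⟩ := IsCyclic.exists_ofOrder_eq_natCard (α := Eˣ)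
  have hcard : Nat.card Eˣ = Nat.card E - 1 := Nat.card_units E
  rw [hcard] at hg
  have hpos : 0 < Nat.card E - 1 := by
    have : 1 < Nat.card E := Finite.one_lt_card
    omega
  obtain ⟨k, hk⟩ := hm
  have hk0 : k ≠ 0 := by rintro rfl; rw [mul_zero] at hk; omega
  refine ⟨g ^ k, ?_⟩
  rw [orderOf_pow_of_dvd hk0 ⟨m, by rw [hg, hk, mul_comm]⟩, hg, hk]
  exact Nat.mul_div_cancel _ (Nat.pos_of_ne_zero hk0)

instance frobSolvable {E : Type} [Field E] (c : Eˣ) : Group.IsSolvable (Frob E c) := by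
  let g : Frob E c →* Eˣ :=
    { toFun := fun x => x.a
      map_one' := rfl
      map_mul' := fun _ _ => rfl }
  let f : Multiplicative E →* Frob E c :=
    { toFun := fun b => ⟨1, Multiplicative.toAdd b, Subgroup.one_mem _⟩
      map_one' := rfl
      map_mul' := by
        intro x y
        apply Frob.ext
        · simp
        · simp [add_comm] }
  apply Group.isSolvable_of_ker_le_range f g
  intro x hx
  rw [MonoidHom.mem_ker] at hx
  refine ⟨Multiplicative.ofAdd x.b, ?_⟩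
  apply Frob.ext
  · exact hx.symm
  · rfl

/-- Let q ≥ 4 be a prime power and L = PSL(2,q). There is a finite solvable group with the same set of element orders as L × L (so L × L is not determined by its spectrum). -/
theorem result {F : Type*} [Field F] [Fintype F] (hF : 4 ≤ Fintype.card F) :
    ∃ (H : Type) (_ : Group H) (_ : Finite H), Group.IsSolvable H ∧
      Set.range (orderOf : H → ℕ) = Set.range (orderOf : Matrix.ProjectiveSpecialLinearGroup (Fin 2) F × Matrix.ProjectiveSpecialLinearGroup (Fin 2) F → ℕ) := by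
  obtain ⟨p, hchar⟩ := CharP.exists F
  obtain ⟨n, hp, hcard⟩ := FiniteField.card F p
  have : Fact p.Prime := ⟨hp⟩
  have hL := Cfsg.Agent.S2475.result (F := F) p hF
  set q := Fintype.card F with hq
  set d := Nat.gcd 2 (q - 1) with hd
  have hqpos : 0 < q := Fintype.card_pos
  -- divisibility facts
  have hd1 : d ∣ q - 1 := Nat.gcd_dvd_right _ _
  have hd2 : d ∣ q + 1 := by
    have h2 : d ∣ 2 := Nat.gcd_dvd_left _ _
    have : q + 1 = (q - 1) + 2 := by omega
    rw [this]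
    exact dvd_add hd1 h2
  have hsq : q ^ 2 - 1 = (q - 1) * (q + 1) := by
    have : q ^ 2 - 1 ^ 2 = (q + 1) * (q - 1) := Nat.sq_sub_sq q 1
    rw [one_pow] at this
    rw [this, mul_comm]
  have hm1 : (q - 1) / d ∣ q ^ 2 - 1 := by
    rw [hsq]
    exact dvd_trans (Nat.div_dvd_of_dvd hd1) (dvd_mul_right _ _)
  have hm2 : (q + 1) / d ∣ q ^ 2 - 1 := by
    rw [hsq]
    exact dvd_trans (Nat.div_dvd_of_dvd hd2) (dvd_mul_left _ _)
  -- the field with q^2 elements
  let E := GaloisField p (2 * n)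
  have hE : Nat.card E = q ^ 2 := by
    have h0 : 2 * (n : ℕ) ≠ 0 := by
      have := n.pos
      omega
    rw [GaloisField.card p (2 * n) h0, hcard]
    ring
  obtain ⟨c₁, hc₁⟩ := exists_unit_orderOf (E := E) ((q - 1) / d) (by rw [hE]; exact hm1)
  obtain ⟨c₂, hc₂⟩ := exists_unit_orderOf (E := E) ((q + 1) / d) (by rw [hE]; exact hm2)
  have : Finite (Frob E c₁) := Frob.finite
  have : Finite (Frob E c₂) := Frob.finite
  refine ⟨Frob E c₁ × Frob E c₂, inferInstance, inferInstance, inferInstance, ?_⟩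
  rw [range_orderOf_prod, range_orderOf_prod, hL, Frob.spec p, Frob.spec p, hc₁, hc₂]
  exact image2_lcm_eq p ((q - 1) / d) ((q + 1) / d)

end Cfsg.Agent.S3532
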