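import Cfsg.Statements.S3554
import Mathlib

set_option autoImplicit false
open Cfsg

namespace Cfsg.Agent.S3554

/-- Let G act faithfully and transitively on a finite set and suppose G has a non-trivial cyclic normal subgroup. Then some element of G of prime order fixes no point. -/
theorem result {G Ω : Type*} [Group G] [Finite G] [MulAction G Ω] [FaithfulSMul G Ω] [Finite Ω]
    (htrans : MulAction.IsPretransitive G Ω) (C : Subgroup G) (hC : C.Normal) (hC1 : C ≠ ⊥) (hcyc : IsCyclic ↥C) :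
    ∃ g : G, (orderOf g).Prime ∧ ∀ ω : Ω, g • ω ≠ ω := by
  obtain ⟨c, hc⟩ := hcyc.exists_generator
  have hgen : ∀ x ∈ C, ∃ k : ℤ, (c : G) ^ k = x := by
    intro x hx
    have := hc ⟨x, hx⟩
    rw [Subgroup.mem_zpowers_iff] at this
    obtain ⟨k, hk⟩ := this
    refine ⟨k, ?_⟩
    have := congrArg Subtype.val hk
    simpa using this
  have hcne : (c : G) ≠ 1 := by
    intro h
    apply hC1
    rw [Subgroup.eq_bot_iff_forall]
    intro x hx
    obtain ⟨k, hk⟩ := hgen x hx
    rw [h, one_zpow] at hk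
    exact hk.symm
  set m := orderOf (c : G) with hm
  have hmpos : 0 < m := orderOf_pos _
  have hm1 : m ≠ 1 := by
    intro h; exact hcne (orderOf_eq_one_iff.mp h)
  have hpp : (m.minFac).Prime := Nat.minFac_prime hm1
  obtain ⟨d, hd⟩ := Nat.minFac_dvd m
  set p := m.minFac with hp
  have hd0 : d ≠ 0 := by
    rintro rfl; simp at hd; omega
  have hord : orderOf ((c : G) ^ d) = p := by
    rw [orderOf_pow_of_dvd hd0 (by rw [← hm, hd]; exact Dvd.intro_left p rfl), ← hm, hd]
    exact Nat.mul_div_cancel _ (Nat.pos_of_ne_zero hd0)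
  refine ⟨(c : G) ^ d, by rw [hord]; exact hpp, ?_⟩
  intro ω hω
  set g := (c : G) ^ d with hg
  have hgC : g ∈ C := C.pow_mem c.2 d
  have hg1 : g ≠ 1 := by
    intro h
    rw [h, orderOf_one] at hord
    exact hpp.one_lt.ne hord
  apply hg1
  apply FaithfulSMul.eq_of_smul_eq_smul (α := Ω)
  intro ω'
  rw [one_smul]
  obtain ⟨x, rfl⟩ := MulAction.exists_smul_eq G ω ω'
  have hconj : x⁻¹ * g * x ∈ C := by
    have := hC.conj_mem g hgC x⁻¹
    simpa using this
  obtain ⟨k, hk⟩ := hgen _ hconj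
  have hpow : (x⁻¹ * g * x) ^ p = 1 := by
    have : (x⁻¹ * g * x) ^ p = x⁻¹ * g ^ p * x := by
      have := conj_pow (a := x⁻¹) (b := g) (i := p)
      simpa using this
    rw [this, ← hord, pow_orderOf_eq_one]; simp
  have hdvd : (m : ℤ) ∣ k * p := by
    rw [← hk, ← zpow_natCast, ← zpow_mul] at hpow
    rw [hm]
    exact orderOf_dvd_iff_zpow_eq_one.mpr hpow
  have hdk : (d : ℤ) ∣ k := by
    rw [hd] at hdvd
    push_cast at hdvd
    have hp0 : (p : ℤ) ≠ 0 := by exact_mod_cast hpp.ne_zero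
    rw [mul_comm k] at hdvd
    exact (mul_dvd_mul_iff_left hp0).mp hdvd
  obtain ⟨j, hj⟩ := hdk
  have hconj' : x⁻¹ * g * x = g ^ j := by
    rw [← hk, hj, zpow_mul, zpow_natCast]
  have hstab : g ∈ MulAction.stabilizer G ω := hω
  have hstab' : g ^ j ∈ MulAction.stabilizer G ω := Subgroup.zpow_mem _ hstab j
  have : g * x = x * g ^ j := by
    rw [← hconj']; group
  rw [← mul_smul, this, mul_smul, MulAction.mem_stabilizer_iff.mp hstab']

end Cfsg.Agent.S3554
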