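import Cfsg.Statements.S3555
import Cfsg.Agent.Lib.Helper59.Derangement

set_option autoImplicit false
open Cfsg

namespace Cfsg.Agent.S3555

open MulAction
open scoped Pointwise

theorem card_offDiag (A : Type*) [Finite A] :
    Nat.card {p : A × A // p.1 ≠ p.2} = Nat.card A * Nat.card A - Nat.card A := by
  classical
  have := Fintype.ofFinite A
  rw [Nat.card_eq_fintype_card, Nat.card_eq_fintype_card, Fintype.card_subtype]
  have : (Finset.univ.filter fun p : A × A => p.1 ≠ p.2) = (Finset.univ : Finset A).offDiag := by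
    ext p; simp [Finset.mem_offDiag]
  rw [this, Finset.offDiag_card, Finset.card_univ]

section

variable {G Ω : Type*} [Group G] [MulAction G Ω]

/-- the forgetful map on triples -/
def psi : (Σ g : G, {p : fixedBy Ω g × fixedBy Ω g // p.1 ≠ p.2}) → G × Ω × Ω :=
  fun x => (x.1, x.2.1.1.1, x.2.1.2.1)

theorem sum_le [Finite G] [Finite Ω] [Fintype G]
    (hinv : ∀ g : G, (∀ ω : Ω, g • ω ≠ ω) → g * g = 1) :
    Nat.card {s : G // ∀ ω : Ω, s • ω ≠ ω} * Nat.card Ω ≤
      ∑ g : G, (Nat.card (fixedBy Ω g) * Nat.card (fixedBy Ω g) - Nat.card (fixedBy Ω g)) := by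
  classical
  have hT : Nat.card (Σ g : G, {p : fixedBy Ω g × fixedBy Ω g // p.1 ≠ p.2}) =
      ∑ g : G, (Nat.card (fixedBy Ω g) * Nat.card (fixedBy Ω g) - Nat.card (fixedBy Ω g)) := by
    rw [Nat.card_sigma]
    apply Finset.sum_congr rfl
    intro g _
    exact card_offDiag _
  rw [← hT, ← Nat.card_prod]
  let t₀ : Ω → Ω → G := fun ω ω' =>
    if h : ∃ t : G, (∀ x : Ω, t • x ≠ x) ∧ t • ω = ω' then h.choose else 1
  have ht₀ : ∀ (s : G) (ω : Ω), (∀ x : Ω, s • x ≠ x) →
      (∀ x : Ω, t₀ ω (s • ω) • x ≠ x) ∧ t₀ ω (s • ω) • ω = s • ω := by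
    intro s ω hs
    have h : ∃ t : G, (∀ x : Ω, t • x ≠ x) ∧ t • ω = s • ω := ⟨s, hs, rfl⟩
    simp only [t₀, dif_pos h]
    exact h.choose_spec
  have hsq : ∀ (t : G), (∀ x : Ω, t • x ≠ x) → ∀ x : Ω, t • t • x = x := by
    intro t ht x
    rw [← mul_smul, hinv t ht, one_smul]
  let φ : {s : G // ∀ ω : Ω, s • ω ≠ ω} × Ω →
      (Σ g : G, {p : fixedBy Ω g × fixedBy Ω g // p.1 ≠ p.2}) := fun x =>
    ⟨t₀ x.2 (x.1.1 • x.2) * x.1.1,
      ⟨(⟨x.2, by
          rw [mem_fixedBy, mul_smul]
          have h1 := (ht₀ x.1.1 x.2 x.1.2).2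
          have h2 := hsq _ (ht₀ x.1.1 x.2 x.1.2).1 x.2
          rw [h1] at h2
          exact h2⟩,
        ⟨x.1.1 • x.2, by
          rw [mem_fixedBy, mul_smul, hsq _ x.1.2]
          exact (ht₀ x.1.1 x.2 x.1.2).2⟩),
      fun h => x.1.2 x.2 (congrArg Subtype.val h).symm⟩⟩
  apply Nat.card_le_card_of_injective φ
  intro a b hab
  have h := congrArg psi hab
  simp only [psi, φ, Prod.mk.injEq] at h
  obtain ⟨h1, h2, h3⟩ := h
  obtain ⟨⟨s, hs⟩, ω⟩ := a
  obtain ⟨⟨s', hs'⟩, ω'⟩ := b
  simp only at h1 h2 h3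
  subst h2
  rw [h3] at h1
  have : s = s' := mul_left_cancel h1
  subst this
  rfl

/-- Key counting: if all derangements are involutions, non-identity elements fix at most one point. -/
theorem fix_le_one [Finite G] [Finite Ω] [FaithfulSMul G Ω] [Nonempty Ω]
    (htrans : IsPretransitive G Ω) (hinv : ∀ g : G, (∀ ω : Ω, g • ω ≠ ω) → g * g = 1)
    (g : G) (hg : g ≠ 1) (ω ω' : Ω) (h1 : g • ω = ω) (h2 : g • ω' = ω') : ω = ω' := by
  classical
  have := Fintype.ofFinite G
  set n := Nat.card Ω with hn
  have hG1 : Nat.card (orbitRel.Quotient G Ω) = 1 := by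
    have : Unique (orbitRel.Quotient G Ω) :=
      (pretransitive_iff_unique_quotient_of_nonempty G Ω).mp htrans |>.some
    exact Nat.card_unique
  have hB := Cfsg.Agent.Helper59.burnside_natCard (G := G) (X := Ω)
  rw [hG1, one_mul] at hB
  have hle := sum_le (G := G) (Ω := Ω) hinv
  set f : G → ℕ := fun g => Nat.card (fixedBy Ω g) with hf
  have hfn : ∀ g : G, f g ≤ n := fun g => Nat.card_le_card_of_injective _ Subtype.val_injective
  have hf0 : ∀ g : G, (∀ ω : Ω, g • ω ≠ ω) → f g = 0 := by
    intro g hg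
    have : IsEmpty (fixedBy Ω g) := ⟨fun x => hg x.1 x.2⟩
    exact Nat.card_of_isEmpty
  have hf1 : ∀ g : G, ¬ (∀ ω : Ω, g • ω ≠ ω) → 1 ≤ f g :=
    fun g hg => Cfsg.Agent.Helper59.card_fixedBy_pos_of_not_der hg
  -- integer sums
  let u : G → ℤ := fun g => if (∀ ω : Ω, g • ω ≠ ω) then 0 else ((f g : ℤ) - 1) * ((n : ℤ) - f g)
  have hu : ∀ g ∈ (Finset.univ : Finset G), 0 ≤ u g := by
    intro g _
    simp only [u]
    split_ifs with h
    · exact le_rfl
    · have h1 := hf1 g h
      have h2 := hfn g
      apply mul_nonneg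
      · have : (1 : ℤ) ≤ f g := by exact_mod_cast h1
        linarith
      · have : (f g : ℤ) ≤ n := by exact_mod_cast h2
        linarith
  have hterm : ∀ g : G, ((f g * f g - f g : ℕ) : ℤ) - (n : ℤ) * ((f g : ℤ) - 1) =
      (if (∀ ω : Ω, g • ω ≠ ω) then (n : ℤ) else 0) - u g := by
    intro g
    have hc : ((f g * f g - f g : ℕ) : ℤ) = (f g : ℤ) * f g - f g := by
      rw [Nat.cast_sub (Nat.le_mul_self _)]; push_cast; ring
    rw [hc]
    simp only [u]
    split_ifs with h
    · rw [hf0 g h]; simp
    · ring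
  have hsum := Finset.sum_congr (rfl : (Finset.univ : Finset G) = Finset.univ) (fun g _ => hterm g)
  rw [Finset.sum_sub_distrib, Finset.sum_sub_distrib, ← Finset.mul_sum, Finset.sum_sub_distrib] at hsum
  have hB' : ∑ g : G, (f g : ℤ) = (Nat.card G : ℤ) := by exact_mod_cast hB
  have hone : ∑ _g : G, (1 : ℤ) = (Nat.card G : ℤ) := by
    simp [Nat.card_eq_fintype_card]
  rw [hB', hone, sub_self, mul_zero, sub_zero] at hsum
  have hd : ∑ g : G, (if (∀ ω : Ω, g • ω ≠ ω) then (n : ℤ) else 0) =
      (Nat.card {s : G // ∀ ω : Ω, s • ω ≠ ω} : ℤ) * n := by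
    rw [← Finset.sum_filter, Finset.sum_const, Nat.card_eq_fintype_card, Fintype.card_subtype]
    simp
  rw [hd] at hsum
  have hle' : (Nat.card {s : G // ∀ ω : Ω, s • ω ≠ ω} : ℤ) * n ≤
      ∑ g : G, ((f g * f g - f g : ℕ) : ℤ) := by exact_mod_cast hle
  have husum : ∑ g : G, u g ≤ 0 := by linarith
  have hu0 : ∑ g : G, u g = 0 := le_antisymm husum (Finset.sum_nonneg hu)
  have hall := (Finset.sum_eq_zero_iff_of_nonneg hu).mp hu0
  -- apply to g
  have hgnd : ¬ (∀ ω : Ω, g • ω ≠ ω) := fun h => h ω h1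
  have hug := hall g (Finset.mem_univ g)
  simp only [u, if_neg hgnd] at hug
  rcases mul_eq_zero.mp hug with h | h
  · have hfg : f g = 1 := by
      have : (f g : ℤ) = 1 := by linarith
      exact_mod_cast this
    rw [hf, Nat.card_eq_one_iff_unique] at hfg
    obtain ⟨hs, -⟩ := hfg
    have := hs.elim (⟨ω, h1⟩ : fixedBy Ω g) ⟨ω', h2⟩
    exact congrArg Subtype.val this
  · exfalso
    have hfg : f g = n := by
      have : (f g : ℤ) = n := by linarith
      exact_mod_cast this
    apply hg
    apply FaithfulSMul.eq_of_smul_eq_smul (α := Ω)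
    intro x
    rw [one_smul]
    have huniv : fixedBy Ω g = Set.univ := by
      rw [Set.eq_univ_iff_ncard, ← Nat.card_coe_set_eq]
      exact hfg
    have : x ∈ fixedBy Ω g := by rw [huniv]; trivial
    exact this

end

/-- Let G act faithfully and transitively on a finite set and suppose every element of G fixing no point is an involution. Then either G is an elementary abelian 2-group, or G is a Frobenius group whose Frobenius kernel is an elementary abelian 2-group: G has a Frobenius complement H, and the elements lying in no conjugate of H, together with the identity, pairwise commute and square to the identity. -/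
theorem result {G Ω : Type*} [Group G] [Finite G] [MulAction G Ω] [FaithfulSMul G Ω] [Finite Ω]
    (htrans : MulAction.IsPretransitive G Ω) (hinv : ∀ g : G, (∀ ω : Ω, g • ω ≠ ω) → orderOf g = 2) :
    (IsMulCommutative G ∧ ∀ g : G, g ^ 2 = 1) ∨
    (∃ H : Subgroup G, Cfsg.IsFrobeniusComplement H ∧
      (∀ x ∈ Cfsg.frobeniusKernel H, x ^ 2 = 1) ∧
      ∀ x ∈ Cfsg.frobeniusKernel H, ∀ y ∈ Cfsg.frobeniusKernel H, x * y = y * x) := by
  classical
  have hinv' : ∀ g : G, (∀ ω : Ω, g • ω ≠ ω) → g * g = 1 := by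
    intro g hg
    have := hinv g hg
    rw [← pow_two, ← this, pow_orderOf_eq_one]
  have hcomm_of_sq : (∀ g : G, g * g = 1) → ∀ a b : G, a * b = b * a := by
    intro hsq a b
    have ha : a⁻¹ = a := inv_eq_of_mul_eq_one_right (hsq a)
    have hb : b⁻¹ = b := inv_eq_of_mul_eq_one_right (hsq b)
    have hab : (a * b)⁻¹ = a * b := inv_eq_of_mul_eq_one_right (hsq (a * b))
    rw [← hab, mul_inv_rev, ha, hb]
  rcases subsingleton_or_nontrivial Ω with hΩ | hΩ
  · left
    have hG : ∀ g : G, g = 1 := by
      intro g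
      apply FaithfulSMul.eq_of_smul_eq_smul (α := Ω)
      intro x; exact Subsingleton.elim _ _
    refine ⟨⟨⟨fun a b => by rw [hG a, hG b]⟩⟩, fun g => by rw [hG g, one_pow]⟩
  · obtain ⟨α, β, hαβ⟩ := exists_pair_ne Ω
    have : Nonempty Ω := ⟨α⟩
    have key := fix_le_one htrans hinv'
    -- a fixed point of x puts x in a conjugate of the stabilizer
    have hconj : ∀ (x g : G), x • (g • α) = g • α → x ∈ MulAut.conj g • stabilizer G α := by
      intro x g hx
      rw [Subgroup.mem_pointwise_smul_iff_inv_smul_mem, MulAut.smul_def, ← map_inv,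
        MulAut.conj_apply, mem_stabilizer_iff, inv_inv, mul_smul, mul_smul, hx, inv_smul_smul]
    have hconj' : ∀ (x g : G), x ∈ MulAut.conj g • stabilizer G α → x • (g • α) = g • α := by
      intro x g hx
      rw [Subgroup.mem_pointwise_smul_iff_inv_smul_mem, MulAut.smul_def, ← map_inv,
        MulAut.conj_apply, mem_stabilizer_iff, inv_inv, mul_smul, mul_smul] at hx
      exact inv_smul_eq_iff.mp hx
    by_cases hH : stabilizer G α = ⊥
    · left
      have hsq : ∀ g : G, g * g = 1 := by
        intro g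
        by_cases hg : g = 1
        · rw [hg, one_mul]
        · apply hinv'
          intro ω hω
          obtain ⟨x, rfl⟩ := exists_smul_eq G α ω
          have h1 := hconj g x hω
          rw [hH, Subgroup.smul_bot, Subgroup.mem_bot] at h1
          exact hg h1
      exact ⟨⟨⟨fun a b => hcomm_of_sq hsq a b⟩⟩, fun g => by rw [pow_two]; exact hsq g⟩
    · right
      have hker : ∀ x ∈ Cfsg.frobeniusKernel (stabilizer G α), x ≠ 1 → ∀ ω : Ω, x • ω ≠ ω := by
        intro x hx hx1 ω hω
        rcases hx with h | h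
        · exact hx1 h
        · obtain ⟨g, rfl⟩ := exists_smul_eq G α ω
          exact h g (hconj x g hω)
      have hcomm : ∀ s t : G, (∀ ω : Ω, s • ω ≠ ω) → (∀ ω : Ω, t • ω ≠ ω) → s * t = t * s := by
        intro s t hs ht
        have hs2 := hinv' s hs
        have ht2 := hinv' t ht
        have hsi : s⁻¹ = s := inv_eq_of_mul_eq_one_right hs2
        have hti : t⁻¹ = t := inv_eq_of_mul_eq_one_right ht2
        by_cases hst : s * t = 1
        · have : s = t := by rw [← hti]; exact eq_inv_of_mul_eq_one_left hst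
          rw [this]
        · by_cases hd : ∀ ω : Ω, (s * t) • ω ≠ ω
          · have h2 := hinv' _ hd
            have hi : (s * t)⁻¹ = s * t := inv_eq_of_mul_eq_one_right h2
            rw [← hi, mul_inv_rev, hsi, hti]
          · exfalso
            push Not at hd
            obtain ⟨γ, hγ⟩ := hd
            rw [mul_smul] at hγ
            have h1 : t • γ = s • γ := by
              have : s • (s • t • γ) = s • γ := congrArg (s • ·) hγ
              rw [← mul_smul, hs2, one_smul] at this
              exact this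
            have h2 : (s * t) • (t • γ) = t • γ := by
              rw [mul_smul, ← mul_smul t t, ht2, one_smul, h1]
            have h3 : (s * t) • γ = γ := by rw [mul_smul]; exact hγ
            exact ht γ (key (s * t) hst γ (t • γ) h3 h2).symm
      refine ⟨stabilizer G α, ⟨hH, ?_, ?_⟩, ?_, ?_⟩
      · intro htop
        obtain ⟨x, hx⟩ := exists_smul_eq G α β
        have : x ∈ stabilizer G α := by rw [htop]; trivial
        exact hαβ ((mem_stabilizer_iff.mp this).symm.trans hx)
      · intro g hg
        rw [Subgroup.eq_bot_iff_forall]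
        intro x hx
        obtain ⟨hx1, hx2⟩ := Subgroup.mem_inf.mp hx
        by_contra hx1'
        have hxα : x • α = α := hx1
        have hxg : x • (g • α) = g • α := hconj' x g hx2
        exact hg (key x hx1' α (g • α) hxα hxg).symm
      · intro x hx
        by_cases hx1 : x = 1
        · rw [hx1, one_pow]
        · rw [pow_two]; exact hinv' x (hker x hx hx1)
      · intro x hx y hy
        by_cases hx1 : x = 1
        · rw [hx1, one_mul, mul_one]
        · by_cases hy1 : y = 1
          · rw [hy1, one_mul, mul_one]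
          · exact hcomm x y (hker x hx hx1) (hker y hy hy1)

end Cfsg.Agent.S3555
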