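import Mathlib
import Cfsg.Statements.S3556
import Cfsg.Agent.Lib.Helper58.DerPrime
-- import your own Cfsg.Agent.* helpers here

set_option autoImplicit false
open Cfsg

namespace Cfsg.Agent.S3556

/-- Let G act faithfully and primitively on a finite set with at least two points, and suppose that for some fixed prime p every element of G fixing no point has order a power of p. Then G is of affine type (it has a regular normal subgroup that is an elementary abelian r-group for some prime r) or almost simple (it has a non-abelian simple normal subgroup with trivial centralizer). -/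
theorem result {G Ω : Type*} [Group G] [Finite G] [MulAction G Ω] [FaithfulSMul G Ω] [Finite Ω]
    (hprim : MulAction.IsPreprimitive G Ω) (hΩ : 2 ≤ Nat.card Ω) (p : ℕ) (hp : p.Prime)
    (hder : ∀ g : G, (∀ ω : Ω, g • ω ≠ ω) → ∃ k : ℕ, orderOf g = p ^ k) :
    (∃ (N : Subgroup G) (r : ℕ), r.Prime ∧ N.Normal ∧ Cfsg.IsElementaryAbelian r N ∧
      MulAction.IsPretransitive N Ω ∧ ∀ a : Ω, MulAction.stabilizer N a = ⊥) ∨
    (∃ T : Subgroup G, T.Normal ∧ IsSimpleGroup ↥T ∧ ¬ IsMulCommutative ↥T ∧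
      Subgroup.centralizer (T : Set G) = ⊥) := by
  classical
  by_cases hnas : ∃ T : Subgroup G, T.Normal ∧ IsSimpleGroup T ∧ ¬ IsMulCommutative T ∧
      Subgroup.centralizer (T : Set G) = ⊥
  · exact Or.inr hnas
  left
  have hnt : Nontrivial Ω := Finite.one_lt_card_iff_nontrivial.mp (by omega)
  obtain ⟨a, b, hab⟩ := exists_pair_ne Ω
  have hne : Nonempty Ω := ⟨a⟩
  have hGnt : Nontrivial G := by
    obtain ⟨g, hg⟩ := hprim.toIsPretransitive.exists_smul_eq a b
    refine ⟨⟨g, 1, ?_⟩⟩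
    rintro rfl
    exact hab (by simpa using hg)
  obtain ⟨N, hNn, hN, hmin⟩ := Cfsg.Agent.Helper58.exists_min_normal (G := G)
  by_cases hna : ∀ a ∈ N, ∀ b ∈ N, a * b = b * a
  · -- abelian: take the elements of order dividing a prime `r`
    have hNnt : Nontrivial N := (Subgroup.nontrivial_iff_ne_bot N).mpr hN
    have hcard1 : 1 < Nat.card N := Finite.one_lt_card
    obtain ⟨r, hr, hrd⟩ := Nat.exists_prime_and_dvd (n := Nat.card N) (by omega)
    have hrF : Fact r.Prime := ⟨hr⟩
    obtain ⟨x, hx⟩ := exists_prime_orderOf_dvd_card' r hrd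
    have hKne : Cfsg.Agent.Helper58.EPStab.powKer N hna r ≠ ⊥ := by
      intro hbot
      have hxK : (x : G) ∈ Cfsg.Agent.Helper58.EPStab.powKer N hna r := by
        refine ⟨x.2, ?_⟩
        have := pow_orderOf_eq_one x
        rw [hx] at this
        exact_mod_cast congrArg Subtype.val this
      rw [hbot, Subgroup.mem_bot] at hxK
      have : x = 1 := Subtype.ext hxK
      rw [this, orderOf_one] at hx
      exact hr.one_lt.ne hx
    have hKcomm : ∀ a ∈ Cfsg.Agent.Helper58.EPStab.powKer N hna r,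
        ∀ b ∈ Cfsg.Agent.Helper58.EPStab.powKer N hna r, a * b = b * a :=
      fun a ha b hb => hna a ha.1 b hb.1
    refine ⟨Cfsg.Agent.Helper58.EPStab.powKer N hna r, r, hr, inferInstance,
      ⟨⟨⟨fun a b => Subtype.ext (hKcomm a a.2 b b.2)⟩⟩, fun a ha => ha.2⟩, ?_, ?_⟩
    · refine ⟨fun x y => ?_⟩
      obtain ⟨n, hn, hxy⟩ := Cfsg.Agent.Helper58.prim_exists_smul_eq hprim _ hKne x y
      exact ⟨⟨n, hn⟩, hxy⟩
    · intro ω
      rw [eq_bot_iff]
      intro n hn
      rw [MulAction.mem_stabilizer_iff, Subgroup.smul_def] at hn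
      rw [Subgroup.mem_bot]
      exact Subtype.ext
        (Cfsg.Agent.Helper58.prim_abelian_free hprim _ hKne hKcomm n n.2 ω hn)
  · exfalso
    obtain ⟨p₁, r₁, hp₁, hr₁, hne', g₁, g₂, hd₁, hd₂, hdv₁, hdv₂⟩ :=
      Cfsg.Agent.Helper58.exists_ders_of_nonabelian hprim hnas N hN hmin hna
    obtain ⟨k₁, hk₁⟩ := hder g₁ hd₁
    obtain ⟨k₂, hk₂⟩ := hder g₂ hd₂
    rw [hk₁] at hdv₁
    rw [hk₂] at hdv₂
    have e1 := (Nat.prime_dvd_prime_iff_eq hp₁ hp).mp (hp₁.dvd_of_dvd_pow hdv₁)
    have e2 := (Nat.prime_dvd_prime_iff_eq hr₁ hp).mp (hr₁.dvd_of_dvd_pow hdv₂)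
    exact hne' (e1.trans e2.symm)


end Cfsg.Agent.S3556
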