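import Cfsg.Statements.S3559
import Cfsg.Agent.Lib.Helper64.SchurRing

set_option autoImplicit false
open Cfsg

namespace Cfsg.Agent.S3559

open Cfsg.Agent.Helper64.SchurRing

/-- Let G act faithfully and transitively on a finite set whose number of points n ≥ 2 is not a prime power, and suppose G has a cyclic subgroup acting regularly (transitively with trivial point stabilizers). Then G is imprimitive or doubly transitive. -/
theorem result {G Ω : Type*} [Group G] [Finite G] [MulAction G Ω] [FaithfulSMul G Ω] [Finite Ω]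
    (htrans : MulAction.IsPretransitive G Ω) (hn : 2 ≤ Nat.card Ω) (hnp : ¬ IsPrimePow (Nat.card Ω))
    (C : Subgroup G) (hcyc : IsCyclic ↥C) (hC : MulAction.IsPretransitive ↥C Ω ∧ ∀ a : Ω, MulAction.stabilizer ↥C a = ⊥) :
    ¬ MulAction.IsPreprimitive G Ω ∨ MulAction.IsMultiplyPretransitive G Ω 2 := by
  by_cases hprim : MulAction.IsPreprimitive G Ω
  swap
  · exact Or.inl hprim
  right
  obtain ⟨hCtr, hCreg⟩ := hC
  have hne : Nonempty Ω := by
    rw [← Finite.card_pos_iff]; omega
  obtain ⟨α⟩ := hne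
  -- the bijection C ≃ Ω
  have hbij : Function.Bijective (fun c : ↥C => c • α) := by
    constructor
    · intro c c' hcc
      have h1 : (c'⁻¹ * c) • α = α := by
        rw [mul_smul, inv_smul_eq_iff]; exact hcc
      have h2 : c'⁻¹ * c ∈ MulAction.stabilizer ↥C α := h1
      rw [hCreg α, Subgroup.mem_bot] at h2
      exact (inv_mul_eq_one.1 h2).symm
    · intro ω
      exact hCtr.exists_smul_eq α ω
  let e : ↥C ≃ Ω := Equiv.ofBijective _ hbij
  have he : ∀ c : ↥C, e c = c • α := fun c => rfl
  letI : CommGroup ↥C := IsCyclic.commGroup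
  letI act : MulAction G ↥C := Equiv.mulAction G e
  have hsmul : ∀ (g : G) (c : ↥C), e (g • c) = g • e c := by
    intro g c
    change e (e.symm (g • e c)) = g • e c
    rw [Equiv.apply_symm_apply]
  have hι : ∀ h x : ↥C, (C.subtype h) • x = h * x := by
    intro h x
    apply e.injective
    rw [hsmul, he, he, mul_smul]
    rfl
  -- primitivity transfers
  let f : ↥C →ₑ[@id G] Ω := ⟨e, fun g c => hsmul g c⟩
  haveI : MulAction.IsPreprimitive G ↥C :=
    (MulAction.isPreprimitive_congr (f := f) Function.surjective_id e.bijective).2 hprim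
  have hcard : Nat.card ↥C = Nat.card Ω := Nat.card_congr e
  have hkey := stabilizer_transitive (G := G) (H := ↥C) C.subtype hι (hcard ▸ hnp) (hcard ▸ hn)
  have he1 : e 1 = α := by rw [he, one_smul]
  -- stabilizer of α is transitive on the other points
  have hstab : ∀ b d : Ω, b ≠ α → d ≠ α → ∃ k : G, k • α = α ∧ k • b = d := by
    intro b d hb hd
    obtain ⟨x, rfl⟩ := e.surjective b
    obtain ⟨y, rfl⟩ := e.surjective d
    have hx : x ≠ 1 := fun h => hb (h ▸ he1)
    have hy : y ≠ 1 := fun h => hd (h ▸ he1)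
    obtain ⟨k, hk1, hkx⟩ := hkey x y hx hy
    refine ⟨k, ?_, ?_⟩
    · rw [← he1, ← hsmul, hk1]
    · rw [← hsmul, hkx]
  rw [MulAction.is_two_pretransitive_iff]
  intro a b c d hab hcd
  obtain ⟨g₁, hg₁⟩ := htrans.exists_smul_eq a α
  obtain ⟨g₂, hg₂⟩ := htrans.exists_smul_eq c α
  have hb' : g₁ • b ≠ α := by
    intro h
    apply hab
    have : g₁ • b = g₁ • a := h.trans hg₁.symm
    exact (MulAction.injective g₁ this).symm
  have hd' : g₂ • d ≠ α := by
    intro h
    apply hcd
    have : g₂ • d = g₂ • c := h.trans hg₂.symm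
    exact (MulAction.injective g₂ this).symm
  obtain ⟨k, hkα, hkb⟩ := hstab _ _ hb' hd'
  refine ⟨g₂⁻¹ * k * g₁, ?_, ?_⟩
  · rw [mul_smul, mul_smul, hg₁, hkα, inv_smul_eq_iff, hg₂]
  · rw [mul_smul, mul_smul, hkb, inv_smul_smul]

end Cfsg.Agent.S3559
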