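import Cfsg.Statements.S3560
import Cfsg.Agent.Lib.Helper59.Hamming

set_option autoImplicit false
open Cfsg

namespace Cfsg.Agent.S3560

open MulAction Cfsg.Agent.Helper59

/-- Let K be a finite group isomorphic to a direct product of r ≥ 2 groups all of the same order m ≥ 3. Then K is not a B-group: there is a primitive but not doubly transitive permutation group (on some finite set) containing a regular subgroup isomorphic to K. -/
theorem result {K : Type*} [Group K] [Finite K] {ι : Type*} [Fintype ι] (F : ι → Type*) [∀ i, Group (F i)]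
    (hr : 2 ≤ Fintype.card ι) (m : ℕ) (hm : 3 ≤ m) (hcard : ∀ i, Nat.card (F i) = m) (e : K ≃* (∀ i, F i)) :
    ∃ (n : ℕ) (G R : Subgroup (Equiv.Perm (Fin n))), R ≤ G ∧ Nonempty (↥R ≃* K) ∧
      MulAction.IsPretransitive ↥R (Fin n) ∧ (∀ a : Fin n, MulAction.stabilizer ↥R a = ⊥) ∧
      MulAction.IsPreprimitive ↥G (Fin n) ∧ ¬ MulAction.IsMultiplyPretransitive ↥G (Fin n) 2 := by
  classical
  have hF : ∀ i, Finite (F i) := fun i => Nat.finite_of_card_ne_zero (by rw [hcard i]; omega)
  have hFt : ∀ i, Fintype (F i) := fun i => Fintype.ofFinite (F i)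
  have eF : ∀ i, F i ≃ Fin m := fun i =>
    Fintype.equivFinOfCardEq (by rw [← Nat.card_eq_fintype_card]; exact hcard i)
  let E : (∀ i, F i) ≃ (ι → Fin m) := Equiv.piCongrRight eF
  let c : (ι → Fin m) ≃ Fin (Fintype.card (ι → Fin m)) := Fintype.equivFin _
  let cE : (∀ i, F i) ≃ Fin (Fintype.card (ι → Fin m)) := E.trans c
  let ρ : K →* Equiv.Perm (Fin (Fintype.card (ι → Fin m))) :=
    (cE.permCongrHom.toMonoidHom).comp ((MulAction.toPermHom (∀ i, F i) (∀ i, F i)).comp e.toMonoidHom)
  have hρ : ∀ (k : K) (a : Fin (Fintype.card (ι → Fin m))), ρ k a = cE (e k * cE.symm a) := by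
    intro k a
    rfl
  have hρinj : Function.Injective ρ := by
    rw [injective_iff_map_eq_one]
    intro k hk
    have h1 := hρ k (cE 1)
    rw [hk, Equiv.Perm.coe_one, id_eq, Equiv.symm_apply_apply, mul_one] at h1
    have h2 : e k = 1 := (cE.injective h1).symm
    exact (map_eq_one_iff e e.injective).mp h2
  let G : Subgroup (Equiv.Perm (Fin (Fintype.card (ι → Fin m)))) :=
    (hamIso ι (Fin m)).map (c.permCongrHom.toMonoidHom)
  refine ⟨Fintype.card (ι → Fin m), G, ρ.range, ?_, ⟨(MonoidHom.ofInjective hρinj).symm⟩, ?_, ?_, ?_, ?_⟩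
  · -- R ≤ G
    rintro _ ⟨k, rfl⟩
    refine ⟨E.permCongr (MulAction.toPerm (e k)), ?_, ?_⟩
    · intro x y
      have hx : ∀ z : ι → Fin m, (E.permCongr (MulAction.toPerm (e k))) z =
          fun i => eF i ((e k) i * (eF i).symm (z i)) := by
        intro z; funext i; rfl
      rw [hx, hx]
      exact hammingDist_comp (fun i (t : Fin m) => eF i ((e k) i * (eF i).symm t))
        (fun i => (eF i).injective.comp ((mul_right_injective _).comp (eF i).symm.injective))
    · ext a
      rfl
  · -- transitive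
    constructor
    intro a b
    refine ⟨⟨ρ (e.symm (cE.symm b * (cE.symm a)⁻¹)), ⟨_, rfl⟩⟩, ?_⟩
    show ρ (e.symm (cE.symm b * (cE.symm a)⁻¹)) a = b
    rw [hρ, MulEquiv.apply_symm_apply, inv_mul_cancel_right, Equiv.apply_symm_apply]
  · -- regular
    intro a
    rw [Subgroup.eq_bot_iff_forall]
    rintro ⟨_, ⟨k, rfl⟩⟩ hk
    have h1 : ρ k a = a := hk
    rw [hρ] at h1
    have h2 : e k * cE.symm a = cE.symm a := by
      have := congrArg cE.symm h1
      rwa [Equiv.symm_apply_apply] at this
    have h3 : e k = 1 := mul_eq_right.mp h2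
    have h4 : k = 1 := (map_eq_one_iff e e.injective).mp h3
    apply Subtype.ext
    show ρ k = 1
    rw [h4, map_one]
  · -- primitive
    have hA : 3 ≤ Fintype.card (Fin m) := by rw [Fintype.card_fin]; exact hm
    have hprim := isPreprimitive_hamIso (ι := ι) (A := Fin m) hA
    let φ : hamIso ι (Fin m) → G := fun g => ⟨c.permCongrHom g, Subgroup.mem_map_of_mem _ g.2⟩
    have hφ : Function.Surjective φ := by
      rintro ⟨_, ⟨g, hg, rfl⟩⟩
      exact ⟨⟨g, hg⟩, rfl⟩
    let f : (ι → Fin m) →ₑ[φ] Fin (Fintype.card (ι → Fin m)) :=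
      { toFun := c
        map_smul' := by
          intro g x
          show c ((g : Equiv.Perm (ι → Fin m)) x) = c ((g : Equiv.Perm (ι → Fin m)) (c.symm (c x)))
          rw [Equiv.symm_apply_apply] }
    exact (isPreprimitive_congr hφ (f := f) c.bijective).mp hprim
  · -- not 2-transitive
    have hA : 2 ≤ Fintype.card (Fin m) := by rw [Fintype.card_fin]; omega
    have hnot := not_two_pretransitive_hamIso (ι := ι) (A := Fin m) hA hr
    let φ : hamIso ι (Fin m) → G := fun g => ⟨c.permCongrHom g, Subgroup.mem_map_of_mem _ g.2⟩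
    have hφ : Function.Surjective φ := by
      rintro ⟨_, ⟨g, hg, rfl⟩⟩
      exact ⟨⟨g, hg⟩, rfl⟩
    let f : (ι → Fin m) →ₑ[φ] Fin (Fintype.card (ι → Fin m)) :=
      { toFun := c
        map_smul' := by
          intro g x
          show c ((g : Equiv.Perm (ι → Fin m)) x) = c ((g : Equiv.Perm (ι → Fin m)) (c.symm (c x)))
          rw [Equiv.symm_apply_apply] }
    intro h2
    exact hnot ((IsPretransitive.of_embedding_congr hφ (f := f) c.bijective).mpr h2)

end Cfsg.Agent.S3560
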