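import Cfsg.Statements.S3573
import Mathlib

set_option autoImplicit false
open Cfsg

namespace Cfsg.Agent.S3573

open Equiv Equiv.Perm

theorem image_eq_of_maps {n : ℕ} (σ : Perm (Fin n)) (s : Finset (Fin n))
    (h : ∀ x ∈ s, σ x ∈ s) : s.image σ = s := by
  apply Finset.eq_of_subset_of_card_le
  · intro y hy
    obtain ⟨x, hx, rfl⟩ := Finset.mem_image.mp hy
    exact h x hx
  · rw [Finset.card_image_of_injective _ σ.injective]

/-- prime does not divide small binomials -/
theorem not_dvd_choose_of_lt {r a k : ℕ} (hr : r.Prime) (ha : a < r) (hk : k ≤ a) :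
    ¬ r ∣ Nat.choose a k := by
  intro h
  have h1 := Nat.choose_mul_factorial_mul_factorial hk
  have h2 : r ∣ a.factorial := by
    rw [← h1]
    exact Dvd.dvd.mul_right (Dvd.dvd.mul_right h _) _
  have := (Nat.Prime.dvd_factorial hr).mp h2
  omega

theorem le_of_dvd_choose {r n k : ℕ} (hr : r.Prime) (hk : k ≤ n) (h : r ∣ Nat.choose n k) :
    r ≤ n := by
  have h1 := Nat.choose_mul_factorial_mul_factorial hk
  have h2 : r ∣ n.factorial := by
    rw [← h1]
    exact Dvd.dvd.mul_right (Dvd.dvd.mul_right h _) _
  exact (Nat.Prime.dvd_factorial hr).mp h2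

theorem le_of_dvd_choose_of_mod_le {r n k : ℕ} (hr : r.Prime) (h : r ∣ Nat.choose n k)
    (hmod : k % r ≤ n % r) : r ≤ k := by
  by_contra hlt
  push Not at hlt
  have : Fact r.Prime := ⟨hr⟩
  have hL := Choose.choose_modEq_choose_mod_mul_choose_div_nat (n := n) (k := k) (p := r)
  rw [Nat.mod_eq_of_lt hlt, Nat.div_eq_of_lt hlt, Nat.choose_zero_right, mul_one] at hL
  rw [Nat.mod_eq_of_lt hlt] at hmod
  have h0 : Nat.choose n k ≡ 0 [MOD r] := (Nat.modEq_zero_iff_dvd).mpr h
  have h1 : Nat.choose (n % r) k ≡ 0 [MOD r] := hL.symm.trans h0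
  exact not_dvd_choose_of_lt hr (Nat.mod_lt _ hr.pos) hmod ((Nat.modEq_zero_iff_dvd).mp h1)

/-- every element of prime order fixes a `k`-subset when `k % r ≤ n % r`. -/
theorem exists_invariant {n k r : ℕ} (hr : r.Prime) (hkn : k ≤ n) (hmod : k % r ≤ n % r)
    (σ : Perm (Fin n)) (hσ : orderOf σ = r) :
    ∃ s : Finset (Fin n), s.card = k ∧ s.image σ = s := by
  classical
  have : Fact r.Prime := ⟨hr⟩
  have hpow : σ ^ r = 1 := by rw [← hσ]; exact pow_orderOf_eq_one σ
  have hct : ∀ c ∈ σ.cycleType, c = r := pow_prime_eq_one_iff.mp hpow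
  set C := σ.cycleFactorsFinset with hC
  set j := C.card with hj
  have hcard : ∀ c ∈ C, c.support.card = r := by
    intro c hc
    apply hct
    rw [cycleType_def]
    exact Multiset.mem_map_of_mem _ hc
  have hsupp : σ.support.card = j * r := by
    rw [← sum_cycleType, cycleType_def]
    have : (Multiset.map (Finset.card ∘ support) C.val) = Multiset.map (fun _ => r) C.val := by
      apply Multiset.map_congr rfl
      intro c hc
      exact hcard c hc
    rw [this, Multiset.map_const', Multiset.sum_replicate, smul_eq_mul]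
    rfl
  set F := (Finset.univ : Finset (Fin n)) \ σ.support with hF
  have hFcard : F.card + j * r = n := by
    have := Finset.card_sdiff_add_card_eq_card (Finset.subset_univ σ.support)
    rw [Finset.card_univ, Fintype.card_fin, hsupp] at this
    exact this
  have hnmod : n % r ≤ F.card := by
    have : n % r = F.card % r := by
      have h1 : (F.card + j * r) % r = F.card % r := Nat.add_mul_mod_self_right _ _ _
      rw [hFcard] at h1
      exact h1
    rw [this]; exact Nat.mod_le _ _
  set a' := min (k / r) j with ha'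
  have ha'j : a' ≤ j := min_le_right _ _
  have ha'k : r * a' ≤ k := by
    have : a' ≤ k / r := min_le_left _ _
    calc r * a' ≤ r * (k / r) := Nat.mul_le_mul_left _ this
      _ ≤ k := Nat.mul_div_le k r
  have hb' : k - r * a' ≤ F.card := by
    rcases le_total (k / r) j with h | h
    · have : a' = k / r := min_eq_left h
      rw [this]
      have h2 : k - r * (k / r) = k % r := by
        have := Nat.mod_add_div k r
        omega
      rw [h2]; omega
    · have : a' = j := min_eq_right h
      rw [this]
      have : r * j = j * r := mul_comm _ _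
      omega
  obtain ⟨C', hC'sub, hC'card⟩ := Finset.exists_subset_card_eq ha'j
  obtain ⟨B, hBsub, hBcard⟩ := Finset.exists_subset_card_eq hb'
  have hdisj : (C' : Set (Perm (Fin n))).PairwiseDisjoint support := by
    intro c hc d hd hcd
    have := cycleFactorsFinset_pairwise_disjoint (f := σ) (hC'sub hc) (hC'sub hd) hcd
    exact this.disjoint_support
  have hUcard : (C'.biUnion support).card = a' * r := by
    rw [Finset.card_biUnion hdisj]
    rw [Finset.sum_congr rfl (fun c hc => hcard c (hC'sub hc)), Finset.sum_const, smul_eq_mul,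
      hC'card]
  have hUB : Disjoint (C'.biUnion support) B := by
    rw [Finset.disjoint_left]
    intro x hx hxB
    obtain ⟨c, hc, hxc⟩ := Finset.mem_biUnion.mp hx
    have h1 : x ∈ σ.support := mem_cycleFactorsFinset_support_le (hC'sub hc) hxc
    have h2 : x ∈ F := hBsub hxB
    rw [hF, Finset.mem_sdiff] at h2
    exact h2.2 h1
  refine ⟨C'.biUnion support ∪ B, ?_, ?_⟩
  · rw [Finset.card_union_of_disjoint hUB, hUcard, hBcard]
    have : a' * r = r * a' := mul_comm _ _
    omega
  · apply image_eq_of_maps
    intro x hx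
    rcases Finset.mem_union.mp hx with h | h
    · obtain ⟨c, hc, hxc⟩ := Finset.mem_biUnion.mp h
      apply Finset.mem_union_left
      apply Finset.mem_biUnion.mpr
      refine ⟨c, hc, ?_⟩
      have hcC := (mem_cycleFactorsFinset_iff.mp (hC'sub hc)).2 x hxc
      rw [← hcC]
      exact apply_mem_support.mpr hxc
    · apply Finset.mem_union_right
      have h2 : x ∈ F := hBsub h
      rw [hF, Finset.mem_sdiff] at h2
      have : σ x = x := by
        by_contra hne
        exact h2.2 (mem_support.mpr hne)
      rw [this]; exact h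

/-- a witness permutation: few fixed points -/
theorem exists_bad {n r : ℕ} (hr : r.Prime) (hrn : r ≤ n) :
    ∃ σ : Perm (Fin n), orderOf σ = r ∧
      ∀ s : Finset (Fin n), s.image σ = s → s.card % r ≤ n % r := by
  classical
  have : Fact r.Prime := ⟨hr⟩
  have hj : 1 ≤ n / r := (Nat.one_le_div_iff hr.pos).mpr hrn
  have hex : ∃ g : Perm (Fin n), g.cycleType = Multiset.replicate (n / r) r := by
    rw [exists_with_cycleType_iff]
    refine ⟨?_, ?_⟩
    · rw [Multiset.sum_replicate, smul_eq_mul, Fintype.card_fin]
      exact Nat.div_mul_le_self n r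
    · intro a ha
      rw [Multiset.eq_of_mem_replicate ha]
      exact hr.two_le
  obtain ⟨σ, hσ⟩ := hex
  have hpow : σ ^ r = 1 := by
    rw [pow_prime_eq_one_iff]
    intro c hc
    rw [hσ] at hc
    exact Multiset.eq_of_mem_replicate hc
  have hne : σ ≠ 1 := by
    intro h
    rw [h, cycleType_one] at hσ
    have := congrArg Multiset.card hσ
    rw [Multiset.card_zero, Multiset.card_replicate] at this
    omega
  have hord : orderOf σ = r := orderOf_eq_prime hpow hne
  have hfix : σ.supportᶜ.card = n % r := by
    rw [Finset.card_compl, Fintype.card_fin, ← sum_cycleType, hσ, Multiset.sum_replicate,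
      smul_eq_mul]
    have := Nat.mod_add_div n r
    have h2 : n / r * r = r * (n / r) := mul_comm _ _
    omega
  refine ⟨σ, hord, ?_⟩
  intro s hs
  have hmem : ∀ x, σ x ∈ s ↔ x ∈ s := by
    intro x
    constructor
    · intro hx
      rw [← hs] at hx
      obtain ⟨y, hy, hyx⟩ := Finset.mem_image.mp hx
      rw [← σ.injective hyx]; exact hy
    · intro hx
      rw [← hs]
      exact Finset.mem_image_of_mem _ hx
  let τ : Perm {x // x ∈ s} := σ.subtypePerm hmem
  have hτ : τ ^ r ^ 1 = 1 := by
    rw [pow_one, subtypePerm_pow]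
    ext x
    simp [hpow]
  have hmod := card_compl_support_modEq (p := r) (n := 1) hτ
  rw [Fintype.card_coe] at hmod
  have hle : τ.supportᶜ.card ≤ σ.supportᶜ.card := by
    apply Finset.card_le_card_of_injOn (fun x => x.val)
    · intro x hx
      have hx' : x ∈ τ.supportᶜ := hx
      rw [Finset.mem_compl, mem_support, not_not] at hx'
      have : σ x.val = x.val := congrArg Subtype.val hx'
      show x.val ∈ σ.supportᶜ
      rw [Finset.mem_compl, mem_support, not_not]
      exact this
    · intro x _ y _ hxy
      exact Subtype.ext hxy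
  rw [hfix] at hle
  have hlt : τ.supportᶜ.card < r := lt_of_le_of_lt hle (Nat.mod_lt _ hr.pos)
  have : s.card % r = τ.supportᶜ.card := by
    have h1 : s.card % r = τ.supportᶜ.card % r := hmod.symm
    rw [h1, Nat.mod_eq_of_lt hlt]
  rw [this]; exact hle

/-- Let 1 ≤ k with 2k < n and consider the symmetric group of degree n acting on the k-subsets of an n-set. Let r be a prime dividing the number C(n,k) of k-subsets. If r is odd, then every permutation of order r fixes some k-subset if and only if r ≤ k and the remainder of k modulo r is at most the remainder of n modulo r. If r = 2, then every involution fixes some k-subset if and only if k is even or n is odd. -/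
theorem result (n k : ℕ) (hk : 1 ≤ k) (hkn : 2 * k < n) (r : ℕ) (hr : r.Prime) (hrd : r ∣ Nat.choose n k) :
    (r ≠ 2 → ((∀ σ : Equiv.Perm (Fin n), orderOf σ = r → ∃ s : Finset (Fin n), s.card = k ∧ s.image σ = s) ↔
      (r ≤ k ∧ k % r ≤ n % r))) ∧
    (r = 2 → ((∀ σ : Equiv.Perm (Fin n), orderOf σ = 2 → ∃ s : Finset (Fin n), s.card = k ∧ s.image σ = s) ↔
      (Even k ∨ Odd n))) := by
  have hkn' : k ≤ n := by omega
  have hrn : r ≤ n := le_of_dvd_choose hr hkn' hrd
  have key : (∀ σ : Equiv.Perm (Fin n), orderOf σ = r →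
      ∃ s : Finset (Fin n), s.card = k ∧ s.image σ = s) ↔ k % r ≤ n % r := by
    constructor
    · intro h
      obtain ⟨σ, hσ, hbad⟩ := exists_bad hr hrn
      obtain ⟨s, hs1, hs2⟩ := h σ hσ
      have := hbad s hs2
      rw [hs1] at this
      exact this
    · intro h σ hσ
      exact exists_invariant hr hkn' h σ hσ
  refine ⟨?_, ?_⟩
  · intro _
    rw [key]
    constructor
    · intro h
      exact ⟨le_of_dvd_choose_of_mod_le hr hrd h, h⟩
    · intro h
      exact h.2
  · intro h2
    subst h2
    rw [key]
    rw [Nat.even_iff, Nat.odd_iff]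
    omega

end Cfsg.Agent.S3573
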