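import Cfsg.Statements.S3575
import Cfsg.Agent.Lib.Helper85.UPa
import Cfsg.Agent.Lib.Helper85.UPc
import Cfsg.Agent.Lib.Helper85.UPd

set_option autoImplicit false
open Cfsg

namespace Cfsg.Agent.S3575

open Cfsg.Agent.Helper85.UP Equiv Equiv.Perm

/-- the identity `a*m + (b - r*m)*(a/r) = b*(a/r) + m*(a%r)` -/
theorem helper85_identity (a b r m : ℕ) (hm : r * m ≤ b) :
    a * m + (b - r * m) * (a / r) = b * (a / r) + m * (a % r) := by
  obtain ⟨L, hL⟩ : ∃ L, b = r * m + L := ⟨b - r * m, by omega⟩
  have ea : a = r * (a / r) + a % r := (Nat.div_add_mod a r).symm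
  rw [hL, Nat.add_sub_cancel_left]
  generalize a / r = A at *
  generalize a % r = l at *
  rw [ea]
  ring

/-- every permutation of order `r` fixes a uniform partition iff the covering condition holds -/
theorem helper85_main (a b r : ℕ) (ha : 2 ≤ a) (hr : r.Prime) (hrab : r ≤ a * b) :
    (∀ σ : Equiv.Perm (Fin (a * b)), orderOf σ = r → FixesPart (Fin b) a σ) ↔ Cov a b r := by
  have hr2 : 2 ≤ r := hr.two_le
  haveI : Fact r.Prime := ⟨hr⟩
  constructor
  · intro H j hj1 hjJ
    have hrj : r * j ≤ a * b := by
      rw [mul_comm]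
      exact (Nat.le_div_iff_mul_le hr.pos).1 hjJ
    have hs : (cyc (a * b) r j).support.card = r * j := card_support_cyc (a * b) j hr2 hrj
    have hpow : cyc (a * b) r j ^ r = 1 := cyc_pow (a * b) j hr2
    have hne : cyc (a * b) r j ≠ 1 := by
      intro h
      rw [h, support_one, Finset.card_empty] at hs
      have : 0 < r * j := Nat.mul_pos hr.pos hj1
      omega
    have hord : orderOf (cyc (a * b) r j) = r := orderOf_eq_prime hpow hne
    obtain ⟨m, hm, hlo, hhi⟩ := bounds_of_fixesPart hr (by omega) _ hpow (H _ hord)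
    rw [Fintype.card_fin] at hm hhi
    rw [hs] at hlo hhi
    refine ⟨m, ?_, ?_, ?_⟩
    · rw [Nat.le_div_iff_mul_le hr.pos, mul_comm]
      exact hm
    · exact Nat.le_of_mul_le_mul_left hlo hr.pos
    · rw [← helper85_identity a b r m hm]
      have e : r * (a * m) + (b - r * m) * (r * (a / r)) =
          r * (a * m + (b - r * m) * (a / r)) := by ring
      rw [e] at hhi
      exact Nat.le_of_mul_le_mul_left hhi hr.pos
  · intro hc σ hσ
    have hpow : σ ^ r = 1 := by rw [← hσ]; exact pow_orderOf_eq_one σ
    obtain ⟨j, hj⟩ := dvd_card_support hr σ hpow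
    have hne : σ ≠ 1 := by
      intro h
      rw [h, orderOf_one] at hσ
      omega
    have hj1 : 1 ≤ j := by
      rcases Nat.eq_zero_or_pos j with h0 | h0
      · exfalso
        rw [h0, mul_zero, card_support_eq_zero] at hj
        exact hne hj
      · exact h0
    have hjJ : j ≤ a * b / r := by
      rw [Nat.le_div_iff_mul_le hr.pos, mul_comm, ← hj]
      have := Finset.card_le_univ σ.support
      rw [Fintype.card_fin] at this
      exact this
    obtain ⟨m, hm, h1, h2⟩ := hc j hj1 hjJ
    have hm' : r * m ≤ b := by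
      rw [mul_comm]
      exact (Nat.le_div_iff_mul_le hr.pos).1 hm
    rw [← helper85_identity a b r m hm'] at h2
    obtain ⟨t, ht⟩ : ∃ t, j = a * m + t := ⟨j - a * m, by omega⟩
    have ht2 : t ≤ (b - r * m) * (a / r) := by omega
    obtain ⟨τ, hτ, hτs, hτF⟩ := exists_model a b r m t hr hm' ht2 (by omega)
    have hconj : IsConj σ τ := isConj_of_prime_order hr σ τ hσ hτ (by rw [hj, hτs, ht])
    exact hτF.of_isConj hconj

/-- Let a, b ≥ 2 and consider the symmetric group of degree a·b acting on the partitions of an (a·b)-set into b parts of size a (encoded as maps onto a b-element set all of whose fibres have a elements; a permutation fixes such a partition when it permutes the fibres). Let r be a prime dividing the number (ab)!/((a!)^b·b!) of such partitions, and let ℓ and k be the remainders of a and b modulo r. Then every permutation of order r fixes some such partition if and only if r ≤ a and one of the following holds: ℓ = 0; or k = 0 and ℓ = 1; or ℓ and k are non-zero, k·ℓ < r, and either b < r or (k + r)·ℓ ≤ k·a +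 r. -/
theorem result (a b : ℕ) (ha : 2 ≤ a) (hb : 2 ≤ b) (r : ℕ) (hr : r.Prime)
    (hrd : r ∣ (a * b).factorial / (a.factorial ^ b * b.factorial)) :
    (∀ σ : Equiv.Perm (Fin (a * b)), orderOf σ = r →
        ∃ f : Fin (a * b) → Fin b, (∀ j : Fin b, Nat.card {x : Fin (a * b) // f x = j} = a) ∧
          ∃ π : Equiv.Perm (Fin b), ∀ x : Fin (a * b), f (σ x) = π (f x)) ↔
      (r ≤ a ∧ (a % r = 0 ∨ (b % r = 0 ∧ a % r = 1) ∨
        (a % r ≠ 0 ∧ b % r ≠ 0 ∧ (b % r) * (a % r) < r ∧ (b < r ∨ (b % r + r) * (a % r) ≤ (b % r) * a + r)))) := by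
  have hrab : r ≤ a * b := le_of_dvd_partition_number a b r (by omega) hr hrd
  have h1 := helper85_main a b r ha hr hrab
  have h2 := cov_iff a b r ha hr.two_le hrab
  have h3 := crit_iff a b r hb hr.two_le
  unfold FixesPart at h1
  rw [h1, h2, h3]

end Cfsg.Agent.S3575
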