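import Cfsg.Statements.S3599
import Cfsg.Agent.Lib.Helper59.CritProd

set_option autoImplicit false
open Cfsg

namespace Cfsg.Agent.S3599

open Cfsg.Agent.Helper59

section aux

variable {s : ℕ} (p : Fin s → Fin 2 → ℕ)
  (hp : ∀ j i, (p j i).Prime) (hinj : ∀ j i j' i', p j i = p j' i' → j = j' ∧ i = i')
  (Fam : Fin s → Fin 2 → Type) [instG : ∀ j b, Group (Fam j b)]
  (hFam : ∀ j b, IsCritPQ (Fam j b) (p j b) (p j (Fin.rev b)))

theorem two_cases (b : Fin 2) : b = 0 ∨ b = 1 := by
  revert b; decide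

theorem rev_ne (b : Fin 2) : Fin.rev b ≠ b := by
  revert b; decide

theorem omega_eq (β : Fin s → Fin 2) :
    {m : ℕ | ∃ c : Fin s → ℕ, (∀ j, c j = 1 ∨ c j = p j (β j) ∨ c j = p j (Fin.rev (β j))) ∧
      m = ∏ j, c j} =
    {m : ℕ | ∃ c : Fin s → ℕ, (∀ j, c j = 1 ∨ c j = p j 0 ∨ c j = p j 1) ∧ m = ∏ j, c j} := by
  have h0 : Fin.rev (0 : Fin 2) = 1 := by decide
  have h1 : Fin.rev (1 : Fin 2) = 0 := by decide
  ext m
  constructor
  · rintro ⟨c, hc, rfl⟩
    refine ⟨c, fun j => ?_, rfl⟩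
    rcases two_cases (β j) with hb | hb
    · have := hc j
      rw [hb, h0] at this
      exact this
    · have := hc j
      rw [hb, h1] at this
      rcases this with h | h | h
      · exact Or.inl h
      · exact Or.inr (Or.inr h)
      · exact Or.inr (Or.inl h)
  · rintro ⟨c, hc, rfl⟩
    refine ⟨c, fun j => ?_, rfl⟩
    rcases two_cases (β j) with hb | hb
    · rw [hb, h0]
      exact hc j
    · rw [hb, h1]
      rcases hc j with h | h | h
      · exact Or.inl h
      · exact Or.inr (Or.inr h)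
      · exact Or.inr (Or.inl h)

include hinj in
theorem hdis_of (β : Fin s → Fin 2) (i j : Fin s) (hij : i ≠ j) :
    p i (β i) ≠ p j (β j) ∧ p i (β i) ≠ p j (Fin.rev (β j)) ∧
      p i (Fin.rev (β i)) ≠ p j (β j) ∧ p i (Fin.rev (β i)) ≠ p j (Fin.rev (β j)) :=
  ⟨fun h => hij (hinj _ _ _ _ h).1, fun h => hij (hinj _ _ _ _ h).1,
    fun h => hij (hinj _ _ _ _ h).1, fun h => hij (hinj _ _ _ _ h).1⟩

include hinj in
theorem hPQ_of (β : Fin s → Fin 2) (i : Fin s) : p i (β i) ≠ p i (Fin.rev (β i)) :=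
  fun h => rev_ne (β i) (hinj _ _ _ _ h).2.symm

include hp hinj hFam in
theorem card_ne (βa βb : Fin s → Fin 2) (j : Fin s) (ha : βa j = 0) (hb : βb j = 1) :
    Nat.card ((i : Fin s) → Fam i (βa i)) ≠ Nat.card ((i : Fin s) → Fam i (βb i)) := by
  have h0 : Fin.rev (0 : Fin 2) = 1 := by decide
  have h1 : Fin.rev (1 : Fin 2) = 0 := by decide
  intro heq
  haveI : ∀ i b, Finite (Fam i b) := fun i b => (hFam i b).fin
  choose ka hka using fun i => (hFam i (βa i)).card_eq
  choose kb hkb using fun i => (hFam i (βb i)).card_eq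
  have fa := card_pi_factorization (F := fun i => Fam i (βa i))
    (fun i => hp i (βa i)) (fun i => hp i (Fin.rev (βa i))) (hPQ_of p hinj βa)
    (hdis_of p hinj βa) ka (fun i => (hka i).2.1) j
  have fb := card_pi_factorization (F := fun i => Fam i (βb i))
    (fun i => hp i (βb i)) (fun i => hp i (Fin.rev (βb i))) (hPQ_of p hinj βb)
    (hdis_of p hinj βb) kb (fun i => (hkb i).2.1) j
  rw [ha, h0] at fa
  rw [hb, h1] at fb
  rw [heq] at fa
  have hka1 : ka j = 1 := fa.1.symm.trans fb.2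
  have hkb1 : kb j = 1 := fb.1.symm.trans fa.2
  have m1 := (hka j).2.2
  have m2 := (hkb j).2.2
  rw [ha, h0, hka1, pow_one] at m1
  rw [hb, h1, hkb1, pow_one] at m2
  -- m1 : p j 0 ≡ 1 [MOD p j 1], m2 : p j 1 ≡ 1 [MOD p j 0]
  have hp0 := (hp j 0).two_le
  have hp1 := (hp j 1).two_le
  have d1 : p j 1 ∣ p j 0 - 1 := (Nat.modEq_iff_dvd' (by omega)).mp m1.symm
  have d2 : p j 0 ∣ p j 1 - 1 := (Nat.modEq_iff_dvd' (by omega)).mp m2.symm
  have l1 := Nat.le_of_dvd (by omega) d1
  have l2 := Nat.le_of_dvd (by omega) d2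
  omega

end aux

/-- A finite group is critical with respect to a set Ω of natural numbers when its set of element orders is Ω while no proper section H/N (H a subgroup, N normal in H, (H, N) ≠ (whole group, 1)) has Ω as its set of element orders. Let s ≥ 1 and let p(j,0), p(j,1) (j < s) be 2s pairwise distinct primes, and let Ω be the set of all products c(0)·…·c(s−1) with each c(j) ∈ {1, p(j,0), p(j,1)}. Then there are 2^s pairwise non-isomorphic finite groups critical with respect to Ω. -/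
theorem result (s : ℕ) (hs : 1 ≤ s) (p : Fin s → Fin 2 → ℕ)
    (hp : ∀ j i, (p j i).Prime) (hinj : ∀ j i j' i', p j i = p j' i' → j = j' ∧ i = i') :
    ∃ (G : Fin (2 ^ s) → Type) (_ : ∀ a, Group (G a)) (_ : ∀ a, Fintype (G a)),
      (∀ a b, a ≠ b → ¬ Nonempty (G a ≃* G b)) ∧
      ∀ a, Set.range (orderOf : (G a) → ℕ) = {m : ℕ | ∃ c : Fin s → ℕ, (∀ j, c j = 1 ∨ c j = p j 0 ∨ c j = p j 1) ∧ m = ∏ j, c j} ∧
      ∀ (H : Subgroup (G a)) (N : Subgroup ↥H) [N.Normal], (H ≠ ⊤ ∨ N ≠ ⊥) → Set.range (orderOf : (↥H ⧸ N) → ℕ) ≠ {m : ℕ | ∃ c : Fin s → ℕ, (∀ j, c j = 1 ∨ c j = p j 0 ∨ c j = p j 1) ∧ m = ∏ j, c j} := by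
  classical
  have hex : ∀ (j : Fin s) (b : Fin 2), ∃ (F : Type) (_ : Group F),
      IsCritPQ F (p j b) (p j (Fin.rev b)) :=
    fun j b => exists_isCritPQ _ _ (hp j b) (hp j _)
      (fun h => rev_ne b ((hinj _ _ _ _ h).2).symm)
  choose Fam instG hFam using hex
  haveI : ∀ j b, Finite (Fam j b) := fun j b => (hFam j b).fin
  let β : Fin (2 ^ s) → Fin s → Fin 2 := fun a => finFunctionFinEquiv.symm a
  have hβ : Function.Injective β := fun a b h => finFunctionFinEquiv.symm.injective h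
  refine ⟨fun a => (j : Fin s) → Fam j (β a j), fun a => Pi.group, fun a => Fintype.ofFinite _,
    ?_, ?_⟩
  · intro a b hab ⟨e⟩
    have hne : β a ≠ β b := fun h => hab (hβ h)
    obtain ⟨j, hj⟩ : ∃ j, β a j ≠ β b j := by
      by_contra hcon
      push_neg at hcon
      exact hne (funext hcon)
    have hcard : Nat.card ((i : Fin s) → Fam i (β a i)) = Nat.card ((i : Fin s) → Fam i (β b i)) :=
      Nat.card_congr e.toEquiv
    rcases two_cases (β a j) with h1 | h1 <;> rcases two_cases (β b j) with h2 | h2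
    · exact hj (h1.trans h2.symm)
    · exact card_ne p hp hinj Fam hFam (β a) (β b) j h1 h2 hcard
    · exact card_ne p hp hinj Fam hFam (β b) (β a) j h2 h1 hcard.symm
    · exact hj (h1.trans h2.symm)
  · intro a
    have hspec := spectrum_pi (F := fun i => Fam i (β a i))
      (fun i => hp i (β a i)) (fun i => hp i (Fin.rev (β a i)))
      (hdis_of p hinj (β a)) (fun i => hFam i (β a i))
    rw [omega_eq p (β a)] at hspec
    refine ⟨hspec, ?_⟩
    intro H N _ hHN hcon
    rw [← omega_eq p (β a)] at hcon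
    have := critical_pi (F := fun i => Fam i (β a i))
      (fun i => hp i (β a i)) (fun i => hp i (Fin.rev (β a i))) (hPQ_of p hinj (β a))
      (hdis_of p hinj (β a)) (fun i => hFam i (β a i)) H N hcon
    rcases hHN with h | h
    · exact h this.1
    · exact h this.2

end Cfsg.Agent.S3599
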