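import Cfsg.Statements.S3619

set_option autoImplicit false
open Cfsg

namespace Cfsg.Agent.S3619

open MulAction SubMulAction
open scoped Pointwise

/-- quasiprimitive with a primitive Jordan set implies primitive -/
theorem isPreprimitive_aux {G Ω : Type*} [Group G] [Finite G] [MulAction G Ω] [FaithfulSMul G Ω] [Finite Ω]
    (hqp : ∀ N : Subgroup G, N.Normal → N ≠ ⊥ → MulAction.IsPretransitive ↥N Ω)
    (Γ : Set Ω) (hΓ1 : 1 < Γ.ncard)
    (hJp : MulAction.IsPreprimitive ↥(fixingSubgroup G Γᶜ) ↥(SubMulAction.ofFixingSubgroup G Γᶜ)) :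
    MulAction.IsPreprimitive G Ω := by
  classical
  set K := fixingSubgroup G Γᶜ with hK
  have hJ : MulAction.IsPretransitive ↥K ↥(SubMulAction.ofFixingSubgroup G Γᶜ) := hJp.toIsPretransitive
  -- two distinct points of Γ
  obtain ⟨a, b, ha, hb, hab⟩ := (Set.one_lt_ncard_iff (Set.toFinite Γ)).mp hΓ1
  have ha' : a ∈ SubMulAction.ofFixingSubgroup G Γᶜ := by
    rw [mem_ofFixingSubgroup_iff]; simpa using ha
  have hb' : b ∈ SubMulAction.ofFixingSubgroup G Γᶜ := by
    rw [mem_ofFixingSubgroup_iff]; simpa using hb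
  -- K is nontrivial
  have hKne : K ≠ ⊥ := by
    intro hKbot
    obtain ⟨k, hk⟩ := hJ.exists_smul_eq ⟨a, ha'⟩ ⟨b, hb'⟩
    have hk1 : k = 1 := by
      have : (k : G) ∈ (⊥ : Subgroup G) := hKbot ▸ k.2
      exact Subtype.ext (by simpa using this)
    rw [hk1, one_smul] at hk
    exact hab (congrArg Subtype.val hk)
  -- G is transitive
  have hGne : (⊤ : Subgroup G) ≠ ⊥ := by
    intro h
    apply hKne
    rw [eq_bot_iff, ← h]; exact le_top
  have htop : MulAction.IsPretransitive ↥(⊤ : Subgroup G) Ω := hqp ⊤ inferInstance hGne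
  have htrans : MulAction.IsPretransitive G Ω := by
    refine ⟨fun x y => ?_⟩
    obtain ⟨g, hg⟩ := htop.exists_smul_eq x y
    exact ⟨g.1, hg⟩
  refine { toIsPretransitive := htrans, isTrivialBlock_of_isBlock := ?_ }
  intro B hB
  by_contra hBt
  rw [IsTrivialBlock, not_or] at hBt
  obtain ⟨hBns, hBnu⟩ := hBt
  have hBne : B.Nonempty := by
    by_contra h
    rw [Set.not_nonempty_iff_eq_empty] at h
    exact hBns (h ▸ Set.subsingleton_empty)
  -- the normal core of the stabilizer of B
  set N := (stabilizer G B).normalCore with hN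
  have hNle : N ≤ stabilizer G B := Subgroup.normalCore_le _
  have hNbot : N = ⊥ := by
    by_contra hNne
    have hNt : MulAction.IsPretransitive ↥N Ω := hqp N (Subgroup.normalCore_normal _) hNne
    apply hBnu
    rw [Set.eq_univ_iff_forall]
    intro y
    obtain ⟨x, hx⟩ := hBne
    obtain ⟨n, hn⟩ := hNt.exists_smul_eq x y
    have hnB : (n : G) • B = B := by
      have := hNle n.2
      rwa [mem_stabilizer_iff] at this
    rw [← hn, ← hnB]
    exact Set.smul_mem_smul_set hx
  apply hKne
  rw [eq_bot_iff, ← hNbot]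
  intro k hk
  rw [hN]
  change ∀ g : G, g * k * g⁻¹ ∈ stabilizer G B
  intro g
  rw [mem_stabilizer_iff]
  -- B' = g⁻¹ • B is a block
  have hB' : IsBlock G (g⁻¹ • B) := hB.translate g⁻¹
  suffices hkey : k • (g⁻¹ • B) = g⁻¹ • B by
    rw [mul_smul, mul_smul, hkey, smul_inv_smul]
  by_cases hmeet : ∃ x ∈ g⁻¹ • B, x ∈ Γᶜ
  · obtain ⟨x, hxB, hxΓ⟩ := hmeet
    have hkx : k • x = x := (mem_fixingSubgroup_iff G).mp hk x hxΓ
    exact hB'.smul_eq_of_mem hxB (by rw [hkx]; exact hxB)
  · push Not at hmeet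
    have hsub : g⁻¹ • B ⊆ Γ := fun x hx => by simpa using hmeet x hx
    -- pull back to the Jordan set
    have hblk : IsBlock ↥K (ofFixingSubgroup_equivariantMap G Γᶜ ⁻¹' (g⁻¹ • B)) :=
      hB'.preimage (ofFixingSubgroup_equivariantMap G Γᶜ)
    have htriv := hJp.isTrivialBlock_of_isBlock hblk
    rcases htriv with hss | huniv
    · exfalso
      apply hBns
      have hss' : (g⁻¹ • B).Subsingleton := by
        intro x hx y hy
        have hx' : x ∈ SubMulAction.ofFixingSubgroup G Γᶜ := by
          rw [mem_ofFixingSubgroup_iff]; simpa using hsub hx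
        have hy' : y ∈ SubMulAction.ofFixingSubgroup G Γᶜ := by
          rw [mem_ofFixingSubgroup_iff]; simpa using hsub hy
        have := @hss ⟨x, hx'⟩ hx ⟨y, hy'⟩ hy
        exact congrArg Subtype.val this
      intro x hx y hy
      have h1 := hss' (Set.smul_mem_smul_set (a := g⁻¹) hx) (Set.smul_mem_smul_set (a := g⁻¹) hy)
      exact smul_left_cancel _ h1
    · have hΓsub : Γ ⊆ g⁻¹ • B := by
        intro x hx
        have hx' : x ∈ SubMulAction.ofFixingSubgroup G Γᶜ := by
          rw [mem_ofFixingSubgroup_iff]; simpa using hx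
        have : (⟨x, hx'⟩ : ↥(SubMulAction.ofFixingSubgroup G Γᶜ)) ∈
            (ofFixingSubgroup_equivariantMap G Γᶜ ⁻¹' (g⁻¹ • B)) := by
          rw [huniv]; trivial
        exact this
      have hEq : g⁻¹ • B = Γ := Set.Subset.antisymm hsub hΓsub
      rw [hEq]
      -- k preserves Γ
      have hkinv : ∀ k' ∈ K, k' • Γ ⊆ Γ := by
        intro k' hk' y hy
        obtain ⟨x, hx, rfl⟩ := hy
        change k' • x ∈ Γ
        by_contra hnot
        have h1 : k' • x ∈ Γᶜ := hnot
        have h2 : k'⁻¹ • (k' • x) = k' • x :=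
          (mem_fixingSubgroup_iff G).mp (K.inv_mem hk') _ h1
        rw [inv_smul_smul] at h2
        rw [← h2] at hnot
        exact hnot hx
      apply Set.Subset.antisymm (hkinv k hk)
      intro y hy
      have := hkinv k⁻¹ (K.inv_mem hk) (Set.smul_mem_smul_set hy)
      rw [Set.mem_smul_set_iff_inv_smul_mem]
      exact this

/-- Let G act faithfully on a finite set in such a way that every non-trivial normal subgroup of G is transitive (G is quasiprimitive). Let Γ be a subset with more than one point and not the whole set, such that the pointwise stabilizer of the complement of Γ acts transitively on Γ (a Jordan set). If that pointwise stabilizer acts primitively on Γ, then G is k-fold transitive where k is one more than the number of points outside Γ (the Jordan set is a trivial one). -/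
theorem result {G Ω : Type*} [Group G] [Finite G] [MulAction G Ω] [FaithfulSMul G Ω] [Finite Ω]
    (hqp : ∀ N : Subgroup G, N.Normal → N ≠ ⊥ → MulAction.IsPretransitive ↥N Ω)
    (Γ : Set Ω) (hΓ1 : 1 < Γ.ncard) (hΓ2 : Γ.ncard < Nat.card Ω)
    (hJ : MulAction.IsPretransitive ↥(fixingSubgroup G Γᶜ) ↥(SubMulAction.ofFixingSubgroup G Γᶜ))
    (hJp : MulAction.IsPreprimitive ↥(fixingSubgroup G Γᶜ) ↥(SubMulAction.ofFixingSubgroup G Γᶜ)) :
    MulAction.IsMultiplyPretransitive G Ω (Nat.card Ω - Γ.ncard + 1) := by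
  have hprim := isPreprimitive_aux hqp Γ hΓ1 hJp
  have hcompl : (Γᶜ).ncard = Nat.card Ω - Γ.ncard := by
    rw [Set.ncard_compl]
  obtain ⟨n, hn⟩ : ∃ n, Nat.card Ω - Γ.ncard = n + 1 := ⟨Nat.card Ω - Γ.ncard - 1, by omega⟩
  have h := hprim.isMultiplyPreprimitive (s := Γᶜ) (n := n) (by rw [hcompl, hn]) (by omega) hJp
  rw [hn]
  exact h.isMultiplyPretransitive

end Cfsg.Agent.S3619
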