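import Cfsg.Statements.S3620
import Mathlib
import Cfsg.Agent.Lib.Helper61.MargBasic
import Cfsg.Agent.Lib.Helper61.MargQuasi
-- import your own Cfsg.Agent.* helpers here

set_option autoImplicit false
open Cfsg

namespace Cfsg.Agent.S3620

/-- Let G act faithfully on a finite set in such a way that every non-trivial normal subgroup of G is transitive (G is quasiprimitive). Let Γ be a subset with more than one point and fewer than half of the points, such that the pointwise stabilizer of the complement of Γ acts transitively on Γ. Then G induces every even permutation of the set (G is the alternating or the symmetric group). -/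
theorem result {G Ω : Type*} [Group G] [Finite G] [MulAction G Ω] [FaithfulSMul G Ω] [Fintype Ω] [DecidableEq Ω]
    (hqp : ∀ N : Subgroup G, N.Normal → N ≠ ⊥ → MulAction.IsPretransitive ↥N Ω)
    (Γ : Set Ω) (hΓ1 : 1 < Γ.ncard) (hΓ2 : 2 * Γ.ncard < Fintype.card Ω)
    (hJ : MulAction.IsPretransitive ↥(fixingSubgroup G Γᶜ) ↥(SubMulAction.ofFixingSubgroup G Γᶜ)) :
    ∀ σ : Equiv.Perm Ω, Equiv.Perm.sign σ = 1 → ∃ x : G, (MulAction.toPerm x : Equiv.Perm Ω) = σ := by
  classical
  have : Fintype G := Fintype.ofFinite G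
  obtain ⟨Γf, hΓf⟩ : ∃ Γf : Finset Ω, Γf = Finset.univ.filter (fun z => z ∈ Γ) := ⟨_, rfl⟩
  have hmem : ∀ z, z ∈ Γf ↔ z ∈ Γ := by
    intro z; rw [hΓf]; simp
  have hcoe : (Γf : Set Ω) = Γ := by
    ext z; rw [Finset.mem_coe, hmem]
  have hcard : Γ.ncard = Γf.card := by rw [← hcoe, Set.ncard_coe_finset]
  rw [hcard] at hΓ1 hΓ2
  have hJS : Cfsg.Agent.Helper61.MargBasic.JS G Γf := by
    intro x hx y hy
    have hx' : x ∈ SubMulAction.ofFixingSubgroup G Γᶜ := fun h => h ((hmem x).1 hx)
    have hy' : y ∈ SubMulAction.ofFixingSubgroup G Γᶜ := fun h => h ((hmem y).1 hy)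
    obtain ⟨k, hk⟩ := hJ.exists_smul_eq ⟨x, hx'⟩ ⟨y, hy'⟩
    refine ⟨k.1, fun z hz => ?_, Subtype.ext_iff.1 hk⟩
    exact (mem_fixingSubgroup_iff G).1 k.2 z (fun h => hz ((hmem z).2 h))
  exact Cfsg.Agent.Helper61.MargQuasi.marggraf_quasi hqp Γf (by omega) hΓ2 hJS

end Cfsg.Agent.S3620
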