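import Cfsg.Statements.S3627
import Cfsg.Agent.Lib.Helper35.J1Spec
import Cfsg.Agent.Lib.Helper35.GenDih

set_option autoImplicit false
open Cfsg

namespace Cfsg.Agent.S3627

open Cfsg.Agent.Helper35.GenDih Cfsg.Agent.Helper35.J1Spec

/-! The element orders of `J₁` are `1, 2, 3, 5, 6, 7, 10, 11, 15, 19`, so those of `J₁⁴` are all divisors of
`43890 = 2 · 3 · 5 · 7 · 11 · 19` except `43890` itself.  The same holds for the direct product of the five
generalized dihedral groups of `(ℤ/19)^k`, `ℤ/11`, `ℤ/7`, `ℤ/5`, `ℤ/3`, for every `k ≥ 1`. -/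

/-- The isospectral family. -/
abbrev HH (N : ℕ) : Type :=
  GD (Fin (N + 1) → ZMod 19) × GD (ZMod 11) × GD (ZMod 7) × GD (ZMod 5) × GD (ZMod 3)

/-- Element orders of `J₁⁴` (without repetitions). -/
def LJ4 : List ℕ := lcmListD specList (lcmListD specList (lcmListD specList specList))

/-- Element orders of `HH N` (without repetitions). -/
def LH : List ℕ :=
  lcmListD [1, 2, 19] (lcmListD [1, 2, 11] (lcmListD [1, 2, 7] (lcmListD [1, 2, 5] [1, 2, 3])))

set_option maxRecDepth 100000 in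
theorem lists_agree :
    ((LJ4.all fun n => LH.contains n) && (LH.all fun n => LJ4.contains n)) = true := by
  decide +kernel

theorem mem_LH_iff (n : ℕ) : n ∈ LH ↔ n ∈ LJ4 := by
  have h := lists_agree
  rw [Bool.and_eq_true, List.all_eq_true, List.all_eq_true] at h
  constructor
  · intro hn
    have := h.2 n hn
    exact List.contains_iff_mem.1 this
  · intro hn
    have := h.1 n hn
    exact List.contains_iff_mem.1 this

theorem zmod_nsmul (p : ℕ) (a : ZMod p) : p • a = 0 := by
  rw [nsmul_eq_mul, ZMod.natCast_self, zero_mul]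

theorem range_HH (N : ℕ) : Set.range (orderOf : HH N → ℕ) = {n | n ∈ LH} := by
  have : Fact (Nat.Prime 19) := ⟨by norm_num⟩
  have : Fact (Nat.Prime 11) := ⟨by norm_num⟩
  have : Fact (Nat.Prime 7) := ⟨by norm_num⟩
  have : Fact (Nat.Prime 5) := ⟨by norm_num⟩
  have : Fact (Nat.Prime 3) := ⟨by norm_num⟩
  have h19 : Set.range (orderOf : GD (Fin (N + 1) → ZMod 19) → ℕ) = {n | n ∈ [1, 2, 19]} :=
    GD.range_orderOf 19 (by norm_num) (fun a => by
      ext i
      rw [Pi.smul_apply, Pi.zero_apply]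
      exact zmod_nsmul 19 _)
  have h11 : Set.range (orderOf : GD (ZMod 11) → ℕ) = {n | n ∈ [1, 2, 11]} :=
    GD.range_orderOf 11 (by norm_num) (zmod_nsmul 11)
  have h7 : Set.range (orderOf : GD (ZMod 7) → ℕ) = {n | n ∈ [1, 2, 7]} :=
    GD.range_orderOf 7 (by norm_num) (zmod_nsmul 7)
  have h5 : Set.range (orderOf : GD (ZMod 5) → ℕ) = {n | n ∈ [1, 2, 5]} :=
    GD.range_orderOf 5 (by norm_num) (zmod_nsmul 5)
  have h3 : Set.range (orderOf : GD (ZMod 3) → ℕ) = {n | n ∈ [1, 2, 3]} :=
    GD.range_orderOf 3 (by norm_num) (zmod_nsmul 3)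
  exact range_orderOf_prodD h19 (range_orderOf_prodD h11 (range_orderOf_prodD h7
    (range_orderOf_prodD h5 h3)))

theorem range_J4 :
    Set.range (orderOf : ↥Cfsg.Spor.J1 × ↥Cfsg.Spor.J1 × ↥Cfsg.Spor.J1 × ↥Cfsg.Spor.J1 → ℕ) =
      {n | n ∈ LJ4} :=
  range_orderOf_prodD range_orderOf (range_orderOf_prodD range_orderOf
    (range_orderOf_prodD range_orderOf range_orderOf))

theorem card_HH (N : ℕ) : N < Fintype.card (HH N) := by
  have hinj : Function.Injective
      (fun a : Fin (N + 1) → ZMod 19 => (((⟨a, 1⟩ : GD (Fin (N + 1) → ZMod 19)), 1) : HH N)) := by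
    intro a b h
    exact congrArg GD.a (congrArg Prod.fst h)
  have h1 : Fintype.card (Fin (N + 1) → ZMod 19) ≤ Fintype.card (HH N) :=
    Fintype.card_le_of_injective _ hinj
  have h2 : Fintype.card (Fin (N + 1) → ZMod 19) = 19 ^ (N + 1) := by
    rw [Fintype.card_fun, ZMod.card, Fintype.card_fin]
  have h3 : N + 1 < 19 ^ (N + 1) := Nat.lt_pow_self (by norm_num)
  omega

/-- Let J be the first Janko group. Then there are finite groups of arbitrarily large order with exactly the same set of element orders as J × J × J × J. -/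
theorem result (N : ℕ) : ∃ (H : Type) (_ : Group H) (_ : Fintype H), N < Fintype.card H ∧
      Set.range (orderOf : H → ℕ) = Set.range (orderOf : ↥Cfsg.Spor.J1 × ↥Cfsg.Spor.J1 × ↥Cfsg.Spor.J1 × ↥Cfsg.Spor.J1 → ℕ) := by
  refine ⟨HH N, inferInstance, inferInstance, card_HH N, ?_⟩
  rw [range_J4]
  have h := range_HH N
  rw [h]
  ext n
  exact mem_LH_iff n

end Cfsg.Agent.S3627
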