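import Mathlib
import Cfsg.Statements.S3639
import Cfsg.Agent.Lib.Helper60.SzGroup
import Cfsg.Agent.Lib.Helper60.GExt

set_option autoImplicit false
open Cfsg

namespace Cfsg.Agent.S3639

open Cfsg.Agent.Helper60 Cfsg.Lie Matrix

/-- the antidiagonal matrix as an element of `GL` -/
def Jgl (F : Type*) [Field F] : GL (Fin 4) F := ⟨J4 F, J4 F, J4_mul_self, J4_mul_self⟩

theorem Jgl_mem {F : Type*} [Field F] [CharP F 2] (n : ℕ) : Jgl F ∈ Sz F (2 ^ n) := by
  rw [mem_Sz_iff]
  refine ⟨(mem_Sp4_iff _).mpr ?_, ?_⟩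
  · change (J4 F)ᵀ * J4 F * J4 F = J4 F
    rw [J4_transpose, J4_mul_self, Matrix.one_mul]
  · change star4 (J4 F) = (J4 F).map _
    have e0 : pairOf (0 : Fin 4) = (0, 1) := rfl
    have e1 : pairOf (1 : Fin 4) = (0, 2) := rfl
    have e2 : pairOf (2 : Fin 4) = (1, 3) := rfl
    have e3 : pairOf (3 : Fin 4) = (2, 3) := rfl
    ext p r
    rw [star4_apply]
    have hneg : (-1 : F) = 1 := by
      have T : (2 : F) = 0 := CharTwo.two_eq_zero
      linear_combination -T
    fin_cases p <;> fin_cases r <;> simp [minor2, J4, e0, e1, e2, e3, hneg]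

theorem two_dvd_card_Sz {F : Type*} [Field F] [Fintype F] [CharP F 2] (n : ℕ) :
    2 ∣ Nat.card (Sz F (2 ^ n)) := by
  let t : Sz F (2 ^ n) := ⟨Jgl F, Jgl_mem n⟩
  have ht2 : t ^ 2 = 1 := by
    apply Subtype.ext
    apply Units.ext
    change (J4 F) ^ 2 = 1
    rw [pow_two, J4_mul_self]
  have htne : t ≠ 1 := by
    intro h
    have h1 : (J4 F) = 1 := congrArg (fun x : Sz F (2 ^ n) => ((x : GL (Fin 4) F) : Matrix (Fin 4) (Fin 4) F)) h
    have := congrFun (congrFun h1 0) 0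
    simp [J4] at this
  have : orderOf t = 2 := orderOf_eq_prime ht2 htne
  have h := orderOf_dvd_natCard t
  rw [this] at h
  exact h

theorem charP_two_of_card {F : Type*} [Field F] [Fintype F] {k : ℕ}
    (hF : Fintype.card F = 2 ^ k) : CharP F 2 := by
  obtain ⟨p, hp⟩ := CharP.exists F
  obtain ⟨n, hpp, hn⟩ := FiniteField.card F p
  have h1 : p ∣ 2 ^ k := by rw [← hF, hn]; exact dvd_pow_self p n.ne_zero
  have h2 : p = 2 := (Nat.prime_dvd_prime_iff_eq hpp Nat.prime_two).mp (hpp.dvd_of_dvd_pow h1)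
  subst h2; exact hp

/-- Let S be the Suzuki group over the field with q = 2^(2m+1) ≥ 8 elements. Then there are finite groups of arbitrarily large order with the same prime graph as S. -/
theorem result {F : Type*} [Field F] [Fintype F] {m : ℕ} (hm : 1 ≤ m) (hF : Fintype.card F = 2 ^ (2 * m + 1)) (N : ℕ) :
    ∃ (H : Type) (_ : Group H) (_ : Fintype H), N < Fintype.card H ∧ ((∀ r : ℕ, r.Prime → (r ∣ Nat.card ↥(Cfsg.Lie.Sz F (2 ^ (m + 1))) ↔ r ∣ Nat.card H)) ∧
      (∀ r s : ℕ, r.Prime → s.Prime → r ≠ s → ((∃ x : ↥(Cfsg.Lie.Sz F (2 ^ (m + 1))), orderOf x = r * s) ↔ (∃ y : H, orderOf y = r * s)))) := by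
  have hchar : CharP F 2 := charP_two_of_card hF
  obtain ⟨H, hG, hfin, ⟨e⟩⟩ := exists_small_model' (GExt (Sz F (2 ^ (m + 1))) N)
  refine ⟨H, hG, hfin, ?_, ?_⟩
  · rw [← Nat.card_eq_fintype_card, Nat.card_congr e.toEquiv]
    exact GExt.card_gt _ (by norm_num) N
  · refine primeGraph_transfer2 (S := Sz F (2 ^ (m + 1))) (H := H)
      (e.symm.toMonoidHom.comp (GExt.sect _ N)) ((GExt.proj _ N).comp e.toMonoidHom) ?_ ?_ ?_ ?_
    · exact e.symm.injective.comp GExt.sect_injective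
    · intro u hu
      have := GExt.ker_sq (e u) hu
      rw [← map_pow] at this
      exact (MulEquiv.map_eq_one_iff e).mp this
    · intro h u hu hne hcomm
      have hne' : e u ≠ 1 := fun h' => hne ((MulEquiv.map_eq_one_iff e).mp h')
      have hcomm' : e h * e u = e u * e h := by rw [← map_mul, ← map_mul, hcomm]
      obtain ⟨x, hx, hfix⟩ := GExt.exists_fixed (e h) (e u) hu hne' hcomm'
      refine ⟨2, ?_⟩
      have h4 := Sz_pow_four_eq_one (m + 1) (e h).s.2 x hx hfix
      apply Subtype.ext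
      change ((e h).s : GL (Fin 4) F) ^ (2 ^ 2) = 1
      exact h4
    · exact two_dvd_card_Sz (m + 1)

end Cfsg.Agent.S3639
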