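import Cfsg.Statements.S3669
import Cfsg.Agent.S3378
import Cfsg.Agent.S0169
import Cfsg.Agent.Lib.Helper79.Integrality
import Cfsg.Agent.Lib.Helper80.CharBasic
import Cfsg.Agent.Lib.Helper1.Hall

set_option autoImplicit false
open Cfsg
open scoped Pointwise

namespace Cfsg.Agent.S3669

/-- no five divisors of `60` prime to `5` have squares summing to `60` -/
lemma arith : ∀ a ∈ ({1, 2, 3, 4, 6, 12} : Finset ℕ), ∀ b ∈ ({1, 2, 3, 4, 6, 12} : Finset ℕ),
    ∀ c ∈ ({1, 2, 3, 4, 6, 12} : Finset ℕ), ∀ d ∈ ({1, 2, 3, 4, 6, 12} : Finset ℕ),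
    ∀ e ∈ ({1, 2, 3, 4, 6, 12} : Finset ℕ), a ^ 2 + b ^ 2 + c ^ 2 + d ^ 2 + e ^ 2 ≠ 60 := by
  decide +kernel

lemma mem_of_dvd (d : ℕ) (h : d ∣ 60) (h5 : ¬ 5 ∣ d) : d ∈ ({1, 2, 3, 4, 6, 12} : Finset ℕ) := by
  have hmem : d ∈ Nat.divisors 60 := Nat.mem_divisors.mpr ⟨h, by norm_num⟩
  have hd : Nat.divisors 60 = {1, 2, 3, 4, 5, 6, 10, 12, 15, 20, 30, 60} := by decide
  rw [hd] at hmem
  simp only [Finset.mem_insert, Finset.mem_singleton] at hmem ⊢
  omega

abbrev A5 := alternatingGroup (Fin 5)

/-- representatives of the conjugacy classes of `A5` -/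
def rep : Fin 5 → Equiv.Perm (Fin 5)
  | 0 => 1
  | 1 => Equiv.swap 0 1 * Equiv.swap 1 2
  | 2 => Equiv.swap 0 1 * Equiv.swap 2 3
  | 3 => Equiv.swap 0 1 * Equiv.swap 1 2 * Equiv.swap 2 3 * Equiv.swap 3 4
  | 4 => Equiv.swap 0 1 * Equiv.swap 1 2 * Equiv.swap 2 4 * Equiv.swap 4 3

set_option maxRecDepth 100000 in
lemma rep_cover : ∀ g : A5, ∃ i : Fin 5, ∃ h : A5, (h : Equiv.Perm (Fin 5)) * g * (h⁻¹ : A5) = rep i := by
  decide +kernel

lemma rep_sign : ∀ i : Fin 5, Equiv.Perm.sign (rep i) = 1 := by decide +kernel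

/-- the representatives as elements of `A5` -/
def repA (i : Fin 5) : A5 := ⟨rep i, Equiv.Perm.mem_alternatingGroup.mpr (rep_sign i)⟩

set_option maxRecDepth 100000 in
lemma rep_inj : ∀ i j : Fin 5, ∀ h : A5, (h : Equiv.Perm (Fin 5)) * rep i * (h⁻¹ : A5) = rep j → i = j := by
  decide +kernel

lemma card_conjClasses_A5 : Nat.card (ConjClasses A5) = 5 := by
  have hbij : Function.Bijective (fun i : Fin 5 => ConjClasses.mk (repA i)) := by
    constructor
    · intro i j hij
      simp only [ConjClasses.mk_eq_mk_iff_isConj] at hij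
      rw [isConj_iff] at hij
      obtain ⟨h, hh⟩ := hij
      apply rep_inj i j h
      have := congrArg Subtype.val hh
      simpa [repA] using this
    · intro c
      obtain ⟨g, rfl⟩ := ConjClasses.mk_surjective c
      obtain ⟨i, h, hh⟩ := rep_cover g
      refine ⟨i, ?_⟩
      simp only [ConjClasses.mk_eq_mk_iff_isConj]
      rw [isConj_comm, isConj_iff]
      exact ⟨h, Subtype.ext (by simpa [repA] using hh)⟩
  rw [← Nat.card_eq_of_bijective _ hbij]
  simp

lemma card_A5 : Nat.card A5 = 60 := by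
  rw [nat_card_alternatingGroup]
  simp [Nat.factorial]

lemma five_dvd_A5 : ∃ χ : IrrCharacter A5, 5 ∣ charDegree (χ : A5 → ℂ) := by
  by_contra hcon
  push Not at hcon
  have hcard : Nat.card (IrrCharacter A5) = 5 := by
    rw [Cfsg.Agent.Helper80.card_irr, card_conjClasses_A5]
  have hsum := Cfsg.Agent.Helper79.sum_sq_degree_nat (G := A5)
  rw [card_A5] at hsum
  have hcard' : Fintype.card (IrrCharacter A5) = 5 := by
    rw [← Nat.card_eq_fintype_card]; exact hcard
  let e : Fin 5 ≃ IrrCharacter A5 := (Fintype.equivFinOfCardEq hcard').symm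
  rw [← Equiv.sum_comp e, Fin.sum_univ_five] at hsum
  have hm : ∀ χ : IrrCharacter A5, charDegree (χ : A5 → ℂ) ∈ ({1, 2, 3, 4, 6, 12} : Finset ℕ) := by
    intro χ
    apply mem_of_dvd _ _ (hcon χ)
    have := Cfsg.Agent.Helper79.irr_degree_dvd_card χ
    rwa [card_A5] at this
  exact arith _ (hm (e 0)) _ (hm (e 1)) _ (hm (e 2)) _ (hm (e 3)) _ (hm (e 4)) hsum

section grp

variable {G : Type*} [Group G] [Finite G]

/-- Ito: a normal abelian subgroup of index prime to `5` forbids degrees divisible by `5` -/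
lemma ito (N : Subgroup G) [N.Normal] (hcomm : ∀ a ∈ N, ∀ b ∈ N, a * b = b * a)
    (hidx : ¬ 5 ∣ N.index) (χ : IrrCharacter G) : ¬ 5 ∣ charDegree (χ : G → ℂ) := by
  obtain ⟨n, ρ, hirr, hχ⟩ := χ.2
  have h1 := Cfsg.Agent.S0169.result ρ N hcomm
  have h2 : charDegree (χ : G → ℂ) = Module.finrank ℂ (Fin n → ℂ) := by
    unfold charDegree
    rw [← hχ, Representation.char_one]
    simp
  intro hdvd
  rw [h2] at hdvd
  exact hidx (dvd_trans hdvd h1)

/-- a solvable group of order `60` has a normal Sylow `5`-subgroup -/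
lemma sylow5_normal (hcard : Nat.card G = 60) (hs : Group.IsSolvable G) (P : Sylow 5 G) :
    (P : Subgroup G).Normal := by
  have _ : Fact (Nat.Prime 5) := ⟨by norm_num⟩
  have hP : Nat.card (P : Subgroup G) = 5 := by
    rw [Sylow.card_eq_multiplicity, hcard]
    have : (60 : ℕ).factorization 5 = 1 := by decide +kernel
    rw [this]; norm_num
  obtain ⟨H, hH, hdom⟩ := Cfsg.Agent.Helper1.hall_exists_dominant (G := G) 15 4
    (by rw [hcard]) (by decide)
  obtain ⟨g, hg⟩ := hdom (P : Subgroup G) (by rw [hP]; decide)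
  set H' : Subgroup G := MulAut.conj g • H with hH'
  have hH'card : Nat.card H' = 15 := by
    rw [hH', Cfsg.Agent.Helper1.card_conj_smul, hH]
  have h8 : H'.index = 4 := by
    have := Subgroup.index_mul_card H'
    rw [hH'card, hcard] at this
    omega
  have hPidx : (P : Subgroup G).index = 12 := by
    have := Subgroup.index_mul_card (P : Subgroup G)
    rw [hP, hcard] at this
    omega
  -- `P` is normal in `H'`
  have hn5 : Nat.card (Sylow 5 H') = 1 := by
    have h1 := card_sylow_modEq_one 5 H'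
    have h2 := (P.subtype hg).card_dvd_index
    have h3 : ((P.subtype hg : Sylow 5 H') : Subgroup H').index = 3 := by
      rw [Sylow.coe_subtype]
      have h4 := Subgroup.relIndex_mul_index hg
      rw [hPidx, h8] at h4
      change (P : Subgroup G).relIndex H' = 3
      omega
    rw [h3] at h2
    have h5 : Nat.card (Sylow 5 H') = 1 ∨ Nat.card (Sylow 5 H') = 3 :=
      (Nat.dvd_prime (by norm_num)).1 h2
    rcases h5 with h5 | h5
    · exact h5
    · rw [h5] at h1
      exact absurd h1 (by decide)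
  have hsub : Subsingleton (Sylow 5 H') := by
    rw [← Finite.card_le_one_iff_subsingleton, hn5]
  have hnorm : ((P : Subgroup G).subgroupOf H').Normal := by
    have := Sylow.normal_of_subsingleton (P.subtype hg)
    rwa [Sylow.coe_subtype] at this
  have hle : H' ≤ Subgroup.normalizer (P : Set G) :=
    (Subgroup.normal_subgroupOf_iff_le_normalizer hg).1 hnorm
  -- count the Sylow subgroups of `G`
  have h6 := P.card_eq_index_normalizer
  have h7 : Nat.card (Sylow 5 G) ∣ H'.index := by
    rw [h6]
    exact Subgroup.index_dvd_of_le hle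
  rw [h8] at h7
  have h9 := card_sylow_modEq_one 5 G
  have h10 : Nat.card (Sylow 5 G) = 1 := by
    have hle4 : Nat.card (Sylow 5 G) ≤ 4 := Nat.le_of_dvd (by norm_num) h7
    have hpos : 0 < Nat.card (Sylow 5 G) := Nat.pos_of_dvd_of_pos h7 (by norm_num)
    interval_cases hk : Nat.card (Sylow 5 G)
    · rfl
    · exact absurd h9 (by decide)
    · exact absurd h9 (by decide)
    · exact absurd h9 (by decide)
  have hsubG : Subsingleton (Sylow 5 G) := by
    rw [← Finite.card_le_one_iff_subsingleton, h10]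
  exact Sylow.normal_of_subsingleton P

end grp

theorem result' {G : Type*} [Group G] [Finite G] (hcard : Nat.card G = 60)
    (hΓ : Cfsg.degreePrimes G = Cfsg.degreePrimes (alternatingGroup (Fin 5))) :
    Nonempty (G ≃* alternatingGroup (Fin 5)) := by
  apply Cfsg.Agent.S3378.iso_A5 hcard
  intro hs
  have _ : Fact (Nat.Prime 5) := ⟨by norm_num⟩
  -- `5` is a degree prime of `A5`, hence of `G`
  have h5 : (5 : ℕ) ∈ Cfsg.degreePrimes G := by
    rw [hΓ]
    obtain ⟨χ, hχ⟩ := five_dvd_A5
    exact ⟨by norm_num, _, ⟨χ, rfl⟩, hχ⟩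
  obtain ⟨-, d, ⟨χ, rfl⟩, hχ⟩ := h5
  have P : Sylow 5 G := Classical.arbitrary _
  have hn := sylow5_normal hcard hs P
  have hP : Nat.card (P : Subgroup G) = 5 := by
    rw [Sylow.card_eq_multiplicity, hcard]
    have : (60 : ℕ).factorization 5 = 1 := by decide +kernel
    rw [this]; norm_num
  have hcyc : IsCyclic (P : Subgroup G) := isCyclic_of_prime_card hP
  refine ito (P : Subgroup G) ?_ P.not_dvd_index χ hχ
  intro a ha b hb
  have h := (IsCyclic.commGroup (α := ↥(P : Subgroup G))).mul_comm ⟨a, ha⟩ ⟨b, hb⟩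
  exact congrArg Subtype.val h

/-- The character degree graph of a finite group has as vertices the primes dividing some irreducible complex character degree, two distinct primes being joined when their product divides some irreducible character degree; two groups have the same character degree graph when they have the same vertices and the same joined pairs. A finite group of order 60 with the same character degree graph as the alternating group A₅ (whose character degrees are 1, 3, 4, 5, so the graph has vertices 2, 3, 5 and no edges) is isomorphic to A₅. -/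
theorem result {G : Type*} [Group G] [Finite G] (hcard : Nat.card G = 60)
    (hΓ : Cfsg.degreePrimes G = Cfsg.degreePrimes (alternatingGroup (Fin 5)) ∧ Cfsg.degreeGraph G = Cfsg.degreeGraph (alternatingGroup (Fin 5))) : Nonempty (G ≃* alternatingGroup (Fin 5)) :=
  result' hcard hΓ.1

end Cfsg.Agent.S3669
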