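import Cfsg.Statements.S3678
import Mathlib

set_option autoImplicit false
open Cfsg

namespace Cfsg.Agent.S3678

section generic
variable {G : Type*} [Group G]

lemma orderOf_ne_mul_of_pow_prime_pow {g : G} {r n : ℕ} (hr : r.Prime) (hg : g ^ (r ^ n) = 1)
    {p q : ℕ} (hp : p.Prime) (hq : q.Prime) (hpq : p ≠ q) : orderOf g ≠ p * q := by
  intro h
  have hd : p * q ∣ r ^ n := h ▸ orderOf_dvd_of_pow_eq_one hg
  have h1 : p ∣ r ^ n := (dvd_mul_right p q).trans hd
  have h2 : q ∣ r ^ n := (dvd_mul_left q p).trans hd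
  have e1 := (Nat.prime_dvd_prime_iff_eq hp hr).mp (hp.dvd_of_dvd_pow h1)
  have e2 := (Nat.prime_dvd_prime_iff_eq hq hr).mp (hq.dvd_of_dvd_pow h2)
  exact hpq (by omega)

/-- every element has order dividing 4, 3, 7 or 9 -/
def Small (G : Type*) [Group G] : Prop :=
  ∀ g : G, g ^ 4 = 1 ∨ g ^ 3 = 1 ∨ g ^ 7 = 1 ∨ g ^ 9 = 1

lemma Small.no_pq (h : Small G) {p q : ℕ} (hp : p.Prime) (hq : q.Prime) (hpq : p ≠ q) :
    ¬ ∃ g : G, orderOf g = p * q := by
  rintro ⟨g, hg⟩
  rcases h g with h4 | h3 | h7 | h9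
  · exact orderOf_ne_mul_of_pow_prime_pow (r := 2) (n := 2) Nat.prime_two (by simpa using h4) hp hq hpq hg
  · exact orderOf_ne_mul_of_pow_prime_pow (r := 3) (n := 1) Nat.prime_three (by simpa using h3) hp hq hpq hg
  · exact orderOf_ne_mul_of_pow_prime_pow (r := 7) (n := 1) (by norm_num) (by simpa using h7) hp hq hpq hg
  · exact orderOf_ne_mul_of_pow_prime_pow (r := 3) (n := 2) Nat.prime_three (by simpa using h9) hp hq hpq hg

lemma Small.prime_dvd_card_iff [Finite G] (h : Small G) (h2 : ∃ g : G, orderOf g = 2)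
    (h3 : ∃ g : G, orderOf g = 3) (h7 : ∃ g : G, orderOf g = 7) {p : ℕ} (hp : p.Prime) :
    p ∣ Nat.card G ↔ (p = 2 ∨ p = 3 ∨ p = 7) := by
  constructor
  · intro hd
    have := Fact.mk hp
    obtain ⟨g, hg⟩ := exists_prime_orderOf_dvd_card' p hd
    rcases h g with h4 | h3 | h7 | h9
    · have : p ∣ 2 ^ 2 := hg ▸ orderOf_dvd_of_pow_eq_one h4
      left; exact (Nat.prime_dvd_prime_iff_eq hp Nat.prime_two).mp (hp.dvd_of_dvd_pow this)
    · have : p ∣ 3 := hg ▸ orderOf_dvd_of_pow_eq_one h3
      right; left; exact (Nat.prime_dvd_prime_iff_eq hp Nat.prime_three).mp this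
    · have : p ∣ 7 := hg ▸ orderOf_dvd_of_pow_eq_one h7
      right; right; exact (Nat.prime_dvd_prime_iff_eq hp (by norm_num)).mp this
    · have : p ∣ 3 ^ 2 := hg ▸ orderOf_dvd_of_pow_eq_one h9
      right; left; exact (Nat.prime_dvd_prime_iff_eq hp Nat.prime_three).mp (hp.dvd_of_dvd_pow this)
  · rintro (rfl | rfl | rfl)
    · obtain ⟨g, hg⟩ := h2; exact hg ▸ orderOf_dvd_natCard g
    · obtain ⟨g, hg⟩ := h3; exact hg ▸ orderOf_dvd_natCard g
    · obtain ⟨g, hg⟩ := h7; exact hg ▸ orderOf_dvd_natCard g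

end generic

section mat
variable {F : Type*} [Field F]

/-- Lucas-type sequence: `u 0 = 0`, `u 1 = 1`, `u (n+2) = t * u (n+1) - u n`. -/
def u (t : F) : ℕ → F
  | 0 => 0
  | 1 => 1
  | (n + 2) => t * u t (n + 1) - u t n

lemma cayley (M : Matrix (Fin 2) (Fin 2) F) (hdet : M.det = 1) :
    M * M = (M 0 0 + M 1 1) • M - 1 := by
  rw [Matrix.det_fin_two] at hdet
  ext i j
  fin_cases i <;> fin_cases j <;>
    simp [Matrix.mul_apply, Fin.sum_univ_two] <;>
    first | ring1 | linear_combination (-1 : F) * hdet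

lemma pow_succ_eq {M : Matrix (Fin 2) (Fin 2) F} {t : F} (h : M * M = t • M - 1) (n : ℕ) :
    M ^ (n + 1) = u t (n + 1) • M - u t n • (1 : Matrix (Fin 2) (Fin 2) F) := by
  induction n with
  | zero => simp [u]
  | succ n ih =>
    rw [pow_succ, ih, sub_mul, smul_mul_assoc, smul_mul_assoc, h, one_mul]
    simp only [u]
    module

lemma geom_zero_of_pow_eq_one {M : Matrix (Fin 2) (Fin 2) F} {n : ℕ} (hM : M ^ n = 1)
    (hdet : (M - 1).det ≠ 0) : ∑ i ∈ Finset.range n, M ^ i = 0 := by
  have h1 : (∑ i ∈ Finset.range n, M ^ i) * (M - 1) = 0 := by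
    rw [geom_sum_mul, hM, sub_self]
  have hu : IsUnit (M - 1) := by
    rw [Matrix.isUnit_iff_isUnit_det]
    exact isUnit_iff_ne_zero.mpr hdet
  exact (hu.mul_left_eq_zero).mp h1

lemma det_sub_one (M : Matrix (Fin 2) (Fin 2) F) (hdet : M.det = 1) :
    (M - 1).det = 2 - (M 0 0 + M 1 1) := by
  rw [Matrix.det_fin_two] at hdet ⊢
  simp [Matrix.sub_apply]
  linear_combination hdet

lemma mem_center_of_eq_neg_one (A : Matrix.SpecialLinearGroup (Fin 2) F) (h : A.1 = -1) :
    A ∈ Subgroup.center (Matrix.SpecialLinearGroup (Fin 2) F) := by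
  rw [Matrix.SpecialLinearGroup.mem_center_iff]
  refine ⟨-1, by simp, ?_⟩
  rw [h]
  ext i j
  fin_cases i <;> fin_cases j <;> simp

lemma psl_pow_eq_one (A : Matrix.SpecialLinearGroup (Fin 2) F) (n : ℕ)
    (h : A.1 ^ n = 1 ∨ A.1 ^ n = -1) :
    ((A : Matrix.SpecialLinearGroup (Fin 2) F) :
      Matrix.ProjectiveSpecialLinearGroup (Fin 2) F) ^ n = 1 := by
  rw [← QuotientGroup.mk_pow, QuotientGroup.eq_one_iff]
  rcases h with h | h
  · have : A ^ n = 1 := by
      apply Subtype.ext
      rw [Matrix.SpecialLinearGroup.coe_pow, h]; rfl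
    rw [this]; exact Subgroup.one_mem _
  · apply mem_center_of_eq_neg_one
    rw [Matrix.SpecialLinearGroup.coe_pow, h]

lemma psl_ne_one (A : Matrix.SpecialLinearGroup (Fin 2) F) (h : A.1 0 1 ≠ 0) :
    ((A : Matrix.SpecialLinearGroup (Fin 2) F) :
      Matrix.ProjectiveSpecialLinearGroup (Fin 2) F) ≠ 1 := by
  intro h1
  rw [QuotientGroup.eq_one_iff, Matrix.SpecialLinearGroup.mem_center_iff] at h1
  obtain ⟨r, _, hr⟩ := h1
  apply h
  rw [← hr]
  simp

lemma psl_order_two : ∃ g : Matrix.ProjectiveSpecialLinearGroup (Fin 2) F, orderOf g = 2 := by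
  let A : Matrix.SpecialLinearGroup (Fin 2) F := ⟨!![0, 1; -1, 0], by simp [Matrix.det_fin_two]⟩
  refine ⟨(A : Matrix.ProjectiveSpecialLinearGroup (Fin 2) F), ?_⟩
  have := Fact.mk Nat.prime_two
  apply orderOf_eq_prime
  · apply psl_pow_eq_one
    right
    simp [A, pow_two, Matrix.one_fin_two]
  · apply psl_ne_one
    simp [A]

lemma psl_order_three : ∃ g : Matrix.ProjectiveSpecialLinearGroup (Fin 2) F, orderOf g = 3 := by
  let A : Matrix.SpecialLinearGroup (Fin 2) F := ⟨!![0, 1; -1, 1], by simp [Matrix.det_fin_two]⟩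
  refine ⟨(A : Matrix.ProjectiveSpecialLinearGroup (Fin 2) F), ?_⟩
  have := Fact.mk Nat.prime_three
  apply orderOf_eq_prime
  · apply psl_pow_eq_one
    right
    simp [A, pow_succ, Matrix.one_fin_two]
  · apply psl_ne_one
    simp [A]

end mat

section seven
variable {F : Type*} [Field F] [Fintype F]

lemma seven_eq_zero (hF : Fintype.card F = 7) : (7 : F) = 0 := by
  have := FiniteField.cast_card_eq_zero F
  rw [hF] at this
  exact_mod_cast this

lemma seven_cases (hF : Fintype.card F = 7) (t : F) :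
    t = 0 ∨ t = 1 ∨ t = -1 ∨ t = 2 ∨ t = -2 ∨ t = 3 ∨ t = -3 := by
  have h7 := seven_eq_zero hF
  have ht : t ^ 7 = t := by
    have := FiniteField.pow_card t
    rwa [hF] at this
  have : t * (t - 1) * (t + 1) * (t - 2) * (t + 2) * (t - 3) * (t + 3) = 0 := by
    linear_combination ht + (-2 * t ^ 5 + 7 * t ^ 3 - 5 * t) * h7
  simp only [mul_eq_zero, sub_eq_zero, add_eq_zero_iff_eq_neg] at this
  tauto

lemma mat_cases (hF : Fintype.card F = 7) (M : Matrix (Fin 2) (Fin 2) F) (hdet : M.det = 1) :
    M ^ 4 = -1 ∨ M ^ 2 = -1 ∨ M ^ 3 = -1 ∨ M ^ 3 = 1 ∨ M ^ 7 = 1 ∨ M ^ 7 = -1 := by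
  have h7 := seven_eq_zero hF
  have h := cayley M hdet
  rcases seven_cases hF (M 0 0 + M 1 1) with ht | ht | ht | ht | ht | ht | ht <;> rw [ht] at h
  · right; left
    rw [pow_two, h]; simp
  · right; right; left
    have := pow_succ_eq h 2
    simpa [u] using this
  · right; right; right; left
    have := pow_succ_eq h 2
    simpa [u] using this
  · right; right; right; right; left
    have := pow_succ_eq h 6
    have e7 : u (2 : F) 7 = 0 := by simp only [u]; linear_combination h7
    have e6 : u (2 : F) 6 = -1 := by simp only [u]; linear_combination h7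
    rw [e7, e6] at this
    simpa using this
  · right; right; right; right; right
    have := pow_succ_eq h 6
    have e7 : u (-2 : F) 7 = 0 := by simp only [u]; linear_combination h7
    have e6 : u (-2 : F) 6 = 1 := by simp only [u]; linear_combination -h7
    rw [e7, e6] at this
    simpa using this
  · left
    have := pow_succ_eq h 3
    have e4 : u (3 : F) 4 = 0 := by simp only [u]; linear_combination 3 * h7
    have e3 : u (3 : F) 3 = 1 := by simp only [u]; linear_combination h7
    rw [e4, e3] at this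
    simpa using this
  · left
    have := pow_succ_eq h 3
    have e4 : u (-3 : F) 4 = 0 := by simp only [u]; linear_combination -3 * h7
    have e3 : u (-3 : F) 3 = 1 := by simp only [u]; linear_combination h7
    rw [e4, e3] at this
    simpa using this

lemma small_psl (hF : Fintype.card F = 7) :
    Small (Matrix.ProjectiveSpecialLinearGroup (Fin 2) F) := by
  intro x
  obtain ⟨A, rfl⟩ := QuotientGroup.mk_surjective x
  rcases mat_cases hF A.1 A.2 with h | h | h | h | h | h
  · left; exact psl_pow_eq_one A 4 (Or.inr h)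
  · left
    have := psl_pow_eq_one A 2 (Or.inr h)
    rw [show 4 = 2 * 2 from rfl, pow_mul, this, one_pow]
  · right; left; exact psl_pow_eq_one A 3 (Or.inr h)
  · right; left; exact psl_pow_eq_one A 3 (Or.inl h)
  · right; right; left; exact psl_pow_eq_one A 7 (Or.inl h)
  · right; right; left; exact psl_pow_eq_one A 7 (Or.inr h)

lemma psl_order_seven (hF : Fintype.card F = 7) :
    ∃ g : Matrix.ProjectiveSpecialLinearGroup (Fin 2) F, orderOf g = 7 := by
  let A : Matrix.SpecialLinearGroup (Fin 2) F := ⟨!![1, 1; 0, 1], by simp [Matrix.det_fin_two]⟩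
  refine ⟨(A : Matrix.ProjectiveSpecialLinearGroup (Fin 2) F), ?_⟩
  have : Fact (Nat.Prime 7) := ⟨by norm_num⟩
  have h7 := seven_eq_zero hF
  apply orderOf_eq_prime
  · apply psl_pow_eq_one
    left
    have key : ∀ n : ℕ, (!![1, 1; 0, 1] : Matrix (Fin 2) (Fin 2) F) ^ n = !![1, (n : F); 0, 1] := by
      intro n
      induction n with
      | zero => simp [Matrix.one_fin_two]
      | succ n ih => rw [pow_succ, ih]; simp [add_comm]
    simp only [A]
    rw [key 7]
    simp [Matrix.one_fin_two, h7]
  · apply psl_ne_one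
    simp [A]

end seven

section eight
variable {K : Type} [Field K]

abbrev Nk (K : Type) [Field K] (k : ℕ) : Type := Multiplicative (Matrix (Fin 2) (Fin k) K)

def act (K : Type) [Field K] (k : ℕ) :
    Matrix.SpecialLinearGroup (Fin 2) K →* MulAut (Nk K k) where
  toFun A :=
    { toFun := fun B => Multiplicative.ofAdd (A.1 * Multiplicative.toAdd B)
      invFun := fun B => Multiplicative.ofAdd ((A⁻¹).1 * Multiplicative.toAdd B)
      left_inv := fun B => by
        simp only [toAdd_ofAdd, ← Matrix.mul_assoc, ← Matrix.SpecialLinearGroup.coe_mul,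
          inv_mul_cancel, Matrix.SpecialLinearGroup.coe_one, Matrix.one_mul, ofAdd_toAdd]
      right_inv := fun B => by
        simp only [toAdd_ofAdd, ← Matrix.mul_assoc, ← Matrix.SpecialLinearGroup.coe_mul,
          mul_inv_cancel, Matrix.SpecialLinearGroup.coe_one, Matrix.one_mul, ofAdd_toAdd]
      map_mul' := fun B C => by
        simp only [toAdd_mul, Matrix.mul_add, ofAdd_add] }
  map_one' := by
    ext B
    simp
  map_mul' := fun A B => by
    ext C
    simp [Matrix.mul_assoc]

abbrev Hk (K : Type) [Field K] (k : ℕ) : Type :=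
  SemidirectProduct (Nk K k) (Matrix.SpecialLinearGroup (Fin 2) K) (act K k)

lemma act_apply (k : ℕ) (A : Matrix.SpecialLinearGroup (Fin 2) K) (B : Nk K k) :
    act K k A B = Multiplicative.ofAdd (A.1 * Multiplicative.toAdd B) := rfl

lemma hk_pow (k : ℕ) (g : Hk K k) (m : ℕ) :
    (g ^ m).left = Multiplicative.ofAdd ((∑ i ∈ Finset.range m, g.right.1 ^ i) *
      Multiplicative.toAdd g.left) ∧ (g ^ m).right = g.right ^ m := by
  induction m with
  | zero => simp
  | succ m ih =>
    obtain ⟨ih1, ih2⟩ := ih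
    constructor
    · rw [pow_succ, SemidirectProduct.mul_left, ih1, ih2, act_apply, Finset.sum_range_succ,
        Matrix.add_mul, ofAdd_add, Matrix.SpecialLinearGroup.coe_pow]
    · rw [pow_succ, SemidirectProduct.mul_right, ih2, pow_succ]

lemma hk_pow_eq_one (k : ℕ) (g : Hk K k) (m : ℕ) (h1 : g.right.1 ^ m = 1)
    (h2 : ∑ i ∈ Finset.range m, g.right.1 ^ i = 0) : g ^ m = 1 := by
  obtain ⟨e1, e2⟩ := hk_pow k g m
  ext1
  · rw [e1, h2, Matrix.zero_mul]; rfl
  · rw [e2]
    apply Subtype.ext
    rw [Matrix.SpecialLinearGroup.coe_pow, h1]; rfl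

variable [Fintype K]

lemma two_eq_zero (hK : Fintype.card K = 8) : (2 : K) = 0 := by
  have := FiniteField.cast_card_eq_zero K
  rw [hK] at this
  have h8 : (2 : K) ^ 3 = 0 := by
    have e : ((8 : ℕ) : K) = (2 : K) ^ 3 := by norm_num
    rw [← e]; exact this
  exact pow_eq_zero_iff (by norm_num) |>.mp h8

lemma eight_cases (hK : Fintype.card K = 8) (t : K) :
    t = 0 ∨ t = 1 ∨ t ^ 3 + t + 1 = 0 ∨ t ^ 3 + t ^ 2 + 1 = 0 := by
  have h2 := two_eq_zero hK
  have ht : t ^ 8 = t := by
    have := FiniteField.pow_card t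
    rwa [hK] at this
  have : t * (t - 1) * (t ^ 3 + t + 1) * (t ^ 3 + t ^ 2 + 1) = 0 := by
    linear_combination ht + (t ^ 5 - t ^ 4) * h2
  simp only [mul_eq_zero, sub_eq_zero] at this
  tauto

/-- for a determinant-one 2x2 matrix over the field with 8 elements: some power `M ^ m` is `1`
with vanishing geometric sum. -/
lemma mat_cases8 (hK : Fintype.card K = 8) (M : Matrix (Fin 2) (Fin 2) K) (hdet : M.det = 1) :
    ∃ m ∈ ({4, 3, 7, 9} : Finset ℕ), M ^ m = 1 ∧ ∑ i ∈ Finset.range m, M ^ i = 0 := by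
  have h2 := two_eq_zero hK
  have h := cayley M hdet
  have hd := det_sub_one M hdet
  have hneg : (-1 : Matrix (Fin 2) (Fin 2) K) = 1 := by
    have : (-1 : K) = 1 := by linear_combination -h2
    calc (-1 : Matrix (Fin 2) (Fin 2) K) = (-1 : K) • 1 := by simp
      _ = 1 := by rw [this, one_smul]
  rcases eight_cases hK (M 0 0 + M 1 1) with ht | ht | ht | ht
  · refine ⟨4, by simp, ?_, ?_⟩
    · rw [ht, zero_smul, zero_sub, hneg] at h
      rw [show 4 = 2 * 2 from rfl, pow_mul, pow_two M, h, one_pow]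
    · rw [ht, zero_smul, zero_sub, hneg] at h
      simp only [Finset.sum_range_succ, Finset.sum_range_zero, pow_succ, pow_zero, one_mul, zero_add, h]
      have : (2 : K) • (1 + M) = 0 := by rw [h2, zero_smul]
      rw [two_smul] at this
      rw [← this]; abel
  · have hM : M ^ 3 = 1 := by
      have := pow_succ_eq h 2
      rw [ht] at this
      have e3 : u (1 : K) 3 = 0 := by simp only [u]; ring
      have e2 : u (1 : K) 2 = -1 := by simp only [u]; linear_combination h2
      rw [e3, e2] at this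
      simpa using this
    refine ⟨3, by simp, hM, geom_zero_of_pow_eq_one hM ?_⟩
    rw [hd, ht]
    intro h0
    have : (1 : K) = 0 := by linear_combination h0
    exact one_ne_zero this
  · have hM : M ^ 9 = 1 := by
      have := pow_succ_eq h 8
      set t := M 0 0 + M 1 1
      have e9 : u t 9 = 0 := by
        simp only [u]
        linear_combination (t ^ 5 - 8 * t ^ 3 - t ^ 2 + 23 * t + 9) * ht + (-16 * t ^ 2 - 16 * t - 4) * h2
      have e8 : u t 8 = -1 := by
        simp only [u]
        linear_combination (t ^ 4 - 7 * t ^ 2 - t + 17) * ht + (4 * t ^ 2 - 10 * t - 8) * h2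
      rw [e9, e8] at this
      simpa using this
    refine ⟨9, by simp, hM, geom_zero_of_pow_eq_one hM ?_⟩
    rw [hd]
    intro h0
    have ht0 : M 0 0 + M 1 1 = 0 := by linear_combination h2 - h0
    rw [ht0] at ht
    simp at ht
  · have hM : M ^ 7 = 1 := by
      have := pow_succ_eq h 6
      set t := M 0 0 + M 1 1
      have e7 : u t 7 = 0 := by
        simp only [u]
        linear_combination (t ^ 3 - t ^ 2 - 4 * t + 3) * ht + (2 * t ^ 2 + 2 * t - 2) * h2
      have e6 : u t 6 = -1 := by
        simp only [u]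
        linear_combination (t ^ 2 - t - 3) * ht + (t ^ 2 + 2 * t + 2) * h2
      rw [e7, e6] at this
      simpa using this
    refine ⟨7, by simp, hM, geom_zero_of_pow_eq_one hM ?_⟩
    rw [hd]
    intro h0
    have ht0 : M 0 0 + M 1 1 = 0 := by linear_combination h2 - h0
    rw [ht0] at ht
    simp at ht

lemma small_hk (hK : Fintype.card K = 8) (k : ℕ) : Small (Hk K k) := by
  intro g
  obtain ⟨m, hm, h1, h2⟩ := mat_cases8 hK g.right.1 g.right.2
  have := hk_pow_eq_one k g m h1 h2
  simp only [Finset.mem_insert, Finset.mem_singleton] at hm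
  rcases hm with rfl | rfl | rfl | rfl
  · left; exact this
  · right; left; exact this
  · right; right; left; exact this
  · right; right; right; exact this

lemma hk_order_of_sl (k : ℕ) (A : Matrix.SpecialLinearGroup (Fin 2) K) :
    orderOf (SemidirectProduct.inr A : Hk K k) = orderOf A :=
  orderOf_injective (SemidirectProduct.inr : Matrix.SpecialLinearGroup (Fin 2) K →* Hk K k)
    SemidirectProduct.inr_injective A

lemma sl_order_two (hK : Fintype.card K = 8) :
    ∃ A : Matrix.SpecialLinearGroup (Fin 2) K, orderOf A = 2 := by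
  have h2 := two_eq_zero hK
  let A : Matrix.SpecialLinearGroup (Fin 2) K := ⟨!![1, 1; 0, 1], by simp [Matrix.det_fin_two]⟩
  refine ⟨A, ?_⟩
  have := Fact.mk Nat.prime_two
  apply orderOf_eq_prime
  · apply Subtype.ext
    rw [Matrix.SpecialLinearGroup.coe_pow]
    simp only [A, pow_two, Matrix.SpecialLinearGroup.coe_one]
    ext i j
    fin_cases i <;> fin_cases j <;> simp [Matrix.mul_apply, Fin.sum_univ_two]
    linear_combination h2
  · intro h
    have := congrArg (fun A : Matrix.SpecialLinearGroup (Fin 2) K => A.1 0 1) h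
    simp [A] at this

lemma sl_order_three : ∃ A : Matrix.SpecialLinearGroup (Fin 2) K, orderOf A = 3 := by
  let A : Matrix.SpecialLinearGroup (Fin 2) K := ⟨!![0, 1; -1, -1], by simp [Matrix.det_fin_two]⟩
  refine ⟨A, ?_⟩
  have := Fact.mk Nat.prime_three
  apply orderOf_eq_prime
  · apply Subtype.ext
    rw [Matrix.SpecialLinearGroup.coe_pow]
    simp only [A, pow_succ, pow_zero, one_mul, Matrix.SpecialLinearGroup.coe_one]
    ext i j
    fin_cases i <;> fin_cases j <;> simp [Matrix.mul_apply, Fin.sum_univ_two]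
  · intro h
    have := congrArg (fun A : Matrix.SpecialLinearGroup (Fin 2) K => A.1 0 1) h
    simp [A] at this

lemma sl_order_seven (hK : Fintype.card K = 8) :
    ∃ A : Matrix.SpecialLinearGroup (Fin 2) K, orderOf A = 7 := by
  classical
  have hex : ∃ x : K, x ∉ ({0, 1} : Finset K) := by
    by_contra hcon
    push Not at hcon
    have : (Finset.univ : Finset K) ⊆ {0, 1} := fun x _ => hcon x
    have := Finset.card_le_card this
    rw [Finset.card_univ, hK] at this
    have h2 : ({0, 1} : Finset K).card ≤ 2 := Finset.card_le_two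
    omega
  obtain ⟨x, hx⟩ := hex
  simp only [Finset.mem_insert, Finset.mem_singleton, not_or] at hx
  obtain ⟨hx0, hx1⟩ := hx
  have hx8 : x ^ 8 = x := by
    have := FiniteField.pow_card x
    rwa [hK] at this
  have hx7 : x ^ 7 = 1 := by
    have : x * x ^ 7 = x * 1 := by rw [mul_one, ← pow_succ', hx8]
    exact mul_left_cancel₀ hx0 this
  let A : Matrix.SpecialLinearGroup (Fin 2) K := ⟨!![x, 0; 0, x⁻¹], by simp [Matrix.det_fin_two, hx0]⟩
  refine ⟨A, ?_⟩
  have : Fact (Nat.Prime 7) := ⟨by norm_num⟩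
  apply orderOf_eq_prime
  · apply Subtype.ext
    rw [Matrix.SpecialLinearGroup.coe_pow]
    simp only [A]
    have key : ∀ n : ℕ, (!![x, 0; 0, x⁻¹] : Matrix (Fin 2) (Fin 2) K) ^ n = !![x ^ n, 0; 0, (x⁻¹) ^ n] := by
      intro n
      induction n with
      | zero => simp [Matrix.one_fin_two]
      | succ n ih => rw [pow_succ, ih]; simp [pow_succ]
    simp only [Matrix.SpecialLinearGroup.coe_one]
    rw [key 7, inv_pow, hx7]
    simp [Matrix.one_fin_two]
  · intro h
    have := congrArg (fun A : Matrix.SpecialLinearGroup (Fin 2) K => A.1 0 0) h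
    simp [A] at this
    exact hx1 this

end eight

/-- The prime graph of a finite group has the prime divisors of its order as vertices, two distinct primes p, q being joined when the group has an element of order pq; two groups have the same prime graph when they have the same prime divisors and the same joined pairs. Let F be the field with 7 elements. There are finite groups of arbitrarily large order with the same prime graph as PSL(2,F) (the graph on {2, 3, 7} with no edges, which is also the prime graph of PSL(2,8)). -/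
theorem result {F : Type*} [Field F] [Fintype F] (hF : Fintype.card F = 7) (N : ℕ) :
    ∃ (H : Type) (_ : Group H) (_ : Finite H), N < Nat.card H ∧
      ((∀ p : ℕ, p.Prime → (p ∣ Nat.card (Matrix.ProjectiveSpecialLinearGroup (Fin 2) F) ↔ p ∣ Nat.card H)) ∧
      (∀ p q : ℕ, p.Prime → q.Prime → p ≠ q → ((∃ g : (Matrix.ProjectiveSpecialLinearGroup (Fin 2) F), orderOf g = p * q) ↔ (∃ g : H, orderOf g = p * q)))) := by
  have : Fact (Nat.Prime 2) := ⟨Nat.prime_two⟩
  let K : Type := GaloisField 2 3
  let _ : Fintype K := Fintype.ofFinite K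
  have hK : Fintype.card K = 8 := by
    rw [← Nat.card_eq_fintype_card, GaloisField.card 2 3 (by norm_num)]; norm_num
  have hfin : Finite (Hk K (N + 1)) := Finite.of_equiv _ SemidirectProduct.equivProd.symm
  refine ⟨Hk K (N + 1), inferInstance, hfin, ?_, ?_, ?_⟩
  · rw [SemidirectProduct.card]
    have h1 : 0 < Nat.card (Matrix.SpecialLinearGroup (Fin 2) K) := Nat.card_pos
    have h2 : N < Nat.card (Nk K (N + 1)) := by
      have : Nat.card (Nk K (N + 1)) = (8 ^ (N + 1)) ^ 2 := by
        show Nat.card (Fin 2 → Fin (N + 1) → K) = _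
        rw [Nat.card_fun, Nat.card_fun, Nat.card_eq_fintype_card (α := K), hK]
        simp
      rw [this]
      calc N < 2 ^ N := Nat.lt_two_pow_self
        _ ≤ 8 ^ (N + 1) := by
          calc 2 ^ N ≤ 8 ^ N := Nat.pow_le_pow_left (by norm_num) N
            _ ≤ 8 ^ (N + 1) := Nat.pow_le_pow_right (by norm_num) (by omega)
        _ ≤ (8 ^ (N + 1)) ^ 2 := Nat.le_self_pow (by norm_num) _
    calc N < Nat.card (Nk K (N + 1)) := h2
      _ ≤ Nat.card (Nk K (N + 1)) * Nat.card (Matrix.SpecialLinearGroup (Fin 2) K) :=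
        Nat.le_mul_of_pos_right _ h1
  · intro p hp
    have hP := (small_psl hF).prime_dvd_card_iff psl_order_two psl_order_three (psl_order_seven hF) hp
    have e2 : ∃ g : Hk K (N + 1), orderOf g = 2 := by
      obtain ⟨A, hA⟩ := sl_order_two hK
      exact ⟨SemidirectProduct.inr A, by rw [hk_order_of_sl, hA]⟩
    have e3 : ∃ g : Hk K (N + 1), orderOf g = 3 := by
      obtain ⟨A, hA⟩ := sl_order_three (K := K)
      exact ⟨SemidirectProduct.inr A, by rw [hk_order_of_sl, hA]⟩
    have e7 : ∃ g : Hk K (N + 1), orderOf g = 7 := by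
      obtain ⟨A, hA⟩ := sl_order_seven hK
      exact ⟨SemidirectProduct.inr A, by rw [hk_order_of_sl, hA]⟩
    have hH := (small_hk hK (N + 1)).prime_dvd_card_iff e2 e3 e7 hp
    rw [hP, hH]
  · intro p q hp hq hpq
    constructor
    · intro h
      exact absurd h ((small_psl hF).no_pq hp hq hpq)
    · intro h
      exact absurd h ((small_hk hK (N + 1)).no_pq hp hq hpq)

end Cfsg.Agent.S3678
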