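import Cfsg.Statements.S3680
import Mathlib
import Cfsg.Agent.Lib.Helper61.MinNormalProd

set_option autoImplicit false
set_option linter.unusedSectionVars false
open Cfsg

namespace Cfsg.Agent.S3680
open Cfsg.Agent.Helper61

section
variable {G Ω : Type*} [Group G] [MulAction G Ω] [FaithfulSMul G Ω]

/-- explicit transitivity of a subgroup -/
def Trans (A : Subgroup G) (Ω : Type*) [MulAction G Ω] : Prop := ∀ x y : Ω, ∃ a ∈ A, a • x = y

lemma trans_iff (A : Subgroup G) : MulAction.IsPretransitive A Ω ↔ Trans A Ω := by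
  constructor
  · intro h x y
    obtain ⟨a, ha⟩ := h.exists_smul_eq x y
    exact ⟨a.1, a.2, ha⟩
  · intro h
    exact ⟨fun x y => by obtain ⟨a, ha, hxy⟩ := h x y; exact ⟨⟨a, ha⟩, hxy⟩⟩

lemma trans_of_normal (hprim : MulAction.IsPreprimitive G Ω) (K : Subgroup G) [K.Normal]
    (hK : K ≠ ⊥) : Trans K Ω := by
  rw [← trans_iff]
  apply MulAction.IsQuasiPreprimitive.isPretransitive_of_normal (G := G) (X := Ω)
  intro h
  apply hK
  rw [eq_bot_iff]
  intro k hk
  rw [Subgroup.mem_bot]
  apply FaithfulSMul.eq_of_smul_eq_smul (α := Ω)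
  intro x
  have : x ∈ MulAction.fixedPoints K Ω := by rw [h]; trivial
  rw [one_smul]
  exact this ⟨k, hk⟩

/-- the centralizer of a transitive subgroup is semiregular -/
lemma cent_semireg {A : Subgroup G} (hA : Trans A Ω) {c : G}
    (hc : c ∈ Subgroup.centralizer (A : Set G)) {ω : Ω} (hω : c • ω = ω) : c = 1 := by
  apply FaithfulSMul.eq_of_smul_eq_smul (α := Ω)
  intro x
  obtain ⟨a, ha, rfl⟩ := hA ω x
  rw [Subgroup.mem_centralizer_iff] at hc
  rw [one_smul, smul_smul, ← hc a ha, ← smul_smul, hω]

lemma cent_eq {A B : Subgroup G} (hA : Trans A Ω) (hB : B ≤ Subgroup.centralizer (A : Set G))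
    (hBt : Trans B Ω) (ω : Ω) : Subgroup.centralizer (A : Set G) = B := by
  apply le_antisymm _ hB
  intro c hc
  obtain ⟨b, hb, hbω⟩ := hBt ω (c • ω)
  have h1 : b⁻¹ * c ∈ Subgroup.centralizer (A : Set G) :=
    Subgroup.mul_mem _ (Subgroup.inv_mem _ (hB hb)) hc
  have h2 : (b⁻¹ * c) • ω = ω := by
    rw [mul_smul, ← hbω, inv_smul_smul]
  have := cent_semireg hA h1 h2
  have : c = b := by
    have h3 := congrArg (fun z => b * z) this
    simpa using h3
  rw [this]; exact hb

/-- two transitive subgroups centralizing each other are isomorphic -/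
lemma iso_of_commuting {M M' : Subgroup G} (hM : Trans M Ω) (hM' : Trans M' Ω)
    (hc : M' ≤ Subgroup.centralizer (M : Set G)) (ω : Ω) : Nonempty (M ≃* M') := by
  have hc' : M ≤ Subgroup.centralizer (M' : Set G) := by
    intro m hm
    rw [Subgroup.mem_centralizer_iff]
    intro m' hm'
    have := Subgroup.mem_centralizer_iff.mp (hc hm') m hm
    exact this.symm
  have hex : ∀ m : M, ∃ m' : M', (m' : G) • ω = (m : G)⁻¹ • ω := by
    intro m
    obtain ⟨a, ha, h⟩ := hM' ω ((m : G)⁻¹ • ω)
    exact ⟨⟨a, ha⟩, h⟩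
  choose θ hθ using hex
  have huniq : ∀ a b : M', (a : G) • ω = (b : G) • ω → a = b := by
    intro a b hab
    have h1 : (b : G)⁻¹ * a ∈ Subgroup.centralizer (M : Set G) :=
      Subgroup.mul_mem _ (Subgroup.inv_mem _ (hc b.2)) (hc a.2)
    have h2 : ((b : G)⁻¹ * a) • ω = ω := by rw [mul_smul, hab, inv_smul_smul]
    have := cent_semireg hM h1 h2
    apply Subtype.ext
    have h3 := congrArg (fun z => (b : G) * z) this
    simpa using h3
  have hmul : ∀ m₁ m₂ : M, θ (m₁ * m₂) = θ m₁ * θ m₂ := by
    intro m₁ m₂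
    apply huniq
    rw [hθ]
    have e1 : ((θ m₁ * θ m₂ : M') : G) • ω = (θ m₁ : G) • ((m₂ : G)⁻¹ • ω) := by
      rw [Subgroup.coe_mul, mul_smul, hθ m₂]
    rw [e1, smul_smul]
    have hcm := Subgroup.mem_centralizer_iff.mp (hc (θ m₁).2) ((m₂ : G)⁻¹) (M.inv_mem m₂.2)
    rw [← hcm, ← smul_smul, hθ m₁, smul_smul]
    simp
  let f : M →* M' := MonoidHom.mk' θ hmul
  have hinj : Function.Injective f := by
    rw [injective_iff_map_eq_one]
    intro m hm
    have h1 : (m : G)⁻¹ • ω = ω := by
      have := hθ m
      have hm' : θ m = 1 := hm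
      rw [hm'] at this
      simpa using this.symm
    have h2 : (m : G)⁻¹ ∈ Subgroup.centralizer (M' : Set G) := hc' (M.inv_mem m.2)
    have := cent_semireg hM' h2 h1
    apply Subtype.ext
    simpa using this
  have hsurj : Function.Surjective f := by
    intro m'
    obtain ⟨a, ha, h⟩ := hM ω ((m' : G) • ω)
    refine ⟨⟨a, ha⟩⁻¹, ?_⟩
    apply huniq
    show ((θ (⟨a, ha⟩⁻¹) : M') : G) • ω = (m' : G) • ω
    rw [hθ]
    simpa using h
  exact ⟨MulEquiv.ofBijective f ⟨hinj, hsurj⟩⟩


/-- `V` is a minimal normal subgroup -/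
def IsMinNormal (V : Subgroup G) : Prop :=
  V.Normal ∧ V ≠ ⊥ ∧ ∀ M : Subgroup G, M.Normal → M ≤ V → M = ⊥ ∨ M = V

lemma IsMinNormal.disjoint {M M' : Subgroup G} (hM : IsMinNormal M) (hM' : IsMinNormal M')
    (hne : M' ≠ M) : M ⊓ M' = ⊥ := by
  have := hM.1
  have := hM'.1
  rcases hM.2.2 (M ⊓ M') inferInstance inf_le_left with h | h
  · exact h
  · exfalso
    have hle : M ≤ M' := by rw [← h]; exact inf_le_right
    rcases hM'.2.2 M hM.1 hle with h' | h'
    · exact hM.2.1 h'
    · exact hne h'.symm

lemma IsMinNormal.le_centralizer {M M' : Subgroup G} (hM : IsMinNormal M) (hM' : IsMinNormal M')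
    (hne : M' ≠ M) : M' ≤ Subgroup.centralizer (M : Set G) := by
  intro x hx
  rw [Subgroup.mem_centralizer_iff]
  intro m hm
  have hd : Disjoint M M' := by rw [disjoint_iff]; exact hM.disjoint hM' hne
  exact (Subgroup.commute_of_normal_of_disjoint M M' hM.1 hM'.1 hd m x hm hx).eq

lemma exists_isMinNormal [Finite G] [Nontrivial G] : ∃ M : Subgroup G, IsMinNormal M := by
  classical
  let s : Set (Subgroup G) := {X | X.Normal ∧ X ≠ ⊥}
  have hne : s.Nonempty := ⟨⊤, inferInstance, top_ne_bot⟩
  obtain ⟨S, hS, hmin⟩ := WellFounded.has_min (measure (fun X : Subgroup G => Nat.card X)).wf s hne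
  refine ⟨S, hS.1, hS.2, fun Y hY hle => ?_⟩
  by_cases hY0 : Y = ⊥
  · exact Or.inl hY0
  · right
    have h1 : ¬ (Nat.card Y < Nat.card S) := hmin Y ⟨hY, hY0⟩
    exact Subgroup.eq_of_le_of_card_ge hle (by omega)

end

/-- `(Fin a → T) × (Fin b → T) ≃* (Fin (a+b) → T)` -/
def prodPiEquiv (T : Type*) [Group T] (a b : ℕ) : (Fin a → T) × (Fin b → T) ≃* (Fin (a + b) → T) where
  toFun p := Fin.append p.1 p.2
  invFun f := (fun i => f (Fin.castAdd b i), fun j => f (Fin.natAdd a j))
  left_inv p := by ext i <;> simp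
  right_inv f := by
    ext i
    refine Fin.addCases (fun i => ?_) (fun j => ?_) i <;> simp
  map_mul' p q := by
    ext i
    refine Fin.addCases (fun i => ?_) (fun j => ?_) i <;> simp

lemma exists_prime_pow_eq_one (T : Type*) [Group T] [Finite T] [hs : IsSimpleGroup T]
    (hc : IsMulCommutative T) : ∃ p : ℕ, p.Prime ∧ ∀ t : T, t ^ p = 1 := by
  have hcard : 1 < Nat.card T := Finite.one_lt_card
  obtain ⟨p, hp, hpd⟩ := Nat.exists_prime_and_dvd (show Nat.card T ≠ 1 by omega)
  have := Fact.mk hp
  obtain ⟨x, hx⟩ := exists_prime_orderOf_dvd_card' p hpd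
  have hx1 : x ≠ 1 := by
    rintro rfl
    rw [orderOf_one] at hx
    exact hp.one_lt.ne hx
  have hnorm : (Subgroup.zpowers x).Normal := by
    constructor
    intro n hn g
    have : g * n * g⁻¹ = n := by
      rw [(isMulCommutative_iff.mp hc) g n, mul_inv_cancel_right]
    rwa [this]
  have htop : Subgroup.zpowers x = ⊤ := by
    rcases hs.eq_bot_or_eq_top_of_normal _ hnorm with h | h
    · exact absurd (Subgroup.zpowers_eq_bot.mp h) hx1
    · exact h
  have hc' : Nat.card T = p := by
    rw [← hx, ← Nat.card_zpowers, htop, Subgroup.card_top]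
  exact ⟨p, hp, fun t => by rw [← hc']; exact pow_card_eq_one'⟩

/-- The socle of a finite primitive permutation group. Let a finite group G act faithfully and primitively on a set Ω, and let N be the subgroup generated by the minimal normal subgroups of G. Then either N is an elementary abelian p-group for some prime p and acts regularly on Ω (transitively with trivial point stabilizers), or N is isomorphic to a direct product of m ≥ 1 copies of a non-abelian simple group. -/
theorem result {G Ω : Type*} [Group G] [Finite G] [MulAction G Ω] [FaithfulSMul G Ω] [Finite Ω]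
    (hprim : MulAction.IsPreprimitive G Ω) (N : Subgroup G)
    (hN : N = sSup {V : Subgroup G | V.Normal ∧ V ≠ ⊥ ∧ ∀ M : Subgroup G, M.Normal → M ≤ V → M = ⊥ ∨ M = V}) :
    (∃ p : ℕ, p.Prime ∧ IsMulCommutative N ∧ (∀ x : N, x ^ p = 1) ∧
      MulAction.IsPretransitive N Ω ∧ ∀ ω : Ω, MulAction.stabilizer N ω = ⊥) ∨
    (∃ (T : Type) (_ : Group T) (m : ℕ), 1 ≤ m ∧ IsSimpleGroup T ∧ ¬ IsMulCommutative T ∧ Nonempty (N ≃* (Fin m → T))) := by
  classical
  have h𝓜 : {V : Subgroup G | V.Normal ∧ V ≠ ⊥ ∧ ∀ M : Subgroup G, M.Normal → M ≤ V → M = ⊥ ∨ M = V}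
      = {V : Subgroup G | IsMinNormal V} := rfl
  rw [h𝓜] at hN
  by_cases htriv : Nontrivial G
  swap
  · -- trivial group
    rw [not_nontrivial_iff_subsingleton] at htriv
    left
    have hΩ : ∀ x y : Ω, x = y := by
      intro x y
      obtain ⟨g, hg⟩ := MulAction.exists_smul_eq G x y
      rw [Subsingleton.elim g 1, one_smul] at hg
      exact hg
    refine ⟨2, Nat.prime_two, ⟨⟨fun a b => Subsingleton.elim _ _⟩⟩, fun x => Subsingleton.elim _ _,
      ⟨fun x y => ⟨1, by rw [one_smul]; exact hΩ x y⟩⟩, fun ω => Subsingleton.elim _ _⟩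
  · obtain ⟨M, hM⟩ := exists_isMinNormal (G := G)
    have hMn := hM.1
    have hne : Nonempty Ω := by
      by_contra h
      rw [not_nonempty_iff] at h
      apply hM.2.1
      rw [eq_bot_iff]
      intro g _
      rw [Subgroup.mem_bot]
      apply FaithfulSMul.eq_of_smul_eq_smul (α := Ω)
      intro x
      exact isEmptyElim x
    obtain ⟨ω⟩ := hne
    have hMt : Trans M Ω := trans_of_normal hprim M hM.2.1
    obtain ⟨T, hTg, m, hTs, hm, ⟨e⟩⟩ := minNormal_equiv_pi M hM.2.1 hM.2.2
    have hTfin : Finite T := by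
      have : Finite (Fin m → T) := Finite.of_equiv _ e.toEquiv
      exact Finite.of_surjective (fun f : Fin m → T => f ⟨0, hm⟩)
        (fun t => ⟨fun _ => t, rfl⟩)
    by_cases huniq : ∀ M' : Subgroup G, IsMinNormal M' → M' = M
    · have hNM : N = M := by
        rw [hN]
        apply le_antisymm
        · exact sSup_le (fun M' h => (huniq M' h).le)
        · exact le_sSup hM
      subst hNM
      by_cases hTc : IsMulCommutative T
      · left
        obtain ⟨p, hp, hpT⟩ := exists_prime_pow_eq_one T hTc
        have hcomm : ∀ a b : N, a * b = b * a := by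
          intro a b
          apply e.injective
          rw [map_mul, map_mul]
          ext i
          exact (isMulCommutative_iff.mp hTc) _ _
        refine ⟨p, hp, ⟨⟨hcomm⟩⟩, ?_, (trans_iff N).mpr hMt, ?_⟩
        · intro x
          apply e.injective
          rw [map_pow, map_one]
          ext i
          exact hpT _
        · intro ω'
          rw [eq_bot_iff]
          intro n hn
          rw [Subgroup.mem_bot]
          rw [MulAction.mem_stabilizer_iff] at hn
          have hcen : (n : G) ∈ Subgroup.centralizer (N : Set G) := by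
            rw [Subgroup.mem_centralizer_iff]
            intro x hx
            have := hcomm ⟨x, hx⟩ n
            exact congrArg Subtype.val this
          have := cent_semireg hMt hcen (ω := ω') hn
          exact Subtype.ext this
      · right
        exact ⟨T, hTg, m, hm, hTs, hTc, ⟨e⟩⟩
    · push Not at huniq
      obtain ⟨M', hM', hne'⟩ := huniq
      have hM'n := hM'.1
      have hM't : Trans M' Ω := trans_of_normal hprim M' hM'.2.1
      have hcM : M' ≤ Subgroup.centralizer (M : Set G) := hM.le_centralizer hM' hne'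
      have hcenM : Subgroup.centralizer (M : Set G) = M' := cent_eq hMt hcM hM't ω
      have hall : ∀ M'' : Subgroup G, IsMinNormal M'' → M'' = M ∨ M'' = M' := by
        intro M'' hM''
        by_cases h : M'' = M
        · exact Or.inl h
        · right
          have hle : M'' ≤ M' := by
            rw [← hcenM]; exact hM.le_centralizer hM'' h
          rcases hM'.2.2 M'' hM''.1 hle with h' | h'
          · exact absurd h' hM''.2.1
          · exact h'
      have hNsup : N = M ⊔ M' := by
        rw [hN]
        apply le_antisymm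
        · apply sSup_le
          intro M'' hM''
          rcases hall M'' hM'' with h | h
          · rw [h]; exact le_sup_left
          · rw [h]; exact le_sup_right
        · exact sup_le (le_sSup hM) (le_sSup hM')
      have hTc : ¬ IsMulCommutative T := by
        intro hTc
        have hcomm : ∀ a b : M, a * b = b * a := by
          intro a b
          apply e.injective
          rw [map_mul, map_mul]
          ext i
          exact (isMulCommutative_iff.mp hTc) _ _
        have hle : M ≤ M' := by
          rw [← hcenM]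
          intro x hx
          rw [Subgroup.mem_centralizer_iff]
          intro y hy
          exact congrArg Subtype.val (hcomm ⟨y, hy⟩ ⟨x, hx⟩)
        rcases hM'.2.2 M hM.1 hle with h | h
        · exact hM.2.1 h
        · exact hne' h.symm
      obtain ⟨f⟩ := iso_of_commuting hMt hM't hcM ω
      have hdisj : M ⊓ M' = ⊥ := hM.disjoint hM' hne'
      have e1 : (M ⊔ M' : Subgroup G) ≃* M × M' :=
        supEquivProd M M' hdisj (fun x hx y hy => by
          have := Subgroup.mem_centralizer_iff.mp (hcM hy) x hx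
          exact this)
      right
      refine ⟨T, hTg, m + m, by omega, hTs, hTc, ⟨?_⟩⟩
      exact (((MulEquiv.subgroupCongr hNsup).trans e1).trans
        (MulEquiv.prodCongr e (f.symm.trans e))).trans (prodPiEquiv T m m)

end Cfsg.Agent.S3680
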