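import Cfsg.Statements.S3681
import Mathlib

set_option autoImplicit false
set_option linter.unusedSectionVars false
open Cfsg

namespace Cfsg.Agent.S3681
open Equiv

section
variable {Ω : Type*} [Fintype Ω] [DecidableEq Ω]

lemma app_inv (f : Perm Ω) (x : Ω) : f (f⁻¹ x) = x := f.apply_symm_apply x
lemma inv_app (f : Perm Ω) (x : Ω) : f⁻¹ (f x) = x := f.symm_apply_apply x

/-- the commutator of two permutations whose supports meet in exactly one point is a 3-cycle -/
lemma isThreeCycle_commutator {x y : Perm Ω} {α : Ω} (hxα : x α ≠ α) (hyα : y α ≠ α)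
    (h : ∀ ω, x ω ≠ ω → y ω ≠ ω → ω = α) : (x * y * x⁻¹ * y⁻¹).IsThreeCycle := by
  -- basic facts
  have hor : ∀ ω, ω ≠ α → x ω = ω ∨ y ω = ω := by
    intro ω hω
    by_contra hcon
    push Not at hcon
    exact hω (h ω hcon.1 hcon.2)
  have hxinv : ∀ ω, x ω = ω → x⁻¹ ω = ω := fun ω hω => by
    rw [Perm.inv_eq_iff_eq]; exact hω.symm
  have hyinv : ∀ ω, y ω = ω → y⁻¹ ω = ω := fun ω hω => by
    rw [Perm.inv_eq_iff_eq]; exact hω.symm
  -- x α is moved by x, hence fixed by y
  have h1 : x (x α) ≠ x α := fun e => hxα (x.injective e)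
  have h2 : y (y α) ≠ y α := fun e => hyα (y.injective e)
  have hy_xα : y (x α) = x α := by
    rcases hor (x α) hxα with e | e
    · exact absurd e h1
    · exact e
  have hx_yα : x (y α) = y α := by
    rcases hor (y α) hyα with e | e
    · exact e
    · exact absurd e h2
  have hne : y α ≠ x α := by
    intro e
    rw [e] at h2
    exact h2 hy_xα
  -- x⁻¹ α and y⁻¹ α
  have hxi : x⁻¹ α ≠ α := fun e => hxα (by rw [Perm.inv_eq_iff_eq] at e; exact e.symm)
  have hyi : y⁻¹ α ≠ α := fun e => hyα (by rw [Perm.inv_eq_iff_eq] at e; exact e.symm)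
  have hy_xi : y (x⁻¹ α) = x⁻¹ α := by
    rcases hor (x⁻¹ α) hxi with e | e
    · exfalso
      rw [app_inv] at e
      exact hxi e.symm
    · exact e
  have hx_yi : x (y⁻¹ α) = y⁻¹ α := by
    rcases hor (y⁻¹ α) hyi with e | e
    · exact e
    · exfalso
      rw [app_inv] at e
      exact hyi e.symm
  have key : x * y * x⁻¹ * y⁻¹ = swap α (y α) * swap α (x α) := by
    ext ω
    simp only [Perm.mul_apply]
    by_cases hω1 : ω = α
    · subst hω1
      rw [swap_apply_left, swap_apply_of_ne_of_ne hxα hne.symm, hxinv _ hx_yi, app_inv]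
    by_cases hω2 : ω = x α
    · subst hω2
      rw [swap_apply_right, swap_apply_left, hyinv _ hy_xα, inv_app, hx_yα]
    by_cases hω3 : ω = y α
    · subst hω3
      rw [swap_apply_of_ne_of_ne hyα hne, swap_apply_right, inv_app, hy_xi,
        app_inv]
    rw [swap_apply_of_ne_of_ne hω1 hω2, swap_apply_of_ne_of_ne hω1 hω3]
    by_cases hyω : y ω = ω
    · rw [hyinv _ hyω]
      by_cases hxω : x ω = ω
      · rw [hxinv _ hxω, hyω, hxω]
      · -- a = x⁻¹ ω is moved by x and is not α
        have ha : x⁻¹ ω ≠ α := by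
          intro e
          apply hω2
          rw [← e, app_inv]
        have hxa : x (x⁻¹ ω) ≠ x⁻¹ ω := by
          rw [app_inv]
          intro e
          apply hxω
          exact (congrArg x e).trans (app_inv x ω)
        rcases hor _ ha with e | e
        · exact absurd e hxa
        · rw [e, app_inv]
    · have hxω : x ω = ω := by
        rcases hor ω hω1 with e | e
        · exact e
        · exact absurd e hyω
      have hb : y⁻¹ ω ≠ α := by
        intro e
        apply hω3
        rw [← e, app_inv]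
      have hyb : y (y⁻¹ ω) ≠ y⁻¹ ω := by
        rw [app_inv]
        intro e
        apply hyω
        exact (congrArg y e).trans (app_inv y ω)
      rcases hor _ hb with e | e
      · rw [hxinv _ e, app_inv, hxω]
      · exact absurd e hyb
  rw [key]
  exact Perm.isThreeCycle_swap_mul_swap_same (Ne.symm hyα) (Ne.symm hxα) hne


/-- `Γ` supports no non-identity element of `G'` -/
def P (G' : Subgroup (Perm Ω)) (Γ : Finset Ω) : Prop :=
  ∀ g ∈ G', (∀ ω, ω ∉ Γ → g ω = ω) → g = 1

lemma card_mul_factorial_le (G' : Subgroup (Perm Ω)) (Γ : Finset Ω) (hP : P G' Γ) :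
    Nat.card G' * Nat.factorial Γ.card ≤ Nat.factorial (Fintype.card Ω) := by
  classical
  let f : Perm {x // x ∈ Γ} → Perm Ω ⧸ G' := fun σ => QuotientGroup.mk (Perm.ofSubtype σ)
  have hf : Function.Injective f := by
    intro σ τ hστ
    have h1 : (Perm.ofSubtype σ)⁻¹ * Perm.ofSubtype τ ∈ G' := QuotientGroup.eq.mp hστ
    rw [← map_inv, ← map_mul] at h1
    have h2 := hP _ h1 (fun ω hω => Perm.ofSubtype_apply_of_not_mem _ hω)
    have h3 : σ⁻¹ * τ = 1 := by
      apply Perm.ofSubtype_injective
      rw [h2, map_one]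
    exact inv_mul_eq_one.mp h3
  have h1 : Nat.card (Perm {x // x ∈ Γ}) ≤ Nat.card (Perm Ω ⧸ G') :=
    Nat.card_le_card_of_injective f hf
  have h2 : Nat.card (Perm {x // x ∈ Γ}) = Nat.factorial Γ.card := by
    rw [Nat.card_perm, Nat.card_eq_fintype_card, Fintype.card_coe]
  have h3 : Nat.card (Perm Ω ⧸ G') * Nat.card G' = Nat.factorial (Fintype.card Ω) := by
    have := G'.index_mul_card
    rw [Subgroup.index] at this
    rw [this, Nat.card_perm, Nat.card_eq_fintype_card]
  rw [h2] at h1
  calc Nat.card G' * Nat.factorial Γ.card ≤ Nat.card G' * Nat.card (Perm Ω ⧸ G') :=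
        Nat.mul_le_mul_left _ h1
    _ = Nat.factorial (Fintype.card Ω) := by rw [mul_comm, h3]

lemma bochert_subgroup (G' : Subgroup (Perm Ω)) (hprim : MulAction.IsPreprimitive G' Ω)
    (hA : ¬ alternatingGroup Ω ≤ G') :
    Nat.card G' * Nat.factorial ((Fintype.card Ω + 1) / 2) ≤ Nat.factorial (Fintype.card Ω) := by
  classical
  have hP0 : P G' ∅ := by
    intro g _ hg
    ext ω
    exact hg ω (Finset.notMem_empty ω)
  obtain ⟨Γ, hΓ, hmax⟩ := Finset.exists_max_image (Finset.univ.filter (P G')) Finset.card
    ⟨∅, by simp [hP0]⟩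
  have hPΓ : P G' Γ := (Finset.mem_filter.mp hΓ).2
  by_cases hk : (Fintype.card Ω + 1) / 2 ≤ Γ.card
  · calc Nat.card G' * Nat.factorial ((Fintype.card Ω + 1) / 2)
        ≤ Nat.card G' * Nat.factorial Γ.card := Nat.mul_le_mul_left _ (Nat.factorial_le hk)
      _ ≤ _ := card_mul_factorial_le G' Γ hPΓ
  · -- the complement works
    have hPc : P G' Γᶜ := by
      intro y hy hysupp
      by_contra hy1
      -- a point moved by y
      have : ∃ δ, y δ ≠ δ := by
        by_contra hcon
        push Not at hcon
        exact hy1 (Perm.ext hcon)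
      obtain ⟨δ, hδ⟩ := this
      have hδΓ : δ ∉ Γ := by
        intro h
        exact hδ (hysupp δ (by simpa using h))
      -- Γ ∪ {δ} is not good
      have hnot : ¬ P G' (insert δ Γ) := by
        intro hP'
        have := hmax (insert δ Γ) (Finset.mem_filter.mpr ⟨Finset.mem_univ _, hP'⟩)
        rw [Finset.card_insert_of_notMem hδΓ] at this
        omega
      unfold P at hnot
      push Not at hnot
      obtain ⟨x, hx, hxsupp, hx1⟩ := hnot
      have hxδ : x δ ≠ δ := by
        intro hfix
        apply hx1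
        apply hPΓ x hx
        intro ω hω
        by_cases hωδ : ω = δ
        · rw [hωδ]; exact hfix
        · exact hxsupp ω (by simp [hωδ, hω])
      have h3 : (x * y * x⁻¹ * y⁻¹).IsThreeCycle := by
        apply isThreeCycle_commutator hxδ hδ
        intro ω hxω hyω
        by_contra hne
        have hωΓ : ω ∈ Γ := by
          by_contra hω
          exact hxω (hxsupp ω (by simp [hne, hω]))
        exact hyω (hysupp ω (by simpa using hωΓ))
      have hmem : x * y * x⁻¹ * y⁻¹ ∈ G' :=
        G'.mul_mem (G'.mul_mem (G'.mul_mem hx hy) (G'.inv_mem hx)) (G'.inv_mem hy)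
      exact hA (Perm.alternatingGroup_le_of_isPreprimitive_of_isThreeCycle_mem hprim h3 hmem)
    have hcard : (Fintype.card Ω + 1) / 2 ≤ Γᶜ.card := by
      rw [Finset.card_compl]
      have : Γ.card ≤ Fintype.card Ω := Finset.card_le_univ Γ
      omega
    calc Nat.card G' * Nat.factorial ((Fintype.card Ω + 1) / 2)
        ≤ Nat.card G' * Nat.factorial Γᶜ.card := Nat.mul_le_mul_left _ (Nat.factorial_le hcard)
      _ ≤ _ := card_mul_factorial_le G' Γᶜ hPc

end

/-- Bochert's bound for primitive groups. Let a finite group G act faithfully and primitively on a finite set Ω with n elements, and suppose the image of G in the symmetric group of Ω does not contain the alternating group of Ω. Then |G| · ⌊(n + 1)/2⌋! ≤ n!, that is, the index of G in the symmetric group is at least ⌊(n + 1)/2⌋!. -/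
theorem result {G Ω : Type*} [Group G] [Finite G] [MulAction G Ω] [FaithfulSMul G Ω] [Fintype Ω] [DecidableEq Ω]
    (hprim : MulAction.IsPreprimitive G Ω) (hA : ¬ alternatingGroup Ω ≤ (MulAction.toPermHom G Ω).range) :
    Nat.card G * Nat.factorial ((Fintype.card Ω + 1) / 2) ≤ Nat.factorial (Fintype.card Ω) := by
  have hinj : Function.Injective (MulAction.toPermHom G Ω) := MulAction.toPerm_injective
  have hcard : Nat.card G = Nat.card (MulAction.toPermHom G Ω).range :=
    Nat.card_congr (MonoidHom.ofInjective hinj).toEquiv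
  have hprim' : MulAction.IsPreprimitive (MulAction.toPermHom G Ω).range Ω := by
    let φ : G → (MulAction.toPermHom G Ω).range := fun g => ⟨MulAction.toPermHom G Ω g, ⟨g, rfl⟩⟩
    let f : Ω →ₑ[φ] Ω :=
      { toFun := id
        map_smul' := fun g x => rfl }
    have hφ : Function.Surjective φ := by
      rintro ⟨_, ⟨g, rfl⟩⟩
      exact ⟨g, rfl⟩
    exact (MulAction.isPreprimitive_congr hφ (f := f) Function.bijective_id).mp hprim
  rw [hcard]
  exact bochert_subgroup _ hprim' hA

end Cfsg.Agent.S3681
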