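import Cfsg.Statements.S3683
import Mathlib

set_option autoImplicit false
open Cfsg

namespace Cfsg.Agent.S3683

open MulAction in
theorem stab_eq_bot {G Ω : Type*} [Group G] [MulAction G Ω] [FaithfulSMul G Ω]
    (hprim : MulAction.IsPreprimitive G Ω) (a b : Ω) (hab : a ≠ b) (hfix : ∀ g : G, g • a = a → g • b = b) :
    MulAction.stabilizer G a = ⊥ := by
  have : Nontrivial Ω := ⟨⟨a, b, hab⟩⟩
  have hco : IsCoatom (stabilizer G a) := IsPreprimitive.isCoatom_stabilizer_of_isPreprimitive G a
  have hle : stabilizer G a ≤ stabilizer G b := fun g hg => hfix g hg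
  obtain ⟨g, hg⟩ := exists_smul_eq G a b
  have hbne : stabilizer G b ≠ ⊤ := by
    intro h
    have : g⁻¹ ∈ stabilizer G b := by rw [h]; trivial
    rw [mem_stabilizer_iff] at this
    apply hab
    rw [← hg, inv_smul_smul] at this
    rw [← hg]; exact this
  have heq : stabilizer G a = stabilizer G b := by
    rcases eq_or_lt_of_le hle with h | h
    · exact h
    · exact absurd (hco.2 _ h) hbne
  -- g normalizes the stabilizer
  have hconj : stabilizer G b = (stabilizer G a).map (MulAut.conj g).toMonoidHom := by
    rw [← hg, stabilizer_smul_eq_stabilizer_map_conj]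
  have hgn : g ∈ Subgroup.normalizer (stabilizer G a : Set G) := by
    rw [Subgroup.mem_normalizer_iff]
    intro h
    constructor
    · intro hh
      have : g * h * g⁻¹ ∈ (stabilizer G a).map (MulAut.conj g).toMonoidHom := ⟨h, hh, rfl⟩
      rw [← hconj, ← heq] at this
      exact this
    · intro hh
      rw [heq, hconj] at hh
      obtain ⟨k, hk, hk'⟩ := hh
      simp only [MulEquiv.coe_toMonoidHom, MulAut.conj_apply] at hk'
      have : k = h := by
        have := congrArg (fun x => g⁻¹ * x * g) hk'
        simpa [mul_assoc] using this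
      rw [← this]; exact hk
  have hgnot : g ∉ stabilizer G a := by
    intro h
    rw [mem_stabilizer_iff] at h
    exact hab (h.symm.trans hg)
  have hnorm : Subgroup.normalizer (stabilizer G a : Set G) = ⊤ := by
    rcases eq_or_lt_of_le (Subgroup.le_normalizer (H := stabilizer G a)) with h | h
    · exact absurd (h ▸ hgn) hgnot
    · exact hco.2 _ h
  have hN : (stabilizer G a).Normal := Subgroup.normalizer_eq_top_iff.mp hnorm
  rw [eq_bot_iff]
  intro h hh
  rw [Subgroup.mem_bot]
  apply FaithfulSMul.eq_of_smul_eq_smul (α := Ω)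
  intro c
  obtain ⟨k, hk⟩ := exists_smul_eq G a c
  have : k⁻¹ * h * k ∈ stabilizer G a := by
    have := hN.conj_mem h hh k⁻¹
    simpa using this
  rw [mem_stabilizer_iff] at this
  rw [one_smul, ← hk]
  have h2 := congrArg (fun x => k • x) this
  simpa [mul_smul] using h2

/-- Let a finite group G act faithfully and primitively on a set Ω, and suppose the stabilizer of a point a fixes a second point b ≠ a (a suborbit of length 1 other than {a}). Then the stabilizer of a is trivial and G is cyclic of prime order. -/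
theorem result {G Ω : Type*} [Group G] [Finite G] [MulAction G Ω] [FaithfulSMul G Ω] [Finite Ω]
    (hprim : MulAction.IsPreprimitive G Ω) (a b : Ω) (hab : a ≠ b) (hfix : ∀ g : G, g • a = a → g • b = b) :
    MulAction.stabilizer G a = ⊥ ∧ IsCyclic G ∧ (Nat.card G).Prime := by
  have h1 := stab_eq_bot hprim a b hab hfix
  have : Nontrivial Ω := ⟨⟨a, b, hab⟩⟩
  have hco : IsCoatom (MulAction.stabilizer G a) :=
    MulAction.IsPreprimitive.isCoatom_stabilizer_of_isPreprimitive G a
  rw [h1] at hco
  obtain ⟨g, hg⟩ := MulAction.exists_smul_eq G a b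
  have hg1 : g ≠ 1 := by
    rintro rfl
    rw [one_smul] at hg
    exact hab hg
  have key : ∀ x : G, x ≠ 1 → Subgroup.zpowers x = ⊤ := by
    intro x hx
    apply hco.2
    rw [bot_lt_iff_ne_bot]
    intro h
    exact hx (Subgroup.zpowers_eq_bot.mp h)
  have hcyc : IsCyclic G := ⟨⟨g, fun y => by
    have := key g hg1
    have hy : y ∈ Subgroup.zpowers g := by rw [this]; trivial
    exact hy⟩⟩
  refine ⟨h1, hcyc, ?_⟩
  have : Nontrivial G := ⟨⟨g, 1, hg1⟩⟩
  have hcard : 1 < Nat.card G := Finite.one_lt_card
  obtain ⟨p, hp, hpd⟩ := Nat.exists_prime_and_dvd (show Nat.card G ≠ 1 by omega)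
  have := Fact.mk hp
  obtain ⟨x, hx⟩ := exists_prime_orderOf_dvd_card' p hpd
  have hx1 : x ≠ 1 := by
    rintro rfl
    rw [orderOf_one] at hx
    exact hp.one_lt.ne hx
  have := key x hx1
  have hc : Nat.card (Subgroup.zpowers x) = Nat.card G := by
    rw [this]; exact Subgroup.card_top
  rw [Nat.card_zpowers, hx] at hc
  rw [← hc]; exact hp

end Cfsg.Agent.S3683
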