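import Cfsg.Statements.S3684
import Mathlib
import Cfsg.Agent.S0206

set_option autoImplicit false
open Cfsg

namespace Cfsg.Agent.S3684

open MulAction

theorem stab_order_two {G Ω : Type*} [Group G] [Finite G] [MulAction G Ω] [FaithfulSMul G Ω] [Finite Ω]
    (hprim : MulAction.IsPreprimitive G Ω) (a b : Ω) (h2 : Nat.card (MulAction.orbit (MulAction.stabilizer G a) b) = 2) :
    b ≠ a ∧ Nat.card (stabilizer G a) = 2 ∧ stabilizer G a ⊓ stabilizer G b = ⊥ := by
  have := hprim.toIsPretransitive
  have hba : b ≠ a := by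
    rintro rfl
    have : orbit (stabilizer G b) b = {b} := by
      ext x
      constructor
      · rintro ⟨g, rfl⟩
        exact g.2
      · rintro rfl
        exact mem_orbit_self _
    rw [this] at h2
    simp at h2
  refine ⟨hba, ?_⟩
  have : Nontrivial Ω := ⟨⟨b, a, hba⟩⟩
  have hcoatom : IsCoatom (stabilizer G a) := (isCoatom_stabilizer_iff_preprimitive G a).mpr hprim
  set H := stabilizer G a with hH
  set K := stabilizer G b with hK
  have hst : stabilizer H b = K.subgroupOf H := by
    ext g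
    simp only [mem_stabilizer_iff, Subgroup.mem_subgroupOf, hK]
    rfl
  have h1 : K.relIndex H = 2 := by
    rw [Subgroup.relIndex, ← hst, index_stabilizer, ← Nat.card_coe_set_eq]; exact h2
  have hHi : H.index = Nat.card Ω := index_stabilizer_of_transitive G a
  have hKi : K.index = Nat.card Ω := index_stabilizer_of_transitive G b
  have hΩ : Nat.card Ω ≠ 0 := Nat.card_pos.ne'
  have h3 : (H ⊓ K).relIndex H = 2 := by rw [Subgroup.inf_relIndex_left]; exact h1
  have h4 : (H ⊓ K).relIndex K = 2 := by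
    have e1 := Subgroup.relIndex_mul_index (inf_le_left : H ⊓ K ≤ H)
    have e2 := Subgroup.relIndex_mul_index (inf_le_right : H ⊓ K ≤ K)
    rw [h3, hHi] at e1
    rw [hKi, ← e1] at e2
    exact Nat.eq_of_mul_eq_mul_right (Nat.pos_of_ne_zero hΩ) e2
  have hn1 : ((H ⊓ K).subgroupOf H).Normal := Subgroup.normal_of_index_eq_two h3
  have hn2 : ((H ⊓ K).subgroupOf K).Normal := Subgroup.normal_of_index_eq_two h4
  have hle1 : H ≤ Subgroup.normalizer ((H ⊓ K : Subgroup G) : Set G) :=
    (Subgroup.normal_subgroupOf_iff_le_normalizer inf_le_left).mp hn1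
  have hle2 : K ≤ Subgroup.normalizer ((H ⊓ K : Subgroup G) : Set G) :=
    (Subgroup.normal_subgroupOf_iff_le_normalizer inf_le_right).mp hn2
  have hHK : ¬ K ≤ H := by
    intro hKH
    have e1 := Subgroup.relIndex_mul_index hKH
    rw [h1, hHi, hKi] at e1
    have : 0 < Nat.card Ω := Nat.pos_of_ne_zero hΩ
    nlinarith
  have hnorm : Subgroup.normalizer ((H ⊓ K : Subgroup G) : Set G) = ⊤ := by
    rcases hcoatom.le_iff.mp hle1 with h | h
    · exact h
    · exfalso; apply hHK; rw [← h]; exact hle2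
  have hnormal : (H ⊓ K).Normal := Subgroup.normalizer_eq_top_iff.mp hnorm
  have hbot : H ⊓ K = ⊥ := by
    rw [eq_bot_iff]
    intro l hl
    rw [Subgroup.mem_bot]
    apply FaithfulSMul.eq_of_smul_eq_smul (α := Ω)
    intro x
    obtain ⟨g, rfl⟩ := exists_smul_eq G a x
    have : g⁻¹ * l * g ∈ H ⊓ K := by
      have := hnormal.conj_mem l hl g⁻¹
      simpa using this
    have h5 : (g⁻¹ * l * g) • a = a := this.1
    rw [mul_smul, mul_smul, inv_smul_eq_iff] at h5
    rw [one_smul, h5]
  refine ⟨?_, hbot⟩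
  have := Subgroup.relIndex_bot_left H
  rw [← hbot, h3] at this
  exact this.symm


lemma mem_normalizer_zpowers {G : Type*} [Group G] {g z : G} (h : g * z * g⁻¹ = z⁻¹) :
    g ∈ Subgroup.normalizer ((Subgroup.zpowers z : Subgroup G) : Set G) := by
  have hinv : g * z⁻¹ * g⁻¹ = z := by
    have := congrArg (·⁻¹) h
    simpa [mul_assoc] using this
  have h' : g⁻¹ * z * g = z⁻¹ := by
    calc g⁻¹ * z * g = g⁻¹ * (g * z⁻¹ * g⁻¹) * g := by rw [hinv]
      _ = z⁻¹ := by group
  have key : ∀ (g : G), g * z * g⁻¹ = z⁻¹ → ∀ x ∈ Subgroup.zpowers z, g * x * g⁻¹ ∈ Subgroup.zpowers z := by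
    rintro g hg x ⟨i, rfl⟩
    refine ⟨-i, ?_⟩
    have : g * z ^ i * g⁻¹ = (g * z * g⁻¹) ^ i := by
      simp
    simp only [this, hg, inv_zpow', zpow_neg]
  rw [Subgroup.mem_normalizer_iff]
  intro x
  constructor
  · exact key g h x
  · intro hx
    have := key g⁻¹ (by simpa using h') _ hx
    simpa [mul_assoc] using this


/-- Let a finite group G act faithfully and primitively on a set Ω, and suppose the stabilizer of a point a has an orbit of length 2. Then the stabilizer of a has order 2 and G is isomorphic to the dihedral group of order 2p for some prime p. -/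
theorem result {G Ω : Type*} [Group G] [Finite G] [MulAction G Ω] [FaithfulSMul G Ω] [Finite Ω]
    (hprim : MulAction.IsPreprimitive G Ω) (a b : Ω) (h2 : Nat.card (MulAction.orbit (MulAction.stabilizer G a) b) = 2) :
    Nat.card (MulAction.stabilizer G a) = 2 ∧ ∃ p : ℕ, p.Prime ∧ Nonempty (G ≃* DihedralGroup p) := by
  obtain ⟨hba, hcard, hbot⟩ := stab_order_two hprim a b h2
  refine ⟨hcard, ?_⟩
  have := hprim.toIsPretransitive
  have : Nontrivial Ω := ⟨⟨b, a, hba⟩⟩
  have hcoatom : IsCoatom (stabilizer G a) := (isCoatom_stabilizer_iff_preprimitive G a).mpr hprim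
  obtain ⟨t, htH, ht1⟩ : ∃ t ∈ stabilizer G a, t ≠ 1 := by
    have : stabilizer G a ≠ ⊥ := by
      intro h; rw [h] at hcard; simp at hcard
    exact (Subgroup.ne_bot_iff_exists_ne_one.mp this).elim fun x hx =>
      ⟨x.1, x.2, fun h => hx (Subtype.ext h)⟩
  have hot : orderOf t = 2 := by
    have h1 : orderOf (⟨t, htH⟩ : stabilizer G a) ∣ 2 := hcard ▸ orderOf_dvd_natCard _
    rw [Subgroup.orderOf_mk] at h1
    rcases (Nat.dvd_prime Nat.prime_two).mp h1 with h | h
    · exact absurd (orderOf_eq_one_iff.mp h) ht1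
    · exact h
  obtain ⟨g, hg⟩ := exists_smul_eq G a b
  obtain ⟨s, hs⟩ : ∃ s, s = g * t * g⁻¹ := ⟨_, rfl⟩
  have hsK : s ∈ stabilizer G b := by
    rw [mem_stabilizer_iff, hs, mul_smul, mul_smul, ← hg, inv_smul_smul, mem_stabilizer_iff.mp htH]
  have hos : orderOf s = 2 := by
    rw [hs, ← MulAut.conj_apply, MulEquiv.orderOf_eq]; exact hot
  have hsH : s ∉ stabilizer G a := by
    intro h
    have : s ∈ stabilizer G a ⊓ stabilizer G b := ⟨h, hsK⟩
    rw [hbot, Subgroup.mem_bot] at this
    rw [this, orderOf_one] at hos; omega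
  have hts : t ≠ s := fun h => hsH (h ▸ htH)
  have hHz : stabilizer G a = Subgroup.zpowers t := by
    symm
    apply Subgroup.eq_of_le_of_card_ge (Subgroup.zpowers_le.mpr htH)
    rw [Nat.card_zpowers, hot, hcard]
  have hclos : Subgroup.closure ({t, s} : Set G) = ⊤ := by
    have hle : stabilizer G a ≤ Subgroup.closure ({t, s} : Set G) := by
      rw [hHz, Subgroup.zpowers_le]
      exact Subgroup.subset_closure (by simp)
    rcases hcoatom.le_iff.mp hle with h | h
    · exact h
    · exfalso; apply hsH; rw [← h]; exact Subgroup.subset_closure (by simp)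
  obtain ⟨e⟩ := Cfsg.Agent.S0206.result t s hot hos hts
  have E : G ≃* DihedralGroup (orderOf (t * s)) :=
    (Subgroup.topEquiv.symm.trans (MulEquiv.subgroupCongr hclos.symm)).trans e
  refine ⟨orderOf (t * s), ?_, ⟨E⟩⟩
  set ρ := t * s with hρ
  set k := orderOf ρ with hk
  have hk0 : 0 < k := orderOf_pos ρ
  have hG : Nat.card G = 2 * k := by
    rw [Nat.card_congr E.toEquiv, DihedralGroup.nat_card]
  have hΩ : Nat.card Ω = k := by
    have h1 := Subgroup.card_mul_index (stabilizer G a)
    rw [hcard, index_stabilizer_of_transitive G a, hG] at h1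
    omega
  have hk1 : k ≠ 1 := by
    intro h
    have : ρ = 1 := orderOf_eq_one_iff.mp h
    apply hts
    have ht2 : t * t = 1 := by rw [← pow_two, ← hot, pow_orderOf_eq_one]
    rw [hρ] at this
    calc t = t * (t * s) := by rw [this, mul_one]
      _ = s := by rw [← mul_assoc, ht2, one_mul]
  -- conjugation by t and s inverts ρ
  have ht2 : t * t = 1 := by rw [← pow_two, ← hot, pow_orderOf_eq_one]
  have hs2 : s * s = 1 := by rw [← pow_two, ← hos, pow_orderOf_eq_one]
  have htinv : t⁻¹ = t := inv_eq_of_mul_eq_one_left ht2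
  have hsinv : s⁻¹ = s := inv_eq_of_mul_eq_one_left hs2
  have hρinv : ρ⁻¹ = s * t := by rw [hρ, mul_inv_rev, htinv, hsinv]
  have hconj_t : t * ρ * t⁻¹ = ρ⁻¹ := by
    rw [hρinv, htinv, hρ, ← mul_assoc, ht2, one_mul]
  have hconj_s : s * ρ * s⁻¹ = ρ⁻¹ := by
    rw [hρinv, hρ]; group
  set p := k.minFac with hp
  have hpp : p.Prime := Nat.minFac_prime hk1
  have hpk : p ∣ k := Nat.minFac_dvd k
  set Z := Subgroup.zpowers (ρ ^ p) with hZ
  have hZn : Z.Normal := by
    rw [← Subgroup.normalizer_eq_top_iff, eq_top_iff, ← hclos, Subgroup.closure_le]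
    intro x hx
    have hxp : ∀ x : G, x * ρ * x⁻¹ = ρ⁻¹ → x * ρ ^ p * x⁻¹ = (ρ ^ p)⁻¹ := by
      intro x hx
      have : x * ρ ^ p * x⁻¹ = (x * ρ * x⁻¹) ^ p := by
        simp
      rw [this, hx, inv_pow]
    rcases hx with rfl | rfl
    · exact mem_normalizer_zpowers (hxp _ hconj_t)
    · exact mem_normalizer_zpowers (hxp _ hconj_s)
  have hZcard : Nat.card Z = k / p := by
    rw [hZ, Nat.card_zpowers, orderOf_pow, ← hk, Nat.gcd_eq_right hpk]
  have hfix : fixedPoints Z Ω = Set.univ := by
    by_contra hne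
    have htrans : IsPretransitive Z Ω := IsQuasiPreprimitive.isPretransitive_of_normal hne
    have hsurj : Function.Surjective (fun z : Z => z • a) := fun x => exists_smul_eq Z a x
    have hle := Nat.card_le_card_of_surjective _ hsurj
    rw [hΩ, hZcard] at hle
    have : k / p < k := Nat.div_lt_self hk0 hpp.one_lt
    omega
  have hρp : ρ ^ p = 1 := by
    apply FaithfulSMul.eq_of_smul_eq_smul (α := Ω)
    intro x
    have hx : x ∈ fixedPoints Z Ω := hfix ▸ Set.mem_univ x
    have := hx ⟨ρ ^ p, Subgroup.mem_zpowers _⟩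
    rw [one_smul]; exact this
  have hkp : k ∣ p := orderOf_dvd_of_pow_eq_one hρp
  rcases (Nat.dvd_prime hpp).mp hkp with h | h
  · exact absurd h hk1
  · rw [h]; exact hpp

end Cfsg.Agent.S3684
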