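import Cfsg.Statements.S3685
import Mathlib
import Cfsg.Agent.S3385
import Cfsg.Agent.Lib.Helper61.SimsStruct
-- import your own Cfsg.Agent.* helpers here

set_option autoImplicit false
open Cfsg

namespace Cfsg.Agent.S3685

open Cfsg.Agent.Helper61.SimsReg Cfsg.Agent.Helper61.SimsStruct Cfsg.Agent.Helper61.SimsTools

/-- Let a finite group G act faithfully and primitively on a set Ω, and suppose the stabilizer of a point a has an orbit of length 3. Then the stabilizer of a is isomorphic to one of: the cyclic group of order 3, the symmetric group of degree 3, the dihedral group of order 12, the symmetric group of degree 4, or the direct product of the symmetric group of degree 4 with a group of order 2. -/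
theorem result {G Ω : Type*} [Group G] [Finite G] [MulAction G Ω] [FaithfulSMul G Ω] [Finite Ω]
    (hprim : MulAction.IsPreprimitive G Ω) (a b : Ω) (h3 : Nat.card (MulAction.orbit (MulAction.stabilizer G a) b) = 3) :
    Nonempty (MulAction.stabilizer G a ≃* Multiplicative (ZMod 3)) ∨ Nonempty (MulAction.stabilizer G a ≃* Equiv.Perm (Fin 3)) ∨
      Nonempty (MulAction.stabilizer G a ≃* DihedralGroup 6) ∨ Nonempty (MulAction.stabilizer G a ≃* Equiv.Perm (Fin 4)) ∨
      Nonempty (MulAction.stabilizer G a ≃* Equiv.Perm (Fin 4) × Multiplicative (ZMod 2)) := by
  obtain ⟨hM, hcore, g, hN, hcard⟩ := Cfsg.Agent.S3385.setup hprim a b h3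
  rcases sims_reg hM hcore g hN hcard with h | ⟨y, s, hs2, hs5, hreg⟩
  · left; exact nonempty_mulEquiv_zmod_three h
  · interval_cases s
    · right; left; exact case_two hreg
    · right; right; left; exact case_three hreg
    · right; right; right; left; exact case_four hreg
    · right; right; right; right; exact case_five hreg

end Cfsg.Agent.S3685
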