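import Cfsg.Statements.S3696
import Mathlib

set_option autoImplicit false
set_option linter.unusedSectionVars false
set_option linter.unusedVariables false
open Cfsg

namespace Cfsg.Agent.S3696

lemma amgm2 (x y a b : ℕ) : x ^ a * y ^ b * (a + b) ^ (a + b) ≤ (x + y) ^ (a + b) * a ^ a * b ^ b := by
  rcases Nat.eq_zero_or_pos a with rfl | ha
  · simp only [pow_zero, one_mul, zero_add, mul_one]
    exact Nat.mul_le_mul_right _ (Nat.pow_le_pow_left (Nat.le_add_left y x) b)
  rcases Nat.eq_zero_or_pos b with rfl | hb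
  · simp only [pow_zero, mul_one, add_zero]
    exact Nat.mul_le_mul_right _ (Nat.pow_le_pow_left (Nat.le_add_right x y) a)
  have haR : (0 : ℝ) < a := by exact_mod_cast ha
  have hbR : (0 : ℝ) < b := by exact_mod_cast hb
  have hK : (0 : ℝ) < (a : ℝ) + b := by positivity
  have key : ((x : ℝ) / a) ^ a * ((y : ℝ) / b) ^ b ≤ (((x : ℝ) + y) / (a + b)) ^ (a + b) := by
    have h1 := Real.geom_mean_le_arith_mean2_weighted (w₁ := (a : ℝ) / (a + b))
      (w₂ := (b : ℝ) / (a + b)) (p₁ := (x : ℝ) / a) (p₂ := (y : ℝ) / b)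
      (by positivity) (by positivity) (by positivity) (by positivity) (by field_simp)
    have h2 : (a : ℝ) / (a + b) * ((x : ℝ) / a) + (b : ℝ) / (a + b) * ((y : ℝ) / b)
        = ((x : ℝ) + y) / (a + b) := by field_simp
    rw [h2] at h1
    have h3 := pow_le_pow_left₀ (by positivity) h1 (a + b)
    have e1 : (((x : ℝ) / a) ^ ((a : ℝ) / (a + b))) ^ (a + b) = ((x : ℝ) / a) ^ a := by
      rw [← Real.rpow_natCast, ← Real.rpow_mul (by positivity)]
      have : (a : ℝ) / (a + b) * ((a + b : ℕ) : ℝ) = (a : ℝ) := by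
        push_cast; field_simp
      rw [this, Real.rpow_natCast]
    have e2 : (((y : ℝ) / b) ^ ((b : ℝ) / (a + b))) ^ (a + b) = ((y : ℝ) / b) ^ b := by
      rw [← Real.rpow_natCast, ← Real.rpow_mul (by positivity)]
      have : (b : ℝ) / (a + b) * ((a + b : ℕ) : ℝ) = (b : ℝ) := by
        push_cast; field_simp
      rw [this, Real.rpow_natCast]
    rw [mul_pow, e1, e2] at h3
    exact h3
  rw [div_pow, div_pow, div_pow, div_mul_div_comm, div_le_div_iff₀ (by positivity) (by positivity)] at key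
  have : ((x ^ a * y ^ b * (a + b) ^ (a + b) : ℕ) : ℝ) ≤ (((x + y) ^ (a + b) * a ^ a * b ^ b : ℕ) : ℝ) := by
    push_cast
    nlinarith [key]
  exact_mod_cast this

lemma pow_self_le (d m : ℕ) (hd : 1 ≤ d) (hm : 2 ^ d ≤ m) : m * d ^ d ≤ m ^ d := by
  obtain ⟨e, rfl⟩ : ∃ e, d = e + 1 := ⟨d - 1, by omega⟩
  have h1 : e + 1 ≤ 2 ^ e := Nat.lt_two_pow_self
  have h2 : (e + 1) ^ (e + 1) ≤ m ^ e := by
    calc (e + 1) ^ (e + 1) ≤ (2 ^ e) ^ (e + 1) := Nat.pow_le_pow_left h1 _
      _ = (2 ^ (e + 1)) ^ e := by rw [← pow_mul, ← pow_mul, mul_comm]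
      _ ≤ m ^ e := Nat.pow_le_pow_left hm _
  calc m * (e + 1) ^ (e + 1) ≤ m * m ^ e := Nat.mul_le_mul_left _ h2
    _ = m ^ (e + 1) := by rw [pow_succ, mul_comm]

lemma arith_step (β m n' k' d : ℕ) (hd : 1 ≤ d) (hm : 2 ^ d ≤ m) (hβ : β * k' ^ k' ≤ n' ^ k') :
    β * m * (k' + d) ^ (k' + d) ≤ (n' + m) ^ (k' + d) := by
  have h1 := pow_self_le d m hd hm
  have h2 := amgm2 n' m k' d
  have hpos : 0 < k' ^ k' * d ^ d := Nat.mul_pos Nat.pow_self_pos Nat.pow_self_pos
  apply Nat.le_of_mul_le_mul_right _ hpos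
  calc β * m * (k' + d) ^ (k' + d) * (k' ^ k' * d ^ d)
      = (β * k' ^ k') * (m * d ^ d) * (k' + d) ^ (k' + d) := by ring
    _ ≤ n' ^ k' * m ^ d * (k' + d) ^ (k' + d) := by gcongr
    _ ≤ (n' + m) ^ (k' + d) * k' ^ k' * d ^ d := h2
    _ = (n' + m) ^ (k' + d) * (k' ^ k' * d ^ d) := by ring


open MulAction

variable {Ω : Type*} [Fintype Ω] [DecidableEq Ω]

/-- the elements of `A` of order dividing `p`. -/
def T (p : ℕ) (A : Subgroup (Equiv.Perm Ω)) : Set (Equiv.Perm Ω) := {g | g ∈ A ∧ g ^ p = 1}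

lemma card_T (p : ℕ) (A : Subgroup (Equiv.Perm Ω)) :
    Nat.card {x : A // x ^ p = 1} = (T p A).ncard := by
  rw [← Nat.card_coe_set_eq]
  apply Nat.card_congr
  refine ⟨fun x => ⟨x.1.1, x.1.2, by have := congrArg Subtype.val x.2; simpa using this⟩,
    fun g => ⟨⟨g.1, g.2.1⟩, Subtype.ext (by simpa using g.2.2)⟩, ?_, ?_⟩
  · intro x; rfl
  · intro g; rfl

/-- `T p A` as a subgroup when `A` is commutative. -/
def W (p : ℕ) (A : Subgroup (Equiv.Perm Ω)) (hc : ∀ a ∈ A, ∀ b ∈ A, a * b = b * a) :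
    Subgroup (Equiv.Perm Ω) where
  carrier := T p A
  mul_mem' := by
    rintro a b ⟨ha, ha'⟩ ⟨hb, hb'⟩
    exact ⟨A.mul_mem ha hb, by rw [(show Commute a b from hc a ha b hb).mul_pow, ha', hb', one_mul]⟩
  one_mem' := ⟨A.one_mem, one_pow _⟩
  inv_mem' := by
    rintro a ⟨ha, ha'⟩
    exact ⟨A.inv_mem ha, by rw [inv_pow, ha', inv_one]⟩

lemma W_le (p : ℕ) (A : Subgroup (Equiv.Perm Ω)) (hc : ∀ a ∈ A, ∀ b ∈ A, a * b = b * a) :
    W p A hc ≤ A := fun _ hg => hg.1

lemma card_W (p : ℕ) (A : Subgroup (Equiv.Perm Ω)) (hc : ∀ a ∈ A, ∀ b ∈ A, a * b = b * a) :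
    Nat.card (W p A hc) = (T p A).ncard := Nat.card_coe_set_eq (T p A)

lemma exists_rank (p : ℕ) [Fact p.Prime] (A : Subgroup (Equiv.Perm Ω)) (hA : IsPGroup p A)
    (hc : ∀ a ∈ A, ∀ b ∈ A, a * b = b * a) : ∃ k, (T p A).ncard = p ^ k := by
  have h1 : IsPGroup p (W p A hc) := hA.to_le (W_le p A hc)
  obtain ⟨k, hk⟩ := IsPGroup.iff_card.mp h1
  exact ⟨k, by rw [← card_W p A hc, hk]⟩

/-- orbit-stabilizer for a subgroup of `Perm Ω`. -/
lemma orbit_stab (A : Subgroup (Equiv.Perm Ω)) (x : Ω) :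
    Nat.card A = Nat.card (A ⊓ stabilizer (Equiv.Perm Ω) x : Subgroup (Equiv.Perm Ω)) *
      Set.ncard {y | ∃ a ∈ A, a x = y} := by
  rw [← Subgroup.card_mul_index (stabilizer A x), index_stabilizer]
  congr 1
  · apply Nat.card_congr
    refine ⟨fun g => ⟨g.1.1, g.1.2, g.2⟩, fun g => ⟨⟨g.1, g.2.1⟩, g.2.2⟩, ?_, ?_⟩
    · intro g; rfl
    · intro g; rfl
  · congr 1
    ext y
    constructor
    · rintro ⟨a, rfl⟩
      exact ⟨a.1, a.2, rfl⟩
    · rintro ⟨a, ha, rfl⟩
      exact ⟨⟨a, ha⟩, rfl⟩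


theorem key (p : ℕ) [hp : Fact p.Prime] : ∀ (N : ℕ) (A : Subgroup (Equiv.Perm Ω)) (S : Finset Ω),
    Nat.card A = N → IsPGroup p A → (∀ a ∈ A, ∀ b ∈ A, a * b = b * a) →
    (∀ a ∈ A, ∀ x ∈ S, a x ∈ S) → (∀ a ∈ A, (∀ x ∈ S, a x = x) → a = 1) →
    ∀ k, (T p A).ncard = p ^ k → Nat.card A * k ^ k ≤ S.card ^ k := by
  classical
  intro N
  induction N using Nat.strong_induction_on with
  | _ N ih =>
  intro A S hN hA hc hinv hfaith k hk
  by_cases hbot : A = ⊥
  · subst hbot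
    have h1 : T p (⊥ : Subgroup (Equiv.Perm Ω)) = {1} := by
      ext g
      simp only [T, Subgroup.mem_bot, Set.mem_ofPred_eq, Set.mem_singleton_iff]
      constructor
      · exact fun h => h.1
      · rintro rfl; exact ⟨rfl, one_pow _⟩
    rw [h1, Set.ncard_singleton] at hk
    have hk0 : k = 0 := by
      by_contra hne
      have : 1 < p ^ k := Nat.one_lt_pow hne hp.out.one_lt
      omega
    subst hk0
    simp
  · -- an element of order p
    obtain ⟨v, hvA, hv1, hvp⟩ : ∃ v ∈ A, v ≠ 1 ∧ v ^ p = 1 := by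
      have hnt : Nontrivial A := (Subgroup.nontrivial_iff_ne_bot A).mpr hbot
      obtain ⟨n, hn⟩ := IsPGroup.iff_card.mp hA
      have hn0 : n ≠ 0 := by
        rintro rfl
        rw [pow_zero] at hn
        have := Finite.one_lt_card_iff_nontrivial.mpr hnt
        omega
      have hdvd : p ∣ Nat.card A := by rw [hn]; exact dvd_pow_self p hn0
      obtain ⟨g, hg⟩ := exists_prime_orderOf_dvd_card' p hdvd
      refine ⟨g.1, g.2, ?_, ?_⟩
      · intro h1
        have : g = 1 := Subtype.ext h1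
        rw [this, orderOf_one] at hg
        exact hp.out.one_lt.ne hg
      · have := pow_orderOf_eq_one g
        rw [hg] at this
        have := congrArg Subtype.val this
        simpa using this
    obtain ⟨x, hxS, hvx⟩ : ∃ x ∈ S, v x ≠ x := by
      by_contra h
      push Not at h
      exact hv1 (hfaith v hvA h)
    obtain ⟨B, hB⟩ : ∃ B : Subgroup (Equiv.Perm Ω), B = A ⊓ stabilizer (Equiv.Perm Ω) x := ⟨_, rfl⟩
    have hBA : B ≤ A := hB ▸ inf_le_left
    have hBx : ∀ b ∈ B, b x = x := by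
      intro b hb; rw [hB] at hb; exact hb.2
    obtain ⟨O, hO⟩ : ∃ O : Finset Ω, O = Finset.univ.filter (fun y => ∃ a ∈ A, a x = y) := ⟨_, rfl⟩
    have hOmem : ∀ y, y ∈ O ↔ ∃ a ∈ A, a x = y := by
      intro y; rw [hO]; simp
    have hOS : O ⊆ S := by
      intro y hy
      obtain ⟨a, ha, rfl⟩ := (hOmem y).mp hy
      exact hinv a ha x hxS
    have hOcard : Set.ncard {y | ∃ a ∈ A, a x = y} = O.card := by
      rw [← Set.ncard_coe_finset]
      congr 1
      ext y
      simp [hOmem]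
    have hAB : Nat.card A = Nat.card B * O.card := by
      rw [hB, ← hOcard]; exact orbit_stab A x
    -- properties of B
    have hBp : IsPGroup p B := hA.to_le hBA
    have hBc : ∀ a ∈ B, ∀ b ∈ B, a * b = b * a := fun a ha b hb => hc a (hBA ha) b (hBA hb)
    have hBinv : ∀ b ∈ B, ∀ y ∈ S \ O, b y ∈ S \ O := by
      intro b hb y hy
      rw [Finset.mem_sdiff] at hy ⊢
      refine ⟨hinv b (hBA hb) y hy.1, ?_⟩
      intro hby
      apply hy.2
      obtain ⟨a, ha, hax⟩ := (hOmem _).mp hby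
      rw [hOmem]
      refine ⟨b⁻¹ * a, A.mul_mem (A.inv_mem (hBA hb)) ha, ?_⟩
      rw [Equiv.Perm.mul_apply, hax]; simp
    have hBfaith : ∀ b ∈ B, (∀ y ∈ S \ O, b y = y) → b = 1 := by
      intro b hb hfix
      apply hfaith b (hBA hb)
      intro y hyS
      by_cases hyO : y ∈ O
      · obtain ⟨a, ha, rfl⟩ := (hOmem y).mp hyO
        have h1 : b * a = a * b := hc b (hBA hb) a ha
        calc b (a x) = (b * a) x := rfl
          _ = (a * b) x := by rw [h1]
          _ = a (b x) := rfl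
          _ = a x := by rw [hBx b hb]
      · exact hfix y (Finset.mem_sdiff.mpr ⟨hyS, hyO⟩)
    obtain ⟨k', hk'⟩ := exists_rank p B hBp hBc
    -- T p B = T p A ∩ stabilizer
    have hTB : T p B = T p A ∩ {g | g x = x} := by
      ext g
      simp only [T, Set.mem_ofPred_eq, Set.mem_inter_iff, hB, Subgroup.mem_inf, mem_stabilizer_iff,
        Equiv.Perm.smul_def]
      tauto
    have hvTA : v ∈ T p A := ⟨hvA, hvp⟩
    have hvTB : v ∉ T p B := by rw [hTB]; exact fun h => hvx h.2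
    have hklt : k' < k := by
      have hss : T p B ⊂ T p A := by
        refine ⟨by rw [hTB]; exact Set.inter_subset_left, fun h => hvTB (h hvTA)⟩
      have := Set.ncard_lt_ncard hss (Set.toFinite _)
      rw [hk', hk] at this
      exact (Nat.pow_lt_pow_iff_right hp.out.one_lt).mp this
    obtain ⟨d, hd⟩ : ∃ d, k = k' + d := ⟨k - k', by omega⟩
    have hd1 : 1 ≤ d := by omega
    -- |O| ≥ p^d via the subgroup W
    have hOge : p ^ d ≤ O.card := by
      have h1 := orbit_stab (W p A hc) x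
      have h2 : Nat.card (W p A hc ⊓ stabilizer (Equiv.Perm Ω) x : Subgroup (Equiv.Perm Ω)) = p ^ k' := by
        rw [← hk', ← Nat.card_coe_set_eq]
        apply Nat.card_congr
        have hTBmem : ∀ g : Equiv.Perm Ω, g ∈ T p B ↔ (g ∈ T p A ∧ g x = x) := by
          intro g; rw [hTB]; rfl
        refine ⟨fun g => ⟨g.1, (hTBmem g.1).mpr ⟨g.2.1, g.2.2⟩⟩,
          fun g => ⟨g.1, ((hTBmem g.1).mp g.2).1, ((hTBmem g.1).mp g.2).2⟩, ?_, ?_⟩
        · intro g; rfl
        · intro g; rfl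
      have h3 : Set.ncard {y | ∃ a ∈ W p A hc, a x = y} ≤ O.card := by
        rw [← hOcard]
        apply Set.ncard_le_ncard _ (Set.toFinite _)
        rintro y ⟨a, ha, rfl⟩
        exact ⟨a, W_le p A hc ha, rfl⟩
      rw [card_W, hk, h2, hd, pow_add] at h1
      have h4 : 0 < p ^ k' := pow_pos hp.out.pos _
      have h5 : p ^ d = Set.ncard {y | ∃ a ∈ W p A hc, a x = y} :=
        Nat.eq_of_mul_eq_mul_left h4 h1
      rw [h5]; exact h3
    have h2d : 2 ^ d ≤ O.card :=
      le_trans (Nat.pow_le_pow_left hp.out.two_le d) hOge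
    have hScard : (S \ O).card + O.card = S.card := Finset.card_sdiff_add_card_eq_card hOS
    have hBlt : Nat.card B < N := by
      have hO2 : 2 ≤ O.card := le_trans (by
        calc 2 = 2 ^ 1 := by norm_num
          _ ≤ 2 ^ d := Nat.pow_le_pow_right (by norm_num) hd1) h2d
      have hBpos : 0 < Nat.card B := Nat.card_pos
      rw [← hN, hAB]
      nlinarith
    have hIH := ih (Nat.card B) hBlt B (S \ O) rfl hBp hBc hBinv hBfaith k' hk'
    have := arith_step (Nat.card B) O.card (S \ O).card k' d hd1 h2d hIH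
    rw [hAB, hd, ← hScard]
    exact this


/-- Let p be a prime, Ω a finite set with n ≥ p elements, and A an abelian p-subgroup of the symmetric group on Ω whose elements of order dividing p number p^k (so k is the rank of A). Then |A| · k^k ≤ n^k, that is, |A| ≤ (n/k)^k. -/
theorem result {Ω : Type*} [Fintype Ω] [DecidableEq Ω]
    (p : ℕ) (hp : p.Prime) (hn : p ≤ Fintype.card Ω) (A : Subgroup (Equiv.Perm Ω)) (hA : IsPGroup p A) (hab : IsMulCommutative A)
    (k : ℕ) (hk : Nat.card {x : A // x ^ p = 1} = p ^ k) :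
    Nat.card A * k ^ k ≤ Fintype.card Ω ^ k := by
  have : Fact p.Prime := ⟨hp⟩
  have hc : ∀ a ∈ A, ∀ b ∈ A, a * b = b * a := by
    intro a ha b hb
    have h1 : (⟨a, ha⟩ : A) * ⟨b, hb⟩ = ⟨b, hb⟩ * ⟨a, ha⟩ := hab.is_comm.comm _ _
    exact congrArg Subtype.val h1
  have h2 := key p (Nat.card A) A Finset.univ rfl hA hc (fun _ _ _ _ => Finset.mem_univ _)
    (fun a _ h => Equiv.ext (fun x => h x (Finset.mem_univ x))) k (by rw [← card_T]; exact hk)
  rwa [Finset.card_univ] at h2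

end Cfsg.Agent.S3696
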