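import Cfsg.Statements.S3703
import Mathlib
import Cfsg.Agent.Lib.Helper61.Mazurov

set_option autoImplicit false
open Cfsg

namespace Cfsg.Agent.S3703

open Cfsg.Agent.Helper61.Mazurov Cfsg.Agent.Helper52

/-- Let N be a normal subgroup of the finite group G such that G/N is a Frobenius group with kernel F and cyclic complement H, where the order of F is coprime to that of N and F is not contained in the image of C_G(N) in G/N. Then G has an element of order p·#H for some prime p dividing the order of N. (A standard tool in recognising groups by their element orders.) -/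
theorem result {G : Type*} [Group G] [Finite G] (N : Subgroup G) [N.Normal]
    (Fb Hb : Subgroup (G ⧸ N)) [Fb.Normal] (hHb : Cfsg.IsFrobeniusComplement Hb) (hker : Cfsg.frobeniusKernel Hb = (Fb : Set (G ⧸ N)))
    (hcyc : IsCyclic Hb) (hcop : (Nat.card Fb).Coprime (Nat.card N))
    (hnot : ¬ Fb ≤ (Subgroup.centralizer (N : Set G)).map (QuotientGroup.mk' N)) :
    ∃ p : ℕ, p.Prime ∧ p ∣ Nat.card N ∧ ∃ g : G, orderOf g = p * Nat.card Hb := by
  classical
  obtain ⟨π, hπ⟩ : ∃ π : G →* G ⧸ N, π = QuotientGroup.mk' N := ⟨_, rfl⟩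
  have hπs : Function.Surjective π := hπ ▸ QuotientGroup.mk'_surjective N
  have hπker : ∀ g : G, π g = 1 ↔ g ∈ N := by
    intro g; rw [hπ, QuotientGroup.mk'_apply, QuotientGroup.eq_one_iff]
  obtain ⟨h, hh⟩ : ∃ h, h = Nat.card Hb := ⟨_, rfl⟩
  have hh0 : 0 < h := hh ▸ Nat.card_pos
  -- generator of Hb
  obtain ⟨c', hc'⟩ := hcyc.exists_generator
  obtain ⟨c, hc⟩ : ∃ c : G ⧸ N, c = c' := ⟨_, rfl⟩
  have hcH : c ∈ Hb := hc ▸ c'.2
  have hcgen : ∀ x ∈ Hb, x ∈ Subgroup.zpowers c := by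
    intro x hx
    obtain ⟨i, hi⟩ := hc' ⟨x, hx⟩
    refine ⟨i, ?_⟩
    have := congrArg Subtype.val hi
    simpa [hc] using this
  -- Step 1: an element of prime power order in Fb outside D
  obtain ⟨y₀, hy₀F, hy₀D⟩ := SetLike.not_le_iff_exists.mp hnot
  obtain ⟨i, hiD, r, k, hr, hk, hord⟩ :=
    exists_prime_pow_order_notMem ((Subgroup.centralizer (N : Set G)).map (QuotientGroup.mk' N))
      _ y₀ rfl hy₀D
  obtain ⟨y₁, hy₁⟩ : ∃ y₁, y₁ = y₀ ^ i := ⟨_, rfl⟩
  rw [← hy₁] at hiD hord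
  have hy₁F : y₁ ∈ Fb := hy₁ ▸ Fb.pow_mem hy₀F i
  have hrF : r ∣ Nat.card Fb := by
    have h1 : orderOf y₁ ∣ Nat.card Fb := by
      have := orderOf_dvd_natCard (⟨y₁, hy₁F⟩ : Fb)
      rwa [Subgroup.orderOf_mk] at this
    exact dvd_trans (dvd_pow_self r hk.ne') (hord ▸ h1)
  have hrN : Nat.Coprime r (Nat.card N) := Nat.Coprime.coprime_dvd_left hrF hcop
  obtain ⟨g₂, hg₂π, hg₂pow⟩ := exists_lift_pgroup N y₁ r k hr hk hord hrN
  rw [← hπ] at hg₂π hiD
  have hg₂C : g₂ ∉ Subgroup.centralizer (N : Set G) := fun hcen => hiD ⟨g₂, hcen, hg₂π⟩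
  -- the preimage of Fb
  obtain ⟨Fh, hFh⟩ : ∃ Fh : Subgroup G, Fh = Fb.comap π := ⟨_, rfl⟩
  have hFhmem : ∀ g : G, g ∈ Fh ↔ π g ∈ Fb := by intro g; rw [hFh]; rfl
  have hFhn : Fh.Normal := hFh ▸ Subgroup.Normal.comap inferInstance π
  have hNFh : N ≤ Fh := by
    intro g hg
    rw [hFhmem, (hπker g).mpr hg]; exact Fb.one_mem
  have hg₂F : g₂ ∈ Fh := by rw [hFhmem, hg₂π]; exact hy₁F
  have : Fact r.Prime := ⟨hr⟩
  have hpg : IsPGroup r (Subgroup.zpowers (⟨g₂, hg₂F⟩ : Fh)) := by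
    have h1 : orderOf (⟨g₂, hg₂F⟩ : Fh) ∣ r ^ k := by
      rw [Subgroup.orderOf_mk]; exact orderOf_dvd_of_pow_eq_one hg₂pow
    obtain ⟨j, -, hj⟩ := (Nat.dvd_prime_pow hr).mp h1
    exact IsPGroup.of_card (n := j) (by rw [Nat.card_zpowers, hj])
  obtain ⟨P, hP⟩ := hpg.exists_le_sylow
  obtain ⟨R, hR⟩ : ∃ R : Subgroup G, R = (P : Subgroup Fh).map Fh.subtype := ⟨_, rfl⟩
  have hg₂R : g₂ ∈ R := by
    rw [hR]
    exact ⟨⟨g₂, hg₂F⟩, hP (Subgroup.mem_zpowers _), rfl⟩
  have hRFh : R ≤ Fh := by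
    rw [hR]; rintro _ ⟨x, -, rfl⟩; exact x.2
  have hRp : IsPGroup r R := by
    rw [hR]; exact P.2.map _
  have hRcop : (Nat.card R).Coprime (Nat.card N) := by
    obtain ⟨j, hj⟩ := hRp.exists_card_eq
    rw [hj]; exact hrN.pow_left j
  have hFrat : Subgroup.normalizer (R : Set G) ⊔ Fh = ⊤ := by
    rw [hR]; exact Sylow.normalizer_sup_eq_top P
  have hRnotC : ¬ R ≤ Subgroup.centralizer (N : Set G) := fun hle => hg₂C (hle hg₂R)
  have hRN : R ≤ Subgroup.normalizer (N : Set G) := by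
    rw [Subgroup.normalizer_eq_top]; exact le_top
  have hRsolv : Group.IsSolvable R := by
    have := hRp.isNilpotent
    infer_instance
  -- Step 2: an R-invariant Sylow subgroup of N which R does not centralize
  have hstep2 : ∃ (s : ℕ) (_ : Fact s.Prime) (S : Subgroup G), S ≤ N ∧ Nat.card S = sylCard s N ∧
      R ≤ Subgroup.normalizer (S : Set G) ∧ ¬ S ≤ Subgroup.centralizer (R : Set G) := by
    by_contra hall
    push Not at hall
    apply hRnotC
    have hC : N ⊓ Subgroup.centralizer (R : Set G) = N := by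
      apply Subgroup.eq_of_le_of_card_ge inf_le_left
      apply Nat.le_of_dvd Nat.card_pos
      rw [← Nat.factorization_prime_le_iff_dvd Nat.card_pos.ne' Nat.card_pos.ne']
      intro s hs
      have : Fact s.Prime := ⟨hs⟩
      obtain ⟨S, hSN, hScard, hSR⟩ := exists_invariant_sylow R N hRN hRcop (Or.inl hRsolv) s
      have hSC := hall s ⟨hs⟩ S hSN hScard hSR
      have h1 : Nat.card S ∣ Nat.card (N ⊓ Subgroup.centralizer (R : Set G) : Subgroup G) :=
        Subgroup.card_dvd_of_le (le_inf hSN hSC)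
      rw [hScard, sylCard] at h1
      exact (hs.pow_dvd_iff_le_factorization Nat.card_pos.ne').mp h1
    intro x hx
    rw [Subgroup.mem_centralizer_iff]
    intro a ha
    have h1 : a ∈ N ⊓ Subgroup.centralizer (R : Set G) := by rw [hC]; exact ha
    exact ((Subgroup.mem_centralizer_iff.mp h1.2) x hx).symm
  obtain ⟨s, hsF, S, hSN, hScard, hRS, hSnotC⟩ := hstep2
  -- Step 3: a lift of (a conjugate of) the generator normalizing both R and S
  obtain ⟨c₀, hc₀⟩ := hπs c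
  have hc₀mem : c₀ ∈ Subgroup.normalizer (R : Set G) ⊔ Fh := by rw [hFrat]; trivial
  obtain ⟨c₁, hc₁R, f₁, hf₁, hcf⟩ := Subgroup.mem_sup_of_normal_right.mp hc₀mem
  have hc₁R' := Subgroup.mem_normalizer_iff.mp hc₁R
  obtain ⟨S', hS'⟩ : ∃ S' : Subgroup G, S' = S.map (MulAut.conj c₁).toMonoidHom := ⟨_, rfl⟩
  have hS'mem : ∀ t : G, t ∈ S' ↔ c₁⁻¹ * t * c₁ ∈ S := by
    intro t; rw [hS']; exact mem_map_conj
  have hS'N : S' ≤ N := by
    rw [hS']
    exact map_conj_le_of_le_normalizer hSN (by rw [Subgroup.normalizer_eq_top]; trivial)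
  have hS'card : Nat.card S' = sylCard s N := by rw [hS', card_map_conj]; exact hScard
  have hRS' : R ≤ Subgroup.normalizer (S' : Set G) := by
    intro x hx
    have hx' : c₁⁻¹ * x * c₁ ∈ R := by
      rw [hc₁R' (c₁⁻¹ * x * c₁)]
      have e : c₁ * (c₁⁻¹ * x * c₁) * c₁⁻¹ = x := by group
      rw [e]; exact hx
    have hx'S := Subgroup.mem_normalizer_iff.mp (hRS hx')
    rw [Subgroup.mem_normalizer_iff]
    intro t
    rw [hS'mem, hS'mem, hx'S (c₁⁻¹ * t * c₁)]
    have e : c₁⁻¹ * x * c₁ * (c₁⁻¹ * t * c₁) * (c₁⁻¹ * x * c₁)⁻¹ = c₁⁻¹ * (x * t * x⁻¹) * c₁ := by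
      group
    rw [e]
  obtain ⟨n, hn, hnS⟩ := exists_centralizer_conj_of_invariant R N hRN hRcop (Or.inl hRsolv) s S S'
    hSN hS'N hScard hS'card hRS hRS'
  have hnS' : ∀ t : G, t ∈ S' ↔ n⁻¹ * t * n ∈ S := by
    intro t; rw [hnS]; exact mem_map_conj
  have hnR := Subgroup.mem_centralizer_iff.mp hn.2
  obtain ⟨ct, hct⟩ : ∃ ct : G, ct = n⁻¹ * c₁ := ⟨_, rfl⟩
  have hctS : ct ∈ Subgroup.normalizer (S : Set G) := by
    rw [Subgroup.mem_normalizer_iff]
    intro t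
    have h1 : t ∈ S ↔ c₁ * t * c₁⁻¹ ∈ S' := by
      rw [hS'mem]
      have e : c₁⁻¹ * (c₁ * t * c₁⁻¹) * c₁ = t := by group
      rw [e]
    rw [h1, hnS', hct]
    have e : n⁻¹ * (c₁ * t * c₁⁻¹) * n = n⁻¹ * c₁ * t * (n⁻¹ * c₁)⁻¹ := by group
    rw [e]
  have hctR : ∀ x ∈ R, ct * x * ct⁻¹ ∈ R := by
    intro x hx
    have h1 : c₁ * x * c₁⁻¹ ∈ R := (hc₁R' x).mp hx
    have h2 := hnR _ h1
    have e : ct * x * ct⁻¹ = n⁻¹ * ((c₁ * x * c₁⁻¹) * n) := by rw [hct]; group
    rw [e, h2]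
    have e2 : n⁻¹ * (n * (c₁ * x * c₁⁻¹)) = c₁ * x * c₁⁻¹ := by group
    rw [e2]; exact h1
  obtain ⟨f, hf⟩ : ∃ f : G ⧸ N, f = (π f₁)⁻¹ := ⟨_, rfl⟩
  have hfF : f ∈ Fb := by rw [hf]; exact Fb.inv_mem ((hFhmem f₁).mp hf₁)
  have hπct : π ct = c * f := by
    have h1 : π n = 1 := (hπker n).mpr hn.1
    have h2 : π c₁ = c * f := by
      rw [hf, ← hc₀, ← hcf, map_mul]; group
    rw [hct, map_mul, map_inv, h1, h2]; group
  obtain ⟨hoy, hfpfQ⟩ := frob_facts hHb hker c hcH hcgen f hfF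
  rw [← hh] at hoy hfpfQ
  -- Step 4: the core lemma inside the normalizer of S
  obtain ⟨X, hX⟩ : ∃ X : Subgroup G, X = Subgroup.normalizer (S : Set G) := ⟨_, rfl⟩
  have hSX : S ≤ X := hX ▸ Subgroup.le_normalizer
  have hRX : R ≤ X := hX ▸ hRS
  have hctX : ct ∈ X := hX ▸ hctS
  have hSXn : (S.subgroupOf X).Normal := by rw [hX]; exact Subgroup.normal_in_normalizer
  have hSp : IsPGroup s (S.subgroupOf X) := by
    have h1 : IsPGroup s S := IsPGroup.of_card (n := (Nat.card N).factorization s) hScard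
    exact h1.comap_subtype
  have hcardR : Nat.card (R.subgroupOf X) = Nat.card R :=
    Nat.card_congr (Subgroup.subgroupOfEquivOfLe hRX).toEquiv
  have hcardS : Nat.card (S.subgroupOf X) = Nat.card S :=
    Nat.card_congr (Subgroup.subgroupOfEquivOfLe hSX).toEquiv
  have hScop : (Nat.card R).Coprime (Nat.card S) :=
    Nat.Coprime.coprime_dvd_right (Subgroup.card_dvd_of_le hSN) hRcop
  have hnc : ∃ x ∈ R.subgroupOf X, ∃ a ∈ S.subgroupOf X, x * a ≠ a * x := by
    obtain ⟨a, haS, haC⟩ := SetLike.not_le_iff_exists.mp hSnotC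
    rw [Subgroup.mem_centralizer_iff] at haC
    push Not at haC
    obtain ⟨x, hx, hxa⟩ := haC
    exact ⟨⟨x, hRX hx⟩, hx, ⟨a, hSX haS⟩, haS, fun h => hxa (congrArg Subtype.val h)⟩
  obtain ⟨a, haS, hane⟩ := core (Nat.card X) X rfl (S.subgroupOf X) (R.subgroupOf X) s
    ⟨ct, hctX⟩ h hh0 hSp
    (by
      intro x hx
      rw [Subgroup.mem_subgroupOf] at hx ⊢
      exact hctR _ hx)
    (by rw [hcardR, hcardS]; exact hScop)
    (by
      intro j hj0 hjh x hx hcomm
      rw [Subgroup.mem_subgroupOf] at hx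
      have h1 : (x : G) * ct ^ j = ct ^ j * (x : G) := by
        have := congrArg Subtype.val hcomm
        simpa using this
      have h2 : π (x : G) * (c * f) ^ j = (c * f) ^ j * π (x : G) := by
        rw [← hπct, ← map_pow, ← map_mul, ← map_mul, h1]
      have h3 : π (x : G) ∈ Fb := (hFhmem _).mp (hRFh hx)
      have h4 : π (x : G) = 1 := hfpfQ j hj0 hjh _ h3 h2
      have h5 : (x : G) ∈ N := (hπker _).mp h4
      have h6 : (x : G) = 1 := eq_one_of_mem_of_coprime R N hRcop _ hx h5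
      exact Subtype.ext h6)
    hnc
  rw [Subgroup.mem_subgroupOf] at haS
  have hane' : ((a : G) * ct) ^ h ≠ ct ^ h := by
    intro heq
    apply hane
    apply Subtype.ext
    simpa using heq
  -- Step 5: conclude with the power trick
  rw [hh.symm]
  by_cases hcth : ct ^ h = 1
  · have h1 : π ((a : G) * ct) = c * f := by
      rw [map_mul, (hπker _).mpr (hSN haS), one_mul, hπct]
    refine power_trick N h ((a : G) * ct) ?_ ?_
    · rw [← hπ, h1]; exact hoy
    · rw [← hcth]; exact hane'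
  · refine power_trick N h ct ?_ hcth
    rw [← hπ, hπct]; exact hoy

end Cfsg.Agent.S3703
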