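import Cfsg.Statements.S3704
import Mathlib

set_option autoImplicit false
set_option linter.unusedSectionVars false
open Cfsg

namespace Cfsg.Agent.S3704

open scoped BigOperators

section all
open Classical

section K
variable {G Ω : Type*} [Group G] [Fintype G] [MulAction G Ω] [Fintype Ω]

/-- `K f f' a b = ∑ g, f (g • a) * f' (g • b)` -/
def K (G : Type*) {Ω : Type*} [Group G] [Fintype G] [MulAction G Ω] (f f' : Ω → ℚ) (a b : Ω) : ℚ :=
  ∑ g : G, f (g • a) * f' (g • b)

lemma K_smul (f f' : Ω → ℚ) (x : G) (a b : Ω) : K G f f' (x • a) (x • b) = K G f f' a b := by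
  unfold K
  exact Fintype.sum_equiv (Equiv.mulRight x) _ _ (fun g => by simp [mul_smul])

lemma sum_smul (f : Ω → ℚ) (g : G) : ∑ b, f (g • b) = ∑ b, f b :=
  Fintype.sum_equiv (MulAction.toPerm g) _ _ (fun b => by simp)

lemma K_rowsum (f f' : Ω → ℚ) (hf' : ∑ b, f' b = 0) (a : Ω) : ∑ b, K G f f' a b = 0 := by
  unfold K
  rw [Finset.sum_comm]
  apply Finset.sum_eq_zero
  intro g _
  rw [← Finset.mul_sum, sum_smul, hf', mul_zero]

lemma K_trace (f f' : Ω → ℚ) : ∑ a, K G f f' a a = (Fintype.card G : ℚ) * ∑ a, f a * f' a := by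
  unfold K
  rw [Finset.sum_comm]
  have : ∀ g : G, ∑ a, f (g • a) * f' (g • a) = ∑ a, f a * f' a := fun g =>
    sum_smul (fun a => f a * f' a) g
  simp only [this, Finset.sum_const, Finset.card_univ, nsmul_eq_mul]

variable (h2 : ∀ {a b c d : Ω}, a ≠ b → c ≠ d → ∃ g : G, g • a = c ∧ g • b = d)
  (h1 : ∀ a c : Ω, ∃ g : G, g • a = c)

include h1 in
lemma K_diag (f f' : Ω → ℚ) (a c : Ω) : K G f f' a a = K G f f' c c := by
  obtain ⟨g, rfl⟩ := h1 a c
  rw [K_smul]

include h2 in
lemma K_offdiag (f f' : Ω → ℚ) {a b c d : Ω} (hab : a ≠ b) (hcd : c ≠ d) :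
    K G f f' a b = K G f f' c d := by
  obtain ⟨g, rfl, rfl⟩ := h2 hab hcd
  rw [K_smul]

include h1 h2 in
lemma K_eq (hn : 2 ≤ Fintype.card Ω) (f f' : Ω → ℚ) (hf' : ∑ b, f' b = 0) (a b : Ω) :
    K G f f' a b = ((Fintype.card G : ℚ) * (∑ a, f a * f' a) / ((Fintype.card Ω : ℚ) - 1)) *
      ((if a = b then 1 else 0) - 1 / (Fintype.card Ω : ℚ)) := by
  have hn0 : (Fintype.card Ω : ℚ) ≠ 0 := by
    have : (2 : ℚ) ≤ (Fintype.card Ω : ℚ) := by exact_mod_cast hn
    intro h; rw [h] at this; norm_num at this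
  have hn1 : (Fintype.card Ω : ℚ) - 1 ≠ 0 := by
    have : (2 : ℚ) ≤ (Fintype.card Ω : ℚ) := by exact_mod_cast hn
    intro h
    have : (Fintype.card Ω : ℚ) = 1 := by linarith
    linarith
  -- diagonal value
  have hdiag : (Fintype.card Ω : ℚ) * K G f f' a a = (Fintype.card G : ℚ) * ∑ a, f a * f' a := by
    rw [← K_trace]
    have : ∀ c : Ω, K G f f' c c = K G f f' a a := fun c => K_diag h1 f f' c a
    simp only [this, Finset.sum_const, Finset.card_univ, nsmul_eq_mul]
  by_cases hab : a = b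
  · subst hab
    rw [if_pos rfl]
    field_simp
    linear_combination hdiag
  · rw [if_neg hab]
    -- row sum
    have hrow := K_rowsum (G := G) f f' hf' a
    rw [← Finset.add_sum_erase Finset.univ _ (Finset.mem_univ a)] at hrow
    have : ∀ c ∈ Finset.univ.erase a, K G f f' a c = K G f f' a b := by
      intro c hc
      exact K_offdiag h2 f f' (Finset.ne_of_mem_erase hc).symm hab
    rw [Finset.sum_congr rfl this, Finset.sum_const, Finset.card_erase_of_mem (Finset.mem_univ a),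
      Finset.card_univ, nsmul_eq_mul] at hrow
    have hcast : ((Fintype.card Ω - 1 : ℕ) : ℚ) = (Fintype.card Ω : ℚ) - 1 := by
      rw [Nat.cast_sub (by omega)]; simp
    rw [hcast] at hrow
    field_simp
    linear_combination (Fintype.card Ω : ℚ) * hrow - hdiag

end K

section coset
variable {G Ω : Type*} [Group G] [Fintype G] [MulAction G Ω] [Fintype Ω]

/-- the bijection `(G ⧸ H) × H ≃ G`, `(δ, h) ↦ δ.out * h`. -/
noncomputable def cosetEquiv (H : Subgroup G) : (G ⧸ H) × H ≃ G where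
  toFun p := Quotient.out p.1 * p.2.1
  invFun g := ⟨QuotientGroup.mk g, ⟨(Quotient.out (QuotientGroup.mk g : G ⧸ H))⁻¹ * g,
    QuotientGroup.leftRel_apply.mp (@Quotient.exact' _ (QuotientGroup.leftRel H) _ _ <| Quotient.out_eq' _)⟩⟩
  left_inv := fun ⟨δ, h⟩ => by
    have hδ : (QuotientGroup.mk (Quotient.out δ * h.1) : G ⧸ H) = δ := by
      rw [QuotientGroup.mk_mul_of_mem _ h.2, QuotientGroup.out_eq']
    ext
    · exact hδ
    · simp only [hδ]
      simp
  right_inv := fun g => by simp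

lemma mk_cosetEquiv (H : Subgroup G) (p : (G ⧸ H) × H) :
    (QuotientGroup.mk (cosetEquiv H p) : G ⧸ H) = p.1 := by
  unfold cosetEquiv
  simp only [Equiv.coe_fn_mk]
  rw [QuotientGroup.mk_mul_of_mem _ p.2.2, QuotientGroup.out_eq']

lemma sum_mk (H : Subgroup G) (F : G ⧸ H → ℚ) :
    ∑ g : G, F (QuotientGroup.mk g) = (Fintype.card H : ℚ) * ∑ δ : G ⧸ H, F δ := by
  rw [← Fintype.sum_equiv (cosetEquiv H) (fun p => F p.1) (fun g => F (QuotientGroup.mk g))
    (fun p => by rw [mk_cosetEquiv])]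
  rw [Fintype.sum_prod_type]
  simp only [Finset.sum_const, Finset.card_univ, nsmul_eq_mul]
  rw [Finset.mul_sum]

/-- the matrix attached to a function on `Ω` -/
noncomputable def X (H : Subgroup G) (f : Ω → ℚ) : Matrix (G ⧸ H) Ω ℚ :=
  fun δ a => f ((Quotient.out δ)⁻¹ • a)

lemma X_mk (H : Subgroup G) (f : Ω → ℚ) (hf : ∀ h ∈ H, ∀ a, f (h • a) = f a) (g : G) (a : Ω) :
    X H f (QuotientGroup.mk g) a = f (g⁻¹ • a) := by
  unfold X
  have hmem : (Quotient.out (QuotientGroup.mk g : G ⧸ H))⁻¹ * g ∈ H :=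
    QuotientGroup.leftRel_apply.mp (@Quotient.exact' _ (QuotientGroup.leftRel H) _ _ <| Quotient.out_eq' _)
  have := hf _ hmem (g⁻¹ • a)
  rw [← this, smul_smul, mul_assoc, mul_inv_cancel, mul_one]

end coset

section tr
open Matrix
variable {Δ Ω : Type*} [Fintype Δ] [Fintype Ω] [DecidableEq Δ] [DecidableEq Ω]

lemma trace_transpose_mul_self_nonneg (R : Matrix Δ Δ ℚ) : 0 ≤ trace (Rᵀ * R) := by
  simp only [trace, diag, mul_apply, transpose_apply]
  exact Finset.sum_nonneg fun i _ => Finset.sum_nonneg fun j _ => mul_self_nonneg _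

lemma trace_argument (X X' : Matrix Δ Ω ℚ) (E : Matrix Ω Ω ℚ) (c c' : ℚ) (hc : c ≠ 0) (hc' : c' ≠ 0)
    (h1 : Xᵀ * X = c • E) (h2 : X'ᵀ * X' = c' • E) (h3 : Xᵀ * X' = 0)
    (hE : X * E = X) (hE' : X' * E = X') :
    0 ≤ (Fintype.card Δ : ℚ) - 2 * trace E := by
  have h3' : X'ᵀ * X = 0 := by
    have := congrArg transpose h3
    simpa [transpose_mul] using this
  set Q : Matrix Δ Δ ℚ := c⁻¹ • (X * Xᵀ) with hQ
  set Q' : Matrix Δ Δ ℚ := c'⁻¹ • (X' * X'ᵀ) with hQ'
  have hQQ : Q * Q = Q := by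
    rw [hQ, Matrix.smul_mul, Matrix.mul_smul]
    have : X * Xᵀ * (X * Xᵀ) = c • (X * Xᵀ) := by
      calc X * Xᵀ * (X * Xᵀ) = X * (Xᵀ * X) * Xᵀ := by simp only [Matrix.mul_assoc]
        _ = c • (X * Xᵀ) := by rw [h1, Matrix.mul_smul, hE, Matrix.smul_mul]
    rw [this, smul_smul, smul_smul]
    congr 1
    field_simp
  have hQ'Q' : Q' * Q' = Q' := by
    rw [hQ', Matrix.smul_mul, Matrix.mul_smul]
    have : X' * X'ᵀ * (X' * X'ᵀ) = c' • (X' * X'ᵀ) := by
      calc X' * X'ᵀ * (X' * X'ᵀ) = X' * (X'ᵀ * X') * X'ᵀ := by simp only [Matrix.mul_assoc]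
        _ = c' • (X' * X'ᵀ) := by rw [h2, Matrix.mul_smul, hE', Matrix.smul_mul]
    rw [this, smul_smul, smul_smul]
    congr 1
    field_simp
  have hQQ' : Q * Q' = 0 := by
    rw [hQ, hQ', Matrix.smul_mul, Matrix.mul_smul]
    have : X * Xᵀ * (X' * X'ᵀ) = 0 := by
      calc X * Xᵀ * (X' * X'ᵀ) = X * (Xᵀ * X') * X'ᵀ := by simp only [Matrix.mul_assoc]
        _ = 0 := by rw [h3]; simp
    rw [this]; simp
  have hQ'Q : Q' * Q = 0 := by
    rw [hQ, hQ', Matrix.smul_mul, Matrix.mul_smul]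
    have : X' * X'ᵀ * (X * Xᵀ) = 0 := by
      calc X' * X'ᵀ * (X * Xᵀ) = X' * (X'ᵀ * X) * Xᵀ := by simp only [Matrix.mul_assoc]
        _ = 0 := by rw [h3']; simp
    rw [this]; simp
  have hQT : Qᵀ = Q := by
    rw [hQ, transpose_smul, transpose_mul, transpose_transpose]
  have hQ'T : Q'ᵀ = Q' := by
    rw [hQ', transpose_smul, transpose_mul, transpose_transpose]
  set R : Matrix Δ Δ ℚ := 1 - Q - Q' with hR
  have hRT : Rᵀ = R := by
    rw [hR, transpose_sub, transpose_sub, transpose_one, hQT, hQ'T]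
  have hRR : R * R = R := by
    rw [hR]
    simp only [sub_mul, mul_sub, Matrix.mul_one, Matrix.one_mul, hQQ, hQ'Q', hQQ', hQ'Q]
    abel
  have htQ : trace Q = trace E := by
    rw [hQ, trace_smul, trace_mul_comm, h1, trace_smul, smul_eq_mul, smul_eq_mul, ← mul_assoc,
      inv_mul_cancel₀ hc, one_mul]
  have htQ' : trace Q' = trace E := by
    rw [hQ', trace_smul, trace_mul_comm, h2, trace_smul, smul_eq_mul, smul_eq_mul, ← mul_assoc,
      inv_mul_cancel₀ hc', one_mul]
  have htR : trace R = (Fintype.card Δ : ℚ) - 2 * trace E := by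
    rw [hR, trace_sub, trace_sub, trace_one, htQ, htQ']
    ring
  have := trace_transpose_mul_self_nonneg R
  rw [hRT, hRR, htR] at this
  exact this

end tr

section coset2
variable {G Ω : Type*} [Group G] [Fintype G] [MulAction G Ω] [Fintype Ω]

/-- the projection matrix `1 - J/n` -/
noncomputable def E (Ω : Type*) [Fintype Ω] : Matrix Ω Ω ℚ :=
  fun a b => (if a = b then 1 else 0) - 1 / (Fintype.card Ω : ℚ)

lemma trace_E (hn : Fintype.card Ω ≠ 0) : Matrix.trace (E Ω) = (Fintype.card Ω : ℚ) - 1 := by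
  have hn0 : (Fintype.card Ω : ℚ) ≠ 0 := by exact_mod_cast hn
  simp only [Matrix.trace, Matrix.diag, E, if_true, Finset.sum_sub_distrib, Finset.sum_const,
    Finset.card_univ, nsmul_eq_mul, mul_one]
  field_simp

lemma X_mul_E (H : Subgroup G) (f : Ω → ℚ) (hf : ∑ a, f a = 0) : X H f * E Ω = X H f := by
  ext δ b
  simp only [Matrix.mul_apply, E, X, mul_sub, Finset.sum_sub_distrib]
  rw [← Finset.sum_mul, sum_smul, hf, zero_mul, sub_zero]
  simp

lemma Xt_mul_X (h2 : ∀ {a b c d : Ω}, a ≠ b → c ≠ d → ∃ g : G, g • a = c ∧ g • b = d)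
    (h1 : ∀ a c : Ω, ∃ g : G, g • a = c) (hn : 2 ≤ Fintype.card Ω)
    (H : Subgroup G) (hidx : H.index = Fintype.card Ω)
    (f f' : Ω → ℚ) (hf : ∀ h ∈ H, ∀ a, f (h • a) = f a) (hf' : ∀ h ∈ H, ∀ a, f' (h • a) = f' a)
    (hs' : ∑ b, f' b = 0) :
    (X H f).transpose * X H f' =
      ((Fintype.card Ω : ℚ) * (∑ a, f a * f' a) / ((Fintype.card Ω : ℚ) - 1)) • E Ω := by
  ext a b
  simp only [Matrix.mul_apply, Matrix.transpose_apply, Matrix.smul_apply, smul_eq_mul]
  have hH0 : (Fintype.card H : ℚ) ≠ 0 := by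
    have : 0 < Fintype.card H := Fintype.card_pos
    exact_mod_cast this.ne'
  have hcard : (Fintype.card G : ℚ) = (Fintype.card Ω : ℚ) * (Fintype.card H : ℚ) := by
    have := H.index_mul_card
    rw [hidx, Nat.card_eq_fintype_card, Nat.card_eq_fintype_card] at this
    exact_mod_cast this.symm
  have key := sum_mk H (fun δ => X H f δ a * X H f' δ b)
  simp only [X_mk H f hf, X_mk H f' hf'] at key
  have hK : ∑ g : G, f (g⁻¹ • a) * f' (g⁻¹ • b) = K G f f' a b := by
    unfold K
    exact Fintype.sum_equiv (Equiv.inv G) _ _ (fun g => by simp)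
  rw [hK, K_eq h2 h1 hn f f' hs' a b, hcard] at key
  have hn1 : (Fintype.card Ω : ℚ) - 1 ≠ 0 := by
    have : (2 : ℚ) ≤ (Fintype.card Ω : ℚ) := by exact_mod_cast hn
    intro h
    linarith
  unfold E
  field_simp at key ⊢
  linear_combination -key

end coset2

section orb
variable {G Ω : Type*} [Group G] [MulAction G Ω] [Fintype Ω]

/-- indicator of an orbit -/
noncomputable def ind (H : Subgroup G) (q : MulAction.orbitRel.Quotient H Ω) : Ω → ℚ :=
  fun a => if (Quotient.mk'' a : MulAction.orbitRel.Quotient H Ω) = q then 1 else 0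

lemma ind_smul (H : Subgroup G) (q : MulAction.orbitRel.Quotient H Ω) (h : G) (hh : h ∈ H) (a : Ω) :
    ind H q (h • a) = ind H q a := by
  unfold ind
  have : (Quotient.mk'' (h • a) : MulAction.orbitRel.Quotient H Ω) = Quotient.mk'' a := by
    apply Quotient.sound'
    rw [MulAction.orbitRel_apply]
    exact ⟨⟨h, hh⟩, rfl⟩
  rw [this]

/-- size of an orbit -/
noncomputable def sz (H : Subgroup G) (q : MulAction.orbitRel.Quotient H Ω) : ℚ := ∑ a, ind H q a

lemma ind_nonneg (H : Subgroup G) (q : MulAction.orbitRel.Quotient H Ω) (a : Ω) : 0 ≤ ind H q a := by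
  unfold ind; split_ifs <;> norm_num

lemma sz_pos (H : Subgroup G) (q : MulAction.orbitRel.Quotient H Ω) : 0 < sz H q := by
  obtain ⟨a, rfl⟩ := Quotient.exists_rep q
  unfold sz
  have h1 : ind H (Quotient.mk'' a) a = 1 := by unfold ind; rw [if_pos rfl]
  calc (0 : ℚ) < ind H (Quotient.mk'' a) a := by rw [h1]; norm_num
    _ ≤ ∑ b, ind H (Quotient.mk'' a) b :=
      Finset.single_le_sum (f := ind H (Quotient.mk'' a)) (fun b _ => ind_nonneg H _ b) (Finset.mem_univ a)

lemma exists_fns (H : Subgroup G) (q1 q2 q3 : MulAction.orbitRel.Quotient H Ω)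
    (h12 : q1 ≠ q2) (h13 : q1 ≠ q3) (h23 : q2 ≠ q3) :
    ∃ f f' : Ω → ℚ, (∀ h ∈ H, ∀ a, f (h • a) = f a) ∧ (∀ h ∈ H, ∀ a, f' (h • a) = f' a) ∧
      ∑ a, f a = 0 ∧ ∑ a, f' a = 0 ∧ ∑ a, f a * f' a = 0 ∧ 0 < ∑ a, f a * f a ∧
      0 < ∑ a, f' a * f' a := by
  have p1 := sz_pos H q1
  have p2 := sz_pos H q2
  have p3 := sz_pos H q3
  refine ⟨fun a => sz H q2 * ind H q1 a - sz H q1 * ind H q2 a,
    fun a => sz H q3 * (ind H q1 a + ind H q2 a) - (sz H q1 + sz H q2) * ind H q3 a, ?_, ?_, ?_, ?_, ?_, ?_, ?_⟩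
  · intro h hh a
    simp only [ind_smul H _ h hh]
  · intro h hh a
    simp only [ind_smul H _ h hh]
  · simp only [Finset.sum_sub_distrib, ← Finset.mul_sum]
    change sz H q2 * sz H q1 - sz H q1 * sz H q2 = 0
    ring
  · simp only [Finset.sum_sub_distrib, ← Finset.mul_sum, Finset.sum_add_distrib]
    change sz H q3 * (sz H q1 + sz H q2) - (sz H q1 + sz H q2) * sz H q3 = 0
    ring
  · have : ∀ a, (sz H q2 * ind H q1 a - sz H q1 * ind H q2 a) *
        (sz H q3 * (ind H q1 a + ind H q2 a) - (sz H q1 + sz H q2) * ind H q3 a) =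
        sz H q2 * sz H q3 * ind H q1 a - sz H q1 * sz H q3 * ind H q2 a := by
      intro a
      unfold ind
      by_cases e1 : (Quotient.mk'' a : MulAction.orbitRel.Quotient H Ω) = q1
      · have e2 : ¬ ((Quotient.mk'' a : MulAction.orbitRel.Quotient H Ω) = q2) :=
          fun e => h12 (e1.symm.trans e)
        have e3 : ¬ ((Quotient.mk'' a : MulAction.orbitRel.Quotient H Ω) = q3) :=
          fun e => h13 (e1.symm.trans e)
        simp only [if_pos e1, if_neg e2, if_neg e3]; ring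
      · by_cases e2 : (Quotient.mk'' a : MulAction.orbitRel.Quotient H Ω) = q2
        · have e3 : ¬ ((Quotient.mk'' a : MulAction.orbitRel.Quotient H Ω) = q3) :=
            fun e => h23 (e2.symm.trans e)
          simp only [if_neg e1, if_pos e2, if_neg e3]; ring
        · by_cases e3 : (Quotient.mk'' a : MulAction.orbitRel.Quotient H Ω) = q3
          · simp only [if_neg e1, if_neg e2, if_pos e3]; ring
          · simp only [if_neg e1, if_neg e2, if_neg e3]; ring
    simp only [this, Finset.sum_sub_distrib, ← Finset.mul_sum]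
    change sz H q2 * sz H q3 * sz H q1 - sz H q1 * sz H q3 * sz H q2 = 0
    ring
  · obtain ⟨a, rfl⟩ := Quotient.exists_rep q1
    have hv : sz H q2 * ind H (Quotient.mk'' a) a - sz H (Quotient.mk'' a) * ind H q2 a = sz H q2 := by
      unfold ind
      rw [if_pos rfl, if_neg h12]
      ring
    calc (0 : ℚ) < sz H q2 * sz H q2 := mul_pos p2 p2
      _ = (fun b => (sz H q2 * ind H (Quotient.mk'' a) b - sz H (Quotient.mk'' a) * ind H q2 b) *
            (sz H q2 * ind H (Quotient.mk'' a) b - sz H (Quotient.mk'' a) * ind H q2 b)) a := by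
          simp only [hv]
      _ ≤ _ := Finset.single_le_sum (f := fun b => (sz H q2 * ind H (Quotient.mk'' a) b - sz H (Quotient.mk'' a) * ind H q2 b) *
            (sz H q2 * ind H (Quotient.mk'' a) b - sz H (Quotient.mk'' a) * ind H q2 b))
          (fun b _ => mul_self_nonneg _) (Finset.mem_univ a)
  · obtain ⟨a, rfl⟩ := Quotient.exists_rep q3
    have hv : sz H (Quotient.mk'' a) * (ind H q1 a + ind H q2 a) - (sz H q1 + sz H q2) * ind H (Quotient.mk'' a) a
        = -(sz H q1 + sz H q2) := by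
      unfold ind
      rw [if_pos rfl, if_neg (Ne.symm h13), if_neg (Ne.symm h23)]
      ring
    calc (0 : ℚ) < (-(sz H q1 + sz H q2)) * (-(sz H q1 + sz H q2)) := by
          have : sz H q1 + sz H q2 > 0 := by linarith
          nlinarith
      _ = (fun b => (sz H (Quotient.mk'' a) * (ind H q1 b + ind H q2 b) - (sz H q1 + sz H q2) * ind H (Quotient.mk'' a) b) *
            (sz H (Quotient.mk'' a) * (ind H q1 b + ind H q2 b) - (sz H q1 + sz H q2) * ind H (Quotient.mk'' a) b)) a := by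
          simp only [hv]
      _ ≤ _ := Finset.single_le_sum (f := fun b => (sz H (Quotient.mk'' a) * (ind H q1 b + ind H q2 b) - (sz H q1 + sz H q2) * ind H (Quotient.mk'' a) b) *
            (sz H (Quotient.mk'' a) * (ind H q1 b + ind H q2 b) - (sz H q1 + sz H q2) * ind H (Quotient.mk'' a) b))
          (fun b _ => mul_self_nonneg _) (Finset.mem_univ a)

end orb

end all

open Classical in
/-- Let G be a finite group acting faithfully and 2-transitively on a finite set Ω of size n, and let H be a subgroup of index n in G which is not transitive on Ω and fixes no point of Ω. Then H has exactly two orbits on Ω. -/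
theorem result {G Ω : Type*} [Group G] [Finite G] [MulAction G Ω] [FaithfulSMul G Ω] [Finite Ω] (h2 : MulAction.IsMultiplyPretransitive G Ω 2) (H : Subgroup G) (hidx : H.index = Nat.card Ω) (hnt : ¬ MulAction.IsPretransitive H Ω) (hfix : ∀ a : Ω, ∃ h : H, h • a ≠ a) : Nat.card (MulAction.orbitRel.Quotient H Ω) = 2 := by
  have : Fintype G := Fintype.ofFinite G
  have : Fintype Ω := Fintype.ofFinite Ω
  have hpre : MulAction.IsPretransitive G Ω := MulAction.isPretransitive_of_is_two_pretransitive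
  have h2' : ∀ {a b c d : Ω}, a ≠ b → c ≠ d → ∃ g : G, g • a = c ∧ g • b = d :=
    fun {a b c d} hab hcd => MulAction.is_two_pretransitive_iff.mp h2 hab hcd
  have h1' : ∀ a c : Ω, ∃ g : G, g • a = c := fun a c => MulAction.exists_smul_eq G a c
  have hr2 : 2 ≤ Nat.card (MulAction.orbitRel.Quotient H Ω) := by
    by_contra hlt
    push Not at hlt
    apply hnt
    rw [MulAction.pretransitive_iff_subsingleton_quotient]
    exact (Finite.card_le_one_iff_subsingleton).mp (by omega)
  have hr3 : Nat.card (MulAction.orbitRel.Quotient H Ω) ≤ 2 := by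
    by_contra hgt
    push Not at hgt
    have h3 : 2 < Fintype.card (MulAction.orbitRel.Quotient H Ω) := by
      rw [← Nat.card_eq_fintype_card]; exact hgt
    obtain ⟨q1, q2, q3, h12, h13, h23⟩ := Fintype.two_lt_card_iff.mp h3
    obtain ⟨f, f', hf, hf', hs, hs', hff', hpos, hpos'⟩ := exists_fns H q1 q2 q3 h12 h13 h23
    have hn3 : 3 ≤ Fintype.card Ω := by
      have hle : Nat.card (MulAction.orbitRel.Quotient H Ω) ≤ Nat.card Ω :=
        Nat.card_le_card_of_surjective _ (Quotient.mk''_surjective)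
      rw [Nat.card_eq_fintype_card (α := Ω)] at hle
      omega
    have hidx' : H.index = Fintype.card Ω := by rw [hidx, Nat.card_eq_fintype_card]
    have hΔ : Fintype.card (G ⧸ H) = Fintype.card Ω := by
      rw [← Nat.card_eq_fintype_card]; exact hidx'
    have hnq : (3 : ℚ) ≤ (Fintype.card Ω : ℚ) := by exact_mod_cast hn3
    have e1 := Xt_mul_X h2' h1' (by omega) H hidx' f f hf hf hs
    have e2 := Xt_mul_X h2' h1' (by omega) H hidx' f' f' hf' hf' hs'
    have e3 := Xt_mul_X h2' h1' (by omega) H hidx' f f' hf hf' hs'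
    rw [hff', mul_zero, zero_div, zero_smul] at e3
    have hc : ((Fintype.card Ω : ℚ) * (∑ a, f a * f a) / ((Fintype.card Ω : ℚ) - 1)) ≠ 0 := by
      apply div_ne_zero
      · apply mul_ne_zero
        · linarith
        · exact hpos.ne'
      · linarith
    have hc' : ((Fintype.card Ω : ℚ) * (∑ a, f' a * f' a) / ((Fintype.card Ω : ℚ) - 1)) ≠ 0 := by
      apply div_ne_zero
      · apply mul_ne_zero
        · linarith
        · exact hpos'.ne'
      · linarith
    have key := trace_argument (X H f) (X H f') (E Ω) _ _ hc hc' e1 e2 e3 (X_mul_E H f hs) (X_mul_E H f' hs')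
    rw [trace_E (by omega), hΔ] at key
    linarith
  omega

end Cfsg.Agent.S3704
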