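import Cfsg.Statements.S3707
import Mathlib

set_option autoImplicit false
open Cfsg

namespace Cfsg.Agent.S3707

open scoped Pointwise
open MulAction

section core
variable {G Ω : Type*} [Group G] [MulAction G Ω]

/-- Jordan set: the pointwise stabilizer of the complement is transitive on it. -/
def JSet (G : Type*) {Ω : Type*} [Group G] [MulAction G Ω] (T : Set Ω) : Prop :=
  ∀ x ∈ T, ∀ y ∈ T, ∃ g : G, (∀ z ∉ T, g • z = z) ∧ g • x = y

lemma JSet.smul {T : Set Ω} (hT : JSet G T) (h : G) : JSet G (h • T) := by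
  intro x hx y hy
  rw [Set.mem_smul_set_iff_inv_smul_mem] at hx hy
  obtain ⟨g, hg1, hg2⟩ := hT _ hx _ hy
  refine ⟨h * g * h⁻¹, ?_, ?_⟩
  · intro z hz
    rw [Set.mem_smul_set_iff_inv_smul_mem] at hz
    rw [mul_smul, mul_smul, hg1 _ hz, smul_inv_smul]
  · rw [mul_smul, mul_smul, hg2, smul_inv_smul]

lemma lemmaA {T : Set Ω} (hT : JSet G T)
    {a : Ω} (haT : a ∉ T) {B : Set Ω}
    (hB : ∀ k : G, k • a = a → k • B = B ∨ Disjoint (k • B) B)
    {w : Ω} (hwB : w ∈ B) (hwT : w ∉ T) {x : Ω} (hxB : x ∈ B) (hxT : x ∈ T) : T ⊆ B := by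
  intro y hy
  obtain ⟨k, hk1, hk2⟩ := hT x hxT y hy
  rcases hB k (hk1 a haT) with h | h
  · rw [← h, ← hk2]; exact Set.smul_mem_smul_set hxB
  · exfalso
    have : w ∈ k • B := by
      rw [← hk1 w hwT]; exact Set.smul_mem_smul_set hwB
    exact Set.disjoint_left.mp h this hwB

open Classical in
/-- number of translates (counted by group elements) containing both `u` and `v`. -/
noncomputable def cN [Fintype G] (Γ : Set Ω) (u v : Ω) : ℕ :=
  (Finset.univ.filter (fun g : G => u ∈ g • Γ ∧ v ∈ g • Γ)).card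

lemma cN_smul [Fintype G] (Γ : Set Ω) (h : G) (u v : Ω) :
    cN (G := G) Γ (h • u) (h • v) = cN (G := G) Γ u v := by
  classical
  unfold cN
  symm
  apply Finset.card_bij (fun g _ => h * g)
  · intro g hg
    simp only [Finset.mem_filter, Finset.mem_univ, true_and] at hg ⊢
    rw [mul_smul]
    exact ⟨Set.smul_mem_smul_set hg.1, Set.smul_mem_smul_set hg.2⟩
  · intro g1 _ g2 _ h12; exact mul_left_cancel h12
  · intro g hg
    refine ⟨h⁻¹ * g, ?_, by simp⟩
    simp only [Finset.mem_filter, Finset.mem_univ, true_and] at hg ⊢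
    rw [mul_smul, Set.mem_inv_smul_set_iff, Set.mem_inv_smul_set_iff]
    exact hg

lemma cN_sum [Fintype G] [Fintype Ω] (Γ : Set Ω) (u : Ω) :
    ∑ v : Ω, cN (G := G) Γ u v = Γ.ncard * cN (G := G) Γ u u := by
  classical
  unfold cN
  simp_rw [Finset.card_filter]
  rw [Finset.sum_comm, Finset.mul_sum]
  apply Finset.sum_congr rfl
  intro g _
  by_cases hu : u ∈ g • Γ
  · simp only [hu, true_and, and_self, if_true, mul_one]
    rw [← Finset.card_filter, ← Set.ncard_smul_set g Γ, Set.ncard_eq_toFinset_card']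
    congr 1
    ext v; simp only [Finset.mem_filter, Finset.mem_univ, true_and, Set.mem_toFinset]
  · simp [hu]


theorem core [Finite G] [Finite Ω]
    (h2t : ∀ u v u' v' : Ω, u ≠ v → u' ≠ v' → ∃ g : G, g • u = u' ∧ g • v = v')
    (Γ : Set Ω) (h1 : 1 < Γ.ncard) (h2 : 2 * Γ.ncard ≤ Nat.card Ω)
    (htr : JSet G Γ)
    (a : Ω) (B : Set Ω) (haB : a ∉ B)
    (hB : ∀ k : G, k • a = a → k • B = B ∨ Disjoint (k • B) B)
    (x y : Ω) (hx : x ∈ B) (hy : y ∈ B) (hxy : x ≠ y) (z : Ω) (hz : z ∉ B) (hza : z ≠ a) :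
    False := by
  classical
  have := Fintype.ofFinite G
  have := Fintype.ofFinite Ω
  have hxa : x ≠ a := fun h => haB (h ▸ hx)
  have hN : ∀ u v u' v' : Ω, u ≠ v → u' ≠ v' →
      cN (G := G) Γ u v = cN (G := G) Γ u' v' := by
    intro u v u' v' huv huv'
    obtain ⟨g, rfl, rfl⟩ := h2t u v u' v' huv huv'
    exact (cN_smul Γ g u v).symm
  have hcount : Γ.ncard * cN (G := G) Γ x x =
      cN (G := G) Γ x x + (Fintype.card Ω - 1) * cN (G := G) Γ x y := by
    rw [← cN_sum Γ x, ← Finset.add_sum_erase Finset.univ _ (Finset.mem_univ x)]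
    congr 1
    rw [Finset.sum_const_nat (m := cN (G := G) Γ x y)]
    · rw [Finset.card_erase_of_mem (Finset.mem_univ x), Finset.card_univ]
    · intro v hv
      exact hN x v x y (Finset.ne_of_mem_erase hv).symm hxy
  have hNpos : 0 < cN (G := G) Γ x y := by
    obtain ⟨p, hp, q, hq, hpq⟩ := (Set.one_lt_ncard (Γ.toFinite)).mp h1
    obtain ⟨g, hgp, hgq⟩ := h2t p q x y hpq hxy
    apply Finset.card_pos.mpr
    refine ⟨g, ?_⟩
    simp only [Finset.mem_filter, Finset.mem_univ, true_and]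
    exact ⟨hgp ▸ Set.smul_mem_smul_set hp, hgq ▸ Set.smul_mem_smul_set hq⟩
  have hcardΩ : Nat.card Ω = Fintype.card Ω := Nat.card_eq_fintype_card
  have hA : ∀ g : G, a ∉ g • Γ → (∃ w ∈ B, w ∉ g • Γ) → (∃ w ∈ B, w ∈ g • Γ) → g • Γ ⊆ B := by
    rintro g hag ⟨w, hwB, hwT⟩ ⟨x', hxB, hxT⟩
    exact lemmaA (htr.smul g) hag hB hwB hwT hxB hxT
  rcases lt_or_ge B.ncard Γ.ncard with hbm | hbm
  · -- Case 1: b < m
    have hsub : (Finset.univ.filter (fun g : G => x ∈ g • Γ ∧ y ∉ g • Γ)) ⊆
        (Finset.univ.filter (fun g : G => x ∈ g • Γ ∧ a ∈ g • Γ)) := by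
      intro g hg
      simp only [Finset.mem_filter, Finset.mem_univ, true_and] at hg ⊢
      refine ⟨hg.1, ?_⟩
      by_contra hag
      have h3 := hA g hag ⟨y, hy, hg.2⟩ ⟨x, hx, hg.1⟩
      have h4 := Set.ncard_le_ncard h3 B.toFinite
      rw [Set.ncard_smul_set] at h4
      omega
    have hR : cN (G := G) Γ x x =
        (Finset.univ.filter (fun g : G => x ∈ g • Γ ∧ y ∈ g • Γ)).card +
          (Finset.univ.filter (fun g : G => x ∈ g • Γ ∧ y ∉ g • Γ)).card := by
      unfold cN
      simp only [and_self]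
      rw [← Finset.filter_filter, ← Finset.filter_filter]
      exact (Finset.card_filter_add_card_filter_not _).symm
    have h3 := Finset.card_le_card hsub
    have h4 : (Finset.univ.filter (fun g : G => x ∈ g • Γ ∧ a ∈ g • Γ)).card =
        cN (G := G) Γ x y := hN x a x y hxa hxy
    have h5 : cN (G := G) Γ x x ≤ cN (G := G) Γ x y + cN (G := G) Γ x y := by
      rw [hR]
      have : (Finset.univ.filter (fun g : G => x ∈ g • Γ ∧ y ∈ g • Γ)).card =
        cN (G := G) Γ x y := rfl
      omega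
    -- m R = R + (n-1) N, R ≤ 2N, N > 0, 2m ≤ n
    generalize cN (G := G) Γ x x = R at *
    generalize cN (G := G) Γ x y = N at *
    generalize Γ.ncard = m at *
    rw [hcardΩ] at h2
    generalize Fintype.card Ω = n at *
    -- (m - 1) R = (n-1) N
    obtain ⟨m', rfl⟩ : ∃ m', m = m' + 2 := ⟨m - 2, by omega⟩
    obtain ⟨n', rfl⟩ : ∃ n', n = n' + 1 := ⟨n - 1, by omega⟩
    simp only [Nat.add_sub_cancel] at hcount
    nlinarith
  · -- Case 2: m ≤ b
    have hsub : ∀ y' : Ω, y' ∉ B → y' ≠ a →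
        (Finset.univ.filter (fun g : G => x ∈ g • Γ ∧ y' ∈ g • Γ)) ⊆
        (Finset.univ.filter (fun g : G => x ∈ g • Γ ∧ a ∈ g • Γ)) := by
      intro y' hy'B hy'a g hg
      simp only [Finset.mem_filter, Finset.mem_univ, true_and] at hg ⊢
      refine ⟨hg.1, ?_⟩
      by_contra hag
      by_cases hBT : B ⊆ g • Γ
      · have hss : B ⊂ g • Γ := by
          refine ⟨hBT, fun h => hy'B (h hg.2)⟩
        have h4 := Set.ncard_lt_ncard hss (g • Γ).toFinite
        rw [Set.ncard_smul_set] at h4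
        omega
      · rw [Set.not_subset] at hBT
        obtain ⟨w, hwB, hwT⟩ := hBT
        exact hy'B (hA g hag ⟨w, hwB, hwT⟩ ⟨x, hx, hg.1⟩ hg.2)
    have heq : ∀ y' : Ω, y' ∉ B → y' ≠ a →
        (Finset.univ.filter (fun g : G => x ∈ g • Γ ∧ y' ∈ g • Γ)) =
        (Finset.univ.filter (fun g : G => x ∈ g • Γ ∧ a ∈ g • Γ)) := by
      intro y' hy'B hy'a
      apply Finset.eq_of_subset_of_card_le (hsub y' hy'B hy'a)
      have hxy' : x ≠ y' := fun h => hy'B (h ▸ hx)
      exact le_of_eq (hN x a x y' hxa hxy')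
    have hne : (Finset.univ.filter (fun g : G => x ∈ g • Γ ∧ a ∈ g • Γ)).Nonempty := by
      apply Finset.card_pos.mp
      have : (Finset.univ.filter (fun g : G => x ∈ g • Γ ∧ a ∈ g • Γ)).card =
        cN (G := G) Γ x y := hN x a x y hxa hxy
      omega
    obtain ⟨g0, hg0⟩ := hne
    have hg0' := hg0
    simp only [Finset.mem_filter, Finset.mem_univ, true_and] at hg0'
    have hcompl : insert x Bᶜ ⊆ g0 • Γ := by
      intro y' hy'
      rcases hy' with rfl | hy'
      · exact hg0'.1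
      · by_cases hy'a : y' = a
        · rw [hy'a]; exact hg0'.2
        · have := heq y' hy' hy'a
          rw [← this] at hg0
          simp only [Finset.mem_filter, Finset.mem_univ, true_and] at hg0
          exact hg0.2
    have h5 := Set.ncard_le_ncard hcompl (g0 • Γ).toFinite
    rw [Set.ncard_smul_set, Set.ncard_insert_of_notMem (by simpa using hx) Bᶜ.toFinite] at h5
    -- 2b ≤ n - 1
    obtain ⟨k, hkx, hka⟩ := h2t x a z a hxa hza
    have hdisj : Disjoint (k • B) B := by
      rcases hB k hka with h | h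
      · exfalso; apply hz; rw [← h, ← hkx]; exact Set.smul_mem_smul_set hx
      · exact h
    have hakB : a ∉ k • B := by
      intro h
      rw [← hka, Set.smul_mem_smul_set_iff] at h
      exact haB h
    have hsub2 : insert a (k • B) ⊆ Bᶜ := by
      intro w hw
      rcases hw with rfl | hw
      · exact haB
      · exact Set.disjoint_left.mp hdisj hw
    have h6 := Set.ncard_le_ncard hsub2 Bᶜ.toFinite
    rw [Set.ncard_insert_of_notMem hakB (k • B).toFinite, Set.ncard_smul_set] at h6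
    have h7 := Set.ncard_add_ncard_compl B
    omega

end core



/-- Let G be a finite primitive permutation group on Ω of degree n and Γ ⊂ Ω a subset with 1 < #Γ ≤ n/2 such that the pointwise stabilizer of Ω ∖ Γ is transitive on Γ. Then G is 3-transitive on Ω. -/
theorem result {G Ω : Type*} [Group G] [Finite G] [MulAction G Ω] [FaithfulSMul G Ω] [Finite Ω] (hprim : MulAction.IsPreprimitive G Ω) (Γ : Set Ω) (h1 : 1 < Γ.ncard) (h2 : 2 * Γ.ncard ≤ Nat.card Ω) (htr : ∀ x ∈ Γ, ∀ y ∈ Γ, ∃ g : G, (∀ z ∉ Γ, g • z = z) ∧ g • x = y) : MulAction.IsMultiplyPretransitive G Ω 3 := by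
  have := hprim.toIsPretransitive
  have hcompl := Set.ncard_add_ncard_compl Γ
  -- Step 1 : `G` is 2-transitive
  have h2tr : IsMultiplyPretransitive G Ω 2 := by
    apply MulAction.IsPreprimitive.is_two_pretransitive hprim (s := Γᶜ) (n := Γᶜ.ncard - 1)
    · omega
    · omega
    · rw [MulAction.isPretransitive_iff]
      rintro ⟨x, hx⟩ ⟨y, hy⟩
      rw [SubMulAction.mem_ofFixingSubgroup_iff] at hx hy
      simp only [Set.mem_compl_iff, not_not] at hx hy
      obtain ⟨g, hg1, hg2⟩ := htr x hx y hy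
      refine ⟨⟨g, ?_⟩, ?_⟩
      · rw [mem_fixingSubgroup_iff]; intro z hz; exact hg1 z hz
      · ext; exact hg2
  have h2t : ∀ u v u' v' : Ω, u ≠ v → u' ≠ v' → ∃ g : G, g • u = u' ∧ g • v = v' := by
    intro u v u' v' huv huv'
    exact (MulAction.is_two_pretransitive_iff.mp h2tr) huv huv'
  -- choose a point outside Γ
  obtain ⟨a, ha⟩ : ∃ a, a ∈ Γᶜ := by
    apply Set.nonempty_of_ncard_ne_zero; omega
  have haΓ : a ∉ Γ := ha
  -- Step 2 : the stabilizer of `a` is primitive on the rest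
  have hpretr : IsPretransitive (stabilizer G a) (SubMulAction.ofStabilizer G a) := by
    rw [← is_one_pretransitive_iff, ← SubMulAction.ofStabilizer.isMultiplyPretransitive]
    exact h2tr
  have hprim_a : IsPreprimitive (stabilizer G a) (SubMulAction.ofStabilizer G a) := by
    apply IsPreprimitive.mk
    intro B hB
    by_contra hnt
    unfold IsTrivialBlock at hnt
    push Not at hnt
    obtain ⟨hns, hnu⟩ := hnt
    obtain ⟨x, hx, y, hy, hxy⟩ := hns
    rw [Set.ne_univ_iff_exists_notMem] at hnu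
    obtain ⟨z, hz⟩ := hnu
    refine core h2t Γ h1 h2 htr a (Subtype.val '' B) (SubMulAction.notMem_val_image _ B) ?_
      x y (Set.mem_image_of_mem _ hx) (Set.mem_image_of_mem _ hy)
      (fun h => hxy (Subtype.ext h)) z ?_ z.2
    · intro k hk
      have himg : Subtype.val '' ((⟨k, hk⟩ : stabilizer G a) • B) = k • (Subtype.val '' B) := by
        ext w
        constructor
        · rintro ⟨w', ⟨b, hb, rfl⟩, rfl⟩
          exact ⟨b, ⟨b, hb, rfl⟩, rfl⟩
        · rintro ⟨w', ⟨b, hb, rfl⟩, rfl⟩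
          exact ⟨(⟨k, hk⟩ : stabilizer G a) • b, ⟨b, hb, rfl⟩, rfl⟩
      rcases hB.smul_eq_or_disjoint ⟨k, hk⟩ with h | h
      · left; rw [← himg, h]
      · right; rw [← himg]
        exact (Set.disjoint_image_iff Subtype.val_injective).mpr h
    · rintro ⟨z', hz', hzz'⟩
      exact hz (Subtype.ext hzz' ▸ hz')
  -- Step 3 : the stabilizer is 2-transitive on the rest
  have h2tr_a : IsMultiplyPretransitive (stabilizer G a) (SubMulAction.ofStabilizer G a) 2 := by
    set s' : Set (SubMulAction.ofStabilizer G a) := {w | (w : Ω) ∉ Γ} with hs'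
    have hs'card : s'.ncard = Γᶜ.ncard - 1 := by
      rw [← Set.ncard_image_of_injective s' Subtype.val_injective,
        ← Set.ncard_sdiff_singleton_of_mem ha]
      congr 1
      ext w
      constructor
      · rintro ⟨w', hw', rfl⟩
        exact ⟨hw', w'.2⟩
      · rintro ⟨hw1, hw2⟩
        exact ⟨⟨w, hw2⟩, hw1, rfl⟩
    have hcard_a := SubMulAction.nat_card_ofStabilizer_add_one_eq G a
    apply MulAction.IsPreprimitive.is_two_pretransitive hprim_a (s := s') (n := s'.ncard - 1)
    · omega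
    · omega
    · rw [MulAction.isPretransitive_iff]
      rintro ⟨x, hx⟩ ⟨y, hy⟩
      rw [SubMulAction.mem_ofFixingSubgroup_iff] at hx hy
      simp only [hs', Set.mem_ofPred_eq, not_not] at hx hy
      obtain ⟨g, hg1, hg2⟩ := htr x hx y hy
      refine ⟨⟨⟨g, hg1 a haΓ⟩, ?_⟩, ?_⟩
      · rw [mem_fixingSubgroup_iff]; intro z hz; exact Subtype.ext (hg1 z hz)
      · ext; exact hg2
  rw [SubMulAction.ofStabilizer.isMultiplyPretransitive (a := a)]
  exact h2tr_a

end Cfsg.Agent.S3707
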