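import Cfsg.Statements.S3733

set_option autoImplicit false
open Cfsg

namespace Cfsg.Agent.S3733

open scoped IsMulCommutative

variable {G : Type*} [Group G]

/-- conjugation by `s` as an endomorphism of `V` when `s` normalizes `V`. -/
def cjHom (V : Subgroup G) (s : G) (hs : s ∈ Subgroup.normalizer (V : Set G)) : V →* V where
  toFun v := ⟨s * v * s⁻¹, (hs v).mp v.2⟩
  map_one' := by ext; simp
  map_mul' a b := by ext; simp [mul_assoc]

open Classical in
/-- conjugation, junk value `1` off the normalizer. -/
noncomputable def cj (V : Subgroup G) (s : G) (v : V) : V :=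
  if hs : s ∈ Subgroup.normalizer (V : Set G) then cjHom V s hs v else 1

theorem cj_eq (V : Subgroup G) (s : G) (hs : s ∈ Subgroup.normalizer (V : Set G)) (v : V) :
    cj V s v = cjHom V s hs v := by
  simp [cj, hs]

theorem cjHom_cjHom (V : Subgroup G) (s t : G) (hs : s ∈ Subgroup.normalizer (V : Set G))
    (ht : t ∈ Subgroup.normalizer (V : Set G)) (v : V) :
    cjHom V s hs (cjHom V t ht v) = cjHom V (s * t) (mul_mem hs ht) v := by
  ext; simp [cjHom, mul_assoc]

theorem cj_one (V : Subgroup G) (v : V) : cj V 1 v = v := by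
  rw [cj_eq V 1 (one_mem _)]; ext; simp [cjHom]

/-- Let A and V be subgroups of a finite group with V abelian and nontrivial and A normalizing V. Suppose a nonempty finite family of proper subgroups of A partitions A: every non-identity element of A lies in exactly one member. If the number of members minus one is coprime to the order of V, then some member B of the family has a non-identity fixed point on V, that is V ∩ C(B) ≠ 1. -/
theorem result {G : Type*} [Group G] [Finite G] (A V : Subgroup G) (hVab : IsMulCommutative V) (hV : V ≠ ⊥) (hAV : A ≤ Subgroup.normalizer (V : Set G)) (𝒜 : Finset (Subgroup G)) (hne : 𝒜.Nonempty) (hprop : ∀ B ∈ 𝒜, B < A) (hpart : ∀ a ∈ A, a ≠ 1 → ∃! B, B ∈ 𝒜 ∧ a ∈ B) (hk : (𝒜.card - 1).Coprime (Nat.card V)) : ∃ B ∈ 𝒜, V ⊓ Subgroup.centralizer (B : Set G) ≠ ⊥ := by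
  classical
  by_contra hcon
  push Not at hcon
  have : Fintype G := Fintype.ofFinite G
  -- finite set of elements of a subgroup
  let fs : Subgroup G → Finset G := fun B => Finset.univ.filter (· ∈ B)
  have hfs : ∀ (B : Subgroup G) (x : G), x ∈ fs B ↔ x ∈ B := by
    intro B x; simp [fs]
  have key : ∀ v : V, v ^ (𝒜.card - 1) = 1 := by
    intro v
    let g : G → V := fun b => cj V b v
    let Nm : Subgroup G → V := fun B => ∏ b ∈ fs B, g b
    -- Claim 1
    have claim1 : ∀ B : Subgroup G, B ≤ A → ((Nm B : V) : G) ∈ V ⊓ Subgroup.centralizer (B : Set G) := by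
      intro B hBA
      refine Subgroup.mem_inf.mpr ⟨(Nm B).2, ?_⟩
      rw [Subgroup.mem_centralizer_iff]
      intro b₀ hb₀
      have hb₀N : b₀ ∈ Subgroup.normalizer (V : Set G) := hAV (hBA hb₀)
      have h1 : cjHom V b₀ hb₀N (Nm B) = Nm B := by
        show cjHom V b₀ hb₀N (∏ b ∈ fs B, g b) = ∏ b ∈ fs B, g b
        rw [map_prod]
        refine Finset.prod_equiv (Equiv.mulLeft b₀) ?_ ?_
        · intro i
          simp only [hfs, Equiv.coe_mulLeft]
          constructor
          · intro hi; exact mul_mem hb₀ hi
          · intro hi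
            have := mul_mem (inv_mem hb₀) hi
            simpa using this
        · intro i hi
          have hiB : i ∈ B := (hfs B i).mp hi
          have hiN : i ∈ Subgroup.normalizer (V : Set G) := hAV (hBA hiB)
          show cjHom V b₀ hb₀N (cj V i v) = cj V (b₀ * i) v
          rw [cj_eq V i hiN, cj_eq V (b₀ * i) (mul_mem hb₀N hiN), cjHom_cjHom]
      have h2 := congrArg (fun x : V => (x : G)) h1
      simp only [cjHom, MonoidHom.coe_mk, OneHom.coe_mk] at h2
      calc b₀ * (Nm B : G) = b₀ * (Nm B : G) * b₀⁻¹ * b₀ := by group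
        _ = (Nm B : G) * b₀ := by rw [h2]
    have hNmB : ∀ B ∈ 𝒜, Nm B = 1 := by
      intro B hB
      have h := claim1 B (hprop B hB).le
      rw [hcon B hB, Subgroup.mem_bot] at h
      exact Subtype.ext h
    have hNmA : Nm A = 1 := by
      obtain ⟨B₀, hB₀⟩ := hne
      have h := claim1 A le_rfl
      have hle : V ⊓ Subgroup.centralizer (A : Set G) ≤ V ⊓ Subgroup.centralizer (B₀ : Set G) :=
        inf_le_inf_left _ (Subgroup.centralizer_le (hprop B₀ hB₀).le)
      have h' := hle h
      rw [hcon B₀ hB₀, Subgroup.mem_bot] at h'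
      exact Subtype.ext h'
    -- Claim 2
    have claim2 : ∏ B ∈ 𝒜, Nm B = Nm A * v ^ (𝒜.card - 1) := by
      show ∏ B ∈ 𝒜, ∏ b ∈ fs B, g b = (∏ a ∈ fs A, g a) * v ^ (𝒜.card - 1)
      rw [Finset.prod_comm' (s' := fun a => 𝒜.filter (fun B => a ∈ B)) (t' := fs A)]
      · have hcard : ∀ a ∈ fs A, ∏ B ∈ 𝒜.filter (fun B => a ∈ B), g a
            = g a * (if a = 1 then v ^ (𝒜.card - 1) else 1) := by
          intro a ha
          rw [Finset.prod_const]
          by_cases h1 : a = 1
          · subst h1
            have : 𝒜.filter (fun B => (1 : G) ∈ B) = 𝒜 := by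
              apply Finset.filter_true_of_mem
              intro B _; exact one_mem B
            rw [this, if_pos rfl]
            have hg1 : g 1 = v := cj_one V v
            rw [hg1, ← pow_succ']
            congr 1
            have : 0 < 𝒜.card := Finset.card_pos.mpr hne
            omega
          · rw [if_neg h1, mul_one]
            have haA : a ∈ A := (hfs A a).mp ha
            obtain ⟨B, ⟨hB1, hB2⟩, huniq⟩ := hpart a haA h1
            have : 𝒜.filter (fun B => a ∈ B) = {B} := by
              ext C
              simp only [Finset.mem_filter, Finset.mem_singleton]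
              constructor
              · intro hC; exact huniq C hC
              · rintro rfl; exact ⟨hB1, hB2⟩
            rw [this, Finset.card_singleton, pow_one]
        rw [Finset.prod_congr rfl hcard, Finset.prod_mul_distrib]
        congr 1
        rw [Finset.prod_ite_eq' (fs A) 1 (fun _ => v ^ (𝒜.card - 1))]
        rw [if_pos ((hfs A 1).mpr (one_mem A))]
      · intro B b
        simp only [hfs, Finset.mem_filter]
        constructor
        · rintro ⟨hB, hb⟩
          exact ⟨⟨hB, hb⟩, (hprop B hB).le hb⟩
        · rintro ⟨⟨hB, hb⟩, _⟩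
          exact ⟨hB, hb⟩
    rw [hNmA, one_mul, Finset.prod_congr rfl hNmB, Finset.prod_const_one] at claim2
    exact claim2.symm
  apply hV
  rw [Subgroup.eq_bot_iff_forall]
  intro x hx
  have h1 := key ⟨x, hx⟩
  have h2 : (⟨x, hx⟩ : V) ^ Nat.card V = 1 := pow_card_eq_one'
  have h3 : orderOf (⟨x, hx⟩ : V) ∣ 1 := by
    have := Nat.dvd_gcd (orderOf_dvd_of_pow_eq_one h1) (orderOf_dvd_of_pow_eq_one h2)
    rwa [hk.gcd_eq_one] at this
  have h4 : (⟨x, hx⟩ : V) = 1 := orderOf_eq_one_iff.mp (Nat.dvd_one.mp h3)
  exact congrArg Subtype.val h4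

end Cfsg.Agent.S3733
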