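import Cfsg.Statements.S3735
import Mathlib

set_option autoImplicit false
open Cfsg

namespace Cfsg.Agent.S3735

open scoped Pointwise

variable {G : Type*} [Group G]

/-- composition of conjugations -/
theorem conj_comp (x y : G) :
    (MulAut.conj x).toMonoidHom.comp (MulAut.conj y).toMonoidHom = (MulAut.conj (x * y)).toMonoidHom := by
  ext z; simp [mul_assoc]

theorem map_conj_map_conj (X : Subgroup G) (x y : G) :
    (X.map (MulAut.conj y).toMonoidHom).map (MulAut.conj x).toMonoidHom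
      = X.map (MulAut.conj (x * y)).toMonoidHom := by
  rw [Subgroup.map_map, conj_comp]

theorem map_conj_one (X : Subgroup G) : X.map (MulAut.conj (1 : G)).toMonoidHom = X := by
  ext z; simp

/-- if every element of `H` maps `X` into itself under conjugation then `H` normalizes `X`. -/
theorem le_normalizer_of_map_le (H X : Subgroup G)
    (h : ∀ x ∈ H, X.map (MulAut.conj x).toMonoidHom ≤ X) : H ≤ Subgroup.normalizer (X : Set G) := by
  intro m hm
  rw [Subgroup.mem_normalizer_iff_map_conj_eq]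
  apply le_antisymm (h m hm)
  have h1 := h m⁻¹ (H.inv_mem hm)
  have h2 := Subgroup.map_mono (f := (MulAut.conj m).toMonoidHom) h1
  rw [map_conj_map_conj, mul_inv_cancel, map_conj_one] at h2
  exact h2

theorem map_conj_eq_of_mem_normalizer {X : Subgroup G} {x : G}
    (hx : x ∈ Subgroup.normalizer (X : Set G)) : X.map (MulAut.conj x).toMonoidHom = X :=
  Subgroup.mem_normalizer_iff_map_conj_eq.mp hx

/-- Clifford's Theorem for actions on finite abelian groups, first part. Let H and V be subgroups of a finite group with V abelian and H normalizing V, and let A be a normal subgroup of H. If every H-invariant subgroup of V has an H-invariant complement in V, then every A-invariant subgroup of V has an A-invariant complement in V. -/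
theorem result {G : Type*} [Group G] [Finite G] (H A V : Subgroup G) (hVab : IsMulCommutative V) (hHV : H ≤ Subgroup.normalizer (V : Set G)) (hAH : A ≤ H) (hAn : H ≤ Subgroup.normalizer (A : Set G)) (hss : ∀ U : Subgroup G, U ≤ V → H ≤ Subgroup.normalizer (U : Set G) → ∃ W : Subgroup G, W ≤ V ∧ H ≤ Subgroup.normalizer (W : Set G) ∧ U ⊓ W = ⊥ ∧ U ⊔ W = V) (U : Subgroup G) (hUV : U ≤ V) (hAU : A ≤ Subgroup.normalizer (U : Set G)) : ∃ W : Subgroup G, W ≤ V ∧ A ≤ Subgroup.normalizer (W : Set G) ∧ U ⊓ W = ⊥ ∧ U ⊔ W = V := by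
  classical
  -- commutativity in V
  have hcomm : ∀ x ∈ V, ∀ y ∈ V, x * y = y * x := by
    intro x hx y hy
    have := mul_comm' (⟨x, hx⟩ : V) ⟨y, hy⟩
    exact congrArg Subtype.val this
  -- V normalizes its subgroups
  have hVnorm : ∀ X : Subgroup G, X ≤ V → V ≤ Subgroup.normalizer (X : Set G) := by
    intro X hX
    rw [Subgroup.le_normalizer_iff]
    intro v hv x hx
    have : v * x * v⁻¹ = x := by
      rw [hcomm v hv x (hX hx)]; group
    rw [this]; exact hx
  let Inv : Subgroup G → Prop := fun X => A ≤ Subgroup.normalizer (X : Set G)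
  let Irr : Subgroup G → Prop := fun S => S ≤ V ∧ S ≠ ⊥ ∧ Inv S ∧
    ∀ S' : Subgroup G, S' ≤ S → Inv S' → S' = ⊥ ∨ S' = S
  -- conjugation by H preserves Inv
  have hInvConj : ∀ X : Subgroup G, Inv X → ∀ h ∈ H, Inv (X.map (MulAut.conj h).toMonoidHom) := by
    intro X hX h hh
    apply le_normalizer_of_map_le
    intro a ha
    rw [map_conj_map_conj]
    have ha' : h⁻¹ * a * h ∈ A := by
      have := (Subgroup.mem_normalizer_iff''.mp (hAn hh) a).mp ha
      exact this
    have h1 : a * h = h * (h⁻¹ * a * h) := by group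
    rw [h1, ← map_conj_map_conj, map_conj_eq_of_mem_normalizer (hX ha')]
  -- Step 1: existence of irreducibles
  have step1 : ∀ W : Subgroup G, W ≤ V → W ≠ ⊥ → Inv W → ∃ S : Subgroup G, S ≤ W ∧ Irr S := by
    intro W hWV hW1 hWI
    have wf : WellFounded ((· < ·) : Subgroup G → Subgroup G → Prop) := wellFounded_lt
    let 𝒮 : Set (Subgroup G) := {X | X ≤ W ∧ X ≠ ⊥ ∧ Inv X}
    have h𝒮 : 𝒮.Nonempty := ⟨W, le_rfl, hW1, hWI⟩
    have hmem := wf.min_mem 𝒮 h𝒮
    refine ⟨wf.min 𝒮 h𝒮, hmem.1, hmem.1.trans hWV, hmem.2.1, hmem.2.2, ?_⟩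
    intro S' hS' hS'I
    by_cases h : S' = ⊥
    · exact Or.inl h
    · right
      have hS'𝒮 : S' ∈ 𝒮 := ⟨hS'.trans hmem.1, h, hS'I⟩
      have hnlt : ¬ S' < wf.min 𝒮 h𝒮 := wf.not_lt_min 𝒮 hS'𝒮
      exact (eq_or_lt_of_le hS').resolve_right hnlt
  -- Step 2: T = join of irreducibles is H-invariant
  let T : Subgroup G := sSup {S | Irr S}
  have hTV : T ≤ V := sSup_le (fun S hS => hS.1)
  have hIrrConj : ∀ S : Subgroup G, Irr S → ∀ h ∈ H, Irr (S.map (MulAut.conj h).toMonoidHom) := by
    intro S hS h hh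
    refine ⟨?_, ?_, hInvConj S hS.2.2.1 h hh, ?_⟩
    · calc S.map (MulAut.conj h).toMonoidHom ≤ V.map (MulAut.conj h).toMonoidHom :=
            Subgroup.map_mono hS.1
        _ = V := map_conj_eq_of_mem_normalizer (hHV hh)
    · intro h0
      exact hS.2.1 ((Subgroup.map_eq_bot_iff_of_injective S (MulAut.conj h).injective).mp h0)
    · intro S' hS' hS'I
      have h1 : S'.map (MulAut.conj h⁻¹).toMonoidHom ≤ S := by
        have := Subgroup.map_mono (f := (MulAut.conj h⁻¹).toMonoidHom) hS'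
        rwa [map_conj_map_conj, inv_mul_cancel, map_conj_one] at this
      have h2 := hInvConj S' hS'I h⁻¹ (H.inv_mem hh)
      have hback : (S'.map (MulAut.conj h⁻¹).toMonoidHom).map (MulAut.conj h).toMonoidHom = S' := by
        rw [map_conj_map_conj, mul_inv_cancel, map_conj_one]
      rcases hS.2.2.2 _ h1 h2 with h3 | h3
      · left
        rw [← hback, h3, Subgroup.map_bot]
      · right
        rw [← hback, h3]
  have hTH : H ≤ Subgroup.normalizer (T : Set G) := by
    apply le_normalizer_of_map_le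
    intro h hh
    show (sSup {S | Irr S}).map (MulAut.conj h).toMonoidHom ≤ T
    rw [sSup_eq_iSup', Subgroup.map_iSup]
    apply iSup_le
    rintro ⟨S, hS⟩
    exact le_sSup (hIrrConj S hS h hh)
  -- Step 3: T = V
  have hT : T = V := by
    obtain ⟨W, hWV, hWH, hTW, hTWV⟩ := hss T hTV hTH
    have hW : W = ⊥ := by
      by_contra hW1
      obtain ⟨S, hSW, hS⟩ := step1 W hWV hW1 (hAH.trans hWH)
      have hST : S ≤ T := le_sSup hS
      have : S ≤ T ⊓ W := le_inf hST hSW
      rw [hTW, le_bot_iff] at this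
      exact hS.2.1 this
    rw [hW, sup_bot_eq] at hTWV
    exact hTWV
  -- Step 4: maximal complement
  have wf : WellFounded ((· > ·) : Subgroup G → Subgroup G → Prop) := wellFounded_gt
  let 𝒲 : Set (Subgroup G) := {W | W ≤ V ∧ Inv W ∧ U ⊓ W = ⊥}
  have h𝒲 : 𝒲.Nonempty := ⟨⊥, bot_le, by
    show A ≤ Subgroup.normalizer ((⊥ : Subgroup G) : Set G)
    rw [Subgroup.normalizer_eq_top]; exact le_top, inf_bot_eq _⟩
  obtain ⟨hWV, hWI, hUW⟩ := wf.min_mem 𝒲 h𝒲
  set W := wf.min 𝒲 h𝒲 with hWdef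
  refine ⟨W, hWV, hWI, hUW, ?_⟩
  by_contra hne
  have hle : U ⊔ W ≤ V := sup_le hUV hWV
  have hUWI : Inv (U ⊔ W) :=
    (le_inf hAU hWI).trans (Subgroup.normalizer_inf_normalizer_le_normalizer_sup U W)
  -- some irreducible not inside U ⊔ W
  obtain ⟨S, hS, hSnle⟩ : ∃ S, Irr S ∧ ¬ S ≤ U ⊔ W := by
    by_contra hall
    push Not at hall
    apply hne
    apply le_antisymm hle
    rw [← hT]
    exact sSup_le hall
  have hSint : S ⊓ (U ⊔ W) = ⊥ := by
    have hI : Inv (S ⊓ (U ⊔ W)) :=
      (le_inf hS.2.2.1 hUWI).trans Subgroup.inf_normalizer_le_normalizer_inf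
    rcases hS.2.2.2 _ inf_le_left hI with h | h
    · exact h
    · exact absurd (h ▸ inf_le_right) hSnle
  have hW'𝒲 : W ⊔ S ∈ 𝒲 := by
    refine ⟨sup_le hWV hS.1, ?_, ?_⟩
    · exact (le_inf hWI hS.2.2.1).trans (Subgroup.normalizer_inf_normalizer_le_normalizer_sup W S)
    · rw [eq_bot_iff]
      rintro x ⟨hxU, hxWS⟩
      have hSW : S ≤ Subgroup.normalizer (W : Set G) := hS.1.trans (hVnorm W hWV)
      have hset := Subgroup.coe_mul_of_right_le_normalizer_left W S hSW
      have hx' : x ∈ ((W ⊔ S : Subgroup G) : Set G) := hxWS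
      rw [hset] at hx'
      obtain ⟨w, hw, s, hs, rfl⟩ := hx'
      have hsmem : s ∈ S ⊓ (U ⊔ W) := by
        refine ⟨hs, ?_⟩
        have h1 : w⁻¹ ∈ U ⊔ W := (le_sup_right : W ≤ U ⊔ W) (W.inv_mem hw)
        have h2 : w * s ∈ U ⊔ W := (le_sup_left : U ≤ U ⊔ W) hxU
        have := (U ⊔ W).mul_mem h1 h2
        simpa using this
      rw [hSint, Subgroup.mem_bot] at hsmem
      subst hsmem
      have hwU : w ∈ U := by simpa using hxU
      have : w ∈ U ⊓ W := ⟨hwU, hw⟩
      rw [hUW, Subgroup.mem_bot] at this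
      rw [Subgroup.mem_bot, this]
      show (1 : G) * 1 = 1
      rw [one_mul]
  have hlt : W < W ⊔ S := by
    apply lt_of_le_of_ne le_sup_left
    intro heq
    apply hSnle
    calc S ≤ W ⊔ S := le_sup_right
      _ = W := heq.symm
      _ ≤ U ⊔ W := le_sup_right
  exact wf.not_lt_min 𝒲 hW'𝒲 hlt

end Cfsg.Agent.S3735
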