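import Cfsg.Statements.S3736
import Mathlib
import Cfsg.Agent.Lib.Helper24.Coprime
import Cfsg.Agent.Lib.Helper24.Averaging
import Cfsg.Agent.Lib.Helper24.ClassTwo
import Cfsg.Agent.Lib.Helper24.CharSub
import Cfsg.Agent.Lib.Helper2.PGroup

set_option autoImplicit false
open Cfsg

namespace Cfsg.Agent.S3736

open Cfsg.Agent.Helper24
open scoped commutatorElement

/-- The Hall–Higman reduction for a minimal non-trivial action. Let B, A and P be subgroups of a finite group with P a p-group, B normalizing P, and A a normal subgroup of B of order prime to p. Suppose A does not centralize P but centralizes every proper B-invariant subgroup of P. Then [P, A] = P; P is elementary abelian or special; B acts irreducibly on P/Φ(P), that is, the only B-invariant subgroups of P containing Φ(P) are Φ(P) and P; and if p is odd then every element of P has order dividing p. -/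
theorem result {X : Type*} [Group X] [Finite X] {p : ℕ} [Fact p.Prime] (B A P : Subgroup X) (hP : IsPGroup p P) (hBP : B ≤ Subgroup.normalizer (P : Set X)) (hAB : A ≤ B) (hAn : B ≤ Subgroup.normalizer (A : Set X)) (hAp : (Nat.card A).Coprime p) (hnt : ⁅P, A⁆ ≠ ⊥) (hmin : ∀ U : Subgroup X, U < P → B ≤ Subgroup.normalizer (U : Set X) → ⁅U, A⁆ = ⊥) : ⁅P, A⁆ = P ∧ (Cfsg.IsElementaryAbelian p P ∨ Cfsg.IsSpecial p ↥P) ∧ (∀ U : Subgroup X, (frattini ↥P).map P.subtype ≤ U → U ≤ P → B ≤ Subgroup.normalizer (U : Set X) → U = (frattini ↥P).map P.subtype ∨ U = P) ∧ (p ≠ 2 → ∀ x ∈ P, x ^ p = 1) := by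
  classical
  have hpp : p.Prime := Fact.out
  have hAP : A ≤ Subgroup.normalizer (P : Set X) := hAB.trans hBP
  have hcop : (Nat.card A).Coprime (Nat.card P) := by
    obtain ⟨k, hk⟩ := IsPGroup.iff_card.mp hP
    rw [hk]
    exact Nat.Coprime.pow_right k hAp
  -- (1)
  have h1 : ⁅P, A⁆ = P := by
    by_contra hne
    have hle : ⁅P, A⁆ ≤ P := commutator_le_of_le_normalizer P A hAP
    have hlt : ⁅P, A⁆ < P := lt_of_le_of_ne hle hne
    have hBinv : B ≤ Subgroup.normalizer ((⁅P, A⁆ : Subgroup X) : Set X) :=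
      le_normalizer_commutator_of_le hBP hAn
    have h2 := hmin _ hlt hBinv
    exact hnt (commutator_eq_bot_of_coprime P A hAP hcop h2)
  -- a proper B-invariant subgroup lies in [P,P]
  have hkey : ∀ U : Subgroup X, U < P → B ≤ Subgroup.normalizer (U : Set X) → U ≤ ⁅P, P⁆ := by
    intro U hU hBU
    have h2 := hmin U hU hBU
    rw [Subgroup.commutator_eq_bot_iff_le_centralizer] at h2
    have h3 := inf_centralizer_inf_commutator_le P A hAP hcop.symm
    rw [h1] at h3
    intro u hu
    apply h3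
    exact ⟨⟨hU.le hu, h2 hu⟩, hU.le hu⟩
  -- the Frattini subgroup
  set Φ : Subgroup X := (frattini ↥P).map P.subtype with hΦ
  have hΦP : Φ ≤ P := Subgroup.map_subtype_le _
  have hPne : P ≠ ⊥ := by
    intro h
    apply hnt
    rw [h]
    exact Subgroup.commutator_bot_left A
  have hΦne : Φ ≠ P := by
    intro h
    have h2 : frattini ↥P = ⊤ := by
      apply Subgroup.map_injective P.subtype_injective
      rw [← hΦ, h, ← MonoidHom.range_eq_map, P.range_subtype]
    have h3 : (⊥ : Subgroup ↥P) = ⊤ := by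
      apply frattini_nongenerating
      rw [h2]
      exact sup_top_eq _
    apply hPne
    rw [eq_bot_iff]
    intro x hx
    have : (⟨x, hx⟩ : ↥P) ∈ (⊥ : Subgroup ↥P) := by rw [h3]; exact Subgroup.mem_top _
    rw [Subgroup.mem_bot] at this
    exact congrArg Subtype.val this
  have hΦlt : Φ < P := lt_of_le_of_ne hΦP hΦne
  have hNΦ : Subgroup.normalizer (P : Set X) ≤ Subgroup.normalizer (Φ : Set X) :=
    normalizer_le_normalizer_map_subtype_of_characteristic P (frattini ↥P)
  have hBΦ : B ≤ Subgroup.normalizer (Φ : Set X) := hBP.trans hNΦ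
  have hP' : IsPGroup p ↥P := hP
  have hDΦ : ⁅P, P⁆ ≤ Φ := by
    rw [← Subgroup.map_subtype_commutator]
    exact Subgroup.map_mono (Cfsg.Agent.Helper2.commutator_le_frattini hP')
  have hΦA : ⁅Φ, A⁆ = ⊥ := hmin Φ hΦlt hBΦ
  -- Φ is central in P
  have hΦZ : ⁅P, Φ⁆ = ⊥ := by
    have hPNΦ : P ≤ Subgroup.normalizer (Φ : Set X) := Subgroup.le_normalizer.trans hNΦ
    have hΦP' : ⁅Φ, P⁆ ≤ Φ := commutator_le_of_le_normalizer Φ P hPNΦ
    have hcase : ⁅⁅Φ, P⁆, A⁆ = ⊥ := by
      rw [eq_bot_iff, ← hΦA]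
      exact Subgroup.commutator_mono hΦP' le_rfl
    have hAΦ : ⁅⁅A, Φ⁆, P⁆ = ⊥ := by
      rw [Subgroup.commutator_comm A Φ, hΦA]
      exact Subgroup.commutator_bot_left P
    have := Subgroup.commutator_commutator_eq_bot_of_rotate hAΦ hcase
    rw [h1] at this
    exact this
  have hΦcent : Φ ≤ Subgroup.centralizer (P : Set X) := by
    rw [Subgroup.commutator_comm, Subgroup.commutator_eq_bot_iff_le_centralizer] at hΦZ
    exact hΦZ
  -- p-th powers are central and fixed by A
  have hpowΦ : ∀ x ∈ P, x ^ p ∈ Φ := by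
    intro x hx
    have := Cfsg.Agent.Helper2.pow_mem_frattini hP' (⟨x, hx⟩ : ↥P)
    exact ⟨_, this, rfl⟩
  refine ⟨h1, ?_, ?_, ?_⟩
  · -- (2)
    by_cases hab : ⁅P, P⁆ = ⊥
    · left
      have hΦbot : Φ = ⊥ := by
        rw [eq_bot_iff, ← hab]
        exact hkey Φ hΦlt hBΦ
      refine ⟨⟨⟨fun a b => ?_⟩⟩, ?_⟩
      · rw [Subgroup.commutator_eq_bot_iff_le_centralizer] at hab
        apply Subtype.ext
        have := Subgroup.mem_centralizer_iff.mp (hab a.2) b b.2
        exact this.symm
      · intro x hx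
        have := hpowΦ x hx
        rw [hΦbot, Subgroup.mem_bot] at this
        exact this
    · right
      set Z : Subgroup X := (Subgroup.center ↥P).map P.subtype with hZ
      have hZP : Z ≤ P := Subgroup.map_subtype_le _
      have hZmem : ∀ x : X, x ∈ Z ↔ x ∈ P ∧ x ∈ Subgroup.centralizer (P : Set X) := by
        intro x
        constructor
        · rintro ⟨z, hz, rfl⟩
          refine ⟨z.2, ?_⟩
          rw [Subgroup.mem_centralizer_iff]
          intro y hy
          have := Subgroup.mem_center_iff.mp hz ⟨y, hy⟩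
          exact congrArg Subtype.val this
        · rintro ⟨hxP, hxC⟩
          refine ⟨⟨x, hxP⟩, Subgroup.mem_center_iff.mpr ?_, rfl⟩
          intro y
          apply Subtype.ext
          exact Subgroup.mem_centralizer_iff.mp hxC y y.2
      have hZne : Z ≠ P := by
        intro h
        apply hab
        rw [Subgroup.commutator_eq_bot_iff_le_centralizer]
        intro x hx
        have : x ∈ Z := by rw [h]; exact hx
        exact ((hZmem x).mp this).2
      have hBZ : B ≤ Subgroup.normalizer (Z : Set X) :=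
        hBP.trans (normalizer_le_normalizer_map_subtype_of_characteristic P (Subgroup.center ↥P))
      have hZD : Z ≤ ⁅P, P⁆ := hkey Z (lt_of_le_of_ne hZP hZne) hBZ
      have hΦZ' : Φ ≤ Z := fun x hx => (hZmem x).mpr ⟨hΦP hx, hΦcent hx⟩
      have e1 : Φ = Z := le_antisymm hΦZ' (hZD.trans hDΦ)
      have e2 : ⁅P, P⁆ = Z := le_antisymm (hDΦ.trans hΦZ') hZD
      refine ⟨hP', ?_, ?_⟩
      · exact Subgroup.map_injective P.subtype_injective e1
      · apply Subgroup.map_injective P.subtype_injective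
        rw [Subgroup.map_subtype_commutator]
        exact e2
  · -- (3)
    intro U hΦU hUP hBU
    by_cases hUeq : U = P
    · right; exact hUeq
    · left
      have := hkey U (lt_of_le_of_ne hUP hUeq) hBU
      exact le_antisymm (this.trans hDΦ) hΦU
  · -- (4)
    intro hp2
    have hpodd : p ∣ p.choose 2 := by
      have h2 : ¬ p ≤ 2 ∨ p = 2 := by
        by_cases h : p ≤ 2
        · right; exact le_antisymm h hpp.two_le
        · left; exact h
      rcases h2 with h2 | h2
      · exact hpp.dvd_choose_self (by norm_num) (by omega)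
      · exact absurd h2 hp2
    -- commutators of elements of P are central of order p
    have hcc : ∀ x ∈ P, ∀ z ∈ P, z * x * z⁻¹ * x⁻¹ ∈ Subgroup.centralizer (P : Set X) := by
      intro x hx z hz
      apply hΦcent
      apply hDΦ
      have : z * x * z⁻¹ * x⁻¹ = ⁅z, x⁆ := by rw [commutatorElement_def]
      rw [this]
      exact Subgroup.commutator_mem_commutator hz hx
    have hcomm : ∀ x ∈ P, ∀ z ∈ P, ∀ y ∈ P, Commute (z * x * z⁻¹ * x⁻¹) y := by
      intro x hx z hz y hy
      exact (Subgroup.mem_centralizer_iff.mp (hcc x hx z hz) y hy).symm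
    have hcp : ∀ x ∈ P, ∀ z ∈ P, (z * x * z⁻¹ * x⁻¹) ^ p = 1 := by
      intro x hx z hz
      rw [← commutator_pow_left_of_commute x z (hcomm x hx z hz z hz) p]
      have hzp : z ^ p ∈ Subgroup.centralizer (P : Set X) := hΦcent (hpowΦ z hz)
      have := Subgroup.mem_centralizer_iff.mp hzp x hx
      -- this : x * z^p = z^p * x
      rw [← this]
      group
    have hmulpow : ∀ x ∈ P, ∀ z ∈ P, (x * z) ^ p = x ^ p * z ^ p := by
      intro x hx z hz
      rw [mul_pow_of_commutator_commute x z (hcomm x hx z hz x hx) (hcomm x hx z hz z hz) p]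
      obtain ⟨k, hk⟩ := hpodd
      rw [hk, pow_mul, hcp x hx z hz, one_pow, mul_one]
    -- kernel of the p-th power map
    let Ω : Subgroup X :=
      { carrier := {x | x ∈ P ∧ x ^ p = 1}
        one_mem' := ⟨P.one_mem, one_pow p⟩
        mul_mem' := by
          rintro x y ⟨hx, hxp⟩ ⟨hy, hyp⟩
          exact ⟨P.mul_mem hx hy, by rw [hmulpow x hx y hy, hxp, hyp, one_mul]⟩
        inv_mem' := by
          rintro x ⟨hx, hxp⟩
          exact ⟨P.inv_mem hx, by rw [inv_pow, hxp, inv_one]⟩ }
    have hΩ : ⁅P, A⁆ ≤ Ω := by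
      rw [Subgroup.commutator_le]
      intro x hx a ha
      have hy : a * x⁻¹ * a⁻¹ ∈ P :=
        (Subgroup.mem_normalizer_iff.mp (hAP ha) x⁻¹).mp (P.inv_mem hx)
      have hxa : ⁅x, a⁆ = x * (a * x⁻¹ * a⁻¹) := by
        rw [commutatorElement_def]; group
      refine ⟨by rw [hxa]; exact P.mul_mem hx hy, ?_⟩
      rw [hxa, hmulpow x hx _ hy]
      have h3 : (a * x⁻¹ * a⁻¹) ^ p = a * (x ^ p)⁻¹ * a⁻¹ := by
        rw [conj_pow, inv_pow]
      have h4 : a * (x ^ p)⁻¹ = (x ^ p)⁻¹ * a := by
        have hxΦ : (x ^ p)⁻¹ ∈ Φ := Φ.inv_mem (hpowΦ x hx)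
        rw [Subgroup.commutator_eq_bot_iff_le_centralizer] at hΦA
        exact Subgroup.mem_centralizer_iff.mp (hΦA hxΦ) a ha
      rw [h3, h4]
      group
    intro x hx
    have : x ∈ Ω := hΩ (by rw [h1]; exact hx)
    exact this.2

end Cfsg.Agent.S3736
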