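import Cfsg.Statements.S3737
import Cfsg.Agent.Lib.Helper29.OmegaInv

set_option autoImplicit false
open Cfsg

namespace Cfsg.Agent.S3737

/-- Thompson's strengthening of the P × Q lemma for odd primes. Let p be an odd prime and let P, Q and G be subgroups of a finite group with P a p-group, Q of order prime to p and normalized by P, and G a p-group normalized by both P and Q. If every element of G centralized by P is centralized by Q, then Q centralizes G. -/
theorem result {X : Type*} [Group X] [Finite X] {p : ℕ} [Fact p.Prime] (hp : p ≠ 2) (P Q G : Subgroup X) (hP : IsPGroup p P) (hQ : (Nat.card Q).Coprime p) (hPQ : P ≤ Subgroup.normalizer (Q : Set X)) (hG : IsPGroup p G) (hPG : P ≤ Subgroup.normalizer (G : Set X)) (hQG : Q ≤ Subgroup.normalizer (G : Set X)) (hC : G ⊓ Subgroup.centralizer (P : Set X) ≤ Subgroup.centralizer (Q : Set X)) : Q ≤ Subgroup.centralizer (G : Set X) := by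
  classical
  have hpp : p.Prime := Fact.out
  by_contra hcon
  -- minimal invariant subgroup of `G` not centralized by `Q`
  obtain ⟨R, ⟨hRG, hQR, hPR, hQRc⟩, hRmin⟩ := exists_minimal_of_wellFoundedLT
    (fun R : Subgroup X => R ≤ G ∧ Q ≤ Subgroup.normalizer (R : Set X) ∧
      P ≤ Subgroup.normalizer (R : Set X) ∧ ¬ Q ≤ Subgroup.centralizer (R : Set X))
    ⟨G, le_rfl, hQG, hPG, hcon⟩
  have hRp : IsPGroup p R := hG.to_le hRG
  have hmin : ∀ S : Subgroup X, S ≤ R → Q ≤ Subgroup.normalizer (S : Set X) →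
      P ≤ Subgroup.normalizer (S : Set X) → ¬ Q ≤ Subgroup.centralizer (S : Set X) → S = R := by
    intro S hSR h1 h2 h3
    exact le_antisymm hSR (hRmin ⟨hSR.trans hRG, h1, h2, h3⟩ hSR)
  obtain ⟨hc, he⟩ := Cfsg.Agent.Helper29.minimal_structure p hp R Q P hRp hQ hQR hPR hPQ hQRc hmin
  obtain ⟨x, hxR, hx1, hxP, hxQ⟩ :=
    Cfsg.Agent.Helper29.exists_fixed_of_class_two p hp R Q P hc he hQR hPR hPQ hP hQRc
  have hxcen : x ∈ Subgroup.centralizer (P : Set X) := by
    rw [Subgroup.mem_centralizer_iff]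
    intro a ha
    have := hxP a ha
    calc a * x = (a * x * a⁻¹) * a := by group
      _ = x * a := by rw [this]
  have hxQc : x ∈ Subgroup.centralizer (Q : Set X) := hC ⟨hRG hxR, hxcen⟩
  have hQx : ∀ q ∈ Q, q * x * q⁻¹ = x := by
    intro q hq
    have := (Subgroup.mem_centralizer_iff.mp hxQc) q hq
    calc q * x * q⁻¹ = (q * x) * q⁻¹ := rfl
      _ = (x * q) * q⁻¹ := by rw [this]
      _ = x := by group
  have hpow := hxQ hQx
  have hxord : orderOf x = p := orderOf_eq_prime (he x hxR) hx1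
  have hdvd : orderOf x ∣ Nat.card Q := orderOf_dvd_of_pow_eq_one hpow
  rw [hxord] at hdvd
  have : p ∣ Nat.gcd (Nat.card Q) p := Nat.dvd_gcd hdvd dvd_rfl
  rw [hQ] at this
  exact hpp.one_lt.ne' (Nat.dvd_one.mp this)

end Cfsg.Agent.S3737
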