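import Cfsg.Statements.S3739
import Cfsg.Agent.Lib.Helper48.RankTwoSix

set_option autoImplicit false
open Cfsg

namespace Cfsg.Agent.S3739

/-- Let G be a finite group with C_G(O₂(G)) ≤ O₂(G) containing an element of order 6, and let d be a non-identity 3-element of G normalizing a nontrivial elementary abelian 2-subgroup W with C_W(d) = 1. Then G has an elementary abelian subgroup of order 8. -/
theorem result {G : Type*} [Group G] [Finite G] (hchar : Subgroup.centralizer (Cfsg.pCore 2 G : Set G) ≤ Cfsg.pCore 2 G) (hsix : ∃ g : G, orderOf g = 6) (d : G) (hd1 : d ≠ 1) (hd : IsPGroup 3 ↥(Subgroup.zpowers d)) (W : Subgroup G) (hW : Cfsg.IsElementaryAbelian 2 W) (hW1 : W ≠ ⊥) (hdW : d ∈ Subgroup.normalizer (W : Set G)) (hfpf : W ⊓ Subgroup.centralizer {d} = ⊥) : ∃ E : Subgroup G, Cfsg.IsElementaryAbelian 2 E ∧ Nat.card E = 8 := by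
  by_contra hno
  have : Fact (Nat.Prime 2) := ⟨Nat.prime_two⟩
  -- "2-rank at most two"
  have hsmall : Cfsg.Agent.Helper48.SmallRank G := by
    intro E hEc hE2
    by_contra hlt
    push Not at hlt
    have hEp : IsPGroup 2 E := by
      intro x
      exact ⟨1, Subtype.ext (by simpa using hE2 x x.2)⟩
    obtain ⟨k, hk⟩ := IsPGroup.iff_card.1 hEp
    have hk3 : 3 ≤ k := by
      by_contra h
      push Not at h
      have : 2 ^ k ≤ 2 ^ 2 := Nat.pow_le_pow_right (by norm_num) (by omega)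
      omega
    obtain ⟨E', hE'⟩ := Sylow.exists_subgroup_card_pow_prime (G := ↥E) 2 (n := 3)
      (by rw [hk]; exact pow_dvd_pow 2 hk3)
    apply hno
    refine ⟨E'.map E.subtype, ⟨⟨⟨?_⟩⟩, ?_⟩, ?_⟩
    · rintro ⟨_, a, ha, rfl⟩ ⟨_, b, hb, rfl⟩
      apply Subtype.ext
      exact hEc _ a.2 _ b.2
    · rintro _ ⟨a, ha, rfl⟩
      exact hE2 _ a.2
    · rw [Subgroup.card_map_of_injective E.subtype_injective, hE']
      norm_num
  obtain ⟨g, hg⟩ := hsix
  have hWc : ∀ a ∈ W, ∀ b ∈ W, a * b = b * a := by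
    intro a ha b hb
    have := hW.1.is_comm.comm ⟨a, ha⟩ ⟨b, hb⟩
    exact congrArg Subtype.val this
  exact Cfsg.Agent.Helper48.rank_two_six_false hsmall hchar g hg d hd1 hd W hWc hW.2 hW1 hdW hfpf

end Cfsg.Agent.S3739
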