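import Cfsg.Statements.S3741
import Mathlib
import Cfsg.Agent.Lib.Helper62.FittingMin

set_option autoImplicit false
open Cfsg

namespace Cfsg.Agent.S3741

open Cfsg.Agent.Helper62
open scoped commutatorElement

theorem arith (a b x y p : ℕ) (hp : 2 ≤ p) (hxle : x ≤ a) (hyle : y ≤ b)
    (heq : x * b * p + (a - x) * b = y * a * p + (b - y) * a) : x * b = y * a := by
  obtain ⟨u, rfl⟩ := Nat.exists_eq_add_of_le hxle
  obtain ⟨v, rfl⟩ := Nat.exists_eq_add_of_le hyle
  simp only [Nat.add_sub_cancel_left] at heq
  obtain ⟨q, rfl⟩ : ∃ q, p = q + 2 := ⟨p - 2, by omega⟩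
  have h : (x * v) * (q + 1) = (y * u) * (q + 1) := by nlinarith [heq]
  have h2 : x * v = y * u := Nat.eq_of_mul_eq_mul_right (Nat.succ_pos q) h
  nlinarith [h2]

variable {G : Type*} [Group G]

theorem left_le_normalizer_commutator (A B : Subgroup G) :
    A ≤ Subgroup.normalizer ((⁅A, B⁆ : Subgroup G) : Set G) := by
  rw [Subgroup.commutator_def, Subgroup.le_normalizer_closure_iff]
  rintro a ha _ ⟨a', ha', b, hb, rfl⟩
  have h1 : a * ⁅a', b⁆ * a⁻¹ = ⁅a * a', b⁆ * ⁅a, b⁆⁻¹ := by
    simp only [commutatorElement_def]; group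
  rw [h1, ← Subgroup.commutator_def]
  exact Subgroup.mul_mem _ (Subgroup.commutator_mem_commutator (A.mul_mem ha ha') hb)
    (Subgroup.inv_mem _ (Subgroup.commutator_mem_commutator ha hb))

theorem right_le_normalizer_commutator (A B : Subgroup G) :
    B ≤ Subgroup.normalizer ((⁅A, B⁆ : Subgroup G) : Set G) := by
  rw [Subgroup.commutator_comm]
  exact left_le_normalizer_commutator B A

/-- a subgroup of prime order `p` normalized by a finite `p`-group `L` containing it is central in `L`. -/
theorem central_of_card_prime [Finite G] {p : ℕ} [hp : Fact p.Prime] (hG : IsPGroup p G)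
    (L Z : Subgroup G) (hZL : Z ≤ L) (hLZ : L ≤ Subgroup.normalizer (Z : Set G))
    (hZ : Nat.card Z = p) : ∀ z ∈ Z, ∀ x ∈ L, x * z = z * x := by
  have hZn : (Z.subgroupOf L).Normal := (Subgroup.normal_subgroupOf_iff_le_normalizer hZL).mpr hLZ
  have hLp : IsPGroup p L := hG.to_subgroup L
  have hLnil : Group.IsNilpotent L := hLp.isNilpotent
  have hcard : Nat.card (Z.subgroupOf L) = p := by
    rw [← hZ]
    exact Nat.card_congr (Subgroup.subgroupOfEquivOfLe hZL).toEquiv
  have hne : Z.subgroupOf L ≠ ⊥ := by
    intro h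
    rw [h, Subgroup.card_bot] at hcard
    exact hp.out.one_lt.ne hcard
  have h1 := normal_inf_center_ne_bot (Z.subgroupOf L) hne
  -- subgroups of a group of prime order
  have h2 : Z.subgroupOf L ⊓ Subgroup.center L = Z.subgroupOf L := by
    have : Fact (Nat.card (Z.subgroupOf L)).Prime := ⟨by rw [hcard]; exact hp.out⟩
    have h3 := Subgroup.eq_bot_or_eq_top_of_prime_card
      ((Z.subgroupOf L ⊓ Subgroup.center L).subgroupOf (Z.subgroupOf L))
    rcases h3 with h3 | h3
    · exfalso
      apply h1
      rw [Subgroup.subgroupOf_eq_bot] at h3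
      have : Z.subgroupOf L ⊓ Subgroup.center L ⊓ Z.subgroupOf L = ⊥ := disjoint_iff.mp h3
      rw [inf_comm, ← inf_assoc, inf_idem] at this
      exact this
    · rw [Subgroup.subgroupOf_eq_top] at h3
      exact le_antisymm inf_le_left h3
  intro z hz x hx
  have hzc : (⟨z, hZL hz⟩ : L) ∈ Subgroup.center L := by
    have : (⟨z, hZL hz⟩ : L) ∈ Z.subgroupOf L ⊓ Subgroup.center L := by
      rw [h2]; exact Subgroup.mem_subgroupOf.mpr hz
    exact this.2
  have := Subgroup.mem_center_iff.mp hzc ⟨x, hx⟩
  exact congrArg Subtype.val this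

/-- counting centralizers -/
theorem count_lemma [Finite G] {p : ℕ} [hp : Fact p.Prime] (hG : IsPGroup p G)
    (A B : Subgroup G) (hAB : ⁅A, B⁆ ≤ A ⊓ B) (hZ : Nat.card ↥⁅A, B⁆ = p) :
    ∀ a ∈ A, a ∉ Subgroup.centralizer (B : Set G) →
      Nat.card ↥(B ⊓ Subgroup.centralizer {a}) * p = Nat.card B := by
  intro a ha hac
  have hcen := central_of_card_prime hG (A ⊔ B) ⁅A, B⁆ (hAB.trans (inf_le_left.trans le_sup_left))
    (sup_le (left_le_normalizer_commutator A B) (right_le_normalizer_commutator A B)) hZ
  -- the hom b ↦ ⁅a, b⁆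
  let f : B →* (⁅A, B⁆ : Subgroup G) :=
    { toFun := fun b => ⟨⁅a, (b : G)⁆, Subgroup.commutator_mem_commutator ha b.2⟩
      map_one' := by ext; simp
      map_mul' := by
        intro b b'
        ext
        simp only [Subgroup.coe_mul]
        have h1 := hcen ⁅a, (b' : G)⁆ (Subgroup.commutator_mem_commutator ha b'.2) (b : G)
          ((le_sup_right : B ≤ A ⊔ B) b.2)
        have h2 : ⁅a, (b : G) * b'⁆ = ⁅a, (b : G)⁆ * ((b : G) * ⁅a, (b' : G)⁆ * (b : G)⁻¹) := by
          simp only [commutatorElement_def]; group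
        rw [h2, h1]; group }
  have hker : f.ker = (B ⊓ Subgroup.centralizer {a}).subgroupOf B := by
    ext b
    rw [MonoidHom.mem_ker, Subgroup.mem_subgroupOf, Subgroup.mem_inf]
    constructor
    · intro h
      refine ⟨b.2, ?_⟩
      rw [Subgroup.mem_centralizer_iff]
      intro x hx
      rw [Set.mem_singleton_iff] at hx
      rw [hx]
      have h1 : ⁅a, (b : G)⁆ = 1 := congrArg Subtype.val h
      rw [commutatorElement_eq_one_iff_mul_comm] at h1
      exact h1
    · rintro ⟨_, h⟩
      rw [Subgroup.mem_centralizer_iff] at h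
      have h1 := h a rfl
      apply Subtype.ext
      show ⁅a, (b : G)⁆ = 1
      rw [commutatorElement_eq_one_iff_mul_comm]
      exact h1
  have hrange : f.range = ⊤ := by
    have : Fact (Nat.card (⁅A, B⁆ : Subgroup G)).Prime := ⟨by rw [hZ]; exact hp.out⟩
    rcases Subgroup.eq_bot_or_eq_top_of_prime_card f.range with h | h
    · exfalso
      apply hac
      rw [Subgroup.mem_centralizer_iff]
      intro b hb
      have : f ⟨b, hb⟩ ∈ f.range := ⟨_, rfl⟩
      rw [h, Subgroup.mem_bot] at this
      have h1 : ⁅a, b⁆ = 1 := congrArg Subtype.val this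
      rw [commutatorElement_eq_one_iff_mul_comm] at h1
      exact h1.symm
    · exact h
  have h1 := Subgroup.card_mul_index f.ker
  rw [Subgroup.index_ker, hrange, Subgroup.card_top, hZ, hker] at h1
  rw [← h1]
  congr 1
  exact (Nat.card_congr (Subgroup.subgroupOfEquivOfLe (inf_le_left : B ⊓ Subgroup.centralizer {a} ≤ B)).toEquiv).symm

/-- Let A and B be subgroups of a finite p-group with [A, B] ≤ A ∩ B and [A, B] of order at most p. Then |A : C_A(B)| = |B : C_B(A)|. -/
theorem result {G : Type*} [Group G] [Finite G] {p : ℕ} [Fact p.Prime] (hG : IsPGroup p G) (A B : Subgroup G) (hAB : ⁅A, B⁆ ≤ A ⊓ B) (hcard : Nat.card ↥⁅A, B⁆ ≤ p) : (A ⊓ Subgroup.centralizer (B : Set G)).relIndex A = (B ⊓ Subgroup.centralizer (A : Set G)).relIndex B := by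
  classical
  have hp : p.Prime := Fact.out
  by_cases hZ1 : ⁅A, B⁆ = ⊥
  · have h1 : A ≤ Subgroup.centralizer (B : Set G) := Subgroup.commutator_eq_bot_iff_le_centralizer.mp hZ1
    have h2 : B ≤ Subgroup.centralizer (A : Set G) := Subgroup.le_centralizer_iff.mp h1
    rw [inf_eq_left.mpr h1, inf_eq_left.mpr h2, Subgroup.relIndex_self, Subgroup.relIndex_self]
  have hZ : Nat.card ↥⁅A, B⁆ = p := by
    obtain ⟨k, hk⟩ := IsPGroup.iff_card.mp (hG.to_subgroup ⁅A, B⁆)
    rcases k with _ | _ | k
    · exfalso
      rw [pow_zero] at hk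
      exact hZ1 (Subgroup.card_eq_one.mp hk)
    · rw [hk]; simp
    · exfalso
      have h1 : p ^ 2 ≤ p ^ (k + 1 + 1) := Nat.pow_le_pow_right hp.pos (by omega)
      have h2 : p < p ^ 2 := by nlinarith [hp.two_le]
      rw [hk] at hcard; omega
  have hBA : ⁅B, A⁆ ≤ B ⊓ A := by rw [Subgroup.commutator_comm, inf_comm]; exact hAB
  have hZ' : Nat.card ↥⁅B, A⁆ = p := by rw [Subgroup.commutator_comm]; exact hZ
  have cA := count_lemma hG A B hAB hZ
  have cB := count_lemma hG B A hBA hZ'
  have : Fintype G := Fintype.ofFinite G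
  let FA : Finset G := Finset.univ.filter (· ∈ A)
  let FB : Finset G := Finset.univ.filter (· ∈ B)
  have hdc := Finset.sum_card_bipartiteAbove_eq_sum_card_bipartiteBelow (s := FA) (t := FB)
    (fun a b : G => a * b = b * a)
  -- cardinalities
  have hFA : FA.card = Nat.card A := by
    rw [Nat.card_eq_fintype_card, Fintype.card_subtype]
  have hFB : FB.card = Nat.card B := by
    rw [Nat.card_eq_fintype_card, Fintype.card_subtype]
  have habove : ∀ a : G, (FB.bipartiteAbove (fun a b : G => a * b = b * a) a).card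
      = Nat.card ↥(B ⊓ Subgroup.centralizer {a}) := by
    intro a
    rw [Nat.card_eq_fintype_card, Fintype.card_subtype]
    congr 1
    ext b
    simp only [Finset.mem_bipartiteAbove, FB, Finset.mem_filter, Finset.mem_univ, true_and,
      Subgroup.mem_inf, Subgroup.mem_centralizer_iff, Set.mem_singleton_iff, forall_eq]
  have hbelow : ∀ b : G, (FA.bipartiteBelow (fun a b : G => a * b = b * a) b).card
      = Nat.card ↥(A ⊓ Subgroup.centralizer {b}) := by
    intro b
    rw [Nat.card_eq_fintype_card, Fintype.card_subtype]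
    congr 1
    ext a
    simp only [Finset.mem_bipartiteBelow, FA, Finset.mem_filter, Finset.mem_univ, true_and,
      Subgroup.mem_inf, Subgroup.mem_centralizer_iff, Set.mem_singleton_iff, forall_eq]
    constructor
    · rintro ⟨h1, h2⟩; exact ⟨h1, h2.symm⟩
    · rintro ⟨h1, h2⟩; exact ⟨h1, h2.symm⟩
  simp only [habove, hbelow] at hdc
  -- abbreviations
  set a := Nat.card A with ha_def
  set b := Nat.card B with hb_def
  set x := Nat.card ↥(A ⊓ Subgroup.centralizer (B : Set G)) with hx_def
  set y := Nat.card ↥(B ⊓ Subgroup.centralizer (A : Set G)) with hy_def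
  -- evaluate the left sum times p
  have hsumA : (∑ a' ∈ FA, Nat.card ↥(B ⊓ Subgroup.centralizer {a'})) * p
      = x * b * p + (a - x) * b := by
    rw [Finset.sum_mul]
    have hterm : ∀ a' ∈ FA, Nat.card ↥(B ⊓ Subgroup.centralizer {a'}) * p
        = if a' ∈ Subgroup.centralizer (B : Set G) then b * p else b := by
      intro a' ha'
      have ha'A : a' ∈ A := (Finset.mem_filter.mp ha').2
      split_ifs with h
      · have : B ⊓ Subgroup.centralizer {a'} = B := by
          apply inf_eq_left.mpr
          intro b' hb'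
          rw [Subgroup.mem_centralizer_iff]
          intro x hx
          rw [Set.mem_singleton_iff] at hx
          rw [hx]
          rw [Subgroup.mem_centralizer_iff] at h
          exact (h b' hb').symm
        rw [this]
      · exact cA a' ha'A h
    rw [Finset.sum_congr rfl hterm, Finset.sum_ite, Finset.sum_const, Finset.sum_const]
    have hc1 : (FA.filter (fun a' => a' ∈ Subgroup.centralizer (B : Set G))).card = x := by
      rw [hx_def, Nat.card_eq_fintype_card, Fintype.card_subtype]
      congr 1
      ext g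
      simp only [FA, Finset.mem_filter, Finset.mem_univ, true_and, Subgroup.mem_inf]
    have hc2 : (FA.filter (fun a' => ¬ a' ∈ Subgroup.centralizer (B : Set G))).card = a - x := by
      have := Finset.card_filter_add_card_filter_not (s := FA)
        (fun a' => a' ∈ Subgroup.centralizer (B : Set G))
      rw [hc1, hFA] at this
      omega
    rw [hc1, hc2, smul_eq_mul, smul_eq_mul]
    ring
  have hsumB : (∑ b' ∈ FB, Nat.card ↥(A ⊓ Subgroup.centralizer {b'})) * p
      = y * a * p + (b - y) * a := by
    rw [Finset.sum_mul]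
    have hterm : ∀ b' ∈ FB, Nat.card ↥(A ⊓ Subgroup.centralizer {b'}) * p
        = if b' ∈ Subgroup.centralizer (A : Set G) then a * p else a := by
      intro b' hb'
      have hb'B : b' ∈ B := (Finset.mem_filter.mp hb').2
      split_ifs with h
      · have : A ⊓ Subgroup.centralizer {b'} = A := by
          apply inf_eq_left.mpr
          intro a' ha'
          rw [Subgroup.mem_centralizer_iff]
          intro x hx
          rw [Set.mem_singleton_iff] at hx
          rw [hx]
          rw [Subgroup.mem_centralizer_iff] at h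
          exact (h a' ha').symm
        rw [this]
      · exact cB b' hb'B h
    rw [Finset.sum_congr rfl hterm, Finset.sum_ite, Finset.sum_const, Finset.sum_const]
    have hc1 : (FB.filter (fun b' => b' ∈ Subgroup.centralizer (A : Set G))).card = y := by
      rw [hy_def, Nat.card_eq_fintype_card, Fintype.card_subtype]
      congr 1
      ext g
      simp only [FB, Finset.mem_filter, Finset.mem_univ, true_and, Subgroup.mem_inf]
    have hc2 : (FB.filter (fun b' => ¬ b' ∈ Subgroup.centralizer (A : Set G))).card = b - y := by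
      have := Finset.card_filter_add_card_filter_not (s := FB)
        (fun b' => b' ∈ Subgroup.centralizer (A : Set G))
      rw [hc1, hFB] at this
      omega
    rw [hc1, hc2, smul_eq_mul, smul_eq_mul]
    ring
  have heq : x * b * p + (a - x) * b = y * a * p + (b - y) * a := by
    rw [← hsumA, ← hsumB, hdc]
  -- divisibility facts
  have hxa : x ∣ a := Subgroup.card_dvd_of_le inf_le_left
  have hyb : y ∣ b := Subgroup.card_dvd_of_le inf_le_left
  have hxpos : 0 < x := Nat.card_pos
  have hypos : 0 < y := Nat.card_pos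
  have hri1 : (A ⊓ Subgroup.centralizer (B : Set G)).relIndex A * x = a := by
    have := Subgroup.relIndex_mul_relIndex (⊥ : Subgroup G) (A ⊓ Subgroup.centralizer (B : Set G)) A
      bot_le inf_le_left
    rw [Subgroup.relIndex_bot_left, Subgroup.relIndex_bot_left] at this
    rw [mul_comm]; exact this
  have hri2 : (B ⊓ Subgroup.centralizer (A : Set G)).relIndex B * y = b := by
    have := Subgroup.relIndex_mul_relIndex (⊥ : Subgroup G) (B ⊓ Subgroup.centralizer (A : Set G)) B
      bot_le inf_le_left
    rw [Subgroup.relIndex_bot_left, Subgroup.relIndex_bot_left] at this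
    rw [mul_comm]; exact this
  set i := (A ⊓ Subgroup.centralizer (B : Set G)).relIndex A with hi_def
  set j := (B ⊓ Subgroup.centralizer (A : Set G)).relIndex B with hj_def
  have hxle : x ≤ a := Nat.le_of_dvd Nat.card_pos hxa
  have hyle : y ≤ b := Nat.le_of_dvd Nat.card_pos hyb
  -- from heq: x*b = y*a
  have key : x * b = y * a := arith a b x y p hp.two_le hxle hyle heq
  rw [← hri1, ← hri2] at key
  have h3 : x * y * j = x * y * i := by
    calc x * y * j = x * (j * y) := by ring
      _ = y * (i * x) := key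
      _ = x * y * i := by ring
  exact (Nat.eq_of_mul_eq_mul_left (Nat.mul_pos hxpos hypos) h3).symm

end Cfsg.Agent.S3741
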