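import Cfsg.Statements.S3744
import Mathlib
import Cfsg.Agent.Lib.Helper62.PCompl

set_option autoImplicit false
open Cfsg

namespace Cfsg.Agent.S3744

open Cfsg.Agent.Helper62

/-- A finite p-soluble group has a p-complement, all its p-complements are conjugate, and every subgroup of order prime to p lies in one of them. Here a p-complement is a subgroup of order prime to p whose index is a power of p. -/
theorem result {G : Type*} [Group G] [Finite G] {p : ℕ} [Fact p.Prime] (hG : Cfsg.IsPSolvable p G) : (∃ H : Subgroup G, (Nat.card H).Coprime p ∧ ∃ n : ℕ, H.index = p ^ n) ∧ (∀ H₁ H₂ : Subgroup G, (Nat.card H₁).Coprime p → (∃ n : ℕ, H₁.index = p ^ n) → (Nat.card H₂).Coprime p → (∃ n : ℕ, H₂.index = p ^ n) → ∃ g : G, H₂ = H₁.map (MulAut.conj g).toMonoidHom) ∧ (∀ U : Subgroup G, (Nat.card U).Coprime p → ∃ H : Subgroup G, (Nat.card H).Coprime p ∧ (∃ n : ℕ, H.index = p ^ n) ∧ ∃ g : G, U.map (MulAut.conj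 g).toMonoidHom ≤ H) := by
  obtain ⟨n, H, h0, hlast, hmono, hnorm, hfac⟩ := hG
  obtain ⟨H₀, hH₀, hdom⟩ := hasDom_of_chain (p := p) n G H h0 hlast hmono hnorm hfac
  refine ⟨⟨H₀, hH₀.1, hH₀.2⟩, ?_, ?_⟩
  · intro H₁ H₂ c1 i1 c2 i2
    have key : ∀ X : Subgroup G, IsPCompl p X → ∃ g : G, X = cj g H₀ := by
      intro X hX
      obtain ⟨g, hg⟩ := hdom X hX.1
      refine ⟨g, Subgroup.eq_of_le_of_card_ge hg ?_⟩
      rw [card_cj]
      exact le_of_eq (IsPCompl.card_eq hH₀ hX)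
    obtain ⟨a, ha⟩ := key H₁ ⟨c1, i1⟩
    obtain ⟨b, hb⟩ := key H₂ ⟨c2, i2⟩
    refine ⟨b * a⁻¹, ?_⟩
    show H₂ = cj (b * a⁻¹) H₁
    rw [ha, hb, cj_cj, mul_assoc, inv_mul_cancel, mul_one]
  · intro U hU
    obtain ⟨g, hg⟩ := hdom U hU
    refine ⟨H₀, hH₀.1, hH₀.2, g⁻¹, ?_⟩
    exact le_cj_iff.mp hg

end Cfsg.Agent.S3744
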