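import Cfsg.Statements.S3745
import Mathlib
import Cfsg.Agent.Lib.Helper52.CoprimeHall

set_option autoImplicit false
open Cfsg

namespace Cfsg.Agent.S3745

open Cfsg.Agent.Helper52 in
/-- Coprime action on a solvable group and Hall subgroups. Let A and G be subgroups of a finite group with A normalizing G, the orders of A and G coprime, and G solvable, and let π be a set of primes. Then (a) G has an A-invariant Hall π-subgroup; (b) any two A-invariant Hall π-subgroups of G are conjugate by an element of C_G(A); (c) every A-invariant π-subgroup of G lies in an A-invariant Hall π-subgroup of G. -/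
theorem result {X : Type*} [Group X] [Finite X] (A G : Subgroup X) (hAG : A ≤ Subgroup.normalizer (G : Set X)) (hcop : (Nat.card A).Coprime (Nat.card G)) (hsolv : Group.IsSolvable G) (π : Set ℕ) : (∃ H : Subgroup X, Cfsg.IsPiHallOf π H G ∧ A ≤ Subgroup.normalizer (H : Set X)) ∧ (∀ H₁ H₂ : Subgroup X, Cfsg.IsPiHallOf π H₁ G → A ≤ Subgroup.normalizer (H₁ : Set X) → Cfsg.IsPiHallOf π H₂ G → A ≤ Subgroup.normalizer (H₂ : Set X) → ∃ c ∈ G ⊓ Subgroup.centralizer (A : Set X), H₂ = H₁.map (MulAut.conj c).toMonoidHom) ∧ (∀ U : Subgroup X, U ≤ G → A ≤ Subgroup.normalizer (U : Set X) → (∀ p : ℕ, p.Prime → p ∣ Nat.card U → p ∈ π) → ∃ H : Subgroup X, Cfsg.IsPiHallOf π H G ∧ A ≤ Subgroup.normalizer (H : Set X) ∧ U ≤ H) := by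
  have hG0 : Nat.card G ≠ 0 := Nat.card_pos.ne'
  set m := piPart π (Nat.card G) with hm
  set n := piPrimePart π (Nat.card G) with hn
  have hmn : Nat.card G = m * n := (piPart_mul_piPrimePart π hG0).symm
  have hcopmn : m.Coprime n := piPart_coprime π (Nat.card G)
  refine ⟨?_, ?_, ?_⟩
  · obtain ⟨H, hHG, hHc, hAH⟩ := exists_invariant_hall A G hAG hcop hsolv m n hmn hcopmn
    exact ⟨H, (isPiHallOf_iff_card π H G).mpr ⟨hHG, hHc⟩, hAH⟩
  · intro H₁ H₂ h1 hA1 h2 hA2
    obtain ⟨hle1, hc1⟩ := (isPiHallOf_iff_card π H₁ G).mp h1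
    obtain ⟨hle2, hc2⟩ := (isPiHallOf_iff_card π H₂ G).mp h2
    exact exists_centralizer_conj_hall A G hAG hcop hsolv m n hmn hcopmn H₁ H₂ hle1 hle2 hc1 hc2
      hA1 hA2
  · intro U hUG hAU hUπ
    have hUn : (Nat.card U).Coprime n := by
      apply Nat.coprime_of_dvd
      intro k hk h1 h2
      exact not_mem_of_prime_dvd_piPrimePart π hk h2 (hUπ k hk h1)
    obtain ⟨Q, hQG, hQc, hUQ, hAQ⟩ :=
      exists_invariant_hall_ge A G U hAG hcop hsolv m n hmn hcopmn hUG hAU hUn
    exact ⟨Q, (isPiHallOf_iff_card π Q G).mpr ⟨hQG, hQc⟩, hAQ, hUQ⟩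

end Cfsg.Agent.S3745
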