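import Cfsg.Statements.S3746
import Mathlib
import Cfsg.Agent.Lib.Helper21.PComponents
import Cfsg.Agent.Lib.Helper21.Layer
-- import your own Cfsg.Agent.* helpers here

set_option autoImplicit false
open Cfsg

namespace Cfsg.Agent.S3746

open scoped commutatorElement

theorem comm_mul_central_left {G : Type*} [Group G] (a z y : G) (hz : ∀ g : G, g * z = z * g) :
    ⁅a * z, y⁆ = ⁅a, y⁆ := by
  rw [commutatorElement_def, commutatorElement_def, mul_inv_rev]
  calc a * z * y * (z⁻¹ * a⁻¹) * y⁻¹ = a * (z * y) * z⁻¹ * a⁻¹ * y⁻¹ := by group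
    _ = a * (y * z) * z⁻¹ * a⁻¹ * y⁻¹ := by rw [hz y]
    _ = a * y * a⁻¹ * y⁻¹ := by group

theorem comm_mul_central_right {G : Type*} [Group G] (x c z : G) (hz : ∀ g : G, g * z = z * g) :
    ⁅x, c * z⁆ = ⁅x, c⁆ := by
  rw [commutatorElement_def, commutatorElement_def, mul_inv_rev]
  calc x * (c * z) * x⁻¹ * (z⁻¹ * c⁻¹) = x * c * (z * x⁻¹) * z⁻¹ * c⁻¹ := by group
    _ = x * c * (x⁻¹ * z) * z⁻¹ * c⁻¹ := by rw [hz x⁻¹]
    _ = x * c * x⁻¹ * c⁻¹ := by group

theorem commutator_sup_central {G : Type*} [Group G] (D Z : Subgroup G)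
    (hZ : Z ≤ Subgroup.center G) : ⁅D ⊔ Z, D ⊔ Z⁆ ≤ ⁅D, D⁆ := by
  have hZc : Z ≤ Subgroup.centralizer (D : Set G) := by
    intro z hz
    exact Subgroup.center_le_centralizer _ (hZ hz)
  rw [Subgroup.commutator_le]
  intro x hx y hy
  obtain ⟨a, ha, b, hb, rfl⟩ := Cfsg.Agent.Helper21.mem_sup_of_le_centralizer hZc hx
  obtain ⟨c, hc, d, hd, rfl⟩ := Cfsg.Agent.Helper21.mem_sup_of_le_centralizer hZc hy
  have hb' := Subgroup.mem_center_iff.1 (hZ hb)
  have hd' := Subgroup.mem_center_iff.1 (hZ hd)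
  rw [comm_mul_central_left a b _ hb', comm_mul_central_right a c d hd']
  exact Subgroup.commutator_mem_commutator ha hc

/-- Let Z ≤ Z(G) be a central subgroup of a finite group G and E a subgroup of G containing Z whose image E/Z is a component of G/Z (subnormal and quasisimple). Then the derived subgroup [E, E] is a component of G. -/
theorem result {G : Type*} [Group G] [Finite G] (Z : Subgroup G) (hZ : Z ≤ Subgroup.center G) [Z.Normal] (E : Subgroup G) (hZE : Z ≤ E) (hE : Cfsg.IsComponent (E.map (QuotientGroup.mk' Z))) : Cfsg.IsComponent ⁅E, E⁆ := by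
  obtain ⟨hsn, hqs⟩ := hE
  set π := QuotientGroup.mk' Z with hπ
  have hker : π.ker = Z := QuotientGroup.ker_mk' Z
  have hEc : (E.map π).comap π = E := by
    rw [Subgroup.comap_map_eq, hker]; exact sup_eq_left.2 hZE
  have hEsn : E.IsSubnormal := by rw [← hEc]; exact hsn.comap π
  have hDsn : (⁅E, E⁆ : Subgroup G).IsSubnormal := by
    rw [← Subgroup.map_subtype_commutator]
    exact Subgroup.IsSubnormal.trans' (Subgroup.Normal.isSubnormal inferInstance) hEsn
  have hDE : ⁅E, E⁆ ≤ E := by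
    rw [← Subgroup.map_subtype_commutator]; exact Subgroup.map_subtype_le _
  -- image of D
  have hperf : Group.IsPerfect ↥(E.map π) := hqs.1
  have hmapD : (⁅E, E⁆ : Subgroup G).map π = E.map π := by
    rw [Subgroup.map_commutator]
    exact Subgroup.isPerfect_iff.1 hperf
  have hEDZ : E = ⁅E, E⁆ ⊔ Z := by
    conv_lhs => rw [← hEc, ← hmapD, Subgroup.comap_map_eq, hker]
  have hDD : ⁅(⁅E, E⁆ : Subgroup G), ⁅E, E⁆⁆ = ⁅E, E⁆ := by
    apply le_antisymm
    · exact Subgroup.commutator_mono hDE hDE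
    · conv_lhs => rw [hEDZ]
      exact commutator_sup_central _ _ hZ
  have hDperf : Group.IsPerfect ↥(⁅E, E⁆ : Subgroup G) := Subgroup.isPerfect_iff.2 hDD
  refine ⟨hDsn, ?_⟩
  let f : ↥(⁅E, E⁆ : Subgroup G) →* ↥(E.map π) :=
    (π.comp (⁅E, E⁆ : Subgroup G).subtype).codRestrict (E.map π)
      (fun d => Subgroup.mem_map_of_mem π (hDE d.2))
  have hf : Function.Surjective f := by
    rintro ⟨y, hy⟩
    rw [← hmapD] at hy
    obtain ⟨d, hd, rfl⟩ := hy
    exact ⟨⟨d, hd⟩, Subtype.ext rfl⟩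
  have hfker : f.ker ≤ Subgroup.center ↥(⁅E, E⁆ : Subgroup G) := by
    intro d hd
    rw [MonoidHom.mem_ker] at hd
    have h1 : π (d : G) = 1 := congrArg Subtype.val hd
    have h2 : (d : G) ∈ Z := by
      rw [← hker]; exact h1
    rw [Subgroup.mem_center_iff]
    intro g
    apply Subtype.ext
    exact Subgroup.mem_center_iff.1 (hZ h2) g
  exact Cfsg.Agent.Helper21.isQuasisimple_of_surjective_of_ker_le_center f hf hqs hDperf hfker

end Cfsg.Agent.S3746
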