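import Cfsg.Statements.S3748
import Mathlib
import Cfsg.Agent.Lib.Helper62.MinNormal
import Cfsg.Agent.Lib.Helper62.FittingMin

set_option autoImplicit false
open Cfsg

namespace Cfsg.Agent.S3748

open Cfsg.Agent.Helper62

/-- Call a proper subgroup M of G primitive when M = N_G(N) for every non-trivial normal subgroup N of M. If M is a primitive subgroup of the finite group G, then no non-trivial subnormal subgroup of G is contained in M; in particular M ∩ F(G) = 1. -/
theorem result {G : Type*} [Group G] [Finite G] (M : Subgroup G) (hM : M ≠ ⊤) (hprim : ∀ N : Subgroup G, N ≤ M → M ≤ Subgroup.normalizer (N : Set G) → N ≠ ⊥ → Subgroup.normalizer (N : Set G) = M) : (∀ L : Subgroup G, L.IsSubnormal → L ≤ M → L = ⊥) ∧ M ⊓ Cfsg.fittingSubgroup G = ⊥ := by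
  have hnt : Nontrivial G := by
    by_contra h
    rw [not_nontrivial_iff_subsingleton] at h
    exact hM (Subsingleton.elim _ _)
  obtain ⟨K, hK⟩ := exists_isMinNormal (G := G)
  have hKn : K.Normal := hK.1
  -- key: no nontrivial M-invariant subgroup of M is normalized by K
  have key : ∀ N : Subgroup G, N ≤ M → M ≤ Subgroup.normalizer (N : Set G) → N ≠ ⊥ →
      ¬ K ≤ Subgroup.normalizer (N : Set G) := by
    intro N hNM hMN hN1 hKN
    rw [hprim N hNM hMN hN1] at hKN
    have h2 := hprim K hKN (by rw [Subgroup.normalizer_eq_top]; exact le_top) hK.2.1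
    rw [Subgroup.normalizer_eq_top] at h2
    exact hM h2.symm
  constructor
  · intro L hL hLM
    by_contra hL1
    let N : Subgroup G := ⨆ m : M, L.map (MulAut.conj (m : G)).toMonoidHom
    have hNM : N ≤ M := by
      apply iSup_le
      rintro m _ ⟨l, hl, rfl⟩
      simp only [MulEquiv.toMonoidHom_eq_coe, MonoidHom.coe_coe, MulAut.conj_apply]
      exact M.mul_mem (M.mul_mem m.2 (hLM hl)) (M.inv_mem m.2)
    have hLN : L ≤ N := by
      have h1 : L.map (MulAut.conj ((1 : M) : G)).toMonoidHom ≤ N :=
        le_iSup (fun m : M => L.map (MulAut.conj (m : G)).toMonoidHom) 1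
      have h2 : L.map (MulAut.conj ((1 : M) : G)).toMonoidHom = L := by
        ext x; simp
      rwa [h2] at h1
    have hN1 : N ≠ ⊥ := by
      intro h
      rw [h, le_bot_iff] at hLN
      exact hL1 hLN
    have hMN : M ≤ Subgroup.normalizer (N : Set G) := by
      intro m hm
      rw [Subgroup.mem_normalizer_iff_map_conj_eq]
      have hstep : ∀ (x : G), x ∈ M → N.map (MulAut.conj x).toMonoidHom ≤ N := by
        intro x hx
        rw [Subgroup.map_iSup]
        apply iSup_le
        intro m'
        rw [Subgroup.map_map]
        have : (MulAut.conj x).toMonoidHom.comp (MulAut.conj (m' : G)).toMonoidHom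
            = (MulAut.conj ((⟨x, hx⟩ * m' : M) : G)).toMonoidHom := by
          ext y; simp [mul_assoc]
        rw [this]
        exact le_iSup (fun m : M => L.map (MulAut.conj (m : G)).toMonoidHom) (⟨x, hx⟩ * m')
      apply le_antisymm (hstep m hm)
      have h1 := hstep m⁻¹ (M.inv_mem hm)
      have h2 := Subgroup.map_mono (f := (MulAut.conj m).toMonoidHom) h1
      rw [Subgroup.map_map] at h2
      have : (MulAut.conj m).toMonoidHom.comp (MulAut.conj m⁻¹).toMonoidHom = MonoidHom.id G := by
        ext y; simp [mul_assoc]
      rwa [this, Subgroup.map_id] at h2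
    have hKN : K ≤ Subgroup.normalizer (N : Set G) := by
      intro k hk
      rw [Subgroup.mem_normalizer_iff_map_conj_eq]
      show N.map (MulAut.conj k).toMonoidHom = N
      rw [Subgroup.map_iSup]
      congr 1
      funext m
      have hsub : (L.map (MulAut.conj (m : G)).toMonoidHom).IsSubnormal :=
        hL.map (f := (MulAut.conj (m : G)).toMonoidHom) (MulAut.conj (m : G)).surjective
      have := hK.le_normalizer_of_isSubnormal hsub hk
      rw [Subgroup.mem_normalizer_iff_map_conj_eq] at this
      exact this
    exact key N hNM hMN hN1 hKN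
  · by_contra hX1
    have hFn : (Cfsg.fittingSubgroup G).Normal := Subgroup.sSup_normal _ (fun _ h => h.1)
    have hMN : M ≤ Subgroup.normalizer ((M ⊓ Cfsg.fittingSubgroup G : Subgroup G) : Set G) := by
      refine le_trans ?_ Subgroup.inf_normalizer_le_normalizer_inf
      refine le_inf Subgroup.le_normalizer ?_
      rw [Subgroup.normalizer_eq_top]; exact le_top
    have hKN : K ≤ Subgroup.normalizer ((M ⊓ Cfsg.fittingSubgroup G : Subgroup G) : Set G) := by
      have h1 : K ≤ Subgroup.centralizer (Cfsg.fittingSubgroup G : Set G) :=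
        Subgroup.le_centralizer_iff.mp hK.fitting_le_centralizer
      have h2 : Subgroup.centralizer (Cfsg.fittingSubgroup G : Set G) ≤
          Subgroup.centralizer ((M ⊓ Cfsg.fittingSubgroup G : Subgroup G) : Set G) :=
        Subgroup.centralizer_le inf_le_right
      exact h1.trans (h2.trans (Subgroup.centralizer_le_normalizer _))
    exact key _ inf_le_left hMN hX1 hKN

end Cfsg.Agent.S3748
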