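import Cfsg.Statements.S3749
import Mathlib
import Cfsg.Agent.Lib.Helper52.CoprimeSylow
-- import your own Cfsg.Agent.* helpers here

set_option autoImplicit false
open Cfsg

namespace Cfsg.Agent.S3749

open Subgroup Cfsg.Agent.Helper52

/-- a nontrivial `p`-core contains a nontrivial normal `p`-subgroup -/
theorem exists_normal_pgroup {M : Type*} [Group M] {p : ℕ} (h : Cfsg.pCore p M ≠ ⊥) :
    ∃ P : Subgroup M, P.Normal ∧ IsPGroup p P ∧ P ≠ ⊥ := by
  by_contra hcon
  push Not at hcon
  apply h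
  rw [Cfsg.pCore, eq_bot_iff]
  apply sSup_le
  rintro N ⟨hN1, hN2⟩
  rw [hcon N hN1 hN2]

/-- `C_N(P) = 1`. -/
theorem cent_trivial {G : Type*} [Group G] (M P N : Subgroup G)
    (hNP : normalizer (P : Set G) = M) (hMN : M ⊓ N = ⊥) :
    N ⊓ centralizer (P : Set G) = ⊥ := by
  rw [eq_bot_iff]
  intro x hx
  rw [mem_inf] at hx
  have h1 : x ∈ M := by
    rw [← hNP]; exact centralizer_le_normalizer _ hx.2
  have : x ∈ M ⊓ N := mem_inf.mpr ⟨h1, hx.1⟩
  rw [hMN] at this
  exact this

theorem not_dvd {G : Type*} [Group G] [Finite G] (M P N : Subgroup G) [hN : N.Normal] {p : ℕ}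
    [Fact p.Prime] (hP : IsPGroup p P)
    (hNP : normalizer (P : Set G) = M) (hMN : M ⊓ N = ⊥) : ¬ p ∣ Nat.card N := by
  intro hdiv
  have hC := cent_trivial M P N hNP hMN
  let φ : P →* MulAut N := (MulAut.conjNormal (H := N)).comp P.subtype
  let _ : MulAction P N := MulAction.compHom N φ
  have hsmul : ∀ (a : P) (x : N), ((a • x : N) : G) = (a : G) * x * (a : G)⁻¹ := by
    intro a x
    rfl
  have h1 : (1 : N) ∈ MulAction.fixedPoints P N := by
    intro a
    apply Subtype.ext
    rw [hsmul]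
    simp
  obtain ⟨b, hb, hb1⟩ := hP.exists_fixed_point_of_prime_dvd_card_of_fixed_point N hdiv h1
  have hbC : (b : G) ∈ N ⊓ centralizer (P : Set G) := by
    rw [mem_inf]
    refine ⟨b.2, ?_⟩
    rw [mem_centralizer_iff]
    intro a ha
    have := hb ⟨a, ha⟩
    have h2 := congrArg (Subtype.val) this
    rw [hsmul] at h2
    simp only at h2
    calc a * (b : G) = a * b * a⁻¹ * a := by group
      _ = b * a := by rw [h2]
  rw [hC, mem_bot] at hbC
  apply hb1
  apply Subtype.ext
  rw [hbC]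
  rfl


/-- `P`-invariant subgroups of Sylow order in `N` coincide (as `C_N(P) = 1`). -/
theorem inv_unique {G : Type*} [Group G] [Finite G] (P N : Subgroup G) [hN : N.Normal]
    (hcop : (Nat.card P).Coprime (Nat.card N)) (hsolv : Group.IsSolvable P)
    (hC : N ⊓ centralizer (P : Set G) = ⊥) (q : ℕ) [Fact q.Prime]
    (Q₁ Q₂ : Subgroup G) (h₁ : Q₁ ≤ N) (h₂ : Q₂ ≤ N) (c₁ : Nat.card Q₁ = sylCard q N)
    (c₂ : Nat.card Q₂ = sylCard q N) (hA₁ : P ≤ normalizer (Q₁ : Set G))
    (hA₂ : P ≤ normalizer (Q₂ : Set G)) : Q₂ = Q₁ := by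
  have hPN : P ≤ normalizer (N : Set G) := by
    rw [normalizer_eq_top]; exact le_top
  obtain ⟨c, hc, hcc⟩ := exists_centralizer_conj_of_invariant P N hPN hcop (Or.inl hsolv) q
    Q₁ Q₂ h₁ h₂ c₁ c₂ hA₁ hA₂
  rw [hC, mem_bot] at hc
  rw [hcc, hc]
  ext x
  rw [mem_map_conj]
  simp

/-- The `M`-invariant Sylow subgroup, internal form. -/
theorem exists_inv {G : Type*} [Group G] [Finite G] (M P N : Subgroup G) [hN : N.Normal]
    (hcop : (Nat.card P).Coprime (Nat.card N)) (hsolv : Group.IsSolvable P)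
    (hNP : normalizer (P : Set G) = M)
    (hC : N ⊓ centralizer (P : Set G) = ⊥) (q : ℕ) [Fact q.Prime] :
    ∃ Q : Subgroup G, Q ≤ N ∧ Nat.card Q = sylCard q N ∧ M ≤ normalizer (Q : Set G) := by
  have hPN : P ≤ normalizer (N : Set G) := by
    rw [normalizer_eq_top]; exact le_top
  obtain ⟨Q, hQN, hQc, hPQ⟩ := exists_invariant_sylow P N hPN hcop (Or.inl hsolv) q
  refine ⟨Q, hQN, hQc, ?_⟩
  intro m hm
  apply mem_normalizer_of_map_conj_eq
  have hmN : m ∈ normalizer (N : Set G) := by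
    rw [normalizer_eq_top]; exact mem_top m
  apply inv_unique P N hcop hsolv hC q Q _ hQN (map_conj_le_of_le_normalizer hQN hmN) hQc
    (by rw [card_map_conj]; exact hQc) hPQ
  intro a ha
  apply mem_normalizer_of_map_conj_eq
  rw [Cfsg.Agent.Helper24.map_conj_map_conj]
  have hm' : m⁻¹ ∈ normalizer (P : Set G) := by
    rw [hNP]; exact M.inv_mem hm
  have h1 : m⁻¹ * a * m ∈ P := by
    have := (mem_normalizer_iff.mp hm' a).mp ha
    rwa [inv_inv] at this
  have h2 := map_conj_eq_of_mem_normalizer (hPQ h1)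
  have e : a * m = m * (m⁻¹ * a * m) := by group
  rw [e, ← Cfsg.Agent.Helper24.map_conj_map_conj, h2]


/-- Call a proper subgroup M of G primitive when M = N_G(N) for every non-trivial normal subgroup N of M. Let M be a primitive subgroup of the finite group G, p a prime with O_p(M) ≠ 1, and N a normal subgroup of G with M ∩ N = 1. Then p does not divide the order of N; for every prime q there is exactly one Sylow q-subgroup of N normalized by M; and if the order of N has at least two prime divisors then M is not a maximal subgroup of G. -/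
theorem result {G : Type*} [Group G] [Finite G] (M : Subgroup G) (hM : M ≠ ⊤) (hprim : ∀ N : Subgroup G, N ≤ M → M ≤ Subgroup.normalizer (N : Set G) → N ≠ ⊥ → Subgroup.normalizer (N : Set G) = M) {p : ℕ} [Fact p.Prime] (hOp : Cfsg.pCore p ↥M ≠ ⊥) (N : Subgroup G) [N.Normal] (hMN : M ⊓ N = ⊥) : ¬ p ∣ Nat.card N ∧ (∀ q : ℕ, [Fact q.Prime] → ∃! Q : Sylow q ↥N, M ≤ Subgroup.normalizer ((Q : Subgroup ↥N).map N.subtype : Set G)) ∧ ((∃ q r : ℕ, q.Prime ∧ r.Prime ∧ q ≠ r ∧ q ∣ Nat.card N ∧ r ∣ Nat.card N) → ¬ IsCoatom M) := by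
  obtain ⟨P₀, hP₀n, hP₀p, hP₀ne⟩ := exists_normal_pgroup hOp
  obtain ⟨P, hPdef⟩ : ∃ P : Subgroup G, P = P₀.map M.subtype := ⟨_, rfl⟩
  have hPM : P ≤ M := by rw [hPdef]; exact map_subtype_le P₀
  have hPp : IsPGroup p P := by rw [hPdef]; exact hP₀p.map _
  have hPne : P ≠ ⊥ := by
    rw [hPdef, Ne, Subgroup.map_eq_bot_iff_of_injective _ M.subtype_injective]; exact hP₀ne
  have hMnP : M ≤ normalizer (P : Set G) := by
    rw [← normal_subgroupOf_iff_le_normalizer hPM]
    have : P.subgroupOf M = P₀ := by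
      rw [hPdef, subgroupOf, comap_map_eq_self_of_injective M.subtype_injective]
    rw [this]; exact hP₀n
  have hNP := hprim P hPM hMnP hPne
  have hnd : ¬ p ∣ Nat.card N := not_dvd M P N hPp hNP hMN
  have hC := cent_trivial M P N hNP hMN
  have hcop : (Nat.card P).Coprime (Nat.card N) := by
    obtain ⟨k, hk⟩ := IsPGroup.iff_card.mp hPp
    rw [hk]
    exact Nat.Coprime.pow_left _ ((Nat.Prime.coprime_iff_not_dvd Fact.out).mpr hnd)
  have hsolv : Group.IsSolvable P := by
    have := hPp.isNilpotent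
    infer_instance
  refine ⟨hnd, ?_, ?_⟩
  · intro q _
    obtain ⟨Q, hQN, hQc, hMQ⟩ := exists_inv M P N hcop hsolv hNP hC q
    obtain ⟨S, hS⟩ := exists_sylow_of_card q N Q hQN hQc
    refine ⟨S, by show M ≤ normalizer ((map N.subtype ↑S : Subgroup G) : Set G); rw [hS]; exact hMQ, ?_⟩
    intro S' hS'
    apply Sylow.ext
    apply Subgroup.map_injective N.subtype_injective
    apply inv_unique P N hcop hsolv hC q _ _ (map_subtype_le _) (map_subtype_le _)
      (card_sylow_map q N S) (card_sylow_map q N S') (by rw [hS]; exact hPM.trans hMQ)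
      (hPM.trans hS')
  · rintro ⟨q, r, hq, hr, hqr, hqN, hrN⟩ hco
    have := Fact.mk hq
    obtain ⟨Q, hQN, hQc, hMQ⟩ := exists_inv M P N hcop hsolv hNP hC q
    have hpos : 0 < (Nat.card N).factorization q :=
      Nat.Prime.factorization_pos_of_dvd hq Nat.card_pos.ne' hqN
    have hQne : Q ≠ ⊥ := by
      intro h
      rw [h, card_bot, sylCard] at hQc
      have : 1 < q ^ (Nat.card N).factorization q := Nat.one_lt_pow hpos.ne' hq.one_lt
      omega
    have hQM : ¬ Q ≤ M := by
      intro h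
      apply hQne
      rw [eq_bot_iff, ← hMN]
      exact le_inf h hQN
    have hlt : M < M ⊔ Q := by
      apply lt_of_le_of_ne le_sup_left
      intro h
      apply hQM
      rw [h]; exact le_sup_right
    have htop : M ⊔ Q = ⊤ := hco.lt_iff.mp hlt
    have hQnorm : Q.Normal := by
      rw [← normalizer_eq_top_iff, eq_top_iff, ← htop]
      exact sup_le hMQ le_normalizer
    have hNQ : N ≤ Q := by
      intro n hn
      have hn' : n ∈ M ⊔ Q := by rw [htop]; exact mem_top n
      rw [mem_sup_of_normal_right] at hn'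
      obtain ⟨m, hm, x, hx, hmx⟩ := hn'
      have hmN : m ∈ N := by
        have : m = n * x⁻¹ := by rw [← hmx]; group
        rw [this]
        exact N.mul_mem hn (N.inv_mem (hQN hx))
      have hm1 : m ∈ M ⊓ N := mem_inf.mpr ⟨hm, hmN⟩
      rw [hMN, mem_bot] at hm1
      rw [← hmx, hm1, one_mul]
      exact hx
    have hQeq : Q = N := le_antisymm hQN hNQ
    rw [hQeq, sylCard] at hQc
    rw [hQc] at hrN
    have := (Nat.prime_dvd_prime_iff_eq hr hq).mp (hr.dvd_of_dvd_pow hrN)
    exact hqr this.symm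

end Cfsg.Agent.S3749
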