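import Cfsg.Statements.S3750
import Mathlib
import Cfsg.Agent.S3747
import Cfsg.Agent.Lib.Helper29.Fitting
import Cfsg.Agent.Lib.Helper70.Fitting
import Cfsg.Agent.Lib.Helper22.Radical
import Cfsg.Agent.Lib.Helper62.FittingMin
-- import your own Cfsg.Agent.* helpers here

set_option autoImplicit false
open Cfsg

namespace Cfsg.Agent.S3750

open Subgroup

variable {G : Type*} [Group G]

/-- a primitive subgroup meets every nilpotent normal subgroup trivially -/
theorem prim_inf_nilpotent_normal [Finite G] (M : Subgroup G) (hM : M ≠ ⊤)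
    (hprim : ∀ N : Subgroup G, N ≤ M → M ≤ Subgroup.normalizer (N : Set G) → N ≠ ⊥ → Subgroup.normalizer (N : Set G) = M)
    (T : Subgroup G) [hT : T.Normal] (hnil : Group.IsNilpotent ↥T) : M ⊓ T = ⊥ := by
  by_contra hne
  have hMT : M ≤ normalizer ((M ⊓ T : Subgroup G) : Set G) := by
    intro m hm
    rw [mem_normalizer_iff]
    intro x
    constructor
    · rintro ⟨hxM, hxT⟩
      exact ⟨M.mul_mem (M.mul_mem hm hxM) (M.inv_mem hm), hT.conj_mem x hxT m⟩
    · rintro ⟨hxM, hxT⟩
      refine ⟨?_, ?_⟩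
      · have : x = m⁻¹ * (m * x * m⁻¹) * m := by group
        rw [this]
        exact M.mul_mem (M.mul_mem (M.inv_mem hm) hxM) hm
      · have h1 := hT.conj_mem _ hxT m⁻¹
        have : m⁻¹ * (m * x * m⁻¹) * m⁻¹⁻¹ = x := by group
        rwa [this] at h1
  have hnorm : normalizer ((M ⊓ T : Subgroup G) : Set G) = M := hprim _ inf_le_left hMT hne
  -- T ≤ M
  have hTM : T ≤ M := by
    by_contra hTM
    have hlt : (M ⊓ T).subgroupOf T < ⊤ := by
      rw [lt_top_iff_ne_top]
      intro h
      rw [Subgroup.subgroupOf_eq_top] at h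
      exact hTM (h.trans inf_le_left)
    have hnc := Group.normalizerCondition_of_isNilpotent (G := ↥T) _ hlt
    obtain ⟨t, htn, htnot⟩ := SetLike.exists_of_lt hnc
    apply htnot
    rw [Subgroup.mem_subgroupOf]
    refine ⟨?_, t.2⟩
    have hgoal : (t : G) ∈ normalizer ((M ⊓ T : Subgroup G) : Set G) := ?_
    · rw [hnorm] at hgoal; exact hgoal
    rw [mem_normalizer_iff]
    intro x
    rw [mem_normalizer_iff] at htn
    constructor
    · intro hx
      have := (htn ⟨x, hx.2⟩).1 (by rw [Subgroup.mem_subgroupOf]; exact hx)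
      rw [Subgroup.mem_subgroupOf] at this
      exact this
    · intro hx
      have hxT : x ∈ T := by
        have h1 := hT.conj_mem _ hx.2 (t : G)⁻¹
        have : (t : G)⁻¹ * ((t : G) * x * (t : G)⁻¹) * (t : G)⁻¹⁻¹ = x := by group
        rwa [this] at h1
      have := (htn ⟨x, hxT⟩).2 (by rw [Subgroup.mem_subgroupOf]; exact hx)
      rw [Subgroup.mem_subgroupOf] at this
      exact this
  have hT1 : T ≠ ⊥ := by
    intro h
    apply hne
    rw [h, inf_bot_eq]
  have hMN : M ≤ normalizer (T : Set G) := by rw [Subgroup.normalizer_eq_top T]; exact le_top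
  have := hprim T hTM hMN hT1
  rw [Subgroup.normalizer_eq_top T] at this
  exact hM this.symm

theorem fitting_map_le [Finite G] (N : Subgroup G) [hN : N.Normal] :
    (Cfsg.fittingSubgroup ↥N).map N.subtype ≤ Cfsg.fittingSubgroup G := by
  have hn : (Cfsg.fittingSubgroup ↥N).Normal := Cfsg.Agent.Helper70.fittingSubgroup_normal ↥N
  have h1 : ((Cfsg.fittingSubgroup ↥N).map N.subtype).IsSubnormal :=
    Subgroup.IsSubnormal.trans' hn.isSubnormal hN.isSubnormal
  have hnil : Group.IsNilpotent ↥((Cfsg.fittingSubgroup ↥N).map N.subtype) := by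
    have e := (Cfsg.fittingSubgroup ↥N).equivMapOfInjective N.subtype N.subtype_injective
    exact (Group.isNilpotent_congr e).1 (Cfsg.Agent.Helper70.fittingSubgroup_isNilpotent ↥N)
  exact Cfsg.Agent.Helper22.subnormal_nilpotent_le_fittingSubgroup h1 hnil

theorem layer_map_subtype_le (N : Subgroup G) (hN : N.IsSubnormal) :
    (Cfsg.layer ↥N).map N.subtype ≤ Cfsg.layer G := by
  rw [Subgroup.map_le_iff_le_comap]
  apply sSup_le
  intro K hK
  rw [← Subgroup.map_le_iff_le_comap]
  exact le_sSup (Cfsg.Agent.Helper22.IsComponent.of_subnormal hN hK)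

theorem component_le_layer_map (N K : Subgroup G) (hK : Cfsg.IsComponent K) (hKN : K ≤ N) :
    K ≤ (Cfsg.layer ↥N).map N.subtype := by
  have h1 : Cfsg.IsComponent (K.subgroupOf N) := Cfsg.Agent.Helper22.IsComponent.subgroupOf hK hKN
  have h2 : K.subgroupOf N ≤ Cfsg.layer ↥N := le_sSup h1
  have h3 := Subgroup.map_mono (f := N.subtype) h2
  rwa [Subgroup.map_subgroupOf_eq_of_le hKN] at h3

/-- a nilpotent group with trivial centre is trivial -/
theorem eq_bot_of_center_eq_bot (T : Subgroup G) (hnil : Group.IsNilpotent ↥T)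
    (h : T ⊓ centralizer (T : Set G) = ⊥) : T = ⊥ := by
  by_contra hT
  have htop : (⊤ : Subgroup ↥T) ≠ ⊥ := by
    intro h0
    apply hT
    rw [eq_bot_iff]
    intro x hx
    have : (⟨x, hx⟩ : ↥T) ∈ (⊤ : Subgroup ↥T) := trivial
    rw [h0, Subgroup.mem_bot] at this
    rw [Subgroup.mem_bot]
    exact congrArg Subtype.val this
  have hc := Cfsg.Agent.Helper62.normal_inf_center_ne_bot (⊤ : Subgroup ↥T) htop
  apply hc
  rw [eq_bot_iff]
  rintro z ⟨_, hz⟩
  rw [Subgroup.mem_bot]
  have hzc : (z : G) ∈ T ⊓ centralizer (T : Set G) := by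
    refine ⟨z.2, ?_⟩
    intro y hy
    have := Subgroup.mem_center_iff.1 hz ⟨y, hy⟩
    exact congrArg Subtype.val this
  rw [h, Subgroup.mem_bot] at hzc
  exact Subtype.ext hzc

/-- Call a proper subgroup M of G primitive when M = N_G(N) for every non-trivial normal subgroup N of M. Let M be a primitive subgroup of the finite group G and N a normal subgroup of G with M ∩ F*(N) ≠ 1. Then F(G) = 1 and F*(N) = F*(G) = E(G); in particular every minimal normal subgroup of G is contained in N. -/
theorem result {G : Type*} [Group G] [Finite G] (M : Subgroup G) (hM : M ≠ ⊤) (hprim : ∀ N : Subgroup G, N ≤ M → M ≤ Subgroup.normalizer (N : Set G) → N ≠ ⊥ → Subgroup.normalizer (N : Set G) = M) (N : Subgroup G) [N.Normal] (hMF : M ⊓ (Cfsg.generalizedFittingSubgroup ↥N).map N.subtype ≠ ⊥) : Cfsg.fittingSubgroup G = ⊥ ∧ (Cfsg.generalizedFittingSubgroup ↥N).map N.subtype = Cfsg.generalizedFittingSubgroup G ∧ Cfsg.generalizedFittingSubgroup G = Cfsg.layer G ∧ ∀ K : Subgroup G, K.Normal → K ≠ ⊥ → (∀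 K' : Subgroup G, K'.Normal → K' ≤ K → K' = ⊥ ∨ K' = K) → K ≤ N := by
  have hNn : N.Normal := inferInstance
  set FS := (Cfsg.generalizedFittingSubgroup ↥N).map N.subtype with hFS
  have hFSn : FS.Normal := by rw [hFS]; infer_instance
  have hFSeq : FS = (Cfsg.layer ↥N).map N.subtype ⊔ (Cfsg.fittingSubgroup ↥N).map N.subtype := by
    rw [hFS, ← Subgroup.map_sup]; rfl
  have hFSN : FS ≤ N := Subgroup.map_subtype_le _
  -- R = M ⊓ FS has normalizer M
  have hMR : M ≤ normalizer ((M ⊓ FS : Subgroup G) : Set G) := by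
    intro m hm
    rw [mem_normalizer_iff]
    intro x
    constructor
    · rintro ⟨hxM, hxT⟩
      exact ⟨M.mul_mem (M.mul_mem hm hxM) (M.inv_mem hm), hFSn.conj_mem x hxT m⟩
    · rintro ⟨hxM, hxT⟩
      refine ⟨?_, ?_⟩
      · have : x = m⁻¹ * (m * x * m⁻¹) * m := by group
        rw [this]
        exact M.mul_mem (M.mul_mem (M.inv_mem hm) hxM) hm
      · have h1 := hFSn.conj_mem _ hxT m⁻¹
        have : m⁻¹ * (m * x * m⁻¹) * m⁻¹⁻¹ = x := by group
        rwa [this] at h1
  have hnormR : normalizer ((M ⊓ FS : Subgroup G) : Set G) = M := hprim _ inf_le_left hMR hMF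
  -- anything centralizing FS lies in M
  have hcentM : centralizer (FS : Set G) ≤ M := by
    intro z hz
    rw [← hnormR]
    apply Subgroup.centralizer_le_normalizer
    exact Subgroup.centralizer_le (show ((M ⊓ FS : Subgroup G) : Set G) ⊆ FS from
      fun x hx => hx.2) hz
  have hFn : (Cfsg.fittingSubgroup G).Normal := Cfsg.Agent.Helper70.fittingSubgroup_normal G
  have hFnil : Group.IsNilpotent ↥(Cfsg.fittingSubgroup G) :=
    Cfsg.Agent.Helper70.fittingSubgroup_isNilpotent G
  have hMFit : M ⊓ Cfsg.fittingSubgroup G = ⊥ :=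
    prim_inf_nilpotent_normal M hM hprim (Cfsg.fittingSubgroup G) hFnil
  -- Z(F(G)) centralizes FS
  have hZ : Cfsg.fittingSubgroup G ⊓ centralizer (Cfsg.fittingSubgroup G : Set G) ≤
      centralizer (FS : Set G) := by
    intro z hz
    have h1 : (Cfsg.layer ↥N).map N.subtype ≤ centralizer ({z} : Set G) := by
      refine (layer_map_subtype_le N hNn.isSubnormal).trans ?_
      intro y hy
      rw [Subgroup.mem_centralizer_singleton_iff]
      have hc := Cfsg.Agent.Helper22.layer_le_centralizer_fittingSubgroup (G := G) hy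
      exact (hc z hz.1).symm
    have h2 : (Cfsg.fittingSubgroup ↥N).map N.subtype ≤ centralizer ({z} : Set G) := by
      refine (fitting_map_le N).trans ?_
      intro y hy
      rw [Subgroup.mem_centralizer_singleton_iff]
      exact hz.2 y hy
    have h3 : FS ≤ centralizer ({z} : Set G) := by rw [hFSeq]; exact sup_le h1 h2
    intro y hy
    have := h3 hy
    rw [Subgroup.mem_centralizer_singleton_iff] at this
    exact this
  have hZbot : Cfsg.fittingSubgroup G ⊓ centralizer (Cfsg.fittingSubgroup G : Set G) = ⊥ := by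
    rw [eq_bot_iff, ← hMFit]
    exact le_inf (hZ.trans hcentM) inf_le_left
  have hF : Cfsg.fittingSubgroup G = ⊥ := eq_bot_of_center_eq_bot _ hFnil hZbot
  have hFN : (Cfsg.fittingSubgroup ↥N).map N.subtype = ⊥ := by
    rw [eq_bot_iff, ← hF]; exact fitting_map_le N
  have hFSeq' : FS = (Cfsg.layer ↥N).map N.subtype := by rw [hFSeq, hFN, sup_bot_eq]
  have hGF : Cfsg.generalizedFittingSubgroup G = Cfsg.layer G := by
    show Cfsg.layer G ⊔ Cfsg.fittingSubgroup G = Cfsg.layer G
    rw [hF, sup_bot_eq]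
  -- components not contained in N
  set S₁ : Set (Subgroup G) := {K | Cfsg.IsComponent K ∧ ¬ K ≤ N} with hS₁
  have hE₁M : sSup S₁ ≤ M := by
    apply sSup_le
    rintro K ⟨hK, hKN⟩
    rcases Cfsg.Agent.Helper34.component_le_or_commutator_eq_bot K N hK with h | h
    · exact absurd h hKN
    · rw [Subgroup.commutator_eq_bot_iff_le_centralizer] at h
      exact (h.trans (Subgroup.centralizer_le (show (FS : Set G) ⊆ N from hFSN))).trans hcentM
  have hE₁n : (sSup S₁).Normal := by
    refine ⟨fun x hx g => ?_⟩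
    have hinv : ∀ A ∈ S₁, Cfsg.Agent.Helper22.conjS g A ∈ S₁ := by
      rintro A ⟨hA, hAN⟩
      refine ⟨Cfsg.Agent.Helper22.IsComponent.conj hA g, ?_⟩
      intro hle
      apply hAN
      intro a ha
      have h1 : g * a * g⁻¹ ∈ N := hle ⟨a, ha, rfl⟩
      have h2 := hNn.conj_mem _ h1 g⁻¹
      have : g⁻¹ * (g * a * g⁻¹) * g⁻¹⁻¹ = a := by group
      rwa [this] at h2
    exact Cfsg.Agent.Helper22.conjS_sSup_le S₁ g hinv ⟨x, hx, rfl⟩
  have hE₁ : sSup S₁ = ⊥ := by
    by_contra hne
    have hMN : M ≤ normalizer ((sSup S₁ : Subgroup G) : Set G) := by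
      rw [Subgroup.normalizer_eq_top (sSup S₁)]; exact le_top
    have := hprim _ hE₁M hMN hne
    rw [Subgroup.normalizer_eq_top (sSup S₁)] at this
    exact hM this.symm
  have hcompN : ∀ K : Subgroup G, Cfsg.IsComponent K → K ≤ N := by
    intro K hK
    by_contra hKN
    have h1 : K ≤ sSup S₁ := le_sSup ⟨hK, hKN⟩
    rw [hE₁, le_bot_iff] at h1
    exact Cfsg.Agent.Helper22.IsQuasisimple.ne_bot hK.2 h1
  have hlayer : (Cfsg.layer ↥N).map N.subtype = Cfsg.layer G := by
    apply le_antisymm (layer_map_subtype_le N hNn.isSubnormal)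
    apply sSup_le
    intro K hK
    exact component_le_layer_map N K hK (hcompN K hK)
  refine ⟨hF, ?_, hGF, ?_⟩
  · rw [hFSeq', hGF, hlayer]
  · intro K hKn hK1 hmin
    have h1 : K ≤ Cfsg.layer G := Cfsg.Agent.S3747.minNormal_le_layer hF K hK1 hKn hmin
    rw [← hlayer] at h1
    exact h1.trans (Subgroup.map_subtype_le _)

end Cfsg.Agent.S3750
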