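import Mathlib
import Cfsg.Statements.S3752
import Cfsg.Agent.Lib.Helper23.BenderPair
-- import your own Cfsg.Agent.* helpers here

set_option autoImplicit false
open Cfsg

namespace Cfsg.Agent.S3752

open Cfsg.Agent.Helper23

/-- Bender's Theorem on primitive pairs. Two distinct subgroups M₁, M₂ of G form a primitive pair when, for {i, j} = {1, 2}, every non-trivial normal subgroup A of M_i contained in M₁ ∩ M₂ satisfies N_{M_j}(A) = M₁ ∩ M₂; the pair has characteristic p when moreover C_{M_i}(O_p(M_i)) ≤ O_p(M_i) for both i and O_p(M₁)O_p(M₂) ≤ M₁ ∩ M₂. If (M₁, M₂) is a primitive pair of the finite group G with F*(M₁) ≤ M₂ and F*(M₂) ≤ M₁, then for some prime p the pair has characteristic p. -/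
theorem result {G : Type*} [Group G] [Finite G] (M₁ M₂ : Subgroup G) (hne : M₁ ≠ M₂) (hP : ∀ A : Subgroup G, A ≠ ⊥ → A ≤ M₁ ⊓ M₂ → (M₁ ≤ Subgroup.normalizer (A : Set G) → M₂ ⊓ Subgroup.normalizer (A : Set G) = M₁ ⊓ M₂) ∧ (M₂ ≤ Subgroup.normalizer (A : Set G) → M₁ ⊓ Subgroup.normalizer (A : Set G) = M₁ ⊓ M₂)) (h₁ : (Cfsg.generalizedFittingSubgroup ↥M₁).map M₁.subtype ≤ M₂) (h₂ : (Cfsg.generalizedFittingSubgroup ↥M₂).map M₂.subtype ≤ M₁) : ∃ p : ℕ, p.Prime ∧ Subgroup.centralizer (Cfsg.pCore p ↥M₁ : Set ↥M₁) ≤ Cfsg.pCore p ↥M₁ ∧ Subgroup.centralizer (Cfsg.pCore p ↥M₂ : Set ↥M₂) ≤ Cfsg.pCore p ↥M₂ ∧ (Cfsg.pCore p ↥M₁).map M₁.subtype ⊔ (Cfsg.pCore p ↥M₂).map M₂.subtype ≤ M₁ ⊓ M₂ := by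
  classical
  have hMN1 : fsOf M₁ ≤ M₂ := h₁
  have hNM1 : fsOf M₂ ≤ M₁ := h₂
  -- relative primitivity
  have hrel1 : ∀ X : Subgroup G, X ≠ ⊥ → X ≤ M₁ ⊓ M₂ → M₁ ≤ Subgroup.normalizer (X : Set G) →
      M₂ ⊓ Subgroup.normalizer (X : Set G) ≤ M₁ := by
    intro X hX hXle hn
    rw [((hP X hX hXle).1 hn)]
    exact inf_le_left
  have hrel2 : ∀ X : Subgroup G, X ≠ ⊥ → X ≤ M₂ ⊓ M₁ → M₂ ≤ Subgroup.normalizer (X : Set G) →
      M₁ ⊓ Subgroup.normalizer (X : Set G) ≤ M₂ := by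
    intro X hX hXle hn
    rw [((hP X hX (by rw [inf_comm]; exact hXle)).2 hn)]
    exact inf_le_right
  -- a common nontrivial normal subgroup forces equality
  have hcommon : ∀ X : Subgroup G, X ≠ ⊥ → X ≤ M₁ ⊓ M₂ → M₁ ≤ Subgroup.normalizer (X : Set G) →
      M₂ ≤ Subgroup.normalizer (X : Set G) → False := by
    intro X hX hXle hn1 hn2
    have e1 := (hP X hX hXle).1 hn1
    have e2 := (hP X hX hXle).2 hn2
    rw [inf_eq_left.mpr hn2] at e1
    rw [inf_eq_left.mpr hn1] at e2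
    exact hne (e2.trans e1.symm)
  have hB_M : ∀ (p : ℕ) [Fact p.Prime], ∀ x ∈ pCoreOf p M₁, ∀ g ∈ fsOf M₂, (orderOf g).Coprime p → x * g = g * x :=
    fun p _ => pCoreOf_commute_fsOf' M₂ M₁ hNM1 hMN1 p
  have hB_N : ∀ (p : ℕ) [Fact p.Prime], ∀ x ∈ pCoreOf p M₂, ∀ g ∈ fsOf M₁, (orderOf g).Coprime p → x * g = g * x :=
    fun p _ => pCoreOf_commute_fsOf' M₁ M₂ hMN1 hNM1 p
  -- Step E
  have hE1 : layerOf M₂ ≤ layerOf M₁ := layerOf_le_layerOf M₁ M₂ hMN1 hNM1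
    (fun q hq => by have := Fact.mk hq; exact hB_M q)
  have hE2 : layerOf M₁ ≤ layerOf M₂ := layerOf_le_layerOf M₂ M₁ hNM1 hMN1
    (fun q hq => by have := Fact.mk hq; exact hB_N q)
  have hEeq : layerOf M₁ = layerOf M₂ := le_antisymm hE2 hE1
  have hEM : layer ↥M₁ = ⊥ := by
    by_contra hne'
    have hX : layerOf M₁ ≠ ⊥ := by
      intro h0
      exact hne' ((Subgroup.map_eq_bot_iff_of_injective _ M₁.subtype_injective).mp h0)
    have hXle : layerOf M₁ ≤ M₁ ⊓ M₂ :=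
      le_inf (Subgroup.map_subtype_le _) ((layerOf_le_fsOf M₁).trans hMN1)
    have hn1 : M₁ ≤ Subgroup.normalizer ((layerOf M₁ : Subgroup G) : Set G) :=
      Cfsg.Agent.S1247.le_normalizer_map_subtype M₁ (layer ↥M₁)
    have hn2 : M₂ ≤ Subgroup.normalizer ((layerOf M₁ : Subgroup G) : Set G) := by
      rw [hEeq]; exact Cfsg.Agent.S1247.le_normalizer_map_subtype M₂ (layer ↥M₂)
    exact hcommon _ hX hXle hn1 hn2
  have hEN : layer ↥M₂ = ⊥ := by
    have : layerOf M₂ = ⊥ := by rw [← hEeq]; show (layer ↥M₁).map M₁.subtype = ⊥; rw [hEM, Subgroup.map_bot]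
    exact (Subgroup.map_eq_bot_iff_of_injective _ M₂.subtype_injective).mp this
  have hFM : generalizedFittingSubgroup ↥M₁ = fittingSubgroup ↥M₁ := by
    unfold generalizedFittingSubgroup; rw [hEM, bot_sup_eq]
  have hFN : generalizedFittingSubgroup ↥M₂ = fittingSubgroup ↥M₂ := by
    unfold generalizedFittingSubgroup; rw [hEN, bot_sup_eq]
  -- neither is trivial
  have hMne : M₁ ≠ ⊥ := by
    intro h0
    have h3 : fsOf M₂ = ⊥ := le_bot_iff.mp (h0 ▸ hNM1)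
    have h4 : generalizedFittingSubgroup ↥M₂ = ⊥ :=
      (Subgroup.map_eq_bot_iff_of_injective _ M₂.subtype_injective).mp h3
    exact hne (h0.trans (eq_bot_of_generalizedFittingSubgroup_eq_bot M₂ h4).symm)
  have hNne : M₂ ≠ ⊥ := by
    intro h0
    have h3 : fsOf M₁ = ⊥ := le_bot_iff.mp (h0 ▸ hMN1)
    have h4 : generalizedFittingSubgroup ↥M₁ = ⊥ :=
      (Subgroup.map_eq_bot_iff_of_injective _ M₁.subtype_injective).mp h3
    exact hMne (eq_bot_of_generalizedFittingSubgroup_eq_bot M₁ h4)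
  -- existence of a prime with nontrivial core
  have exists_prime : ∀ (A : Subgroup G), A ≠ ⊥ → generalizedFittingSubgroup ↥A = fittingSubgroup ↥A →
      ∃ p : ℕ, p.Prime ∧ pCoreOf p A ≠ ⊥ := by
    intro A hAne hFA
    by_contra hall
    push Not at hall
    have h0 : fittingSubgroup ↥A = ⊥ := by
      rw [Cfsg.Agent.Helper22.fittingSubgroup_eq_iSup_pCore, eq_bot_iff]
      apply iSup_le
      rintro ⟨q, hq⟩
      have := hall q hq
      have h3 : (pCore q ↥A).map A.subtype = ⊥ := this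
      rw [(Subgroup.map_eq_bot_iff_of_injective _ A.subtype_injective).mp h3]
    exact hAne (eq_bot_of_generalizedFittingSubgroup_eq_bot A (hFA.trans h0))
  obtain ⟨p, hp, hpM⟩ := exists_prime M₁ hMne hFM
  obtain ⟨q, hq, hqN⟩ := exists_prime M₂ hNne hFN
  have hpF := Fact.mk hp
  have hqF := Fact.mk hq
  have hrel1' : ∀ X : Subgroup G, X ≠ ⊥ → X ≤ M₁ ⊓ M₂ → M₁ ≤ Subgroup.normalizer (X : Set G) →
      M₂ ⊓ Subgroup.normalizer (X : Set G) ≤ M₁ := hrel1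
  -- uniqueness in M₁
  have uniqM : ∀ r : ℕ, r.Prime → r ≠ p → pCoreOf r M₁ = ⊥ := by
    intro r hr hne'
    by_contra hrM
    have hrF := Fact.mk hr
    have a1 : pCoreOf r M₁ ≤ pCoreOf r M₂ :=
      pCoreOf_le_pCoreOf_of_pair M₁ M₂ hMN1 hNM1 hrel1 p r hne' hpM
    have a2 : pCoreOf p M₁ ≤ pCoreOf p M₂ :=
      pCoreOf_le_pCoreOf_of_pair M₁ M₂ hMN1 hNM1 hrel1 r p hne'.symm hrM
    have hpN : pCoreOf p M₂ ≠ ⊥ := fun h0 => hpM (le_bot_iff.mp (h0 ▸ a2))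
    have a3 : pCoreOf r M₂ ≤ pCoreOf r M₁ :=
      pCoreOf_le_pCoreOf_of_pair M₂ M₁ hNM1 hMN1 hrel2 p r hne' hpN
    have heq : pCoreOf r M₁ = pCoreOf r M₂ := le_antisymm a1 a3
    have hXle : pCoreOf r M₁ ≤ M₁ ⊓ M₂ :=
      le_inf (pCoreOf_le M₁) ((pCoreOf_le_fsOf M₁ r).trans hMN1)
    have hn2 : M₂ ≤ Subgroup.normalizer ((pCoreOf r M₁ : Subgroup G) : Set G) := by
      rw [heq]; exact le_normalizer_pCoreOf M₂
    exact hcommon _ hrM hXle (le_normalizer_pCoreOf M₁) hn2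
  have uniqN : ∀ r : ℕ, r.Prime → r ≠ q → pCoreOf r M₂ = ⊥ := by
    intro r hr hne'
    by_contra hrN
    have hrF := Fact.mk hr
    have a1 : pCoreOf r M₂ ≤ pCoreOf r M₁ :=
      pCoreOf_le_pCoreOf_of_pair M₂ M₁ hNM1 hMN1 hrel2 q r hne' hqN
    have a2 : pCoreOf q M₂ ≤ pCoreOf q M₁ :=
      pCoreOf_le_pCoreOf_of_pair M₂ M₁ hNM1 hMN1 hrel2 r q hne'.symm hrN
    have hqM : pCoreOf q M₁ ≠ ⊥ := fun h0 => hqN (le_bot_iff.mp (h0 ▸ a2))
    have a3 : pCoreOf r M₁ ≤ pCoreOf r M₂ :=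
      pCoreOf_le_pCoreOf_of_pair M₁ M₂ hMN1 hNM1 hrel1 q r hne' hqM
    have heq : pCoreOf r M₂ = pCoreOf r M₁ := le_antisymm a1 a3
    have hXle : pCoreOf r M₂ ≤ M₁ ⊓ M₂ :=
      le_inf ((pCoreOf_le_fsOf M₂ r).trans hNM1) (pCoreOf_le M₂)
    have hn1 : M₁ ≤ Subgroup.normalizer ((pCoreOf r M₂ : Subgroup G) : Set G) := by
      rw [heq]; exact le_normalizer_pCoreOf M₁
    exact hcommon _ hrN hXle hn1 (le_normalizer_pCoreOf M₂)
  -- F*(A) = O_p(A)
  have fs_eq : ∀ (A : Subgroup G) (p : ℕ), p.Prime → generalizedFittingSubgroup ↥A = fittingSubgroup ↥A →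
      (∀ r : ℕ, r.Prime → r ≠ p → pCoreOf r A = ⊥) → generalizedFittingSubgroup ↥A = pCore p ↥A := by
    intro A p hp hFA huniq
    have := Fact.mk hp
    rw [hFA]
    apply le_antisymm
    · rw [Cfsg.Agent.Helper22.fittingSubgroup_eq_iSup_pCore]
      apply iSup_le
      rintro ⟨r, hr⟩
      by_cases hrp : r = p
      · subst hrp; exact le_rfl
      · have h3 : (pCore r ↥A).map A.subtype = ⊥ := huniq r hr hrp
        rw [(Subgroup.map_eq_bot_iff_of_injective _ A.subtype_injective).mp h3]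
        exact bot_le
    · exact Cfsg.Agent.Helper70.pCore_le_fittingSubgroup
  have hfsM := fs_eq M₁ p hp hFM uniqM
  have hfsN := fs_eq M₂ q hq hFN uniqN
  -- p = q
  have hpq : p = q := by
    by_contra hne'
    apply hpM
    rw [eq_bot_iff]
    intro x hx
    have hxN : x ∈ M₂ := hMN1 (pCoreOf_le_fsOf M₁ p hx)
    have hqgrp : IsPGroup q ↥(pCore q ↥M₂) := pCore_isPGroup q _
    have hxC : x ∈ Subgroup.centralizer ((fsOf M₂ : Subgroup G) : Set G) := by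
      rw [Subgroup.mem_centralizer_iff]
      intro g hg
      symm
      apply hB_M p x hx g hg
      obtain ⟨n, hn, rfl⟩ := hg
      rw [hfsN] at hn
      obtain ⟨k, hk⟩ := hqgrp ⟨n, hn⟩
      have hk' : (M₂.subtype n) ^ q ^ k = 1 := by
        have := congrArg Subtype.val hk
        simp only [Subgroup.coe_pow, Subgroup.coe_one] at this
        rw [← map_pow, this, map_one]
      have h4 : orderOf (M₂.subtype n) ∣ q ^ k := orderOf_dvd_of_pow_eq_one hk'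
      exact Nat.Coprime.coprime_dvd_left h4
        (Nat.Coprime.pow_left k ((Nat.coprime_primes hq hp).mpr (Ne.symm hne')))
    have hxK : x ∈ fsOf M₂ := inf_centralizer_fsOf_le M₂ ⟨hxN, hxC⟩
    obtain ⟨n, hn, rfl⟩ := hxK
    rw [hfsN] at hn
    obtain ⟨k, hk⟩ := hqgrp ⟨n, hn⟩
    have hk' : (M₂.subtype n) ^ q ^ k = 1 := by
      have := congrArg Subtype.val hk
      simp only [Subgroup.coe_pow, Subgroup.coe_one] at this
      rw [← map_pow, this, map_one]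
    obtain ⟨j, hj⟩ := (pCoreOf_isPGroup (p := p) M₁) ⟨_, hx⟩
    have hj' : (M₂.subtype n) ^ p ^ j = 1 := by
      have := congrArg Subtype.val hj
      simpa using this
    have h4 : orderOf (M₂.subtype n) ∣ q ^ k := orderOf_dvd_of_pow_eq_one hk'
    have h5 : orderOf (M₂.subtype n) ∣ p ^ j := orderOf_dvd_of_pow_eq_one hj'
    have h6 : (q ^ k).Coprime (p ^ j) :=
      Nat.Coprime.pow _ _ ((Nat.coprime_primes hq hp).mpr (Ne.symm hne'))
    have h7 : orderOf (M₂.subtype n) = 1 := Nat.eq_one_of_dvd_coprimes h6 h4 h5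
    rw [Subgroup.mem_bot]
    exact orderOf_eq_one_iff.mp h7
  subst hpq
  refine ⟨p, hp, ?_, ?_, ?_⟩
  · have := Cfsg.Agent.Helper21.centralizer_generalizedFittingSubgroup_le (G := ↥M₁)
    rwa [hfsM] at this
  · have := Cfsg.Agent.Helper21.centralizer_generalizedFittingSubgroup_le (G := ↥M₂)
    rwa [hfsN] at this
  · apply sup_le
    · exact le_inf (pCoreOf_le M₁) ((pCoreOf_le_fsOf M₁ p).trans hMN1)
    · exact le_inf ((pCoreOf_le_fsOf M₂ p).trans hNM1) (pCoreOf_le M₂)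

end Cfsg.Agent.S3752
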