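import Cfsg.Statements.S3755
import Cfsg.Agent.Lib.Helper32.ThompsonDihedral
import Cfsg.Agent.Lib.Helper30.AxB
import Cfsg.Agent.Lib.Helper54.Solv
import Cfsg.Agent.Lib.Helper46.Involves
import Cfsg.Agent.S2758

set_option autoImplicit false
open Cfsg

namespace Cfsg.Agent.S3755

open Cfsg.Agent.Helper32 Subgroup

/-! ### `D₃ ≃ S₃` -/

def toPermFun : DihedralGroup 3 → Equiv.Perm (Fin 3)
  | .r i => Equiv.subRight (i : Fin 3)
  | .sr i => Equiv.subLeft (i : Fin 3)

theorem toPermFun_mul : ∀ g h : DihedralGroup 3, toPermFun (g * h) = toPermFun g * toPermFun h := by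
  decide

def toPerm : DihedralGroup 3 →* Equiv.Perm (Fin 3) := MonoidHom.mk' toPermFun toPermFun_mul

theorem toPerm_inj : Function.Injective toPerm := by
  have : ∀ g h : DihedralGroup 3, toPermFun g = toPermFun h → g = h := by decide
  exact fun g h hgh => this g h hgh

theorem toPerm_bij : Function.Bijective toPerm := by
  rw [Fintype.bijective_iff_injective_and_card]
  refine ⟨toPerm_inj, ?_⟩
  rw [DihedralGroup.card, Fintype.card_perm, Fintype.card_fin]
  rfl

theorem involves_perm_of_involves_dihedral {M : Type*} [Group M]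
    (h : Cfsg.Involves (DihedralGroup 3) M) : Cfsg.Involves (Equiv.Perm (Fin 3)) M := by
  obtain ⟨K, f, hf⟩ := Cfsg.Agent.Helper46.exists_surjective_of_involves h
  exact Cfsg.Agent.Helper46.involves_of_surjective K (toPerm.comp f)
    (toPerm_bij.surjective.comp hf)

variable {G : Type*} [Group G]

theorem conj_pow_of_fix {l v t : G} (h : l * v * l⁻¹ = v * t) (ht : l * t = t * l) (k : ℕ) :
    l ^ k * v * (l ^ k)⁻¹ = v * t ^ k := by
  induction k with
  | zero => simp
  | succ k ih =>
    have ht' : l * t ^ k * l⁻¹ = t ^ k := by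
      rw [← conj_pow, TD.comm_iff_conj.mp ht]
    calc l ^ (k + 1) * v * (l ^ (k + 1))⁻¹ = l * (l ^ k * v * (l ^ k)⁻¹) * l⁻¹ := by
          rw [pow_succ']; group
      _ = l * (v * t ^ k) * l⁻¹ := by rw [ih]
      _ = (l * v * l⁻¹) * (l * t ^ k * l⁻¹) := by group
      _ = v * t ^ (k + 1) := by rw [h, ht', mul_assoc, ← pow_succ']

theorem eq_one_of_conj_eq_mul {l v t : G} {p : ℕ} (hp : Odd p) (hl : l ^ p = 1)
    (h : l * v * l⁻¹ = v * t) (ht : l * t = t * l) (ht2 : t ^ 2 = 1) : t = 1 := by
  have h1 := conj_pow_of_fix h ht p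
  rw [hl, one_mul, inv_one, mul_one] at h1
  have h2 : t ^ p = 1 := by
    have := mul_left_cancel (a := v) (b := 1) (c := t ^ p) (by rw [mul_one]; exact h1)
    exact this.symm
  obtain ⟨k, rfl⟩ := hp
  rw [pow_succ, pow_mul, ht2, one_pow, one_mul] at h2
  exact h2

theorem comm_of_comm_sq {l t : G} (hodd : Odd (orderOf l)) (h : l ^ 2 * t = t * l ^ 2) :
    l * t = t * l := by
  obtain ⟨m, hm⟩ := hodd
  have hl : (l ^ 2) ^ (m + 1) = l := by
    rw [← pow_mul]
    have : 2 * (m + 1) = orderOf l + 1 := by omega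
    rw [this, pow_succ, pow_orderOf_eq_one, one_mul]
  have hc : Commute (l ^ 2) t := h
  have := (hc.pow_left (m + 1)).eq
  rw [hl] at this
  exact this

/-- A dihedral group of order `2p`, `p ≥ 5`, acting on an elementary abelian `2`-group with the
rotation acting nontrivially: the centralizer of the reflection has index at least `4`. -/
theorem dihedral_index_bound [Finite G] {V : Subgroup G}
    (hV2 : ∀ x ∈ V, x ^ 2 = 1)
    {a l : G} (ha2 : a ^ 2 = 1) (hinv : a * l * a⁻¹ = l⁻¹) (hp : (orderOf l).Prime)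
    (h5 : 5 ≤ orderOf l) (hlV : ∀ v ∈ V, l * v * l⁻¹ ∈ V)
    (hnc : ¬ ∀ v ∈ V, l * v = v * l) :
    4 ≤ (V ⊓ centralizer ({a} : Set G)).relIndex V := by
  by_contra hlt
  push Not at hlt
  apply hnc
  have hodd : Odd (orderOf l) := by
    rcases hp.eq_two_or_odd' with h | h
    · omega
    · exact h
  have hlp : l ^ orderOf l = 1 := pow_orderOf_eq_one l
  -- index ≤ 2
  have hr2 : (V ⊓ centralizer ({a} : Set G)).relIndex V ≤ 2 := by
    have hVp : IsPGroup 2 V := by
      intro g
      refine ⟨1, ?_⟩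
      rw [pow_one]
      exact Subtype.ext (by simpa using hV2 g g.2)
    obtain ⟨k, hk⟩ := IsPGroup.iff_card.mp hVp
    have hdvd : (V ⊓ centralizer ({a} : Set G)).relIndex V ∣ 2 ^ k :=
      hk ▸ relIndex_dvd_card (V ⊓ centralizer ({a} : Set G)) V
    obtain ⟨j, hj, hjeq⟩ := (Nat.dvd_prime_pow Nat.prime_two).mp hdvd
    rw [hjeq] at hlt ⊢
    have hj2 : j < 2 := by
      by_contra hj2
      push Not at hj2
      have : 2 ^ 2 ≤ 2 ^ j := Nat.pow_le_pow_right (by norm_num) hj2
      omega
    interval_cases j <;> simp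
  have hf : Function.Injective (MulAut.conj l).toMonoidHom := (MulAut.conj l).injective
  have hVf : V.map (MulAut.conj l).toMonoidHom = V := by
    have hle : V.map (MulAut.conj l).toMonoidHom ≤ V := by
      rintro _ ⟨v, hv, rfl⟩
      exact hlV v hv
    exact Subgroup.eq_of_le_of_card_ge hle (by rw [Subgroup.card_map_of_injective hf])
  have hr2' : ((V ⊓ centralizer ({a} : Set G)).map (MulAut.conj l).toMonoidHom).relIndex V ≤ 2 := by
    have := relIndex_map_map_of_injective (V ⊓ centralizer ({a} : Set G)) V hf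
    rw [hVf] at this
    rw [this]
    exact hr2
  have hT4 : ((V ⊓ centralizer ({a} : Set G)) ⊓
      (V ⊓ centralizer ({a} : Set G)).map (MulAut.conj l).toMonoidHom).relIndex V ≤ 4 := by
    calc _ ≤ (V ⊓ centralizer ({a} : Set G)).relIndex V *
          ((V ⊓ centralizer ({a} : Set G)).map (MulAut.conj l).toMonoidHom).relIndex V :=
        relIndex_inf_le
      _ ≤ 2 * 2 := Nat.mul_le_mul hr2 hr2'
  have hai : a⁻¹ = a := TD.inv_eq_self_of_sq ha2
  -- `T` is centralized by `l`
  have hTl : ∀ t ∈ (V ⊓ centralizer ({a} : Set G)) ⊓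
      (V ⊓ centralizer ({a} : Set G)).map (MulAut.conj l).toMonoidHom, l * t = t * l := by
    intro t ht
    obtain ⟨ht1, ht2⟩ := mem_inf.mp ht
    have hta : t * a = a * t := mem_centralizer_singleton_iff.mp (mem_inf.mp ht1).2
    obtain ⟨c, hc, hct⟩ := ht2
    have hca : c * a = a * c := mem_centralizer_singleton_iff.mp (mem_inf.mp hc).2
    have hct' : l * c * l⁻¹ = t := hct
    have hta' : t * (l * a * l⁻¹) = (l * a * l⁻¹) * t := by
      rw [← hct']
      calc l * c * l⁻¹ * (l * a * l⁻¹) = l * (c * a) * l⁻¹ := by group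
        _ = l * (a * c) * l⁻¹ := by rw [hca]
        _ = l * a * l⁻¹ * (l * c * l⁻¹) := by group
    have hprod : a * (l * a * l⁻¹) = (l ^ 2)⁻¹ := by
      have : a * l * a = l⁻¹ := by rw [← hinv, hai]
      calc a * (l * a * l⁻¹) = (a * l * a) * l⁻¹ := by group
        _ = (l ^ 2)⁻¹ := by rw [this, sq, mul_inv_rev]
    have h2 : t * (l ^ 2)⁻¹ = (l ^ 2)⁻¹ * t := by
      rw [← hprod, ← mul_assoc, hta, mul_assoc, hta', ← mul_assoc]
    have h3 : l ^ 2 * t = t * l ^ 2 := by
      have hc : Commute t (l ^ 2)⁻¹ := h2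
      have hc2 := hc.inv_right.symm
      rw [inv_inv] at hc2
      exact hc2.eq
    exact comm_of_comm_sq hodd h3
  intro v hv
  have hconjV : ∀ k : ℕ, l ^ k * v * (l ^ k)⁻¹ ∈ V := by
    intro k
    induction k with
    | zero => simpa using hv
    | succ k ih =>
      have := hlV _ ih
      have e : l ^ (k + 1) * v * (l ^ (k + 1))⁻¹ = l * (l ^ k * v * (l ^ k)⁻¹) * l⁻¹ := by
        rw [pow_succ']; group
      rw [e]; exact this
  -- key: two of the conjugates in the same coset force `l` to centralize `v`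
  have key : ∀ i j : ℕ, i < j → j < 5 →
      (l ^ i * v * (l ^ i)⁻¹)⁻¹ * (l ^ j * v * (l ^ j)⁻¹) ∈ (V ⊓ centralizer ({a} : Set G)) ⊓
        (V ⊓ centralizer ({a} : Set G)).map (MulAut.conj l).toMonoidHom → l * v = v * l := by
    intro i j hij hj5 hmem
    obtain ⟨m, rfl⟩ : ∃ m, j = i + m := ⟨j - i, by omega⟩
    have hm1 : 0 < m := by omega
    have hm4 : m < 5 := by omega
    have hcomm := hTl _ hmem
    have hcommi : Commute (l ^ i) ((l ^ i * v * (l ^ i)⁻¹)⁻¹ * (l ^ (i + m) * v * (l ^ (i + m))⁻¹)) :=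
      Commute.pow_left hcomm i
    have ht_eq : v⁻¹ * (l ^ m * v * (l ^ m)⁻¹) =
        (l ^ i * v * (l ^ i)⁻¹)⁻¹ * (l ^ (i + m) * v * (l ^ (i + m))⁻¹) := by
      have e1 : v⁻¹ * (l ^ m * v * (l ^ m)⁻¹) = (l ^ i)⁻¹ *
          ((l ^ i * v * (l ^ i)⁻¹)⁻¹ * (l ^ (i + m) * v * (l ^ (i + m))⁻¹)) * l ^ i := by
        rw [pow_add]; group
      rw [e1, mul_assoc, ← hcommi.eq, ← mul_assoc, inv_mul_cancel, one_mul]
    rw [← ht_eq] at hmem hcomm
    have htV : v⁻¹ * (l ^ m * v * (l ^ m)⁻¹) ∈ V := (mem_inf.mp (mem_inf.mp hmem).1).1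
    have hcommm : l ^ m * (v⁻¹ * (l ^ m * v * (l ^ m)⁻¹)) = v⁻¹ * (l ^ m * v * (l ^ m)⁻¹) * l ^ m :=
      (Commute.pow_left (show Commute l _ from hcomm) m).eq
    have hone : v⁻¹ * (l ^ m * v * (l ^ m)⁻¹) = 1 := by
      apply eq_one_of_conj_eq_mul (l := l ^ m) (v := v) hodd _ _ hcommm (hV2 _ htV)
      · rw [← pow_mul, mul_comm, pow_mul, hlp, one_pow]
      · group
    have hlmv : l ^ m * v = v * l ^ m := by
      rw [TD.comm_iff_conj]
      have := congrArg (fun t => v * t) hone
      simpa using this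
    have hcop : Nat.Coprime m (orderOf l) := by
      rw [Nat.coprime_comm, Nat.Prime.coprime_iff_not_dvd hp]
      intro hd
      have := Nat.le_of_dvd hm1 hd
      omega
    obtain ⟨r, hr⟩ := exists_pow_eq_self_of_coprime hcop
    have hc : Commute (l ^ m) v := hlmv
    have := (hc.pow_left r).eq
    rw [hr] at this
    exact this
  -- pigeonhole
  have hg : ¬ Function.Injective (fun k : Fin 5 =>
      (QuotientGroup.mk (⟨l ^ (k : ℕ) * v * (l ^ (k : ℕ))⁻¹, hconjV k⟩ : V) :
        V ⧸ (((V ⊓ centralizer ({a} : Set G)) ⊓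
          (V ⊓ centralizer ({a} : Set G)).map (MulAut.conj l).toMonoidHom).subgroupOf V))) := by
    intro hinj
    have h1 := Nat.card_le_card_of_injective _ hinj
    rw [Nat.card_fin] at h1
    have h2 : Nat.card (V ⧸ (((V ⊓ centralizer ({a} : Set G)) ⊓
          (V ⊓ centralizer ({a} : Set G)).map (MulAut.conj l).toMonoidHom).subgroupOf V)) ≤ 4 := hT4
    omega
  rw [Function.not_injective_iff] at hg
  obtain ⟨i, j, hij, hne⟩ := hg
  have hij' : (i : ℕ) ≠ (j : ℕ) := fun h => hne (Fin.ext h)
  rcases lt_or_gt_of_ne hij' with hlt' | hlt'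
  · apply key i j hlt' j.2
    have := QuotientGroup.eq.mp hij
    rw [mem_subgroupOf] at this
    simpa using this
  · apply key j i hlt' i.2
    have := QuotientGroup.eq.mp hij.symm
    rw [mem_subgroupOf] at this
    simpa using this

theorem relIndex_pos_of_finite [Finite G] (H K : Subgroup G) : 0 < H.relIndex K := by
  rcases Nat.eq_zero_or_pos (H.relIndex K) with h | h
  · have := relIndex_dvd_card H K
    rw [h, zero_dvd_iff] at this
    exact absurd this Nat.card_pos.ne'
  · exact h

theorem isPGroup_two_of_sq {A : Subgroup G} (hA2 : ∀ x ∈ A, x ^ 2 = 1) : IsPGroup 2 A := by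
  intro g
  refine ⟨1, ?_⟩
  rw [pow_one]
  exact Subtype.ext (by simpa using hA2 g g.2)

/-- Let M and V be subgroups of a finite group with V an elementary abelian 2-group, M normalizing V and acting faithfully on it (M ∩ C(V) = 1), and C_M(O_{2'}(M)) ≤ O_{2'}(M). If some elementary abelian 2-subgroup A of M satisfies |V : C_V(A)| < |A|², then M has a section isomorphic to the symmetric group of degree 3. -/
theorem result {X : Type*} [Group X] [Finite X] (M V : Subgroup X) (hV : Cfsg.IsElementaryAbelian 2 V) (hMV : M ≤ Subgroup.normalizer (V : Set X)) (hfaith : M ⊓ Subgroup.centralizer (V : Set X) = ⊥) (hcon : Subgroup.centralizer (Cfsg.pPrimeCore 2 ↥M : Set ↥M) ≤ Cfsg.pPrimeCore 2 ↥M) (A : Subgroup X) (hAM : A ≤ M) (hA : Cfsg.IsElementaryAbelian 2 A) (hsmall : (V ⊓ Subgroup.centralizer (A : Set X)).relIndex V < Nat.card A ^ 2) : Cfsg.Involves (Equiv.Perm (Fin 3)) ↥M := by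
  classical
  by_contra hno
  obtain ⟨hVcomm, hV2⟩ := hV
  obtain ⟨hAcomm, hA2⟩ := hA
  have hAc : ∀ x ∈ A, ∀ y ∈ A, x * y = y * x := fun x hx y hy =>
    congrArg Subtype.val (hAcomm.is_comm.comm ⟨x, hx⟩ ⟨y, hy⟩)
  obtain ⟨hOn, hOcop⟩ := Cfsg.Agent.Helper54.pPrimeCore_mem (G := ↥M) 2
  have hOM : (Cfsg.pPrimeCore 2 ↥M).map M.subtype ≤ M := by
    rintro _ ⟨x, -, rfl⟩
    exact x.2
  have hOodd : Odd (Nat.card ((Cfsg.pPrimeCore 2 ↥M).map M.subtype : Subgroup X)) := by
    rw [Subgroup.card_map_of_injective M.subtype_injective]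
    exact Nat.coprime_two_right.mp hOcop
  have hMO : M ≤ normalizer (((Cfsg.pPrimeCore 2 ↥M).map M.subtype : Subgroup X) : Set X) := by
    apply TD.le_normalizer_of_forall
    rintro m hm _ ⟨x, hx, rfl⟩
    exact ⟨⟨m, hm⟩ * x * ⟨m, hm⟩⁻¹, hOn.conj_mem x hx ⟨m, hm⟩, rfl⟩
  have hVp : IsPGroup 2 V := isPGroup_two_of_sq hV2
  have claim : ∀ (n : ℕ) (A₀ : Subgroup X), A₀ ≤ M → (∀ x ∈ A₀, ∀ y ∈ A₀, x * y = y * x) →
      (∀ x ∈ A₀, x ^ 2 = 1) → Nat.card A₀ = 2 ^ n →
      4 ^ n ≤ (V ⊓ centralizer (A₀ : Set X)).relIndex V := by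
    intro n
    induction n with
    | zero =>
      intro A₀ _ _ _ _
      rw [pow_zero]
      exact relIndex_pos_of_finite _ _
    | succ n ih =>
      intro A₀ hA₀M hAc hA2 hcard
      have hA₀1 : A₀ ≠ ⊥ := by
        intro h
        rw [h, Subgroup.card_bot] at hcard
        have : 2 ≤ 2 ^ (n + 1) := by
          calc 2 = 2 ^ 1 := by norm_num
            _ ≤ 2 ^ (n + 1) := Nat.pow_le_pow_right (by norm_num) (by omega)
        omega
      obtain ⟨a, haA, ha1⟩ := TD.exists_ne_one_of_ne_bot hA₀1
      have haM := hA₀M haA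
      have haO : ¬ ∀ x ∈ (Cfsg.pPrimeCore 2 ↥M).map M.subtype, a * x = x * a := by
        intro h
        have hmem : (⟨a, haM⟩ : M) ∈ centralizer ((Cfsg.pPrimeCore 2 ↥M : Subgroup M) : Set M) := by
          rw [mem_centralizer_iff]
          intro y hy
          apply Subtype.ext
          exact (h y ⟨y, hy, rfl⟩).symm
        have haO' : a ∈ (Cfsg.pPrimeCore 2 ↥M).map M.subtype := ⟨⟨a, haM⟩, hcon hmem, rfl⟩
        exact ha1 (TD.eq_one_of_sq_of_mem hOodd haO' (hA2 a haA))
      obtain ⟨l, hlO, hprime, hEV, hinv⟩ :=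
        TD.exists_eigenvector hAc hA2 (hA₀M.trans hMO) hOodd haA haO
      have hlM := hOM hlO
      have hlodd : Odd (orderOf l) := Odd.of_dvd_nat hOodd (orderOf_dvd_natCard _ hlO)
      have hl1 : l ≠ 1 := by
        intro h
        rw [h, orderOf_one] at hprime
        exact Nat.not_prime_one hprime
      by_cases h3 : orderOf l = 3
      · exfalso
        apply hno
        have : Fact (Nat.Prime 3) := ⟨Nat.prime_three⟩
        apply involves_perm_of_involves_dihedral
        apply Cfsg.Agent.S2758.involves_of_inverts_prime (p := 3) (by norm_num)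
          (x := (⟨a, haM⟩ : M)) (y := (⟨l, hlM⟩ : M))
        · rw [← h3]
          exact Subgroup.orderOf_mk l hlM
        · apply Subtype.ext
          simpa using hinv
      · have h5 : 5 ≤ orderOf l := by
          have := hprime.two_le
          rcases hlodd with ⟨k, hk⟩
          omega
        have hnotboth : ∀ c, c * l * c⁻¹ = l⁻¹ → ¬ (c * l = l * c) := by
          intro c h1 h2
          rw [TD.comm_iff_conj] at h2
          exact hl1 (TD.eq_one_of_inv_eq_self hOodd hlO (h2.symm.trans h1))
        have hprod : ∀ c d, c * l * c⁻¹ = l⁻¹ → d * l * d⁻¹ = l⁻¹ → (c * d) * l = l * (c * d) := by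
          intro c d hc hd
          rw [TD.comm_iff_conj, TD.conj_mul_eq, hd, ← conj_inv, hc, inv_inv]
        have hA₁A : A₀ ⊓ centralizer ({l} : Set X) ≤ A₀ := inf_le_left
        have hidx : (A₀ ⊓ centralizer ({l} : Set X)).relIndex A₀ = 2 := by
          rw [relIndex_eq_two_iff_exists_notMem_and]
          refine ⟨a, haA, ?_, ?_⟩
          · intro h
            exact hnotboth a hinv (mem_centralizer_singleton_iff.mp (mem_inf.mp h).2)
          · intro c hc
            rcases hEV c hc with h | h
            · right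
              exact mem_inf.mpr ⟨hc, mem_centralizer_singleton_iff.mpr (TD.comm_iff_conj.mpr h)⟩
            · left
              exact mem_inf.mpr ⟨A₀.mul_mem hc haA,
                mem_centralizer_singleton_iff.mpr (hprod c a h hinv)⟩
        have hA₁card : Nat.card (A₀ ⊓ centralizer ({l} : Set X) : Subgroup X) = 2 ^ n := by
          have h := relIndex_mul_relIndex ⊥ (A₀ ⊓ centralizer ({l} : Set X)) A₀ bot_le hA₁A
          rw [relIndex_bot_left, relIndex_bot_left, hidx, hcard, pow_succ] at h
          exact Nat.eq_of_mul_eq_mul_right (by norm_num) h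
        have hA₁2 : ∀ x ∈ A₀ ⊓ centralizer ({l} : Set X), x ^ 2 = 1 := fun x hx => hA2 x (hA₁A hx)
        have hIH := ih (A₀ ⊓ centralizer ({l} : Set X)) (hA₁A.trans hA₀M)
          (fun x hx y hy => hAc x (hA₁A hx) y (hA₁A hy)) hA₁2 hA₁card
        have hlNV : l ∈ normalizer (V : Set X) := hMV hlM
        have hlV : ∀ v ∈ V, l * v * l⁻¹ ∈ V := fun v hv => (mem_normalizer_iff.mp hlNV v).mp hv
        -- `l` acts nontrivially on `V₁ = C_V(A₁)` by Thompson `A × B`
        have hV1nc : ¬ ∀ v ∈ V ⊓ centralizer ((A₀ ⊓ centralizer ({l} : Set X) : Subgroup X) : Set X),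
            l * v = v * l := by
          intro hall
          have hcomm : ⁅A₀ ⊓ centralizer ({l} : Set X), zpowers l⁆ = ⊥ := by
            rw [Subgroup.commutator_eq_bot_iff_le_centralizer]
            intro x hx
            rw [mem_centralizer_iff]
            intro y hy
            obtain ⟨k, rfl⟩ := mem_zpowers_iff.mp hy
            have hc : Commute x l := mem_centralizer_singleton_iff.mp (mem_inf.mp hx).2
            exact (hc.zpow_right k).eq.symm
          have hlcop : (Nat.card (zpowers l)).Coprime 2 := by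
            rw [Nat.card_zpowers]
            exact Nat.coprime_two_right.mpr hlodd
          have hC : V ⊓ centralizer ((A₀ ⊓ centralizer ({l} : Set X) : Subgroup X) : Set X) ≤
              centralizer ((zpowers l : Subgroup X) : Set X) := by
            intro v hv
            rw [mem_centralizer_iff]
            intro y hy
            obtain ⟨k, rfl⟩ := mem_zpowers_iff.mp hy
            have hc : Commute l v := hall v hv
            exact (hc.zpow_left k).eq
          have hAB := Cfsg.Agent.Helper30.thompson_AxB (p := 2) (A₀ ⊓ centralizer ({l} : Set X))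
            (zpowers l) (isPGroup_two_of_sq hA₁2) hlcop hcomm V hVp
            ((hA₁A.trans hA₀M).trans hMV) (zpowers_le.mpr hlNV) hC
          rw [Subgroup.commutator_eq_bot_iff_le_centralizer] at hAB
          have : l ∈ M ⊓ centralizer (V : Set X) := by
            refine mem_inf.mpr ⟨hlM, ?_⟩
            rw [mem_centralizer_iff]
            intro v hv
            exact (mem_centralizer_iff.mp (hAB hv) l (mem_zpowers l)).symm
          rw [hfaith] at this
          exact hl1 (mem_bot.mp this)
        have hlV₁ : ∀ v ∈ V ⊓ centralizer ((A₀ ⊓ centralizer ({l} : Set X) : Subgroup X) : Set X),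
            l * v * l⁻¹ ∈ V ⊓ centralizer ((A₀ ⊓ centralizer ({l} : Set X) : Subgroup X) : Set X) := by
          intro v hv
          obtain ⟨hvV, hvC⟩ := mem_inf.mp hv
          refine mem_inf.mpr ⟨hlV v hvV, ?_⟩
          rw [mem_centralizer_iff]
          intro x hx
          have h1 : x * v = v * x := mem_centralizer_iff.mp hvC x hx
          have h2 : x * l = l * x := mem_centralizer_singleton_iff.mp (mem_inf.mp hx).2
          have h3 : x * l⁻¹ = l⁻¹ * x := (Commute.inv_right (show Commute x l from h2)).eq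
          calc x * (l * v * l⁻¹) = (x * l) * v * l⁻¹ := by group
            _ = l * (x * v) * l⁻¹ := by rw [h2]; group
            _ = l * v * (x * l⁻¹) := by rw [h1]; group
            _ = l * v * l⁻¹ * x := by rw [h3]; group
        have hD := dihedral_index_bound
          (V := V ⊓ centralizer ((A₀ ⊓ centralizer ({l} : Set X) : Subgroup X) : Set X))
          (fun x hx => hV2 x (mem_inf.mp hx).1) (hA2 a haA) hinv hprime h5 hlV₁ hV1nc
        have heq : V ⊓ centralizer (A₀ : Set X) =
            (V ⊓ centralizer ((A₀ ⊓ centralizer ({l} : Set X) : Subgroup X) : Set X)) ⊓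
              centralizer ({a} : Set X) := by
          apply le_antisymm
          · intro v hv
            obtain ⟨hvV, hvC⟩ := mem_inf.mp hv
            refine mem_inf.mpr ⟨mem_inf.mpr ⟨hvV, ?_⟩, ?_⟩
            · rw [mem_centralizer_iff]
              intro x hx
              exact mem_centralizer_iff.mp hvC x (hA₁A hx)
            · rw [mem_centralizer_singleton_iff]
              exact (mem_centralizer_iff.mp hvC a haA).symm
          · intro v hv
            obtain ⟨hv1, hva⟩ := mem_inf.mp hv
            obtain ⟨hvV, hvC⟩ := mem_inf.mp hv1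
            refine mem_inf.mpr ⟨hvV, ?_⟩
            rw [mem_centralizer_iff]
            intro x hx
            have hva' : v * a = a * v := mem_centralizer_singleton_iff.mp hva
            rcases hEV x hx with h | h
            · exact mem_centralizer_iff.mp hvC x
                (mem_inf.mpr ⟨hx, mem_centralizer_singleton_iff.mpr (TD.comm_iff_conj.mpr h)⟩)
            · have hxa : x * a ∈ A₀ ⊓ centralizer ({l} : Set X) :=
                mem_inf.mpr ⟨A₀.mul_mem hx haA,
                  mem_centralizer_singleton_iff.mpr (hprod x a h hinv)⟩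
              have h1 : (x * a) * v = v * (x * a) := mem_centralizer_iff.mp hvC _ hxa
              have hai : a⁻¹ = a := TD.inv_eq_self_of_sq (hA2 a haA)
              have hva'' : v * a⁻¹ = a⁻¹ * v := by rw [hai]; exact hva'
              calc x * v = (x * a) * (a⁻¹ * v) := by group
                _ = (x * a) * (v * a⁻¹) := by rw [hva'']
                _ = ((x * a) * v) * a⁻¹ := by group
                _ = (v * (x * a)) * a⁻¹ := by rw [h1]
                _ = v * x := by group
        have hmul := relIndex_mul_relIndex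
          ((V ⊓ centralizer ((A₀ ⊓ centralizer ({l} : Set X) : Subgroup X) : Set X)) ⊓
              centralizer ({a} : Set X))
          (V ⊓ centralizer ((A₀ ⊓ centralizer ({l} : Set X) : Subgroup X) : Set X)) V
          inf_le_left inf_le_left
        rw [heq, ← hmul, pow_succ, mul_comm]
        exact Nat.mul_le_mul hD hIH
  obtain ⟨n, hn⟩ := IsPGroup.iff_card.mp (isPGroup_two_of_sq hA2)
  have h1 := claim n A hAM hAc hA2 hn
  rw [hn] at hsmall
  have h2 : (2 ^ n) ^ 2 = 4 ^ n := by
    rw [← pow_mul, mul_comm, pow_mul]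
    norm_num
  omega

end Cfsg.Agent.S3755
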