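import Cfsg.Statements.S3760

set_option autoImplicit false
open Cfsg

namespace Cfsg.Agent.S3760

/-- Let the group G act transitively on a set X, let x ∈ X with stabilizer H = G_x, and let K ≤ H. Then N_G(K) acts transitively on the set of fixed points of K if and only if every G-conjugate of K contained in H is already an H-conjugate of K. -/
theorem result {G : Type*} [Group G] {X : Type*} [MulAction G X] (htrans : ∀ a b : X, ∃ g : G, g • a = b) (x : X) (K : Subgroup G) (hK : K ≤ MulAction.stabilizer G x) : (∀ a b : X, (∀ k ∈ K, k • a = a) → (∀ k ∈ K, k • b = b) → ∃ g ∈ Subgroup.normalizer (K : Set G), g • a = b) ↔ ∀ g : G, K.map (MulAut.conj g).toMonoidHom ≤ MulAction.stabilizer G x → ∃ h ∈ MulAction.stabilizer G x, K.map (MulAut.conj g).toMonoidHom = K.map (MulAut.conj h).toMonoidHom := by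
  constructor
  · intro hN g hg
    have hx : ∀ k ∈ K, k • x = x := fun k hk => hK hk
    have hgx : ∀ k ∈ K, k • (g⁻¹ • x) = g⁻¹ • x := by
      intro k hk
      have h1 : g * k * g⁻¹ ∈ MulAction.stabilizer G x := by
        apply hg
        exact ⟨k, hk, by simp [MulAut.conj_apply]⟩
      rw [MulAction.mem_stabilizer_iff] at h1
      have : g⁻¹ • ((g * k * g⁻¹) • x) = g⁻¹ • x := by rw [h1]
      rw [mul_smul, mul_smul, inv_smul_smul] at this
      exact this
    obtain ⟨n, hn, hnx⟩ := hN (g⁻¹ • x) x hgx hx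
    refine ⟨g * n⁻¹, ?_, ?_⟩
    · rw [MulAction.mem_stabilizer_iff, mul_smul]
      have : n⁻¹ • x = g⁻¹ • x := by
        rw [inv_smul_eq_iff]; exact hnx.symm
      rw [this]; simp
    · have hn' : n⁻¹ ∈ Subgroup.normalizer (K : Set G) := inv_mem hn
      rw [Subgroup.mem_normalizer_iff_map_conj_eq] at hn'
      have : (MulAut.conj (g * n⁻¹)).toMonoidHom = (MulAut.conj g).toMonoidHom.comp (MulAut.conj n⁻¹).toMonoidHom := by
        ext y; simp [MulAut.conj_apply, mul_assoc]
      rw [this, ← Subgroup.map_map]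
      congr 1
      exact hn'.symm
  · intro hF
    have key : ∀ a : X, (∀ k ∈ K, k • a = a) → ∃ n ∈ Subgroup.normalizer (K : Set G), n • a = x := by
      intro a ha
      obtain ⟨g, hg⟩ := htrans a x
      have hle : K.map (MulAut.conj g).toMonoidHom ≤ MulAction.stabilizer G x := by
        rintro _ ⟨k, hk, rfl⟩
        rw [MulAction.mem_stabilizer_iff]
        simp only [MulEquiv.toMonoidHom_eq_coe, MonoidHom.coe_coe, MulAut.conj_apply]
        rw [mul_smul, mul_smul, ← hg, inv_smul_smul, ha k hk]
      obtain ⟨h, hh, hEq⟩ := hF g hle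
      refine ⟨h⁻¹ * g, ?_, ?_⟩
      · rw [Subgroup.mem_normalizer_iff_map_conj_eq]
        have : (MulAut.conj (h⁻¹ * g)).toMonoidHom = (MulAut.conj h⁻¹).toMonoidHom.comp (MulAut.conj g).toMonoidHom := by
          ext y; simp [MulAut.conj_apply, mul_assoc]
        have e2 : K.map (MulAut.conj (h⁻¹ * g)).toMonoidHom = K := by
          rw [this, ← Subgroup.map_map, hEq, Subgroup.map_map]
          have : (MulAut.conj h⁻¹).toMonoidHom.comp (MulAut.conj h).toMonoidHom = MonoidHom.id G := by
            ext y; simp [MulAut.conj_apply, mul_assoc]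
          rw [this, Subgroup.map_id]
        exact e2
      · rw [mul_smul, hg]
        rw [MulAction.mem_stabilizer_iff] at hh
        rw [inv_smul_eq_iff, hh]
    intro a b ha hb
    obtain ⟨n1, hn1, h1⟩ := key a ha
    obtain ⟨n2, hn2, h2⟩ := key b hb
    refine ⟨n2⁻¹ * n1, mul_mem (inv_mem hn2) hn1, ?_⟩
    rw [mul_smul, h1, inv_smul_eq_iff, h2]

end Cfsg.Agent.S3760
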