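import Cfsg.Statements.S3763
import Cfsg.Agent.Lib.Helper89.Classify.Cor

set_option autoImplicit false
open Cfsg

namespace Cfsg.Agent.S3763

open Cfsg.Agent.Helper89

theorem pRankLE_iff {E : Type*} [Group E] (k : ℕ) : Cfsg.PRankLE 2 k E ↔ Cfsg.Agent.Helper89.RankLE E k := by
  constructor
  · intro h A hA
    exact h A hA.1 hA.2
  · intro h A h1 h2
    exact h A ⟨h1, h2⟩

theorem not_rankLE_of_rankGE {E : Type*} [Group E] {r k : ℕ} (h : Cfsg.Agent.Helper89.RankGE E r) (hk : k < r) :
    ¬ Cfsg.Agent.Helper89.RankLE E k := by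
  intro h2
  obtain ⟨A, hA, hcard⟩ := h
  have := h2 A hA
  rw [hcard] at this
  have : r ≤ k := (Nat.pow_le_pow_iff_right (by norm_num)).mp this
  omega

/-- Let E be an extraspecial 2-group of order 2^(2n+1). Then the largest elementary abelian subgroups of E have order 2^n or 2^(n+1); and two extraspecial 2-groups of the same order whose largest elementary abelian subgroups have the same order are isomorphic. -/
theorem result {E : Type*} [Group E] [Finite E] (hE : Cfsg.IsExtraspecial 2 E) (n : ℕ) (hn : Nat.card E = 2 ^ (2 * n + 1)) : ((Cfsg.PRankLE 2 n E ∧ ¬ Cfsg.PRankLE 2 (n - 1) E) ∨ (Cfsg.PRankLE 2 (n + 1) E ∧ ¬ Cfsg.PRankLE 2 n E)) ∧ ∀ (E' : Type*) [Group E'] [Finite E'], Cfsg.IsExtraspecial 2 E' → Nat.card E' = Nat.card E → (∀ k : ℕ, Cfsg.PRankLE 2 k E ↔ Cfsg.PRankLE 2 k E') → Nonempty (E ≃* E') := by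
  obtain ⟨c, n', hG, hn1, hcard, htype⟩ := extraspecial_type hE
  have e : n' = n := pow_two_injective (by rw [← hcard, hn])
  subst e
  constructor
  · rcases htype with hp | hm
    · right
      rw [pRankLE_iff, pRankLE_iff]
      exact ⟨hp.2.2, not_rankLE_of_rankGE hp.2.1 (by omega)⟩
    · left
      rw [pRankLE_iff, pRankLE_iff]
      exact ⟨hm.2.2, not_rankLE_of_rankGE hm.2.1 (by omega)⟩
  · intro E' _ _ hE' hcard' hrank
    obtain ⟨c', n'', hG', _, hcard2, htype'⟩ := extraspecial_type hE'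
    have e : n'' = n' := pow_two_injective (by rw [← hcard2, ← hcard, hcard'])
    subst e
    have hr := hrank n''
    rw [pRankLE_iff, pRankLE_iff] at hr
    rcases htype with hp | hm <;> rcases htype' with hp' | hm'
    · exact extraspecial_iso hG hG' hcard hcard2 (Or.inl ⟨hp, hp'⟩)
    · exfalso
      exact not_rankLE_of_rankGE hp.2.1 (by omega) (hr.mpr hm'.2.2)
    · exfalso
      exact not_rankLE_of_rankGE hp'.2.1 (by omega) (hr.mp hm.2.2)
    · exact extraspecial_iso hG hG' hcard hcard2 (Or.inr ⟨hm, hm'⟩)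

end Cfsg.Agent.S3763
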