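-- Statement S3764: prime order action on an extraspecial group with fixed-point-free module.
import Cfsg.Statements.S3764
import Cfsg.Agent.Lib.Helper48.SympRepGroup
import Cfsg.Agent.Lib.Helper48.ExtraMod

set_option autoImplicit false
open Cfsg

namespace Cfsg.Agent.S3764

open Subgroup Cfsg.Agent.Helper63 Cfsg.Agent.Helper48.ExtraMod Cfsg.Agent.Helper48.SympRep

/-- arithmetic end game -/
lemma arith {q r n : ℕ} (hq : q.Prime) (hr : r.Prime) (hqr : q ≠ r) (hn : 1 ≤ n)
    (h1 : q ^ (2 * n + 1) ≤ q * (r - 1) ^ 2) (h2 : q ^ (2 * n + 1) ≡ q [MOD r]) :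
    q = 2 ∧ r = 2 ^ n + 1 := by
  have hq2 : 2 ≤ q := hq.two_le
  have hr2 : 2 ≤ r := hr.two_le
  -- q ^ n ≤ r - 1
  have h3 : (q ^ n) ^ 2 ≤ (r - 1) ^ 2 := by
    have : q ^ (2 * n + 1) = q * (q ^ n) ^ 2 := by ring
    rw [this] at h1
    exact Nat.le_of_mul_le_mul_left h1 hq.pos
  have h4 : q ^ n ≤ r - 1 := (Nat.pow_le_pow_iff_left (by norm_num)).mp h3
  have hqn : 2 ≤ q ^ n := by
    calc 2 ≤ q := hq2
      _ = q ^ 1 := (pow_one q).symm
      _ ≤ q ^ n := Nat.pow_le_pow_right hq.pos hn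
  -- r ∣ q (q^n - 1)(q^n + 1)
  have h5 : r ∣ q ^ (2 * n + 1) - q := (Nat.modEq_iff_dvd' (by
    calc q = q ^ 1 := (pow_one q).symm
      _ ≤ q ^ (2 * n + 1) := Nat.pow_le_pow_right hq.pos (by omega))).mp h2.symm
  have h6 : q ^ (2 * n + 1) - q = q * ((q ^ n - 1) * (q ^ n + 1)) := by
    have h7 : (q ^ n - 1) * (q ^ n + 1) = (q ^ n) ^ 2 - 1 := by
      obtain ⟨m, hm⟩ : ∃ m, q ^ n = m + 1 := ⟨q ^ n - 1, by omega⟩
      rw [hm]
      simp only [Nat.add_sub_cancel]
      have : (m + 1) ^ 2 = m * (m + 1 + 1) + 1 := by ring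
      rw [this, Nat.add_sub_cancel]
    rw [h7, Nat.mul_sub, mul_one]
    congr 1
    ring
  rw [h6] at h5
  have h8 : r ∣ (q ^ n - 1) * (q ^ n + 1) := by
    rcases (Nat.Prime.dvd_mul hr).mp h5 with h | h
    · exact absurd ((Nat.prime_dvd_prime_iff_eq hr hq).mp h).symm hqr
    · exact h
  have h9 : r ∣ q ^ n + 1 := by
    rcases (Nat.Prime.dvd_mul hr).mp h8 with h | h
    · exfalso
      have := Nat.le_of_dvd (by omega) h
      omega
    · exact h
  have h10 : r = q ^ n + 1 := by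
    have := Nat.le_of_dvd (by omega) h9
    omega
  have hq2' : q = 2 := by
    by_contra hne
    have hqodd : Odd q := hq.odd_of_ne_two hne
    have : Odd (q ^ n) := hqodd.pow
    have hreven : Even r := by
      rw [h10]
      exact this.add_one
    have : r = 2 := (Nat.Prime.even_iff hr).mp hreven
    omega
  exact ⟨hq2', by rw [h10, hq2']⟩

/-- Let p, q, r be distinct primes and let X, Q, V be subgroups of a finite group with X of order r, Q an extraspecial q-group normalized by X with C_Q(X) = Z(Q), and V an elementary abelian p-group normalized by X and Q on which XQ acts faithfully ((X ⊔ Q) ∩ C(V) = 1). If C_V(X) = 1, then q = 2, r = 2^n + 1 for some n, and Q has order 2^(2n+1). -/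
theorem result {G : Type*} [Group G] [Finite G] {p q r : ℕ} (hp : p.Prime) (hq : q.Prime) (hr : r.Prime) (hpq : p ≠ q) (hpr : p ≠ r) (hqr : q ≠ r) (X Q V : Subgroup G) (hX : Nat.card X = r) (hQ : Cfsg.IsExtraspecial q ↥Q) (hXQ : X ≤ Subgroup.normalizer (Q : Set G)) (hCQ : Q ⊓ Subgroup.centralizer (X : Set G) = (Subgroup.center ↥Q).map Q.subtype) (hV : Cfsg.IsElementaryAbelian p V) (hXV : X ≤ Subgroup.normalizer (V : Set G)) (hQV : Q ≤ Subgroup.normalizer (V : Set G)) (hfaith : (X ⊔ Q) ⊓ Subgroup.centralizer (V : Set G) = ⊥) (hCV : V ⊓ Subgroup.centralizer (X : Set G) = ⊥) : q = 2 ∧ ∃ n : ℕ, r = 2 ^ n + 1 ∧ Nat.card Q = 2 ^ (2 * n + 1) := by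
  have : Fact p.Prime := ⟨hp⟩
  have : Fact q.Prime := ⟨hq⟩
  have : Fact r.Prime := ⟨hr⟩
  -- generator of X
  have hXcyc : IsCyclic X := isCyclic_of_prime_card hX
  obtain ⟨⟨x, hxX⟩, hxgen⟩ := hXcyc.exists_generator
  have hXz : X = zpowers x := by
    ext y
    constructor
    · intro hy
      obtain ⟨k, hk⟩ := Subgroup.mem_zpowers_iff.mp (hxgen ⟨y, hy⟩)
      refine Subgroup.mem_zpowers_iff.mpr ⟨k, ?_⟩
      have := congrArg Subtype.val hk
      simpa using this
    · intro hy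
      exact (Subgroup.zpowers_le.mpr hxX) hy
  have hcentX : centralizer (X : Set G) = centralizer ({x} : Set G) := by
    rw [hXz, Subgroup.zpowers_eq_closure, Subgroup.centralizer_closure]
  have hxr : x ^ r = 1 := by
    have : (⟨x, hxX⟩ : X) ^ r = 1 := by rw [← hX]; exact pow_card_eq_one'
    exact congrArg Subtype.val this
  -- the centre of Q
  have hZ : Nat.card (zOf Q) = q := by
    rw [zOf_eq_map_center, Subgroup.card_map_of_injective Q.subtype_injective]
    exact hQ.2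
  have hQc : ⁅Q, Q⁆ ≤ zOf Q := by
    rw [zOf_eq_map_center, ← Subgroup.map_subtype_commutator, hQ.1.2.2]
  have hCQ' : Q ⊓ centralizer ({x} : Set G) = zOf Q := by
    rw [← hcentX, hCQ, zOf_eq_map_center]
  obtain ⟨c, hcZ, hc1⟩ : ∃ c ∈ zOf Q, c ≠ 1 := by
    have hne : zOf Q ≠ ⊥ := by
      intro h
      rw [h, Subgroup.card_bot] at hZ
      exact hq.one_lt.ne hZ
    obtain ⟨⟨c, hc⟩, hc1⟩ := (Subgroup.ne_bot_iff_exists_ne_one).mp hne
    exact ⟨c, hc, fun h => hc1 (Subtype.ext h)⟩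
  have hcQ : c ∈ Q := (mem_zOf.mp hcZ).1
  have hcq : c ^ q = 1 := pow_eq_one_of_mem_zOf hZ hcZ
  have hordc : orderOf c = q := orderOf_eq_prime hcq hc1
  have hZpow : ∀ u ∈ zOf Q, u ∈ zpowers c := fun u hu => mem_zpowers_of_mem_zOf hZ hcZ hc1 hu
  have hpowZ : ∀ u ∈ zpowers c, u ∈ zOf Q := fun u hu => (Subgroup.zpowers_le.mpr hcZ) hu
  have hxc : x * c = c * x := by
    have : c ∈ Q ⊓ centralizer ({x} : Set G) := by rw [hCQ']; exact hcZ
    exact (Subgroup.mem_centralizer_singleton_iff.mp this.2).symm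
  have hxQ : ∀ u ∈ Q, x * u * x⁻¹ ∈ Q := fun u hu =>
    (Subgroup.mem_normalizer_iff.mp (hXQ hxX) u).mp hu
  -- fixed-point-freeness modulo the centre
  have hfpf : ∀ u ∈ Q, x * u * x⁻¹ * u⁻¹ ∈ zpowers c → u ∈ zpowers c := by
    intro u hu hmem
    have hfin : IsOfFinOrder c := isOfFinOrder_iff_pow_eq_one.mpr ⟨q, hq.pos, hcq⟩
    rw [← hfin.mem_powers_iff_mem_zpowers] at hmem
    obtain ⟨k, hk⟩ := hmem
    have hk' : c ^ k = x * u * x⁻¹ * u⁻¹ := hk
    have hconj : x * u * x⁻¹ = c ^ k * u := by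
      rw [hk']; group
    have hxck : ∀ j : ℕ, x * c ^ j = c ^ j * x := by
      intro j
      induction j with
      | zero => simp
      | succ j ih => rw [pow_succ, ← mul_assoc, ih, mul_assoc, hxc, ← mul_assoc]
    have hiter : ∀ i : ℕ, x ^ i * u * (x ^ i)⁻¹ = c ^ (i * k) * u := by
      intro i
      induction i with
      | zero => simp
      | succ i ih =>
        have e1 : x ^ (i + 1) * u * (x ^ (i + 1))⁻¹ = x * (x ^ i * u * (x ^ i)⁻¹) * x⁻¹ := by
          rw [pow_succ']; group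
        rw [e1, ih]
        have e2 : x * (c ^ (i * k) * u) * x⁻¹ = (x * c ^ (i * k)) * x⁻¹ * (x * u * x⁻¹) := by group
        rw [e2, hxck, hconj, Nat.succ_mul, pow_add]
        group
    have h1 := hiter r
    rw [hxr] at h1
    have h2 : c ^ (r * k) = 1 := by
      have : (1 : G) * u * (1 : G)⁻¹ = u := by group
      rw [this] at h1
      exact (mul_eq_right (a := c ^ (r * k)) (b := u)).mp h1.symm
    have h3 : q ∣ r * k := by
      rw [← hordc]; exact orderOf_dvd_of_pow_eq_one h2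
    have h4 : q ∣ k := by
      rcases (Nat.Prime.dvd_mul hq).mp h3 with h | h
      · exact absurd ((Nat.prime_dvd_prime_iff_eq hq hr).mp h) hqr
      · exact h
    have h5 : c ^ k = 1 := by
      obtain ⟨t, rfl⟩ := h4
      rw [pow_mul, hcq, one_pow]
    rw [h5, one_mul] at hconj
    have h6 : u ∈ Q ⊓ centralizer ({x} : Set G) := by
      refine ⟨hu, ?_⟩
      show u ∈ centralizer ({x} : Set G)
      rw [Subgroup.mem_centralizer_singleton_iff]
      calc u * x = (x * u * x⁻¹) * x := by rw [hconj]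
        _ = x * u := by group
    rw [hCQ'] at h6
    exact hZpow u h6
  -- c acts nontrivially
  have hcV : c ∉ centralizer (V : Set G) := by
    intro h
    have : c ∈ (X ⊔ Q) ⊓ centralizer (V : Set G) := ⟨(le_sup_right : Q ≤ X ⊔ Q) hcQ, h⟩
    rw [hfaith, Subgroup.mem_bot] at this
    exact hc1 this
  have hxfix : V ⊓ centralizer ({x} : Set G) = ⊥ := by rw [← hcentX]; exact hCV
  -- apply the core
  have hcore : Nat.card Q ≤ q * (r - 1) ^ 2 := by
    refine core_group hq hr hpq hpr V Q x c hV hQV (hXV hxX) hcQ ?_ hxr hxQ hcq ?_ hxc ?_ ?_ hfpf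
      hcV hxfix
    · exact hQ.1.1.of_equiv (MulEquiv.refl _)
    · intro u hu
      exact commute_of_mem_zOf hcZ hu
    · intro u hu w hw
      apply hZpow
      have := hQc (Subgroup.commutator_mem_commutator hu hw)
      rwa [commutatorElement_def] at this
    · intro u hu h
      apply hZpow
      rw [mem_zOf]
      exact ⟨hu, fun g hg => (h g hg).symm⟩
  -- order of Q
  obtain ⟨n, hn1, hn⟩ := extraspecial_card hQ
  have hmod : Nat.card Q ≡ q [MOD r] := by
    have h := card_modEq_card_centralizer Q x hxr (hXQ hxX)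
    rw [hCQ', hZ] at h
    exact h
  rw [hn] at hcore hmod
  obtain ⟨hq2, hr2⟩ := arith hq hr hqr hn1 hcore hmod
  refine ⟨hq2, n, hr2, ?_⟩
  rw [hn, hq2]

end Cfsg.Agent.S3764
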