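import Cfsg.Statements.S3766
import Cfsg.Agent.Lib.Helper63.FittingCrit
import Cfsg.Agent.Lib.Helper48.Cores
import Cfsg.Agent.Lib.Helper29.Fitting
import Cfsg.Agent.Lib.Helper24.Coprime

set_option autoImplicit false
open Cfsg

namespace Cfsg.Agent.S3766

open Cfsg.Agent.Helper63 Cfsg.Agent.Helper70
open scoped commutatorElement

variable {G : Type*} [Group G]

/-- `U / V` is a chief factor of `G` -/
def IsChief (U V : Subgroup G) : Prop :=
  U.Normal ∧ V.Normal ∧ V < U ∧ ∀ W : Subgroup G, W.Normal → V ≤ W → W ≤ U → W = V ∨ W = U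

lemma comm_sup_le (A F V : Subgroup G) [V.Normal] : ⁅A ⊔ V, F⁆ ≤ ⁅A, F⁆ ⊔ V := by
  have h1 : (⁅A ⊔ V, F⁆).map (QuotientGroup.mk' V) = (⁅A, F⁆).map (QuotientGroup.mk' V) := by
    rw [Subgroup.map_commutator, Subgroup.map_commutator, Subgroup.map_sup]
    have : V.map (QuotientGroup.mk' V) = ⊥ := by
      apply (Subgroup.map_eq_bot_iff V).mpr
      rw [QuotientGroup.ker_mk']
    rw [this, sup_bot_eq]
  calc ⁅A ⊔ V, F⁆ ≤ ((⁅A ⊔ V, F⁆).map (QuotientGroup.mk' V)).comap (QuotientGroup.mk' V) :=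
        Subgroup.le_comap_map _ _
    _ = ((⁅A, F⁆).map (QuotientGroup.mk' V)).comap (QuotientGroup.mk' V) := by rw [h1]
    _ = ⁅A, F⁆ ⊔ V := by rw [Subgroup.comap_map_eq, QuotientGroup.ker_mk']

/-- a nilpotent normal subgroup centralizes every chief factor -/
lemma centralizes_chief (F : Subgroup G) [hFn : F.Normal] (hF : Group.IsNilpotent ↥F)
    (U V : Subgroup G) (h : IsChief U V) : ⁅U, F⁆ ≤ V := by
  obtain ⟨hU, hV, hlt, hmax⟩ := h
  by_contra hnot
  have hWn : (⁅U, F⁆ ⊔ V).Normal := inferInstance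
  have hWU : ⁅U, F⁆ ⊔ V ≤ U := sup_le (Subgroup.commutator_le_left U F) hlt.le
  rcases hmax _ hWn le_sup_right hWU with h | h
  · exact hnot (h ▸ le_sup_left)
  · obtain ⟨n, hn⟩ := (Subgroup.isNilpotent_iff_lowerCentralSeries F).mp hF
    have key : ∀ k, U ≤ F.lowerCentralSeries k ⊔ V := by
      intro k
      induction k with
      | zero =>
        rw [Subgroup.lowerCentralSeries_zero]
        calc U = ⁅U, F⁆ ⊔ V := h.symm
          _ ≤ F ⊔ V := sup_le_sup_right (Subgroup.commutator_le_right U F) V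
      | succ k ih =>
        calc U = ⁅U, F⁆ ⊔ V := h.symm
          _ ≤ ⁅F.lowerCentralSeries k ⊔ V, F⁆ ⊔ V :=
            sup_le_sup_right (Subgroup.commutator_mono ih le_rfl) V
          _ ≤ (⁅F.lowerCentralSeries k, F⁆ ⊔ V) ⊔ V := sup_le_sup_right (comm_sup_le _ _ _) V
          _ = F.lowerCentralSeries (k + 1) ⊔ V := by
            rw [sup_assoc, sup_idem, Subgroup.lowerCentralSeries_succ]
    have := key n
    rw [hn, bot_sup_eq] at this
    exact not_le_of_gt hlt this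

/-- the Fitting subgroup of `N` as a subgroup of `G` -/
noncomputable def FN (N : Subgroup G) : Subgroup G := (Cfsg.fittingSubgroup ↥N).map N.subtype

lemma FN_normal (N : Subgroup G) [N.Normal] : (FN N).Normal := by
  have : (Cfsg.fittingSubgroup ↥N).Characteristic := Cfsg.Agent.Helper29.fittingSubgroup_characteristic
  exact ConjAct.normal_of_characteristic_of_normal

lemma FN_nilpotent [Finite G] (N : Subgroup G) : Group.IsNilpotent ↥(FN N) := by
  have h := fittingSubgroup_isNilpotent ↥N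
  exact Group.nilpotent_of_mulEquiv
    ((Cfsg.fittingSubgroup ↥N).equivMapOfInjective N.subtype N.subtype_injective)

/-- elements of `N` centralizing all chief factors of `G` below `F(N)` -/
def Hc (N : Subgroup G) : Subgroup G where
  carrier := {g | g ∈ N ∧ ∀ U V : Subgroup G, IsChief U V → U ≤ FN N →
    ∀ u ∈ U, u * g * u⁻¹ * g⁻¹ ∈ V}
  mul_mem' := by
    rintro g h ⟨hgN, hg⟩ ⟨hhN, hh⟩
    refine ⟨N.mul_mem hgN hhN, fun U V hUV hUF u hu => ?_⟩
    have hVn : V.Normal := hUV.2.1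
    have e : u * (g * h) * u⁻¹ * (g * h)⁻¹ =
        (u * g * u⁻¹ * g⁻¹) * (g * (u * h * u⁻¹ * h⁻¹) * g⁻¹) := by group
    rw [e]
    exact V.mul_mem (hg U V hUV hUF u hu) (hVn.conj_mem _ (hh U V hUV hUF u hu) g)
  one_mem' := by
    refine ⟨N.one_mem, fun U V _ _ u _ => ?_⟩
    simp
  inv_mem' := by
    rintro g ⟨hgN, hg⟩
    refine ⟨N.inv_mem hgN, fun U V hUV hUF u hu => ?_⟩
    have hVn : V.Normal := hUV.2.1
    have e : u * g⁻¹ * u⁻¹ * g⁻¹⁻¹ = g⁻¹ * (u * g * u⁻¹ * g⁻¹)⁻¹ * g⁻¹⁻¹ := by group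
    rw [e]
    exact hVn.conj_mem _ (V.inv_mem (hg U V hUV hUF u hu)) g⁻¹

lemma mem_Hc {N : Subgroup G} {g : G} : g ∈ Hc N ↔ g ∈ N ∧ ∀ U V : Subgroup G, IsChief U V →
    U ≤ FN N → ∀ u ∈ U, u * g * u⁻¹ * g⁻¹ ∈ V := Iff.rfl

lemma Hc_normal (N : Subgroup G) [hN : N.Normal] : (Hc N).Normal := by
  refine ⟨fun g hg x => ?_⟩
  rw [mem_Hc] at hg ⊢
  refine ⟨hN.conj_mem g hg.1 x, fun U V hUV hUF u hu => ?_⟩
  have hVn : V.Normal := hUV.2.1
  have hUn : U.Normal := hUV.1
  have hu' : x⁻¹ * u * x ∈ U := by simpa using hUn.conj_mem u hu x⁻¹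
  have e : u * (x * g * x⁻¹) * u⁻¹ * (x * g * x⁻¹)⁻¹ =
      x * ((x⁻¹ * u * x) * g * (x⁻¹ * u * x)⁻¹ * g⁻¹) * x⁻¹ := by group
  rw [e]
  exact hVn.conj_mem _ (hg.2 U V hUV hUF _ hu') x

/-- a `p'`-element of `Hc N` centralizes every normal subgroup of `G` inside `O_p(N)` -/
lemma stab [Finite G] (N : Subgroup G) (p : ℕ) [hp : Fact p.Prime] (y : G) (hy : y ∈ Hc N)
    (hcop : (orderOf y).Coprime p) :
    ∀ (n : ℕ) (U : Subgroup G), Nat.card U = n → U.Normal →
      U ≤ (Cfsg.pCore p ↥N).map N.subtype →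
      Subgroup.zpowers y ≤ Subgroup.centralizer (U : Set G) := by
  intro n
  induction n using Nat.strong_induction_on with
  | _ n ih =>
  intro U hcard hUn hUT
  by_cases hU : U = ⊥
  · rw [hU]
    intro a _
    rw [Subgroup.mem_centralizer_iff]
    intro c hc
    have : c = 1 := by simpa using hc
    rw [this]; simp
  · -- a maximal normal subgroup below U
    obtain ⟨V, _, hVmax⟩ := exists_maximal_ge_of_wellFoundedGT
      (fun V : Subgroup G => V.Normal ∧ V < U) ⊥ ⟨inferInstance, bot_lt_iff_ne_bot.mpr hU⟩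
    obtain ⟨⟨hVn, hVU⟩, hVm⟩ := hVmax
    have hchief : IsChief U V := by
      refine ⟨hUn, hVn, hVU, fun W hWn hVW hWU => ?_⟩
      by_cases hWeq : W = U
      · exact Or.inr hWeq
      · left
        exact le_antisymm (hVm ⟨hWn, lt_of_le_of_ne hWU hWeq⟩ hVW) hVW
    have hTF : (Cfsg.pCore p ↥N).map N.subtype ≤ FN N :=
      Subgroup.map_mono pCore_le_fittingSubgroup
    have hVcard : Nat.card V < n := by
      rw [← hcard]
      by_contra hcon
      rw [not_lt] at hcon
      exact hVU.ne (Subgroup.eq_of_le_of_card_ge hVU.le hcon)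
    have hAV := ih (Nat.card V) hVcard V rfl hVn (hVU.le.trans hUT)
    -- [U, A] ≤ V
    have h1 : ⁅U, Subgroup.zpowers y⁆ ≤ V := by
      rw [Subgroup.commutator_le]
      intro u hu a ha
      have haH : a ∈ Hc N := (Subgroup.zpowers_le.mpr hy) ha
      rw [commutatorElement_def]
      exact haH.2 U V hchief (hUT.trans hTF) u hu
    have h2 : ⁅V, Subgroup.zpowers y⁆ = ⊥ := by
      rw [Subgroup.commutator_eq_bot_iff_le_centralizer]
      exact Subgroup.le_centralizer_iff.mp hAV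
    have h3 : ⁅⁅U, Subgroup.zpowers y⁆, Subgroup.zpowers y⁆ = ⊥ := by
      rw [eq_bot_iff, ← h2]
      exact Subgroup.commutator_mono h1 le_rfl
    have hUp : IsPGroup p U :=
      ((pCore_isPGroup (G := ↥N) (p := p)).map N.subtype).to_le hUT
    obtain ⟨k, hk⟩ := hUp.exists_card_eq
    have hcop' : (Nat.card (Subgroup.zpowers y)).Coprime (Nat.card U) := by
      rw [Nat.card_zpowers, hk]
      exact Nat.Coprime.pow_right k hcop
    have h4 := Cfsg.Agent.Helper24.commutator_eq_bot_of_coprime U (Subgroup.zpowers y)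
      (by rw [Subgroup.normalizer_eq_top]; exact le_top) hcop' h3
    rw [Subgroup.commutator_eq_bot_iff_le_centralizer] at h4
    exact Subgroup.le_centralizer_iff.mp h4

lemma Hc_le_FN [Finite G] (hG : Group.IsSolvable G) (N : Subgroup G) [hN : N.Normal] :
    Hc N ≤ FN N := by
  have hHn := Hc_normal N
  have hsol : Group.IsSolvable ↥N := inferInstance
  have key : (Hc N).subgroupOf N ≤ Cfsg.fittingSubgroup ↥N := by
    apply le_fittingSubgroup_of_centralizes hsol
    intro p hp y' hy' hcop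
    rw [Subgroup.mem_subgroupOf] at hy'
    have hcop' : (orderOf (y' : G)).Coprime p := by rwa [Subgroup.orderOf_coe]
    have hTn : ((Cfsg.pCore p ↥N).map N.subtype).Normal := by
      have : (Cfsg.pCore p ↥N).Characteristic := Cfsg.Agent.Helper48.pCore_characteristic p ↥N
      exact ConjAct.normal_of_characteristic_of_normal
    have h := stab N p (y' : G) hy' hcop' _ ((Cfsg.pCore p ↥N).map N.subtype) rfl hTn le_rfl
      (Subgroup.mem_zpowers _)
    rw [Subgroup.mem_centralizer_iff] at h ⊢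
    intro c hc
    apply Subtype.ext
    exact h (c : G) ⟨c, hc, rfl⟩
  intro g hg
  have hgN : g ∈ N := hg.1
  exact ⟨⟨g, hgN⟩, key (by rw [Subgroup.mem_subgroupOf]; exact hg), rfl⟩

/-- Let G be a finite solvable group and N a normal subgroup of G. Call a pair V < U of normal subgroups of G a chief factor of G when no normal subgroup of G lies strictly between them; an element g centralizes the chief factor U/V when u g u⁻¹ g⁻¹ ∈ V for all u ∈ U. Then an element of G lies in the Fitting subgroup F(N) if and only if it lies in N and centralizes every chief factor of G; and also if and only if it lies in N and centralizes every chief factor U/V of G with U ≤ F(N). -/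
theorem result {G : Type*} [Group G] [Finite G] (hG : Group.IsSolvable G) (N : Subgroup G) [N.Normal] (g : G) : (g ∈ (Cfsg.fittingSubgroup ↥N).map N.subtype ↔ g ∈ N ∧ ∀ U V : Subgroup G, (U.Normal ∧ V.Normal ∧ V < U ∧ ∀ W : Subgroup G, W.Normal → V ≤ W → W ≤ U → W = V ∨ W = U) → ∀ u ∈ U, u * g * u⁻¹ * g⁻¹ ∈ V) ∧ (g ∈ (Cfsg.fittingSubgroup ↥N).map N.subtype ↔ g ∈ N ∧ ∀ U V : Subgroup G, (U.Normal ∧ V.Normal ∧ V < U ∧ ∀ W : Subgroup G, W.Normal → V ≤ W → W ≤ U → W = V ∨ W = U) → U ≤ (Cfsg.fittingSubgroup ↥N).map N.subtype → ∀ u ∈ U, u * g * u⁻¹ * g⁻¹ ∈ V) := by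
  have hFn := FN_normal N
  have hFnil := FN_nilpotent N
  have fwd : g ∈ FN N → g ∈ N ∧ ∀ U V : Subgroup G, IsChief U V → ∀ u ∈ U,
      u * g * u⁻¹ * g⁻¹ ∈ V := by
    intro hg
    refine ⟨?_, fun U V hUV u hu => ?_⟩
    · obtain ⟨x, _, rfl⟩ := hg
      exact x.2
    · have := centralizes_chief (FN N) hFnil U V hUV
      rw [← commutatorElement_def]
      exact this (Subgroup.commutator_mem_commutator hu hg)
  have bwd : (g ∈ N ∧ ∀ U V : Subgroup G, IsChief U V → U ≤ FN N → ∀ u ∈ U,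
      u * g * u⁻¹ * g⁻¹ ∈ V) → g ∈ FN N := fun h => Hc_le_FN hG N h
  refine ⟨⟨fun h => fwd h, fun h => bwd ⟨h.1, fun U V hUV _ => h.2 U V hUV⟩⟩,
    ⟨fun h => ⟨(fwd h).1, fun U V hUV _ => (fwd h).2 U V hUV⟩, fun h => bwd h⟩⟩

end Cfsg.Agent.S3766
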