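import Cfsg.Statements.S3767
import Mathlib
import Cfsg.Agent.Lib.Helper62.SympCyclic
import Cfsg.Agent.Lib.Helper63.Extraspecial
-- import your own Cfsg.Agent.* helpers here

set_option autoImplicit false
open Cfsg

namespace Cfsg.Agent.S3767

open scoped commutatorElement
open scoped IsMulCommutative

section Pairing

variable {Q : Type*} [Group Q]

/-- In a group of class two, `b ↦ ⁅a, b⁆` is a homomorphism into the centre. -/
def commHomRight (hc : ∀ a b : Q, ⁅a, b⁆ ∈ Subgroup.center Q) (a : Q) : Q →* Subgroup.center Q where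
  toFun b := ⟨⁅a, b⁆, hc a b⟩
  map_one' := by
    apply Subtype.ext
    simp
  map_mul' := by
    intro b c
    apply Subtype.ext
    show ⁅a, b * c⁆ = ⁅a, b⁆ * ⁅a, c⁆
    have hz : b * ⁅a, c⁆ = ⁅a, c⁆ * b := ((Subgroup.mem_center_iff.1 (hc a c)) b)
    have e : ⁅a, b * c⁆ = ⁅a, b⁆ * (b * ⁅a, c⁆ * b⁻¹) := by
      simp only [commutatorElement_def]; group
    rw [e, hz]; group

theorem comm_mul_left (hc : ∀ a b : Q, ⁅a, b⁆ ∈ Subgroup.center Q) (a a' b : Q) :
    ⁅a * a', b⁆ = ⁅a, b⁆ * ⁅a', b⁆ := by
  have hz : a * ⁅a', b⁆ = ⁅a', b⁆ * a := ((Subgroup.mem_center_iff.1 (hc a' b)) a)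
  have e : ⁅a * a', b⁆ = (a * ⁅a', b⁆ * a⁻¹) * ⁅a, b⁆ := by
    simp only [commutatorElement_def]; group
  rw [e, hz]
  have hz2 : ⁅a', b⁆ * ⁅a, b⁆ = ⁅a, b⁆ * ⁅a', b⁆ := ((Subgroup.mem_center_iff.1 (hc a' b)) _).symm
  calc ⁅a', b⁆ * a * a⁻¹ * ⁅a, b⁆ = ⁅a', b⁆ * ⁅a, b⁆ := by group
    _ = ⁅a, b⁆ * ⁅a', b⁆ := hz2

/-- The commutator pairing on the abelianization of a class-two group, with values in the centre. -/
noncomputable def commPairing (hc : ∀ a b : Q, ⁅a, b⁆ ∈ Subgroup.center Q) :
    Abelianization Q →* (Abelianization Q →* Subgroup.center Q) :=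
  Abelianization.lift
    { toFun := fun a => Abelianization.lift (commHomRight hc a)
      map_one' := by
        apply Abelianization.hom_ext
        ext b
        simp [commHomRight]
      map_mul' := by
        intro a a'
        apply Abelianization.hom_ext
        ext b
        simp [commHomRight, comm_mul_left hc] }

theorem commPairing_of (hc : ∀ a b : Q, ⁅a, b⁆ ∈ Subgroup.center Q) (a b : Q) :
    ((commPairing hc (Abelianization.of a) (Abelianization.of b) : Subgroup.center Q) : Q) = ⁅a, b⁆ := by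
  rfl

theorem of_eq_one_iff (a : Q) : Abelianization.of a = 1 ↔ a ∈ commutator Q := by
  rw [← Abelianization.ker_of, MonoidHom.mem_ker]

theorem of_surj : Function.Surjective (Abelianization.of : Q → Abelianization Q) := by
  intro v
  induction v using QuotientGroup.induction_on with
  | H a => exact ⟨a, rfl⟩

end Pairing

section Core

variable {Q : Type*} [Group Q] [Finite Q] {p : ℕ} [hp : Fact p.Prime]

/-- Core statement for an abstract extraspecial group with an endomorphism of order dividing `h`
acting trivially on the centre and freely on the central quotient. -/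
theorem core (hQ : Cfsg.IsExtraspecial p Q) (n : ℕ) (hn : Nat.card Q = p ^ (2 * n + 1))
    (φ : Q →* Q) (h : ℕ) (hh : 0 < h) (hcop : h.Coprime p) (hφh : ∀ a, φ^[h] a = a)
    (hfree : ∀ i, 0 < i → i < h → ∀ a : Q, φ^[i] a * a⁻¹ ∈ Subgroup.center Q → a ∈ Subgroup.center Q)
    (hφZ : ∀ c ∈ Subgroup.center Q, φ c = c) :
    h ∣ p ^ n + 1 ∨ h ∣ p ^ n - 1 := by
  classical
  obtain ⟨⟨hQp, hfrat, hcomm⟩, hZp⟩ := hQ
  have hQ' : Cfsg.IsExtraspecial p Q := ⟨⟨hQp, hfrat, hcomm⟩, hZp⟩
  have hc : ∀ a b : Q, ⁅a, b⁆ ∈ Subgroup.center Q := by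
    intro a b
    rw [← hcomm, commutator_def]
    exact Subgroup.commutator_mem_commutator (Subgroup.mem_top a) (Subgroup.mem_top b)
  -- the data
  let Ω := commPairing hc
  let ω : Additive (Abelianization Q) →+ Additive (Abelianization Q) →+ Additive (Subgroup.center Q) :=
    AddMonoidHom.mk' (fun v => MonoidHom.toAdditive (Ω (Additive.toMul v))) (by
      intro v w
      apply AddMonoidHom.ext
      intro u
      show Additive.ofMul (Ω (Additive.toMul (v + w)) (Additive.toMul u)) =
        Additive.ofMul (Ω (Additive.toMul v) (Additive.toMul u)) + Additive.ofMul (Ω (Additive.toMul w) (Additive.toMul u))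
      rw [toMul_add, map_mul, MonoidHom.mul_apply, ofMul_mul])
  have hω : ∀ a b : Q, ω (Additive.ofMul (Abelianization.of a)) (Additive.ofMul (Abelianization.of b)) =
      Additive.ofMul (⟨⁅a, b⁆, hc a b⟩ : Subgroup.center Q) := by
    intro a b; rfl
  let T : Additive (Abelianization Q) →+ Additive (Abelianization Q) :=
    MonoidHom.toAdditive (Abelianization.map φ)
  have hTof : ∀ a : Q, T (Additive.ofMul (Abelianization.of a)) = Additive.ofMul (Abelianization.of (φ a)) := by
    intro a; rfl
  have hTiter : ∀ (i : ℕ) (a : Q), T^[i] (Additive.ofMul (Abelianization.of a)) =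
      Additive.ofMul (Abelianization.of (φ^[i] a)) := by
    intro i
    induction i with
    | zero => intro a; rfl
    | succ i ih =>
      intro a
      rw [Function.iterate_succ_apply', Function.iterate_succ_apply', ih, hTof]
  have hsurj : ∀ v : Additive (Abelianization Q), ∃ a : Q, v = Additive.ofMul (Abelianization.of a) := by
    intro v
    obtain ⟨a, ha⟩ := of_surj (Additive.toMul v)
    exact ⟨a, by rw [ha]; rfl⟩
  have hofeq : ∀ a : Q, Additive.ofMul (Abelianization.of a) = (0 : Additive (Abelianization Q)) ↔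
      a ∈ Subgroup.center Q := by
    intro a
    rw [← hcomm, ← of_eq_one_iff]
    rfl
  -- hypotheses
  have hV : ∀ v : Additive (Abelianization Q), p • v = 0 := by
    intro v
    obtain ⟨a, rfl⟩ := hsurj v
    rw [← ofMul_pow, ← map_pow, hofeq]
    exact Cfsg.Agent.Helper63.extraspecial_pow_mem_center hQ' a
  have hM : Nat.card (Additive (Subgroup.center Q)) = p := by
    rw [← hZp]; exact Nat.card_congr Additive.toMul
  have halt : ∀ v, ω v v = 0 := by
    intro v
    obtain ⟨a, rfl⟩ := hsurj v
    rw [hω]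
    have : (⟨⁅a, a⁆, hc a a⟩ : Subgroup.center Q) = 1 := by
      apply Subtype.ext; simp
    rw [this]; rfl
  have hnd : ∀ v, (∀ w, ω v w = 0) → v = 0 := by
    intro v hv
    obtain ⟨a, rfl⟩ := hsurj v
    rw [hofeq, Subgroup.mem_center_iff]
    intro b
    have := hv (Additive.ofMul (Abelianization.of b))
    rw [hω] at this
    have h1 : (⟨⁅a, b⁆, hc a b⟩ : Subgroup.center Q) = 1 := this
    have h2 : ⁅a, b⁆ = 1 := congrArg Subtype.val h1
    exact (commutatorElement_eq_one_iff_mul_comm.1 h2).symm
  have hT : ∀ v, T^[h] v = v := by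
    intro v
    obtain ⟨a, rfl⟩ := hsurj v
    rw [hTiter, hφh]
  have hfree' : ∀ i, 0 < i → i < h → ∀ v, T^[i] v = v → v = 0 := by
    intro i hi hih v hv
    obtain ⟨a, rfl⟩ := hsurj v
    rw [hTiter] at hv
    rw [hofeq]
    apply hfree i hi hih a
    rw [← hofeq, map_mul, map_inv, ofMul_mul, ofMul_inv, hv]
    simp
  have hωT : ∀ v w, ω (T v) (T w) = ω v w := by
    intro v w
    obtain ⟨a, rfl⟩ := hsurj v
    obtain ⟨b, rfl⟩ := hsurj w
    rw [hTof, hTof, hω, hω]
    congr 1
    apply Subtype.ext
    show ⁅φ a, φ b⁆ = ⁅a, b⁆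
    rw [← map_commutatorElement]
    exact hφZ _ (hc a b)
  have hcardV : Nat.card (Additive (Abelianization Q)) = p ^ (2 * n) := by
    have h1 : Nat.card (Additive (Abelianization Q)) = (commutator Q).index := by
      rw [Subgroup.index_eq_card]; exact Nat.card_congr Additive.toMul
    have h2 := Subgroup.card_mul_index (commutator Q)
    rw [hcomm, hZp, hn] at h2
    rw [h1, hcomm]
    have hp0 : 0 < p := hp.out.pos
    have : p * (Subgroup.center Q).index = p * p ^ (2 * n) := by
      rw [h2]; ring
    exact Nat.eq_of_mul_eq_mul_left hp0 this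
  exact Cfsg.Agent.Helper62.SympCyclic.symp_cyclic hV hM ω halt hnd T h hh hcop hT hfree' hωT n hcardV

end Core

section Main

variable {G : Type*} [Group G]

/-- Conjugation by a normalizing element as an endomorphism of `↥P`. -/
def conjP (P : Subgroup G) (y : G) (hy : y ∈ Subgroup.normalizer (P : Set G)) : ↥P →* ↥P where
  toFun a := ⟨y * a * y⁻¹, (Subgroup.mem_normalizer_iff.1 hy a).1 a.2⟩
  map_one' := by apply Subtype.ext; simp
  map_mul' := by intro a b; apply Subtype.ext; simp [mul_assoc]

theorem conjP_iterate (P : Subgroup G) (y : G) (hy : y ∈ Subgroup.normalizer (P : Set G)) (i : ℕ) (a : ↥P) :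
    (((conjP P y hy)^[i] a : ↥P) : G) = y ^ i * a * (y ^ i)⁻¹ := by
  induction i with
  | zero => simp
  | succ i ih =>
    rw [Function.iterate_succ_apply']
    show y * (((conjP P y hy)^[i] a : ↥P) : G) * y⁻¹ = _
    rw [ih, pow_succ']
    group

end Main

/-- Let P be an extraspecial p-group of order p^(2n+1) and H a cyclic group of order h prime to p acting on P (inside a common finite group: H normalizes P) so that C_P(x) = Z(P) for every non-identity x ∈ H. Then h divides p^n + 1 or h divides p^n − 1. -/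
theorem result {G : Type*} [Group G] [Finite G] {p : ℕ} [Fact p.Prime] (P H : Subgroup G) (hP : Cfsg.IsExtraspecial p ↥P) (n : ℕ) (hn : Nat.card P = p ^ (2 * n + 1)) (hH : IsCyclic H) (hcop : (Nat.card H).Coprime p) (hHP : H ≤ Subgroup.normalizer (P : Set G)) (hfix : ∀ x ∈ H, x ≠ 1 → P ⊓ Subgroup.centralizer {x} = (Subgroup.center ↥P).map P.subtype) : Nat.card H ∣ p ^ n + 1 ∨ Nat.card H ∣ p ^ n - 1 := by
  classical
  have hp := (Fact.out : p.Prime)
  have hfinH : Finite H := inferInstance
  have hpos : 0 < Nat.card H := Nat.card_pos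
  obtain ⟨g, hg⟩ := hH.exists_generator
  have hordg : orderOf g = Nat.card H := orderOf_eq_card_of_forall_mem_zpowers hg
  have hordx : orderOf (g : G) = Nat.card H := by rw [← hordg]; exact Subgroup.orderOf_coe g
  have hxH : (g : G) ∈ H := g.2
  have hxN : (g : G) ∈ Subgroup.normalizer (P : Set G) := hHP hxH
  have hZp : Nat.card (Subgroup.center ↥P) = p := hP.2
  -- elements of H centralize Z(P); C_P(y) = Z(P)
  have hZcent : ∀ y ∈ H, y ≠ 1 → ∀ c : ↥P, c ∈ Subgroup.center ↥P → y * (c : G) = (c : G) * y := by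
    intro y hy hy1 c hc
    have hmem : (c : G) ∈ (Subgroup.center ↥P).map P.subtype := ⟨c, hc, rfl⟩
    rw [← hfix y hy hy1] at hmem
    have := (Subgroup.mem_inf.1 hmem).2
    rw [Subgroup.mem_centralizer_iff] at this
    exact this y rfl
  have hCP : ∀ y ∈ H, y ≠ 1 → ∀ a : ↥P, y * (a : G) = (a : G) * y → a ∈ Subgroup.center ↥P := by
    intro y hy hy1 a hya
    have hmem : (a : G) ∈ P ⊓ Subgroup.centralizer {y} := by
      refine Subgroup.mem_inf.2 ⟨a.2, ?_⟩
      rw [Subgroup.mem_centralizer_iff]
      intro z hz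
      rw [Set.mem_singleton_iff] at hz
      subst hz
      exact hya
    rw [hfix y hy hy1] at hmem
    obtain ⟨c, hc, hca⟩ := hmem
    have : c = a := Subtype.ext hca
    rwa [← this]
  refine core hP n hn (conjP P (g : G) hxN) (Nat.card H) hpos hcop ?_ ?_ ?_
  · -- φ^[h] = id
    intro a
    apply Subtype.ext
    rw [conjP_iterate, ← hordx, pow_orderOf_eq_one]
    simp
  · -- freeness modulo the centre
    intro i hi hih a hca
    set y : G := (g : G) ^ i with hy
    have hyH : y ∈ H := H.pow_mem hxH i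
    have hy1 : y ≠ 1 := by
      intro h1
      have := orderOf_dvd_of_pow_eq_one h1
      rw [hordx] at this
      exact absurd (Nat.le_of_dvd hi this) (by omega)
    set c : ↥P := (conjP P (g : G) hxN)^[i] a * a⁻¹ with hc
    have hcval : (c : G) = y * a * y⁻¹ * (a : G)⁻¹ := by
      rw [hc]
      show (((conjP P (g : G) hxN)^[i] a : ↥P) : G) * ((a⁻¹ : ↥P) : G) = _
      rw [conjP_iterate]
      rfl
    have hyc : y * (c : G) = (c : G) * y := hZcent y hyH hy1 c hca
    have hya : y * (a : G) * y⁻¹ = (c : G) * a := by rw [hcval]; group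
    have hpow : ∀ k : ℕ, y ^ k * (a : G) * (y ^ k)⁻¹ = (c : G) ^ k * a := by
      intro k
      induction k with
      | zero => simp
      | succ k ih =>
        have hyck : y * (c : G) ^ k = (c : G) ^ k * y := by
          have : Commute y (c : G) := hyc
          exact (this.pow_right k)
        calc y ^ (k + 1) * (a : G) * (y ^ (k + 1))⁻¹ = y * (y ^ k * (a : G) * (y ^ k)⁻¹) * y⁻¹ := by
              rw [pow_succ']; group
          _ = y * ((c : G) ^ k * a) * y⁻¹ := by rw [ih]
          _ = (y * (c : G) ^ k) * a * y⁻¹ := by group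
          _ = (c : G) ^ k * (y * a * y⁻¹) := by rw [hyck]; group
          _ = (c : G) ^ k * ((c : G) * a) := by rw [hya]
          _ = (c : G) ^ (k + 1) * a := by rw [pow_succ]; group
    have hyh : y ^ Nat.card H = 1 := by
      rw [hy, ← pow_mul, mul_comm, pow_mul, ← hordx, pow_orderOf_eq_one, one_pow]
    have hch : (c : G) ^ Nat.card H = 1 := by
      have := hpow (Nat.card H)
      rw [hyh] at this
      simp at this
      exact this
    have hcp : (c : G) ^ p = 1 := by
      have h1 : (⟨c, hca⟩ : Subgroup.center ↥P) ^ p = 1 := by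
        rw [← hZp]; exact pow_card_eq_one'
      have h2 := congrArg (fun z : Subgroup.center ↥P => ((z : ↥P) : G)) h1
      simpa using h2
    have hc1 : (c : G) = 1 := by
      have := pow_gcd_eq_one.2 ⟨hch, hcp⟩
      rw [Nat.Coprime] at hcop
      rw [hcop, pow_one] at this
      exact this
    apply hCP y hyH hy1 a
    have : y * (a : G) * y⁻¹ = a := by rw [hya, hc1, one_mul]
    calc y * (a : G) = (y * a * y⁻¹) * y := by group
      _ = a * y := by rw [this]
  · -- φ fixes the centre
    intro c hc
    have hg1 : (g : G) ≠ 1 ∨ (g : G) = 1 := (em _).symm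
    apply Subtype.ext
    show (g : G) * c * (g : G)⁻¹ = c
    rcases hg1 with hg1 | hg1
    · rw [hZcent (g : G) hxH hg1 c hc]; group
    · rw [hg1]; group

end Cfsg.Agent.S3767
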