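-- Statement S3769: solvable odd-order group with a normal Hall subgroup K and prime-order complement R
-- acting on a coprime elementary abelian module without R-fixed points: [R, K] centralises the module.
import Cfsg.Statements.S3769
import Cfsg.Agent.Lib.Helper48.HallHigmanCoprime
import Cfsg.Agent.Lib.Helper52.CoprimeSylow

set_option autoImplicit false
open Cfsg

namespace Cfsg.Agent.S3769

open Subgroup
open scoped commutatorElement

/-- Let G and V be subgroups of a finite group with G solvable of odd order normalizing V, V an elementary abelian ℓ-group for a prime ℓ not dividing the order of G, and suppose G has a normal Hall subgroup K with a complement R of prime order. If C_V(R) = 1, then [R, K] centralizes V. -/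
theorem result {X : Type*} [Group X] [Finite X] (G : Subgroup X) (hsolv : Group.IsSolvable G) (hodd : Odd (Nat.card G)) (V : Subgroup X) {ℓ : ℕ} (hℓ : ℓ.Prime) (hV : Cfsg.IsElementaryAbelian ℓ V) (hℓG : ¬ ℓ ∣ Nat.card G) (hGV : G ≤ Subgroup.normalizer (V : Set X)) (K R : Subgroup X) (hKG : K ≤ G) (hKn : G ≤ Subgroup.normalizer (K : Set X)) (hHall : (Nat.card K).Coprime (K.relIndex G)) (hRG : R ≤ G) (hR : (Nat.card R).Prime) (hKR : K ⊓ R = ⊥) (hKRG : K ⊔ R = G) (hCV : V ⊓ Subgroup.centralizer (R : Set X) = ⊥) : ⁅R, K⁆ ≤ Subgroup.centralizer (V : Set X) := by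
  classical
  obtain ⟨r, hr_def⟩ : ∃ r, r = Nat.card R := ⟨_, rfl⟩
  have hr : r.Prime := by rw [hr_def]; exact hR
  have : Fact r.Prime := ⟨hr⟩
  -- generator of R
  have hRcyc : IsCyclic R := isCyclic_of_prime_card hr_def.symm
  obtain ⟨⟨x, hxR⟩, hxgen⟩ := hRcyc.exists_generator
  have hRz : R = zpowers x := by
    ext y
    constructor
    · intro hy
      obtain ⟨k, hk⟩ := Subgroup.mem_zpowers_iff.mp (hxgen ⟨y, hy⟩)
      refine Subgroup.mem_zpowers_iff.mpr ⟨k, ?_⟩
      have := congrArg Subtype.val hk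
      simpa using this
    · intro hy
      exact (Subgroup.zpowers_le.mpr hxR) hy
  have hcentR : centralizer (R : Set X) = centralizer ({x} : Set X) := by
    rw [hRz, Subgroup.zpowers_eq_closure, Subgroup.centralizer_closure]
  have hxr : x ^ r = 1 := by
    have : (⟨x, hxR⟩ : R) ^ r = 1 := by rw [hr_def]; exact pow_card_eq_one'
    exact congrArg Subtype.val this
  have hRK : R ≤ normalizer (K : Set X) := hRG.trans hKn
  have hrel : K.relIndex G = r := by
    rw [← hKRG, hr_def]
    exact Cfsg.Agent.Helper52.relIndex_sup_eq_card K R hRK hKR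
  have hcop : (Nat.card K).Coprime r := by rw [← hrel]; exact hHall
  have hxG : x ∈ G := hRG hxR
  have hxV : x ∈ normalizer (V : Set X) := hGV hxG
  have hxK : ∀ k ∈ K, x * k * x⁻¹ ∈ K := fun k hk =>
    (Subgroup.mem_normalizer_iff.mp (hRK hxR) k).mp hk
  have hxfix : V ⊓ centralizer ({x} : Set X) = ⊥ := by rw [← hcentR]; exact hCV
  have hrG : r ∣ Nat.card G := by rw [hr_def]; exact Subgroup.card_dvd_of_le hRG
  have hKdvd : Nat.card K ∣ Nat.card G := Subgroup.card_dvd_of_le hKG
  have hℓr : ℓ ≠ r := by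
    intro h
    apply hℓG
    rw [h]
    exact hrG
  -- the centraliser of V is normalised by the normaliser of V
  have hCnorm : ∀ g ∈ normalizer (V : Set X), ∀ c ∈ centralizer (V : Set X),
      g * c * g⁻¹ ∈ centralizer (V : Set X) := by
    intro g hg c hc
    rw [Subgroup.mem_centralizer_iff] at hc ⊢
    intro v hv
    have hv' : g⁻¹ * v * g⁻¹⁻¹ ∈ V :=
      (Subgroup.mem_normalizer_iff.mp ((normalizer (V : Set X)).inv_mem hg) v).mp hv
    have h1 := hc _ hv'
    calc v * (g * c * g⁻¹) = g * ((g⁻¹ * v * g⁻¹⁻¹) * c) * g⁻¹ := by group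
      _ = g * (c * (g⁻¹ * v * g⁻¹⁻¹)) * g⁻¹ := by rw [h1]
      _ = g * c * g⁻¹ * v := by group
  have hKV : K ≤ normalizer (V : Set X) := hKG.trans hGV
  -- the subgroup of K on which x acts trivially modulo C(V)
  let T : Subgroup X :=
    { carrier := {k | k ∈ K ∧ x * k * x⁻¹ * k⁻¹ ∈ centralizer (V : Set X)}
      one_mem' := ⟨K.one_mem, by simp⟩
      mul_mem' := by
        rintro k k' ⟨hk, hkc⟩ ⟨hk', hkc'⟩
        refine ⟨K.mul_mem hk hk', ?_⟩
        have e : x * (k * k') * x⁻¹ * (k * k')⁻¹ =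
            (x * k * x⁻¹ * k⁻¹) * (k * (x * k' * x⁻¹ * k'⁻¹) * k⁻¹) := by group
        rw [e]
        exact mul_mem hkc (hCnorm k (hKV hk) _ hkc')
      inv_mem' := by
        rintro k ⟨hk, hkc⟩
        refine ⟨K.inv_mem hk, ?_⟩
        have e : x * k⁻¹ * x⁻¹ * k⁻¹⁻¹ = k⁻¹ * (x * k * x⁻¹ * k⁻¹)⁻¹ * k⁻¹⁻¹ := by group
        rw [e]
        exact hCnorm k⁻¹ (hKV (K.inv_mem hk)) _ (inv_mem hkc) }
  have hTmem : ∀ k, k ∈ T ↔ k ∈ K ∧ x * k * x⁻¹ * k⁻¹ ∈ centralizer (V : Set X) := fun _ => Iff.rfl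
  have hTK : T ≤ K := fun k hk => hk.1
  -- invariant Sylow subgroups lie in T
  have hsyl : ∀ q : ℕ, q.Prime → q ^ (Nat.card K).factorization q ∣ Nat.card T := by
    intro q hq
    have : Fact q.Prime := ⟨hq⟩
    by_cases hqK : q ∣ Nat.card K
    · have hcop' : (Nat.card R).Coprime (Nat.card K) := by
        rw [← hr_def, Nat.coprime_comm]; exact hcop
      have hRsolv : Group.IsSolvable R := by
        have : IsMulCommutative R := hRcyc.isMulCommutative
        infer_instance
      obtain ⟨Qq, hQK, hQcard, hRQ⟩ :=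
        Cfsg.Agent.Helper52.exists_invariant_sylow R K hRK hcop' (Or.inl hRsolv) q
      have hqG : q ∣ Nat.card G := hqK.trans hKdvd
      have hq2 : q ≠ 2 := by
        intro h
        rw [h] at hqG
        exact (Nat.not_even_iff_odd.mpr hodd) (even_iff_two_dvd.mpr hqG)
      have hℓq : ℓ ≠ q := by
        intro h
        apply hℓG
        rw [h]
        exact hqG
      have hqr : q ≠ r := by
        intro h
        rw [h] at hqK
        have h1 : r ∣ Nat.gcd (Nat.card K) r := Nat.dvd_gcd hqK dvd_rfl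
        rw [Nat.Coprime.gcd_eq_one hcop] at h1
        exact hr.one_lt.ne' (Nat.dvd_one.mp h1)
      have hQq : IsPGroup q Qq := IsPGroup.of_card hQcard
      have hxQ : ∀ u ∈ Qq, x * u * x⁻¹ ∈ Qq := fun u hu =>
        (Subgroup.mem_normalizer_iff.mp (hRQ hxR) u).mp hu
      have hkey := Cfsg.Agent.Helper48.HHC.key_gen hℓ hq hr hℓq hℓr hqr V Qq x hV (hQK.trans hKV) hxV
        hQq hxr hxQ (fun h => absurd h hq2) hxfix
      have hQT : Qq ≤ T := by
        intro u hu
        exact ⟨hQK hu, hkey u hu⟩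
      have h1 : Nat.card Qq ∣ Nat.card T := Subgroup.card_dvd_of_le hQT
      rw [hQcard] at h1
      exact h1
    · rw [Nat.factorization_eq_zero_of_not_dvd hqK, pow_zero]
      exact one_dvd _
  have hTeq : T = K := by
    have hdvd : Nat.card K ∣ Nat.card T := by
      rw [← Nat.factorization_prime_le_iff_dvd Nat.card_pos.ne' Nat.card_pos.ne']
      intro q hq
      exact (Nat.Prime.pow_dvd_iff_le_factorization hq Nat.card_pos.ne').mp (hsyl q hq)
    exact Subgroup.eq_of_le_of_card_ge hTK (Nat.le_of_dvd Nat.card_pos hdvd)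
  have hT : ∀ k ∈ K, x * k * x⁻¹ * k⁻¹ ∈ centralizer (V : Set X) := by
    intro k hk
    have : k ∈ T := by rw [hTeq]; exact hk
    exact this.2
  -- powers of x
  have hpow : ∀ i : ℕ, ∀ k ∈ K, x ^ i * k * (x ^ i)⁻¹ * k⁻¹ ∈ centralizer (V : Set X) := by
    intro i
    induction i with
    | zero =>
      intro k hk
      simp
    | succ i ih =>
      intro k hk
      have e : x ^ (i + 1) * k * (x ^ (i + 1))⁻¹ * k⁻¹ =
          x * (x ^ i * k * (x ^ i)⁻¹ * k⁻¹) * x⁻¹ * (x * k * x⁻¹ * k⁻¹) := by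
        rw [pow_succ']; group
      rw [e]
      exact mul_mem (hCnorm x hxV _ (ih k hk)) (hT k hk)
  rw [Subgroup.commutator_le]
  intro y hy k hk
  rw [hRz] at hy
  have hfin : IsOfFinOrder x := isOfFinOrder_iff_pow_eq_one.mpr ⟨r, hr.pos, hxr⟩
  rw [← hfin.mem_powers_iff_mem_zpowers] at hy
  obtain ⟨i, rfl⟩ := hy
  rw [commutatorElement_def]
  exact hpow i k hk

end Cfsg.Agent.S3769
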