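import Cfsg.Statements.S3770
import Cfsg.Agent.S0042
import Cfsg.Agent.S3383
import Cfsg.Agent.Lib.Helper10.FrobGroup

set_option autoImplicit false
open Cfsg

namespace Cfsg.Agent.S3770

/-- Let G and V be subgroups of a finite group with G a Frobenius group with complement R of prime order and kernel K, G normalizing V, and V an elementary abelian ℓ-group for a prime ℓ not dividing the order of G. If C_V(R) has order ℓ, then the derived subgroup of K centralizes V. -/
theorem result {X : Type*} [Group X] [Finite X] (G : Subgroup X) (V : Subgroup X) {ℓ : ℕ} (hℓ : ℓ.Prime) (hV : Cfsg.IsElementaryAbelian ℓ V) (hℓG : ¬ ℓ ∣ Nat.card G) (hGV : G ≤ Subgroup.normalizer (V : Set X)) (R : Subgroup ↥G) (hR : Cfsg.IsFrobeniusComplement R) (hRp : (Nat.card R).Prime) (hCV : Nat.card ↥(V ⊓ Subgroup.centralizer ((R.map G.subtype : Subgroup X) : Set X)) = ℓ) : ⁅Subgroup.closure (Subtype.val '' Cfsg.frobeniusKernel R), Subgroup.closure (Subtype.val '' Cfsg.frobeniusKernel R)⁆ ≤ Subgroup.centralizer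 (V : Set X) := by
  haveI : Fact ℓ.Prime := ⟨hℓ⟩
  obtain ⟨N, hNset, hNn, hNnil⟩ := Cfsg.Agent.S0042.result R hR
  have hcl : Subgroup.closure (Subtype.val '' Cfsg.frobeniusKernel R) = N.map G.subtype := by
    rw [← hNset]
    have : (Subtype.val '' (N : Set ↥G)) = ((N.map G.subtype : Subgroup X) : Set X) := by
      rw [Subgroup.coe_map]
      rfl
    rw [this, Subgroup.closure_eq]
  rw [hcl]
  have hKG : N.map G.subtype ≤ G := Subgroup.map_subtype_le N
  have hEG : R.map G.subtype ≤ G := Subgroup.map_subtype_le R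
  have hKn : ∀ g ∈ G, ∀ x ∈ N.map G.subtype, g * x * g⁻¹ ∈ N.map G.subtype := by
    intro g hg x hx
    obtain ⟨n, hn, rfl⟩ := Subgroup.mem_map.mp hx
    exact Subgroup.mem_map.mpr ⟨(⟨g, hg⟩ : G) * n * (⟨g, hg⟩ : G)⁻¹, hNn.conj_mem n hn _, rfl⟩
  have hKnil : Group.IsNilpotent ↥(N.map G.subtype) := by
    haveI := hNnil
    exact Group.nilpotent_of_mulEquiv (N.equivMapOfInjective G.subtype Subtype.coe_injective)
  have fpf : ∀ e ∈ R.map G.subtype, e ≠ 1 → ∀ x ∈ N.map G.subtype, e * x * e⁻¹ = x → x = 1 := by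
    intro e he he1 x hx hfix
    obtain ⟨r, hr, rfl⟩ := Subgroup.mem_map.mp he
    obtain ⟨n, hn, rfl⟩ := Subgroup.mem_map.mp hx
    have hr1 : r ≠ 1 := by
      rintro rfl
      exact he1 (map_one _)
    have hcomm : n * r = r * n := by
      apply Subtype.ext
      have h1 : (r : X) * (n : X) * (r : X)⁻¹ = (n : X) := hfix
      have h2 := mul_inv_eq_iff_eq_mul.mp h1
      exact h2.symm
    have hnR : n ∈ R := Cfsg.Agent.S3383.commute_mem R hR r hr hr1 n hcomm
    have := Cfsg.Agent.S3383.K_inf_H R N hNset n hn hnR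
    rw [this, map_one]
  have hcop : ¬ ℓ ∣ Nat.card ↥(N.map G.subtype) := by
    intro h
    apply hℓG
    have h1 : Nat.card ↥(N.map G.subtype) = Nat.card N :=
      (Nat.card_congr (N.equivMapOfInjective G.subtype Subtype.coe_injective).toEquiv).symm
    rw [h1] at h
    exact h.trans (Subgroup.card_subgroup_dvd_card N)
  exact Cfsg.Agent.Helper10.FrobRep.commutator_le_centralizer_of_card_le hV hGV
    (N.map G.subtype) (R.map G.subtype) hKG hEG hKn hKnil fpf hcop (le_of_eq hCV)

end Cfsg.Agent.S3770
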