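import Cfsg.Statements.S3771
import Mathlib

set_option autoImplicit false
open Cfsg

namespace Cfsg.Agent.S3771

open scoped commutatorElement

variable {G : Type*} [Group G]

theorem card_lt_of_lt [Finite G] {H K : Subgroup G} (h : H < K) : Nat.card H < Nat.card K := by
  by_contra hcon
  push Not at hcon
  exact h.ne (Subgroup.eq_of_le_of_card_ge h.le hcon)

/-- enlarging an abelian subgroup by a centralizing element -/
theorem exists_larger_abelian [Finite G] (A : Subgroup G) (hA : IsMulCommutative A) (y : G)
    (hy : y ∈ Subgroup.centralizer (A : Set G)) (hyA : y ∉ A) :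
    ∃ A' : Subgroup G, IsMulCommutative A' ∧ A < A' := by
  refine ⟨Subgroup.closure ((A : Set G) ∪ {y}), ?_, ?_⟩
  · apply Subgroup.isMulCommutative_closure
    have hAc : ∀ a ∈ A, ∀ b ∈ A, a * b = b * a := by
      intro a ha b hb
      have := mul_comm' (⟨a, ha⟩ : A) ⟨b, hb⟩
      exact congrArg Subtype.val this
    rw [Subgroup.mem_centralizer_iff] at hy
    rintro a (ha | ha) b (hb | hb)
    · exact hAc a ha b hb
    · rw [Set.mem_singleton_iff] at hb; rw [hb]; exact hy a ha
    · rw [Set.mem_singleton_iff] at ha; rw [ha]; exact (hy b hb).symm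
    · rw [Set.mem_singleton_iff] at ha hb; rw [ha, hb]
  · apply lt_of_le_of_ne
    · intro a ha
      exact Subgroup.subset_closure (Or.inl ha)
    · intro h
      apply hyA
      rw [h]
      exact Subgroup.subset_closure (Or.inr rfl)

/-- Let p be a prime and R a finite p-group of p-rank at most 2 (no elementary abelian subgroup of order p³) in which every element has order dividing p. Then R has order at most p³. -/
theorem result {R : Type*} [Group R] [Finite R] {p : ℕ} [Fact p.Prime] (hR : IsPGroup p R) (hrank : Cfsg.PRankLE p 2 R) (hexp : ∀ x : R, x ^ p = 1) : Nat.card R ≤ p ^ 3 := by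
  have hp : p.Prime := Fact.out
  by_contra hbig
  push Not at hbig
  -- every abelian subgroup has order ≤ p²
  have hab : ∀ A : Subgroup R, IsMulCommutative A → Nat.card A ≤ p ^ 2 :=
    fun A hA => hrank A hA (fun a _ => hexp a)
  -- orders of subgroups are powers of p
  have hpow : ∀ A : Subgroup R, ∃ k, Nat.card A = p ^ k :=
    fun A => IsPGroup.iff_card.mp (hR.to_subgroup A)
  have hp3 : 1 < p ^ 3 := Nat.one_lt_pow (by norm_num) hp.one_lt
  have : Nontrivial R := by
    rw [← Finite.one_lt_card_iff_nontrivial]; omega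
  -- abelian subgroups with a centralizing element outside have order ≤ p
  have hG' : ∀ A : Subgroup R, IsMulCommutative A → ∀ y ∈ Subgroup.centralizer (A : Set R), y ∉ A →
      ∀ i, Nat.card A = p ^ i → i ≤ 1 := by
    intro A hA y hy hyA i hi
    obtain ⟨A', hA', hlt⟩ := exists_larger_abelian A hA y hy hyA
    obtain ⟨j, hj⟩ := hpow A'
    have h1 := card_lt_of_lt hlt
    have h2 := hab A' hA'
    rw [hi, hj] at h1
    rw [hj] at h2
    have hij : i < j := (Nat.pow_lt_pow_iff_right hp.one_lt).mp h1
    have hj2 : j ≤ 2 := (Nat.pow_le_pow_iff_right hp.one_lt).mp h2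
    omega
  -- the centre
  set Z := Subgroup.center R with hZdef
  have hZcomm : IsMulCommutative Z := inferInstance
  obtain ⟨i, hi⟩ := hpow Z
  have hZle : Nat.card Z ≤ p ^ 2 := hab Z hZcomm
  have hZR : Nat.card Z < Nat.card R := by
    have : p ^ 2 < p ^ 3 := Nat.pow_lt_pow_right hp.one_lt (by norm_num)
    omega
  have hZtop : Z ≠ ⊤ := by
    intro h
    rw [h, Subgroup.card_top] at hZR
    exact lt_irrefl _ hZR
  have hi1 : i ≤ 1 := by
    obtain ⟨y, hy⟩ : ∃ y : R, y ∉ Z := by
      by_contra h
      push Not at h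
      exact hZtop (eq_top_iff.mpr fun x _ => h x)
    refine hG' Z hZcomm y ?_ hy i hi
    rw [Subgroup.mem_centralizer_iff]
    intro z hz
    exact (Subgroup.mem_center_iff.mp hz y).symm
  have hi0 : 1 ≤ i := by
    by_contra h
    have : i = 0 := by omega
    rw [this, pow_zero] at hi
    have hnt := hR.center_nontrivial
    have h1 : 1 < Nat.card Z := Finite.one_lt_card_iff_nontrivial.mpr hnt
    omega
  have hi' : i = 1 := le_antisymm hi1 hi0
  rw [hi', pow_one] at hi
  -- an element of the second centre outside the centre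
  have hnil : Group.IsNilpotent R := hR.isNilpotent
  obtain ⟨x, hx2, hx1⟩ : ∃ x : R, x ∈ Subgroup.upperCentralSeries R 2 ∧ x ∉ Z := by
    obtain ⟨n, hn⟩ := Group.IsNilpotent.nilpotent R
    have h12 : Subgroup.upperCentralSeries R 1 ≠ Subgroup.upperCentralSeries R 2 := by
      intro h
      rcases Nat.lt_or_ge n 1 with hn1 | hn1
      · have : Subgroup.upperCentralSeries R n ≤ Subgroup.upperCentralSeries R 1 :=
          Subgroup.upperCentralSeries_mono R (by omega)
        rw [hn, Subgroup.upperCentralSeries_one] at this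
        exact hZtop (eq_top_iff.mpr this)
      · have := Subgroup.upperCentralSeries.eq_ge_of_eq_succ hn1 h
        rw [hn, Subgroup.upperCentralSeries_one] at this
        exact hZtop this
    have hlt : Subgroup.upperCentralSeries R 1 < Subgroup.upperCentralSeries R 2 :=
      lt_of_le_of_ne (Subgroup.upperCentralSeries_mono R (by norm_num)) h12
    obtain ⟨x, hx2, hx1⟩ := SetLike.exists_of_lt hlt
    rw [Subgroup.upperCentralSeries_one] at hx1
    exact ⟨x, hx2, hx1⟩
  have hxc : ∀ g : R, ⁅x, g⁆ ∈ Z := by
    intro g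
    have := (Subgroup.mem_upperCentralSeries_succ_iff (n := 1)).mp hx2 g
    rwa [Subgroup.upperCentralSeries_one] at this
  -- the hom g ↦ ⁅x, g⁆ into the centre
  let φ : R →* Z :=
    { toFun := fun g => ⟨⁅x, g⁆, hxc g⟩
      map_one' := by ext; simp
      map_mul' := by
        intro g h
        ext
        simp only [Subgroup.coe_mul]
        have h1 := Subgroup.mem_center_iff.mp (hxc h) g
        have h2 : ⁅x, g * h⁆ = ⁅x, g⁆ * (g * ⁅x, h⁆ * g⁻¹) := by
          simp only [commutatorElement_def]; group
        rw [h2, h1]; group }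
  have hker : φ.ker = Subgroup.centralizer {x} := by
    ext g
    rw [MonoidHom.mem_ker, Subgroup.mem_centralizer_iff]
    constructor
    · intro h y hy
      rw [Set.mem_singleton_iff] at hy
      rw [hy]
      have h1 : ⁅x, g⁆ = 1 := congrArg Subtype.val h
      rw [commutatorElement_eq_one_iff_mul_comm] at h1
      exact h1
    · intro h
      apply Subtype.ext
      show ⁅x, g⁆ = 1
      rw [commutatorElement_eq_one_iff_mul_comm]
      exact h x rfl
  set C := Subgroup.centralizer ({x} : Set R) with hCdef
  have hCcard : p ^ 2 < Nat.card C := by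
    have h1 := Subgroup.card_mul_index φ.ker
    rw [Subgroup.index_ker, hker] at h1
    have h2 : Nat.card φ.range ≤ p := by
      rw [← hi]
      exact Subgroup.card_le_of_le le_top |>.trans (by rw [Subgroup.card_top])
    have h3 : Nat.card C * p ≥ Nat.card R := by
      rw [← h1]; exact Nat.mul_le_mul_left _ h2
    have h4 : p ^ 3 = p ^ 2 * p := by ring
    by_contra hcon
    push Not at hcon
    have : Nat.card C * p ≤ p ^ 2 * p := Nat.mul_le_mul_right _ hcon
    omega
  -- A₀ = ⟨Z, x⟩
  have hxZ : x ∈ Subgroup.centralizer (Z : Set R) := by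
    rw [Subgroup.mem_centralizer_iff]
    intro z hz
    exact (Subgroup.mem_center_iff.mp hz x).symm
  obtain ⟨A₀, hA₀, hlt₀⟩ := exists_larger_abelian Z hZcomm x hxZ hx1
  -- we need A₀ explicitly: redo with closure
  clear hA₀ hlt₀ A₀
  set A₀ := Subgroup.closure ((Z : Set R) ∪ {x}) with hA₀def
  have hA₀comm : IsMulCommutative A₀ := by
    apply Subgroup.isMulCommutative_closure
    rintro a (ha | ha) b (hb | hb)
    · exact (Subgroup.mem_center_iff.mp hb a)
    · exact (Subgroup.mem_center_iff.mp ha b).symm
    · exact (Subgroup.mem_center_iff.mp hb a)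
    · rw [Set.mem_singleton_iff] at ha hb; rw [ha, hb]
  have hZA₀ : Z < A₀ := by
    apply lt_of_le_of_ne
    · intro a ha
      exact Subgroup.subset_closure (Or.inl ha)
    · intro h
      apply hx1
      rw [h]
      exact Subgroup.subset_closure (Or.inr rfl)
  have hA₀C : A₀ ≤ C := by
    rw [hA₀def, Subgroup.closure_le]
    rintro a (ha | ha)
    · show a ∈ Subgroup.centralizer {x}
      rw [Subgroup.mem_centralizer_iff]
      intro y hy
      rw [Set.mem_singleton_iff] at hy
      rw [hy]
      exact Subgroup.mem_center_iff.mp ha x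
    · rw [Set.mem_singleton_iff] at ha
      rw [ha]
      show x ∈ Subgroup.centralizer {x}
      rw [Subgroup.mem_centralizer_iff]
      intro y hy
      rw [Set.mem_singleton_iff] at hy
      rw [hy]
  obtain ⟨j, hj⟩ := hpow A₀
  have hj2 : 2 ≤ j := by
    have := card_lt_of_lt hZA₀
    rw [hi, hj] at this
    have : p ^ 1 < p ^ j := by rwa [pow_one]
    have := (Nat.pow_lt_pow_iff_right hp.one_lt).mp this
    omega
  -- an element of C outside A₀
  have hA₀le : Nat.card A₀ ≤ p ^ 2 := hab A₀ hA₀comm
  obtain ⟨y, hyC, hyA₀⟩ : ∃ y : R, y ∈ C ∧ y ∉ A₀ := by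
    by_contra h
    push Not at h
    have hCA₀ : C ≤ A₀ := fun y hy => h y hy
    have := Subgroup.card_le_of_le hCA₀
    omega
  have hycent : y ∈ Subgroup.centralizer (A₀ : Set R) := by
    rw [hA₀def, Subgroup.centralizer_closure, Subgroup.mem_centralizer_iff]
    rintro a (ha | ha)
    · exact (Subgroup.mem_center_iff.mp ha y).symm
    · rw [Set.mem_singleton_iff] at ha
      rw [ha]
      rw [hCdef, Subgroup.mem_centralizer_iff] at hyC
      exact hyC x rfl
  have := hG' A₀ hA₀comm y hycent hyA₀ j hj
  omega

end Cfsg.Agent.S3771
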