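import Cfsg.Statements.S3772
import Mathlib
import Cfsg.Agent.Lib.Helper2.PGroup
import Cfsg.Agent.Lib.Helper47.Frat
-- import your own Cfsg.Agent.* helpers here

set_option autoImplicit false
open Cfsg

namespace Cfsg.Agent.S3772

open scoped commutatorElement

variable {G : Type*} [Group G]

/-- the sign of an element: `1` at the identity, `-1` elsewhere -/
noncomputable def sg (t : G) : ℤ := by classical exact if t = 1 then 1 else -1

theorem sg_one : sg (1 : G) = 1 := by unfold sg; simp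

theorem sg_eq_one_iff (t : G) : sg t = 1 ↔ t = 1 := by
  unfold sg
  split_ifs with h
  · simp [h]
  · constructor
    · intro h'; norm_num at h'
    · intro h'; exact absurd h' h

theorem sg_of_ne {t : G} (h : t ≠ 1) : sg t = -1 := by
  unfold sg; simp [h]

theorem sg_sq (t : G) : sg t * sg t = 1 := by
  unfold sg; split_ifs <;> simp

/-- in a subgroup of order two `sg` is multiplicative -/
theorem sg_mul_of_card_two (Φ : Subgroup G) (hΦ : Nat.card Φ = 2) {s t : G} (hs : s ∈ Φ)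
    (ht : t ∈ Φ) : sg (s * t) = sg s * sg t := by
  obtain ⟨z, hz1, hzu⟩ := (Nat.card_eq_two_iff' (1 : ↥Φ)).1 hΦ
  have key : ∀ u : G, u ∈ Φ → u = 1 ∨ u = (z : G) := by
    intro u hu
    by_cases h : u = 1
    · exact Or.inl h
    · right
      have := hzu ⟨u, hu⟩ (fun h' => h (congrArg Subtype.val h'))
      exact congrArg Subtype.val this
  have hzz : (z : G) * (z : G) = 1 := by
    rcases key _ (Φ.mul_mem z.2 z.2) with h | h
    · exact h
    · exfalso
      have : (z : G) = 1 := by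
        have := congrArg (fun w => (z : G)⁻¹ * w) h
        simpa using this
      exact hz1 (Subtype.ext this)
  have hzne : (z : G) ≠ 1 := fun h => hz1 (Subtype.ext h)
  rcases key s hs with rfl | rfl
  · simp [sg_one]
  · rcases key t ht with rfl | rfl
    · simp [sg_one]
    · rw [hzz, sg_one, sg_of_ne hzne]; norm_num

theorem sum_eq_zero_of_mul {H : Type*} [Group H] [Fintype H] (f : H → ℤ)
    (hmul : ∀ x y, f (x * y) = f x * f y) (x₀ : H) (hx₀ : f x₀ = -1) : ∑ x, f x = 0 := by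
  have h1 : ∑ x, f x = ∑ x, f (x₀ * x) := (Equiv.sum_comp (Equiv.mulLeft x₀) f).symm
  simp_rw [hmul, hx₀] at h1
  rw [← Finset.mul_sum] at h1
  linarith

/-- the hypotheses on the subgroup `Φ` (the Frattini subgroup in the application) -/
structure Setting (Φ : Subgroup G) : Prop where
  card : Nat.card Φ = 2
  sq : ∀ x : G, x ^ 2 ∈ Φ
  comm : ∀ x y : G, ⁅x, y⁆ ∈ Φ
  cent : Φ ≤ Subgroup.center G

namespace Setting

variable {Φ : Subgroup G} (h : Setting Φ)
include h

theorem commutes (c : G) (hc : c ∈ Φ) (x : G) : x * c = c * x :=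
  Subgroup.mem_center_iff.1 (h.cent hc) x

theorem sq_mul (x w : G) : (x * w) ^ 2 = ⁅w, x⁆ * x ^ 2 * w ^ 2 := by
  have hc := h.commutes ⁅w, x⁆ (h.comm w x)
  have h1 : w * x = ⁅w, x⁆ * x * w := by
    rw [commutatorElement_def]; group
  calc (x * w) ^ 2 = x * (w * x) * w := by rw [pow_two]; group
    _ = x * (⁅w, x⁆ * x * w) * w := by rw [← h1]
    _ = (x * ⁅w, x⁆) * x * w * w := by group
    _ = (⁅w, x⁆ * x) * x * w * w := by rw [hc x]
    _ = ⁅w, x⁆ * x ^ 2 * w ^ 2 := by rw [pow_two, pow_two]; group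

theorem sg_sq_mul (x w : G) : sg ((x * w) ^ 2) = sg ⁅w, x⁆ * sg (x ^ 2) * sg (w ^ 2) := by
  rw [h.sq_mul, sg_mul_of_card_two Φ h.card (Φ.mul_mem (h.comm w x) (h.sq x)) (h.sq w),
    sg_mul_of_card_two Φ h.card (h.comm w x) (h.sq x)]

theorem comm_mul (w x y : G) : ⁅w, x * y⁆ = ⁅w, x⁆ * ⁅w, y⁆ := by
  have hc := h.commutes ⁅w, y⁆ (h.comm w y)
  calc ⁅w, x * y⁆ = ⁅w, x⁆ * (x * ⁅w, y⁆) * x⁻¹ := by
        rw [commutatorElement_def, commutatorElement_def, commutatorElement_def]; group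
    _ = ⁅w, x⁆ * (⁅w, y⁆ * x) * x⁻¹ := by rw [hc x]
    _ = ⁅w, x⁆ * ⁅w, y⁆ := by group

theorem sg_comm_mul (w x y : G) : sg ⁅w, x * y⁆ = sg ⁅w, x⁆ * sg ⁅w, y⁆ := by
  rw [h.comm_mul, sg_mul_of_card_two Φ h.card (h.comm w x) (h.comm w y)]

theorem inner_sum [Fintype G] (w : G) :
    ∑ x : G, sg ⁅w, x⁆ = by classical exact if w ∈ Subgroup.center G then (Fintype.card G : ℤ) else 0 := by
  classical
  split_ifs with hw
  · have : ∀ x : G, sg ⁅w, x⁆ = 1 := by
      intro x
      rw [sg_eq_one_iff, commutatorElement_eq_one_iff_mul_comm]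
      exact (Subgroup.mem_center_iff.1 hw x).symm
    simp [this]
  · have : ∃ x₀ : G, ⁅w, x₀⁆ ≠ 1 := by
      by_contra hcon
      push Not at hcon
      apply hw
      rw [Subgroup.mem_center_iff]
      intro x
      exact ((commutatorElement_eq_one_iff_mul_comm).1 (hcon x)).symm
    obtain ⟨x₀, hx₀⟩ := this
    exact sum_eq_zero_of_mul (fun x => sg ⁅w, x⁆) (fun x y => h.sg_comm_mul w x y) x₀ (sg_of_ne hx₀)

/-- the key identity `S² = |G| · Σ_{w ∈ Z(G)} ε(w)` -/
theorem sq_sum [Fintype G] [Fintype ↥(Subgroup.center G)] :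
    (∑ x : G, sg (x ^ 2)) * (∑ y : G, sg (y ^ 2)) =
      (Fintype.card G : ℤ) * ∑ w : ↥(Subgroup.center G), sg ((w : G) ^ 2) := by
  classical
  have h1 : ∀ x : G, ∑ y : G, sg (y ^ 2) = ∑ w : G, sg ((x * w) ^ 2) := by
    intro x
    exact (Equiv.sum_comp (Equiv.mulLeft x) (fun y => sg (y ^ 2))).symm
  calc (∑ x : G, sg (x ^ 2)) * (∑ y : G, sg (y ^ 2))
      = ∑ x : G, sg (x ^ 2) * ∑ y : G, sg (y ^ 2) := Finset.sum_mul _ _ _
    _ = ∑ x : G, ∑ w : G, sg (w ^ 2) * sg ⁅w, x⁆ := by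
        apply Finset.sum_congr rfl
        intro x _
        rw [h1 x, Finset.mul_sum]
        apply Finset.sum_congr rfl
        intro w _
        rw [h.sg_sq_mul]
        have := sg_sq (x ^ 2)
        calc sg (x ^ 2) * (sg ⁅w, x⁆ * sg (x ^ 2) * sg (w ^ 2))
            = (sg (x ^ 2) * sg (x ^ 2)) * (sg (w ^ 2) * sg ⁅w, x⁆) := by ring
          _ = sg (w ^ 2) * sg ⁅w, x⁆ := by rw [this, one_mul]
    _ = ∑ w : G, sg (w ^ 2) * ∑ x : G, sg ⁅w, x⁆ := by
        rw [Finset.sum_comm]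
        apply Finset.sum_congr rfl
        intro w _
        rw [Finset.mul_sum]
    _ = ∑ w : G, (if w ∈ Subgroup.center G then (Fintype.card G : ℤ) * sg (w ^ 2) else 0) := by
        apply Finset.sum_congr rfl
        intro w _
        rw [h.inner_sum w]
        split_ifs <;> ring
    _ = (Fintype.card G : ℤ) * ∑ w : ↥(Subgroup.center G), sg ((w : G) ^ 2) := by
        rw [Finset.mul_sum, ← Finset.sum_filter]
        rw [← Finset.sum_subtype (p := fun w => w ∈ Subgroup.center G)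
          (f := fun w => (Fintype.card G : ℤ) * sg (w ^ 2))]
        intro x
        simp

theorem center_sum [Fintype ↥(Subgroup.center G)] :
    (∑ w : ↥(Subgroup.center G), sg ((w : G) ^ 2) = 0) ∨
    ((∀ w ∈ Subgroup.center G, w ^ 2 = 1) ∧
      ∑ w : ↥(Subgroup.center G), sg ((w : G) ^ 2) = (Nat.card ↥(Subgroup.center G) : ℤ)) := by
  classical
  by_cases hall : ∀ w ∈ Subgroup.center G, w ^ 2 = 1
  · right
    refine ⟨hall, ?_⟩
    have : ∀ w : ↥(Subgroup.center G), sg ((w : G) ^ 2) = 1 := by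
      intro w
      rw [sg_eq_one_iff]
      exact hall w w.2
    simp [this, Nat.card_eq_fintype_card]
  · left
    push Not at hall
    obtain ⟨w₀, hw₀, hw₀'⟩ := hall
    apply sum_eq_zero_of_mul (fun w : ↥(Subgroup.center G) => sg ((w : G) ^ 2)) ?_ ⟨w₀, hw₀⟩
      (sg_of_ne hw₀')
    intro x y
    show sg (((x * y : ↥(Subgroup.center G)) : G) ^ 2) = sg ((x : G) ^ 2) * sg ((y : G) ^ 2)
    rw [Subgroup.coe_mul, h.sg_sq_mul]
    have : ⁅(y : G), (x : G)⁆ = 1 := by
      rw [commutatorElement_eq_one_iff_mul_comm]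
      exact (Subgroup.mem_center_iff.1 y.2 x).symm
    rw [this, sg_one, one_mul]

end Setting

theorem sum_sg [Fintype G] :
    ∑ x : G, sg (x ^ 2) = 2 * (Nat.card {x : G // x ^ 2 = 1} : ℤ) - Fintype.card G := by
  classical
  have h1 : ∀ x : G, sg (x ^ 2) = 2 * (if x ^ 2 = 1 then (1 : ℤ) else 0) - 1 := by
    intro x
    unfold sg
    split_ifs <;> norm_num
  simp_rw [h1]
  rw [Finset.sum_sub_distrib, ← Finset.mul_sum, Finset.sum_boole]
  simp [Nat.card_eq_fintype_card, Fintype.card_subtype]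

theorem num1 (j d a : ℕ) (hS : (2 * (j : ℤ) - 2 ^ (d + 1)) * (2 * (j : ℤ) - 2 ^ (d + 1)) =
    2 ^ (d + 1) * 2 ^ a) (ha1 : 1 ≤ a) (had : a + 1 ≤ d) :
    ∃ r : ℕ, 1 ≤ r ∧ 2 * r ≤ d ∧ (j = 2 ^ d + 2 ^ (d - r) ∨ j + 2 ^ (d - r) = 2 ^ d) := by
  set m : ℕ := Int.natAbs ((j : ℤ) - 2 ^ d) with hm
  have hmm : ((m : ℤ)) * m = ((j : ℤ) - 2 ^ d) * ((j : ℤ) - 2 ^ d) := by
    rw [hm, Int.natAbs_mul_self']
  have h4 : (4 : ℤ) * ((m : ℤ) * m) = 2 ^ (d + 1) * 2 ^ a := by
    rw [hmm, ← hS, pow_succ]; ring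
  have h5 : m * m = 2 ^ (d + a - 1) := by
    have h6 : (4 : ℤ) * ((m : ℤ) * m) = 4 * 2 ^ (d + a - 1) := by
      rw [h4]
      have : d + 1 + a = (d + a - 1) + 2 := by omega
      rw [← pow_add, this, pow_add]; ring
    have h7 : ((m : ℤ)) * m = 2 ^ (d + a - 1) := by linarith
    exact_mod_cast h7
  have hdvd : m ∣ 2 ^ (d + a - 1) := ⟨m, h5.symm⟩
  obtain ⟨t, _, ht⟩ := (Nat.dvd_prime_pow Nat.prime_two).1 hdvd
  have h2t : 2 * t = d + a - 1 := by
    rw [ht, ← pow_add] at h5
    have := Nat.pow_right_injective (le_refl 2) h5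
    omega
  refine ⟨d - t, by omega, by omega, ?_⟩
  have hdt : d - (d - t) = t := by omega
  rw [hdt]
  have hcases := Int.natAbs_eq ((j : ℤ) - 2 ^ d)
  rw [← hm, ht] at hcases
  rcases hcases with h | h
  · left
    have : (j : ℤ) = 2 ^ d + 2 ^ t := by push_cast at h; linarith
    exact_mod_cast this
  · right
    have : (j : ℤ) + 2 ^ t = 2 ^ d := by push_cast at h; linarith
    exact_mod_cast this

theorem num2 (j r : ℕ) (T : ℤ) (hj : j = 2 ^ (2 * r) + 2 ^ r ∨ j + 2 ^ r = 2 ^ (2 * r))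
    (hS : (2 * (j : ℤ) - 2 ^ (2 * r + 1)) * (2 * (j : ℤ) - 2 ^ (2 * r + 1)) =
      2 ^ (2 * r + 1) * T) : T = 2 := by
  have h1 : (2 * (j : ℤ) - 2 ^ (2 * r + 1)) * (2 * (j : ℤ) - 2 ^ (2 * r + 1)) =
      2 ^ (2 * r + 1) * 2 := by
    have e1 : (2 : ℤ) ^ (2 * r + 1) = 2 * 2 ^ (2 * r) := by rw [pow_succ]; ring
    have e2 : (2 : ℤ) ^ (2 * r) = 2 ^ r * 2 ^ r := by rw [← pow_add]; congr 1; omega
    rcases hj with h | h
    · have : (j : ℤ) = 2 ^ (2 * r) + 2 ^ r := by exact_mod_cast h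
      rw [this, e1, e2]; ring
    · have : (j : ℤ) + 2 ^ r = 2 ^ (2 * r) := by exact_mod_cast h
      have hj' : (j : ℤ) = 2 ^ (2 * r) - 2 ^ r := by linarith
      rw [hj', e1, e2]; ring
  rw [hS] at h1
  have hpos : (2 : ℤ) ^ (2 * r + 1) ≠ 0 := by positivity
  exact mul_left_cancel₀ hpos h1

/-- a normal subgroup of order two is central -/
theorem le_center_of_card_two (Φ : Subgroup G) [hn : Φ.Normal] (hΦ : Nat.card Φ = 2) :
    Φ ≤ Subgroup.center G := by
  obtain ⟨z, hz1, hzu⟩ := (Nat.card_eq_two_iff' (1 : ↥Φ)).1 hΦ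
  intro t ht
  rw [Subgroup.mem_center_iff]
  intro g
  by_cases h1 : t = 1
  · rw [h1]; simp
  · have htz : (⟨t, ht⟩ : ↥Φ) = z := hzu ⟨t, ht⟩ (fun h' => h1 (congrArg Subtype.val h'))
    have hc : g * t * g⁻¹ ∈ Φ := hn.conj_mem t ht g
    have hc1 : g * t * g⁻¹ ≠ 1 := by
      intro h
      apply h1
      have : t = g⁻¹ * (g * t * g⁻¹) * g := by group
      rw [this, h]; group
    have hcz : (⟨g * t * g⁻¹, hc⟩ : ↥Φ) = z :=
      hzu ⟨_, hc⟩ (fun h' => hc1 (congrArg Subtype.val h'))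
    have : g * t * g⁻¹ = t := by
      have := hcz.trans htz.symm
      exact congrArg Subtype.val this
    calc g * t = (g * t * g⁻¹) * g := by group
      _ = t * g := by rw [this]

/-- the facts about a `2`-group with Frattini subgroup of order two that feed the count -/
theorem facts [Finite G] (hG : IsPGroup 2 G) (hΦ : Nat.card (frattini G) = 2) (d : ℕ)
    (hd : (frattini G).index = 2 ^ d) :
    Setting (frattini G) ∧ Nat.card G = 2 ^ (d + 1) ∧
    ∃ a : ℕ, Nat.card ↥(Subgroup.center G) = 2 ^ a ∧ 1 ≤ a ∧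
      ((∀ w ∈ Subgroup.center G, w ^ 2 = 1) → a + 1 ≤ d) := by
  have : Fact (Nat.Prime 2) := ⟨Nat.prime_two⟩
  have hcent : frattini G ≤ Subgroup.center G := le_center_of_card_two (frattini G) hΦ
  have hset : Setting (frattini G) :=
    ⟨hΦ, fun x => Cfsg.Agent.Helper2.pow_mem_frattini hG x,
      fun x y => Cfsg.Agent.Helper2.commutatorElement_mem_frattini hG x y, hcent⟩
  have hcardG : Nat.card G = 2 ^ (d + 1) := by
    rw [← Subgroup.card_mul_index (frattini G), hΦ, hd, pow_succ]; ring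
  obtain ⟨a, ha⟩ : ∃ a, Nat.card ↥(Subgroup.center G) = 2 ^ a :=
    (IsPGroup.iff_card).1 (hG.to_subgroup _)
  have ha1 : 1 ≤ a := by
    have h1 : Nat.card ↥(frattini G) ∣ Nat.card ↥(Subgroup.center G) := Subgroup.card_dvd_of_le hcent
    rw [hΦ, ha] at h1
    by_contra h0
    have : a = 0 := by omega
    rw [this, pow_zero] at h1
    have := Nat.le_of_dvd one_pos h1
    omega
  refine ⟨hset, hcardG, a, ha, ha1, ?_⟩
  intro hall
  have h1 : a ≠ d + 1 := by
    intro h
    have htop : Subgroup.center G = ⊤ := Subgroup.eq_top_of_card_eq _ (by rw [ha, h, hcardG])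
    have hfr := Cfsg.Agent.Helper47.frattini_le_ker_of_elementary (p := 2) (MonoidHom.id G)
      (fun x y => by
        have hx : x ∈ Subgroup.center G := htop ▸ Subgroup.mem_top x
        exact (Subgroup.mem_center_iff.1 hx y).symm)
      (fun x => hall x (htop ▸ Subgroup.mem_top x))
    have hbot : frattini G = ⊥ := by
      rw [eq_bot_iff]
      intro x hx
      have := hfr hx
      rw [MonoidHom.mem_ker] at this
      rw [Subgroup.mem_bot]
      exact this
    rw [hbot, Subgroup.card_bot] at hΦ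
    omega
  have h2 : a ≠ d := by
    intro h
    have hidx : (Subgroup.center G).index = 2 := by
      have h3 := Subgroup.card_mul_index (Subgroup.center G)
      rw [ha, hcardG, h, pow_succ] at h3
      exact Nat.eq_of_mul_eq_mul_left (by positivity) h3
    have hcyc : IsCyclic (G ⧸ Subgroup.center G) :=
      isCyclic_of_prime_card (p := 2) (by rw [← Subgroup.index_eq_card]; exact hidx)
    have hcomm : ∀ a b : G, a * b = b * a := fun a b =>
      (MonoidHom.isMulCommutative_of_isCyclic_of_ker_le_center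
        (QuotientGroup.mk' (Subgroup.center G)) (by rw [QuotientGroup.ker_mk'])).is_comm.comm a b
    have htop : Subgroup.center G = ⊤ := by
      rw [eq_top_iff]
      intro x _
      rw [Subgroup.mem_center_iff]
      intro g
      exact hcomm g x
    have : Nat.card ↥(Subgroup.center G) = Nat.card G := by
      rw [htop]; exact Subgroup.card_top
    rw [ha, hcardG, h] at this
    have := Nat.pow_right_injective (le_refl 2) this
    omega
  have hle : a ≤ d + 1 := by
    have h3 : Nat.card ↥(Subgroup.center G) ∣ Nat.card G := Subgroup.card_subgroup_dvd_card _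
    rw [ha, hcardG] at h3
    exact (Nat.pow_dvd_pow_iff_le_right (le_refl 2)).1 h3
  omega

/-- Let G be a finite 2-group whose Frattini subgroup Φ(G) has order 2, with |G : Φ(G)| = 2^d, and let j be the number of elements x of G with x² = 1. Then j = 2^d, or j = 2^d + 2^(d−r) or j = 2^d − 2^(d−r) for some positive integer r with 2r ≤ d. Moreover if d = 2r and j is 2^d + 2^r or 2^d − 2^r, then G is extraspecial. -/
theorem result {G : Type*} [Group G] [Finite G] (hG : IsPGroup 2 G) (hΦ : Nat.card (frattini G) = 2) (d : ℕ) (hd : (frattini G).index = 2 ^ d) : (Nat.card {x : G // x ^ 2 = 1} = 2 ^ d ∨ ∃ r : ℕ, 1 ≤ r ∧ 2 * r ≤ d ∧ (Nat.card {x : G // x ^ 2 = 1} = 2 ^ d + 2 ^ (d - r) ∨ Nat.card {x : G // x ^ 2 = 1} + 2 ^ (d - r) = 2 ^ d)) ∧ (∀ r : ℕ, d = 2 * r → (Nat.card {x : G // x ^ 2 = 1} = 2 ^ d + 2 ^ r ∨ Nat.card {x : G // x ^ 2 = 1} + 2 ^ r = 2 ^ d) → Cfsg.IsExtraspecial 2 G) := by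
  classical
  have : Fintype G := Fintype.ofFinite G
  have : Fintype ↥(Subgroup.center G) := Fintype.ofFinite _
  obtain ⟨hset, hcardG, a, ha, ha1, hnonab⟩ := facts hG hΦ d hd
  have hS := hset.sq_sum
  rw [sum_sg] at hS
  have hfc : (Fintype.card G : ℤ) = 2 ^ (d + 1) := by
    rw [← Nat.card_eq_fintype_card, hcardG]; push_cast; rfl
  rw [hfc] at hS
  set j := Nat.card {x : G // x ^ 2 = 1} with hj
  refine ⟨?_, ?_⟩
  · rcases hset.center_sum with hT | ⟨hall, hT⟩
    · left
      rw [hT, mul_zero] at hS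
      have h0 : 2 * (j : ℤ) - 2 ^ (d + 1) = 0 := mul_self_eq_zero.1 hS
      have : (j : ℤ) = 2 ^ d := by rw [pow_succ] at h0; linarith
      exact_mod_cast this
    · right
      rw [hT, ha] at hS
      push_cast at hS
      exact num1 j d a hS ha1 (hnonab hall)
  · intro r hdr hjr
    subst hdr
    rcases hset.center_sum with hT | ⟨hall, hT⟩
    · exfalso
      rw [hT, mul_zero] at hS
      have h0 : 2 * (j : ℤ) - 2 ^ (2 * r + 1) = 0 := mul_self_eq_zero.1 hS
      have hj' : (j : ℤ) = 2 ^ (2 * r) := by rw [pow_succ] at h0; linarith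
      have hpos : (0 : ℤ) < 2 ^ r := by positivity
      rcases hjr with h | h
      · have : (j : ℤ) = 2 ^ (2 * r) + 2 ^ r := by exact_mod_cast h
        linarith
      · have : (j : ℤ) + 2 ^ r = 2 ^ (2 * r) := by exact_mod_cast h
        linarith
    · rw [hT] at hS
      have hT2 := num2 j r _ hjr hS
      have hZ2 : Nat.card ↥(Subgroup.center G) = 2 := by exact_mod_cast hT2
      have hfz : frattini G = Subgroup.center G :=
        Subgroup.eq_of_le_of_card_ge hset.cent (by rw [hZ2, hΦ])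
      have : Fact (Nat.Prime 2) := ⟨Nat.prime_two⟩
      have hcomm_le : commutator G ≤ Subgroup.center G :=
        hfz ▸ Cfsg.Agent.Helper2.commutator_le_frattini hG
      have hcomm_ne : commutator G ≠ ⊥ := by
        intro hbot
        have htop : Subgroup.center G = ⊤ := (commutator_eq_bot_iff_center_eq_top G).1 hbot
        have h1 := hnonab hall
        have hcG : Nat.card G = 2 := by
          rw [← hZ2, htop]; exact Subgroup.card_top.symm
        rw [hcardG] at hcG
        have h2 : 2 * r + 1 = 1 := Nat.pow_right_injective (le_refl 2) (by show 2 ^ (2 * r + 1) = 2 ^ 1; rw [hcG])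
        omega
      have hcz : commutator G = Subgroup.center G := by
        apply Subgroup.eq_of_le_of_card_ge hcomm_le
        rw [hZ2]
        have : 1 < Nat.card ↥(commutator G) := (Subgroup.one_lt_card_iff_ne_bot _).2 hcomm_ne
        omega
      exact ⟨⟨hG, hfz, hcz⟩, hZ2⟩

end Cfsg.Agent.S3772
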