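import Cfsg.Statements.S3773
import Mathlib
import Cfsg.Agent.Lib.Helper62.QuadCount
import Cfsg.Agent.Lib.Helper2.PGroup
import Cfsg.Agent.Lib.Helper47.Frat
-- import your own Cfsg.Agent.* helpers here

set_option autoImplicit false
open Cfsg

namespace Cfsg.Agent.S3773

open scoped commutatorElement
open scoped Pointwise
open Cfsg.Agent.Helper62 (exists_zero_of_card_lt)

variable {G : Type*} [Group G]

/-- nilpotency class at most two and exponent dividing four -/
def Hyp (G : Type*) [Group G] : Prop :=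
  (∀ x y z : G, ⁅x, y⁆ * z = z * ⁅x, y⁆) ∧ ∀ x : G, x ^ 4 = 1

theorem comm_mul_left (h : Hyp G) (x x' y : G) : ⁅x * x', y⁆ = ⁅x, y⁆ * ⁅x', y⁆ := by
  have e : ⁅x * x', y⁆ = x * ⁅x', y⁆ * x⁻¹ * ⁅x, y⁆ := by
    simp only [commutatorElement_def]; group
  rw [e, ← h.1 x' y x, mul_assoc ⁅x', y⁆, mul_inv_cancel, mul_one, h.1 x' y]

theorem comm_mul_right (h : Hyp G) (x y y' : G) : ⁅x, y * y'⁆ = ⁅x, y⁆ * ⁅x, y'⁆ := by
  have e : ⁅x, y * y'⁆ = ⁅x, y⁆ * (y * ⁅x, y'⁆ * y⁻¹) := by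
    simp only [commutatorElement_def]; group
  rw [e, ← h.1 x y' y, mul_assoc ⁅x, y'⁆, mul_inv_cancel, mul_one]

theorem mul_sq (h : Hyp G) (x y : G) : (x * y) ^ 2 = x ^ 2 * y ^ 2 * ⁅y, x⁆ := by
  have e : (x * y) ^ 2 = x * (⁅y, x⁆ * (x * y)) * y := by
    simp only [commutatorElement_def, sq]; group
  rw [e, ← mul_assoc x, ← h.1 y x x, ← h.1 y x (x ^ 2 * y ^ 2), sq, sq]
  group

theorem comm_one_left (x : G) : ⁅(1 : G), x⁆ = 1 := by
  simp [commutatorElement_def]

theorem comm_sq_left (h : Hyp G) (x y : G) : ⁅x ^ 2, y⁆ = ⁅x, y⁆ ^ 2 := by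
  rw [sq, comm_mul_left h, sq]

theorem comm_sq_right (h : Hyp G) (x y : G) : ⁅x, y ^ 2⁆ = ⁅x, y⁆ ^ 2 := by
  rw [sq, comm_mul_right h, sq]

theorem comm_pow_four (h : Hyp G) (x y : G) : ⁅x, y⁆ ^ 4 = 1 := by
  have e : ⁅x, y⁆ ^ 4 = ⁅(x ^ 2) ^ 2, y⁆ := by
    rw [comm_sq_left h, comm_sq_left h, ← pow_mul]
  rw [e, ← pow_mul, h.2, comm_one_left]

theorem comm_sq (h : Hyp G) (x y : G) : ⁅x, y⁆ ^ 2 = 1 := by
  -- `(y x)^4 = c^6` for `c = ⁅x, y⁆`
  have hc : ∀ u : G, (u * ⁅x, y⁆) ^ 2 = u ^ 2 * ⁅x, y⁆ ^ 2 := by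
    intro u
    have : Commute u ⁅x, y⁆ := (h.1 x y u).symm
    exact this.mul_pow 2
  have h1 : (y * x) ^ 4 = ((y * x) ^ 2) ^ 2 := by rw [← pow_mul]
  have h2 : ((y * x) ^ 2) ^ 2 = (y ^ 2 * x ^ 2) ^ 2 * ⁅x, y⁆ ^ 2 := by
    rw [mul_sq h y x, hc]
  have h3 : (y ^ 2 * x ^ 2) ^ 2 = ⁅x, y⁆ ^ 4 := by
    rw [mul_sq h, ← pow_mul, ← pow_mul, h.2, h.2, one_mul, one_mul, comm_sq_left h, comm_sq_right h,
      ← pow_mul]
  rw [h.2, h2, h3, comm_pow_four h, one_mul] at h1
  exact h1.symm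

theorem sq_comm (h : Hyp G) (x y : G) : x ^ 2 * y = y * x ^ 2 := by
  have := comm_sq_left h x y
  rw [comm_sq h, commutatorElement_eq_one_iff_mul_comm] at this
  exact this

/-- `Ω₁(Z(G))` -/
def A (G : Type*) [Group G] : Subgroup G where
  carrier := {x | x ∈ Subgroup.center G ∧ x ^ 2 = 1}
  one_mem' := ⟨one_mem _, one_pow 2⟩
  mul_mem' := by
    intro a b ha hb
    refine ⟨mul_mem ha.1 hb.1, ?_⟩
    have : Commute a b := (Subgroup.mem_center_iff.1 hb.1 a)
    rw [this.mul_pow, ha.2, hb.2, one_mul]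
  inv_mem' := by
    intro a ha
    exact ⟨inv_mem ha.1, by rw [inv_pow, ha.2, inv_one]⟩

theorem mem_A {x : G} : x ∈ A G ↔ x ∈ Subgroup.center G ∧ x ^ 2 = 1 := Iff.rfl

theorem comm_mem_A (h : Hyp G) (x y : G) : ⁅x, y⁆ ∈ A G :=
  ⟨Subgroup.mem_center_iff.2 (fun z => (h.1 x y z).symm), comm_sq h x y⟩

theorem sq_mem_A (h : Hyp G) (x : G) : x ^ 2 ∈ A G :=
  ⟨Subgroup.mem_center_iff.2 (fun z => (sq_comm h x z).symm), by rw [← pow_mul, h.2]⟩

theorem card_subgroupOf_of_le {H K : Subgroup G} (h : H ≤ K) :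
    Nat.card (H.subgroupOf K) = Nat.card H :=
  Nat.card_congr (Subgroup.subgroupOfEquivOfLe h).toEquiv

open scoped IsMulCommutative in
/-- the counting lemma, in the form used below -/
theorem key [Finite G] (h : Hyp G) (hG : IsPGroup 2 G) (H A₁ D C : Subgroup G) (hD : D ≤ A₁)
    (hA₁ : A₁ ≤ A G) (hsq : ∀ x ∈ H, x ^ 2 ∈ A₁) (hcomm : ∀ x ∈ H, ∀ y ∈ H, ⁅x, y⁆ ∈ A₁)
    (hCH : C ≤ H) (hCZ : C ≤ Subgroup.center G) (hCD : ∀ c ∈ C, c ^ 2 ∈ D)
    (hcard : Nat.card A₁ ^ 2 * Nat.card C < Nat.card H * Nat.card D ^ 2) :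
    ∃ x ∈ H, x ∉ C ∧ x ^ 2 ∈ D := by
  classical
  have hcommA : IsMulCommutative ↥A₁ := ⟨⟨fun a b => Subtype.ext (by
    have := (hA₁ a.2).1
    exact ((Subgroup.mem_center_iff.1 this) b).symm)⟩⟩
  let D' : Subgroup ↥A₁ := D.subgroupOf A₁
  let s : ↥H → ↥A₁ ⧸ D' := fun x => QuotientGroup.mk ⟨(x : G) ^ 2, hsq x x.2⟩
  let b : ↥H → ↥H → ↥A₁ ⧸ D' := fun x y => QuotientGroup.mk ⟨⁅(y : G), (x : G)⁆, hcomm y y.2 x x.2⟩
  have hQ : ∀ u : ↥A₁ ⧸ D', u ^ 2 = 1 := by
    intro u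
    induction u using QuotientGroup.induction_on with
    | H a =>
      rw [← QuotientGroup.mk_pow]
      have : a ^ 2 = 1 := Subtype.ext (by
        rw [Subgroup.coe_pow]
        exact (hA₁ a.2).2)
      rw [this]
      rfl
  have hs : ∀ x y, s (x * y) = s x * s y * b x y := by
    intro x y
    show (QuotientGroup.mk _ : ↥A₁ ⧸ D') = QuotientGroup.mk _ * QuotientGroup.mk _ * QuotientGroup.mk _
    rw [← QuotientGroup.mk_mul, ← QuotientGroup.mk_mul]
    congr 1
    apply Subtype.ext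
    simp only [Subgroup.coe_mul]
    exact mul_sq h (x : G) (y : G)
  have hb1 : ∀ x x' y, b (x * x') y = b x y * b x' y := by
    intro x x' y
    show (QuotientGroup.mk _ : ↥A₁ ⧸ D') = QuotientGroup.mk _ * QuotientGroup.mk _
    rw [← QuotientGroup.mk_mul]
    congr 1
    apply Subtype.ext
    simp only [Subgroup.coe_mul]
    exact comm_mul_right h (y : G) (x : G) (x' : G)
  have hb2 : ∀ x y y', b x (y * y') = b x y * b x y' := by
    intro x y y'
    show (QuotientGroup.mk _ : ↥A₁ ⧸ D') = QuotientGroup.mk _ * QuotientGroup.mk _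
    rw [← QuotientGroup.mk_mul]
    congr 1
    apply Subtype.ext
    simp only [Subgroup.coe_mul]
    exact comm_mul_left h (y : G) (y' : G) (x : G)
  have hC1 : ∀ c ∈ C.subgroupOf H, s c = 1 := by
    intro c hc
    show (QuotientGroup.mk _ : ↥A₁ ⧸ D') = 1
    rw [QuotientGroup.eq_one_iff]
    exact hCD c hc
  have hC2 : ∀ c ∈ C.subgroupOf H, ∀ x, b x c = 1 := by
    intro c hc x
    show (QuotientGroup.mk _ : ↥A₁ ⧸ D') = 1
    rw [QuotientGroup.eq_one_iff]
    have h1 : ⁅(c : G), (x : G)⁆ = 1 := by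
      rw [commutatorElement_eq_one_iff_mul_comm]
      exact (Subgroup.mem_center_iff.1 (hCZ hc) x).symm
    show (⁅(c : G), (x : G)⁆ : G) ∈ D
    rw [h1]
    exact one_mem D
  have hcard' : Nat.card (↥A₁ ⧸ D') ^ 2 * Nat.card (C.subgroupOf H) < Nat.card H := by
    have e1 : Nat.card A₁ = Nat.card (↥A₁ ⧸ D') * Nat.card D :=
      (Subgroup.card_eq_card_quotient_mul_card_subgroup D').trans
        (by rw [card_subgroupOf_of_le hD])
    rw [card_subgroupOf_of_le hCH]
    rw [e1] at hcard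
    have : Nat.card (↥A₁ ⧸ D') ^ 2 * Nat.card C * Nat.card D ^ 2 < Nat.card H * Nat.card D ^ 2 := by
      calc Nat.card (↥A₁ ⧸ D') ^ 2 * Nat.card C * Nat.card D ^ 2
          = (Nat.card (↥A₁ ⧸ D') * Nat.card D) ^ 2 * Nat.card C := by ring
        _ < _ := hcard
    exact Nat.lt_of_mul_lt_mul_right this
  obtain ⟨x, hxC, hsx⟩ := exists_zero_of_card_lt (hG.to_subgroup H) hQ s b hs hb1 hb2
    (C.subgroupOf H) hC1 hC2 hcard'
  refine ⟨x, x.2, hxC, ?_⟩
  have : (QuotientGroup.mk _ : ↥A₁ ⧸ D') = 1 := hsx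
  rw [QuotientGroup.eq_one_iff] at this
  exact this

theorem normal_of_A_le (h : Hyp G) {H : Subgroup G} (hAH : A G ≤ H) : H.Normal := by
  constructor
  intro n hn g
  have : g * n * g⁻¹ = ⁅g, n⁆ * n := by simp [commutatorElement_def]
  rw [this]
  exact H.mul_mem (hAH (comm_mem_A h g n)) hn

theorem zpow_mem_or {H : Subgroup G} {x : G} (hx : x ^ 2 ∈ H) {z : G}
    (hz : z ∈ Subgroup.zpowers x) : z ∈ H ∨ x⁻¹ * z ∈ H := by
  obtain ⟨k, rfl⟩ := Subgroup.mem_zpowers_iff.1 hz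
  have hx' : x ^ (2 : ℤ) ∈ H := by
    rw [zpow_ofNat]; exact hx
  rcases Int.emod_two_eq_zero_or_one k with h0 | h1
  · left
    have : k = 2 * (k / 2) := by omega
    rw [this, zpow_mul]
    exact H.zpow_mem hx' _
  · right
    have : k = 1 + 2 * (k / 2) := by omega
    rw [this, zpow_add, zpow_one, inv_mul_cancel_left, zpow_mul]
    exact H.zpow_mem hx' _

theorem exists_compl [Finite G] (h : Hyp G) (N : Subgroup G) (hAN : A G ≤ N) :
    ∃ H : Subgroup G, A G ≤ H ∧ H ⊓ N = A G ∧ H ⊔ N = ⊤ := by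
  obtain ⟨H, -, hmax⟩ := Finite.exists_le_maximal
    (p := fun H : Subgroup G => A G ≤ H ∧ H ⊓ N = A G) (a := A G) ⟨le_rfl, inf_eq_left.2 hAN⟩
  refine ⟨H, hmax.prop.1, hmax.prop.2, ?_⟩
  rw [eq_top_iff]
  intro x _
  by_contra hx
  have hxH : x ∉ H := fun hh => hx ((le_sup_left : H ≤ H ⊔ N) hh)
  have hlt : H < H ⊔ Subgroup.zpowers x := by
    refine lt_of_le_of_ne le_sup_left ?_
    intro he
    apply hxH
    rw [he]
    exact (le_sup_right : Subgroup.zpowers x ≤ H ⊔ Subgroup.zpowers x) (Subgroup.mem_zpowers x)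
  have hp : A G ≤ H ⊔ Subgroup.zpowers x ∧ (H ⊔ Subgroup.zpowers x) ⊓ N = A G := by
    refine ⟨hmax.prop.1.trans le_sup_left,
      le_antisymm ?_ (le_inf (hmax.prop.1.trans le_sup_left) hAN)⟩
    rintro y ⟨hy1, hy2⟩
    have := normal_of_A_le h hmax.prop.1
    have hy : y ∈ (↑(H ⊔ Subgroup.zpowers x) : Set G) := hy1
    rw [Subgroup.normal_mul] at hy
    obtain ⟨a, ha, z, hz, rfl⟩ := Set.mem_mul.1 hy
    rcases zpow_mem_or (hmax.prop.1 (sq_mem_A h x)) hz with hzH | hzH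
    · have : a * z ∈ H ⊓ N := ⟨H.mul_mem ha hzH, hy2⟩
      rw [hmax.prop.2] at this
      exact this
    · exfalso
      apply hx
      have e : x = a⁻¹ * (a * z) * (x⁻¹ * z)⁻¹ := by group
      rw [e]
      exact mul_mem (mul_mem ((le_sup_left : H ≤ H ⊔ N) (inv_mem ha))
        ((le_sup_right : N ≤ H ⊔ N) hy2)) ((le_sup_left : H ≤ H ⊔ N) (inv_mem hzH))
  exact hlt.not_ge (hmax.le_of_ge hp hlt.le)

theorem card_formula [Finite G] (H N : Subgroup G) [N.Normal] (hsup : H ⊔ N = ⊤) :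
    Nat.card G * Nat.card (H ⊓ N : Subgroup G) = Nat.card H * Nat.card N := by
  have h1 : N.relIndex (H ⊔ N) = N.relIndex H := Subgroup.relIndex_sup_right H N
  rw [hsup, Subgroup.relIndex_top_right] at h1
  have h2 : Nat.card ((H ⊓ N).subgroupOf H) * ((H ⊓ N).subgroupOf H).index = Nat.card H :=
    Subgroup.card_mul_index _
  have h3 : ((H ⊓ N).subgroupOf H).index = N.index := by
    have : ((H ⊓ N).subgroupOf H).index = (H ⊓ N).relIndex H := rfl
    rw [this, inf_comm, Subgroup.inf_relIndex_right, ← h1]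
  rw [h3, card_subgroupOf_of_le inf_le_left] at h2
  have h4 : Nat.card N * N.index = Nat.card G := Subgroup.card_mul_index N
  rw [← h4, ← h2]
  ring

theorem card_H_le [Finite G] (h : Hyp G) (hG : IsPGroup 2 G) (N : Subgroup G)
    (hN : ∀ x, x ∈ N ↔ x ^ 2 = 1) (H : Subgroup G) (hAH : A G ≤ H) (hHN : H ⊓ N = A G) :
    Nat.card H ≤ Nat.card (A G) ^ 3 := by
  by_contra hlt
  push Not at hlt
  obtain ⟨x, hxH, hxA, hx2⟩ := key h hG H (A G) ⊥ (A G) bot_le le_rfl
    (fun x _ => sq_mem_A h x) (fun x _ y _ => comm_mem_A h x y) hAH (fun x hx => hx.1)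
    (fun c hc => by rw [hc.2]; exact one_mem _) (by
      rw [Subgroup.card_bot, one_pow, mul_one, ← pow_succ]
      exact hlt)
  rw [Subgroup.mem_bot] at hx2
  apply hxA
  rw [← hHN]
  exact ⟨hxH, (hN x).2 hx2⟩

theorem A_le_N (N : Subgroup G) (hN : ∀ x, x ∈ N ↔ x ^ 2 = 1) : A G ≤ N :=
  fun x hx => (hN x).2 hx.2

theorem normal_N (N : Subgroup G) (hN : ∀ x, x ∈ N ↔ x ^ 2 = 1) : N.Normal := by
  constructor
  intro n hn g
  rw [hN] at hn ⊢
  rw [conj_pow, hn, mul_one, mul_inv_cancel]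

/-- the main inequality, in product form -/
theorem card_mul_le [Finite G] (h : Hyp G) (hG : IsPGroup 2 G) (N : Subgroup G)
    (hN : ∀ x, x ∈ N ↔ x ^ 2 = 1) :
    Nat.card G ≤ Nat.card (A G) ^ 2 * Nat.card N := by
  obtain ⟨H, hAH, hHN, hsup⟩ := exists_compl h N (A_le_N N hN)
  have := normal_N N hN
  have h1 := card_formula H N hsup
  rw [hHN] at h1
  have h2 := card_H_le h hG N hN H hAH hHN
  have hApos : 0 < Nat.card (A G) := Nat.card_pos
  have h3 : Nat.card G * Nat.card (A G) ≤ Nat.card (A G) ^ 2 * Nat.card N * Nat.card (A G) := by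
    rw [h1]
    calc Nat.card H * Nat.card N ≤ Nat.card (A G) ^ 3 * Nat.card N :=
          Nat.mul_le_mul_right _ h2
      _ = Nat.card (A G) ^ 2 * Nat.card N * Nat.card (A G) := by ring
  exact Nat.le_of_mul_le_mul_right h3 hApos

theorem card_le_cube [Finite G] (h : Hyp G) (hG : IsPGroup 2 G) (N : Subgroup G)
    (hN : ∀ x, x ∈ N ↔ x ^ 2 = 1) : Nat.card G ≤ Nat.card N ^ 3 := by
  have h1 := card_mul_le h hG N hN
  have h2 : Nat.card (A G) ≤ Nat.card N := Subgroup.card_le_of_le (A_le_N N hN)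
  calc Nat.card G ≤ Nat.card (A G) ^ 2 * Nat.card N := h1
    _ ≤ Nat.card N ^ 2 * Nat.card N := Nat.mul_le_mul_right _ (Nat.pow_le_pow_left h2 2)
    _ = Nat.card N ^ 3 := by ring

/-- the case of equality -/
theorem eq_case [Finite G] (h : Hyp G) (hG : IsPGroup 2 G) (N : Subgroup G)
    (hN : ∀ x, x ∈ N ↔ x ^ 2 = 1) (hge : Nat.card N ^ 3 ≤ Nat.card G) :
    N = A G ∧ Nat.card G = Nat.card (A G) ^ 3 := by
  have h1 := card_mul_le h hG N hN
  have h2 : Nat.card (A G) ≤ Nat.card N := Subgroup.card_le_of_le (A_le_N N hN)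
  have hNpos : 0 < Nat.card N := Nat.card_pos
  have h3 : Nat.card N ≤ Nat.card (A G) := by
    by_contra hlt
    push Not at hlt
    have : Nat.card (A G) ^ 2 * Nat.card N < Nat.card N ^ 2 * Nat.card N :=
      Nat.mul_lt_mul_of_pos_right (Nat.pow_lt_pow_left hlt (by norm_num)) hNpos
    have e : Nat.card N ^ 2 * Nat.card N = Nat.card N ^ 3 := by ring
    omega
  have hcard : Nat.card (A G) = Nat.card N := le_antisymm h2 h3
  have hAN : A G = N := Subgroup.eq_of_le_of_card_ge (A_le_N N hN) h3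
  refine ⟨hAN.symm, ?_⟩
  rw [← hcard] at h1 hge
  have e : Nat.card (A G) ^ 2 * Nat.card (A G) = Nat.card (A G) ^ 3 := by ring
  omega

/-- central elements whose square lies in `D` -/
def CD (D : Subgroup G) : Subgroup G where
  carrier := {x | x ∈ Subgroup.center G ∧ x ^ 2 ∈ D}
  one_mem' := ⟨one_mem _, by rw [one_pow]; exact one_mem D⟩
  mul_mem' := by
    intro a b ha hb
    refine ⟨mul_mem ha.1 hb.1, ?_⟩
    have : Commute a b := Subgroup.mem_center_iff.1 hb.1 a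
    rw [this.mul_pow]
    exact D.mul_mem ha.2 hb.2
  inv_mem' := by
    intro a ha
    exact ⟨inv_mem ha.1, by rw [inv_pow]; exact D.inv_mem ha.2⟩

theorem card_CD_le [Finite G] (D : Subgroup G) :
    Nat.card (CD D) ≤ Nat.card (A G) * Nat.card D := by
  let f : ↥(CD D) →* ↥D := MonoidHom.mk' (fun x => ⟨(x : G) ^ 2, x.2.2⟩) (by
    intro x y
    apply Subtype.ext
    have : Commute (x : G) (y : G) := Subgroup.mem_center_iff.1 y.2.1 x
    simp only [Subgroup.coe_mul]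
    exact this.mul_pow 2)
  have hker : f.ker = (A G).subgroupOf (CD D) := by
    ext x
    rw [MonoidHom.mem_ker, Subgroup.mem_subgroupOf]
    constructor
    · intro hx
      have : (x : G) ^ 2 = 1 := congrArg Subtype.val hx
      exact ⟨x.2.1, this⟩
    · intro hx
      exact Subtype.ext hx.2
  have hAle : A G ≤ CD D := fun x hx => ⟨hx.1, by rw [hx.2]; exact one_mem D⟩
  have h1 : Nat.card f.ker * f.ker.index = Nat.card (CD D) := Subgroup.card_mul_index _
  rw [Subgroup.index_ker, hker, card_subgroupOf_of_le hAle] at h1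
  rw [← h1]
  exact Nat.mul_le_mul_left _ (Subgroup.card_le_card_group _)

theorem center_eq_A [Finite G] (h : Hyp G) (hG : IsPGroup 2 G)
    (hNA : ∀ x : G, x ^ 2 = 1 → x ∈ A G) (hcard : Nat.card G = Nat.card (A G) ^ 3) :
    Subgroup.center G = A G := by
  apply le_antisymm _ (fun x hx => hx.1)
  intro z hz
  by_contra hzA
  have hc1 : z ^ 2 ≠ 1 := fun hh => hzA ⟨hz, hh⟩
  have hDA : Subgroup.zpowers (z ^ 2) ≤ A G := (Subgroup.zpowers_le).2 (sq_mem_A h z)
  have hDcard : 1 < Nat.card (Subgroup.zpowers (z ^ 2)) :=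
    (Subgroup.one_lt_card_iff_ne_bot _).2 (by
      intro hbot
      have : z ^ 2 ∈ Subgroup.zpowers (z ^ 2) := Subgroup.mem_zpowers _
      rw [hbot, Subgroup.mem_bot] at this
      exact hc1 this)
  have hCle := card_CD_le (G := G) (Subgroup.zpowers (z ^ 2))
  obtain ⟨x, -, hxC, hx2⟩ := key h hG ⊤ (A G) (Subgroup.zpowers (z ^ 2))
    (CD (Subgroup.zpowers (z ^ 2))) hDA le_rfl (fun x _ => sq_mem_A h x)
    (fun x _ y _ => comm_mem_A h x y) le_top (fun x hx => hx.1) (fun c hc => hc.2) (by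
      rw [Subgroup.card_top, hcard]
      have hApos : 0 < Nat.card (A G) := Nat.card_pos
      calc Nat.card (A G) ^ 2 * Nat.card (CD (Subgroup.zpowers (z ^ 2)))
          ≤ Nat.card (A G) ^ 2 * (Nat.card (A G) * Nat.card (Subgroup.zpowers (z ^ 2))) :=
            Nat.mul_le_mul_left _ hCle
        _ = Nat.card (A G) ^ 3 * Nat.card (Subgroup.zpowers (z ^ 2)) := by ring
        _ < Nat.card (A G) ^ 3 * Nat.card (Subgroup.zpowers (z ^ 2)) ^ 2 := by
            apply Nat.mul_lt_mul_of_pos_left _ (by positivity)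
            nlinarith)
  have hz4 : (z ^ 2) ^ 2 ∈ (⊥ : Subgroup G) := by
    rw [← pow_mul, h.2]; exact one_mem _
  have hzC : z ∈ CD (Subgroup.zpowers (z ^ 2)) := ⟨hz, Subgroup.mem_zpowers _⟩
  rcases zpow_mem_or hz4 hx2 with h1 | h1
  · rw [Subgroup.mem_bot] at h1
    exact hxC ⟨(hNA x h1).1, by rw [h1]; exact one_mem _⟩
  · rw [Subgroup.mem_bot, inv_mul_eq_one] at h1
    have hcomm : Commute x z⁻¹ := (Subgroup.mem_center_iff.1 (inv_mem hz) x)
    have h2 : (x * z⁻¹) ^ 2 = 1 := by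
      rw [hcomm.mul_pow, inv_pow, ← h1, mul_inv_cancel]
    have h3 : x * z⁻¹ ∈ A G := hNA _ h2
    apply hxC
    have e : x = (x * z⁻¹) * z := by group
    rw [e]
    exact mul_mem ⟨h3.1, by rw [h3.2]; exact one_mem _⟩ hzC

open scoped IsMulCommutative in
theorem commutator_eq_A [Finite G] (h : Hyp G) (hG : IsPGroup 2 G)
    (hNA : ∀ x : G, x ^ 2 = 1 → x ∈ A G) (hcard : Nat.card G = Nat.card (A G) ^ 3) :
    commutator G = A G := by
  have hle : commutator G ≤ A G := by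
    rw [commutator_def, Subgroup.commutator_le]
    intro x _ y _
    exact comm_mem_A h x y
  by_contra hne
  have hlt : Nat.card (commutator G) < Nat.card (A G) := by
    by_contra hge
    push Not at hge
    exact hne (Subgroup.eq_of_le_of_card_ge hle hge)
  have hcommA : IsMulCommutative ↥(A G) :=
    ⟨⟨fun a b => Subtype.ext ((Subgroup.mem_center_iff.1 a.2.1 b).symm)⟩⟩
  let D' : Subgroup ↥(A G) := (commutator G).subgroupOf (A G)
  let ψ : G →* ↥(A G) ⧸ D' := MonoidHom.mk'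
    (fun x => (QuotientGroup.mk ⟨x ^ 2, sq_mem_A h x⟩ : ↥(A G) ⧸ D')) (by
    intro x y
    rw [← QuotientGroup.mk_mul, QuotientGroup.eq, Subgroup.mem_subgroupOf]
    simp only [Subgroup.coe_mul, Subgroup.coe_inv]
    rw [mul_sq h, mul_inv_rev, inv_mul_cancel_right]
    rw [commutator_def]
    exact inv_mem (Subgroup.commutator_mem_commutator (Subgroup.mem_top y) (Subgroup.mem_top x)))
  have hψ : ∀ x, x ∈ ψ.ker ↔ x ^ 2 ∈ commutator G := by
    intro x
    rw [MonoidHom.mem_ker]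
    show (QuotientGroup.mk _ : ↥(A G) ⧸ D') = 1 ↔ _
    rw [QuotientGroup.eq_one_iff, Subgroup.mem_subgroupOf]
  have hAK : A G ≤ ψ.ker := by
    intro a ha
    rw [hψ, ha.2]
    exact one_mem _
  -- cardinalities
  have e1 : Nat.card (A G) = Nat.card (↥(A G) ⧸ D') * Nat.card (commutator G) :=
    (Subgroup.card_eq_card_quotient_mul_card_subgroup D').trans
      (by rw [card_subgroupOf_of_le hle])
  have e2 : Nat.card ψ.ker * Nat.card ψ.range = Nat.card G := by
    rw [← Subgroup.index_ker]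
    exact Subgroup.card_mul_index _
  have e3 : Nat.card ψ.range ≤ Nat.card (↥(A G) ⧸ D') := Subgroup.card_le_card_group _
  obtain ⟨x, hxK, hxA, hx2⟩ := key h hG ψ.ker (commutator G) ⊥ (A G) bot_le hle
    (fun x hx => (hψ x).1 hx)
    (fun x _ y _ => by
      rw [commutator_def]
      exact Subgroup.commutator_mem_commutator (Subgroup.mem_top x) (Subgroup.mem_top y))
    hAK (fun x hx => hx.1) (fun c hc => by rw [hc.2]; exact one_mem _) (by
      rw [Subgroup.card_bot, one_pow, mul_one]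
      by_contra hge
      push Not at hge
      have hApos : 0 < Nat.card (A G) := Nat.card_pos
      -- a³ = |G| = k r ≤ k q ≤ d² a q = d a (q d) = d a²
      have h1 : Nat.card (A G) ^ 3 ≤ Nat.card ψ.ker * Nat.card (↥(A G) ⧸ D') := by
        rw [← hcard, ← e2]
        exact Nat.mul_le_mul_left _ e3
      have h2 : Nat.card ψ.ker * Nat.card (↥(A G) ⧸ D') ≤
          Nat.card (commutator G) ^ 2 * Nat.card (A G) * Nat.card (↥(A G) ⧸ D') :=
        Nat.mul_le_mul_right _ hge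
      have h3 : Nat.card (commutator G) ^ 2 * Nat.card (A G) * Nat.card (↥(A G) ⧸ D') =
          Nat.card (commutator G) * Nat.card (A G) ^ 2 := by
        rw [e1]; ring
      have h4 : Nat.card (A G) * Nat.card (A G) ^ 2 ≤ Nat.card (commutator G) * Nat.card (A G) ^ 2 := by
        calc Nat.card (A G) * Nat.card (A G) ^ 2 = Nat.card (A G) ^ 3 := by ring
          _ ≤ _ := h1.trans (h2.trans h3.le)
      have h5 := Nat.le_of_mul_le_mul_right h4 (by positivity)
      omega)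
  rw [Subgroup.mem_bot] at hx2
  exact hxA (hNA x hx2)

theorem frattini_le_A [Finite G] (h : Hyp G) : frattini G ≤ A G := by
  have := normal_of_A_le h (le_refl (A G))
  have key' := Cfsg.Agent.Helper47.frattini_le_ker_of_elementary (p := 2)
    (QuotientGroup.mk' (A G)) (by
      intro x y
      show (QuotientGroup.mk (x * y) : G ⧸ A G) = QuotientGroup.mk (y * x)
      rw [QuotientGroup.eq]
      have : (x * y)⁻¹ * (y * x) = ⁅y⁻¹, x⁻¹⁆ := by
        simp only [commutatorElement_def]; group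
      rw [this]
      exact comm_mem_A h _ _) (by
      intro x
      show (QuotientGroup.mk x : G ⧸ A G) ^ 2 = 1
      rw [← QuotientGroup.mk_pow, QuotientGroup.eq_one_iff]
      exact sq_mem_A h x)
  rwa [QuotientGroup.ker_mk'] at key'

/-- Let G be a finite 2-group of nilpotency class at most 2 and exponent dividing 4 in which the elements x with x² = 1 form a subgroup N. Then |G| ≤ |N|³, and |G| < |N|³ unless G is special. -/
theorem result {G : Type*} [Group G] [Finite G] (hG : IsPGroup 2 G) (hcl : (⊤ : Subgroup G).lowerCentralSeries 2 = ⊥) (hexp : ∀ x : G, x ^ 4 = 1) (hN : ∀ x y : G, x ^ 2 = 1 → y ^ 2 = 1 → (x * y) ^ 2 = 1) : Nat.card G ≤ Nat.card {x : G // x ^ 2 = 1} ^ 3 ∧ (¬ Cfsg.IsSpecial 2 G → Nat.card G < Nat.card {x : G // x ^ 2 = 1} ^ 3) := by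
  have hyp : Hyp G := by
    refine ⟨?_, hexp⟩
    intro x y z
    have h1 : ⁅⁅x, y⁆, z⁆ ∈ (⊤ : Subgroup G).lowerCentralSeries 2 :=
      Subgroup.commutator_mem_commutator
        (Subgroup.commutator_mem_commutator (Subgroup.mem_top x) (Subgroup.mem_top y))
        (Subgroup.mem_top z)
    rw [hcl, Subgroup.mem_bot, commutatorElement_eq_one_iff_mul_comm] at h1
    exact h1
  let N : Subgroup G :=
    { carrier := {x | x ^ 2 = 1}
      one_mem' := one_pow 2
      mul_mem' := fun {a b} ha hb => hN a b ha hb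
      inv_mem' := by
        intro a ha
        show (a⁻¹) ^ 2 = 1
        rw [inv_pow, show a ^ 2 = 1 from ha, inv_one] }
  have hNmem : ∀ x, x ∈ N ↔ x ^ 2 = 1 := fun x => Iff.rfl
  have hcardN : Nat.card {x : G // x ^ 2 = 1} = Nat.card N := rfl
  rw [hcardN]
  refine ⟨card_le_cube hyp hG N hNmem, ?_⟩
  intro hns
  by_contra hge
  push Not at hge
  obtain ⟨hNA, hcard⟩ := eq_case hyp hG N hNmem hge
  apply hns
  have hNA' : ∀ x : G, x ^ 2 = 1 → x ∈ A G := fun x hx => hNA ▸ (hNmem x).2 hx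
  have hZ := center_eq_A hyp hG hNA' hcard
  have hC := commutator_eq_A hyp hG hNA' hcard
  refine ⟨hG, ?_, hC.trans hZ.symm⟩
  rw [hZ]
  apply le_antisymm (frattini_le_A hyp)
  rw [← hC]
  exact Cfsg.Agent.Helper2.commutator_le_frattini hG

end Cfsg.Agent.S3773
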