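import Cfsg.Statements.S3774

set_option autoImplicit false
open Cfsg

namespace Cfsg.Agent.S3774

/-- the "root involution" of an element: `g ^ (orderOf g / 2)`. -/
noncomputable def rt {G : Type*} [Group G] (g : G) : G := g ^ (orderOf g / 2)

theorem rt_map {G : Type*} [Group G] (a : MulAut G) (g : G) : rt (a g) = a (rt g) := by
  unfold rt
  rw [MulEquiv.orderOf_eq, map_pow]

theorem rt_spec {G : Type*} [Group G] [Finite G] (hG : IsPGroup 2 G) (g : G) (hg : g ≠ 1) :
    rt g ≠ 1 ∧ rt g ^ 2 = 1 := by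
  have : Fact (Nat.Prime 2) := ⟨Nat.prime_two⟩
  obtain ⟨k, hk⟩ := (IsPGroup.iff_orderOf.mp hG) g
  have hk0 : k ≠ 0 := by
    rintro rfl
    rw [pow_zero, orderOf_eq_one_iff] at hk
    exact hg hk
  obtain ⟨j, rfl⟩ := Nat.exists_eq_succ_of_ne_zero hk0
  have hhalf : orderOf g / 2 = 2 ^ j := by
    rw [hk, pow_succ]; simp
  constructor
  · unfold rt
    rw [hhalf]
    apply pow_ne_one_of_lt_orderOf (by positivity)
    rw [hk, pow_succ]
    have : 0 < 2 ^ j := by positivity
    omega
  · unfold rt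
    rw [hhalf, ← pow_mul, ← pow_succ, ← hk, pow_orderOf_eq_one]

/-- Let G be a nontrivial finite 2-group whose automorphism group permutes the involutions of G transitively. Then every involution of G is central, so that the involutions together with 1 form the subgroup Ω₁(Z(G)), and if this subgroup has order q then |G| is a power of q. -/
theorem result {G : Type*} [Group G] [Finite G] [Nontrivial G] (hG : IsPGroup 2 G) (htrans : ∀ x y : G, x ≠ 1 → x ^ 2 = 1 → y ≠ 1 → y ^ 2 = 1 → ∃ a : MulAut G, a x = y) : (∀ x : G, x ^ 2 = 1 → x ∈ Subgroup.center G) ∧ ∃ m : ℕ, Nat.card G = Nat.card {z : G // z ^ 2 = 1} ^ m := by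
  classical
  have : Fact (Nat.Prime 2) := ⟨Nat.prime_two⟩
  have : Fintype G := Fintype.ofFinite G
  -- a central involution
  obtain ⟨z₀, hz₀c, hz₀1, hz₀2⟩ : ∃ z : G, z ∈ Subgroup.center G ∧ z ≠ 1 ∧ z ^ 2 = 1 := by
    have := hG.center_nontrivial
    obtain ⟨z, hz⟩ := exists_ne (1 : Subgroup.center G)
    have hz' : (z : G) ≠ 1 := fun h => hz (Subtype.ext h)
    refine ⟨rt (z : G), ?_, (rt_spec hG z hz').1, (rt_spec hG z hz').2⟩
    exact Subgroup.pow_mem _ z.2 _
  have part1 : ∀ x : G, x ^ 2 = 1 → x ∈ Subgroup.center G := by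
    intro x hx
    by_cases hx1 : x = 1
    · rw [hx1]; exact one_mem _
    · obtain ⟨a, ha⟩ := htrans z₀ x hz₀1 hz₀2 hx1 hx
      rw [← ha]
      have hchar : (Subgroup.center G).Characteristic := inferInstance
      have := (Subgroup.characteristic_iff_le_comap.mp hchar) a hz₀c
      exact this
  refine ⟨part1, ?_⟩
  -- the subgroup of elements of square one
  let I : Subgroup G :=
    { carrier := {x | x ^ 2 = 1}
      one_mem' := by simp
      mul_mem' := by
        intro x y hx hy
        have hc : y * x = x * y := ((Subgroup.mem_center_iff.mp (part1 x hx)) y)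
        show (x * y) ^ 2 = 1
        have hx' : x ^ 2 = 1 := hx
        have hy' : y ^ 2 = 1 := hy
        rw [pow_two] at hx' hy' ⊢
        calc x * y * (x * y) = x * (y * x) * y := by group
          _ = x * (x * y) * y := by rw [hc]
          _ = (x * x) * (y * y) := by group
          _ = 1 := by rw [hx', hy', one_mul]
      inv_mem' := by
        intro x hx
        show x⁻¹ ^ 2 = 1
        have hx' : x ^ 2 = 1 := hx
        rw [inv_pow, hx', inv_one] }
  have hIcard : Nat.card I = Nat.card {z : G // z ^ 2 = 1} := rfl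
  obtain ⟨n, hn⟩ := IsPGroup.iff_card.mp (hG.to_subgroup I)
  obtain ⟨a, ha⟩ := IsPGroup.iff_card.mp hG
  have hn0 : n ≠ 0 := by
    rintro rfl
    rw [pow_zero] at hn
    have hsub : Subsingleton I := (Nat.card_eq_one_iff_unique.mp hn).1
    have : (⟨z₀, hz₀2⟩ : I) = 1 := Subsingleton.elim _ _
    exact hz₀1 (congrArg Subtype.val this)
  -- counting
  let S : Finset G := Finset.univ.filter (· ≠ 1)
  let Inv : Finset G := Finset.univ.filter (fun z => z ≠ 1 ∧ z ^ 2 = 1)
  have hmaps : ∀ x ∈ S, rt x ∈ Inv := by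
    intro x hx
    have hx1 : x ≠ 1 := (Finset.mem_filter.mp hx).2
    exact Finset.mem_filter.mpr ⟨Finset.mem_univ _, rt_spec hG x hx1⟩
  have hcount := Finset.card_eq_sum_card_fiberwise hmaps
  let c : ℕ := (S.filter (fun g => rt g = z₀)).card
  have hfib : ∀ z ∈ Inv, (S.filter (fun g => rt g = z)).card = c := by
    intro z hz
    obtain ⟨hz1, hz2⟩ := (Finset.mem_filter.mp hz).2
    obtain ⟨α, hα⟩ := htrans z z₀ hz1 hz2 hz₀1 hz₀2
    refine Finset.card_equiv α.toEquiv ?_
    intro g
    simp only [S, Finset.mem_filter, Finset.mem_univ, true_and, MulEquiv.toEquiv_eq_coe,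
      EquivLike.coe_coe]
    rw [rt_map, ← hα]
    constructor
    · rintro ⟨h1, h2⟩
      refine ⟨fun h => h1 ?_, by rw [h2]⟩
      exact (map_eq_one_iff α α.injective).mp h
    · rintro ⟨h1, h2⟩
      refine ⟨fun h => h1 (by rw [h, map_one]), α.injective h2⟩
  rw [Finset.sum_congr rfl hfib, Finset.sum_const, smul_eq_mul] at hcount
  have hS : S.card = 2 ^ a - 1 := by
    have h1 : S.card = Fintype.card G - 1 := by
      simp only [S]
      rw [Finset.filter_ne' Finset.univ (1 : G), Finset.card_erase_of_mem (Finset.mem_univ _),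
        Finset.card_univ]
    rw [h1, ← Nat.card_eq_fintype_card, ha]
  have hInv : Inv.card = 2 ^ n - 1 := by
    have h1 : Inv = (Finset.univ.filter (fun z : G => z ^ 2 = 1)).erase 1 := by
      ext z
      simp only [Inv, Finset.mem_filter, Finset.mem_univ, true_and, Finset.mem_erase]
    have h2 : (Finset.univ.filter (fun z : G => z ^ 2 = 1)).card = 2 ^ n := by
      rw [← hn, hIcard, Nat.card_eq_fintype_card, Fintype.card_subtype]
    rw [h1, Finset.card_erase_of_mem (by simp), h2]
  rw [hS, hInv] at hcount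
  have hdvd : 2 ^ n - 1 ∣ 2 ^ a - 1 := ⟨c, hcount⟩
  have hmod := Nat.pow_sub_one_mod_pow_sub_one 2 n a
  rw [Nat.mod_eq_zero_of_dvd hdvd] at hmod
  have hmod0 : a % n = 0 := by
    by_contra h
    have : 2 ≤ 2 ^ (a % n) := by
      calc 2 = 2 ^ 1 := by norm_num
        _ ≤ 2 ^ (a % n) := Nat.pow_le_pow_right (by norm_num) (Nat.one_le_iff_ne_zero.mpr h)
    omega
  obtain ⟨m, hm⟩ := Nat.dvd_of_mod_eq_zero hmod0
  refine ⟨m, ?_⟩
  rw [ha, ← hIcard, hn, hm, pow_mul]

end Cfsg.Agent.S3774
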