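import Cfsg.Statements.S3775
-- import your own Cfsg.Agent.* helpers here
import Mathlib

set_option autoImplicit false
set_option linter.style.haveILetI false
open Cfsg

namespace Cfsg.Agent.S3775


open Subgroup

section aux

variable {A : Type*} [CommGroup A]

/-- `B` is stable under every automorphism in `X` -/
def Stab (X : Subgroup (MulAut A)) (B : Subgroup A) : Prop := ∀ x ∈ X, ∀ b ∈ B, x b ∈ B

theorem stab_iff (X : Subgroup (MulAut A)) (B : Subgroup A) :
    (∀ x ∈ X, B.map x.toMonoidHom = B) ↔ Stab X B := by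
  constructor
  · intro h x hx b hb
    have h1 : x b ∈ B.map x.toMonoidHom := Subgroup.mem_map_of_mem _ hb
    rwa [h x hx] at h1
  · intro h x hx
    ext a
    constructor
    · rintro ⟨b, hb, rfl⟩
      exact h x hx b hb
    · intro ha
      exact ⟨x⁻¹ a, h x⁻¹ (inv_mem hx) a ha, by simp⟩

theorem Stab.inf {X : Subgroup (MulAut A)} {B C : Subgroup A} (hB : Stab X B) (hC : Stab X C) :
    Stab X (B ⊓ C) := fun x hx b hb => ⟨hB x hx b hb.1, hC x hx b hb.2⟩

theorem Stab.sup {X : Subgroup (MulAut A)} {B C : Subgroup A} (hB : Stab X B) (hC : Stab X C) :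
    Stab X (B ⊔ C) := by
  intro x hx a ha
  obtain ⟨b, hb, c, hc, rfl⟩ := Subgroup.mem_sup.mp ha
  rw [map_mul]
  exact Subgroup.mem_sup.mpr ⟨_, hB x hx b hb, _, hC x hx c hc, rfl⟩

theorem stab_ker_pow (X : Subgroup (MulAut A)) (n : ℕ) : Stab X (powMonoidHom n : A →* A).ker := by
  intro x _ b hb
  rw [MonoidHom.mem_ker, powMonoidHom_apply] at hb ⊢
  rw [← _root_.map_pow, hb, map_one]

theorem Stab.mapPow {X : Subgroup (MulAut A)} {M : Subgroup A} (hM : Stab X M) (n : ℕ) :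
    Stab X (M.map (powMonoidHom n : A →* A)) := by
  rintro x hx _ ⟨a, ha, rfl⟩
  refine ⟨x a, hM x hx a ha, ?_⟩
  simp only [powMonoidHom_apply, _root_.map_pow]

theorem Stab.comapPow {X : Subgroup (MulAut A)} {U : Subgroup A} (hU : Stab X U) (n : ℕ) :
    Stab X (U.comap (powMonoidHom n : A →* A)) := by
  intro x hx a ha
  rw [Subgroup.mem_comap, powMonoidHom_apply] at ha ⊢
  rw [← _root_.map_pow]
  exact hU x hx _ ha

theorem stab_bot (X : Subgroup (MulAut A)) : Stab X (⊥ : Subgroup A) := by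
  intro x _ b hb
  rw [Subgroup.mem_bot] at hb ⊢
  rw [hb, map_one]

theorem stab_top (X : Subgroup (MulAut A)) : Stab X (⊤ : Subgroup A) := fun _ _ _ _ => Subgroup.mem_top _

theorem card_lt_of_lt'' [Finite A] {H K : Subgroup A} (h : H < K) : Nat.card H < Nat.card K := by
  have h1 : Nat.card H ≤ Nat.card K := Subgroup.card_le_of_le h.le
  exact lt_of_le_of_ne h1 (fun e => h.ne (Subgroup.eq_of_le_of_card_ge h.le e.ge))

/-- abstract complement of an elementary subgroup avoiding the `p`-th powers -/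
theorem exists_abstract_compl [Finite A] {p : ℕ} (hp : p.Prime) (M B : Subgroup A) (hBM : B ≤ M)
    (hdisj : ∀ a ∈ M, a ^ p ∈ B → a ^ p = 1) :
    ∃ C₀ : Subgroup A, C₀ ≤ M ∧ B ⊓ C₀ = ⊥ ∧ B ⊔ C₀ = M := by
  classical
  let S := {C₀ : Subgroup A // C₀ ≤ M ∧ (∀ a ∈ M, a ^ p ∈ C₀) ∧ B ⊓ C₀ = ⊥}
  have hne : Nonempty S := by
    refine ⟨⟨M.map (powMonoidHom p : A →* A), ?_, ?_, ?_⟩⟩
    · rintro _ ⟨a, ha, rfl⟩
      exact pow_mem ha p
    · intro a ha
      exact ⟨a, ha, rfl⟩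
    · rw [eq_bot_iff]
      intro y hy
      obtain ⟨hyB, a, ha, rfl⟩ := Subgroup.mem_inf.mp hy
      rw [Subgroup.mem_bot]
      exact hdisj a ha hyB
  obtain ⟨⟨C₀, hC₀M, hC₀p, hC₀B⟩, hmax⟩ := Finite.exists_max (fun N : S => Nat.card (N.1 : Subgroup A))
  refine ⟨C₀, hC₀M, hC₀B, le_antisymm (sup_le hBM hC₀M) ?_⟩
  intro a ha
  by_contra hna
  set C₁ : Subgroup A := C₀ ⊔ Subgroup.zpowers a with hC₁
  have haC₁ : a ∈ C₁ := (le_sup_right : Subgroup.zpowers a ≤ C₁) (Subgroup.mem_zpowers a)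
  have hlt : C₀ < C₁ := by
    refine lt_of_le_of_ne le_sup_left ?_
    intro e
    apply hna
    rw [← e] at haC₁
    exact (le_sup_right : C₀ ≤ B ⊔ C₀) haC₁
  have hC₁M : C₁ ≤ M := sup_le hC₀M (by rw [Subgroup.zpowers_le]; exact ha)
  have hC₁B : B ⊓ C₁ ≠ ⊥ := by
    intro hbot
    have := hmax ⟨C₁, hC₁M, fun a ha => (le_sup_left : C₀ ≤ C₁) (hC₀p a ha), hbot⟩
    exact absurd (card_lt_of_lt'' hlt) (not_lt.mpr this)
  obtain ⟨w, hw1⟩ := (Subgroup.ne_bot_iff_exists_ne_one).mp hC₁B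
  have hw1' : (w : A) ≠ 1 := fun h => hw1 (Subtype.ext h)
  obtain ⟨hwB, hwC₁⟩ := Subgroup.mem_inf.mp w.2
  obtain ⟨c, hc, z, hz, hcz⟩ := Subgroup.mem_sup.mp hwC₁
  obtain ⟨k, rfl⟩ := Subgroup.mem_zpowers_iff.mp hz
  by_cases hpk : (p : ℤ) ∣ k
  · obtain ⟨k', rfl⟩ := hpk
    have h1 : a ^ ((p : ℤ) * k') ∈ C₀ := by
      rw [zpow_mul, zpow_natCast]
      exact zpow_mem (hC₀p a ha) k'
    have h2 : (w : A) ∈ B ⊓ C₀ := Subgroup.mem_inf.mpr ⟨hwB, by rw [← hcz]; exact mul_mem hc h1⟩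
    rw [hC₀B, Subgroup.mem_bot] at h2
    exact hw1' h2
  · have hcop : IsCoprime k (p : ℤ) := by
      have := (Int.prime_iff_natAbs_prime.mpr (by simpa using hp)).coprime_iff_not_dvd.mpr hpk
      exact this.symm
    obtain ⟨u, v, huv⟩ := hcop
    have h3 : a ^ k ∈ B ⊔ C₀ := by
      have : a ^ k = w * c⁻¹ := by rw [← hcz, mul_comm c, mul_inv_cancel_right]
      rw [this]
      exact mul_mem ((le_sup_left : B ≤ B ⊔ C₀) hwB) ((le_sup_right : C₀ ≤ B ⊔ C₀) (inv_mem hc))
    have h4 : a ^ (p : ℤ) ∈ B ⊔ C₀ := by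
      rw [zpow_natCast]
      exact (le_sup_right : C₀ ≤ B ⊔ C₀) (hC₀p a ha)
    have h5 : a = (a ^ k) ^ u * (a ^ (p : ℤ)) ^ v := by
      rw [← zpow_mul, ← zpow_mul, ← zpow_add, mul_comm k u, mul_comm (p : ℤ) v, huv, zpow_one]
    apply hna
    rw [h5]
    exact mul_mem (zpow_mem h3 u) (zpow_mem h4 v)

/-- the key complement lemma: an invariant elementary subgroup meeting the `p`-th powers
trivially has an invariant complement (coprime action) -/
theorem exists_stab_compl [Finite A] {p : ℕ} (hp : p.Prime) (X : Subgroup (MulAut A))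
    (hX : (Nat.card X).Coprime p) (M B : Subgroup A) (hM : Stab X M) (hB : Stab X B)
    (hBM : B ≤ M) (hBp : ∀ b ∈ B, b ^ p = 1) (hdisj : ∀ a ∈ M, a ^ p ∈ B → a ^ p = 1) :
    ∃ C : Subgroup A, Stab X C ∧ C ≤ M ∧ B ⊓ C = ⊥ ∧ B ⊔ C = M := by
  classical
  obtain ⟨C₀, hC₀M, hC₀B, hsup⟩ := exists_abstract_compl hp M B hBM hdisj
  haveI : Finite X := Nat.finite_of_card_ne_zero (by
    intro h; rw [h] at hX; simp at hX; exact hp.one_lt.ne' hX)
  haveI : Fintype X := Fintype.ofFinite X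
  -- the projection
  have hex : ∀ a : A, ∃ b : A, a ∈ M → (b ∈ B ∧ ∃ c ∈ C₀, a = b * c) := by
    intro a
    by_cases ha : a ∈ M
    · rw [← hsup] at ha
      obtain ⟨b, hb, c, hc, rfl⟩ := Subgroup.mem_sup.mp ha
      exact ⟨b, fun _ => ⟨hb, c, hc, rfl⟩⟩
    · exact ⟨1, fun h => absurd h ha⟩
  choose pr hpr using hex
  have huniq : ∀ b b' c c' : A, b ∈ B → b' ∈ B → c ∈ C₀ → c' ∈ C₀ → b * c = b' * c' → b = b' := by
    intro b b' c c' hb hb' hc hc' h
    have h1 : b'⁻¹ * b = c' * c⁻¹ := by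
      rw [inv_mul_eq_iff_eq_mul, ← mul_assoc, ← h, mul_inv_cancel_right]
    have h2 : b'⁻¹ * b ∈ B ⊓ C₀ :=
      Subgroup.mem_inf.mpr ⟨mul_mem (inv_mem hb') hb, by rw [h1]; exact mul_mem hc' (inv_mem hc)⟩
    rw [hC₀B, Subgroup.mem_bot] at h2
    exact (inv_mul_eq_one.mp h2).symm
  have hprB : ∀ a ∈ M, pr a ∈ B := fun a ha => (hpr a ha).1
  have hprmul : ∀ a ∈ M, ∀ a' ∈ M, pr (a * a') = pr a * pr a' := by
    intro a ha a' ha'
    obtain ⟨h1, c, hc, hac⟩ := hpr a ha
    obtain ⟨h1', c', hc', hac'⟩ := hpr a' ha'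
    obtain ⟨h1'', c'', hc'', hac''⟩ := hpr (a * a') (mul_mem ha ha')
    apply huniq _ _ c'' (c * c') h1'' (mul_mem h1 h1') hc'' (mul_mem hc hc')
    rw [← hac'']
    conv_lhs => rw [hac, hac']
    exact mul_mul_mul_comm _ _ _ _
  have hprB' : ∀ b ∈ B, pr b = b := by
    intro b hb
    obtain ⟨h1, c, hc, hbc⟩ := hpr b (hBM hb)
    exact (huniq b (pr b) 1 c hb h1 (one_mem _) hc (by rw [mul_one]; exact hbc)).symm
  -- the average
  let avg : A → A := fun a => ∏ x : X, (x : MulAut A) (pr ((x : MulAut A)⁻¹ a))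
  have hxinvM : ∀ (x : X) (a : A), a ∈ M → (x : MulAut A)⁻¹ a ∈ M := fun x a ha =>
    hM _ (inv_mem x.2) a ha
  have havgB : ∀ a ∈ M, avg a ∈ B := by
    intro a ha
    apply Subgroup.prod_mem
    intro x _
    exact hB x x.2 _ (hprB _ (hxinvM x a ha))
  have havgmul : ∀ a ∈ M, ∀ a' ∈ M, avg (a * a') = avg a * avg a' := by
    intro a ha a' ha'
    simp only [avg]
    rw [← Finset.prod_mul_distrib]
    apply Finset.prod_congr rfl
    intro x _
    rw [map_mul, hprmul _ (hxinvM x a ha) _ (hxinvM x a' ha'), map_mul]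
  have havgB' : ∀ b ∈ B, avg b = b ^ Nat.card X := by
    intro b hb
    simp only [avg]
    have : ∀ x : X, (x : MulAut A) (pr ((x : MulAut A)⁻¹ b)) = b := by
      intro x
      rw [hprB' _ (hB _ (inv_mem x.2) b hb)]
      simp
    rw [Finset.prod_congr rfl (fun x _ => this x), Finset.prod_const, Finset.card_univ,
      Nat.card_eq_fintype_card]
  have havgeq : ∀ (y : X) (a : A), avg ((y : MulAut A) a) = (y : MulAut A) (avg a) := by
    intro y a
    simp only [avg]
    rw [map_prod]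
    symm
    apply Fintype.prod_equiv (Equiv.mulLeft y)
    intro x
    simp only [Equiv.coe_mulLeft, Subgroup.coe_mul, mul_inv_rev, MulAut.mul_apply]
    simp
  have havg1 : avg 1 = 1 := by
    rw [havgB' 1 (one_mem _), one_pow]
  let C : Subgroup A :=
    { carrier := {a | a ∈ M ∧ avg a = 1}
      one_mem' := ⟨one_mem _, havg1⟩
      mul_mem' := by
        rintro a a' ⟨ha, h1⟩ ⟨ha', h1'⟩
        exact ⟨mul_mem ha ha', by rw [havgmul a ha a' ha', h1, h1', one_mul]⟩
      inv_mem' := by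
        rintro a ⟨ha, h1⟩
        refine ⟨inv_mem ha, ?_⟩
        have := havgmul a⁻¹ (inv_mem ha) a ha
        rw [inv_mul_cancel, havg1, h1, mul_one] at this
        exact this.symm }
  have hCmem : ∀ a, a ∈ C ↔ a ∈ M ∧ avg a = 1 := fun a => Iff.rfl
  refine ⟨C, ?_, fun a ha => ((hCmem a).mp ha).1, ?_, ?_⟩
  · intro y hy a ha
    rw [hCmem] at ha ⊢
    refine ⟨hM y hy a ha.1, ?_⟩
    have := havgeq ⟨y, hy⟩ a
    simp only at this
    rw [this, ha.2, map_one]
  · rw [eq_bot_iff]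
    intro b hb
    obtain ⟨hbB, hbC⟩ := Subgroup.mem_inf.mp hb
    rw [Subgroup.mem_bot]
    have h1 : b ^ Nat.card X = 1 := by rw [← havgB' b hbB]; exact ((hCmem b).mp hbC).2
    have h2 : b ^ p = 1 := hBp b hbB
    have h3 : orderOf b ∣ Nat.gcd (Nat.card X) p :=
      Nat.dvd_gcd (orderOf_dvd_of_pow_eq_one h1) (orderOf_dvd_of_pow_eq_one h2)
    rw [hX, Nat.dvd_one, orderOf_eq_one_iff] at h3
    exact h3
  · apply le_antisymm (sup_le hBM (fun a ha => ((hCmem a).mp ha).1))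
    intro a ha
    obtain ⟨m, -, hm⟩ := Nat.exists_mul_mod_eq_one_of_coprime hX hp.one_lt
    set t := avg a with ht
    have htB : t ∈ B := havgB a ha
    set b := t ^ m with hb
    have hbB : b ∈ B := pow_mem htB m
    have hbX : b ^ Nat.card X = t := by
      rw [hb, ← pow_mul, mul_comm, pow_eq_pow_mod _ (hBp t htB), hm, pow_one]
    have h1 : a * b⁻¹ ∈ C := by
      rw [hCmem]
      refine ⟨mul_mem ha (inv_mem (hBM hbB)), ?_⟩
      rw [havgmul a ha b⁻¹ (inv_mem (hBM hbB))]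
      have h2 : avg b⁻¹ = (avg b)⁻¹ := by
        have := havgmul b⁻¹ (inv_mem (hBM hbB)) b (hBM hbB)
        rw [inv_mul_cancel, havg1] at this
        exact eq_inv_of_mul_eq_one_left this.symm
      rw [h2, havgB' b hbB, hbX, mul_inv_cancel]
    have h3 : a = b * (a * b⁻¹) := by rw [mul_comm a, mul_inv_cancel_left]
    rw [h3]
    exact mul_mem ((le_sup_left : B ≤ B ⊔ C) hbB) ((le_sup_right : C ≤ B ⊔ C) h1)

/-- no nontrivial invariant direct decomposition of `M` -/
def Indec (X : Subgroup (MulAut A)) (M : Subgroup A) : Prop :=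
  ∀ B C : Subgroup A, Stab X B → Stab X C → B ⊓ C = ⊥ → B ⊔ C = M → B = ⊥ ∨ C = ⊥

theorem omega_irreducible [Finite A] {p : ℕ} (hp : p.Prime) (X : Subgroup (MulAut A))
    (hX : (Nat.card X).Coprime p) :
    ∀ n : ℕ, ∀ M : Subgroup A, Nat.card M = n → Stab X M → Indec X M →
      ∀ B : Subgroup A, Stab X B → B ≤ M → (∀ b ∈ B, b ^ p = 1) →
        B = ⊥ ∨ ∀ a ∈ M, a ^ p = 1 → a ∈ B := by
  intro n
  induction n using Nat.strong_induction_on with
  | _ n ih =>
  intro M hMn hM hind B hB hBM hBp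
  by_cases hBbot : B = ⊥
  · exact Or.inl hBbot
  right
  set Om : Subgroup A := M ⊓ (powMonoidHom p : A →* A).ker with hOm
  have hOmmem : ∀ a, a ∈ Om ↔ a ∈ M ∧ a ^ p = 1 := by
    intro a; rw [hOm, Subgroup.mem_inf, MonoidHom.mem_ker, powMonoidHom_apply]
  have hOmS : Stab X Om := hM.inf (stab_ker_pow X p)
  set N : Subgroup A := M.map (powMonoidHom p : A →* A) with hN
  have hNmem : ∀ a ∈ M, a ^ p ∈ N := fun a ha => ⟨a, ha, rfl⟩
  have hNS : Stab X N := hM.mapPow p
  have hNM : N ≤ M := by rintro _ ⟨a, ha, rfl⟩; exact pow_mem ha p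
  have hBOm : B ≤ Om := fun b hb => (hOmmem b).mpr ⟨hBM hb, hBp b hb⟩
  by_cases hcase : Om ≤ N
  · -- the socle lies in the `p`-th powers
    have hOmne : Om ≠ ⊥ := by
      intro h
      apply hBbot
      rw [h] at hBOm
      exact le_bot_iff.mp hBOm
    have hNlt : N < M := by
      refine lt_of_le_of_ne hNM ?_
      intro hNMeq
      obtain ⟨w, hw1⟩ := (Subgroup.ne_bot_iff_exists_ne_one).mp hOmne
      let f : M → M := fun a => ⟨(a : A) ^ p, pow_mem a.2 p⟩
      have hf : Function.Surjective f := by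
        rintro ⟨b, hb⟩
        have hb' : b ∈ N := by rw [hNMeq]; exact hb
        obtain ⟨a, ha, hab⟩ := hb'
        exact ⟨⟨a, ha⟩, Subtype.ext (by simpa using hab)⟩
      have hinj := Finite.injective_iff_surjective.mpr hf
      have hwM := (hOmmem w).mp w.2
      have h1 : (⟨w, hwM.1⟩ : M) = 1 := hinj (Subtype.ext (by simp [f, hwM.2]))
      apply hw1
      apply Subtype.ext
      simpa using congrArg Subtype.val h1
    have hNcard : Nat.card N < n := by rw [← hMn]; exact card_lt_of_lt'' hNlt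
    by_cases hNind : Indec X N
    · rcases ih _ hNcard N rfl hNS hNind B hB (hBOm.trans hcase) hBp with h | h
      · exact absurd h hBbot
      · intro a ha hap
        exact h a (hcase ((hOmmem a).mpr ⟨ha, hap⟩)) hap
    · exfalso
      unfold Indec at hNind
      push Not at hNind
      obtain ⟨U, V, hUS, hVS, hUV, hUVsup, hUne, hVne⟩ := hNind
      have hUN : U ≤ N := by rw [← hUVsup]; exact le_sup_left
      have hVN : V ≤ N := by rw [← hUVsup]; exact le_sup_right
      have hUVdisj : ∀ a, a ∈ U → a ∈ V → a = 1 := by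
        intro a haU haV
        have : a ∈ U ⊓ V := Subgroup.mem_inf.mpr ⟨haU, haV⟩
        rwa [hUV, Subgroup.mem_bot] at this
      set Uh : Subgroup A := M ⊓ U.comap (powMonoidHom p : A →* A) with hUh
      set Vh : Subgroup A := M ⊓ V.comap (powMonoidHom p : A →* A) with hVh
      have hUhmem : ∀ a, a ∈ Uh ↔ a ∈ M ∧ a ^ p ∈ U := by
        intro a; rw [hUh, Subgroup.mem_inf, Subgroup.mem_comap, powMonoidHom_apply]
      have hVhmem : ∀ a, a ∈ Vh ↔ a ∈ M ∧ a ^ p ∈ V := by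
        intro a; rw [hVh, Subgroup.mem_inf, Subgroup.mem_comap, powMonoidHom_apply]
      have hUhS : Stab X Uh := hM.inf (hUS.comapPow p)
      have hVhS : Stab X Vh := hM.inf (hVS.comapPow p)
      set OmU : Subgroup A := U ⊓ (powMonoidHom p : A →* A).ker with hOmU
      set OmV : Subgroup A := V ⊓ (powMonoidHom p : A →* A).ker with hOmV
      have hOmUmem : ∀ a, a ∈ OmU ↔ a ∈ U ∧ a ^ p = 1 := by
        intro a; rw [hOmU, Subgroup.mem_inf, MonoidHom.mem_ker, powMonoidHom_apply]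
      have hOmVmem : ∀ a, a ∈ OmV ↔ a ∈ V ∧ a ^ p = 1 := by
        intro a; rw [hOmV, Subgroup.mem_inf, MonoidHom.mem_ker, powMonoidHom_apply]
      have hOmUS : Stab X OmU := hUS.inf (stab_ker_pow X p)
      have hOmVS : Stab X OmV := hVS.inf (stab_ker_pow X p)
      obtain ⟨P₁, hP₁S, hP₁U, hP₁d, hP₁sup⟩ := exists_stab_compl hp X hX Uh OmV hUhS hOmVS
        (by
          intro a ha
          obtain ⟨haV, hap⟩ := (hOmVmem a).mp ha
          rw [hUhmem]
          exact ⟨hNM (hVN haV), by rw [hap]; exact one_mem _⟩)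
        (fun b hb => ((hOmVmem b).mp hb).2)
        (by
          intro a ha haV
          exact hUVdisj _ ((hUhmem a).mp ha).2 ((hOmVmem _).mp haV).1)
      obtain ⟨P₂, hP₂S, hP₂V, hP₂d, hP₂sup⟩ := exists_stab_compl hp X hX Vh OmU hVhS hOmUS
        (by
          intro a ha
          obtain ⟨haU, hap⟩ := (hOmUmem a).mp ha
          rw [hVhmem]
          exact ⟨hNM (hUN haU), by rw [hap]; exact one_mem _⟩)
        (fun b hb => ((hOmUmem b).mp hb).2)
        (by
          intro a ha haU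
          exact hUVdisj _ ((hOmUmem _).mp haU).1 ((hVhmem a).mp ha).2)
      have hUP₁ : U ≤ P₁ := by
        intro u hu
        obtain ⟨a, ha, hau⟩ := hUN hu
        rw [powMonoidHom_apply] at hau
        have haUh : a ∈ Uh := (hUhmem a).mpr ⟨ha, by rw [hau]; exact hu⟩
        rw [← hP₁sup] at haUh
        obtain ⟨z, hz, q, hq, rfl⟩ := Subgroup.mem_sup.mp haUh
        rw [← hau, mul_pow, ((hOmVmem z).mp hz).2, one_mul]
        exact pow_mem hq p
      have hVP₂ : V ≤ P₂ := by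
        intro v hv
        obtain ⟨a, ha, hav⟩ := hVN hv
        rw [powMonoidHom_apply] at hav
        have haVh : a ∈ Vh := (hVhmem a).mpr ⟨ha, by rw [hav]; exact hv⟩
        rw [← hP₂sup] at haVh
        obtain ⟨z, hz, q, hq, rfl⟩ := Subgroup.mem_sup.mp haVh
        rw [← hav, mul_pow, ((hOmUmem z).mp hz).2, one_mul]
        exact pow_mem hq p
      have hP₁ne : P₁ ≠ ⊥ := by
        rintro rfl
        exact hUne (le_bot_iff.mp hUP₁)
      have hP₂ne : P₂ ≠ ⊥ := by
        rintro rfl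
        exact hVne (le_bot_iff.mp hVP₂)
      have hinf : P₁ ⊓ P₂ = ⊥ := by
        rw [eq_bot_iff]
        intro a ha
        obtain ⟨ha1, ha2⟩ := Subgroup.mem_inf.mp ha
        rw [Subgroup.mem_bot]
        have haUh := (hUhmem a).mp (hP₁U ha1)
        have haVh := (hVhmem a).mp (hP₂V ha2)
        have hap : a ^ p = 1 := hUVdisj _ haUh.2 haVh.2
        have haN : a ∈ N := hcase ((hOmmem a).mpr ⟨haUh.1, hap⟩)
        rw [← hUVsup] at haN
        obtain ⟨u, hu, v, hv, rfl⟩ := Subgroup.mem_sup.mp haN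
        have hup : u ^ p = (v ^ p)⁻¹ := by
          rw [mul_pow] at hap
          exact eq_inv_of_mul_eq_one_left hap
        have hup1 : u ^ p = 1 :=
          hUVdisj _ (pow_mem hu p) (by rw [hup]; exact inv_mem (pow_mem hv p))
        have hvp1 : v ^ p = 1 := by
          rw [hup1] at hup
          exact inv_eq_one.mp hup.symm
        have hv1 : v = 1 := by
          have h1 : v ∈ P₁ := by
            have : v = u⁻¹ * (u * v) := by rw [inv_mul_cancel_left]
            rw [this]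
            exact mul_mem (inv_mem (hUP₁ hu)) ha1
          have h2 : v ∈ OmV ⊓ P₁ := Subgroup.mem_inf.mpr ⟨(hOmVmem v).mpr ⟨hv, hvp1⟩, h1⟩
          rwa [hP₁d, Subgroup.mem_bot] at h2
        have hu1 : u = 1 := by
          have h1 : u ∈ P₂ := by
            have : u = (u * v) * v⁻¹ := by rw [mul_inv_cancel_right]
            rw [this]
            exact mul_mem ha2 (inv_mem (hVP₂ hv))
          have h2 : u ∈ OmU ⊓ P₂ := Subgroup.mem_inf.mpr ⟨(hOmUmem u).mpr ⟨hu, hup1⟩, h1⟩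
          rwa [hP₂d, Subgroup.mem_bot] at h2
        rw [hu1, hv1, one_mul]
      have hsup : P₁ ⊔ P₂ = M := by
        apply le_antisymm
        · exact sup_le (hP₁U.trans inf_le_left) (hP₂V.trans inf_le_left)
        · have hNle : N ≤ P₁ ⊔ P₂ := by
            rw [← hUVsup]
            exact sup_le_sup hUP₁ hVP₂
          have hUhle : Uh ≤ P₁ ⊔ P₂ := by
            rw [← hP₁sup]
            refine sup_le ?_ le_sup_left
            exact (inf_le_left.trans hVP₂).trans le_sup_right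
          have hVhle : Vh ≤ P₁ ⊔ P₂ := by
            rw [← hP₂sup]
            refine sup_le ?_ le_sup_right
            exact (inf_le_left.trans hUP₁).trans le_sup_left
          intro a ha
          have hapN : a ^ p ∈ N := hNmem a ha
          rw [← hUVsup] at hapN
          obtain ⟨u, hu, v, hv, huv⟩ := Subgroup.mem_sup.mp hapN
          obtain ⟨a₁, ha₁, ha₁u⟩ := hUN hu
          obtain ⟨a₂, ha₂, ha₂v⟩ := hVN hv
          rw [powMonoidHom_apply] at ha₁u ha₂v
          have h1 : a₁ ∈ Uh := (hUhmem a₁).mpr ⟨ha₁, by rw [ha₁u]; exact hu⟩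
          have h2 : a₂ ∈ Vh := (hVhmem a₂).mpr ⟨ha₂, by rw [ha₂v]; exact hv⟩
          have h3 : a * (a₁ * a₂)⁻¹ ∈ Om := by
            rw [hOmmem]
            refine ⟨mul_mem ha (inv_mem (mul_mem ha₁ ha₂)), ?_⟩
            rw [mul_pow, inv_pow, mul_pow, ha₁u, ha₂v, huv, mul_inv_cancel]
          have h4 : a = (a * (a₁ * a₂)⁻¹) * (a₁ * a₂) := by rw [inv_mul_cancel_right]
          rw [h4]
          exact mul_mem (hNle (hcase h3)) (mul_mem (hUhle h1) (hVhle h2))
      rcases hind P₁ P₂ hP₁S hP₂S hinf hsup with h | h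
      · exact hP₁ne h
      · exact hP₂ne h
  · -- some element of order `p` is not a `p`-th power
    set D : Subgroup A := Om ⊓ N with hD
    have hDS : Stab X D := hOmS.inf hNS
    obtain ⟨E, hES, hEOm, hDE, hDEsup⟩ := exists_stab_compl hp X hX Om D hOmS hDS inf_le_left
      (fun b hb => ((hOmmem b).mp (Subgroup.mem_inf.mp hb).1).2)
      (fun a ha _ => ((hOmmem a).mp ha).2)
    have hEne : E ≠ ⊥ := by
      rintro rfl
      rw [sup_bot_eq] at hDEsup
      apply hcase
      rw [← hDEsup]; exact inf_le_right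
    have hEp : ∀ b ∈ E, b ^ p = 1 := fun b hb => ((hOmmem b).mp (hEOm hb)).2
    obtain ⟨C, hCS, hCM, hEC, hECsup⟩ := exists_stab_compl hp X hX M E hM hES
      (hEOm.trans inf_le_left) hEp
      (by
        intro a ha haE
        have h1 : a ^ p ∈ D ⊓ E :=
          Subgroup.mem_inf.mpr ⟨Subgroup.mem_inf.mpr ⟨hEOm haE, hNmem a ha⟩, haE⟩
        rwa [hDE, Subgroup.mem_bot] at h1)
    rcases hind E C hES hCS hEC hECsup with h | h
    · exact absurd h hEne
    · rw [h, sup_bot_eq] at hECsup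
      have hMp : ∀ a ∈ M, a ^ p = 1 := fun a ha => hEp a (by rw [hECsup]; exact ha)
      obtain ⟨C', hC'S, hC'M, hBC', hBC'sup⟩ := exists_stab_compl hp X hX M B hM hB hBM hBp
        (fun a ha _ => hMp a ha)
      rcases hind B C' hB hC'S hBC' hBC'sup with h' | h'
      · exact absurd h' hBbot
      · rw [h', sup_bot_eq] at hBC'sup
        intro a ha _
        rw [hBC'sup]; exact ha

end aux

/-- Let A be a finite abelian p-group and X a group of automorphisms of A of order prime to p. Call a subgroup of A invariant when every element of X maps it onto itself. Then the following are equivalent: (i) A is not the direct product of two nontrivial invariant subgroups; (ii) every invariant subgroup of A is one of the subgroups Ω_i(A) = {a : a^(p^i) = 1}; (iii) the subgroup Ω₁(A) of elements of order dividing p has no invariant subgroups other than 1 and itself. -/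
theorem result {A : Type*} [CommGroup A] [Finite A] {p : ℕ} [Fact p.Prime] (hA : IsPGroup p A) (X : Subgroup (MulAut A)) (hX : (Nat.card X).Coprime p) : ((¬ ∃ B C : Subgroup A, B ≠ ⊥ ∧ C ≠ ⊥ ∧ (∀ x ∈ X, B.map x.toMonoidHom = B) ∧ (∀ x ∈ X, C.map x.toMonoidHom = C) ∧ B ⊓ C = ⊥ ∧ B ⊔ C = ⊤) ↔ (∀ B : Subgroup A, (∀ x ∈ X, B.map x.toMonoidHom = B) → ∃ i : ℕ, ∀ a : A, a ∈ B ↔ a ^ p ^ i = 1)) ∧ ((∀ B : Subgroup A, (∀ x ∈ X, B.map x.toMonoidHom = B) → ∃ i : ℕ, ∀ a : A, a ∈ B ↔ a ^ p ^ i = 1) ↔ (∀ B : Subgroup A, (∀ x ∈ X, B.map x.toMonoidHom = B) → (∀ b ∈ B, b ^ p = 1) → B = ⊥ ∨ ∀ a : A, a ∈ B ↔ a ^ p = 1)) := by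
  classical
  have hp : p.Prime := Fact.out
  have hpow : ∀ (a : A) (i j : ℕ), i ≤ j → a ^ p ^ i = 1 → a ^ p ^ j = 1 := by
    intro a i j hij h
    rw [← orderOf_dvd_iff_pow_eq_one] at h ⊢
    exact h.trans (pow_dvd_pow p hij)
  -- II → III
  have h23 : (∀ B : Subgroup A, (∀ x ∈ X, B.map x.toMonoidHom = B) →
      ∃ i : ℕ, ∀ a : A, a ∈ B ↔ a ^ p ^ i = 1) →
      (∀ B : Subgroup A, (∀ x ∈ X, B.map x.toMonoidHom = B) → (∀ b ∈ B, b ^ p = 1) →
        B = ⊥ ∨ ∀ a : A, a ∈ B ↔ a ^ p = 1) := by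
    intro h2 B hB hBp
    obtain ⟨i, hi⟩ := h2 B hB
    rcases i with _ | i
    · left
      rw [eq_bot_iff]
      intro a ha
      have := (hi a).mp ha
      rw [pow_zero, pow_one] at this
      rw [Subgroup.mem_bot]; exact this
    · right
      intro a
      refine ⟨hBp a, fun hap => (hi a).mpr ?_⟩
      exact hpow a 1 (i + 1) (by omega) (by rwa [pow_one])
  -- III → II
  have h32 : (∀ B : Subgroup A, (∀ x ∈ X, B.map x.toMonoidHom = B) → (∀ b ∈ B, b ^ p = 1) →
        B = ⊥ ∨ ∀ a : A, a ∈ B ↔ a ^ p = 1) →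
      (∀ B : Subgroup A, (∀ x ∈ X, B.map x.toMonoidHom = B) →
      ∃ i : ℕ, ∀ a : A, a ∈ B ↔ a ^ p ^ i = 1) := by
    intro h3
    have key : ∀ i : ℕ, ∀ B : Subgroup A, Stab X B → (∀ b ∈ B, b ^ p ^ i = 1) →
        ∃ j : ℕ, ∀ a : A, a ∈ B ↔ a ^ p ^ j = 1 := by
      intro i
      induction i with
      | zero =>
        intro B _ hB0
        refine ⟨0, fun a => ⟨hB0 a, fun h => ?_⟩⟩
        rw [pow_zero, pow_one] at h
        rw [h]; exact one_mem _
      | succ i ih =>
        intro B hBS hBi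
        by_cases hall : ∀ b ∈ B, b ^ p ^ i = 1
        · exact ih B hBS hall
        push Not at hall
        obtain ⟨b₀, hb₀, hb₀1⟩ := hall
        set Bi : Subgroup A := B.map (powMonoidHom (p ^ i) : A →* A) with hBidef
        have hBiS : Stab X Bi := hBS.mapPow (p ^ i)
        have hBip : ∀ b ∈ Bi, b ^ p = 1 := by
          rintro _ ⟨b, hb, rfl⟩
          rw [powMonoidHom_apply, ← pow_mul, ← pow_succ]
          exact hBi b hb
        have hBi3 := h3 Bi ((stab_iff X Bi).mpr hBiS) hBip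
        have hBine : Bi ≠ ⊥ := by
          intro h
          have : b₀ ^ p ^ i ∈ Bi := ⟨b₀, hb₀, rfl⟩
          rw [h, Subgroup.mem_bot] at this
          exact hb₀1 this
        have hBimem : ∀ a : A, a ∈ Bi ↔ a ^ p = 1 := by
          rcases hBi3 with h | h
          · exact absurd h hBine
          · exact h
        set B' : Subgroup A := B ⊓ (powMonoidHom (p ^ i) : A →* A).ker with hB'def
        have hB'mem : ∀ a, a ∈ B' ↔ a ∈ B ∧ a ^ p ^ i = 1 := by
          intro a; rw [hB'def, Subgroup.mem_inf, MonoidHom.mem_ker, powMonoidHom_apply]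
        have hB'S : Stab X B' := hBS.inf (stab_ker_pow X (p ^ i))
        obtain ⟨j, hj⟩ := ih B' hB'S (fun b hb => ((hB'mem b).mp hb).2)
        have hij : i ≤ j := by
          by_contra hlt
          push Not at hlt
          have h1 : b₀ ^ p ∈ B' := by
            rw [hB'mem]
            refine ⟨pow_mem hb₀ p, ?_⟩
            rw [← pow_mul, ← pow_succ']
            exact hBi b₀ hb₀
          have h2 := (hj _).mp h1
          rw [← pow_mul, ← pow_succ'] at h2
          exact hb₀1 (hpow b₀ (j + 1) i (by omega) h2)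
        refine ⟨i + 1, fun a => ⟨hBi a, fun ha => ?_⟩⟩
        have h1 : a ^ p ^ i ∈ Bi := by
          rw [hBimem, ← pow_mul, ← pow_succ]
          exact ha
        obtain ⟨b, hb, hba⟩ := h1
        rw [powMonoidHom_apply] at hba
        have h2 : a * b⁻¹ ∈ B' := by
          rw [hj]
          apply hpow _ i j hij
          rw [mul_pow, inv_pow, hba, mul_inv_cancel]
        have h3' : a = (a * b⁻¹) * b := by rw [inv_mul_cancel_right]
        rw [h3']
        exact mul_mem ((hB'mem _).mp h2).1 hb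
    intro B hB
    obtain ⟨e, he⟩ := IsPGroup.iff_card.mp hA
    refine key e B ((stab_iff X B).mp hB) (fun b _ => ?_)
    rw [← he]
    exact pow_card_eq_one'
  -- II → I
  have h21 : (∀ B : Subgroup A, (∀ x ∈ X, B.map x.toMonoidHom = B) →
      ∃ i : ℕ, ∀ a : A, a ∈ B ↔ a ^ p ^ i = 1) →
      ¬ ∃ B C : Subgroup A, B ≠ ⊥ ∧ C ≠ ⊥ ∧ (∀ x ∈ X, B.map x.toMonoidHom = B) ∧
        (∀ x ∈ X, C.map x.toMonoidHom = C) ∧ B ⊓ C = ⊥ ∧ B ⊔ C = ⊤ := by
    rintro h2 ⟨B, C, hBne, hCne, hBi, hCi, hinf, -⟩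
    obtain ⟨i, hi⟩ := h2 B hBi
    obtain ⟨j, hj⟩ := h2 C hCi
    rcases le_total i j with hij | hij
    · apply hBne
      have hBC : B ≤ C := fun a ha => (hj a).mpr (hpow a i j hij ((hi a).mp ha))
      rw [← hinf]
      exact (inf_eq_left.mpr hBC).symm
    · apply hCne
      have hCB : C ≤ B := fun a ha => (hi a).mpr (hpow a j i hij ((hj a).mp ha))
      rw [← hinf]
      exact (inf_eq_right.mpr hCB).symm
  -- I → III
  have h13 : (¬ ∃ B C : Subgroup A, B ≠ ⊥ ∧ C ≠ ⊥ ∧ (∀ x ∈ X, B.map x.toMonoidHom = B) ∧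
        (∀ x ∈ X, C.map x.toMonoidHom = C) ∧ B ⊓ C = ⊥ ∧ B ⊔ C = ⊤) →
      (∀ B : Subgroup A, (∀ x ∈ X, B.map x.toMonoidHom = B) → (∀ b ∈ B, b ^ p = 1) →
        B = ⊥ ∨ ∀ a : A, a ∈ B ↔ a ^ p = 1) := by
    intro h1 B hB hBp
    have hind : Indec X (⊤ : Subgroup A) := by
      intro B C hBS hCS hinf hsup
      by_contra hcon
      push Not at hcon
      exact h1 ⟨B, C, hcon.1, hcon.2, (stab_iff X B).mpr hBS, (stab_iff X C).mpr hCS, hinf, hsup⟩
    rcases omega_irreducible hp X hX _ ⊤ rfl (stab_top X) hind B ((stab_iff X B).mp hB) le_top hBp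
      with h | h
    · exact Or.inl h
    · exact Or.inr (fun a => ⟨hBp a, fun hap => h a (Subgroup.mem_top a) hap⟩)
  exact ⟨⟨fun h => h32 (h13 h), h21⟩, ⟨h23, h32⟩⟩

end Cfsg.Agent.S3775
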