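import Cfsg.Statements.S3778
import Mathlib

set_option autoImplicit false
open Cfsg

namespace Cfsg.Agent.S3778

open scoped commutatorElement Pointwise

section general

variable {G : Type*} [Group G]

/-- the lower central series of `G` -/
abbrev L (G : Type*) [Group G] (j : ℕ) : Subgroup G := (⊤ : Subgroup G).lowerCentralSeries j

theorem L_succ (j : ℕ) : L G (j + 1) = ⁅L G j, (⊤ : Subgroup G)⁆ := rfl

theorem L_anti (j : ℕ) : L G (j + 1) ≤ L G j :=
  (Subgroup.lowerCentralSeries_antitone (⊤ : Subgroup G)) (Nat.le_succ j)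

/-- two-step centralizer -/
def T (G : Type*) [Group G] (j : ℕ) : Subgroup G :=
  (Subgroup.centralizer
    (((L G j).map (QuotientGroup.mk' (L G (j + 2))) : Subgroup (G ⧸ L G (j + 2))) :
      Set (G ⧸ L G (j + 2)))).comap (QuotientGroup.mk' (L G (j + 2)))

theorem mem_T (j : ℕ) (x : G) :
    x ∈ T G j ↔ ∀ u ∈ L G j, (u * x)⁻¹ * (x * u) ∈ L G (j + 2) := by
  unfold T
  rw [Subgroup.mem_comap, Subgroup.mem_centralizer_iff]
  constructor
  · intro h u hu
    have := h (QuotientGroup.mk' (L G (j + 2)) u) (Subgroup.mem_map_of_mem _ hu)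
    rw [← map_mul, ← map_mul] at this
    exact QuotientGroup.eq.mp this
  · rintro h _ ⟨u, hu, rfl⟩
    rw [← map_mul, ← map_mul]
    exact QuotientGroup.eq.mpr (h u hu)

theorem T_ne_top (c : ℕ) (hc : L G c = ⊥) (hmin : ∀ j < c, L G j ≠ ⊥) (j : ℕ) (hj : j + 1 < c) :
    T G j ≠ ⊤ := by
  intro h
  have h1 : L G (j + 1) ≤ L G (j + 2) := by
    rw [L_succ j, Subgroup.commutator_le]
    intro u hu x _
    have hx : x⁻¹ ∈ T G j := by rw [h]; trivial
    have := (mem_T j x⁻¹).mp hx u⁻¹ ((L G j).inv_mem hu)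
    have e : (u⁻¹ * x⁻¹)⁻¹ * (x⁻¹ * u⁻¹) = ⁅u, x⁆⁻¹ := by
      rw [commutatorElement_def]; group
    rw [e] at this
    exact (Subgroup.inv_mem_iff _).mp this
  have h2 : ∀ k, L G (j + 1) ≤ L G (j + 1 + k) ∧ L G (j + 1 + k) ≤ L G (j + 1 + k + 1) := by
    intro k
    induction k with
    | zero => exact ⟨le_rfl, h1⟩
    | succ k ih =>
      refine ⟨ih.1.trans ih.2, ?_⟩
      have : L G (j + 1 + k + 1) ≤ L G (j + 1 + k + 1 + 1) := by
        rw [L_succ (j + 1 + k), L_succ (j + 1 + k + 1)]
        exact Subgroup.commutator_mono ih.2 le_rfl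
      exact this
  have h3 : L G (j + 1 + c) ≤ L G c :=
    (Subgroup.lowerCentralSeries_antitone (⊤ : Subgroup G)) (by omega)
  have h4 : L G (j + 1) ≤ ⊥ := by
    rw [← hc]; exact (h2 c).1.trans h3
  exact hmin (j + 1) hj (le_bot_iff.mp h4)

theorem step (j : ℕ) (x : G) (hx : x ∉ T G j) :
    ¬ (L G j ≤ Subgroup.centralizer ({x} : Set G) ⊔ L G (j + 1)) := by
  intro hle
  apply hx
  rw [mem_T]
  intro u hu
  have hu' : u ∈ ((Subgroup.centralizer ({x} : Set G) ⊔ L G (j + 1) : Subgroup G) : Set G) :=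
    hle hu
  rw [Subgroup.mul_normal] at hu'
  obtain ⟨d, hd, v, hv, rfl⟩ := Set.mem_mul.mp hu'
  have hd' : x * d = d * x := by
    have := Subgroup.mem_centralizer_iff.mp hd x (Set.mem_singleton x)
    exact this
  have e : (d * v * x)⁻¹ * (x * (d * v)) = ⁅v⁻¹, x⁻¹⁆⁻¹ := by
    rw [commutatorElement_def]
    have : d⁻¹ * x * d = x := by rw [mul_assoc, hd', ← mul_assoc, inv_mul_cancel, one_mul]
    calc (d * v * x)⁻¹ * (x * (d * v)) = x⁻¹ * v⁻¹ * (d⁻¹ * x * d) * v := by group
      _ = x⁻¹ * v⁻¹ * x * v := by rw [this]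
      _ = (v⁻¹ * x⁻¹ * v⁻¹⁻¹ * x⁻¹⁻¹)⁻¹ := by group
  rw [e]
  apply Subgroup.inv_mem
  have : L G (j + 2) = ⁅L G (j + 1), (⊤ : Subgroup G)⁆ := rfl
  rw [this]
  exact Subgroup.commutator_mem_commutator ((L G (j + 1)).inv_mem hv) (Subgroup.mem_top _)

end general

section pgroup

variable {G : Type*} [Group G] [Finite G] {p : ℕ} [Fact p.Prime]

theorem p_mul_card_le (hG : IsPGroup p G) {A B : Subgroup G} (h : A ≤ B) (hne : A ≠ B) :
    p * Nat.card A ≤ Nat.card B := by
  have hp : p.Prime := Fact.out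
  obtain ⟨m, hm⟩ := Subgroup.card_dvd_of_le h
  have hm1 : m ≠ 1 := by
    rintro rfl
    rw [mul_one] at hm
    exact hne (Subgroup.eq_of_le_of_card_ge h (le_of_eq hm))
  obtain ⟨n, hn⟩ := (hG.to_subgroup B).exists_card_eq
  have hmd : m ∣ p ^ n := by rw [← hn, hm]; exact dvd_mul_left _ _
  obtain ⟨i, _, rfl⟩ := (Nat.dvd_prime_pow hp).mp hmd
  have hi : i ≠ 0 := by
    rintro rfl
    exact hm1 (pow_zero p)
  have hpm : p ≤ p ^ i := by
    calc p = p ^ 1 := (pow_one p).symm
      _ ≤ p ^ i := Nat.pow_le_pow_right hp.pos (Nat.one_le_iff_ne_zero.mpr hi)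
  rw [hm, mul_comm (Nat.card A)]
  exact Nat.mul_le_mul_right _ hpm

open Classical in
theorem chain_card (hG : IsPGroup p G) (H : ℕ → Subgroup G) (hanti : ∀ k, H (k + 1) ≤ H k)
    (k : ℕ) :
    p ^ ((Finset.range k).filter (fun i => H (i + 1) ≠ H i)).card * Nat.card (H k)
      ≤ Nat.card (H 0) := by
  induction k with
  | zero => simp
  | succ k ih =>
    rw [Finset.range_add_one, Finset.filter_insert]
    by_cases hk : H (k + 1) ≠ H k
    · rw [if_pos hk, Finset.card_insert_of_notMem (by simp), pow_succ, mul_assoc]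
      calc p ^ ((Finset.range k).filter (fun i => H (i + 1) ≠ H i)).card *
            (p * Nat.card (H (k + 1)))
          ≤ p ^ ((Finset.range k).filter (fun i => H (i + 1) ≠ H i)).card * Nat.card (H k) :=
            Nat.mul_le_mul_left _ (p_mul_card_le hG (hanti k) hk)
        _ ≤ _ := ih
    · rw [if_neg hk]
      calc p ^ ((Finset.range k).filter (fun i => H (i + 1) ≠ H i)).card * Nat.card (H (k + 1))
          ≤ p ^ ((Finset.range k).filter (fun i => H (i + 1) ≠ H i)).card * Nat.card (H k) :=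
            Nat.mul_le_mul_left _ (Subgroup.card_le_of_le (hanti k))
        _ ≤ _ := ih

end pgroup

/-- If G is a finite p-group in which every conjugacy class has at most p^b elements (every element has centralizer of index at most p^b), then G is abelian when b = 0, and when b ≥ 1 its nilpotency class c satisfies (c − 1)(p − 1) < bp, that is c < bp/(p − 1) + 1, and hence c ≤ 2b. -/
theorem result {G : Type*} [Group G] [Finite G] {p : ℕ} [Fact p.Prime] (hG : IsPGroup p G) (b : ℕ) (hb : ∀ x : G, (Subgroup.centralizer ({x} : Set G)).index ≤ p ^ b) : ∃ c : ℕ, (⊤ : Subgroup G).lowerCentralSeries c = ⊥ ∧ (b ≠ 0 → (c - 1) * (p - 1) < b * p ∧ c ≤ 2 * b) ∧ (b = 0 → c ≤ 1) := by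
  classical
  have hp : p.Prime := Fact.out
  haveI : Fintype G := Fintype.ofFinite G
  have hnil : Group.IsNilpotent G := hG.isNilpotent
  have hex : ∃ n, L G n = ⊥ := Subgroup.nilpotent_iff_lowerCentralSeries.mp hnil
  set c := Nat.find hex with hcdef
  have hc : L G c = ⊥ := Nat.find_spec hex
  have hmin : ∀ j < c, L G j ≠ ⊥ := fun j hj => Nat.find_min hex hj
  -- the counting function
  set n : G → ℕ := fun x => ((Finset.range (c - 1)).filter (fun j => x ∉ T G j)).card with hn
  -- n x ≤ b
  have hnb : ∀ x, n x ≤ b := by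
    intro x
    set C := Subgroup.centralizer ({x} : Set G) with hC
    have hch := chain_card hG (fun k => C ⊔ L G k) (fun k => sup_le_sup_left (L_anti k) C) c
    beta_reduce at hch
    have h0 : C ⊔ L G 0 = ⊤ := by
      have : L G 0 = ⊤ := rfl
      rw [this, sup_top_eq]
    have hcc : C ⊔ L G c = C := by rw [hc, sup_bot_eq]
    rw [h0, hcc, Subgroup.card_top] at hch
    have hsub : n x ≤ ((Finset.range c).filter
        (fun i => C ⊔ L G (i + 1) ≠ C ⊔ L G i)).card := by
      apply Finset.card_le_card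
      intro j hj
      rw [Finset.mem_filter, Finset.mem_range] at hj ⊢
      refine ⟨by omega, ?_⟩
      intro heq
      apply step j x hj.2
      rw [heq]
      exact le_sup_right
    have hidx : Nat.card C * C.index = Nat.card G := C.card_mul_index
    have hCpos : 0 < Nat.card C := Nat.card_pos
    have h1 : p ^ ((Finset.range c).filter
        (fun i => C ⊔ L G (i + 1) ≠ C ⊔ L G i)).card ≤ C.index := by
      rw [← hidx, mul_comm] at hch
      exact Nat.le_of_mul_le_mul_left hch hCpos
    have h2 := h1.trans (hb x)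
    have h3 := (Nat.pow_le_pow_iff_right hp.one_lt).mp h2
    exact hsub.trans h3
  have hn1 : n 1 = 0 := by
    rw [hn]
    simp only
    rw [Finset.card_eq_zero, Finset.filter_eq_empty_iff]
    intro j _ h
    exact h (Subgroup.one_mem _)
  -- upper bound for the sum
  have hsum_le : ∑ x : G, n x ≤ b * (Fintype.card G - 1) := by
    rw [← Finset.add_sum_erase Finset.univ n (Finset.mem_univ (1 : G)), hn1, zero_add]
    calc ∑ x ∈ Finset.univ.erase (1 : G), n x
        ≤ (Finset.univ.erase (1 : G)).card • b :=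
          Finset.sum_le_card_nsmul _ _ _ (fun x _ => hnb x)
      _ = b * (Fintype.card G - 1) := by
          rw [Finset.card_erase_of_mem (Finset.mem_univ _), Finset.card_univ, smul_eq_mul,
            mul_comm]
  -- lower bound for the sum
  have hcount : ∀ j ∈ Finset.range (c - 1),
      (p - 1) * Fintype.card G ≤ p * (Finset.univ.filter (fun x : G => x ∉ T G j)).card := by
    intro j hj
    rw [Finset.mem_range] at hj
    have hT : T G j ≠ ⊤ := T_ne_top c hc hmin j (by omega)
    have h1 : p * Nat.card (T G j) ≤ Nat.card (⊤ : Subgroup G) :=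
      p_mul_card_le hG le_top hT
    have hGc : Nat.card G = Fintype.card G := Nat.card_eq_fintype_card
    rw [Subgroup.card_top, hGc] at h1
    have h2 : Nat.card (T G j) = (Finset.univ.filter (fun x : G => x ∈ T G j)).card := by
      rw [Nat.card_eq_fintype_card, Fintype.card_subtype]
    have h3 : (Finset.univ.filter (fun x : G => x ∈ T G j)).card +
        (Finset.univ.filter (fun x : G => x ∉ T G j)).card = Fintype.card G := by
      rw [Finset.card_filter_add_card_filter_not, Finset.card_univ]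
    rw [h2] at h1
    obtain ⟨p', rfl⟩ : ∃ p', p = p' + 1 := ⟨p - 1, by have := hp.pos; omega⟩
    simp only [Nat.add_sub_cancel]
    nlinarith
  have hsum_ge : (c - 1) * (p - 1) * Fintype.card G ≤ p * ∑ x : G, n x := by
    have e : ∑ x : G, n x = ∑ j ∈ Finset.range (c - 1),
        (Finset.univ.filter (fun x : G => x ∉ T G j)).card := by
      simp only [hn, Finset.card_filter]
      rw [Finset.sum_comm]
    rw [e, Finset.mul_sum]
    calc (c - 1) * (p - 1) * Fintype.card G
        = ∑ _j ∈ Finset.range (c - 1), (p - 1) * Fintype.card G := by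
          rw [Finset.sum_const, Finset.card_range, smul_eq_mul, mul_assoc]
      _ ≤ _ := Finset.sum_le_sum hcount
  have hmain : (c - 1) * (p - 1) * Fintype.card G ≤ p * (b * (Fintype.card G - 1)) :=
    hsum_ge.trans (Nat.mul_le_mul_left p hsum_le)
  have hGpos : 0 < Fintype.card G := Fintype.card_pos
  refine ⟨c, hc, ?_, ?_⟩
  · intro hb0
    have hlt : (c - 1) * (p - 1) < b * p := by
      have hbp : 0 < b * p := Nat.mul_pos (Nat.pos_of_ne_zero hb0) hp.pos
      have : p * (b * (Fintype.card G - 1)) < b * p * Fintype.card G := by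
        have h1 : Fintype.card G - 1 < Fintype.card G := by omega
        calc p * (b * (Fintype.card G - 1)) = b * p * (Fintype.card G - 1) := by ring
          _ < b * p * Fintype.card G := Nat.mul_lt_mul_of_pos_left h1 hbp
      exact Nat.lt_of_mul_lt_mul_right (hmain.trans_lt this)
    refine ⟨hlt, ?_⟩
    have hp2 : 2 ≤ p := hp.two_le
    obtain ⟨p', rfl⟩ : ∃ p', p = p' + 2 := ⟨p - 2, by omega⟩
    have h5 : (c - 1) * (p' + 1) < 2 * b * (p' + 1) := by
      have : (p' + 2 - 1) = p' + 1 := by omega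
      rw [this] at hlt
      nlinarith
    have h6 := Nat.lt_of_mul_lt_mul_right h5
    omega
  · intro hb0
    rw [hb0, zero_mul, mul_zero] at hmain
    have h1 : (c - 1) * (p - 1) * Fintype.card G = 0 := Nat.le_zero.mp hmain
    have hp1 : p - 1 ≠ 0 := by have := hp.two_le; omega
    have h2 : c - 1 = 0 := by
      rcases Nat.mul_eq_zero.mp h1 with h | h
      · rcases Nat.mul_eq_zero.mp h with h | h
        · exact h
        · exact absurd h hp1
      · omega
    omega

end Cfsg.Agent.S3778
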