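import Cfsg.Statements.S3780
import Mathlib

set_option autoImplicit false
open Cfsg

namespace Cfsg.Agent.S3780

variable {V : Type*} [CommGroup V]

/-- `D v = α v * v⁻¹` -/
def dHom (α : MulAut V) : V →* V where
  toFun v := α v * v⁻¹
  map_one' := by simp
  map_mul' a b := by simp only [map_mul, mul_inv]; exact mul_mul_mul_comm _ _ _ _

@[simp] theorem dHom_apply (α : MulAut V) (v : V) : dHom α v = α v * v⁻¹ := rfl

theorem card_eq_card_ker_inf_mul_card_map {G G' : Type*} [Group G] [Group G'] (f : G →* G')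
    (K : Subgroup G) : Nat.card K = Nat.card ↥(f.ker ⊓ K) * Nat.card (K.map f) := by
  have h1 := Subgroup.relIndex_mul_relIndex (⊥ : Subgroup G) (f.ker ⊓ K) K bot_le inf_le_right
  rw [Subgroup.relIndex_bot_left, Subgroup.relIndex_bot_left, Subgroup.inf_relIndex_right,
    Subgroup.relIndex_ker] at h1
  exact h1.symm

/-- the subgroups `W_k = {w | w^p = 1 ∧ D^k w = 1}` -/
def Wk (p : ℕ) (α : MulAut V) (k : ℕ) : Subgroup V where
  carrier := {w | w ^ p = 1 ∧ (dHom α)^[k] w = 1}
  one_mem' := by
    refine ⟨one_pow _, ?_⟩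
    exact iterate_map_one _ _
  mul_mem' := by
    rintro a b ⟨ha1, ha2⟩ ⟨hb1, hb2⟩
    refine ⟨by rw [mul_pow, ha1, hb1, one_mul], ?_⟩
    rw [iterate_map_mul, ha2, hb2, one_mul]
  inv_mem' := by
    rintro a ⟨ha1, ha2⟩
    refine ⟨by rw [inv_pow, ha1, inv_one], ?_⟩
    rw [iterate_map_inv, ha2, inv_one]

theorem mem_Wk {p : ℕ} {α : MulAut V} {k : ℕ} {w : V} :
    w ∈ Wk p α k ↔ w ^ p = 1 ∧ (dHom α)^[k] w = 1 := Iff.rfl

theorem card_Wk_succ_le [Finite V] (p : ℕ) (α : MulAut V) (k : ℕ) :
    Nat.card (Wk p α (k + 1)) ≤ Nat.card (Wk p α 1) * Nat.card (Wk p α k) := by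
  rw [card_eq_card_ker_inf_mul_card_map (dHom α) (Wk p α (k + 1))]
  apply Nat.mul_le_mul
  · apply Subgroup.card_le_of_le
    rintro w ⟨hw1, hw2⟩
    exact ⟨hw2.1, hw1⟩
  · apply Subgroup.card_le_of_le
    rintro _ ⟨w, ⟨hw1, hw2⟩, rfl⟩
    refine ⟨?_, ?_⟩
    · rw [← map_pow, hw1, map_one]
    · rw [← Function.iterate_succ_apply]; exact hw2

theorem card_Wk_le [Finite V] (p : ℕ) (α : MulAut V) (k : ℕ) :
    Nat.card (Wk p α k) ≤ Nat.card (Wk p α 1) ^ k := by
  induction k with
  | zero =>
    rw [pow_zero]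
    have : Wk p α 0 = ⊥ := by
      rw [eq_bot_iff]
      rintro w ⟨_, hw⟩
      exact hw
    rw [this, Subgroup.card_bot]
  | succ k ih =>
    calc Nat.card (Wk p α (k + 1)) ≤ Nat.card (Wk p α 1) * Nat.card (Wk p α k) := card_Wk_succ_le p α k
      _ ≤ Nat.card (Wk p α 1) * Nat.card (Wk p α 1) ^ k := Nat.mul_le_mul_left _ ih
      _ = Nat.card (Wk p α 1) ^ (k + 1) := by rw [pow_succ']

/-- key nilpotency: if `α ^ p = 1` and `w ^ p = 1` then `D^p w = 1`. -/
theorem dHom_iterate_prime {p : ℕ} (hp : p.Prime) (α : MulAut V) (hα : α ^ p = 1) (w : V)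
    (hw : w ^ p = 1) : (dHom α)^[p] w = 1 := by
  -- work in the ring of additive endomorphisms
  let a : AddMonoid.End (Additive V) := (α : V →* V).toAdditive
  let d : AddMonoid.End (Additive V) := (dHom α).toAdditive
  have had : a = d + 1 := by
    ext x
    induction x using Additive.rec with | _ x => ?_
    show Additive.ofMul (α x) = Additive.ofMul (α x * x⁻¹) + Additive.ofMul x
    rw [← ofMul_mul]; simp
  have hcomm : Commute d 1 := Commute.one_right d
  obtain ⟨r, hr⟩ := hcomm.exists_add_pow_prime_eq hp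
  rw [← had, one_pow] at hr
  have hap : a ^ p = 1 := by
    ext x
    induction x using Additive.rec with | _ x => ?_
    rw [AddMonoid.End.coe_pow]
    have h1 : ∀ k : ℕ, (⇑a)^[k] (Additive.ofMul x) = Additive.ofMul ((α ^ k) x) := by
      intro k
      induction k with
      | zero => simp
      | succ k ih =>
        rw [Function.iterate_succ_apply', ih, pow_succ']
        rfl
    rw [h1, hα]; rfl
  have hdp : ∀ k : ℕ, (d ^ k) (Additive.ofMul w) = Additive.ofMul ((dHom α)^[k] w) := by
    intro k
    rw [AddMonoid.End.coe_pow]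
    induction k with
    | zero => simp
    | succ k ih =>
      rw [Function.iterate_succ_apply', ih, Function.iterate_succ_apply']
      rfl
  have hpw : (p : AddMonoid.End (Additive V)) (Additive.ofMul w) = 0 := by
    rw [AddMonoid.End.natCast_apply, ← ofMul_pow, hw]; rfl
  have h2 := congrArg (fun f : AddMonoid.End (Additive V) => f (Additive.ofMul w)) hr
  simp only [hap] at h2
  have h3 : ((p : AddMonoid.End (Additive V)) * d * 1 * r) (Additive.ofMul w) = 0 := by
    have : (p : AddMonoid.End (Additive V)) * d * 1 * r = (d * r) * p := by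
      rw [mul_one, mul_assoc, Nat.cast_comm]
    rw [this, AddMonoid.End.coe_mul, Function.comp_apply, hpw, map_zero]
  have h2' : Additive.ofMul w = (d ^ p) (Additive.ofMul w) + Additive.ofMul w
      + ((p : AddMonoid.End (Additive V)) * d * 1 * r) (Additive.ofMul w) := h2
  rw [h3, add_zero, hdp] at h2'
  have h4 : Additive.ofMul ((dHom α)^[p] w) = 0 := add_eq_right.mp h2'.symm
  exact h4


/-- Nakayama-type lemma for finite abelian `p`-groups. -/
theorem eq_top_of_sup_range_pow [Finite V] {p : ℕ} [Fact p.Prime] (hV : IsPGroup p V)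
    (U : Subgroup V) (h : U ⊔ (powMonoidHom p : V →* V).range = ⊤) : U = ⊤ := by
  have key : ∀ k : ℕ, U ⊔ (powMonoidHom (p ^ k) : V →* V).range = ⊤ := by
    intro k
    induction k with
    | zero =>
      rw [eq_top_iff]
      intro v _
      exact (le_sup_right : _ ≤ U ⊔ (powMonoidHom (p ^ 0) : V →* V).range) ⟨v, by simp⟩
    | succ k ih =>
      rw [eq_top_iff]
      intro v _
      have hv : v ∈ U ⊔ (powMonoidHom (p ^ k) : V →* V).range := by rw [ih]; trivial
      obtain ⟨u, hu, z, ⟨r, rfl⟩, rfl⟩ := Subgroup.mem_sup.mp hv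
      have hr : r ∈ U ⊔ (powMonoidHom p : V →* V).range := by rw [h]; trivial
      obtain ⟨u', hu', z', ⟨s, rfl⟩, rfl⟩ := Subgroup.mem_sup.mp hr
      rw [Subgroup.mem_sup]
      refine ⟨u * u' ^ (p ^ k), U.mul_mem hu (U.pow_mem hu' _), s ^ (p ^ (k + 1)), ⟨s, rfl⟩, ?_⟩
      simp only [powMonoidHom_apply]
      rw [mul_pow, ← pow_mul, pow_succ', mul_assoc]
  obtain ⟨k, hk⟩ := IsPGroup.iff_card.mp hV
  have hbot : (powMonoidHom (p ^ k) : V →* V).range = ⊥ := by
    rw [eq_bot_iff]
    rintro _ ⟨v, rfl⟩
    rw [Subgroup.mem_bot, powMonoidHom_apply, ← hk]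
    exact pow_card_eq_one'
  have := key k
  rwa [hbot, sup_bot_eq] at this

theorem card_lt_of_lt' {G : Type*} [Group G] [Finite G] {H K : Subgroup G} (h : H < K) :
    Nat.card H < Nat.card K := by
  by_contra hcon
  push Not at hcon
  exact h.ne (Subgroup.eq_of_le_of_card_ge h.le hcon)

/-- greedy generation modulo a subgroup -/
theorem exists_generators [Finite V] {p : ℕ} [hp : Fact p.Prime] (hV : IsPGroup p V)
    (M : Subgroup V) : ∀ k : ℕ, ∃ S : Finset V, S.card ≤ k ∧
      (Subgroup.closure (S : Set V) ⊔ M = ⊤ ∨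
        p ^ k * Nat.card M ≤ Nat.card ↥(Subgroup.closure (S : Set V) ⊔ M)) := by
  classical
  intro k
  induction k with
  | zero =>
    refine ⟨∅, le_rfl, Or.inr ?_⟩
    simp
  | succ k ih =>
    obtain ⟨S, hS, h | h⟩ := ih
    · exact ⟨S, hS.trans (Nat.le_succ k), Or.inl h⟩
    · by_cases htop : Subgroup.closure (S : Set V) ⊔ M = ⊤
      · exact ⟨S, hS.trans (Nat.le_succ k), Or.inl htop⟩
      · obtain ⟨x, hx⟩ : ∃ x : V, x ∉ Subgroup.closure (S : Set V) ⊔ M := by
          by_contra hall
          push Not at hall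
          exact htop (eq_top_iff.mpr fun v _ => hall v)
        refine ⟨insert x S, (Finset.card_insert_le x S).trans (Nat.succ_le_succ hS), Or.inr ?_⟩
        have hlt : Subgroup.closure (S : Set V) ⊔ M < Subgroup.closure ((insert x S : Finset V) : Set V) ⊔ M := by
          apply lt_of_le_of_ne
          · apply sup_le_sup_right
            apply Subgroup.closure_mono
            intro y hy
            exact Finset.mem_insert_of_mem hy
          · intro heq
            apply hx
            rw [heq]
            apply (le_sup_left : _ ≤ Subgroup.closure ((insert x S : Finset V) : Set V) ⊔ M)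
            apply Subgroup.subset_closure
            exact Finset.mem_insert_self x S
        have hcl := card_lt_of_lt' hlt
        obtain ⟨a, ha⟩ := IsPGroup.iff_card.mp (hV.to_subgroup (Subgroup.closure (S : Set V) ⊔ M))
        obtain ⟨b, hb⟩ := IsPGroup.iff_card.mp
          (hV.to_subgroup (Subgroup.closure ((insert x S : Finset V) : Set V) ⊔ M))
        rw [ha, hb] at hcl
        have hab : a < b := (Nat.pow_lt_pow_iff_right hp.out.one_lt).mp hcl
        rw [hb]
        rw [ha] at h
        calc p ^ (k + 1) * Nat.card M = p * (p ^ k * Nat.card M) := by ring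
          _ ≤ p * p ^ a := Nat.mul_le_mul_left _ h
          _ = p ^ (a + 1) := by rw [pow_succ']
          _ ≤ p ^ b := Nat.pow_le_pow_right hp.out.pos hab

/-- Let V be a finite abelian p-group and α an automorphism of V of order p whose fixed-point subgroup has order p^n. Then V can be generated by pn elements: some subset of V with at most pn elements generates V. -/
theorem result {V : Type*} [CommGroup V] [Finite V] {p : ℕ} [Fact p.Prime] (hV : IsPGroup p V) (α : MulAut V) (hα : orderOf α = p) (n : ℕ) (hfix : Nat.card {v : V // α v = v} = p ^ n) : ∃ S : Finset V, S.card ≤ p * n ∧ Subgroup.closure (S : Set V) = ⊤ := by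
  have hp : p.Prime := Fact.out
  have hαp : α ^ p = 1 := by rw [← hα]; exact pow_orderOf_eq_one α
  set f : V →* V := powMonoidHom p with hf
  -- the p-torsion is W_p
  have hker : f.ker ≤ Wk p α p := by
    intro w hw
    have hw' : w ^ p = 1 := hw
    exact ⟨hw', dHom_iterate_prime hp α hαp w hw'⟩
  have hW1 : Nat.card (Wk p α 1) ≤ p ^ n := by
    rw [← hfix]
    refine Nat.card_le_card_of_injective (fun w => (⟨w.1, ?_⟩ : {v : V // α v = v})) ?_
    · have := w.2.2
      simp only [Function.iterate_one, dHom_apply] at this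
      exact mul_inv_eq_one.mp this
    · intro a b hab
      apply Subtype.ext
      have h2 := congrArg (fun z : {v : V // α v = v} => (z : V)) hab
      exact h2
  have hkercard : Nat.card f.ker ≤ p ^ (n * p) := by
    calc Nat.card f.ker ≤ Nat.card (Wk p α p) := Subgroup.card_le_of_le hker
      _ ≤ Nat.card (Wk p α 1) ^ p := card_Wk_le p α p
      _ ≤ (p ^ n) ^ p := Nat.pow_le_pow_left hW1 p
      _ = p ^ (n * p) := by rw [pow_mul]
  obtain ⟨d, hd⟩ := IsPGroup.iff_card.mp (hV.to_subgroup f.ker)
  have hdle : d ≤ p * n := by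
    rw [hd] at hkercard
    have := (Nat.pow_le_pow_iff_right hp.one_lt).mp hkercard
    rw [mul_comm]; exact this
  have hcardV : Nat.card V = p ^ d * Nat.card f.range := by
    have h1 := Subgroup.card_mul_index f.ker
    rw [Subgroup.index_ker, hd] at h1
    exact h1.symm
  obtain ⟨S, hS, h | h⟩ := exists_generators hV f.range d
  · exact ⟨S, hS.trans hdle, eq_top_of_sup_range_pow hV _ h⟩
  · refine ⟨S, hS.trans hdle, eq_top_of_sup_range_pow hV _ ?_⟩
    apply Subgroup.eq_top_of_le_card
    rw [hcardV]; exact h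

end Cfsg.Agent.S3780
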