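import Cfsg.Statements.S3781
import Mathlib
import Cfsg.Agent.Lib.Helper62.LowerCentral
-- import your own Cfsg.Agent.* helpers here

set_option autoImplicit false
open Cfsg

namespace Cfsg.Agent.S3781

open Cfsg.Agent.Helper62

theorem lcs_normal {G : Type*} [Group G] (N : Subgroup G) [N.Normal] (i : ℕ) :
    (N.lowerCentralSeries i).Normal := by
  induction i with
  | zero => simpa using (inferInstance : N.Normal)
  | succ i ih => rw [Subgroup.lowerCentralSeries_succ]; infer_instance

/-- Let G be a finite p-group and n ≥ 1, and write γ_1(G) = G, γ_{k+1}(G) = [γ_k(G), G], and likewise γ_k(N) for a subgroup N. Let N be a normal subgroup of G contained in γ_n(G). If i > 1 and γ_{i+1}(N) ≠ 1, then |γ_i(N) : γ_{i+1}(N)| ≥ p^n. -/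
theorem result {G : Type*} [Group G] [Finite G] {p : ℕ} [Fact p.Prime] (hG : IsPGroup p G) (n : ℕ) (hn : 1 ≤ n) (N : Subgroup G) [N.Normal] (hN : N ≤ (⊤ : Subgroup G).lowerCentralSeries (n - 1)) (i : ℕ) (hi : 1 < i) (hne : N.lowerCentralSeries i ≠ ⊥) : p ^ n ≤ (N.lowerCentralSeries i).relIndex (N.lowerCentralSeries (i - 1)) := by
  have hp : p.Prime := Fact.out
  by_contra hlt
  push Not at hlt
  have hnil : Group.IsNilpotent G := hG.isNilpotent
  obtain ⟨j, rfl⟩ : ∃ j, i = j + 1 := ⟨i - 1, by omega⟩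
  rw [Nat.add_sub_cancel] at hlt
  have hKn : (N.lowerCentralSeries j).Normal := lcs_normal N j
  have hLn : (N.lowerCentralSeries (j + 1)).Normal := lcs_normal N (j + 1)
  have hLK : N.lowerCentralSeries (j + 1) = ⁅N.lowerCentralSeries j, N⁆ :=
    Subgroup.lowerCentralSeries_succ N j
  have hLleK : N.lowerCentralSeries (j + 1) ≤ N.lowerCentralSeries j :=
    Subgroup.lowerCentralSeries_antitone N (Nat.le_succ j)
  obtain ⟨m, hm⟩ : ∃ m, (N.lowerCentralSeries (j + 1)).relIndex (N.lowerCentralSeries j) = p ^ m := by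
    have := (hG.to_subgroup (N.lowerCentralSeries j)).index
      ((N.lowerCentralSeries (j + 1)).subgroupOf (N.lowerCentralSeries j))
    simpa [Subgroup.relIndex] using this
  have hmn : m < n := by
    rw [hm] at hlt
    exact (Nat.pow_lt_pow_iff_right hp.one_lt).1 hlt
  have hrel : (N.lowerCentralSeries (j + 1)).relIndex (N.lowerCentralSeries j) ≤ p ^ (n - 1) := by
    rw [hm]; exact Nat.pow_le_pow_right hp.pos (by omega)
  have h1 : ic (N.lowerCentralSeries j) (n - 1) ≤ N.lowerCentralSeries (j + 1) :=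
    ic_le_of_relIndex_le hG (n - 1) _ _ hLleK hrel
  have h2 : ic (N.lowerCentralSeries j) n ≤ ⁅N.lowerCentralSeries (j + 1), (⊤ : Subgroup G)⁆ := by
    have hn' : n = (n - 1) + 1 := by omega
    rw [hn', ic_succ]
    exact Subgroup.commutator_mono h1 le_rfl
  have h3 : ⁅N.lowerCentralSeries j, (⊤ : Subgroup G).lowerCentralSeries (n - 1)⁆ ≤
      ic (N.lowerCentralSeries j) n := by
    have := commutator_lcs_le_ic (n - 1) (N.lowerCentralSeries j)
    rwa [Nat.sub_add_cancel hn] at this
  have h4 : N.lowerCentralSeries (j + 1) ≤ ⁅N.lowerCentralSeries (j + 1), (⊤ : Subgroup G)⁆ := by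
    calc N.lowerCentralSeries (j + 1) = ⁅N.lowerCentralSeries j, N⁆ := hLK
      _ ≤ ⁅N.lowerCentralSeries j, (⊤ : Subgroup G).lowerCentralSeries (n - 1)⁆ :=
          Subgroup.commutator_mono le_rfl hN
      _ ≤ ic (N.lowerCentralSeries j) n := h3
      _ ≤ _ := h2
  have h5 : N.lowerCentralSeries (j + 1) ≤ ⊥ := by
    apply le_of_le_commutator_sup (L := ⊥)
    simpa using h4
  exact hne (le_bot_iff.1 h5)

end Cfsg.Agent.S3781
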