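import Cfsg.Statements.S3784
import Mathlib

set_option autoImplicit false
open Cfsg

namespace Cfsg.Agent.S3784

open Finset

/-- Key lemma: if `x ^ n - y ^ n` is a power of two, `n` odd, `x` odd, `x - y` even positive,
then `x ^ n - y ^ n = x - y`. -/
lemma key (x y : ℤ) (n : ℕ) (hn : Odd n) (hxy : (2 : ℤ) ∣ x - y) (hx : ¬ (2 : ℤ) ∣ x)
    (hpos : 0 < x - y) (k : ℕ) (hk : x ^ n - y ^ n = 2 ^ k) : x ^ n - y ^ n = x - y := by
  have h2 : Prime (2 : ℤ) := Int.prime_two
  have hn2 : ¬ (2 : ℤ) ∣ (n : ℤ) := by
    intro h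
    have : (2 : ℕ) ∣ n := by exact_mod_cast h
    exact (Nat.not_even_iff_odd.mpr hn) (even_iff_two_dvd.mpr this)
  have hnd := not_dvd_geom_sum₂ h2 hxy hx hn2
  set m : ℤ := ∑ i ∈ range n, x ^ i * y ^ (n - 1 - i) with hm
  have hmul : m * (x - y) = x ^ n - y ^ n := geom_sum₂_mul x y n
  rw [hk] at hmul
  have hmdvd : m ∣ (2 : ℤ) ^ k := ⟨x - y, hmul.symm⟩
  have h1 : m.natAbs ∣ 2 ^ k := by
    have := Int.natAbs_dvd_natAbs.mpr hmdvd
    simpa [Int.natAbs_pow] using this
  obtain ⟨d, _, hd⟩ := (Nat.dvd_prime_pow Nat.prime_two).mp h1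
  have hd0 : d = 0 := by
    by_contra hne
    apply hnd
    have : (2 : ℕ) ∣ m.natAbs := by
      rw [hd]; exact dvd_pow_self 2 hne
    exact Int.natCast_dvd.mpr this
  subst hd0
  have hmpos : 0 < m := by
    by_contra hneg
    rw [not_lt] at hneg
    have : m * (x - y) ≤ 0 := mul_nonpos_of_nonpos_of_nonneg hneg hpos.le
    rw [hmul] at this
    have : (0 : ℤ) < 2 ^ k := by positivity
    linarith
  have hm1 : m = 1 := by
    have : m.natAbs = 1 := by simpa using hd
    omega
  rw [hk, ← hmul, hm1, one_mul]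

lemma sq_odd_mod_four (x : ℕ) (hx : Odd x) : x ^ 2 % 4 = 1 := by
  obtain ⟨k, rfl⟩ := hx
  have : (2 * k + 1) ^ 2 = 4 * (k * k + k) + 1 := by ring
  rw [this]; omega

/-- Let p, q be primes and a, b positive integers with p^a = q^b + 1. Then either p = 2, b = 1, a is prime and q = 2^a − 1; or q = 2, a = 1, b is a power of 2 and p = 2^b + 1; or p^a = 9 and q^b = 8. -/
theorem result (p q a b : ℕ) (hp : p.Prime) (hq : q.Prime) (ha : 1 ≤ a) (hb : 1 ≤ b) (h : p ^ a = q ^ b + 1) : (p = 2 ∧ b = 1 ∧ a.Prime ∧ q + 1 = 2 ^ a) ∨ (q = 2 ∧ a = 1 ∧ (∃ m : ℕ, b = 2 ^ m) ∧ p = 2 ^ b + 1) ∨ (p ^ a = 9 ∧ q ^ b = 8) := by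
  have ha0 : a ≠ 0 := by omega
  have hb0 : b ≠ 0 := by omega
  rcases hp.eq_two_or_odd' with hp2 | hpodd
  · -- p = 2
    subst hp2
    left
    have hqodd : Odd q := by
      rcases hq.eq_two_or_odd' with hq2 | hqo
      · exfalso
        subst hq2
        have h1 : Even (2 ^ a) := (Nat.even_pow.mpr ⟨even_two, ha0⟩)
        have h2 : Even (2 ^ b) := (Nat.even_pow.mpr ⟨even_two, hb0⟩)
        rw [h] at h1
        rw [Nat.even_add_one] at h1
        exact h1 h2
      · exact hqo
    have hb1 : b = 1 := by
      rcases Nat.even_or_odd b with hbe | hbo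
      · exfalso
        obtain ⟨c, rfl⟩ := hbe
        have h1 : q ^ (c + c) = (q ^ c) ^ 2 := by rw [← two_mul, mul_comm, pow_mul]
        have h2 : (q ^ c) ^ 2 % 4 = 1 := sq_odd_mod_four _ hqodd.pow
        rw [h1] at h
        have h3 : 2 ^ a % 4 = 2 := by rw [h]; omega
        have ha1 : a = 1 := by
          by_contra hne
          have : 2 ≤ a := by omega
          obtain ⟨e, rfl⟩ := Nat.exists_eq_add_of_le this
          rw [pow_add] at h3
          omega
        subst ha1
        have h4 : (q ^ c) ^ 2 = 1 := by omega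
        have h5 : q ^ c = 1 := (pow_eq_one_iff_left (by norm_num)).mp h4
        have hc : c ≠ 0 := by omega
        have h6 : q = 1 := (pow_eq_one_iff_left hc).mp h5
        exact hq.one_lt.ne' h6
      · have hkey := key (q : ℤ) (-1) b hbo (by
            have : (2 : ℤ) ∣ ((q + 1 : ℕ) : ℤ) := by
              have : 2 ∣ q + 1 := (even_iff_two_dvd.mp hqodd.add_one)
              exact_mod_cast this
            simpa using this) (by
            intro hdvd
            have : (2 : ℕ) ∣ q := by exact_mod_cast hdvd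
            exact (Nat.not_even_iff_odd.mpr hqodd) (even_iff_two_dvd.mpr this)) (by
            have : (0 : ℤ) < q := by exact_mod_cast hq.pos
            linarith) a (by
            rw [hbo.neg_one_pow]
            have : ((2 ^ a : ℕ) : ℤ) = ((q ^ b + 1 : ℕ) : ℤ) := by rw [h]
            push_cast at this
            linarith)
        rw [hbo.neg_one_pow] at hkey
        have h7 : (q : ℤ) ^ b = q := by linarith
        have h8 : q ^ b = q := by exact_mod_cast h7
        exact (Nat.pow_eq_self_iff hq.one_lt).mp h8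
    subst hb1
    rw [pow_one] at h
    refine ⟨rfl, rfl, ?_, h.symm⟩
    have ha1 : a ≠ 1 := by
      rintro rfl
      have : q = 1 := by omega
      exact hq.one_lt.ne' this
    have hq' : (2 ^ a - 1).Prime := by
      have : 2 ^ a - 1 = q := by omega
      rw [this]; exact hq
    exact (Nat.prime_of_pow_sub_one_prime ha1 hq').2
  · -- p odd, so q = 2
    right
    have hq2 : q = 2 := by
      rcases hq.eq_two_or_odd' with hq2 | hqo
      · exact hq2
      · exfalso
        have h1 : Odd (p ^ a) := hpodd.pow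
        have h2 : Odd (q ^ b) := hqo.pow
        rw [h] at h1
        have := h2.add_one
        exact (Nat.not_even_iff_odd.mpr h1) this
    subst hq2
    rcases Nat.even_or_odd a with hae | hao
    · right
      obtain ⟨c, rfl⟩ := hae
      set x := p ^ c with hx
      have hx2 : p ^ (c + c) = x ^ 2 := by rw [hx, ← two_mul, mul_comm, pow_mul]
      rw [hx2] at h ⊢
      have hc : c ≠ 0 := by omega
      have hx3 : 3 ≤ x := by
        have h1 : Odd x := hpodd.pow
        have h2 : 1 < x := Nat.one_lt_pow hc hp.one_lt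
        obtain ⟨k, hk⟩ := h1
        omega
      have hfac : (x - 1) * (x + 1) = 2 ^ b := by
        have : x ^ 2 = (x - 1) * (x + 1) + 1 := by
          obtain ⟨y, hy⟩ := Nat.exists_eq_add_of_le (show 1 ≤ x by omega)
          rw [hy]
          simp only [Nat.add_sub_cancel_left]
          ring
        omega
      have hd1 : (x - 1) ∣ 2 ^ b := ⟨x + 1, hfac.symm⟩
      have hd2 : (x + 1) ∣ 2 ^ b := ⟨x - 1, by rw [← hfac, mul_comm]⟩
      obtain ⟨i, _, hi⟩ := (Nat.dvd_prime_pow Nat.prime_two).mp hd1
      obtain ⟨j, _, hj⟩ := (Nat.dvd_prime_pow Nat.prime_two).mp hd2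
      have hij : 2 ^ j = 2 ^ i + 2 := by omega
      have hilt : i < j := by
        have : 2 ^ i < 2 ^ j := by omega
        exact (Nat.pow_lt_pow_iff_right (by norm_num)).mp this
      obtain ⟨e, rfl⟩ := Nat.exists_eq_add_of_lt hilt
      have hi1 : i = 1 := by
        rcases i with _ | _ | i
        · exfalso
          simp only [zero_add, pow_zero] at hij
          rw [pow_succ] at hij
          omega
        · rfl
        · exfalso
          have e1 : 2 ^ (i + 1 + 1 + e + 1) = 4 * (2 ^ (i + e + 1)) := by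
            rw [show i + 1 + 1 + e + 1 = 2 + (i + e + 1) by ring, pow_add]; norm_num
          have e2 : 2 ^ (i + 1 + 1) = 4 * 2 ^ i := by
            rw [show i + 1 + 1 = 2 + i by ring, pow_add]; norm_num
          rw [e1, e2] at hij
          omega
      subst hi1
      have hx3' : x = 3 := by
        simp at hi; omega
      rw [hx3'] at h ⊢
      constructor
      · norm_num
      · omega
    · left
      have hkey := key (p : ℤ) 1 a hao (by
          have : (2 : ℤ) ∣ ((p - 1 : ℕ) : ℤ) := by
            have : 2 ∣ p - 1 := by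
              obtain ⟨k, hk⟩ := hpodd
              exact ⟨k, by omega⟩
            exact_mod_cast this
          rw [Nat.cast_sub hp.one_lt.le] at this
          simpa using this) (by
          intro hdvd
          have : (2 : ℕ) ∣ p := by exact_mod_cast hdvd
          exact (Nat.not_even_iff_odd.mpr hpodd) (even_iff_two_dvd.mpr this)) (by
          have : (1 : ℤ) < p := by exact_mod_cast hp.one_lt
          linarith) b (by
          rw [one_pow]
          have : ((p ^ a : ℕ) : ℤ) = ((2 ^ b + 1 : ℕ) : ℤ) := by rw [h]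
          push_cast at this
          linarith)
      rw [one_pow] at hkey
      have h7 : (p : ℤ) ^ a = p := by linarith
      have h8 : p ^ a = p := by exact_mod_cast h7
      have ha1 : a = 1 := (Nat.pow_eq_self_iff hp.one_lt).mp h8
      subst ha1
      rw [pow_one] at h
      refine ⟨rfl, rfl, ?_, h⟩
      exact Nat.pow_of_pow_add_prime (by norm_num) hb0 (h ▸ hp)

end Cfsg.Agent.S3784
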