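import Cfsg.Statements.S3785
import Cfsg.Agent.Lib.Helper24.Omega1
import Cfsg.Agent.Lib.Helper70.Fitting
import Cfsg.Agent.Lib.Helper64.DirectFactor
import Cfsg.Agent.S0044

set_option autoImplicit false
open Cfsg

namespace Cfsg.Agent.S3785

open Cfsg.Agent.Helper70

variable {G : Type*} [Group G]

/-- the set of prime-order elements of `F(G)` -/
def Om (G : Type*) [Group G] : Set G := {x | x ∈ Cfsg.fittingSubgroup G ∧ (orderOf x).Prime}

lemma Om_conj {x : G} (h : G) (hx : x ∈ Om G) : h * x * h⁻¹ ∈ Om G := by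
  have hn := fittingSubgroup_normal G
  refine ⟨hn.conj_mem x hx.1 h, ?_⟩
  have : orderOf (h * x * h⁻¹) = orderOf x := by
    have := orderOf_injective (MulAut.conj h).toMonoidHom (MulAut.conj h).injective x
    simpa using this
  rw [this]
  exact hx.2

/-- the centralizer of the set of prime-order elements of `F(G)` -/
def Hc (G : Type*) [Group G] : Subgroup G := Subgroup.centralizer (Om G)

lemma Hc_normal : (Hc G).Normal := by
  refine ⟨fun g hg h => ?_⟩
  rw [Hc, Subgroup.mem_centralizer_iff] at hg ⊢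
  intro x hx
  have hx' : h⁻¹ * x * h ∈ Om G := by simpa using Om_conj h⁻¹ hx
  have := hg _ hx'
  calc x * (h * g * h⁻¹) = h * ((h⁻¹ * x * h) * g) * h⁻¹ := by group
    _ = h * (g * (h⁻¹ * x * h)) * h⁻¹ := by rw [this]
    _ = h * g * h⁻¹ * x := by group

lemma cen_pCore [Finite G] (hodd : Odd (Nat.card (Cfsg.fittingSubgroup G))) (p : ℕ)
    [hp : Fact p.Prime] (y : G) (hy : y ∈ Hc G) (hcop : (orderOf y).Coprime p) :
    y ∈ Subgroup.centralizer (Cfsg.pCore p G : Set G) := by
  by_cases hp2 : p = 2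
  · subst hp2
    have hle : Cfsg.pCore 2 G ≤ Cfsg.fittingSubgroup G := pCore_le_fittingSubgroup
    have hdvd : Nat.card (Cfsg.pCore 2 G) ∣ Nat.card (Cfsg.fittingSubgroup G) :=
      Subgroup.card_dvd_of_le hle
    obtain ⟨k, hk⟩ := (pCore_isPGroup (G := G) (p := 2)).exists_card_eq
    have hk0 : k = 0 := by
      by_contra hk0
      have h2 : 2 ∣ Nat.card (Cfsg.pCore 2 G) := by
        rw [hk]; exact dvd_pow_self 2 hk0
      have := h2.trans hdvd
      rw [Nat.odd_iff] at hodd
      omega
    rw [hk0, pow_zero, Subgroup.card_eq_one] at hk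
    rw [hk, Subgroup.mem_centralizer_iff]
    intro c hc
    have : c = 1 := by simpa using hc
    rw [this]; simp
  · have hn : (Cfsg.pCore p G).Normal := pCore_normal p G
    have hA : Nat.card (Subgroup.zpowers y) = orderOf y := Nat.card_zpowers y
    have key := Cfsg.Agent.Helper24.le_centralizer_of_centralizes_omega_one p hp2
      (Subgroup.zpowers y) (by rw [hA]; exact hcop) _ (Cfsg.pCore p G) rfl pCore_isPGroup
      (by rw [Subgroup.normalizer_eq_top]; exact le_top)
      (by
        intro c hc hcp a ha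
        by_cases hc1 : c = 1
        · rw [hc1]; simp
        · have hord : orderOf c = p := orderOf_eq_prime hcp hc1
          have hcO : c ∈ Om G := ⟨pCore_le_fittingSubgroup hc, by rw [hord]; exact hp.out⟩
          have haH : a ∈ Hc G := (Subgroup.zpowers_le.mpr hy) ha
          rw [Hc, Subgroup.mem_centralizer_iff] at haH
          exact (haH c hcO).symm)
    exact key (Subgroup.mem_zpowers y)

/-- the join of the `p`-cores for the primes `p ≠ q` -/
noncomputable def Mq (G : Type*) [Group G] (q : ℕ) : Subgroup G :=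
  ⨆ p : {p : (Nat.card G).primeFactors // (p : ℕ) ≠ q}, Cfsg.pCore (p : ℕ) G

lemma Mq_normal (q : ℕ) : (Mq G q).Normal := by
  have : ∀ p : {p : (Nat.card G).primeFactors // (p : ℕ) ≠ q}, (Cfsg.pCore (p : ℕ) G).Normal :=
    fun p => pCore_normal _ _
  exact Subgroup.iSup_normal _

lemma fitting_le_sup [Finite G] (q : ℕ) :
    Cfsg.fittingSubgroup G ≤ Cfsg.pCore q G ⊔ Mq G q := by
  rw [fittingSubgroup_eq_coreJoin, coreJoin]
  apply iSup_le
  intro p
  by_cases hpq : (p : ℕ) = q
  · rw [hpq]; exact le_sup_left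
  · exact le_trans (le_iSup (fun p : {p : (Nat.card G).primeFactors // (p : ℕ) ≠ q} =>
      Cfsg.pCore (p : ℕ) G) ⟨p, hpq⟩) le_sup_right

lemma Mq_le_fitting [Finite G] (q : ℕ) : Mq G q ≤ Cfsg.fittingSubgroup G := by
  apply iSup_le
  intro p
  have : Fact (p.1 : ℕ).Prime := ⟨Nat.prime_of_mem_primeFactors p.1.2⟩
  exact pCore_le_fittingSubgroup

/-- a `q'`-element of `F(G)` lies in the join of the `p`-cores, `p ≠ q` -/
lemma mem_Mq [Finite G] (q : ℕ) [hq : Fact q.Prime] (y : G) (hyF : y ∈ Cfsg.fittingSubgroup G)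
    (hyq : (orderOf y).Coprime q) : y ∈ Mq G q := by
  have hMn := Mq_normal (G := G) q
  have hFeq : Cfsg.pCore q G ⊔ Mq G q = Cfsg.fittingSubgroup G :=
    le_antisymm (sup_le pCore_le_fittingSubgroup (Mq_le_fitting q)) (fitting_le_sup q)
  have h1 : (Mq G q).relIndex (Cfsg.fittingSubgroup G) = (Mq G q).relIndex (Cfsg.pCore q G) := by
    rw [← hFeq]; exact Subgroup.relIndex_sup_right (Cfsg.pCore q G) (Mq G q)
  have h2 : (Mq G q).relIndex (Cfsg.pCore q G) ∣ Nat.card (Cfsg.pCore q G) :=
    Subgroup.relIndex_dvd_card _ _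
  obtain ⟨k, hk⟩ := (pCore_isPGroup (G := G) (p := q)).exists_card_eq
  rw [← h1, hk] at h2
  have hcop : (orderOf y).Coprime ((Mq G q).relIndex (Cfsg.fittingSubgroup G)) :=
    Nat.Coprime.coprime_dvd_right h2 (Nat.Coprime.pow_right k hyq)
  have hmem := Cfsg.Agent.Helper64.mem_of_coprime_index
    ((Mq G q).subgroupOf (Cfsg.fittingSubgroup G)) ⟨y, hyF⟩
    (by rw [Subgroup.orderOf_mk]; exact hcop)
  exact hmem

/-- elements of prime power order in `Hc G` lie in `F(G)` -/
lemma qelem [Finite G] (hG : Group.IsSolvable G) (hodd : Odd (Nat.card (Cfsg.fittingSubgroup G)))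
    (q : ℕ) [hq : Fact q.Prime] (x : G) (hx : x ∈ Hc G) (a : ℕ) (hxa : orderOf x = q ^ a) :
    x ∈ Cfsg.fittingSubgroup G := by
  have hHn : (Hc G).Normal := Hc_normal
  set K := Subgroup.normalClosure ({x} : Set G) with hK
  have hKn : K.Normal := Subgroup.normalClosure_normal
  have hKH : K ≤ Hc G := Subgroup.normalClosure_le_normal (by simpa using hx)
  -- K centralizes the p-cores for p ≠ q
  have hKp : ∀ (p : ℕ) [Fact p.Prime], p ≠ q →
      K ≤ Subgroup.centralizer (Cfsg.pCore p G : Set G) := by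
    intro p hp hpq
    have hn : (Cfsg.pCore p G).Normal := pCore_normal p G
    have hcn : (Subgroup.centralizer (Cfsg.pCore p G : Set G)).Normal := Subgroup.normal_centralizer
    apply Subgroup.normalClosure_le_normal
    rw [Set.singleton_subset_iff]
    apply cen_pCore hodd p x hx
    rw [hxa]
    exact Nat.Coprime.pow_left a ((Nat.coprime_primes hq.out hp.out).mpr hpq.symm)
  have hKM : ∀ k ∈ K, ∀ m ∈ Mq G q, m * k = k * m := by
    intro k hk m hm
    have hle : Mq G q ≤ Subgroup.centralizer ({k} : Set G) := by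
      apply iSup_le
      intro p
      have hp : Fact (p.1 : ℕ).Prime := ⟨Nat.prime_of_mem_primeFactors p.1.2⟩
      intro c hc
      rw [Subgroup.mem_centralizer_singleton_iff]
      have := hKp (p.1 : ℕ) p.2 hk
      rw [Subgroup.mem_centralizer_iff] at this
      exact this c hc
    have := hle hm
    rwa [Subgroup.mem_centralizer_singleton_iff] at this
  -- q'-elements of K are central in K
  have hq' : ∀ y ∈ K, (orderOf y).Coprime q → ∀ k ∈ K, k * y = y * k := by
    intro y hyK hyq k hk
    have hall : ∀ (p : ℕ) [Fact p.Prime], y ∈ Subgroup.centralizer (Cfsg.pCore p G : Set G) := by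
      intro p hp
      by_cases hpq : p = q
      · subst hpq; exact cen_pCore hodd p y (hKH hyK) hyq
      · exact hKp p hpq hyK
    have hyC : y ∈ Subgroup.centralizer (Cfsg.fittingSubgroup G : Set G) := by
      have hle : Cfsg.fittingSubgroup G ≤ Subgroup.centralizer ({y} : Set G) := by
        rw [fittingSubgroup_eq_coreJoin, coreJoin]
        apply iSup_le
        intro p
        have hp : Fact (p : ℕ).Prime := ⟨Nat.prime_of_mem_primeFactors p.2⟩
        intro c hc
        rw [Subgroup.mem_centralizer_singleton_iff]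
        have := hall (p : ℕ)
        rw [Subgroup.mem_centralizer_iff] at this
        exact this c hc
      rw [Subgroup.mem_centralizer_iff]
      intro c hc
      have := hle hc
      rwa [Subgroup.mem_centralizer_singleton_iff] at this
    have hyF : y ∈ Cfsg.fittingSubgroup G := Cfsg.Agent.S0044.result hyC
    have hyM : y ∈ Mq G q := mem_Mq q y hyF hyq
    exact (hKM k hk y hyM).symm
  -- K / Z(K) is a q-group
  have hpg : IsPGroup q (↥K ⧸ Subgroup.center ↥K) := by
    intro kb
    obtain ⟨k, rfl⟩ := QuotientGroup.mk_surjective kb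
    obtain ⟨e, m, hm, hkm⟩ :=
      Nat.exists_eq_pow_mul_and_not_dvd (orderOf_pos (k : G)).ne' q hq.out.ne_one
    refine ⟨e, ?_⟩
    rw [← QuotientGroup.mk_pow, QuotientGroup.eq_one_iff, Subgroup.mem_center_iff]
    intro k'
    have hord : orderOf ((k : G) ^ (q ^ e)) = m := by
      rw [orderOf_pow_of_dvd (pow_pos hq.out.pos e).ne' (hkm ▸ Dvd.intro _ rfl), hkm]
      exact Nat.mul_div_cancel_left m (pow_pos hq.out.pos e)
    have hcop : (orderOf ((k : G) ^ (q ^ e))).Coprime q := by
      rw [hord]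
      exact ((Nat.Prime.coprime_iff_not_dvd hq.out).mpr hm).symm
    apply Subtype.ext
    exact hq' ((k : G) ^ (q ^ e)) (K.pow_mem k.2 _) hcop k'.1 k'.2
  have hnilq : Group.IsNilpotent (↥K ⧸ Subgroup.center ↥K) := hpg.isNilpotent
  have hKnil : Group.IsNilpotent ↥K :=
    Subgroup.isNilpotent_of_ker_le_center (QuotientGroup.mk' (Subgroup.center ↥K))
      (by rw [QuotientGroup.ker_mk'])
  have hKF : K ≤ Cfsg.fittingSubgroup G := le_sSup ⟨hKn, hKnil⟩
  exact hKF (Subgroup.subset_normalClosure (Set.mem_singleton x))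

theorem main [Finite G] (hG : Group.IsSolvable G)
    (hodd : Odd (Nat.card (Cfsg.fittingSubgroup G))) :
    ∀ (n : ℕ) (g : G), g ∈ Hc G → orderOf g = n → g ∈ Cfsg.fittingSubgroup G := by
  intro n
  induction n using Nat.strong_induction_on with
  | _ n ih =>
  intro g hg hn
  by_cases h1 : n = 1
  · rw [h1, orderOf_eq_one_iff] at hn
    rw [hn]; exact Subgroup.one_mem _
  · obtain ⟨q, hq, hqn⟩ := Nat.exists_prime_and_dvd h1
    have hqf : Fact q.Prime := ⟨hq⟩
    have hn0 : n ≠ 0 := by rw [← hn]; exact (orderOf_pos g).ne'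
    obtain ⟨e, m, hm, hnm⟩ := Nat.exists_eq_pow_mul_and_not_dvd hn0 q hq.ne_one
    have he : e ≠ 0 := by
      rintro rfl
      rw [pow_zero, one_mul] at hnm
      exact hm (hnm ▸ hqn)
    have hm0 : m ≠ 0 := by
      rintro rfl
      exact hn0 (by rw [hnm, mul_zero])
    have hqe : 0 < q ^ e := pow_pos hq.pos e
    -- the q-part
    have h1 : orderOf (g ^ m) = q ^ e := by
      rw [orderOf_pow_of_dvd hm0 (by rw [hn, hnm]; exact Dvd.intro_left _ rfl), hn, hnm]
      exact Nat.mul_div_cancel _ (Nat.pos_of_ne_zero hm0)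
    have h2 : orderOf (g ^ (q ^ e)) = m := by
      rw [orderOf_pow_of_dvd hqe.ne' (by rw [hn, hnm]; exact Dvd.intro _ rfl), hn, hnm]
      exact Nat.mul_div_cancel_left m hqe
    have hg1 : g ^ m ∈ Cfsg.fittingSubgroup G :=
      qelem hG hodd q (g ^ m) ((Hc G).pow_mem hg m) e h1
    have hmn : m < n := by
      rw [hnm]
      have : 2 ≤ q ^ e := by
        calc 2 ≤ q := hq.two_le
          _ = q ^ 1 := (pow_one q).symm
          _ ≤ q ^ e := Nat.pow_le_pow_right hq.pos (Nat.pos_of_ne_zero he)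
      nlinarith [Nat.pos_of_ne_zero hm0]
    have hg2 : g ^ (q ^ e) ∈ Cfsg.fittingSubgroup G :=
      ih m hmn (g ^ (q ^ e)) ((Hc G).pow_mem hg _) h2
    have hcop : Nat.Coprime m (q ^ e) :=
      Nat.Coprime.pow_right e ((Nat.Prime.coprime_iff_not_dvd hq).mpr hm).symm
    obtain ⟨u, v, huv⟩ := (Nat.isCoprime_iff_coprime.mpr hcop)
    have : g = (g ^ m) ^ u * (g ^ (q ^ e)) ^ v := by
      rw [← zpow_natCast g m, ← zpow_natCast g (q ^ e), ← zpow_mul, ← zpow_mul, ← zpow_add,
        mul_comm (m : ℤ), mul_comm ((q ^ e : ℕ) : ℤ), huv, zpow_one]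
    rw [this]
    exact Subgroup.mul_mem _ (Subgroup.zpow_mem _ hg1 u) (Subgroup.zpow_mem _ hg2 v)

/-- Let G be a finite solvable group whose Fitting subgroup F(G) has odd order. If an element g of G commutes with every element of prime order of F(G), then g ∈ F(G). -/
theorem result {G : Type*} [Group G] [Finite G] (hG : Group.IsSolvable G) (hodd : Odd (Nat.card (Cfsg.fittingSubgroup G))) (g : G) (hg : ∀ x ∈ Cfsg.fittingSubgroup G, (orderOf x).Prime → g * x = x * g) : g ∈ Cfsg.fittingSubgroup G := by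
  apply main hG hodd (orderOf g) g _ rfl
  rw [Hc, Subgroup.mem_centralizer_iff]
  intro x hx
  exact (hg x hx.1 hx.2).symm

end Cfsg.Agent.S3785
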