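import Cfsg.Statements.S3786
import Mathlib
import Cfsg.Agent.Lib.Helper31.H2A
import Cfsg.Agent.Lib.Helper31.H2Main

set_option autoImplicit false
open Cfsg

namespace Cfsg.Agent.S3786

/-- The Hall–Higman bound on p-length. Let p be an odd prime and G a finite p-soluble group whose Sylow p-subgroups have exponent dividing p^e. (a) If p is not of the form 2^k + 1, or if the Sylow 2-subgroups of G are abelian, then G has p-length at most e. (b) In every case G has p-length at most 2e. -/
theorem result {G : Type*} [Group G] [Finite G] {p : ℕ} [Fact p.Prime] (hp : p ≠ 2) (hG : Cfsg.IsPSolvable p G) (e : ℕ) (hexp : ∀ (P : Sylow p G), ∀ x ∈ (P : Subgroup G), x ^ p ^ e = 1) : (((¬ ∃ k : ℕ, p = 2 ^ k + 1) ∨ ∀ S : Sylow 2 G, IsMulCommutative (S : Subgroup G)) → Cfsg.PLengthLE p e G) ∧ Cfsg.PLengthLE p (2 * e) G := by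
  have hExp : Cfsg.Agent.Helper31.HHB.ExpLE p e G := by
    intro x ⟨k, hk⟩
    have hZ : IsPGroup p (Subgroup.zpowers x) := by
      rintro ⟨g, hg⟩
      obtain ⟨i, rfl⟩ := Subgroup.mem_zpowers_iff.mp hg
      refine ⟨k, ?_⟩
      apply Subtype.ext
      rw [Subgroup.coe_pow]
      show (x ^ i) ^ p ^ k = 1
      rw [← zpow_natCast, ← zpow_mul, mul_comm, zpow_mul, zpow_natCast, hk, one_zpow]
    obtain ⟨P, hP⟩ := hZ.exists_le_sylow
    exact hexp P x (hP (Subgroup.mem_zpowers x))
  constructor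
  · intro h
    apply Cfsg.Agent.Helper63.PLengthLE_of_PL p
    apply Cfsg.Agent.Helper31.H2.main_a hp e G hG _ hExp
    rcases h with h | h
    · exact Or.inl h
    · refine Or.inr ?_
      intro Q a ha b hb
      have h1 := (h Q).is_comm.comm (⟨a, ha⟩ : ↥(Q : Subgroup G)) ⟨b, hb⟩
      exact congrArg Subtype.val h1
  · apply Cfsg.Agent.Helper63.PLengthLE_of_PL p
    exact Cfsg.Agent.Helper31.H2.main_b hp e G hG hExp

end Cfsg.Agent.S3786
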