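import Cfsg.Statements.S3788
import Cfsg.Agent.Lib.Helper10.CycCore
import Cfsg.Agent.Lib.Helper54.PSolv

set_option autoImplicit false
open Cfsg

namespace Cfsg.Agent.S3788

/-- Let G be a finite p-soluble group, P a Sylow p-subgroup of G and A a cyclic normal subgroup of P. If p is odd, or if no section of G is isomorphic to the symmetric group of degree 4, then A ≤ O_{p',p}(G). -/
theorem result {G : Type*} [Group G] [Finite G] {p : ℕ} [Fact p.Prime] (hG : Cfsg.IsPSolvable p G) (P : Sylow p G) (A : Subgroup G) (hAP : A ≤ (P : Subgroup G)) (hAn : (P : Subgroup G) ≤ Subgroup.normalizer (A : Set G)) (hA : IsCyclic A) (h : p ≠ 2 ∨ ¬ Cfsg.Involves (Equiv.Perm (Fin 4)) G) : A ≤ Cfsg.pPrimePCore p G := by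
  have hKn : (Cfsg.pPrimeCore p G).Normal := Cfsg.Agent.Helper54.pPrimeCore_normal' (G := G) p
  set K := Cfsg.pPrimeCore p G with hK
  set π := QuotientGroup.mk' K with hπ
  have hπs : Function.Surjective π := QuotientGroup.mk'_surjective K
  have hGq : Cfsg.IsPSolvable p (G ⧸ K) := Cfsg.Agent.Helper54.IsPSolvable.quotient hG K
  have hcore : Cfsg.pPrimeCore p (G ⧸ K) = ⊥ := Cfsg.Agent.Helper54.pPrimeCore_quotient_eq_bot p
  have hS4 : p ≠ 2 ∨ ¬ Cfsg.Involves (Equiv.Perm (Fin 4)) (G ⧸ K) := by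
    rcases h with h | h
    · exact Or.inl h
    · exact Or.inr (fun hI => h (Cfsg.Agent.Helper34.TNC.involves_of_surjective' hI π hπs))
  obtain ⟨⟨a₀, ha₀A⟩, hgen⟩ := hA.exists_generator
  have hBS : Cfsg.pCore p (G ⧸ K) ≤ (P : Subgroup G).map π := by
    have := Cfsg.Agent.Helper54.pCore_le_sylow (P.mapSurjective hπs)
    rwa [Sylow.coe_mapSurjective] at this
  have hmem : π a₀ ∈ Cfsg.pCore p (G ⧸ K) := by
    apply Cfsg.Agent.Helper10.CycCore.mem_pCore_of_normalizes hGq hcore hS4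
    intro x hx
    obtain ⟨y, hyP, rfl⟩ := hBS hx
    have hyN := hAn hyP
    have h1 : y * a₀ * y⁻¹ ∈ A := (Subgroup.mem_normalizer_iff.mp hyN a₀).mp ha₀A
    obtain ⟨i, hi⟩ := Subgroup.mem_zpowers_iff.1 (hgen ⟨y * a₀ * y⁻¹, h1⟩)
    have hi' : a₀ ^ i = y * a₀ * y⁻¹ := by
      have := congrArg Subtype.val hi
      simpa using this
    refine Subgroup.mem_zpowers_iff.2 ⟨i, ?_⟩
    rw [← map_zpow, hi', map_mul, map_mul, map_inv]
  intro a ha
  obtain ⟨i, hi⟩ := Subgroup.mem_zpowers_iff.1 (hgen ⟨a, ha⟩)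
  have hi' : a₀ ^ i = a := by
    have := congrArg Subtype.val hi
    simpa using this
  rw [← hi']
  exact zpow_mem (show a₀ ∈ Cfsg.pPrimePCore p G from hmem) i

end Cfsg.Agent.S3788
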