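import Cfsg.Statements.S3790
import Cfsg.Agent.Lib.Helper63.PLen

set_option autoImplicit false
open Cfsg

namespace Cfsg.Agent.S3790

open Cfsg.Agent.Helper63

variable {G : Type*} [Group G]

/-- sub-sections inherit chains -/
lemma PL_section {s k : ℕ} [Fact s.Prime] {X Y V W : Subgroup G} (h : PL s k X Y)
    (hV : V.Normal) (hW : W.Normal) (hXV : X ≤ V) (hVW : V ≤ W) (hWY : W ≤ Y) : PL s k V W := by
  have := h.restrict V W
  have e1 : (X ⊓ W) ⊔ V = V := sup_eq_right.mpr (inf_le_left.trans hXV)
  have e2 : (Y ⊓ W) ⊔ V = W := by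
    rw [inf_eq_right.mpr hWY]; exact sup_eq_left.mpr hVW
  rwa [e1, e2] at this

lemma relIndex_section_dvd {X Y V W : Subgroup G} (hXV : X ≤ V) (hVW : V ≤ W) (hWY : W ≤ Y) :
    V.relIndex W ∣ X.relIndex Y :=
  (Subgroup.relIndex_dvd_of_le_left W hXV).trans (relIndex_dvd_of_le_right' (hXV.trans hVW) hWY)

theorem rel_bound [Finite G] (p : ℕ) [hp : Fact p.Prime] : ∀ (r : ℕ) (q l : Fin r → ℕ),
    (∀ i, (q i).Prime ∧ q i ≠ p) →
    ∀ X Y : Subgroup G, X.Normal → Y.Normal → X ≤ Y →
    (∀ s : ℕ, s.Prime → s ∣ X.relIndex Y → s = p ∨ ∃ i, q i = s) →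
    (∀ i, PL (q i) (l i) X Y) → PL p (∏ i, (1 + l i)) X Y := by
  intro r
  induction r with
  | zero =>
    intro q l _ X Y hX hY hXY hprimes _
    have hne : X.relIndex Y ≠ 0 := (relIndex_pos_of_finite X Y).ne'
    have hpow : X.relIndex Y = p ^ (X.relIndex Y).primeFactorsList.length := by
      apply Nat.eq_prime_pow_of_unique_prime_dvd hne
      intro d hd hdvd
      rcases hprimes d hd hdvd with h | ⟨i, _⟩
      · exact h
      · exact i.elim0
    have : (∏ i : Fin 0, (1 + l i)) = 1 := by simp
    rw [this]
    exact PL.of_pow hXY hX hY ⟨_, hpow⟩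
  | succ r ihr =>
    intro q l hq X Y hX hY hXY hprimes hPL
    set s := q (Fin.last r) with hs
    set k := l (Fin.last r) with hk
    set q' : Fin r → ℕ := fun i => q i.castSucc with hq'
    set l' : Fin r → ℕ := fun i => l i.castSucc with hl'
    set L' := ∏ i : Fin r, (1 + l' i) with hL'
    have hsprime : s.Prime := (hq (Fin.last r)).1
    have hsp : s ≠ p := (hq (Fin.last r)).2
    have hq'p : ∀ i, (q' i).Prime ∧ q' i ≠ p := fun i => hq i.castSucc
    -- sections coprime to s
    have hsec : ∀ V W : Subgroup G, V.Normal → W.Normal → X ≤ V → V ≤ W → W ≤ Y →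
        (V.relIndex W).Coprime s → PL p L' V W := by
      intro V W hV hW hXV hVW hWY hcop
      apply ihr q' l' hq'p V W hV hW hVW
      · intro t ht htdvd
        rcases hprimes t ht (htdvd.trans (relIndex_section_dvd hXV hVW hWY)) with h | ⟨i, hi⟩
        · left; exact h
        · right
          rcases Fin.eq_castSucc_or_eq_last i with ⟨j, rfl⟩ | rfl
          · exact ⟨j, hi⟩
          · exfalso
            have h1 : s ∣ V.relIndex W := by rw [hs, hi]; exact htdvd
            have h2 := Nat.Coprime.eq_one_of_dvd hcop.symm h1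
            exact hsprime.one_lt.ne' h2
      · intro i
        have : Fact (q i.castSucc).Prime := ⟨(hq i.castSucc).1⟩
        exact PL_section (hPL i.castSucc) hV hW hXV hVW hWY
    -- inner induction
    have inner : ∀ (k' : ℕ) (X' Y' : Subgroup G), PL s k' X' Y' → X ≤ X' → Y' ≤ Y →
        PL p ((k' + 1) * L') X' Y' := by
      intro k' X' Y' h
      induction h with
      | base A B hAB hA hB hc =>
        intro hXA hBY
        have := hsec A B hA hB hXA hAB hBY hc
        simpa using this
      | step k'' A B C D h' hBC hCD hC hD hpow hc ih =>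
        intro hXA hDY
        have hAB : A ≤ B := h'.le
        have hB : B.Normal := h'.normal_right
        have h1 := ih hXA (hBC.trans (hCD.trans hDY))
        have h2 : PL p 0 B C := by
          refine PL.base B C hBC hB hC ?_
          obtain ⟨m, hm⟩ := hpow
          rw [hm]
          apply Nat.Coprime.pow_left
          exact (Nat.coprime_primes hsprime hp.out).mpr hsp
        have h3 : PL p L' C D :=
          hsec C D hC hD (hXA.trans (hAB.trans hBC)) hCD hDY hc
        have h4 := (h1.trans h2).trans h3
        have e : (k'' + 1) * L' + 0 + L' = (k'' + 1 + 1) * L' := by ring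
        rwa [e] at h4
    have hfinal := inner k X Y (hPL (Fin.last r)) le_rfl le_rfl
    have e : (∏ i : Fin (r + 1), (1 + l i)) = (k + 1) * L' := by
      rw [Fin.prod_univ_castSucc]
      ring
    rw [e]; exact hfinal

/-- Let G be a finite solvable group and p a prime. Suppose p₁, …, p_r are distinct primes, all different from p, that include every prime dividing the order of G other than p, and that G has p_i-length at most l_i for each i. Then G has p-length at most the product of the numbers 1 + l_i. -/
theorem result {G : Type*} [Group G] [Finite G] (hG : Group.IsSolvable G) (p : ℕ) [Fact p.Prime] (r : ℕ) (q : Fin r → ℕ) (hq : ∀ i, (q i).Prime ∧ q i ≠ p) (hinj : Function.Injective q) (hcover : ∀ s : ℕ, s.Prime → s ∣ Nat.card G → s ≠ p → ∃ i, q i = s) (l : Fin r → ℕ) (hl : ∀ i, Cfsg.PLengthLE (q i) (l i) G) : Cfsg.PLengthLE p (Finset.univ.prod fun i => 1 + l i) G := by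
  apply PLengthLE_of_PL
  apply rel_bound p r q l hq ⊥ ⊤ inferInstance inferInstance bot_le
  · intro s hs hdvd
    rw [Subgroup.relIndex_bot_left, Subgroup.card_top] at hdvd
    by_cases hsp : s = p
    · left; exact hsp
    · right; exact hcover s hs hdvd hsp
  · intro i
    have : Fact (q i).Prime := ⟨(hq i).1⟩
    exact PL_of_PLengthLE (q i) (hl i)

end Cfsg.Agent.S3790
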