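import Cfsg.Statements.S3791
import Cfsg.Agent.Lib.Helper63.PLen
import Cfsg.Agent.S3790

set_option autoImplicit false
open Cfsg

namespace Cfsg.Agent.S3791

open Cfsg.Agent.Helper63

variable {G : Type*} [Group G]

/-- iterated commutator subgroups of a subgroup, inside the ambient group -/
def der (Y : Subgroup G) : ℕ → Subgroup G
  | 0 => Y
  | n + 1 => ⁅der Y n, der Y n⁆

lemma der_zero (Y : Subgroup G) : der Y 0 = Y := rfl
lemma der_succ (Y : Subgroup G) (n : ℕ) : der Y (n + 1) = ⁅der Y n, der Y n⁆ := rfl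

lemma der_top (n : ℕ) : der (⊤ : Subgroup G) n = derivedSeries G n := by
  induction n with
  | zero => rfl
  | succ n ih => rw [der_succ, ih, derivedSeries_succ]

lemma der_mono {Y Y' : Subgroup G} (h : Y ≤ Y') (n : ℕ) : der Y n ≤ der Y' n := by
  induction n with
  | zero => exact h
  | succ n ih => rw [der_succ, der_succ]; exact Subgroup.commutator_mono ih ih

lemma der_add (Y : Subgroup G) (a b : ℕ) : der Y (a + b) = der (der Y a) b := by
  induction b with
  | zero => rfl
  | succ b ih => rw [← add_assoc, der_succ, ih, der_succ]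

lemma der_le (Y : Subgroup G) (n : ℕ) : der Y n ≤ Y := by
  induction n with
  | zero => exact le_rfl
  | succ n ih =>
    rw [der_succ]
    calc ⁅der Y n, der Y n⁆ ≤ ⁅Y, Y⁆ := Subgroup.commutator_mono ih ih
      _ ≤ Y := by
        rw [Subgroup.commutator_le]
        intro a ha b hb
        exact Y.mul_mem (Y.mul_mem (Y.mul_mem ha hb) (Y.inv_mem ha)) (Y.inv_mem hb)

lemma map_derivedSeries (S : Subgroup G) (n : ℕ) :
    (derivedSeries ↥S n).map S.subtype = der S n := by
  induction n with
  | zero =>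
    rw [derivedSeries_zero, der_zero, ← MonoidHom.range_eq_map, S.range_subtype]
  | succ n ih =>
    rw [derivedSeries_succ, der_succ, Subgroup.map_commutator, ih]

lemma commutator_sup_le (S V : Subgroup G) [V.Normal] : ⁅S ⊔ V, S ⊔ V⁆ ≤ ⁅S, S⁆ ⊔ V := by
  have h1 : (⁅S ⊔ V, S ⊔ V⁆).map (QuotientGroup.mk' V) = (⁅S, S⁆).map (QuotientGroup.mk' V) := by
    rw [Subgroup.map_commutator, Subgroup.map_commutator, Subgroup.map_sup]
    have : V.map (QuotientGroup.mk' V) = ⊥ := by
      apply (Subgroup.map_eq_bot_iff V).mpr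
      rw [QuotientGroup.ker_mk']
    rw [this, sup_bot_eq]
  calc ⁅S ⊔ V, S ⊔ V⁆ ≤ ((⁅S ⊔ V, S ⊔ V⁆).map (QuotientGroup.mk' V)).comap (QuotientGroup.mk' V) :=
        Subgroup.le_comap_map _ _
    _ = ((⁅S, S⁆).map (QuotientGroup.mk' V)).comap (QuotientGroup.mk' V) := by rw [h1]
    _ = ⁅S, S⁆ ⊔ V := by rw [Subgroup.comap_map_eq, QuotientGroup.ker_mk']

lemma der_sup_le (S V : Subgroup G) [V.Normal] (n : ℕ) : der (S ⊔ V) n ≤ der S n ⊔ V := by
  induction n with
  | zero => exact le_rfl
  | succ n ih =>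
    rw [der_succ, der_succ]
    exact (Subgroup.commutator_mono ih ih).trans (commutator_sup_le _ _)

/-- left decomposition of a chain -/
lemma PL_left {s k : ℕ} {X Y : Subgroup G} (h : PL s k X Y) :
    ∃ V : Subgroup G, X ≤ V ∧ V.Normal ∧ V ≤ Y ∧ (X.relIndex V).Coprime s ∧
      ((k = 0 ∧ V = Y) ∨ ∃ (k' : ℕ) (C : Subgroup G), k = k' + 1 ∧ V ≤ C ∧ C.Normal ∧ C ≤ Y ∧
        (∃ m : ℕ, V.relIndex C = s ^ m) ∧ PL s k' C Y) := by
  induction h with
  | base A B hAB hA hB hc =>
    exact ⟨B, hAB, hB, le_rfl, hc, Or.inl ⟨rfl, rfl⟩⟩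
  | step k A B C D h' hBC hCD hC hD hpow hc ih =>
    obtain ⟨V, hAV, hV, hVB, hcop, hcase⟩ := ih
    refine ⟨V, hAV, hV, hVB.trans (hBC.trans hCD), hcop, Or.inr ?_⟩
    rcases hcase with ⟨hk0, hVB'⟩ | ⟨k', C₁, hk, hVC₁, hC₁, hC₁B, hpow₁, hPL₁⟩
    · subst hk0
      subst hVB'
      exact ⟨0, C, rfl, hBC, hC, hCD, hpow, PL.base C D hCD hC hD hc⟩
    · subst hk
      exact ⟨k' + 1, C₁, rfl, hVC₁, hC₁, hC₁B.trans (hBC.trans hCD), hpow₁,
        PL.step k' C₁ B C D hPL₁ hBC hCD hC hD hpow hc⟩

/-- sections that are `s`-groups have derived length bounded by that of the Sylow `s`-subgroups -/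
lemma der_section_le [Finite G] (s : ℕ) [hs : Fact s.Prime] (d : ℕ)
    (hd : ∀ P : Sylow s G, der (P : Subgroup G) d = ⊥)
    (V C : Subgroup G) [hV : V.Normal] (hVC : V ≤ C) (hpow : ∃ m : ℕ, V.relIndex C = s ^ m) :
    der C d ≤ V := by
  obtain ⟨Q⟩ : Nonempty (Sylow s ↥C) := inferInstance
  set S : Subgroup G := (Q : Subgroup ↥C).map C.subtype with hS
  have hSC : S ≤ C := by
    rintro _ ⟨x, _, rfl⟩; exact x.2
  have hSp : IsPGroup s S := Q.isPGroup'.map _
  obtain ⟨P, hSP⟩ := hSp.exists_le_sylow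
  have hT : S ⊔ V = C := by
    apply le_antisymm (sup_le hSC hVC)
    rw [← Subgroup.relIndex_eq_one]
    obtain ⟨m, hm⟩ := hpow
    have h1 : (S ⊔ V).relIndex C ∣ s ^ m := by
      rw [← hm]; exact Subgroup.relIndex_dvd_of_le_left C le_sup_right
    have h2 : (S ⊔ V).relIndex C ∣ S.relIndex C := Subgroup.relIndex_dvd_of_le_left C le_sup_left
    have h3 : ¬ s ∣ S.relIndex C := by
      have : S.subgroupOf C = (Q : Subgroup ↥C) := by
        ext x
        rw [Subgroup.mem_subgroupOf, hS, Subgroup.mem_map]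
        constructor
        · rintro ⟨y, hy, hyx⟩
          have : y = x := Subtype.ext hyx
          rw [← this]; exact hy
        · intro hx
          exact ⟨x, hx, rfl⟩
      unfold Subgroup.relIndex
      rw [this]
      exact Q.not_dvd_index
    obtain ⟨j, _, hj⟩ := (Nat.dvd_prime_pow hs.out).mp h1
    rcases j with _ | j
    · simpa using hj
    · exfalso
      apply h3
      exact (dvd_trans (by rw [hj]; exact dvd_pow_self s (Nat.succ_ne_zero j)) h2)
  calc der C d = der (S ⊔ V) d := by rw [hT]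
    _ ≤ der S d ⊔ V := der_sup_le S V d
    _ ≤ der (P : Subgroup G) d ⊔ V := sup_le_sup_right (der_mono hSP d) V
    _ = V := by rw [hd P, bot_sup_eq]

theorem der_bound [Finite G] (r : ℕ) (q d : Fin r → ℕ) (hq : ∀ i, (q i).Prime)
    (hd : ∀ i, ∀ P : Sylow (q i) G, der (P : Subgroup G) (d i) = ⊥) :
    ∀ (N : ℕ) (k : Fin r → ℕ), ∑ i, k i = N → ∀ X Y : Subgroup G, X.Normal → Y.Normal → X ≤ Y →
      (∀ s : ℕ, s.Prime → s ∣ X.relIndex Y → ∃ i, q i = s) →
      (∀ i, PL (q i) (k i) X Y) → der Y (∑ i, d i * k i) ≤ X := by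
  intro N
  induction N using Nat.strong_induction_on with
  | _ N ih =>
  intro k hkN X Y hX hY hXY hprimes hPL
  set m := ∑ i, d i * k i with hm
  -- for each i, der Y m ≤ V_i
  have key : ∀ i, ∃ V : Subgroup G, X ≤ V ∧ V ≤ Y ∧ (X.relIndex V).Coprime (q i) ∧ der Y m ≤ V := by
    intro i
    obtain ⟨V, hXV, hV, hVY, hcop, hcase⟩ := PL_left (hPL i)
    refine ⟨V, hXV, hVY, hcop, ?_⟩
    rcases hcase with ⟨_, hVY'⟩ | ⟨k', C, hk, hVC, hC, hCY, hpow, hPLC⟩
    · rw [hVY']; exact der_le Y m
    · -- new exponent vector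
      set k₂ : Fin r → ℕ := fun j => if j = i then k' else k j with hk₂
      have hsum1 : ∑ j, k j = ∑ j, k₂ j + 1 := by
        have : ∀ j, k j = k₂ j + (if j = i then 1 else 0) := by
          intro j
          by_cases hj : j = i
          · subst hj; simp [hk₂, hk]
          · simp [hk₂, hj]
        rw [Finset.sum_congr rfl (fun j _ => this j), Finset.sum_add_distrib]
        simp
      have hsum2 : m = ∑ j, d j * k₂ j + d i := by
        have : ∀ j, d j * k j = d j * k₂ j + (if j = i then d i else 0) := by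
          intro j
          by_cases hj : j = i
          · subst hj; simp [hk₂, hk]; ring
          · simp [hk₂, hj]
        rw [hm, Finset.sum_congr rfl (fun j _ => this j), Finset.sum_add_distrib]
        simp
      have hlt : ∑ j, k₂ j < N := by omega
      have hXC : X ≤ C := hXV.trans hVC
      have h1 : der Y (∑ j, d j * k₂ j) ≤ C := by
        apply ih (∑ j, k₂ j) hlt k₂ rfl C Y hC hY hCY
        · intro s hs hdvd
          exact hprimes s hs (hdvd.trans (Cfsg.Agent.S3790.relIndex_section_dvd hXC hCY le_rfl))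
        · intro j
          by_cases hj : j = i
          · subst hj
            simp only [hk₂, if_true]
            exact hPLC
          · simp only [hk₂, hj, if_false]
            have : Fact (q j).Prime := ⟨hq j⟩
            exact Cfsg.Agent.S3790.PL_section (hPL j) hC hY hXC hCY le_rfl
      have : Fact (q i).Prime := ⟨hq i⟩
      have := hV
      have h2 : der C (d i) ≤ V := der_section_le (q i) (d i) (hd i) V C hVC hpow
      rw [hsum2, der_add]
      exact (der_mono h1 (d i)).trans h2
  -- intersection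
  choose V hXV hVY hcop hder using key
  set I : Subgroup G := Y ⊓ ⨅ i, V i with hI
  have hXI : X ≤ I := le_inf hXY (le_iInf hXV)
  have hIY : I ≤ Y := inf_le_left
  have hderI : der Y m ≤ I := le_inf (der_le Y m) (le_iInf hder)
  have hone : X.relIndex I = 1 := by
    by_contra hne
    obtain ⟨t, ht, htdvd⟩ := Nat.exists_prime_and_dvd hne
    obtain ⟨i, hi⟩ := hprimes t ht (htdvd.trans (relIndex_dvd_of_le_right' hXI hIY))
    have hIV : I ≤ V i := inf_le_right.trans (iInf_le _ i)
    have h1 : t ∣ X.relIndex (V i) := htdvd.trans (relIndex_dvd_of_le_right' hXI hIV)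
    have h2 := Nat.Coprime.eq_one_of_dvd (hcop i).symm (hi ▸ h1)
    exact (hq i).one_lt.ne' h2
  exact hderI.trans (Subgroup.relIndex_eq_one.mp hone)

/-- The Hall–Higman bound on derived length: let G be a finite solvable group, let p₁, …, p_r be distinct primes that include every prime dividing the order of G, and suppose that for each i the Sylow p_i-subgroups of G have derived length at most d_i and G has p_i-length at most l_i. Then G has derived length at most Σ d_i l_i. -/
theorem result {G : Type*} [Group G] [Finite G] (hG : Group.IsSolvable G) (r : ℕ) (q : Fin r → ℕ) (hq : ∀ i, (q i).Prime) (hinj : Function.Injective q) (hcover : ∀ s : ℕ, s.Prime → s ∣ Nat.card G → ∃ i, q i = s) (d l : Fin r → ℕ) (hd : ∀ i, ∀ P : Subgroup G, (haveI := Fact.mk (hq i); ∃ S : Sylow (q i) G, (S : Subgroup G) = P) → derivedSeries ↥P (d i) = ⊥) (hl : ∀ i, Cfsg.PLengthLE (q i) (l i) G) : derivedSeries G (Finset.univ.sum fun i => d i * l i) = ⊥ := by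
  have hd' : ∀ i, ∀ P : Sylow (q i) G, der (P : Subgroup G) (d i) = ⊥ := by
    intro i P
    have h1 := hd i (P : Subgroup G) ⟨P, rfl⟩
    rw [← map_derivedSeries, h1, Subgroup.map_bot]
  have hPL : ∀ i, PL (q i) (l i) (⊥ : Subgroup G) ⊤ := by
    intro i
    have : Fact (q i).Prime := ⟨hq i⟩
    exact PL_of_PLengthLE (q i) (hl i)
  have := der_bound r q d hq hd' (∑ i, l i) l rfl ⊥ ⊤ inferInstance inferInstance bot_le
    (by
      intro s hs hdvd
      rw [Subgroup.relIndex_bot_left, Subgroup.card_top] at hdvd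
      exact hcover s hs hdvd) hPL
  rw [der_top] at this
  exact le_bot_iff.mp this

end Cfsg.Agent.S3791
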