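import Cfsg.Statements.S3796
import Mathlib
import Cfsg.Agent.Lib.Helper31.WardMain
-- import your own Cfsg.Agent.* helpers here

set_option autoImplicit false
open Cfsg

namespace Cfsg.Agent.S3796

open Cfsg.Agent.Helper31.Ward in
/-- The hypotheses of Ward's theorem hold in the semidirect product. -/
theorem hyp_semidirect {G : Type*} [Group G] [Finite G] (hG : Group.IsSolvable G) {p : ℕ}
    [hp : Fact p.Prime] (A : Subgroup (MulAut G)) (hA : Cfsg.IsElementaryAbelian p A)
    (hcard : Nat.card A = p ^ 2) (hfpf : ∀ g : G, (∀ a ∈ A, a g = g) → g = 1) :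
    Hyp (SemidirectProduct.inl : G →* G ⋊[A.subtype] ↥A).range
      (SemidirectProduct.inr : ↥A →* G ⋊[A.subtype] ↥A).range p := by
  have hAcomm : ∀ a b : ↥A, a * b = b * a := by
    intro a b
    exact (hA.1).is_comm.comm a b
  have hApG : IsPGroup p ↥A := by
    intro a
    refine ⟨1, Subtype.ext ?_⟩
    rw [pow_one]
    simpa using hA.2 a a.2
  refine
    { hGn := by
        rw [SemidirectProduct.range_inl_eq_ker_rightHom]
        infer_instance
      hsolv := by
        haveI := hG
        exact Group.isSolvable_of_surjective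
          (SemidirectProduct.inl : G →* G ⋊[A.subtype] ↥A).rangeRestrict_surjective
      hAc := by
        rintro _ ⟨a, rfl⟩ _ ⟨b, rfl⟩
        rw [← map_mul, ← map_mul, hAcomm a b]
      hAp := by
        rintro _ ⟨a, rfl⟩
        rw [← map_pow]
        have : a ^ p = 1 := Subtype.ext (by simpa using hA.2 a a.2)
        rw [this, map_one]
      hAcard := by
        rw [← hcard]
        exact (Nat.card_congr (MonoidHom.ofInjective
          (SemidirectProduct.inr_injective (φ := A.subtype))).toEquiv).symm
      hGp := ?_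
      hfix := ?_ }
  · have h1 : Nat.card (SemidirectProduct.inl : G →* G ⋊[A.subtype] ↥A).range = Nat.card G :=
      (Nat.card_congr (MonoidHom.ofInjective
        (SemidirectProduct.inl_injective (φ := A.subtype))).toEquiv).symm
    rw [h1]
    have h2 := hApG.card_modEq_card_fixedPoints G
    have h3 : MulAction.fixedPoints ↥A G = {1} := by
      ext g
      simp only [MulAction.mem_fixedPoints, Set.mem_singleton_iff]
      constructor
      · intro hg
        exact hfpf g (fun a ha => hg ⟨a, ha⟩)
      · rintro rfl a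
        exact map_one (a : MulAut G)
    rw [h3] at h2
    have h4 : Nat.card (({1} : Set G)) = 1 := by simp
    rw [h4] at h2
    -- |G| ≡ 1 mod p
    rw [Nat.coprime_comm, Nat.Prime.coprime_iff_not_dvd hp.out]
    intro hdvd
    have h5 : Nat.card G % p = 0 := Nat.mod_eq_zero_of_dvd hdvd
    have h6 : Nat.card G % p = 1 % p := h2
    rw [h5, Nat.mod_eq_of_lt hp.out.one_lt] at h6
    exact absurd h6 (by norm_num)
  · rintro _ ⟨g, rfl⟩ hfx
    have : g = 1 := by
      apply hfpf
      intro a ha
      have h1 := hfx (SemidirectProduct.inr ⟨a, ha⟩) ⟨⟨a, ha⟩, rfl⟩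
      have h2 : (SemidirectProduct.inl ((A.subtype ⟨a, ha⟩) g) : G ⋊[A.subtype] ↥A) =
          SemidirectProduct.inl g := by
        rw [SemidirectProduct.inl_aut, h1]
        rw [mul_assoc, ← map_mul, mul_inv_cancel, map_one, mul_one]
      exact SemidirectProduct.inl_injective h2
    rw [this, map_one]

/-- Ward's Theorem: let G be a finite solvable group and A an elementary abelian group of automorphisms of G of order p² (p a prime) with no non-identity common fixed point. Then G has Fitting height at most 2: G has Fitting height at most m when there is a chain of normal subgroups 1 = F₀ ≤ F₁ ≤ ⋯ ≤ F_m = G with each F_{i+1}/F_i nilpotent. -/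
theorem result {G : Type*} [Group G] [Finite G] (hG : Group.IsSolvable G) {p : ℕ} (hp : p.Prime) (A : Subgroup (MulAut G)) (hA : Cfsg.IsElementaryAbelian p A) (hcard : Nat.card A = p ^ 2) (hfpf : ∀ g : G, (∀ a ∈ A, a g = g) → g = 1) : ∃ F : Fin (2 + 1) → Subgroup G, F 0 = ⊥ ∧ F (Fin.last 2) = ⊤ ∧ Monotone F ∧ (∀ i, (F i).Normal) ∧ ∀ i : Fin 2, ∃ k : ℕ, (F i.succ).lowerCentralSeries k ≤ F i.castSucc := by
  haveI := Fact.mk hp
  haveI hAfin : Finite ↥A := by
    apply Nat.finite_of_card_ne_zero
    rw [hcard]
    exact pow_ne_zero 2 hp.ne_zero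
  haveI : Finite (G ⋊[A.subtype] ↥A) := Finite.of_equiv _ SemidirectProduct.equivProd.symm
  have hyp := hyp_semidirect hG A hA hcard hfpf
  set inl := (SemidirectProduct.inl : G →* G ⋊[A.subtype] ↥A) with hinl
  obtain ⟨N, hNG, hNn, hNnil, k, hk⟩ :=
    Cfsg.Agent.Helper31.Ward.ward_aux _ (G ⋊[A.subtype] ↥A) inl.range
      (SemidirectProduct.inr : ↥A →* G ⋊[A.subtype] ↥A).range p rfl hyp
  set N₀ : Subgroup G := N.comap inl with hN₀
  have hN₀n : N₀.Normal := hNn.comap _
  have hN₀nil : Group.IsNilpotent ↥N₀ := by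
    apply Cfsg.Agent.S1473.isNilpotent_of_injective hNnil (inl.subgroupComap N)
    intro x y hxy
    apply Subtype.ext
    apply SemidirectProduct.inl_injective (φ := A.subtype)
    exact congrArg Subtype.val hxy
  obtain ⟨k₀, hk₀⟩ := (Subgroup.isNilpotent_iff_lowerCentralSeries N₀).mp hN₀nil
  refine ⟨![⊥, N₀, ⊤], rfl, rfl, ?_, ?_, ?_⟩
  · intro i j hij
    fin_cases i <;> fin_cases j <;> first
      | exact le_rfl
      | exact bot_le
      | exact le_top
      | (exfalso; revert hij; decide)
  · intro i
    fin_cases i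
    · show (⊥ : Subgroup G).Normal
      infer_instance
    · exact hN₀n
    · show (⊤ : Subgroup G).Normal
      infer_instance
  · intro i
    fin_cases i
    · refine ⟨k₀, ?_⟩
      show N₀.lowerCentralSeries k₀ ≤ ⊥
      rw [hk₀]
    · refine ⟨k, ?_⟩
      show (⊤ : Subgroup G).lowerCentralSeries k ≤ N₀
      rw [hN₀, ← Subgroup.map_le_iff_le_comap, Subgroup.map_lowerCentralSeries,
        ← MonoidHom.range_eq_map]
      exact hk

end Cfsg.Agent.S3796
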