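import Cfsg.Statements.S3797
import Cfsg.Agent.Lib.Helper89.TH1Main

set_option autoImplicit false
open Cfsg

namespace Cfsg.Agent.S3797

open Cfsg.Agent.Helper89.TH1

/-- a nontrivial finite 2-group has a central involution. -/
theorem exists_central_involution {P : Type*} [Group P] [Finite P] (hP : IsPGroup 2 P)
    [Nontrivial P] : ∃ z : P, z ≠ 1 ∧ z ^ 2 = 1 ∧ ∀ s : P, z * s = s * z := by
  have : Fact (Nat.Prime 2) := ⟨Nat.prime_two⟩
  have hnt : Nontrivial (Subgroup.center P) := hP.center_nontrivial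
  obtain ⟨⟨z₀, hz₀⟩, hne⟩ := exists_ne (1 : Subgroup.center P)
  have hz₀1 : z₀ ≠ 1 := fun h => hne (Subtype.ext h)
  obtain ⟨k, hk⟩ := hP z₀
  -- minimal exponent
  have hex : ∃ k : ℕ, z₀ ^ 2 ^ k = 1 := ⟨k, hk⟩
  classical
  let k₀ := Nat.find hex
  have hk₀ : z₀ ^ 2 ^ k₀ = 1 := Nat.find_spec hex
  have hk₀pos : k₀ ≠ 0 := by
    intro h0
    rw [h0] at hk₀
    simp at hk₀
    exact hz₀1 hk₀
  obtain ⟨j, hj⟩ := Nat.exists_eq_succ_of_ne_zero hk₀pos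
  refine ⟨z₀ ^ 2 ^ j, ?_, ?_, ?_⟩
  · intro h
    have : k₀ ≤ j := Nat.find_min' hex h
    omega
  · rw [← pow_mul, ← pow_succ]
    rw [hj] at hk₀
    exact hk₀
  · intro s
    have hc : s * z₀ = z₀ * s := (Subgroup.mem_center_iff.mp hz₀) s
    have : Commute z₀ s := hc.symm
    exact (this.pow_left _).eq

theorem result {G : Type*} [Group G] [Finite G] (hG : Group.IsSolvable G) (heven : Even (Nat.card G)) (S : Sylow 2 G) (htwo : ∃ x y : G, x ∈ (S : Subgroup G) ∧ y ∈ (S : Subgroup G) ∧ x ≠ y ∧ x ≠ 1 ∧ x ^ 2 = 1 ∧ y ≠ 1 ∧ y ^ 2 = 1) (hconj : ∀ x y : G, x ≠ 1 → x ^ 2 = 1 → y ≠ 1 → y ^ 2 = 1 → IsConj x y) : Cfsg.PLengthLE 2 1 G ∧ ((∃ m r : ℕ, Nonempty (↥(S : Subgroup G) ≃* (Fin r → Multiplicative (ZMod (2 ^ m))))) ∨ (¬ IsMulCommutative (S : Subgroup G) ∧ ∃ Y : Subgroup (MulAut ↥(S : Subgroup G)), Group.IsSolvable Y ∧ ∀ x y : ↥(S : Subgroup G), x ≠ 1 → x ^ 2 = 1 → y ≠ 1 → y ^ 2 = 1 →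 ∃ a ∈ Y, a x = y)) := by
  have h1 : OneClass G := hconj
  have h2 : TwoInv G := by
    obtain ⟨x, y, hxS, hyS, hxy, hx1, hx2, hy1, hy2⟩ := htwo
    have hnt : Nontrivial ↥(S : Subgroup G) :=
      ⟨⟨⟨x, hxS⟩, 1, fun h => hx1 (congrArg Subtype.val h)⟩⟩
    obtain ⟨z, hz1, hz2, hzc⟩ := exists_central_involution S.isPGroup'
    have hzx : ∀ s : G, s ∈ (S : Subgroup G) → (z : G) * s = s * (z : G) := by
      intro s hs
      have := hzc ⟨s, hs⟩
      exact congrArg Subtype.val this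
    have hz1' : (z : G) ≠ 1 := fun h => hz1 (Subtype.ext h)
    have hz2' : (z : G) ^ 2 = 1 := by
      have := congrArg Subtype.val hz2
      simpa using this
    by_cases hzx' : (z : G) = x
    · exact ⟨x, y, hxy, hx1, hx2, hy1, hy2, by rw [← hzx']; exact hzx y hyS⟩
    · exact ⟨(z : G), x, hzx', hz1', hz2', hx1, hx2, hzx x hxS⟩
  have hidx := index_odd hG h2 h1
  refine ⟨plength_of_index hidx, ?_⟩
  exact sylow_struct hG h1 hidx S

end Cfsg.Agent.S3797
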