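import Cfsg.Statements.S3803
import Cfsg.Agent.Lib.Helper52.CoprimeSylow

set_option autoImplicit false
open Pointwise
open Cfsg

namespace Cfsg.Agent.S3803

open Subgroup
open scoped commutatorElement

variable {X : Type*} [Group X]

/-- odd order and a `2`-group: coprime orders -/
theorem coprime_of_odd_of_two [Finite X] {A H : Subgroup X} (hA : Odd (Nat.card A))
    (hH : IsPGroup 2 H) : (Nat.card A).Coprime (Nat.card H) := by
  obtain ⟨n, hn⟩ := IsPGroup.iff_card.mp hH
  rw [hn]
  exact Nat.Coprime.pow_right n (Nat.coprime_two_right.mpr hA)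

theorem solv_of_two [Finite X] {A H : Subgroup X} (hH : IsPGroup 2 H) :
    Group.IsSolvable A ∨ Group.IsSolvable H := by
  right
  have := Fact.mk Nat.prime_two
  have : Group.IsNilpotent H := hH.isNilpotent
  infer_instance

/-- In a `2`-group `P`, a subgroup of order at most `2^k` lies in a subgroup of order `2^k`. -/
theorem exists_between [Finite X] {P K : Subgroup X} (hP : IsPGroup 2 P) (hKP : K ≤ P) (k : ℕ)
    (hk : 2 ^ k ∣ Nat.card P) (hK : Nat.card K ≤ 2 ^ k) :
    ∃ E : Subgroup X, K ≤ E ∧ E ≤ P ∧ Nat.card E = 2 ^ k := by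
  have := Fact.mk Nat.prime_two
  have hK2 : IsPGroup 2 K := hP.to_le hKP
  obtain ⟨j, hj⟩ := IsPGroup.iff_card.mp hK2
  have hjk : j ≤ k := by
    rw [hj] at hK
    exact (Nat.pow_le_pow_iff_right (by norm_num)).mp hK
  have h1 : Nat.card (K.subgroupOf P) = 2 ^ j := by
    rw [← hj]
    exact Nat.card_congr (subgroupOfEquivOfLe hKP).toEquiv
  obtain ⟨E', hE', hKE'⟩ := Sylow.exists_subgroup_card_pow_prime_le 2 hk (K.subgroupOf P) h1 hjk
  refine ⟨E'.map P.subtype, ?_, ?_, ?_⟩
  · intro x hx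
    exact ⟨⟨x, hKP hx⟩, hKE' (mem_subgroupOf.mpr hx), rfl⟩
  · rintro _ ⟨y, _, rfl⟩
    exact y.2
  · rw [card_map_of_injective P.subtype_injective, hE']

/-- An odd-order group normalizing a cyclic `2`-group centralizes it. -/
theorem le_centralizer_of_isCyclic [Finite X] (H A : Subgroup X) (hH : IsPGroup 2 H)
    (hcyc : IsCyclic H) (hA : Odd (Nat.card A)) (hAH : A ≤ normalizer (H : Set X)) :
    A ≤ centralizer (H : Set X) := by
  intro a ha
  have h1 : (⟨a, hAH ha⟩ : normalizer (H : Set X)) ∈ H.normalizerMonoidHom.ker := by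
    rw [MonoidHom.mem_ker]
    rw [← orderOf_eq_one_iff]
    have h2 : orderOf (H.normalizerMonoidHom ⟨a, hAH ha⟩) ∣ Nat.card A := by
      refine (orderOf_map_dvd _ _).trans ?_
      have h3 : orderOf (⟨a, hAH ha⟩ : normalizer (H : Set X)) = orderOf a :=
        Subgroup.orderOf_mk a (hAH ha)
      rw [h3]
      have h4 : orderOf (⟨a, ha⟩ : A) = orderOf a := Subgroup.orderOf_mk a ha
      rw [← h4]
      exact orderOf_dvd_natCard _
    have h5 : orderOf (H.normalizerMonoidHom ⟨a, hAH ha⟩) ∣ Nat.card (MulAut H) :=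
      orderOf_dvd_natCard _
    rw [IsCyclic.card_mulAut] at h5
    obtain ⟨n, hn⟩ := IsPGroup.iff_card.mp hH
    rw [hn] at h5
    have h6 : (Nat.card A).Coprime ((2 ^ n).totient) := by
      rcases Nat.eq_zero_or_pos n with h0 | h0
      · rw [h0, pow_zero, Nat.totient_one]
        exact Nat.coprime_one_right _
      · rw [Nat.totient_prime_pow Nat.prime_two h0]
        simp only [Nat.add_one_sub_one, mul_one]
        exact Nat.Coprime.pow_right _ (Nat.coprime_two_right.mpr hA)
    exact Nat.eq_one_of_dvd_coprimes h6 h2 h5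
  rw [normalizerMonoidHom_ker, mem_subgroupOf] at h1
  exact h1

/-- `A` normalizes `P` and its subgroup `E` of index `2`: then `[P, A] ≤ E`. -/
theorem commutator_le_of_index_two [Finite X] (P E A : Subgroup X) (hEP : E ≤ P)
    (hcard : Nat.card P = 2 * Nat.card E) (hAP : A ≤ normalizer (P : Set X))
    (hAE : A ≤ normalizer (E : Set X)) : ⁅P, A⁆ ≤ E := by
  have hidx : (E.subgroupOf P).index = 2 := by
    have h1 := Cfsg.Agent.Helper52.card_mul_relIndex_eq hEP
    rw [hcard, mul_comm 2] at h1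
    have h2 : 0 < Nat.card E := Nat.card_pos
    exact Nat.eq_of_mul_eq_mul_left h2 h1
  rw [commutator_le]
  intro x hx a ha
  rw [commutatorElement_def]
  have hy : a * x⁻¹ * a⁻¹ ∈ P := (mem_normalizer_iff.mp (hAP ha) x⁻¹).mp (inv_mem hx)
  have h3 : x * a * x⁻¹ * a⁻¹ = x * (a * x⁻¹ * a⁻¹) := by group
  rw [h3]
  have h4 := Subgroup.mul_mem_iff_of_index_two hidx (a := (⟨x, hx⟩ : P))
    (b := (⟨a * x⁻¹ * a⁻¹, hy⟩ : P))
  rw [mem_subgroupOf, mem_subgroupOf, mem_subgroupOf] at h4
  apply h4.mpr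
  show x ∈ E ↔ a * x⁻¹ * a⁻¹ ∈ E
  rw [← (mem_normalizer_iff.mp (hAE ha) x⁻¹), inv_mem_iff]

/-- the word computation behind the `Ω₂` lemma -/
theorem pow_four_eq_one_aux {x y : X} (h1 : y * y = x * x)
    (h2 : Commute (x * x) y)
    (h3 : Commute ((x⁻¹ * y) * (x⁻¹ * y)) x) : (y * x⁻¹) ^ 4 = 1 := by
  have e1 : (y * x⁻¹) * (y * x⁻¹) = (x⁻¹ * y) * (x⁻¹ * y) := by
    calc (y * x⁻¹) * (y * x⁻¹) = x * ((x⁻¹ * y) * (x⁻¹ * y)) * x⁻¹ := by group
      _ = ((x⁻¹ * y) * (x⁻¹ * y)) * x * x⁻¹ := by rw [h3.eq]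
      _ = (x⁻¹ * y) * (x⁻¹ * y) := by group
  have hc : Commute (x * x)⁻¹ (y * x⁻¹ * y) := by
    have hx : Commute (x * x) x := (Commute.refl x).mul_left (Commute.refl x)
    exact ((h2.mul_right hx.inv_right).mul_right h2).inv_left
  calc (y * x⁻¹) ^ 4 = ((y * x⁻¹) * (y * x⁻¹)) * ((y * x⁻¹) * (y * x⁻¹)) := by
        simp only [pow_succ, pow_zero, one_mul, mul_assoc]
    _ = ((y * x⁻¹) * (y * x⁻¹)) * ((x⁻¹ * y) * (x⁻¹ * y)) := by rw [e1]
    _ = y * x⁻¹ * y * ((x * x)⁻¹ * (y * x⁻¹ * y)) := by group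
    _ = y * x⁻¹ * y * ((y * x⁻¹ * y) * (x * x)⁻¹) := by rw [hc.eq]
    _ = y * x⁻¹ * (y * y) * x⁻¹ * y * (x * x)⁻¹ := by group
    _ = y * x⁻¹ * (x * x) * x⁻¹ * y * (x * x)⁻¹ := by rw [h1]
    _ = (y * y) * (x * x)⁻¹ := by group
    _ = 1 := by rw [h1]; group

/-- the subgroup generated by the squares of the elements of `H` -/
def sqClosure (H : Subgroup X) : Subgroup X := closure {z | ∃ x ∈ H, z = x * x}

theorem sq_mem_sqClosure {H : Subgroup X} {x : X} (hx : x ∈ H) : x * x ∈ sqClosure H :=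
  subset_closure ⟨x, hx, rfl⟩

theorem sqClosure_le (H : Subgroup X) : sqClosure H ≤ H := by
  rw [sqClosure, closure_le]
  rintro _ ⟨x, hx, rfl⟩
  exact mul_mem hx hx

theorem normalizer_le_normalizer_sqClosure (H : Subgroup X) :
    normalizer (H : Set X) ≤ normalizer (sqClosure H : Set X) := by
  intro g hg
  apply Cfsg.Agent.Helper52.mem_normalizer_of_map_conj_eq
  rw [sqClosure, MonoidHom.map_closure]
  congr 1
  ext z
  constructor
  · rintro ⟨_, ⟨x, hx, rfl⟩, rfl⟩
    refine ⟨g * x * g⁻¹, (mem_normalizer_iff.mp hg x).mp hx, ?_⟩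
    simp [MulAut.conj_apply]
  · rintro ⟨x, hx, rfl⟩
    have hx' : g⁻¹ * x * g ∈ H := by
      have := (mem_normalizer_iff.mp (inv_mem hg) x).mp hx
      simpa using this
    refine ⟨(g⁻¹ * x * g) * (g⁻¹ * x * g), ⟨_, hx', rfl⟩, ?_⟩
    simp [MulAut.conj_apply, mul_assoc]

/-- **`Ω₂` lemma, minimal form.** `H = [H, A]` a `2`-group, `A` centralizes the squares of `H` and
all elements of order dividing `4`: then `A` centralizes `H`. -/
theorem le_centralizer_of_pow_four [Finite X] (H A : Subgroup X)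
    (hAH : A ≤ normalizer (H : Set X)) (hcomm : ⁅H, A⁆ = H)
    (hsq : ∀ x ∈ H, ∀ a ∈ A, a * (x * x) = (x * x) * a)
    (h4 : ∀ h ∈ H, h ^ 4 = 1 → ∀ a ∈ A, a * h = h * a) :
    A ≤ centralizer (H : Set X) := by
  set S := sqClosure H with hS
  have hSA' : S ≤ centralizer (A : Set X) := by
    rw [hS, sqClosure, closure_le]
    rintro _ ⟨x, hx, rfl⟩
    rw [SetLike.mem_coe, mem_centralizer_iff]
    intro a ha
    exact hsq x hx a ha
  have hSA : ⁅S, A⁆ = ⊥ := commutator_eq_bot_iff_le_centralizer.mpr hSA'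
  have hHS : ⁅H, S⁆ ≤ S := by
    rw [commutator_comm]
    exact Cfsg.Agent.Helper24.commutator_le_of_le_normalizer S H
      (le_normalizer.trans (normalizer_le_normalizer_sqClosure H))
  have ha : ⁅⁅H, S⁆, A⁆ = ⊥ := by
    rw [eq_bot_iff, ← hSA]
    exact commutator_mono hHS le_rfl
  have hb : ⁅⁅S, A⁆, H⁆ = ⊥ := by
    rw [hSA, commutator_bot_left]
  have hc : ⁅⁅A, H⁆, S⁆ = ⊥ := commutator_commutator_eq_bot_of_rotate ha hb
  rw [commutator_comm A H, hcomm] at hc
  have hcen : H ≤ centralizer (S : Set X) := commutator_eq_bot_iff_le_centralizer.mp hc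
  have hcen' : ∀ h ∈ H, ∀ x ∈ H, Commute (x * x) h := by
    intro h hh x hx
    exact (mem_centralizer_iff.mp (hcen hh)) (x * x) (sq_mem_sqClosure hx)
  rw [le_centralizer_iff]
  have key : ⁅A, H⁆ ≤ centralizer (A : Set X) := by
    rw [commutator_le]
    intro a ha x hx
    have hy : a * x * a⁻¹ ∈ H := (mem_normalizer_iff.mp (hAH ha) x).mp hx
    have h1 : (a * x * a⁻¹) * (a * x * a⁻¹) = x * x := by
      calc (a * x * a⁻¹) * (a * x * a⁻¹) = a * (x * x) * a⁻¹ := by group
        _ = (x * x) * a * a⁻¹ := by rw [hsq x hx a ha]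
        _ = x * x := by group
    have h2 : Commute (x * x) (a * x * a⁻¹) := hcen' _ hy x hx
    have h3 : Commute ((x⁻¹ * (a * x * a⁻¹)) * (x⁻¹ * (a * x * a⁻¹))) x :=
      hcen' x hx _ (mul_mem (inv_mem hx) hy)
    have h5 := pow_four_eq_one_aux h1 h2 h3
    rw [commutatorElement_def, mem_centralizer_iff]
    intro b hb
    exact h4 _ (mul_mem hy (inv_mem hx)) h5 b hb
  rw [commutator_comm, hcomm] at key
  exact key

theorem card_sqClosure_lt [Finite X] {H : Subgroup X} (hH : IsPGroup 2 H) (hne : H ≠ ⊥) :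
    Nat.card (sqClosure H) < Nat.card H := by
  obtain ⟨n, hn⟩ := IsPGroup.iff_card.mp hH
  have hn0 : n ≠ 0 := by
    rintro rfl
    rw [pow_zero] at hn
    exact hne (Subgroup.card_eq_one.mp hn)
  obtain ⟨M, -, hMH, hM⟩ := exists_between hH (bot_le : ⊥ ≤ H) (n - 1)
    (by rw [hn]; exact pow_dvd_pow 2 (Nat.sub_le n 1))
    (by rw [Subgroup.card_bot]; exact Nat.one_le_two_pow)
  have hidx : (M.subgroupOf H).index = 2 := by
    have h1 := Cfsg.Agent.Helper52.card_mul_relIndex_eq hMH
    rw [hM, hn] at h1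
    have h2 : 2 ^ n = 2 ^ (n - 1) * 2 := by
      rw [← pow_succ]
      congr 1
      omega
    rw [h2] at h1
    exact Nat.eq_of_mul_eq_mul_left (by positivity) h1
  have hle : sqClosure H ≤ M := by
    rw [sqClosure, closure_le]
    rintro _ ⟨x, hx, rfl⟩
    have h3 := Subgroup.mul_self_mem_of_index_two hidx (⟨x, hx⟩ : H)
    rwa [mem_subgroupOf] at h3
  calc Nat.card (sqClosure H) ≤ Nat.card M := card_le_of_le hle
    _ = 2 ^ (n - 1) := hM
    _ < 2 ^ n := Nat.pow_lt_pow_right (by norm_num) (by omega)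
    _ = Nat.card H := hn.symm

theorem le_normalizer_sup {A T E : Subgroup X} (hT : A ≤ normalizer (T : Set X))
    (hE : A ≤ normalizer (E : Set X)) : A ≤ normalizer ((T ⊔ E : Subgroup X) : Set X) := by
  intro a ha
  apply Cfsg.Agent.Helper52.mem_normalizer_of_map_conj_eq
  rw [Subgroup.map_sup, Cfsg.Agent.Helper52.map_conj_eq_of_mem_normalizer (hT ha),
    Cfsg.Agent.Helper52.map_conj_eq_of_mem_normalizer (hE ha)]

theorem main [Finite X] (A : Subgroup X) (hA : Odd (Nat.card A)) (d : ℕ) (hd : 1 ≤ d) :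
    ∀ n : ℕ, ∀ P : Subgroup X, Nat.card P = n → IsPGroup 2 P → A ≤ normalizer (P : Set X) →
      2 ^ d < Nat.card P →
      (∀ E : Subgroup X, E ≤ P → (Nat.card E = 2 ^ d ∨ (d = 1 ∧ Nat.card E = 4)) →
        A ≤ normalizer (E : Set X)) → A ≤ centralizer (P : Set X) := by
  intro n
  induction n using Nat.strong_induction_on with
  | _ n ih =>
  intro P hPn hP hAP hdP hinv
  by_contra hcon
  obtain ⟨N, hN⟩ := IsPGroup.iff_card.mp hP
  have hdN : d < N := by
    rw [hN] at hdP
    exact (Nat.pow_lt_pow_iff_right (by norm_num)).mp hdP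
  have hdP' : 2 ^ d ∣ Nat.card P := by
    rw [hN]
    exact pow_dvd_pow 2 hdN.le
  by_cases hcase : N = d + 1
  · -- all maximal subgroups are invariant
    apply hcon
    have hsup := Cfsg.Agent.Helper52.eq_commutator_sup_centralizer P A hAP
      (coprime_of_odd_of_two hA hP) (solv_of_two hP)
    by_cases hCP : P ⊓ centralizer (A : Set X) = P
    · rw [le_centralizer_iff, ← hCP]
      exact inf_le_right
    · exfalso
      have hCle : P ⊓ centralizer (A : Set X) ≤ P := inf_le_left
      have hClt : Nat.card (P ⊓ centralizer (A : Set X) : Subgroup X) < Nat.card P :=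
        lt_of_le_of_ne (card_le_of_le hCle) (fun h => hCP (eq_of_le_of_card_ge hCle h.ge))
      have hCdvd : Nat.card (P ⊓ centralizer (A : Set X) : Subgroup X) ∣ 2 ^ (d + 1) := by
        rw [← hcase, ← hN]
        exact card_dvd_of_le hCle
      obtain ⟨i, hi, hCi⟩ := (Nat.dvd_prime_pow Nat.prime_two).mp hCdvd
      have hi' : i ≤ d := by
        rcases Nat.lt_or_ge i (d + 1) with h | h
        · omega
        · exfalso
          have h2 : i = d + 1 := by omega
          rw [h2, ← hcase, ← hN] at hCi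
          exact absurd hCi (ne_of_lt hClt)
      obtain ⟨E, hCE, hEP, hEc⟩ := exists_between hP hCle d hdP'
        (by rw [hCi]; exact Nat.pow_le_pow_right (by norm_num) hi')
      have hAE := hinv E hEP (Or.inl hEc)
      have hcomE : ⁅P, A⁆ ≤ E :=
        commutator_le_of_index_two P E A hEP (by rw [hN, hcase, hEc, pow_succ, mul_comm]) hAP hAE
      have hPE : P ≤ E := by
        calc P = ⁅P, A⁆ ⊔ (P ⊓ centralizer (A : Set X)) := hsup
          _ ≤ E := sup_le hcomE hCE
      have h3 := card_le_of_le hPE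
      rw [hN, hEc] at h3
      exact absurd h3 (not_le_of_gt (Nat.pow_lt_pow_right (by norm_num) hdN))
  -- now `d + 2 ≤ N`
  have hd2 : d + 2 ≤ N := by omega
  have hfin : {K : Subgroup X | K ≤ P ∧ A ≤ normalizer (K : Set X) ∧
      ¬ A ≤ centralizer (K : Set X)}.Finite := Set.toFinite _
  obtain ⟨H, ⟨hHP, hAH, hHc⟩, hHmin'⟩ :=
    Set.exists_min_image _ (fun K : Subgroup X => Nat.card K) hfin ⟨P, le_rfl, hAP, hcon⟩
  have hHmin : ∀ K : Subgroup X, K ≤ P → A ≤ normalizer (K : Set X) →
      Nat.card K < Nat.card H → A ≤ centralizer (K : Set X) := by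
    intro K hKP hAK hlt
    by_contra hKc
    exact absurd (hHmin' K ⟨hKP, hAK, hKc⟩) (not_le_of_gt hlt)
  have hH2 : IsPGroup 2 H := hP.to_le hHP
  have hcopH := coprime_of_odd_of_two hA hH2
  have h1a : ⁅H, A⁆ = H := by
    by_contra hne
    have hle : ⁅H, A⁆ ≤ H := Cfsg.Agent.Helper24.commutator_le_of_le_normalizer H A hAH
    have hlt : Nat.card (⁅H, A⁆ : Subgroup X) < Nat.card H := by
      refine lt_of_le_of_ne (card_le_of_le hle) ?_
      intro hc
      exact hne (eq_of_le_of_card_ge hle hc.ge)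
    have hc := hHmin _ (hle.trans hHP) (normalizer_commutator_ge_right H A) hlt
    have h2 : ⁅⁅H, A⁆, A⁆ = ⊥ :=
      commutator_eq_bot_iff_le_centralizer.mpr (le_centralizer_iff.mp hc)
    rw [Cfsg.Agent.Helper52.commutator_commutator_eq H A hAH hcopH (solv_of_two hH2)] at h2
    apply hHc
    exact le_centralizer_iff.mp (commutator_eq_bot_iff_le_centralizer.mp h2)
  have hHne : H ≠ ⊥ := by
    rintro rfl
    apply hHc
    intro a _
    rw [mem_centralizer_iff]
    intro h hh
    rw [SetLike.mem_coe, mem_bot] at hh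
    rw [hh, one_mul, mul_one]
  have h1b : ∀ x : X, ¬ H ≤ zpowers x := by
    intro x hx
    have hcyc : IsCyclic H := by
      have : IsCyclic (H.subgroupOf (zpowers x)) := Subgroup.isCyclic _
      exact isCyclic_of_surjective (subgroupOfEquivOfLe hx).toMonoidHom
        (subgroupOfEquivOfLe hx).surjective
    exact hHc (le_centralizer_of_isCyclic H A hH2 hcyc hA hAH)
  obtain ⟨j, hj⟩ := IsPGroup.iff_card.mp hH2
  by_cases hHd : d < j
  · -- `|H| > 2^d`
    apply hHc
    apply le_centralizer_of_pow_four H A hAH h1a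
    · intro x hx a ha
      have hlt := card_sqClosure_lt hH2 hHne
      have hc := hHmin (sqClosure H) ((sqClosure_le H).trans hHP)
        (hAH.trans (normalizer_le_normalizer_sqClosure H)) hlt
      exact ((mem_centralizer_iff.mp (hc ha)) (x * x) (sq_mem_sqClosure hx)).symm
    · intro h hh h4 a ha
      have hZH : zpowers h ≤ H := zpowers_le.mpr hh
      have hZcard : Nat.card (zpowers h) ∣ 4 := by
        rw [Nat.card_zpowers]
        exact orderOf_dvd_of_pow_eq_one h4
      have hdj : 2 ^ d ∣ Nat.card H := by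
        rw [hj]
        exact pow_dvd_pow 2 hHd.le
      suffices hK : ∃ K : Subgroup X, h ∈ K ∧ K ≤ P ∧ A ≤ normalizer (K : Set X) ∧
          Nat.card K < Nat.card H by
        obtain ⟨K, hhK, hKP, hAK, hKlt⟩ := hK
        have hc := hHmin K hKP hAK hKlt
        exact ((mem_centralizer_iff.mp (hc ha)) h hhK).symm
      by_cases hcase2 : Nat.card (zpowers h) ≤ 2 ^ d
      · obtain ⟨K, hZK, hKH, hKc⟩ := exists_between hH2 hZH d hdj hcase2
        refine ⟨K, hZK (mem_zpowers h), hKH.trans hHP,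
          hinv K (hKH.trans hHP) (Or.inl hKc), ?_⟩
        rw [hKc, hj]
        exact Nat.pow_lt_pow_right (by norm_num) hHd
      · push Not at hcase2
        have hle4 : Nat.card (zpowers h) ≤ 4 := Nat.le_of_dvd (by norm_num) hZcard
        have hd1 : d = 1 := by
          have h5 : 2 ^ d < 2 ^ 2 := lt_of_lt_of_le hcase2 hle4
          have h6 : d < 2 := (Nat.pow_lt_pow_iff_right (by norm_num : 1 < 2)).mp h5
          omega
        have hZ4c : Nat.card (zpowers h) = 4 := by
          rw [hd1] at hcase2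
          have h7 : Nat.card (zpowers h) ∈ Nat.divisors 4 :=
            Nat.mem_divisors.mpr ⟨hZcard, by norm_num⟩
          have hdiv : Nat.divisors 4 = {1, 2, 4} := by decide
          rw [hdiv] at h7
          simp only [Finset.mem_insert, Finset.mem_singleton] at h7
          omega
        refine ⟨zpowers h, mem_zpowers h, hZH.trans hHP,
          hinv _ (hZH.trans hHP) (Or.inr ⟨hd1, hZ4c⟩), ?_⟩
        refine lt_of_le_of_ne (card_le_of_le hZH) ?_
        intro hc
        exact h1b h (eq_of_le_of_card_ge hZH hc.ge).ge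
  · -- `|H| ≤ 2^d`
    push Not at hHd
    have hHcard : Nat.card H ≤ 2 ^ d := by
      rw [hj]
      exact Nat.pow_le_pow_right (by norm_num) hHd
    have hfinT : {T : Subgroup X | H ≤ T ∧ T ≤ P ∧ A ≤ normalizer (T : Set X) ∧
        Nat.card T ≤ 2 ^ d}.Finite := Set.toFinite _
    obtain ⟨T, -, hTmax⟩ := hfinT.exists_le_maximal (a := H) ⟨le_rfl, hHP, hAH, hHcard⟩
    obtain ⟨hHT, hTP, hAT, hTcard⟩ := hTmax.prop
    have hbetween : ∀ S : Subgroup X, T < S → S ≤ P → A ≤ normalizer (S : Set X) →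
        Nat.card S < Nat.card P → False := by
      intro S hTS hSP hAS hSlt
      have hSgt : 2 ^ d < Nat.card S := by
        by_contra hle
        push Not at hle
        exact absurd (hTmax.le_of_ge ⟨hHT.trans hTS.le, hSP, hAS, hle⟩ hTS.le) (not_le_of_gt hTS)
      have hS2 : IsPGroup 2 S := hP.to_le hSP
      have hSc := ih (Nat.card S) (by rw [← hPn]; exact hSlt) S rfl hS2 hAS hSgt
        (fun E hES hE => hinv E (hES.trans hSP) hE)
      apply hHc
      exact hSc.trans (centralizer_le (hHT.trans hTS.le))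
    have hTc : Nat.card T = 2 ^ d := by
      by_contra hne
      obtain ⟨E, hTE, hEP, hEc⟩ := exists_between hP hTP d hdP' hTcard
      have h3 := hTmax.le_of_ge ⟨hHT.trans hTE, hEP, hinv E hEP (Or.inl hEc), hEc.le⟩ hTE
      have h4 : T = E := le_antisymm hTE h3
      exact hne (h4 ▸ hEc)
    have hd1P : 2 ^ (d + 1) ∣ Nat.card P := by
      rw [hN]
      exact pow_dvd_pow 2 (by omega)
    obtain ⟨F, hTF, hFP, hFc⟩ := exists_between hP hTP (d + 1) hd1P
      (by rw [hTc]; exact Nat.pow_le_pow_right (by norm_num) (Nat.le_succ d))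
    have hFlt : Nat.card F < Nat.card P := by
      rw [hFc, hN]
      exact Nat.pow_lt_pow_right (by norm_num) (by omega)
    have hF2 : IsPGroup 2 F := hP.to_le hFP
    have huniq : ∀ E : Subgroup X, E ≤ F → Nat.card E = 2 ^ d → E = T := by
      intro E hEF hEc
      by_contra hET
      have hAE := hinv E (hEF.trans hFP) (Or.inl hEc)
      have hTS : T < T ⊔ E := by
        refine lt_of_le_of_ne le_sup_left ?_
        intro h
        have hET' : E ≤ T := by
          rw [h]
          exact le_sup_right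
        exact hET (eq_of_le_of_card_ge hET' (by rw [hTc, hEc]))
      have hSF : T ⊔ E ≤ F := sup_le hTF hEF
      exact hbetween (T ⊔ E) hTS (hSF.trans hFP) (le_normalizer_sup hAT hAE)
        (lt_of_le_of_lt (card_le_of_le hSF) hFlt)
    obtain ⟨x, hxF, hxT⟩ : ∃ x ∈ F, x ∉ T := by
      by_contra h
      push Not at h
      have h3 : F ≤ T := h
      have h4 := card_le_of_le h3
      rw [hFc, hTc] at h4
      exact absurd h4 (not_le_of_gt (Nat.pow_lt_pow_right (by norm_num) (Nat.lt_succ_self d)))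
    have hZF : zpowers x ≤ F := zpowers_le.mpr hxF
    have hZ : Nat.card (zpowers x) = 2 ^ (d + 1) := by
      by_contra hne
      have hZdvd : Nat.card (zpowers x) ∣ 2 ^ (d + 1) := by
        rw [← hFc]
        exact card_dvd_of_le hZF
      obtain ⟨i, hi, hZi⟩ := (Nat.dvd_prime_pow Nat.prime_two).mp hZdvd
      have hi' : i ≤ d := by
        rcases Nat.lt_or_ge i (d + 1) with h | h
        · omega
        · exfalso
          apply hne
          rw [hZi]
          congr 1
          omega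
      obtain ⟨E, hZE, hEF, hEc⟩ := exists_between hF2 hZF d
        (by rw [hFc]; exact pow_dvd_pow 2 (Nat.le_succ d))
        (by rw [hZi]; exact Nat.pow_le_pow_right (by norm_num) hi')
      have h3 := huniq E hEF hEc
      exact hxT (h3 ▸ hZE (mem_zpowers x))
    have hZeq : zpowers x = F := eq_of_le_of_card_ge hZF (by rw [hZ, hFc])
    exact h1b x (by rw [hZeq]; exact hHT.trans hTF)

/-- Let P be a 2-subgroup of a finite group and A an odd-order subgroup normalizing P. Suppose D ≤ P with 1 < |D| < |P| such that A normalizes every subgroup of P of order |D| and, when |D| = 2, also every subgroup of P of order 4. Then A centralizes P. -/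
theorem result {X : Type*} [Group X] [Finite X] (P A D : Subgroup X) (hP : IsPGroup 2 P) (hA : Odd (Nat.card A))
    (hAP : A ≤ Subgroup.normalizer (P : Set X)) (hDP : D ≤ P) (hD1 : 1 < Nat.card D) (hD2 : Nat.card D < Nat.card P)
    (hinv : ∀ E : Subgroup X, E ≤ P → (Nat.card E = Nat.card D ∨ (Nat.card D = 2 ∧ Nat.card E = 4)) → A ≤ Subgroup.normalizer (E : Set X)) :
    A ≤ Subgroup.centralizer (P : Set X) := by
  have hD2' : IsPGroup 2 D := hP.to_le hDP
  obtain ⟨d, hd⟩ := IsPGroup.iff_card.mp hD2'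
  have hd1 : 1 ≤ d := by
    by_contra h
    push Not at h
    have h0 : d = 0 := by omega
    rw [h0, pow_zero] at hd
    omega
  apply main A hA d hd1 (Nat.card P) P rfl hP hAP (by rw [← hd]; exact hD2)
  intro E hEP hE
  apply hinv E hEP
  rcases hE with h | ⟨h1, h2⟩
  · left
    rw [h, hd]
  · right
    exact ⟨by rw [hd, h1]; norm_num, h2⟩

end Cfsg.Agent.S3803
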