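import Cfsg.Statements.S3804
import Cfsg.Agent.Lib.Helper63.ProdCard

set_option autoImplicit false
open Cfsg

namespace Cfsg.Agent.S3804

open Cfsg.Agent.Helper63

lemma real_aux (α : ℝ) (hα : 0 < α) (a b s i ca cb cs ci : ℕ)
    (ha : 0 < a) (hb : 0 < b) (hs : 0 < s) (hi : 0 < i)
    (hca : 0 < ca) (hcb : 0 < cb) (hcs : 0 < cs) (hci : 0 < ci)
    (h1 : a * b ≤ s * i) (h2 : ca * cb ≤ ci * cs) (M : ℝ)
    (hA : M = (a : ℝ) ^ α * ca) (hB : M = (b : ℝ) ^ α * cb)
    (hS : (s : ℝ) ^ α * cs ≤ M) (hI : (i : ℝ) ^ α * ci ≤ M) :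
    a * b = s * i ∧ ca * cb = ci * cs ∧ (s : ℝ) ^ α * cs = M ∧ (i : ℝ) ^ α * ci = M := by
  have ha' : (0 : ℝ) < a := by exact_mod_cast ha
  have hb' : (0 : ℝ) < b := by exact_mod_cast hb
  have hs' : (0 : ℝ) < s := by exact_mod_cast hs
  have hi' : (0 : ℝ) < i := by exact_mod_cast hi
  have hca' : (0 : ℝ) < ca := by exact_mod_cast hca
  have hcb' : (0 : ℝ) < cb := by exact_mod_cast hcb
  have hcs' : (0 : ℝ) < cs := by exact_mod_cast hcs
  have hci' : (0 : ℝ) < ci := by exact_mod_cast hci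
  have hMpos : 0 < M := by rw [hA]; positivity
  set P : ℝ := ((a : ℝ) * b) ^ α with hP
  set P' : ℝ := ((s : ℝ) * i) ^ α with hP'
  set Q : ℝ := (ca : ℝ) * cb with hQ
  set Q' : ℝ := (ci : ℝ) * cs with hQ'
  have hPpos : 0 < P := by positivity
  have hP'pos : 0 < P' := by positivity
  have hQpos : 0 < Q := by positivity
  have hQ'pos : 0 < Q' := by positivity
  have h1' : (a : ℝ) * b ≤ (s : ℝ) * i := by exact_mod_cast h1
  have h2' : Q ≤ Q' := by
    rw [hQ, hQ']; exact_mod_cast h2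
  have hPP' : P ≤ P' := Real.rpow_le_rpow (by positivity) h1' hα.le
  have hMM : M * M = P * Q := by
    rw [hP, hQ, Real.mul_rpow ha'.le hb'.le]
    nth_rewrite 1 [hA]
    rw [hB]; ring
  set ms : ℝ := (s : ℝ) ^ α * cs with hms
  set mi : ℝ := (i : ℝ) ^ α * ci with hmi
  have hmspos : 0 < ms := by positivity
  have hmipos : 0 < mi := by positivity
  have hmm : ms * mi = P' * Q' := by
    rw [hP', hQ', Real.mul_rpow hs'.le hi'.le, hms, hmi]; ring
  have hchain1 : P * Q ≤ P' * Q' := mul_le_mul hPP' h2' hQpos.le hP'pos.le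
  have hchain2 : ms * mi ≤ M * M := mul_le_mul hS hI hmipos.le hMpos.le
  have heq1 : P * Q = P' * Q' := le_antisymm hchain1 (by rw [← hmm, ← hMM]; exact hchain2)
  have hPeq : P = P' := by
    by_contra hne
    have hlt : P < P' := lt_of_le_of_ne hPP' hne
    have : P * Q < P' * Q' := by
      calc P * Q < P' * Q := by exact mul_lt_mul_of_pos_right hlt hQpos
        _ ≤ P' * Q' := by exact mul_le_mul_of_nonneg_left h2' hP'pos.le
    exact absurd heq1 this.ne
  have hQeq : Q = Q' := by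
    rw [hPeq] at heq1
    exact mul_left_cancel₀ hP'pos.ne' heq1
  have hmseq : ms = M := by
    by_contra hne
    have hlt : ms < M := lt_of_le_of_ne hS hne
    have : ms * mi < M * M := by
      calc ms * mi < M * mi := by exact mul_lt_mul_of_pos_right hlt hmipos
        _ ≤ M * M := by exact mul_le_mul_of_nonneg_left hI hMpos.le
    rw [hmm, ← heq1, ← hMM] at this
    exact lt_irrefl _ this
  have hmieq : mi = M := by
    have h3 : ms * mi = M * M := by rw [hmm, ← heq1, ← hMM]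
    rw [hmseq] at h3
    exact mul_left_cancel₀ hMpos.ne' h3
  refine ⟨?_, ?_, hmseq, hmieq⟩
  · by_contra hne
    have hlt : a * b < s * i := lt_of_le_of_ne h1 hne
    have hlt' : (a : ℝ) * b < (s : ℝ) * i := by exact_mod_cast hlt
    have : P < P' := Real.rpow_lt_rpow (by positivity) hlt' hα
    exact absurd hPeq this.ne
  · have : ((ca * cb : ℕ) : ℝ) = ((ci * cs : ℕ) : ℝ) := by
      push_cast; exact hQeq
    exact_mod_cast this

variable {X : Type*} [Group X]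

lemma centralizer_sup_eq (A B : Subgroup X) :
    Subgroup.centralizer ((A ⊔ B : Subgroup X) : Set X) =
      Subgroup.centralizer (A : Set X) ⊓ Subgroup.centralizer (B : Set X) := by
  apply le_antisymm
  · apply le_inf
    · exact Subgroup.centralizer_le (by exact_mod_cast (le_sup_left : A ≤ A ⊔ B))
    · exact Subgroup.centralizer_le (by exact_mod_cast (le_sup_right : B ≤ A ⊔ B))
  · intro x hx
    have h1 : x ∈ Subgroup.centralizer ((A : Set X) ∪ (B : Set X)) := by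
      rw [Subgroup.mem_centralizer_iff]
      rintro g (hg | hg)
      · exact (Subgroup.mem_centralizer_iff.mp hx.1) g hg
      · exact (Subgroup.mem_centralizer_iff.mp hx.2) g hg
    rw [← Subgroup.centralizer_closure, Subgroup.closure_union, Subgroup.closure_eq,
      Subgroup.closure_eq] at h1
    exact h1

/-- Let G and H be subgroups of a finite group with G normalizing H, fix a real number α > 0, and for a subgroup A of G put m(A) = |A|^α · |C_H(A)|. Let A and B be nontrivial subgroups of G at which m attains its maximum over all nontrivial subgroups of G, and assume that A ∩ B ≠ 1 or that this maximum is at least |H|. Then AB = BA is a subgroup at which m is again maximal, C_H(A ∩ B) = C_H(A) C_H(B), and if A ∩ B ≠ 1 then m is maximal at A ∩ B as well. -/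
theorem result {X : Type*} [Group X] [Finite X] (G H : Subgroup X) (hGH : G ≤ Subgroup.normalizer (H : Set X)) (α : ℝ) (hα : 0 < α)
    (A B : Subgroup X) (hA : A ≤ G) (hB : B ≤ G) (hA1 : A ≠ ⊥) (hB1 : B ≠ ⊥)
    (hAmax : ∀ A' : Subgroup X, A' ≤ G → A' ≠ ⊥ → (fun A : Subgroup X => ((Nat.card A : ℝ) ^ α) * (Nat.card ↥(H ⊓ Subgroup.centralizer (A : Set X)) : ℝ)) A' ≤ (fun A : Subgroup X => ((Nat.card A : ℝ) ^ α) * (Nat.card ↥(H ⊓ Subgroup.centralizer (A : Set X)) : ℝ)) A)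
    (hBmax : ∀ A' : Subgroup X, A' ≤ G → A' ≠ ⊥ → (fun A : Subgroup X => ((Nat.card A : ℝ) ^ α) * (Nat.card ↥(H ⊓ Subgroup.centralizer (A : Set X)) : ℝ)) A' ≤ (fun A : Subgroup X => ((Nat.card A : ℝ) ^ α) * (Nat.card ↥(H ⊓ Subgroup.centralizer (A : Set X)) : ℝ)) B)
    (hcase : A ⊓ B ≠ ⊥ ∨ (Nat.card H : ℝ) ≤ (fun A : Subgroup X => ((Nat.card A : ℝ) ^ α) * (Nat.card ↥(H ⊓ Subgroup.centralizer (A : Set X)) : ℝ)) A) :
    (∀ a ∈ A, ∀ b ∈ B, ∃ b' ∈ B, ∃ a' ∈ A, a * b = b' * a') ∧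
    (∀ A' : Subgroup X, A' ≤ G → A' ≠ ⊥ → (fun A : Subgroup X => ((Nat.card A : ℝ) ^ α) * (Nat.card ↥(H ⊓ Subgroup.centralizer (A : Set X)) : ℝ)) A' ≤ (fun A : Subgroup X => ((Nat.card A : ℝ) ^ α) * (Nat.card ↥(H ⊓ Subgroup.centralizer (A : Set X)) : ℝ)) (A ⊔ B)) ∧
    (∀ h ∈ H ⊓ Subgroup.centralizer ((A ⊓ B : Subgroup X) : Set X), ∃ u ∈ H ⊓ Subgroup.centralizer (A : Set X), ∃ v ∈ H ⊓ Subgroup.centralizer (B : Set X), h = u * v) ∧
    (A ⊓ B ≠ ⊥ → ∀ A' : Subgroup X, A' ≤ G → A' ≠ ⊥ → (fun A : Subgroup X => ((Nat.card A : ℝ) ^ α) * (Nat.card ↥(H ⊓ Subgroup.centralizer (A : Set X)) : ℝ)) A' ≤ (fun A : Subgroup X => ((Nat.card A : ℝ) ^ α) * (Nat.card ↥(H ⊓ Subgroup.centralizer (A : Set X)) : ℝ)) (A ⊓ B)) := by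
  simp only at hAmax hBmax hcase ⊢
  set cH : Subgroup X → Subgroup X := fun K => H ⊓ Subgroup.centralizer (K : Set X) with hcH
  set m : Subgroup X → ℝ := fun K => ((Nat.card K : ℝ) ^ α) * (Nat.card ↥(cH K) : ℝ) with hm
  have hAmax' : ∀ A' : Subgroup X, A' ≤ G → A' ≠ ⊥ → m A' ≤ m A := hAmax
  have hBmax' : ∀ A' : Subgroup X, A' ≤ G → A' ≠ ⊥ → m A' ≤ m B := hBmax
  have hmAB : m A = m B := le_antisymm (hBmax' A hA hA1) (hAmax' B hB hB1)
  -- centralizer facts
  have hsup : cH (A ⊔ B) = cH A ⊓ cH B := by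
    simp only [hcH]
    rw [centralizer_sup_eq]
    ext x; simp only [Subgroup.mem_inf]; tauto
  have hinf : cH A ⊔ cH B ≤ cH (A ⊓ B) := by
    apply sup_le
    · exact inf_le_inf_left _ (Subgroup.centralizer_le (by exact_mod_cast (inf_le_left : A ⊓ B ≤ A)))
    · exact inf_le_inf_left _ (Subgroup.centralizer_le (by exact_mod_cast (inf_le_right : A ⊓ B ≤ B)))
  obtain ⟨hc1, hc1eq⟩ := card_mul_card_le_and_eq A B
  obtain ⟨hc2, hc2eq⟩ := card_mul_card_le_and_eq (cH A) (cH B)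
  have hle3 : Nat.card ↥(cH A ⊔ cH B) ≤ Nat.card ↥(cH (A ⊓ B)) :=
    Subgroup.card_le_of_le hinf
  have hc2' : Nat.card (cH A) * Nat.card (cH B) ≤ Nat.card (cH (A ⊓ B)) * Nat.card (cH (A ⊔ B)) := by
    rw [hsup]
    exact le_trans hc2 (Nat.mul_le_mul_right _ hle3)
  have hsupne : A ⊔ B ≠ ⊥ := by
    intro h
    apply hA1
    rw [eq_bot_iff, ← h]; exact le_sup_left
  have hS : m (A ⊔ B) ≤ m A := hAmax' _ (sup_le hA hB) hsupne
  have hI : m (A ⊓ B) ≤ m A := by
    rcases hcase with hne | hH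
    · exact hAmax' _ (le_trans inf_le_left hA) hne
    · by_cases hne : A ⊓ B = ⊥
      · have : m (A ⊓ B) = (Nat.card H : ℝ) := by
          simp only [hm, hcH]
          rw [hne]
          have e1 : Subgroup.centralizer (((⊥ : Subgroup X) : Subgroup X) : Set X) = ⊤ := by
            rw [Subgroup.coe_bot, Subgroup.centralizer_eq_top_iff_subset]
            intro x hx
            rw [Set.mem_singleton_iff] at hx
            rw [hx]; exact Subgroup.one_mem _
          rw [e1, inf_top_eq]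
          simp
        rw [this]; exact hH
      · exact hAmax' _ (le_trans inf_le_left hA) hne
  obtain ⟨e1, e2, e3, e4⟩ := real_aux α hα (Nat.card A) (Nat.card B) (Nat.card ↥(A ⊔ B)) (Nat.card ↥(A ⊓ B))
    (Nat.card (cH A)) (Nat.card (cH B)) (Nat.card (cH (A ⊔ B))) (Nat.card (cH (A ⊓ B)))
    Nat.card_pos Nat.card_pos Nat.card_pos Nat.card_pos Nat.card_pos Nat.card_pos Nat.card_pos Nat.card_pos
    hc1 hc2' (m A) rfl hmAB hS hI
  refine ⟨?_, ?_, ?_, ?_⟩
  · intro a ha b hb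
    have hmem : (a * b)⁻¹ ∈ A ⊔ B :=
      Subgroup.inv_mem _ (Subgroup.mul_mem_sup ha hb)
    obtain ⟨a1, ha1, b1, hb1, h⟩ := hc1eq e1 _ hmem
    refine ⟨b1⁻¹, B.inv_mem hb1, a1⁻¹, A.inv_mem ha1, ?_⟩
    rw [← mul_inv_rev, ← h, inv_inv]
  · intro A' hA' hA'1
    have : m (A ⊔ B) = m A := e3
    show m A' ≤ m (A ⊔ B)
    rw [this]; exact hAmax' A' hA' hA'1
  · intro h hh
    have hh' : h ∈ cH (A ⊓ B) := hh
    -- equalities
    have hposs : 0 < Nat.card (cH (A ⊔ B)) := Nat.card_pos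
    have h5 : Nat.card (cH A) * Nat.card (cH B) = Nat.card ↥(cH A ⊔ cH B) * Nat.card ↥(cH A ⊓ cH B) := by
      apply le_antisymm hc2
      rw [e2, hsup]
      exact Nat.mul_le_mul_right _ hle3
    have h6 : Nat.card ↥(cH A ⊔ cH B) = Nat.card ↥(cH (A ⊓ B)) := by
      have : Nat.card ↥(cH A ⊔ cH B) * Nat.card ↥(cH (A ⊔ B)) = Nat.card ↥(cH (A ⊓ B)) * Nat.card ↥(cH (A ⊔ B)) := by
        rw [← e2, h5, hsup]
      exact Nat.eq_of_mul_eq_mul_right hposs this
    have h7 : cH A ⊔ cH B = cH (A ⊓ B) := Subgroup.eq_of_le_of_card_ge hinf (le_of_eq h6.symm)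
    rw [← h7] at hh'
    obtain ⟨u, hu, v, hv, huv⟩ := hc2eq h5 h hh'
    exact ⟨u, hu, v, hv, huv⟩
  · intro hne A' hA' hA'1
    have : m (A ⊓ B) = m A := e4
    show m A' ≤ m (A ⊓ B)
    rw [this]; exact hAmax' A' hA' hA'1

end Cfsg.Agent.S3804
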