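import Cfsg.Statements.S3807
import Cfsg.Agent.Lib.Helper63.PGroup

set_option autoImplicit false
open Cfsg

namespace Cfsg.Agent.S3807

open Cfsg.Agent.Helper63
open scoped commutatorElement

section general
variable {Q : Type*} [Group Q]

lemma comm_of_inst {B : Subgroup Q} (hB : IsMulCommutative ↥B) :
    ∀ u ∈ B, ∀ v ∈ B, u * v = v * u := by
  intro u hu v hv
  have := hB.is_comm.comm ⟨u, hu⟩ ⟨v, hv⟩
  exact Subtype.ext_iff.mp this

lemma inst_of_comm {B : Subgroup Q} (h : ∀ u ∈ B, ∀ v ∈ B, u * v = v * u) :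
    IsMulCommutative ↥B :=
  ⟨⟨fun a b => Subtype.ext (h a.1 a.2 b.1 b.2)⟩⟩

/-- two commuting abelian subgroups generating the group -/
lemma comm_of_sup_eq_top (H₁ H₂ : Subgroup Q) (h₁ : ∀ u ∈ H₁, ∀ v ∈ H₁, u * v = v * u)
    (h₂ : ∀ u ∈ H₂, ∀ v ∈ H₂, u * v = v * u) (h₁₂ : ∀ u ∈ H₁, ∀ v ∈ H₂, u * v = v * u)
    (htop : H₁ ⊔ H₂ = ⊤) : ∀ a b : Q, a * b = b * a := by
  have key : ∀ u : Q, (∀ v ∈ H₁, v * u = u * v) → (∀ v ∈ H₂, v * u = u * v) →
      u ∈ Subgroup.center Q := by
    intro u hu1 hu2
    have : H₁ ⊔ H₂ ≤ Subgroup.centralizer {u} := by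
      apply sup_le
      · intro v hv
        rw [Subgroup.mem_centralizer_singleton_iff]
        exact hu1 v hv
      · intro v hv
        rw [Subgroup.mem_centralizer_singleton_iff]
        exact hu2 v hv
    rw [htop] at this
    rw [Subgroup.mem_center_iff]
    intro g
    have hg := this (Subgroup.mem_top g)
    rw [Subgroup.mem_centralizer_singleton_iff] at hg
    exact hg
  have hc : H₁ ⊔ H₂ ≤ Subgroup.center Q := by
    apply sup_le
    · intro u hu
      exact key u (fun v hv => h₁ v hv u hu) (fun v hv => (h₁₂ u hu v hv).symm)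
    · intro u hu
      exact key u (fun v hv => h₁₂ v hv u hu) (fun v hv => h₂ v hv u hu)
  rw [htop] at hc
  intro a b
  have ha := hc (Subgroup.mem_top b)
  rw [Subgroup.mem_center_iff] at ha
  exact ha a

lemma card_of_fibers {X Y : Type*} [Finite X] [Finite Y] (f : X → Y) (c : ℕ)
    (h : ∀ y, Nat.card {x // f x = y} = c) : Nat.card X = Nat.card Y * c := by
  have := Fintype.ofFinite Y
  rw [← Nat.card_congr (Equiv.sigmaFiberEquiv f), Nat.card_sigma]
  simp [h]

lemma card_diff [Finite Q] (Z B : Subgroup Q) (h : Z ≤ B) :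
    Nat.card {g : Q // g ∈ B ∧ g ∉ Z} + Nat.card Z = Nat.card B := by
  have h1 : Nat.card {g : Q // g ∈ B ∧ g ∉ Z} = ((B : Set Q) \ (Z : Set Q)).ncard := by
    rw [← Nat.card_coe_set_eq]
    rfl
  have h2 : Nat.card Z = (Z : Set Q).ncard := by
    rw [← Nat.card_coe_set_eq]; rfl
  have h3 : Nat.card B = (B : Set Q).ncard := by
    rw [← Nat.card_coe_set_eq]; rfl
  rw [h1, h2, h3]
  exact Set.ncard_sdiff_add_ncard_of_subset h

end general

section main
variable {S : Type*} [Group S] [Finite S] (p : ℕ) [hp : Fact p.Prime]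

include hp in
lemma center_le (hna : ¬ IsMulCommutative S) (B : Subgroup S) (hB : IsMulCommutative ↥B)
    (hBi : B.index = p) : Subgroup.center S ≤ B := by
  by_contra hle
  have htop : B ⊔ Subgroup.center S = ⊤ :=
    eq_top_of_index_prime_of_not_le B (B ⊔ Subgroup.center S) hBi le_sup_left
      (fun h => hle (le_sup_right.trans h))
  apply hna
  refine ⟨⟨?_⟩⟩
  apply comm_of_sup_eq_top B (Subgroup.center S) (comm_of_inst hB) _ _ htop
  · intro u hu v _
    rw [Subgroup.mem_center_iff] at hu
    exact (hu v).symm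
  · intro u _ v hv
    rw [Subgroup.mem_center_iff] at hv
    exact hv u

/-- the commutator map `a ↦ ⁅a, x⁆` on an abelian normal subgroup -/
def commHom (A : Subgroup S) (hn : A.Normal) (hA : ∀ u ∈ A, ∀ v ∈ A, u * v = v * u) (x : S) :
    ↥A →* S where
  toFun a := ⁅(a : S), x⁆
  map_one' := by simp
  map_mul' a b := by
    have ha' : x * (a : S)⁻¹ * x⁻¹ ∈ A := hn.conj_mem _ (A.inv_mem a.2) x
    have hb' : x * (b : S)⁻¹ * x⁻¹ ∈ A := hn.conj_mem _ (A.inv_mem b.2) x
    have e1 : (x * (a : S)⁻¹ * x⁻¹) * (b : S) = (b : S) * (x * (a : S)⁻¹ * x⁻¹) := hA _ ha' _ b.2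
    have e2 : (a : S)⁻¹ * (b : S)⁻¹ = (b : S)⁻¹ * (a : S)⁻¹ := hA _ (A.inv_mem a.2) _ (A.inv_mem b.2)
    simp only [commutatorElement_def, Subgroup.coe_mul, mul_inv_rev]
    calc (a : S) * b * x * ((b : S)⁻¹ * (a : S)⁻¹) * x⁻¹
        = (a : S) * b * x * ((a : S)⁻¹ * (b : S)⁻¹) * x⁻¹ := by rw [e2]
      _ = (a : S) * (b * (x * (a : S)⁻¹ * x⁻¹)) * (x * (b : S)⁻¹ * x⁻¹) := by group
      _ = (a : S) * ((x * (a : S)⁻¹ * x⁻¹) * b) * (x * (b : S)⁻¹ * x⁻¹) := by rw [e1]
      _ = (a : S) * x * (a : S)⁻¹ * x⁻¹ * ((b : S) * x * (b : S)⁻¹ * x⁻¹) := by group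

omit [Finite S] in
lemma commHom_apply (A : Subgroup S) (hn : A.Normal) (hA : ∀ u ∈ A, ∀ v ∈ A, u * v = v * u) (x : S)
    (a : A) : commHom A hn hA x a = ⁅(a : S), x⁆ := rfl

include hp in
lemma main_identity (hS : IsPGroup p S) (hna : ¬ IsMulCommutative S)
    (A : Subgroup S) (hA : IsMulCommutative ↥A) (hAi : A.index = p) :
    (Subgroup.center S).index = p * Nat.card (commutator S) := by
  have hn : A.Normal := normal_of_index_eq_prime hS A hAi
  have hAc := comm_of_inst hA
  obtain ⟨x, hx⟩ : ∃ x, x ∉ A := by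
    by_contra h
    push Not at h
    have : A = ⊤ := by ext g; simp [h g]
    rw [this, Subgroup.index_top] at hAi
    exact hp.out.one_lt.ne hAi
  have htop : A ⊔ Subgroup.zpowers x = ⊤ :=
    eq_top_of_index_prime_of_not_le A _ hAi le_sup_left
      (fun h => hx (h (le_sup_right (a := A) (Subgroup.mem_zpowers x))))
  have hZA : Subgroup.center S ≤ A := center_le p hna A hA hAi
  have hker : (commHom A hn hAc x).ker = (Subgroup.center S).subgroupOf A := by
    ext a
    rw [MonoidHom.mem_ker, Subgroup.mem_subgroupOf, commHom_apply,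
      commutatorElement_eq_one_iff_mul_comm]
    constructor
    · intro h
      have hle : A ⊔ Subgroup.zpowers x ≤ Subgroup.centralizer {(a : S)} := by
        apply sup_le
        · intro v hv
          rw [Subgroup.mem_centralizer_singleton_iff]
          exact hAc v hv a a.2
        · rw [Subgroup.zpowers_le, Subgroup.mem_centralizer_singleton_iff]
          exact h.symm
      rw [htop] at hle
      rw [Subgroup.mem_center_iff]
      intro g
      have := hle (Subgroup.mem_top g)
      rwa [Subgroup.mem_centralizer_singleton_iff] at this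
    · intro h
      rw [Subgroup.mem_center_iff] at h
      exact (h x).symm
  have hKA : (commHom A hn hAc x).range ≤ A := by
    rintro _ ⟨a, rfl⟩
    rw [commHom_apply, commutatorElement_def, mul_assoc, mul_assoc]
    apply A.mul_mem a.2
    rw [← mul_assoc]
    exact hn.conj_mem _ (A.inv_mem a.2) x
  have hKn : (commHom A hn hAc x).range.Normal := by
    rw [← Subgroup.normalizer_eq_top_iff, eq_top_iff, ← htop]
    apply sup_le
    · intro u hu
      rw [Subgroup.mem_normalizer_iff]
      intro h
      constructor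
      · intro hk
        have hA' : h ∈ A := hKA hk
        rw [hAc u hu h hA', mul_inv_cancel_right]
        exact hk
      · intro hk
        have hA'' : u * h * u⁻¹ ∈ A := hKA hk
        have hA' : h ∈ A := by
          have := A.mul_mem (A.mul_mem (A.inv_mem hu) hA'') hu
          simpa [mul_assoc] using this
        rw [hAc u hu h hA', mul_inv_cancel_right] at hk
        exact hk
    · rw [Subgroup.zpowers_le, Subgroup.mem_normalizer_iff]
      intro h
      constructor
      · rintro ⟨a, rfl⟩
        refine ⟨⟨x * a * x⁻¹, hn.conj_mem _ a.2 x⟩, ?_⟩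
        rw [commHom_apply, commHom_apply]
        simp only [commutatorElement_def]
        group
      · rintro ⟨a, ha⟩
        refine ⟨⟨x⁻¹ * a * x, by simpa using hn.conj_mem _ a.2 x⁻¹⟩, ?_⟩
        rw [commHom_apply] at ha ⊢
        have : h = x⁻¹ * ⁅(a : S), x⁆ * x := by rw [ha]; group
        rw [this]
        simp only [commutatorElement_def]
        group
  have hrange : (commHom A hn hAc x).range = commutator S := by
    apply le_antisymm
    · rintro _ ⟨a, rfl⟩
      rw [commHom_apply, commutator_def]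
      exact Subgroup.commutator_mem_commutator (Subgroup.mem_top _) (Subgroup.mem_top _)
    · apply (Subgroup.Normal.quotient_commutative_iff_commutator_le (N := (commHom A hn hAc x).range)).mp
      refine ⟨⟨?_⟩⟩
      set π := QuotientGroup.mk' (commHom A hn hAc x).range with hπ
      have hcx : ∀ u ∈ A, Commute (π u) (π x) := by
        intro u hu
        rw [← commutatorElement_eq_one_iff_commute, ← map_commutatorElement, hπ,
          QuotientGroup.mk'_apply, QuotientGroup.eq_one_iff]
        exact ⟨⟨u, hu⟩, rfl⟩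
      apply comm_of_sup_eq_top (A.map π) ((Subgroup.zpowers x).map π)
      · rintro _ ⟨u, hu, rfl⟩ _ ⟨v, hv, rfl⟩
        rw [← map_mul, ← map_mul, hAc u hu v hv]
      · rintro _ ⟨u, hu, rfl⟩ _ ⟨v, hv, rfl⟩
        obtain ⟨i, rfl⟩ := Subgroup.mem_zpowers_iff.mp hu
        obtain ⟨j, rfl⟩ := Subgroup.mem_zpowers_iff.mp hv
        rw [← map_mul, ← map_mul, ← zpow_add, ← zpow_add, add_comm]
      · rintro _ ⟨u, hu, rfl⟩ _ ⟨v, hv, rfl⟩
        obtain ⟨j, rfl⟩ := Subgroup.mem_zpowers_iff.mp hv
        rw [map_zpow]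
        exact ((hcx u hu).zpow_right j).eq
      · rw [← Subgroup.map_sup, htop]
        exact Subgroup.map_top_of_surjective _ (QuotientGroup.mk'_surjective _)
  have h1 : (commHom A hn hAc x).ker.index = Nat.card (commHom A hn hAc x).range :=
    Subgroup.index_ker _
  rw [hker, hrange] at h1
  have h2 := Subgroup.relIndex_mul_index hZA
  rw [← h2, hAi, mul_comm]
  congr 1

omit [Finite S] in
include hp in
lemma abelian_of_relIndex (C : Subgroup S) (h : (Subgroup.center S).relIndex C = p) :
    IsMulCommutative ↥C := by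
  have hcard : Nat.card (↥C ⧸ (Subgroup.center S).subgroupOf C) = p := by
    rw [← Subgroup.index_eq_card]; exact h
  have hcyc : IsCyclic (↥C ⧸ (Subgroup.center S).subgroupOf C) := isCyclic_of_prime_card hcard
  apply MonoidHom.isMulCommutative_of_isCyclic_of_ker_le_center
    (QuotientGroup.mk' ((Subgroup.center S).subgroupOf C))
  rw [QuotientGroup.ker_mk']
  intro c hc
  rw [Subgroup.mem_subgroupOf, Subgroup.mem_center_iff] at hc
  rw [Subgroup.mem_center_iff]
  intro d
  exact Subtype.ext (hc d)

omit [Finite S] in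
include hp in
lemma centralizer_props (hZ : (Subgroup.center S).index = p ^ 2) (g : S)
    (hg : g ∉ Subgroup.center S) :
    IsMulCommutative ↥(Subgroup.centralizer ({g} : Set S)) ∧
      (Subgroup.centralizer ({g} : Set S)).index = p := by
  have hZC : Subgroup.center S ≤ Subgroup.centralizer ({g} : Set S) :=
    Subgroup.center_le_centralizer _
  have hgC : g ∈ Subgroup.centralizer ({g} : Set S) := by
    rw [Subgroup.mem_centralizer_singleton_iff]
  have h1 : (Subgroup.center S).relIndex (Subgroup.centralizer ({g} : Set S)) *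
      (Subgroup.centralizer ({g} : Set S)).index = p ^ 2 := by
    rw [Subgroup.relIndex_mul_index hZC, hZ]
  have h2 : (Subgroup.center S).relIndex (Subgroup.centralizer ({g} : Set S)) ≠ 1 := by
    intro h
    rw [Subgroup.relIndex_eq_one] at h
    exact hg (h hgC)
  have h3 : (Subgroup.centralizer ({g} : Set S)).index ≠ 1 := by
    intro h
    rw [Subgroup.index_eq_one] at h
    apply hg
    rw [Subgroup.mem_center_iff]
    intro k
    have : k ∈ Subgroup.centralizer ({g} : Set S) := h ▸ Subgroup.mem_top k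
    rw [Subgroup.mem_centralizer_singleton_iff] at this
    exact this
  obtain ⟨h4, h5⟩ := (Nat.Prime.mul_eq_prime_sq_iff hp.out h2 h3).mp h1
  exact ⟨abelian_of_relIndex p _ h4, h5⟩

include hp in
lemma centralizer_eq (B : Subgroup S) (hB : IsMulCommutative ↥B) (hBi : B.index = p)
    (g : S) (hgB : g ∈ B) (hgZ : g ∉ Subgroup.center S) :
    Subgroup.centralizer ({g} : Set S) = B := by
  by_contra hne
  have hle : B ≤ Subgroup.centralizer ({g} : Set S) := by
    intro b hb
    rw [Subgroup.mem_centralizer_singleton_iff]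
    exact comm_of_inst hB b hb g hgB
  have htop := eq_top_of_index_prime_of_not_le B _ hBi hle (fun h => hne (le_antisymm h hle))
  apply hgZ
  rw [Subgroup.mem_center_iff]
  intro k
  have : k ∈ Subgroup.centralizer ({g} : Set S) := htop ▸ Subgroup.mem_top k
  rwa [Subgroup.mem_centralizer_singleton_iff] at this

include hp in
lemma count (hna : ¬ IsMulCommutative S) (hZ : (Subgroup.center S).index = p ^ 2) :
    Nat.card {B : Subgroup S // IsMulCommutative ↥B ∧ B.index = p} = p + 1 := by
  set z := Nat.card (Subgroup.center S) with hz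
  have hzpos : 0 < z := Nat.card_pos
  have hScard : Nat.card S = z * p ^ 2 := by
    rw [← hZ, hz, Subgroup.card_mul_index]
  let f : {g : S // g ∉ Subgroup.center S} →
      {B : Subgroup S // IsMulCommutative ↥B ∧ B.index = p} :=
    fun g => ⟨Subgroup.centralizer {g.1}, centralizer_props p hZ g.1 g.2⟩
  have hfiber : ∀ y, Nat.card {g // f g = y} + z = z * p := by
    intro y
    have e : {g // f g = y} ≃ {g : S // g ∈ y.1 ∧ g ∉ Subgroup.center S} :=
      { toFun := fun g => ⟨g.1.1, ⟨by
            have h := congrArg Subtype.val g.2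
            change Subgroup.centralizer {g.1.1} = y.1 at h
            rw [← h, Subgroup.mem_centralizer_singleton_iff], g.1.2⟩⟩
        invFun := fun g => ⟨⟨g.1, g.2.2⟩,
          Subtype.ext (centralizer_eq p y.1 y.2.1 y.2.2 g.1 g.2.1 g.2.2)⟩
        left_inv := fun g => rfl
        right_inv := fun g => rfl }
    rw [Nat.card_congr e, hz, card_diff _ y.1 (center_le p hna y.1 y.2.1 y.2.2)]
    have h1 := Subgroup.card_mul_index y.1
    rw [y.2.2, hScard] at h1
    have hp0 : 0 < p := hp.out.pos
    have : Nat.card ↥y.1 * p = z * p * p := by rw [h1]; ring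
    exact Nat.eq_of_mul_eq_mul_right hp0 this
  have htotal : Nat.card {g : S // g ∉ Subgroup.center S} + z = z * p ^ 2 := by
    have e : {g : S // g ∉ Subgroup.center S} ≃
        {g : S // g ∈ (⊤ : Subgroup S) ∧ g ∉ Subgroup.center S} :=
      Equiv.subtypeEquivRight (fun g => by simp)
    rw [Nat.card_congr e, hz, card_diff _ ⊤ le_top, Subgroup.card_top, hScard]
  set c := z * p - z with hc
  have hcz : c + z = z * p := by
    have : z ≤ z * p := Nat.le_mul_of_pos_right z hp.out.pos
    omega
  have hXY := card_of_fibers f c (fun y => by have := hfiber y; omega)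
  set nY := Nat.card {B : Subgroup S // IsMulCommutative ↥B ∧ B.index = p} with hnY
  have e1 : c * (p + 1) + z = z * p ^ 2 := by
    calc c * (p + 1) + z = c * p + (c + z) := by ring
      _ = c * p + z * p := by rw [hcz]
      _ = (c + z) * p := by ring
      _ = z * p * p := by rw [hcz]
      _ = z * p ^ 2 := by ring
  have e2 : nY * c = (p + 1) * c := by
    rw [hXY] at htotal
    linarith
  have hcpos : 0 < c := by
    have h2 : 2 ≤ p := hp.out.two_le
    have : z * 2 ≤ z * p := Nat.mul_le_mul_left z h2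
    omega
  exact Nat.eq_of_mul_eq_mul_right hcpos e2

include hp in
lemma elem_ab (hna : ¬ IsMulCommutative S) (hZ : Nat.card (S ⧸ Subgroup.center S) = p ^ 2) :
    Cfsg.IsElementaryAbelian p (⊤ : Subgroup (S ⧸ Subgroup.center S)) := by
  have hcomm := (IsPGroup.isMulCommutative_of_card_eq_prime_sq hZ).is_comm.comm
  refine ⟨inst_of_comm (fun u _ v _ => hcomm u v), ?_⟩
  intro a _
  have hdvd : orderOf a ∣ p ^ 2 := hZ ▸ orderOf_dvd_natCard a
  obtain ⟨k, hk, hka⟩ := (Nat.dvd_prime_pow hp.out).mp hdvd
  rcases Nat.lt_or_ge k 2 with hk2 | hk2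
  · rw [← orderOf_dvd_iff_pow_eq_one, hka]
    calc p ^ k ∣ p ^ 1 := Nat.pow_dvd_pow p (by omega)
      _ = p := pow_one p
  · exfalso
    have hk' : k = 2 := le_antisymm hk hk2
    rw [hk', ← hZ] at hka
    have hcyc : IsCyclic (S ⧸ Subgroup.center S) := isCyclic_of_orderOf_eq_card a hka
    exact hna (isMulCommutative_of_isCyclic_quotient_center_self S)

include hp in
lemma unique_of_big
    (A : Subgroup S) (hA : IsMulCommutative ↥A) (hAi : A.index = p)
    (hbig : p * p < (Subgroup.center S).index)
    (B : Subgroup S) (hB : IsMulCommutative ↥B) (hBi : B.index = p) : B = A := by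
  by_contra hne
  have hBA : ¬ B ≤ A := by
    intro h
    have h1 := Subgroup.relIndex_mul_index h
    rw [hAi, hBi] at h1
    have h2 : B.relIndex A = 1 := by
      have hp0 : 0 < p := hp.out.pos
      apply Nat.eq_of_mul_eq_mul_right hp0
      rw [h1, one_mul]
    exact hne (le_antisymm h (Subgroup.relIndex_eq_one.mp h2))
  have htop : A ⊔ B = ⊤ :=
    eq_top_of_index_prime_of_not_le A (A ⊔ B) hAi le_sup_left (fun h => hBA (le_sup_right.trans h))
  have hAB : A ⊓ B ≤ Subgroup.center S := by
    rintro g ⟨hgA, hgB⟩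
    have hle : A ⊔ B ≤ Subgroup.centralizer ({g} : Set S) := by
      apply sup_le
      · intro v hv
        rw [Subgroup.mem_centralizer_singleton_iff]
        exact comm_of_inst hA v hv g hgA
      · intro v hv
        rw [Subgroup.mem_centralizer_singleton_iff]
        exact comm_of_inst hB v hv g hgB
    rw [htop] at hle
    rw [Subgroup.mem_center_iff]
    intro k
    have := hle (Subgroup.mem_top k)
    rwa [Subgroup.mem_centralizer_singleton_iff] at this
  have hidx : (A ⊓ B).index ≤ p * p := by
    have := Subgroup.index_inf_le (H := A) (K := B)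
    rwa [hAi, hBi] at this
  have hdvd : (Subgroup.center S).index ∣ (A ⊓ B).index := Subgroup.index_dvd_of_le hAB
  have hne0 : (A ⊓ B).index ≠ 0 := Subgroup.index_ne_zero_of_finite
  have := Nat.le_of_dvd (Nat.pos_of_ne_zero hne0) hdvd
  omega

end main

/-- Let S be a non-abelian finite p-group with an abelian subgroup A of index p. Then [S : Z(S)] = p·#[S,S], and either [S,S] has order p, S/Z(S) is elementary abelian of order p², and S has exactly p + 1 abelian subgroups of index p; or [S,S] has order at least p² and A is the only abelian subgroup of index p in S. -/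
theorem result {S : Type*} [Group S] [Finite S] (p : ℕ) [Fact p.Prime] (hS : IsPGroup p S) (hna : ¬ IsMulCommutative S)
    (A : Subgroup S) (hA : IsMulCommutative ↥A) (hAi : A.index = p) :
    (Subgroup.center S).index = p * Nat.card (commutator S) ∧
      ((Nat.card (commutator S) = p ∧ Cfsg.IsElementaryAbelian p (⊤ : Subgroup (S ⧸ Subgroup.center S)) ∧
          Nat.card (S ⧸ Subgroup.center S) = p ^ 2 ∧
          Nat.card {B : Subgroup S // IsMulCommutative ↥B ∧ B.index = p} = p + 1) ∨
        (p ^ 2 ≤ Nat.card (commutator S) ∧ ∀ B : Subgroup S, IsMulCommutative ↥B → B.index = p → B = A)) := by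
  have hp : p.Prime := Fact.out
  have hid := main_identity p hS hna A hA hAi
  refine ⟨hid, ?_⟩
  obtain ⟨n, hn⟩ := (hS.to_subgroup (commutator S)).exists_card_eq
  rcases n with _ | _ | n
  · exfalso
    apply hna
    rw [pow_zero, Subgroup.card_eq_one] at hn
    refine ⟨⟨fun a b => ?_⟩⟩
    rw [← commutatorElement_eq_one_iff_mul_comm, ← Subgroup.mem_bot, ← hn, commutator_def]
    exact Subgroup.commutator_mem_commutator (Subgroup.mem_top _) (Subgroup.mem_top _)
  · left
    rw [zero_add, pow_one] at hn
    rw [hn] at hid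
    have hZ : (Subgroup.center S).index = p ^ 2 := by rw [hid, sq]
    have hZ' : Nat.card (S ⧸ Subgroup.center S) = p ^ 2 := by
      rw [← Subgroup.index_eq_card]; exact hZ
    exact ⟨hn, elem_ab p hna hZ', hZ', count p hna hZ⟩
  · right
    have h2 : p ^ 2 ≤ p ^ (n + 1 + 1) := Nat.pow_le_pow_right hp.pos (by omega)
    refine ⟨hn ▸ h2, ?_⟩
    intro B hB hBi
    apply unique_of_big p A hA hAi _ B hB hBi
    rw [hid, hn]
    have : p * p ^ 2 ≤ p * p ^ (n + 1 + 1) := Nat.mul_le_mul_left p h2
    have h3 : p * p < p * p ^ 2 := by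
      have := hp.two_le
      nlinarith
    omega

end Cfsg.Agent.S3807
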