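import Cfsg.Statements.S3808
import Cfsg.Agent.Lib.Helper63.PGroup

set_option autoImplicit false
open Cfsg

namespace Cfsg.Agent.S3808

open Cfsg.Agent.Helper63

/-- Let S be a finite p-group with an extraspecial subgroup Q of index p. Then either Z(S) = Z(Q), or S = Q·Z(S) and Z(S) has order p². -/
theorem result {S : Type*} [Group S] [Finite S] (p : ℕ) [Fact p.Prime] (hS : IsPGroup p S) (Q : Subgroup S) (hQ : Cfsg.IsExtraspecial p ↥Q) (hQi : Q.index = p) :
    Subgroup.center S = (Subgroup.center ↥Q).map Q.subtype ∨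
      (Q ⊔ Subgroup.center S = ⊤ ∧ Nat.card (Subgroup.center S) = p ^ 2) := by
  have hp : p.Prime := Fact.out
  have hQn : Q.Normal := normal_of_index_eq_prime hS Q hQi
  set Z : Subgroup S := (Subgroup.center ↥Q).map Q.subtype with hZdef
  have hZn : Z.Normal := inferInstance
  have hZcard : Nat.card Z = p := by
    rw [hZdef, Subgroup.card_map_of_injective Q.subtype_injective]
    exact hQ.2
  have hZc : Z ≤ Subgroup.center S := normal_card_prime_le_center hS Z hZcard
  have hZQ : Z ≤ Q := by
    rintro _ ⟨z, _, rfl⟩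
    exact z.2
  have hinf : Subgroup.center S ⊓ Q = Z := by
    apply le_antisymm
    · rintro x ⟨hxc, hxQ⟩
      refine ⟨⟨x, hxQ⟩, ?_, rfl⟩
      rw [SetLike.mem_coe, Subgroup.mem_center_iff]
      intro g
      apply Subtype.ext
      have hxc' : x ∈ Subgroup.center S := hxc
      rw [Subgroup.mem_center_iff] at hxc'
      exact hxc' g
    · exact le_inf hZc hZQ
  by_cases hle : Subgroup.center S ≤ Q
  · left
    rw [← hinf]
    exact (inf_eq_left.mpr hle).symm
  · right
    have htop : Q ⊔ Subgroup.center S = ⊤ := by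
      apply eq_top_of_index_prime_of_not_le Q _ hQi le_sup_left
      intro h
      exact hle (le_trans le_sup_right h)
    refine ⟨htop, ?_⟩
    have h1 : Q.relIndex (Subgroup.center S ⊔ Q) = Q.relIndex (Subgroup.center S) :=
      Subgroup.relIndex_sup_right (Subgroup.center S) Q
    rw [sup_comm, htop, Subgroup.relIndex_top_right, hQi] at h1
    have h2 : (Q ⊓ Subgroup.center S).relIndex (Subgroup.center S) = Q.relIndex (Subgroup.center S) :=
      Subgroup.inf_relIndex_right Q (Subgroup.center S)
    have h3 : (⊥ : Subgroup S).relIndex (Q ⊓ Subgroup.center S) *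
        (Q ⊓ Subgroup.center S).relIndex (Subgroup.center S) = (⊥ : Subgroup S).relIndex (Subgroup.center S) :=
      Subgroup.relIndex_mul_relIndex ⊥ _ _ bot_le inf_le_right
    rw [Subgroup.relIndex_bot_left, Subgroup.relIndex_bot_left, h2, ← h1, inf_comm, hinf, hZcard] at h3
    rw [← h3, sq]

end Cfsg.Agent.S3808
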