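import Cfsg.Statements.S3809
import Cfsg.Agent.Lib.Helper63.Extraspecial
import Cfsg.Agent.Lib.Helper63.PGroup

set_option autoImplicit false
open Cfsg

namespace Cfsg.Agent.S3809

open Cfsg.Agent.Helper63

/-- Let S be a finite p-group with an extraspecial subgroup of index p. Then S has order p^(2+2n) for some n ≥ 1, derived length at most 3, and exponent dividing p³. -/
theorem result {S : Type*} [Group S] [Finite S] (p : ℕ) [Fact p.Prime] (hS : IsPGroup p S) (Q : Subgroup S) (hQ : Cfsg.IsExtraspecial p ↥Q) (hQi : Q.index = p) :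
    (∃ n : ℕ, 1 ≤ n ∧ Nat.card S = p ^ (2 + 2 * n)) ∧ derivedSeries S 3 = ⊥ ∧ ∀ x : S, x ^ (p ^ 3) = 1 := by
  have hp : p.Prime := Fact.out
  have hQn : Q.Normal := normal_of_index_eq_prime hS Q hQi
  obtain ⟨n, hn1, hn⟩ := extraspecial_card hQ
  have hcardQ : Nat.card (S ⧸ Q) = p := by rw [← Subgroup.index_eq_card, hQi]
  refine ⟨⟨n, hn1, ?_⟩, ?_, ?_⟩
  · rw [← Subgroup.card_mul_index Q, hn, hQi]
    ring
  · -- derived length
    have hcyc : IsCyclic (S ⧸ Q) := isCyclic_of_prime_card hcardQ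
    have hcomm : IsMulCommutative (S ⧸ Q) := by
      constructor; constructor
      intro x y
      obtain ⟨g, hg⟩ := IsCyclic.exists_zpow_surjective (G := S ⧸ Q)
      obtain ⟨a, rfl⟩ := hg x
      obtain ⟨b, rfl⟩ := hg y
      show g ^ a * g ^ b = g ^ b * g ^ a
      rw [← zpow_add, ← zpow_add, add_comm]
    have hD1 : derivedSeries S 1 ≤ Q := by
      rw [derivedSeries_one]
      exact Subgroup.Normal.quotient_commutative_iff_commutator_le.mp hcomm
    set Z : Subgroup S := (Subgroup.center ↥Q).map Q.subtype with hZ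
    have hD2 : derivedSeries S 2 ≤ Z := by
      rw [derivedSeries_succ]
      calc ⁅derivedSeries S 1, derivedSeries S 1⁆ ≤ ⁅Q, Q⁆ := Subgroup.commutator_mono hD1 hD1
        _ = (commutator ↥Q).map Q.subtype := (Subgroup.map_subtype_commutator Q).symm
        _ = Z := by rw [hQ.1.2.2]
    rw [derivedSeries_succ, eq_bot_iff]
    calc ⁅derivedSeries S 2, derivedSeries S 2⁆ ≤ ⁅Z, Z⁆ := Subgroup.commutator_mono hD2 hD2
      _ = ⊥ := by
        rw [Subgroup.commutator_eq_bot_iff_le_centralizer]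
        rintro _ ⟨a, ha, rfl⟩
        rw [Subgroup.mem_centralizer_iff]
        rintro _ ⟨b, hb, rfl⟩
        have hb' : b ∈ Subgroup.center ↥Q := hb
        rw [Subgroup.mem_center_iff] at hb'
        have := hb' a
        have h5 : ((a * b : Q) : S) = ((b * a : Q) : S) := congrArg Subtype.val this
        simpa using h5.symm
  · intro x
    have h1 : x ^ p ∈ Q := by
      rw [← QuotientGroup.eq_one_iff, QuotientGroup.mk_pow, ← hcardQ]
      exact pow_card_eq_one'
    have h2 := extraspecial_pow_mem_center hQ (⟨x ^ p, h1⟩ : Q)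
    have h3 : ((⟨(⟨x ^ p, h1⟩ : Q) ^ p, h2⟩ : Subgroup.center ↥Q)) ^ p = 1 := by
      have hc : Nat.card (Subgroup.center ↥Q) = p := hQ.2
      have h6 := pow_card_eq_one' (x := (⟨(⟨x ^ p, h1⟩ : Q) ^ p, h2⟩ : Subgroup.center ↥Q))
      rw [hc] at h6
      exact h6
    have h4 : ((x ^ p) ^ p) ^ p = 1 := by
      have := congrArg (fun t : Subgroup.center ↥Q => ((t : Q) : S)) h3
      simpa using this
    rw [show p ^ 3 = p * p * p by ring, pow_mul, pow_mul]
    exact h4

end Cfsg.Agent.S3809
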