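import Cfsg.Statements.S3810
import Cfsg.Agent.Lib.Helper63.PGroup
import Cfsg.Agent.Lib.Helper32.PGroupCenter
import Cfsg.Agent.S3807

set_option autoImplicit false
open Cfsg

namespace Cfsg.Agent.S3810

open Cfsg.Agent.Helper63
open Cfsg.Agent.S3807 (comm_of_inst inst_of_comm main_identity)
open scoped commutatorElement

variable {S : Type*} [Group S]

/-- an extraspecial group is not abelian -/
lemma not_comm_of_extraspecial {Q : Type*} [Group Q] (p : ℕ) [hp : Fact p.Prime]
    (hQ : Cfsg.IsExtraspecial p Q) : ¬ IsMulCommutative Q := by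
  intro hc
  have h1 : commutator Q = ⊥ := by
    rw [commutator_def, Subgroup.commutator_eq_bot_iff_le_centralizer]
    intro x _
    rw [Subgroup.mem_centralizer_iff]
    intro y _
    exact hc.is_comm.comm y x
  have h2 : Nat.card (Subgroup.center Q) = p := hQ.2
  rw [← hQ.1.2.2, h1, Subgroup.card_bot] at h2
  exact hp.out.one_lt.ne h2

lemma forward [Finite S] (p : ℕ) [hp : Fact p.Prime] (hS : IsPGroup p S) (Q : Subgroup S)
    (hQ : Cfsg.IsExtraspecial p ↥Q) (hQi : Q.index = p)
    (A : Subgroup S) (hA : IsMulCommutative ↥A) (hAi : A.index = p) : Nat.card S = p ^ 4 := by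
  have hAn : A.Normal := normal_of_index_eq_prime hS A hAi
  have hQna := not_comm_of_extraspecial p hQ
  have hB : IsMulCommutative ↥(A.subgroupOf Q) :=
    inst_of_comm (fun u hu v hv => Subtype.ext (comm_of_inst hA u.1 hu v.1 hv))
  have hBi : (A.subgroupOf Q).index = p := by
    have hdvd : A.relIndex Q ∣ A.index := Subgroup.relIndex_dvd_index_of_normal A Q
    rw [hAi] at hdvd
    rcases (Nat.dvd_prime hp.out).mp hdvd with h | h
    · exfalso
      rw [Subgroup.relIndex_eq_one] at h
      apply hQna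
      exact inst_of_comm (B := (⊤ : Subgroup ↥Q)) (fun u _ v _ =>
        Subtype.ext (comm_of_inst hA u.1 (h u.2) v.1 (h v.2))) |> fun hT =>
          ⟨⟨fun a b => by
            have := hT.is_comm.comm ⟨a, Subgroup.mem_top a⟩ ⟨b, Subgroup.mem_top b⟩
            exact congrArg Subtype.val this⟩⟩
    · exact h
  have hid := main_identity p (hS.to_subgroup Q) hQna (A.subgroupOf Q) hB hBi
  rw [hQ.1.2.2, hQ.2] at hid
  have h1 := Subgroup.card_mul_index (Subgroup.center ↥Q)
  rw [hid, hQ.2] at h1
  have h2 := Subgroup.card_mul_index Q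
  rw [hQi, ← h1] at h2
  rw [← h2]; ring

/-- the commutator map `s ↦ ⁅s, b⁆` when all these commutators are central -/
def commHomC (b : S) (h : ∀ s : S, ⁅s, b⁆ ∈ Subgroup.center S) : S →* S where
  toFun s := ⁅s, b⁆
  map_one' := by simp
  map_mul' s t := by
    have ht := h t
    rw [Subgroup.mem_center_iff] at ht
    have e1 : ⁅s * t, b⁆ = s * ⁅t, b⁆ * (b * s⁻¹ * b⁻¹) := by
      simp only [commutatorElement_def]; group
    have e2 : ⁅t, b⁆ * s * (b * s⁻¹ * b⁻¹) = ⁅t, b⁆ * ⁅s, b⁆ := by
      simp only [commutatorElement_def]; group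
    calc ⁅s * t, b⁆ = s * ⁅t, b⁆ * (b * s⁻¹ * b⁻¹) := e1
      _ = ⁅t, b⁆ * s * (b * s⁻¹ * b⁻¹) := by rw [ht s]
      _ = ⁅t, b⁆ * ⁅s, b⁆ := e2
      _ = ⁅s, b⁆ * ⁅t, b⁆ := (ht _).symm

lemma backward [Finite S] (p : ℕ) [hp : Fact p.Prime] (hS : IsPGroup p S) (Q : Subgroup S)
    (hQ : Cfsg.IsExtraspecial p ↥Q) (hQi : Q.index = p) (hcard : Nat.card S = p ^ 4) :
    ∃ A : Subgroup S, IsMulCommutative ↥A ∧ A.index = p := by
  have hp' : p.Prime := hp.out
  have hQn : Q.Normal := normal_of_index_eq_prime hS Q hQi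
  have hQcard : Nat.card Q = p ^ 3 := by
    have h2 := Subgroup.card_mul_index Q
    rw [hQi, hcard] at h2
    have : Nat.card ↥Q * p = p ^ 3 * p := by rw [h2]; ring
    exact Nat.eq_of_mul_eq_mul_right hp'.pos this
  set Z : Subgroup S := (Subgroup.center ↥Q).map Q.subtype with hZdef
  have hZn : Z.Normal := inferInstance
  have hZcard : Nat.card Z = p := by
    rw [hZdef, Subgroup.card_map_of_injective Q.subtype_injective]
    exact hQ.2
  have hZc : Z ≤ Subgroup.center S := normal_card_prime_le_center hS Z hZcard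
  have hZQ : Z ≤ Q := by
    rintro _ ⟨z, _, rfl⟩
    exact z.2
  have hinf : Subgroup.center S ⊓ Q ≤ Z := by
    rintro x ⟨hxc, hxQ⟩
    refine ⟨⟨x, hxQ⟩, ?_, rfl⟩
    rw [SetLike.mem_coe, Subgroup.mem_center_iff]
    intro g
    apply Subtype.ext
    have hxc' : x ∈ Subgroup.center S := hxc
    rw [Subgroup.mem_center_iff] at hxc'
    exact hxc' g
  -- a noncentral element of Q which is central modulo Z
  have hN : Q.map (QuotientGroup.mk' Z) ≠ ⊥ := by
    intro h
    rw [Subgroup.map_eq_bot_iff, QuotientGroup.ker_mk'] at h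
    have := Subgroup.card_le_of_le h
    rw [hQcard, hZcard] at this
    have h2 : p ^ 1 < p ^ 3 := Nat.pow_lt_pow_right hp'.one_lt (by norm_num)
    rw [pow_one] at h2
    omega
  have hNn : (Q.map (QuotientGroup.mk' Z)).Normal :=
    hQn.map _ (QuotientGroup.mk'_surjective Z)
  obtain ⟨zb, hzbN, hzb1, hzbc⟩ :=
    Cfsg.Agent.Helper32.exists_ne_one_mem_center_of_normal (hS.to_quotient Z) _ hN
  obtain ⟨b, hbQ, rfl⟩ := hzbN
  have hbZ : b ∉ Z := by
    intro h
    apply hzb1
    rw [QuotientGroup.mk'_apply, QuotientGroup.eq_one_iff]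
    exact h
  have hcomm : ∀ s : S, ⁅s, b⁆ ∈ Z := by
    intro s
    rw [← QuotientGroup.eq_one_iff, ← QuotientGroup.mk'_apply, map_commutatorElement,
      commutatorElement_eq_one_iff_mul_comm]
    rw [Subgroup.mem_center_iff] at hzbc
    exact hzbc _
  have hbc : b ∉ Subgroup.center S := fun h => hbZ (hinf ⟨h, hbQ⟩)
  -- the centralizer of b
  set ψ := commHomC b (fun s => hZc (hcomm s)) with hψ
  have hker : ψ.ker = Subgroup.centralizer ({b} : Set S) := by
    ext s
    rw [MonoidHom.mem_ker, Subgroup.mem_centralizer_singleton_iff]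
    change ⁅s, b⁆ = 1 ↔ _
    rw [commutatorElement_eq_one_iff_mul_comm]
  have hrange : ψ.range ≤ Z := by
    rintro _ ⟨s, rfl⟩
    exact hcomm s
  have hAi : (Subgroup.centralizer ({b} : Set S)).index = p := by
    have h1 : ψ.ker.index = Nat.card ψ.range := Subgroup.index_ker ψ
    have h2 : Nat.card ψ.range ∣ p := hZcard ▸ Subgroup.card_dvd_of_le hrange
    rw [hker] at h1
    rw [← h1] at h2
    rcases (Nat.dvd_prime hp').mp h2 with h | h
    · exfalso
      rw [Subgroup.index_eq_one] at h
      apply hbc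
      rw [Subgroup.mem_center_iff]
      intro k
      have : k ∈ Subgroup.centralizer ({b} : Set S) := h ▸ Subgroup.mem_top k
      rwa [Subgroup.mem_centralizer_singleton_iff] at this
    · exact h
  refine ⟨Subgroup.centralizer ({b} : Set S), ?_, hAi⟩
  set A := Subgroup.centralizer ({b} : Set S) with hA
  have hAcard : Nat.card A = p ^ 3 := by
    have h2 := Subgroup.card_mul_index A
    rw [hAi, hcard] at h2
    have : Nat.card ↥A * p = p ^ 3 * p := by rw [h2]; ring
    exact Nat.eq_of_mul_eq_mul_right hp'.pos this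
  -- W = Z⟨b⟩ is central in A of order at least p^2
  set W : Subgroup S := Z ⊔ Subgroup.zpowers b with hW
  have hWA : W ≤ A := by
    apply sup_le
    · exact hZc.trans (Subgroup.center_le_centralizer _)
    · rw [Subgroup.zpowers_le, hA, Subgroup.mem_centralizer_singleton_iff]
  have hWc : W ≤ Subgroup.centralizer (A : Set S) := by
    apply sup_le
    · exact hZc.trans (Subgroup.center_le_centralizer _)
    · rw [Subgroup.zpowers_le, Subgroup.mem_centralizer_iff]
      intro a ha
      rw [SetLike.mem_coe, hA, Subgroup.mem_centralizer_singleton_iff] at ha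
      exact ha
  have hWcard : p ^ 2 ∣ Nat.card W := by
    obtain ⟨k, hk⟩ := (hS.to_subgroup W).exists_card_eq
    have hlt : Nat.card Z < Nat.card W := by
      have hle : Z ≤ W := le_sup_left
      rcases (Subgroup.card_le_of_le hle).lt_or_eq with h | h
      · exact h
      · exfalso
        have := Subgroup.eq_of_le_of_card_ge hle h.ge
        apply hbZ
        rw [this]
        exact le_sup_right (a := Z) (Subgroup.mem_zpowers b)
    rw [hZcard, hk] at hlt
    rw [hk]
    apply Nat.pow_dvd_pow
    by_contra hk2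
    have : k ≤ 1 := by omega
    have := Nat.pow_le_pow_right hp'.pos this
    rw [pow_one] at this
    omega
  have hcen : W.subgroupOf A ≤ Subgroup.center ↥A := by
    intro w hw
    rw [Subgroup.mem_subgroupOf] at hw
    rw [Subgroup.mem_center_iff]
    intro a
    have := hWc hw
    rw [Subgroup.mem_centralizer_iff] at this
    exact Subtype.ext (this a.1 a.2)
  have hWcard' : Nat.card (W.subgroupOf A) = Nat.card W :=
    Nat.card_congr (Subgroup.subgroupOfEquivOfLe hWA).toEquiv
  have hdvd : p ^ 2 ∣ Nat.card (Subgroup.center ↥A) :=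
    (hWcard' ▸ hWcard).trans (Subgroup.card_dvd_of_le hcen)
  have hidx : (Subgroup.center ↥A).index ∣ p := by
    have h1 := Subgroup.card_mul_index (Subgroup.center ↥A)
    rw [hAcard] at h1
    obtain ⟨m, hm⟩ := hdvd
    rw [hm] at h1
    have : p ^ 2 * (m * (Subgroup.center ↥A).index) = p ^ 2 * p := by
      rw [← mul_assoc, h1]; ring
    have h3 := Nat.eq_of_mul_eq_mul_left (pow_pos hp'.pos 2) this
    exact Dvd.intro_left m h3
  have hcyc : IsCyclic (↥A ⧸ Subgroup.center ↥A) := by
    apply isCyclic_of_card_dvd_prime (p := p)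
    rw [← Subgroup.index_eq_card]
    exact hidx
  exact isMulCommutative_of_isCyclic_quotient_center_self ↥A

/-- Let S be a finite p-group with an extraspecial subgroup of index p. Then S has an abelian subgroup of index p if and only if S has order p⁴. -/
theorem result {S : Type*} [Group S] [Finite S] (p : ℕ) [Fact p.Prime] (hS : IsPGroup p S) (Q : Subgroup S) (hQ : Cfsg.IsExtraspecial p ↥Q) (hQi : Q.index = p) :
    (∃ A : Subgroup S, IsMulCommutative ↥A ∧ A.index = p) ↔ Nat.card S = p ^ 4 := by
  constructor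
  · rintro ⟨A, hA, hAi⟩
    exact forward p hS Q hQ hQi A hA hAi
  · exact backward p hS Q hQ hQi

end Cfsg.Agent.S3810
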