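import Cfsg.Statements.S3811
import Mathlib
import Cfsg.Agent.Lib.Helper53.Soft5
-- import your own Cfsg.Agent.* helpers here

set_option autoImplicit false
open Cfsg

namespace Cfsg.Agent.S3811

open Cfsg.Agent.Helper53.Soft
open scoped commutatorElement

/-- Let P be a finite p-group and E an abelian subgroup of P that contains its centralizer, has index p in its normalizer, and has index at least p² in P. Then the subgroups of P containing E are totally ordered by inclusion, each proper one has index p in its normalizer (so they form the normalizer tower of E, with all steps of index p), and the i-th member of the tower above E has nilpotency class i + 1 whenever it is a proper subgroup of P. -/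
theorem result {P : Type*} [Group P] [Finite P] (p : ℕ) [Fact p.Prime] (hP : IsPGroup p P)
    (E : Subgroup P) (hEab : IsMulCommutative ↥E) (hC : Subgroup.centralizer (E : Set P) ≤ E)
    (hN : (E.subgroupOf (Subgroup.normalizer (E : Set P))).index = p) (hidx : p ^ 2 ≤ E.index) :
    (∀ K L : Subgroup P, E ≤ K → E ≤ L → K ≤ L ∨ L ≤ K) ∧
      (∀ K : Subgroup P, E ≤ K → K ≠ ⊤ → (K.subgroupOf (Subgroup.normalizer (K : Set P))).index = p) ∧
      ∀ (i : ℕ) (K : Subgroup P) [Group.IsNilpotent ↥K], E ≤ K → K ≠ ⊤ → K.index * p ^ i = E.index →
        Group.nilpotencyClass ↥K = i + 1 := by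
  have hab : ∀ a ∈ E, ∀ b ∈ E, a * b = b * a := by
    intro a ha b hb
    have := hEab.is_comm.comm (⟨a, ha⟩ : E) ⟨b, hb⟩
    exact congrArg Subtype.val this
  have hN' : E.relIndex (Subgroup.normalizer (E : Set P)) = p := hN
  have hEtop : E ≠ ⊤ := index_ne_one_of_sq_le (Fact.out : p.Prime) hidx
  have hE : E ≠ ⊥ := by
    intro hEbot
    apply hEtop
    rw [eq_top_iff]
    refine le_trans ?_ hC
    intro g _
    rw [Subgroup.mem_centralizer_iff]
    intro e he
    rw [hEbot] at he
    have : e = 1 := by simpa using he
    rw [this]; simp
  have hs : RelSoft p ⊤ ⊥ E :=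
    { hZE := bot_le
      hEK := le_top
      hab := by
        intro a ha b hb
        rw [Subgroup.mem_bot, commutatorElement_def, hab a ha b hb]
        group
      hcent := by
        intro g _ hg
        apply hC
        rw [Subgroup.mem_centralizer_iff]
        intro e he
        have h1 := hg e he
        rw [Subgroup.mem_bot, commutatorElement_def] at h1
        have : g * e = e * g := by
          have := congrArg (fun t => t * e * g) h1
          simpa [mul_assoc] using this
        exact this.symm
      hnorm := by rw [nIn_top]; exact hN' }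
  obtain ⟨hch, hno⟩ := claim1 hP _ ⊥ E le_rfl hs hidx
  refine ⟨hch, hno, ?_⟩
  intro i K _ hEK hKtop hidxK
  have hrel : E.relIndex K = p ^ i := by
    have h1 := Subgroup.relIndex_mul_index hEK
    rw [← hidxK, mul_comm] at h1
    exact Nat.eq_of_mul_eq_mul_left (Nat.pos_of_ne_zero Subgroup.index_ne_zero_of_finite) h1
  apply nilpotencyClass_eq_of_lcs i ?_ (lcs_ne_bot hC hE hno hEK hKtop i hrel)
  cases i with
  | zero =>
    rw [pow_zero, Subgroup.relIndex_eq_one] at hrel
    have hKE : K = E := le_antisymm hrel hEK
    rw [zero_add, Subgroup.lowerCentralSeries_succ, Subgroup.lowerCentralSeries_zero, eq_bot_iff,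
      Subgroup.commutator_le]
    intro a ha b hb
    rw [hKE] at ha hb
    rw [Subgroup.mem_bot, commutatorElement_def, hab a ha b hb]
    group
  | succ j =>
    have h1 := hno K hEK hKtop
    have h2 : ¬ Subgroup.normalizer (K : Set P) ≤ K := by
      intro hle
      have := Subgroup.relIndex_eq_one.mpr hle
      rw [h1] at this
      exact (Fact.out : p.Prime).one_lt.ne' this
    obtain ⟨h, hh, hhK⟩ := SetLike.not_le_iff_exists.mp h2
    have hgen := gen_of_tower hP hch hno hEK hh hhK
    exact lcs_eq_bot hP hab hC hN' hEK j hrel hh hgen

end Cfsg.Agent.S3811
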