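import Cfsg.Statements.S3815

set_option autoImplicit false
open Cfsg

namespace Cfsg.Agent.S3815

/-- Let G be a finite group, p a prime and d ∈ G an element of order prime to p. If dg has order prime to p for every element g ∈ G of order prime to p, then d ∈ O_{p'}(G). -/
theorem result {G : Type*} [Group G] [Finite G] {p : ℕ} [Fact p.Prime]
    (d : G) (hd : (orderOf d).Coprime p)
    (h : ∀ g : G, (orderOf g).Coprime p → (orderOf (d * g)).Coprime p) :
    d ∈ Cfsg.pPrimeCore p G := by
  classical
  have hp : p.Prime := Fact.out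
  -- the property
  let Q : G → Prop := fun x => ∀ g : G, (orderOf g).Coprime p → (orderOf (x * g)).Coprime p
  have hQ1 : Q 1 := by
    intro g hg; simpa using hg
  have hQmul : ∀ x y, Q x → Q y → Q (x * y) := by
    intro x y hx hy g hg
    rw [mul_assoc]
    exact hx _ (hy _ hg)
  have hQpow : ∀ x, Q x → ∀ n : ℕ, Q (x ^ n) := by
    intro x hx n
    induction n with
    | zero => simpa using hQ1
    | succ n ih => rw [pow_succ]; exact hQmul _ _ ih hx
  have hQinv : ∀ x, Q x → Q x⁻¹ := by
    intro x hx
    have : x⁻¹ = x ^ (orderOf x - 1) := by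
      have hpos : 0 < orderOf x := orderOf_pos x
      rw [eq_comm, ← mul_eq_one_iff_eq_inv (b := x), ← pow_succ, Nat.sub_add_cancel hpos, pow_orderOf_eq_one]
    rw [this]
    exact hQpow x hx _
  have hQconj : ∀ c : G, Q (c * d * c⁻¹) := by
    intro c g hg
    have e : c * d * c⁻¹ * g = c * (d * (c⁻¹ * g * c)) * c⁻¹ := by group
    rw [e]
    have h1 : orderOf (c⁻¹ * g * c) = orderOf g := by
      have := (MulAut.conj c⁻¹).orderOf_eq g
      simpa [MulAut.conj_apply] using this
    have h2 := h (c⁻¹ * g * c) (by rw [h1]; exact hg)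
    have h3 : orderOf (c * (d * (c⁻¹ * g * c)) * c⁻¹) = orderOf (d * (c⁻¹ * g * c)) := by
      simpa [MulAut.conj_apply] using (MulAut.conj c).orderOf_eq (d * (c⁻¹ * g * c))
    rw [h3]; exact h2
  have hD : ∀ x ∈ Subgroup.normalClosure ({d} : Set G), Q x := by
    intro x hx
    unfold Subgroup.normalClosure at hx
    induction hx using Subgroup.closure_induction with
    | mem x hx =>
      rw [Group.mem_conjugatesOfSet_iff] at hx
      obtain ⟨a, ha, hax⟩ := hx
      rw [Set.mem_singleton_iff] at ha
      subst ha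
      rw [isConj_iff] at hax
      obtain ⟨c, hc⟩ := hax
      rw [← hc]; exact hQconj c
    | one => exact hQ1
    | mul x y _ _ hx hy => exact hQmul x y hx hy
    | inv x _ hx => exact hQinv x hx
  have hcop : (Nat.card (Subgroup.normalClosure ({d} : Set G))).Coprime p := by
    rw [Nat.coprime_comm, Nat.Prime.coprime_iff_not_dvd hp]
    intro hdvd
    obtain ⟨x, hx⟩ := exists_prime_orderOf_dvd_card' (G := Subgroup.normalClosure ({d} : Set G)) p hdvd
    have h1 := hD x.1 x.2 1 (by simp)
    rw [mul_one, Subgroup.orderOf_coe, hx] at h1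
    exact (Nat.Prime.one_lt hp).ne' (by simpa using h1)
  have hle : Subgroup.normalClosure ({d} : Set G) ≤ Cfsg.pPrimeCore p G := by
    unfold Cfsg.pPrimeCore
    exact le_sSup ⟨Subgroup.normalClosure_normal, hcop⟩
  exact hle (Subgroup.subset_normalClosure (Set.mem_singleton d))

end Cfsg.Agent.S3815
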