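import Mathlib
import Cfsg.Prelude.Def_Solvable
import Cfsg.Agent.Lib.Helper83.CoreCtl
import Cfsg.Agent.Lib.Helper1.Coprime

set_option autoImplicit false
open Cfsg

namespace Cfsg.Agent.S3819

open scoped commutatorElement

/-- Let G be a finite group with Sylow p-subgroup P and H = O_{p'}(G), and suppose G = PH and the commutator subgroup [H, P] is solvable. Let q be a prime and z an element of q-power order of C_H(P). Then (O_{q'}(C_H(z)) ∩ O_{q'}(C_H(P))) · [O_{q'}(C_H(z)), P] ≤ O_{q'}(H). -/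
theorem result {G : Type*} [Group G] [Finite G] {p : ℕ} [Fact p.Prime]
    (P : Sylow p G) (hPH : Cfsg.pPrimeCore p G ⊔ (P : Subgroup G) = ⊤)
    (hsol : Group.IsSolvable ↥⁅Cfsg.pPrimeCore p G, (P : Subgroup G)⁆)
    {q : ℕ} [Fact q.Prime] (z : G) (hzH : z ∈ Cfsg.pPrimeCore p G) (hzP : z ∈ Subgroup.centralizer ((P : Subgroup G) : Set G))
    (hz : ∃ k : ℕ, orderOf z = q ^ k) :
    ((Cfsg.pPrimeCore q ↥(Cfsg.pPrimeCore p G ⊓ Subgroup.centralizer ({z} : Set G))).map
        (Cfsg.pPrimeCore p G ⊓ Subgroup.centralizer ({z} : Set G)).subtype ⊓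
      (Cfsg.pPrimeCore q ↥(Cfsg.pPrimeCore p G ⊓ Subgroup.centralizer ((P : Subgroup G) : Set G))).map
        (Cfsg.pPrimeCore p G ⊓ Subgroup.centralizer ((P : Subgroup G) : Set G)).subtype) ⊔
    ⁅(Cfsg.pPrimeCore q ↥(Cfsg.pPrimeCore p G ⊓ Subgroup.centralizer ({z} : Set G))).map
        (Cfsg.pPrimeCore p G ⊓ Subgroup.centralizer ({z} : Set G)).subtype, (P : Subgroup G)⁆ ≤
    (Cfsg.pPrimeCore q ↥(Cfsg.pPrimeCore p G)).map (Cfsg.pPrimeCore p G).subtype := by
  classical
  set H : Subgroup G := Cfsg.pPrimeCore p G with hH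
  have hHn : H.Normal := (Helper54.pPrimeCore_mem p).1
  have hHp : (Nat.card H).Coprime p := Helper54.pPrimeCore_coprime p
  set Cz : Subgroup G := H ⊓ Subgroup.centralizer ({z} : Set G) with hCz
  set CP : Subgroup G := H ⊓ Subgroup.centralizer ((P : Subgroup G) : Set G) with hCP
  set K : Subgroup G := (Cfsg.pPrimeCore q ↥Cz).map Cz.subtype with hK
  set E : Subgroup G := (Cfsg.pPrimeCore q ↥CP).map CP.subtype with hE
  set Wg : Subgroup G := ⁅H, (P : Subgroup G)⁆ with hWg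
  -- basic containments
  have hKCz : K ≤ Cz := by
    rintro _ ⟨y, _, rfl⟩; exact y.2
  have hECP : E ≤ CP := by
    rintro _ ⟨y, _, rfl⟩; exact y.2
  have hKH : K ≤ H := hKCz.trans inf_le_left
  have hEH : E ≤ H := hECP.trans inf_le_left
  have hWH : Wg ≤ H := Subgroup.commutator_le_left _ _
  -- cards
  have hKq : (Nat.card K).Coprime q := by
    have h1 : Nat.card K = Nat.card (Cfsg.pPrimeCore q ↥Cz) :=
      Nat.card_congr
        ((Cfsg.pPrimeCore q ↥Cz).equivMapOfInjective Cz.subtype Cz.subtype_injective).symm.toEquiv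
    rw [h1]; exact Helper54.pPrimeCore_coprime q
  have hEq : (Nat.card E).Coprime q := by
    have h1 : Nat.card E = Nat.card (Cfsg.pPrimeCore q ↥CP) :=
      Nat.card_congr
        ((Cfsg.pPrimeCore q ↥CP).equivMapOfInjective CP.subtype CP.subtype_injective).symm.toEquiv
    rw [h1]; exact Helper54.pPrimeCore_coprime q
  -- normality of K in Cz and E in CP
  have hKn : ∀ c ∈ Cz, ∀ x ∈ K, c * x * c⁻¹ ∈ K := by
    intro c hc x hx
    exact Helper83.CoreCtl.conj_mem_map_pPrimeCore q Cz c (Subgroup.le_normalizer hc) x hx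
  have hEn : ∀ c ∈ CP, ∀ x ∈ E, c * x * c⁻¹ ∈ E := by
    intro c hc x hx
    exact Helper83.CoreCtl.conj_mem_map_pPrimeCore q CP c (Subgroup.le_normalizer hc) x hx
  -- P normalizes Cz hence K
  have hPCz : (P : Subgroup G) ≤ Subgroup.normalizer (Cz : Set G) := by
    intro x hx
    have hxz : x ∈ Subgroup.centralizer ({z} : Set G) := by
      rw [Subgroup.mem_centralizer_iff] at hzP ⊢
      intro t ht
      rw [Set.mem_singleton_iff] at ht; subst ht
      exact (hzP x hx).symm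
    have hxH : x ∈ Subgroup.normalizer (H : Set G) := by
      rw [Subgroup.normalizer_eq_top]; trivial
    have hxC : x ∈ Subgroup.normalizer ((Subgroup.centralizer ({z} : Set G) : Subgroup G) : Set G) :=
      Subgroup.le_normalizer hxz
    rw [Subgroup.mem_normalizer_iff]
    intro h
    show (h ∈ H ∧ h ∈ Subgroup.centralizer ({z} : Set G)) ↔
      (x * h * x⁻¹ ∈ H ∧ x * h * x⁻¹ ∈ Subgroup.centralizer ({z} : Set G))
    exact and_congr (Subgroup.mem_normalizer_iff.mp hxH h) (Subgroup.mem_normalizer_iff.mp hxC h)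
  have hKP : ∀ x ∈ (P : Subgroup G), ∀ k ∈ K, x * k * x⁻¹ ∈ K := by
    intro x hx k hk
    exact Helper83.CoreCtl.conj_mem_map_pPrimeCore q Cz x (hPCz hx) k hk
  -- the group `L = ↥H`
  have hWn : (Wg.subgroupOf H).Normal := by
    rw [Subgroup.normal_subgroupOf_iff_le_normalizer hWH]
    exact Helper1.le_normalizer_commutator_left H (P : Subgroup G)
  have hWs : Group.IsSolvable (Wg.subgroupOf H) := by
    have := hsol
    exact Group.isSolvable_of_isSolvable_injective
      (f := (Subgroup.subgroupOfEquivOfLe hWH).toMonoidHom) (Subgroup.subgroupOfEquivOfLe hWH).injective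
  have hz' : ∃ k : ℕ, orderOf (⟨z, hzH⟩ : H) = q ^ k := by
    obtain ⟨k, hk⟩ := hz
    exact ⟨k, by rw [Subgroup.orderOf_mk, hk]⟩
  have hKz' : K.subgroupOf H ≤ Subgroup.centralizer ({(⟨z, hzH⟩ : H)} : Set H) := by
    intro x hx
    have h1 : (x : G) ∈ Cz := hKCz (Subgroup.mem_subgroupOf.mp hx)
    have h2 : (x : G) ∈ Subgroup.centralizer ({z} : Set G) := h1.2
    rw [Subgroup.mem_centralizer_iff] at h2 ⊢
    intro t ht
    rw [Set.mem_singleton_iff] at ht; subst ht
    exact Subtype.ext (h2 z rfl)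
  have hKn' : ∀ c ∈ Subgroup.centralizer ({(⟨z, hzH⟩ : H)} : Set H), ∀ x ∈ K.subgroupOf H,
      c * x * c⁻¹ ∈ K.subgroupOf H := by
    intro c hc x hx
    rw [Subgroup.mem_subgroupOf] at hx ⊢
    have hcz : (c : G) ∈ Cz := by
      refine ⟨c.2, ?_⟩
      show (c : G) ∈ Subgroup.centralizer ({z} : Set G)
      rw [Subgroup.mem_centralizer_iff] at hc ⊢
      intro t ht
      rw [Set.mem_singleton_iff] at ht; subst ht
      have := hc ⟨t, hzH⟩ rfl
      exact congrArg Subtype.val this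
    have := hKn (c : G) hcz (x : G) hx
    simpa using this
  have hKq' : (Nat.card (K.subgroupOf H)).Coprime q := by
    rw [Nat.card_congr (Subgroup.subgroupOfEquivOfLe hKH).toEquiv]; exact hKq
  have hEq' : (Nat.card (E.subgroupOf H)).Coprime q := by
    rw [Nat.card_congr (Subgroup.subgroupOfEquivOfLe hEH).toEquiv]; exact hEq
  have hEn' : ∀ c ∈ CP.subgroupOf H, ∀ x ∈ E.subgroupOf H, c * x * c⁻¹ ∈ E.subgroupOf H := by
    intro c hc x hx
    rw [Subgroup.mem_subgroupOf] at hc hx ⊢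
    have := hEn (c : G) hc (x : G) hx
    simpa using this
  have hsup' : Wg.subgroupOf H ⊔ CP.subgroupOf H = ⊤ := by
    rw [eq_top_iff]
    intro h _
    have hPn : (P : Subgroup G) ≤ Subgroup.normalizer (H : Set G) := by
      rw [Subgroup.normalizer_eq_top]; exact le_top
    have hcop : (Nat.card (P : Subgroup G)).Coprime (Nat.card H) := by
      obtain ⟨n, hn⟩ := (P.isPGroup').exists_card_eq
      rw [hn]
      exact Nat.Coprime.pow_left _ hHp.symm
    have hPs : Group.IsSolvable (P : Subgroup G) := by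
      have : Group.IsNilpotent (P : Subgroup G) := (P.isPGroup').isNilpotent
      infer_instance
    obtain ⟨x, hx, c, hc, hxc⟩ := Helper1.exists_commutator_mul_centralizer (P : Subgroup G) H hPn hcop
      (Or.inl hPs) (h : G) h.2
    have e : h = (⟨x, hWH hx⟩ : H) * (⟨c, hc.1⟩ : H) := Subtype.ext hxc
    rw [e]
    exact Subgroup.mul_mem_sup (Subgroup.mem_subgroupOf.mpr hx) (Subgroup.mem_subgroupOf.mpr hc)
  -- apply the abstract lemma
  have hWn' := hWn
  obtain ⟨h1, h2⟩ := Helper83.CoreCtl.core_control (L := H) (q := q) (Wg.subgroupOf H) hWs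
    (⟨z, hzH⟩ : H) hz' (K.subgroupOf H) hKz' hKn' hKq' (CP.subgroupOf H) (E.subgroupOf H) hEn' hEq' hsup'
  rw [sup_le_iff]
  constructor
  · intro x hx
    have hxH : x ∈ H := hKH hx.1
    have h3 : (⟨x, hxH⟩ : H) ∈ K.subgroupOf H ⊓ E.subgroupOf H :=
      ⟨Subgroup.mem_subgroupOf.mpr hx.1, Subgroup.mem_subgroupOf.mpr hx.2⟩
    exact ⟨⟨x, hxH⟩, h1 h3, rfl⟩
  · rw [Subgroup.commutator_le]
    intro k hk x hx
    have hkH : k ∈ H := hKH hk
    have hcK : ⁅k, x⁆ ∈ K := by
      have h4 : x * k⁻¹ * x⁻¹ ∈ K := hKP x hx _ (K.inv_mem hk)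
      have h5 := K.mul_mem hk h4
      have e : k * (x * k⁻¹ * x⁻¹) = ⁅k, x⁆ := by rw [commutatorElement_def]; group
      rwa [e] at h5
    have hcW : ⁅k, x⁆ ∈ Wg := Subgroup.commutator_mem_commutator hkH hx
    have hcH : ⁅k, x⁆ ∈ H := hWH hcW
    have h3 : (⟨⁅k, x⁆, hcH⟩ : H) ∈ K.subgroupOf H ⊓ (Wg.subgroupOf H) :=
      ⟨Subgroup.mem_subgroupOf.mpr hcK, Subgroup.mem_subgroupOf.mpr hcW⟩
    exact ⟨⟨⁅k, x⁆, hcH⟩, h2 h3, rfl⟩

end Cfsg.Agent.S3819
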