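import Cfsg.Statements.S3820

set_option autoImplicit false
open Cfsg

namespace Cfsg.Agent.S3820

variable {G : Type*} [Group G]

lemma map_conj_mul (H : Subgroup G) (a b : G) :
    H.map (MulAut.conj (a * b)).toMonoidHom =
      (H.map (MulAut.conj b).toMonoidHom).map (MulAut.conj a).toMonoidHom := by
  rw [Subgroup.map_map]
  congr 1
  ext y
  simp [MulAut.conj_apply, mul_assoc]

lemma mem_map_conj (H : Subgroup G) (g y : G) :
    y ∈ H.map (MulAut.conj g).toMonoidHom ↔ g⁻¹ * y * g ∈ H := by
  constructor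
  · rintro ⟨h, hh, rfl⟩
    simpa [MulAut.conj_apply, mul_assoc] using hh
  · intro h
    refine ⟨g⁻¹ * y * g, h, ?_⟩
    simp [MulAut.conj_apply, mul_assoc]

lemma map_conj_le_of_mem (H T : Subgroup G) (x : G) (hx : x ∈ T) (hH : H ≤ T) :
    H.map (MulAut.conj x).toMonoidHom ≤ T := by
  intro y hy
  rw [mem_map_conj] at hy
  have : y = x * (x⁻¹ * y * x) * x⁻¹ := by group
  rw [this]
  exact T.mul_mem (T.mul_mem hx (hH hy)) (T.inv_mem hx)

/-- Call a subgroup H of G pronormal if H and gHg⁻¹ are conjugate inside ⟨H, gHg⁻¹⟩ for every g ∈ G. Let S ≤ H ≤ G be subgroups of a finite group with S pronormal in G (for instance S a Sylow subgroup). Then H is pronormal in G if and only if H and gHg⁻¹ are conjugate inside ⟨H, gHg⁻¹⟩ for every g ∈ N_G(S). In particular H is pronormal whenever N_G(S) ≤ H. -/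
theorem result {G : Type*} [Group G] [Finite G] (S H : Subgroup G) (hSH : S ≤ H)
    (hS : Cfsg.IsPronormal S) :
    Cfsg.IsPronormal H ↔
      ∀ g ∈ Subgroup.normalizer (S : Set G), ∃ w ∈ H ⊔ H.map (MulAut.conj g).toMonoidHom,
        H.map (MulAut.conj g).toMonoidHom = H.map (MulAut.conj w).toMonoidHom := by
  constructor
  · intro hH g _
    exact hH g
  · intro hyp g
    obtain ⟨x, hxmem, hx⟩ := hS g
    set T := H ⊔ H.map (MulAut.conj g).toMonoidHom with hT
    have hxT : x ∈ T :=
      (sup_le_sup hSH (Subgroup.map_mono hSH)) hxmem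
    -- n = x⁻¹ * g normalizes S
    have hn : x⁻¹ * g ∈ Subgroup.normalizer (S : Set G) := by
      have h1 : S.map (MulAut.conj (x⁻¹ * g)).toMonoidHom = S := by
        rw [map_conj_mul, hx, ← map_conj_mul]
        ext y
        rw [mem_map_conj]
        simp
      rw [Subgroup.mem_normalizer_iff]
      intro h
      constructor
      · intro hh
        rw [← h1]
        exact ⟨h, hh, by simp [MulAut.conj_apply, mul_assoc]⟩
      · intro hh
        have : (x⁻¹ * g) * h * (x⁻¹ * g)⁻¹ ∈ S.map (MulAut.conj (x⁻¹ * g)).toMonoidHom := by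
          rw [h1]; exact hh
        rw [mem_map_conj] at this
        simpa [mul_assoc] using this
    obtain ⟨w, hwmem, hw⟩ := hyp _ hn
    have hHg : H.map (MulAut.conj g).toMonoidHom ≤ T := le_sup_right
    have hHn : H.map (MulAut.conj (x⁻¹ * g)).toMonoidHom ≤ T := by
      rw [map_conj_mul]
      exact map_conj_le_of_mem _ T x⁻¹ (T.inv_mem hxT) hHg
    have hwT : w ∈ T := (sup_le (le_sup_left) hHn) hwmem
    refine ⟨x * w, T.mul_mem hxT hwT, ?_⟩
    have e : g = x * (x⁻¹ * g) := by group
    conv_lhs => rw [e]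
    rw [map_conj_mul, hw, ← map_conj_mul]

end Cfsg.Agent.S3820
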