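import Cfsg.Statements.S3821

set_option autoImplicit false
open Cfsg

namespace Cfsg.Agent.S3821

variable {G : Type*} [Group G]

lemma map_conj_mul (H : Subgroup G) (a b : G) :
    H.map (MulAut.conj (a * b)).toMonoidHom =
      (H.map (MulAut.conj b).toMonoidHom).map (MulAut.conj a).toMonoidHom := by
  rw [Subgroup.map_map]
  congr 1
  ext y
  simp [MulAut.conj_apply, mul_assoc]

lemma mem_map_conj (H : Subgroup G) (g y : G) :
    y ∈ H.map (MulAut.conj g).toMonoidHom ↔ g⁻¹ * y * g ∈ H := by
  constructor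
  · rintro ⟨h, hh, rfl⟩
    simpa [MulAut.conj_apply, mul_assoc] using hh
  · intro h
    refine ⟨g⁻¹ * y * g, h, ?_⟩
    simp [MulAut.conj_apply, mul_assoc]

lemma map_conj_le_of_mem (H T : Subgroup G) (x : G) (hx : x ∈ T) (hH : H ≤ T) :
    H.map (MulAut.conj x).toMonoidHom ≤ T := by
  intro y hy
  rw [mem_map_conj] at hy
  have : y = x * (x⁻¹ * y * x) * x⁻¹ := by group
  rw [this]
  exact T.mul_mem (T.mul_mem hx (hH hy)) (T.inv_mem hx)

lemma map_conj_eq_self_of_mem_normalizer (H : Subgroup G) (n : G)
    (hn : n ∈ Subgroup.normalizer (H : Set G)) :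
    H.map (MulAut.conj n).toMonoidHom = H := by
  ext y
  rw [mem_map_conj]
  have hn' := Subgroup.inv_mem _ hn
  rw [Subgroup.mem_normalizer_iff] at hn'
  have := hn' y
  simp only [inv_inv] at this
  exact this.symm

lemma mem_normalizer_of_map_conj_eq (H : Subgroup G) (n : G)
    (h1 : H.map (MulAut.conj n).toMonoidHom = H) :
    n ∈ Subgroup.normalizer (H : Set G) := by
  rw [Subgroup.mem_normalizer_iff]
  intro h
  constructor
  · intro hh
    rw [← h1]
    exact ⟨h, hh, by simp [MulAut.conj_apply]⟩
  · intro hh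
    have : n * h * n⁻¹ ∈ H.map (MulAut.conj n).toMonoidHom := by
      rw [h1]; exact hh
    rw [mem_map_conj] at this
    simpa [mul_assoc] using this

lemma map_conj_subtype (A : Subgroup G) (K : Subgroup A) (a : A) :
    (K.map (MulAut.conj a).toMonoidHom).map A.subtype =
      (K.map A.subtype).map (MulAut.conj (a : G)).toMonoidHom := by
  rw [Subgroup.map_map, Subgroup.map_map]
  congr 1

/-- Let A be a normal subgroup of the finite group G and H a subgroup of A. Then H is pronormal in G (H and gHg⁻¹ conjugate inside ⟨H, gHg⁻¹⟩ for every g ∈ G) if and only if H is pronormal in A and G = A · N_G(H). -/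
theorem result {G : Type*} [Group G] [Finite G] (A H : Subgroup G) [A.Normal] (hHA : H ≤ A) :
    Cfsg.IsPronormal H ↔ (Cfsg.IsPronormal (H.subgroupOf A) ∧ A ⊔ Subgroup.normalizer (H : Set G) = ⊤) := by
  have hmapH : (H.subgroupOf A).map A.subtype = H := Subgroup.map_subgroupOf_eq_of_le hHA
  have hinj : Function.Injective (Subgroup.map A.subtype) :=
    Subgroup.map_injective A.subtype_injective
  have hconjA : ∀ g : G, H.map (MulAut.conj g).toMonoidHom ≤ A := by
    intro g y hy
    rw [mem_map_conj] at hy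
    have h1 : g⁻¹ * y * g ∈ A := hHA hy
    have h2 := (inferInstance : A.Normal).conj_mem _ h1 g
    simpa [mul_assoc] using h2
  constructor
  · intro hH
    refine ⟨?_, ?_⟩
    · intro a
      obtain ⟨x, hxmem, hx⟩ := hH (a : G)
      have hxA : x ∈ A := (sup_le hHA (hconjA a)) hxmem
      refine ⟨⟨x, hxA⟩, ?_, ?_⟩
      · -- membership
        have : (⟨x, hxA⟩ : A) ∈ (H.subgroupOf A ⊔ (H.subgroupOf A).map (MulAut.conj a).toMonoidHom) ↔
            x ∈ (H.subgroupOf A ⊔ (H.subgroupOf A).map (MulAut.conj a).toMonoidHom).map A.subtype := by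
          constructor
          · intro h; exact ⟨_, h, rfl⟩
          · rintro ⟨y, hy, hyx⟩
            have : y = ⟨x, hxA⟩ := Subtype.ext hyx
            rw [← this]; exact hy
        rw [this, Subgroup.map_sup, map_conj_subtype, hmapH]
        exact hxmem
      · apply hinj
        rw [map_conj_subtype, map_conj_subtype, hmapH]
        exact hx
    · rw [eq_top_iff]
      intro g _
      obtain ⟨x, hxmem, hx⟩ := hH g
      have hxA : x ∈ A := (sup_le hHA (hconjA g)) hxmem
      have hn : x⁻¹ * g ∈ Subgroup.normalizer (H : Set G) := by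
        apply mem_normalizer_of_map_conj_eq
        rw [map_conj_mul, hx, ← map_conj_mul]
        ext y
        rw [mem_map_conj]
        simp
      have : g = x * (x⁻¹ * g) := by group
      rw [this]
      exact Subgroup.mul_mem_sup hxA hn
  · rintro ⟨hHA', htop⟩ g
    have hg : g ∈ A ⊔ Subgroup.normalizer (H : Set G) := by rw [htop]; trivial
    rw [Subgroup.mem_sup_of_normal_left] at hg
    obtain ⟨a, ha, n, hn, rfl⟩ := hg
    obtain ⟨x', hxmem, hx⟩ := hHA' ⟨a, ha⟩
    have e1 : H.map (MulAut.conj (a * n)).toMonoidHom = H.map (MulAut.conj a).toMonoidHom := by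
      rw [map_conj_mul, map_conj_eq_self_of_mem_normalizer H n hn]
    rw [e1]
    refine ⟨(x' : G), ?_, ?_⟩
    · have h1 : (x' : G) ∈ (H.subgroupOf A ⊔ (H.subgroupOf A).map (MulAut.conj (⟨a, ha⟩ : A)).toMonoidHom).map A.subtype :=
        ⟨x', hxmem, rfl⟩
      rw [Subgroup.map_sup, map_conj_subtype, hmapH] at h1
      exact h1
    · have h2 := congrArg (Subgroup.map A.subtype) hx
      rw [map_conj_subtype, map_conj_subtype, hmapH] at h2
      exact h2

end Cfsg.Agent.S3821
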