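import Cfsg.Statements.S3822
import Cfsg.Agent.Lib.Helper52.FLMain

set_option autoImplicit false
open Cfsg

namespace Cfsg.Agent.S3822

/-- Let G be a finite group and P a subgroup of prime order p > 3. Consider the solvable subgroups A of G of the form A = ⟨P, aPa⁻¹⟩ for some a ∈ A, and let A be maximal under inclusion among them. Then for every nilpotent subgroup V of G normalized by A, the subgroup F(A)V generated by the Fitting subgroup of A and V is nilpotent. -/
theorem result {G : Type*} [Group G] [Finite G]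
    {p : ℕ} [Fact p.Prime] (hp : 3 < p) (P : Subgroup G) (hP : Nat.card P = p) (A : Subgroup G)
    (hA : Group.IsSolvable ↥A ∧ ∃ a ∈ A, A = P ⊔ P.map (MulAut.conj a).toMonoidHom)
    (hmax : ∀ B : Subgroup G, A ≤ B → Group.IsSolvable ↥B → (∃ b ∈ B, B = P ⊔ P.map (MulAut.conj b).toMonoidHom) → B = A)
    (V : Subgroup G) (hV : Group.IsNilpotent ↥V) (hAV : A ≤ Subgroup.normalizer (V : Set G)) :
    Group.IsNilpotent ↥((Cfsg.fittingSubgroup ↥A).map A.subtype ⊔ V) := by
  classical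
  have hp5 : 5 ≤ p := by
    have hpp := (Fact.out : p.Prime)
    by_contra hlt
    push Not at hlt
    have h4 : p = 4 := by omega
    rw [h4] at hpp
    exact absurd hpp (by decide)
  have hyp : Cfsg.Agent.Helper52.FL.Hyp p P A := ⟨hP, hA.1, hA.2, hmax⟩
  have hFnil : Group.IsNilpotent ↥((Cfsg.fittingSubgroup ↥A).map A.subtype) := by
    have : Group.IsNilpotent ↥(Cfsg.fittingSubgroup ↥A) :=
      Cfsg.Agent.Helper22.isNilpotent_fittingSubgroup
    exact Group.nilpotent_of_mulEquiv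
      ((Cfsg.fittingSubgroup ↥A).equivMapOfInjective A.subtype A.subtype_injective)
  have hFA : (Cfsg.fittingSubgroup ↥A).map A.subtype ≤ A := Subgroup.map_subtype_le _
  have hAF : A ≤ Subgroup.normalizer (((Cfsg.fittingSubgroup ↥A).map A.subtype : Subgroup G) : Set G) := by
    intro g hg
    rw [Subgroup.mem_normalizer_iff]
    have key : ∀ z : G, z ∈ A → ∀ x ∈ (Cfsg.fittingSubgroup ↥A).map A.subtype,
        z * x * z⁻¹ ∈ (Cfsg.fittingSubgroup ↥A).map A.subtype := by
      rintro z hz x ⟨f, hf, rfl⟩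
      have hn : (Cfsg.fittingSubgroup ↥A).Normal := inferInstance
      exact ⟨⟨z, hz⟩ * f * ⟨z, hz⟩⁻¹, hn.conj_mem f hf ⟨z, hz⟩, by simp⟩
    intro x
    constructor
    · intro hx; exact key g hg x hx
    · intro hx
      have := key g⁻¹ (A.inv_mem hg) _ hx
      have h2 : g⁻¹ * (g * x * g⁻¹) * g⁻¹⁻¹ = x := by group
      rw [h2] at this
      exact this
  have hsyl : ∀ (N : Subgroup G), Group.IsNilpotent ↥N → ∀ (t : ℕ) [Fact t.Prime],
      Subgroup.normalizer (N : Set G) ≤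
        Subgroup.normalizer ((Cfsg.Agent.Helper9.Wielandt.sylOf N t : Subgroup G) : Set G) := by
    intro N hN t _ g hg
    have key : ∀ z : G, z ∈ Subgroup.normalizer (N : Set G) →
        ∀ x ∈ Cfsg.Agent.Helper9.Wielandt.sylOf N t, z * x * z⁻¹ ∈ Cfsg.Agent.Helper9.Wielandt.sylOf N t := by
      intro z hz x hx
      rw [Cfsg.Agent.Helper9.Wielandt.mem_sylOf_iff hN] at hx ⊢
      obtain ⟨hxN, k, hk⟩ := hx
      refine ⟨(Subgroup.mem_normalizer_iff.mp hz x).mp hxN, k, ?_⟩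
      rw [conj_pow, hk]; group
    rw [Subgroup.mem_normalizer_iff]
    intro x
    constructor
    · intro hx; exact key g hg x hx
    · intro hx
      have := key g⁻¹ (Subgroup.inv_mem _ hg) _ hx
      have h2 : g⁻¹ * (g * x * g⁻¹) * g⁻¹⁻¹ = x := by group
      rw [h2] at this
      exact this
  apply Cfsg.Agent.Helper52.FL.P.nilpotent_sup _ V hFnil hV (hFA.trans hAV)
  intro r s hr hs hrs x hx y hy hxs hyr
  have : Fact r.Prime := ⟨hr⟩
  have : Fact s.Prime := ⟨hs⟩
  have hxQ : x ∈ Cfsg.Agent.Helper9.Wielandt.sylOf ((Cfsg.fittingSubgroup ↥A).map A.subtype) s :=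
    (Cfsg.Agent.Helper9.Wielandt.mem_sylOf_iff hFnil).mpr ⟨hx, hxs⟩
  have hyR : y ∈ Cfsg.Agent.Helper9.Wielandt.sylOf V r :=
    (Cfsg.Agent.Helper9.Wielandt.mem_sylOf_iff hV).mpr ⟨hy, hyr⟩
  have hcl := Cfsg.Agent.Helper52.FL.main_claim hp5 hyp hrs
    (Cfsg.Agent.Helper9.Wielandt.sylOf ((Cfsg.fittingSubgroup ↥A).map A.subtype) s)
    ((Cfsg.Agent.Helper9.Wielandt.sylOf_le _ s).trans hFA)
    (hAF.trans (hsyl _ hFnil s))
    (Cfsg.Agent.Helper9.Wielandt.isPGroup_sylOf _ s)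
    (Nat.card (Cfsg.Agent.Helper9.Wielandt.sylOf V r)) (Cfsg.Agent.Helper9.Wielandt.sylOf V r) rfl
    (Cfsg.Agent.Helper9.Wielandt.isPGroup_sylOf V r) (hAV.trans (hsyl V hV r))
  exact (Subgroup.mem_centralizer_iff.mp (hcl hyR) x hxQ)

end Cfsg.Agent.S3822
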