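import Cfsg.Statements.S3824
import Cfsg.Agent.S0143
import Cfsg.Agent.Lib.Helper79.GroupAux

set_option autoImplicit false
open Cfsg

namespace Cfsg.Agent.S3824

universe u

/-- solvable from commutative -/
theorem solvable_of_prime_card {G : Type u} [Group G] [Finite G] (h : (Nat.card G).Prime) :
    Group.IsSolvable G := by
  have : Fact (Nat.card G).Prime := ⟨h⟩
  have : IsCyclic G := isCyclic_of_prime_card rfl
  obtain ⟨c, hc⟩ := IsCyclic.exists_generator (α := G)
  refine Group.isSolvable_of_comm (fun a b => ?_)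
  obtain ⟨i, rfl⟩ := Subgroup.mem_zpowers_iff.1 (hc a)
  obtain ⟨j, rfl⟩ := Subgroup.mem_zpowers_iff.1 (hc b)
  rw [← zpow_add, ← zpow_add, add_comm]

/-- a finite group with an abelian subgroup of prime power index is solvable -/
theorem aux (p : ℕ) (hp : p.Prime) : ∀ n : ℕ, ∀ (G : Type u) [Group G] [Finite G],
    Nat.card G = n → (∃ A : Subgroup G, IsMulCommutative A ∧ ∃ k : ℕ, A.index = p ^ k) →
    Group.IsSolvable G := by
  intro n
  induction n using Nat.strong_induction_on with
  | _ n ih =>
    intro G _ _ hn hA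
    obtain ⟨A, hAc, k, hk⟩ := hA
    have : Fact p.Prime := ⟨hp⟩
    by_cases hsimple : IsSimpleGroup G
    · by_cases hAbot : A = ⊥
      · rw [hAbot, Subgroup.index_bot] at hk
        have hpg : IsPGroup p G := IsPGroup.of_card hk
        have := hpg.isNilpotent
        exact IsNilpotent.to_isSolvable
      · obtain ⟨a, haA, ha1⟩ := (Subgroup.ne_bot_iff_exists_ne_one (H := A)).1 hAbot |> fun ⟨x, hx⟩ =>
          (⟨(x : G), x.2, fun h => hx (Subtype.ext h)⟩ : ∃ a : G, a ∈ A ∧ a ≠ 1)
        have hle : A ≤ Subgroup.centralizer ({a} : Set G) := by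
          intro x hx
          rw [Subgroup.mem_centralizer_iff]
          intro y hy
          rw [Set.mem_singleton_iff] at hy
          subst hy
          have := hAc.is_comm.comm (⟨y, haA⟩ : A) ⟨x, hx⟩
          exact congrArg Subtype.val this
        have hdvd : (Subgroup.centralizer ({a} : Set G)).index ∣ p ^ k := by
          rw [← hk]; exact Subgroup.index_dvd_of_le hle
        obtain ⟨j, -, hj⟩ := (Nat.dvd_prime_pow hp).1 hdvd
        exact solvable_of_prime_card (Cfsg.Agent.S0143.result p j hp a ha1 hj)
    by_cases htriv : Subsingleton G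
    · exact Group.isSolvable_of_comm (fun a b => Subsingleton.elim _ _)
    rw [not_subsingleton_iff_nontrivial] at htriv
    have hex : ∃ N : Subgroup G, N.Normal ∧ N ≠ ⊥ ∧ N ≠ ⊤ := by
      by_contra hcon
      push Not at hcon
      apply hsimple
      refine ⟨fun N hN => ?_⟩
      by_cases hb : N = ⊥
      · exact Or.inl hb
      · exact Or.inr (hcon N hN hb)
    obtain ⟨N, hNn, hNbot, hNtop⟩ := hex
    have hcardN : Nat.card N < n := by
      rw [← hn]
      apply lt_of_le_of_ne (Subgroup.card_le_card_group N)
      intro h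
      exact hNtop ((Subgroup.card_eq_iff_eq_top N).1 h)
    have hcardQ : Nat.card (G ⧸ N) < n := by
      rw [← hn, ← Subgroup.index_eq_card, ← Subgroup.card_mul_index N]
      have h1 : 1 < Nat.card N := by
        rw [Finite.one_lt_card_iff_nontrivial]
        exact (Subgroup.nontrivial_iff_ne_bot _).2 hNbot
      have h2 : 0 < N.index := Nat.pos_of_ne_zero Subgroup.index_ne_zero_of_finite
      nlinarith
    have : Group.IsSolvable N := by
      apply ih _ hcardN N rfl
      refine ⟨A.subgroupOf N, Subgroup.subgroupOf_isMulCommutative N A, ?_⟩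
      have hd : A.relIndex N ∣ p ^ k := by
        rw [← hk]; exact Cfsg.Agent.Helper79.relIndex_dvd_index_of_normal_right A N
      obtain ⟨j, -, hj⟩ := (Nat.dvd_prime_pow hp).1 hd
      exact ⟨j, hj⟩
    have : Group.IsSolvable (G ⧸ N) := by
      apply ih _ hcardQ (G ⧸ N) rfl
      refine ⟨A.map (QuotientGroup.mk' N), Subgroup.map_isMulCommutative A _, ?_⟩
      have hd : (A.map (QuotientGroup.mk' N)).index ∣ p ^ k := by
        rw [← hk]; exact Subgroup.index_map_dvd A (QuotientGroup.mk'_surjective N)
      obtain ⟨j, -, hj⟩ := (Nat.dvd_prime_pow hp).1 hd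
      exact ⟨j, hj⟩
    apply Group.isSolvable_of_ker_le_range N.subtype (QuotientGroup.mk' N)
    rw [QuotientGroup.ker_mk', Subgroup.range_subtype]

/-- Every finite group having an abelian subgroup whose index is a power of 2 is solvable. -/
theorem result {G : Type*} [Group G] [Finite G]
    (A : Subgroup G) (hA : IsMulCommutative A) (hidx : ∃ k : ℕ, A.index = 2 ^ k) : Group.IsSolvable G :=
  aux 2 Nat.prime_two (Nat.card G) G rfl ⟨A, hA, hidx⟩

end Cfsg.Agent.S3824
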