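import Cfsg.Statements.S3825
import Mathlib

set_option autoImplicit false
open Cfsg

namespace Cfsg.Agent.S3825

/-- Let U be a subgroup of a finite group H and w an involution of H normalizing U and commuting with exactly two elements of U, the identity and y. If V is a non-cyclic elementary abelian 2-subgroup of U containing y which is normal in U and invariant under w, then V is a Sylow 2-subgroup of U, V has order 4, and U/V is abelian. -/
theorem result {H : Type*} [Group H] [Finite H] (U : Subgroup H) (w : H) (hw : orderOf w = 2)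
    (hwU : w ∈ Subgroup.normalizer (U : Set H)) (y : H) (hy : y ≠ 1) (hyU : y ∈ U)
    (hfix : ∀ u ∈ U, w * u * w⁻¹ = u ↔ (u = 1 ∨ u = y))
    (V : Subgroup H) (hVU : V ≤ U) (hVn : (V.subgroupOf U).Normal) (hVw : ∀ v ∈ V, w * v * w⁻¹ ∈ V)
    (hVe : Cfsg.IsElementaryAbelian 2 V) (hVc : ¬ IsCyclic ↥V) (hyV : y ∈ V) :
    ¬ 2 ∣ V.relIndex U ∧ Nat.card ↥V = 4 ∧ ⁅U, U⁆ ≤ V := by
  classical
  have hw2 : w * w = 1 := by rw [← sq, ← hw, pow_orderOf_eq_one]
  have hwinv : w⁻¹ = w := inv_eq_of_mul_eq_one_right hw2
  let f : H ≃* H := MulAut.conj w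
  have hf : ∀ x, f x = w * x * w⁻¹ := fun x => rfl
  have hff : ∀ x, f (f x) = x := by
    intro x
    rw [hf, hf]
    have : w * (w * x * w⁻¹) * w⁻¹ = (w * w) * x * (w * w)⁻¹ := by group
    rw [this, hw2]; simp
  have hfU : ∀ u ∈ U, f u ∈ U := fun u hu => ((Subgroup.mem_normalizer_iff.mp hwU) u).mp hu
  have hVcomm : ∀ a ∈ V, ∀ b ∈ V, a * b = b * a := by
    intro a ha b hb
    have := hVe.1.is_comm.comm (⟨a, ha⟩ : V) ⟨b, hb⟩
    exact congrArg Subtype.val this
  have hVinv : ∀ v ∈ V, v⁻¹ = v := by
    intro v hv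
    have := hVe.2 v hv
    rw [sq] at this
    exact inv_eq_of_mul_eq_one_right this
  -- Lemma A
  have hA : ∀ u ∈ U, u⁻¹ * f u ∈ V → f u = u ∨ f u = u * y := by
    intro u hu hc
    have hcU : u⁻¹ * f u ∈ U := hVU hc
    have h1 : f (u⁻¹ * f u) = (u⁻¹ * f u)⁻¹ := by
      rw [map_mul, map_inv, hff, mul_inv_rev, inv_inv]
    rw [hVinv _ hc] at h1
    rcases (hfix _ hcU).mp h1 with h2 | h2
    · left
      have : f u = u * (u⁻¹ * f u) := by group
      rw [this, h2, mul_one]
    · right
      have : f u = u * (u⁻¹ * f u) := by group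
      rw [this, h2]
  -- the element a
  have hexa : ∃ a ∈ V, a ≠ 1 ∧ a ≠ y := by
    by_contra hcon
    push Not at hcon
    apply hVc
    refine ⟨⟨⟨y, hyV⟩, ?_⟩⟩
    intro v
    by_cases hv1 : (v : H) = 1
    · refine ⟨0, ?_⟩
      apply Subtype.ext
      simp [hv1]
    · have := hcon v v.2 hv1
      refine ⟨1, ?_⟩
      apply Subtype.ext
      simp [this]
  obtain ⟨a, haV, ha1, hay⟩ := hexa
  have haU : a ∈ U := hVU haV
  have hfa : f a = a * y := by
    rcases hA a haU (V.mul_mem (V.inv_mem haV) (hVw a haV)) with h | h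
    · exfalso
      rcases (hfix a haU).mp h with h' | h'
      · exact ha1 h'
      · exact hay h'
    · exact h
  -- Lemma B
  have hB : ∀ u ∈ U, f u = u * y → u = a ∨ u = a * y := by
    intro u hu hfu
    have h1 : f (u * a⁻¹) = u * a⁻¹ := by
      rw [map_mul, map_inv, hfu, hfa]
      group
    rcases (hfix _ (U.mul_mem hu (U.inv_mem haU))).mp h1 with h2 | h2
    · left
      exact mul_inv_eq_one.mp h2
    · right
      rw [hVcomm a haV y hyV]
      exact mul_inv_eq_iff_eq_mul.mp h2
  -- Lemma C
  have hC : ∀ u ∈ U, u⁻¹ * f u ∈ V → u ∈ V := by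
    intro u hu hc
    rcases hA u hu hc with h | h
    · rcases (hfix u hu).mp h with h' | h'
      · rw [h']; exact V.one_mem
      · rw [h']; exact hyV
    · rcases hB u hu h with h' | h'
      · rw [h']; exact haV
      · rw [h']; exact V.mul_mem haV hyV
  -- Lemma D
  have hD : (V : Set H) = {1, y, a, a * y} := by
    ext v
    constructor
    · intro hv
      have hvV : v ∈ V := hv
      have hvU := hVU hvV
      rcases hA v hvU (V.mul_mem (V.inv_mem hvV) (hVw v hvV)) with h | h
      · rcases (hfix v hvU).mp h with h' | h'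
        · simp [h']
        · simp [h']
      · rcases hB v hvU h with h' | h'
        · simp [h']
        · simp [h']
    · intro hv
      simp only [Set.mem_insert_iff, Set.mem_singleton_iff] at hv
      rcases hv with h | h | h | h
      · rw [h]; exact V.one_mem
      · rw [h]; exact hyV
      · rw [h]; exact haV
      · rw [h]; exact V.mul_mem haV hyV
  have hcard : Nat.card V = 4 := by
    have h0 : Nat.card V = (V : Set H).ncard := (Nat.card_coe_set_eq (V : Set H))
    rw [h0, hD]
    have h1 : (1 : H) ∉ ({y, a, a * y} : Set H) := by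
      simp only [Set.mem_insert_iff, Set.mem_singleton_iff, not_or]
      refine ⟨fun h => hy h.symm, fun h => ha1 h.symm, ?_⟩
      intro h
      have : a = y := by
        have h' : a * y = 1 := h.symm
        have := eq_inv_of_mul_eq_one_left h'
        rw [this, hVinv y hyV]
      exact hay this
    have h2 : y ∉ ({a, a * y} : Set H) := by
      simp only [Set.mem_insert_iff, Set.mem_singleton_iff, not_or]
      refine ⟨fun h => hay h.symm, ?_⟩
      intro h
      have : a = 1 := by
        have h' : a * y = 1 * y := by rw [one_mul]; exact h.symm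
        exact mul_right_cancel h'
      exact ha1 this
    have h3 : a ∉ ({a * y} : Set H) := by
      simp only [Set.mem_singleton_iff]
      intro h
      have : y = 1 := by
        have h' : a * y = a * 1 := by rw [mul_one]; exact h.symm
        exact mul_left_cancel h'
      exact hy this
    rw [Set.ncard_insert_of_notMem h1, Set.ncard_insert_of_notMem h2,
      Set.ncard_insert_of_notMem h3, Set.ncard_singleton]
  -- quotient
  let φ : ↥U →* ↥U :=
    { toFun := fun u => ⟨f u, hfU u u.2⟩
      map_one' := by apply Subtype.ext; simp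
      map_mul' := by intro u v; apply Subtype.ext; simp }
  have hφV : V.subgroupOf U ≤ (V.subgroupOf U).comap φ := by
    intro u hu
    rw [Subgroup.mem_comap, Subgroup.mem_subgroupOf]
    rw [Subgroup.mem_subgroupOf] at hu
    exact hVw _ hu
  let φb : (↥U ⧸ V.subgroupOf U) →* (↥U ⧸ V.subgroupOf U) :=
    QuotientGroup.map (V.subgroupOf U) (V.subgroupOf U) φ hφV
  have hfpf : MonoidHom.FixedPointFree φb := by
    intro q
    induction q using QuotientGroup.induction_on with
    | H u =>
      intro hq
      have hq' : ((φ u : ↥U) : ↥U ⧸ V.subgroupOf U) = (u : ↥U ⧸ V.subgroupOf U) := hq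
      rw [eq_comm, QuotientGroup.eq, Subgroup.mem_subgroupOf] at hq'
      have h1 : (u : H)⁻¹ * f u ∈ V := hq'
      have h2 := hC u u.2 h1
      rw [QuotientGroup.eq_one_iff, Subgroup.mem_subgroupOf]
      exact h2
  have hinv : Function.Involutive φb := by
    intro q
    induction q using QuotientGroup.induction_on with
    | H u =>
      have : φb (φb (u : ↥U ⧸ V.subgroupOf U)) = ((φ (φ u) : ↥U) : ↥U ⧸ V.subgroupOf U) := rfl
      rw [this]
      congr 1
      apply Subtype.ext
      exact hff u
  have hcomm := hfpf.commute_all_of_involutive hinv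
  have hodd := hfpf.odd_card_of_involutive hinv
  refine ⟨?_, hcard, ?_⟩
  · have : V.relIndex U = Nat.card (↥U ⧸ V.subgroupOf U) := Subgroup.index_eq_card _
    rw [this]
    intro h2
    exact (Nat.not_even_iff_odd.mpr hodd) (even_iff_two_dvd.mpr h2)
  · rw [Subgroup.commutator_le]
    intro g1 h1 g2 h2
    let u1 : U := ⟨g1, h1⟩
    let u2 : U := ⟨g2, h2⟩
    have hc := hcomm (u1 : ↥U ⧸ V.subgroupOf U) (u2 : ↥U ⧸ V.subgroupOf U)
    rw [← commutatorElement_eq_one_iff_commute] at hc
    have h3 : ((u1 * u2 * u1⁻¹ * u2⁻¹ : U) : ↥U ⧸ V.subgroupOf U) = 1 := by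
      rw [← hc]
      rfl
    rw [QuotientGroup.eq_one_iff, Subgroup.mem_subgroupOf] at h3
    exact h3

end Cfsg.Agent.S3825
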