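import Cfsg.Statements.S3838
import Mathlib
import Cfsg.Agent.Lib.Helper31.PNilpotentLift

set_option autoImplicit false
open Cfsg

namespace Cfsg.Agent.S3838

open Cfsg.Agent.Helper31 Cfsg.Agent.Helper2 Subgroup
open scoped commutatorElement

/-- If `N_G(P)` has a normal `p`-complement then `N_G(P) = C_G(P) P` elementwise. -/
theorem normalizer_factor {G : Type*} [Group G] [Finite G] {p : ℕ} [Fact p.Prime] (P : Sylow p G)
    (hN : Cfsg.HasNormalPComplement p ↥(normalizer ((P : Subgroup G) : Set G))) :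
    ∀ g ∈ normalizer ((P : Subgroup G) : Set G), ∃ k u : G, g = k * u ∧
      u ∈ (P : Subgroup G) ∧ k ∈ centralizer ((P : Subgroup G) : Set G) := by
  intro g hg
  set Y := normalizer ((P : Subgroup G) : Set G) with hY
  set PY : Sylow p ↥Y := P.subtype le_normalizer with hPY
  obtain ⟨K₀, hK₀n, hK₀c⟩ := (hasNormalPComplement_iff PY).mp hN
  obtain ⟨hdis, hall⟩ := Cfsg.Agent.Helper1.isComplement'_iff_disjoint_and_forall.mp hK₀c
  obtain ⟨k₀, hk₀, u₀, hu₀, hku⟩ := hall ⟨g, hg⟩
  have hPYn : (PY : Subgroup ↥Y).Normal := by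
    rw [hPY, Sylow.coe_subtype]
    exact normal_in_normalizer
  refine ⟨(k₀ : G), (u₀ : G), ?_, ?_, ?_⟩
  · have := congrArg Subtype.val hku
    simpa using this.symm
  · have : u₀ ∈ (P : Subgroup G).subgroupOf Y := hu₀
    exact Subgroup.mem_subgroupOf.mp this
  · rw [mem_centralizer_iff]
    intro h hh
    have hhY : h ∈ Y := le_normalizer hh
    have hc := commute_of_normal_of_disjoint K₀ (PY : Subgroup ↥Y) hK₀n hPYn hdis k₀ ⟨h, hhY⟩ hk₀
      (by
        show (⟨h, hhY⟩ : ↥Y) ∈ (P : Subgroup G).subgroupOf Y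
        exact Subgroup.mem_subgroupOf.mpr hh)
    have := congrArg Subtype.val hc.eq
    simpa using this.symm

theorem result {G : Type*} [Group G] [Finite G] {p : ℕ} [Fact p.Prime] (P : Sylow p G) (hN : Cfsg.HasNormalPComplement p ↥(Subgroup.normalizer ((P : Subgroup G) : Set G))) (Q : Subgroup G) (h1 : (commutator ↥(P : Subgroup G)).map (P : Subgroup G).subtype ≤ Q) (h2 : Q ≤ (frattini ↥(P : Subgroup G)).map (P : Subgroup G).subtype) : Cfsg.HasNormalPComplement p ↥(Subgroup.normalizer (Q : Set G)) := by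
  have hQP : Q ≤ (P : Subgroup G) := h2.trans (map_subtype_le _)
  -- commutators of elements of P lie in Q
  have hcomm : ∀ u ∈ (P : Subgroup G), ∀ v ∈ (P : Subgroup G), u * v * u⁻¹ * v⁻¹ ∈ Q := by
    intro u hu v hv
    apply h1
    refine ⟨⁅(⟨u, hu⟩ : ↥(P : Subgroup G)), ⟨v, hv⟩⁆, ?_, ?_⟩
    · rw [commutator_def]
      exact Subgroup.commutator_mem_commutator (Subgroup.mem_top _) (Subgroup.mem_top _)
    · simp [commutatorElement_def]
  -- P normalizes Q
  have hconj : ∀ u ∈ (P : Subgroup G), ∀ q ∈ Q, u * q * u⁻¹ ∈ Q := by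
    intro u hu q hq
    have := hcomm u hu q (hQP hq)
    have e : u * q * u⁻¹ = (u * q * u⁻¹ * q⁻¹) * q := by group
    rw [e]
    exact Q.mul_mem this hq
  set N := normalizer (Q : Set G) with hNdef
  have hPN : (P : Subgroup G) ≤ N := by
    intro u hu
    rw [hNdef, mem_normalizer_iff]
    intro h
    constructor
    · exact hconj u hu h
    · intro hh
      have := hconj u⁻¹ (Subgroup.inv_mem _ hu) _ hh
      have e : u⁻¹ * (u * h * u⁻¹) * u⁻¹⁻¹ = h := by group
      rwa [e] at this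
  set PX : Sylow p ↥N := P.subtype hPN with hPX
  have hPXcoe : (PX : Subgroup ↥N) = (P : Subgroup G).subgroupOf N := by
    rw [hPX, Sylow.coe_subtype]
  set QX : Subgroup ↥N := Q.subgroupOf N with hQX
  have hQXn : QX.Normal := normal_in_normalizer
  have hQPX : QX ≤ (PX : Subgroup ↥N) := by
    rw [hPXcoe]
    intro y hy
    exact Subgroup.mem_subgroupOf.mpr (hQP (Subgroup.mem_subgroupOf.mp hy))
  -- Frattini condition
  have hΦ : QX ≤ (frattini ↥(PX : Subgroup ↥N)).map (PX : Subgroup ↥N).subtype := by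
    intro y hy
    have hyQ : (y : G) ∈ Q := Subgroup.mem_subgroupOf.mp hy
    obtain ⟨z, hz, hzy⟩ := h2 hyQ
    have hyPX : y ∈ (PX : Subgroup ↥N) := hQPX hy
    -- the map ↥P → ↥PX
    let f : ↥(P : Subgroup G) →* ↥(PX : Subgroup ↥N) :=
      { toFun := fun w => ⟨⟨(w : G), hPN w.2⟩, by
          rw [hPXcoe]; exact Subgroup.mem_subgroupOf.mpr w.2⟩
        map_one' := rfl
        map_mul' := fun _ _ => rfl }
    have hf : Function.Surjective f := by
      rintro ⟨⟨w, hwN⟩, hw⟩
      have hw' : (⟨w, hwN⟩ : ↥N) ∈ (P : Subgroup G).subgroupOf N := by rw [← hPXcoe]; exact hw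
      exact ⟨⟨w, Subgroup.mem_subgroupOf.mp hw'⟩, rfl⟩
    have h3 := frattini_le_comap_frattini_of_surjective hf hz
    refine ⟨f z, h3, ?_⟩
    apply Subtype.ext
    exact hzy
  -- abelian quotient
  have hab : ∀ u ∈ (PX : Subgroup ↥N), ∀ v ∈ (PX : Subgroup ↥N), u * v * u⁻¹ * v⁻¹ ∈ QX := by
    intro u hu v hv
    rw [hPXcoe] at hu hv
    have := hcomm (u : G) (Subgroup.mem_subgroupOf.mp hu) (v : G) (Subgroup.mem_subgroupOf.mp hv)
    exact Subgroup.mem_subgroupOf.mpr (by simpa using this)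
  -- N_X(P) = C_X(P) P
  have hfac := normalizer_factor P hN
  have hNC : ∀ g ∈ normalizer ((PX : Subgroup ↥N) : Set ↥N), ∃ k u : ↥N, g = k * u ∧
      u ∈ (PX : Subgroup ↥N) ∧ k ∈ centralizer ((PX : Subgroup ↥N) : Set ↥N) := by
    intro g hg
    have hgN : (g : G) ∈ normalizer ((P : Subgroup G) : Set G) := by
      have key : ∀ (x : ↥N), x ∈ normalizer ((PX : Subgroup ↥N) : Set ↥N) →
          ∀ h ∈ (P : Subgroup G), (x : G) * h * (x : G)⁻¹ ∈ (P : Subgroup G) := by
        intro x hx h hh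
        have h3 : (⟨h, hPN hh⟩ : ↥N) ∈ (PX : Subgroup ↥N) := by
          rw [hPXcoe]; exact Subgroup.mem_subgroupOf.mpr hh
        have h4 := (mem_normalizer_iff.mp hx _).mp h3
        rw [hPXcoe] at h4
        exact Subgroup.mem_subgroupOf.mp h4
      rw [mem_normalizer_iff]
      intro h
      constructor
      · exact key g hg h
      · intro hh
        have := key g⁻¹ (Subgroup.inv_mem _ hg) _ hh
        have e : ((g⁻¹ : ↥N) : G) * ((g : G) * h * (g : G)⁻¹) * ((g⁻¹ : ↥N) : G)⁻¹ = h := by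
          simp only [Subgroup.coe_inv]; group
        rwa [e] at this
    obtain ⟨k, u, hgku, hu, hk⟩ := hfac (g : G) hgN
    have huN : u ∈ N := hPN hu
    have hkN : k ∈ N := by
      have : k = (g : G) * u⁻¹ := by rw [hgku]; group
      rw [this]
      exact N.mul_mem g.2 (N.inv_mem huN)
    refine ⟨⟨k, hkN⟩, ⟨u, huN⟩, Subtype.ext hgku, ?_, ?_⟩
    · rw [hPXcoe]; exact Subgroup.mem_subgroupOf.mpr hu
    · rw [mem_centralizer_iff]
      intro h hh
      rw [hPXcoe] at hh
      have := (mem_centralizer_iff.mp hk) (h : G) (Subgroup.mem_subgroupOf.mp hh)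
      exact Subtype.ext this
  obtain ⟨K₁, hK₁n, hQK₁, hcop, hsup⟩ := exists_normal_of_burnside_quotient PX QX hQPX hab hNC
  exact hasNormalPComplement_of_frattini_aux PX QX K₁ hQPX hΦ hQK₁ hcop hsup

end Cfsg.Agent.S3838
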