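import Mathlib
import Cfsg.Statements.S3857
import Cfsg.Agent.Lib.Helper60.GKD

set_option autoImplicit false
set_option linter.style.haveILetI false
open Cfsg

namespace Cfsg.Agent.S3857

/-- A finite solvable group whose prime graph (prime divisors of the order, two distinct primes joined when there is an element of order their product) is disconnected is a Frobenius group or a 2-Frobenius group (it has normal subgroups H < K with K a Frobenius group with kernel H and G/H a Frobenius group with kernel K/H). -/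
theorem result {G : Type*} [Group G] [Finite G] (hsol : Group.IsSolvable G)
    (hdisc : (∃ A : Set ℕ, (∃ a ∈ A, a.Prime ∧ a ∣ Nat.card G) ∧ (∃ b ∉ A, b.Prime ∧ b ∣ Nat.card G) ∧
      ∀ a ∈ A, ∀ b ∉ A, a.Prime → b.Prime → a ∣ Nat.card G → b ∣ Nat.card G → ¬ ∃ g : G, orderOf g = a * b)) :
    (∃ C : Subgroup G, Cfsg.IsFrobeniusComplement C) ∨
    (∃ (H K : Subgroup G) (_ : H.Normal), K.Normal ∧ H < K ∧
      (∃ C : Subgroup ↥K, Cfsg.IsFrobeniusComplement C ∧ Cfsg.frobeniusKernel C = (H.subgroupOf K : Set ↥K)) ∧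
      (∃ C : Subgroup (G ⧸ H), Cfsg.IsFrobeniusComplement C ∧ Cfsg.frobeniusKernel C = (K.map (QuotientGroup.mk' H) : Set (G ⧸ H)))) := by
  obtain ⟨A, ha, hb, hno⟩ := hdisc
  haveI := hsol
  have hne : Cfsg.Agent.Helper60.NoEdge A G := by
    intro a haA b hbA hap hbp ⟨g, hg⟩
    have hd : a * b ∣ Nat.card G := hg ▸ orderOf_dvd_natCard g
    exact hno a haA b hbA hap hbp ((Dvd.intro _ rfl).trans hd) ((Dvd.intro_left _ rfl).trans hd)
      ⟨g, hg⟩
  haveI : Nontrivial G := by
    obtain ⟨a, -, hap, had⟩ := ha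
    rw [← Finite.one_lt_card_iff_nontrivial]
    exact lt_of_lt_of_le hap.one_lt (Nat.le_of_dvd Nat.card_pos had)
  obtain ⟨s, N, hs, hNn, hN0, hNp⟩ := Cfsg.Agent.Helper60.exists_normal_pgroup (H := G)
  haveI := Fact.mk hs
  obtain ⟨k, hk⟩ := IsPGroup.iff_card.mp hNp
  by_cases hsA : s ∈ A
  · exact Cfsg.Agent.Helper60.gk_core A hne hb
      ⟨N, hNn, hN0, by rw [hk]; exact Cfsg.Agent.Helper60.PiNum.prime_pow hs hsA⟩
  · refine Cfsg.Agent.Helper60.gk_core Aᶜ hne.compl ?_
      ⟨N, hNn, hN0, by rw [hk]; exact Cfsg.Agent.Helper60.PiNum.prime_pow hs (show s ∈ Aᶜ from hsA)⟩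
    obtain ⟨a, haA, hap, had⟩ := ha
    exact ⟨a, fun h => h haA, hap, had⟩

end Cfsg.Agent.S3857
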