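import Cfsg.Statements.S3858
import Cfsg.Agent.Lib.Helper64.Basic

set_option autoImplicit false
open Cfsg

namespace Cfsg.Agent.S3858

open Cfsg.Agent.Helper64

theorem map_conj_map_conj {G : Type*} [Group G] (M : Subgroup G) (g h : G) :
    (M.map (MulAut.conj g).toMonoidHom).map (MulAut.conj h).toMonoidHom
      = M.map (MulAut.conj (h * g)).toMonoidHom := by
  ext x
  simp only [mem_map_conj_iff]
  have : g⁻¹ * (h⁻¹ * x * h) * g = (h * g)⁻¹ * x * (h * g) := by group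
  rw [this]

theorem map_conj_of_mem {G : Type*} [Group G] (M : Subgroup G) (g : G) (hg : g ∈ M) :
    M.map (MulAut.conj g).toMonoidHom = M := by
  ext x
  rw [mem_map_conj_iff]
  constructor
  · intro h
    have := M.mul_mem (M.mul_mem hg h) (M.inv_mem hg)
    simpa [mul_assoc] using this
  · intro h
    exact M.mul_mem (M.mul_mem (M.inv_mem hg) h) hg

theorem result {G : Type*} [Group G] [Finite G] (T : Subgroup G) [T.Normal] (hT : IsSimpleGroup T) (hna : ¬ IsMulCommutative T)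
    (hC : Subgroup.centralizer (T : Set G) = ⊥) {r : ℕ} [Fact r.Prime] (R : Sylow r G) (hR0 : (R : Subgroup G) ⊓ T ≠ ⊥) :
    (∃! M : Subgroup G, IsCoatom M ∧ (R : Subgroup G) ≤ M) ↔
      ((∃ M : Subgroup G, IsCoatom M ∧ ¬ r ∣ M.index) ∧
        ∀ M₁ M₂ : Subgroup G, IsCoatom M₁ → ¬ r ∣ M₁.index → IsCoatom M₂ → ¬ r ∣ M₂.index → ∃ g : G, M₂ = M₁.map (MulAut.conj g).toMonoidHom) := by
  have hidx : ∀ M : Subgroup G, (R : Subgroup G) ≤ M → ¬ r ∣ M.index := by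
    intro M hRM hdvd
    exact R.not_dvd_index (dvd_trans hdvd (Subgroup.index_dvd_of_le hRM))
  constructor
  · rintro ⟨M, ⟨hM, hRM⟩, hMu⟩
    refine ⟨⟨M, hM, hidx M hRM⟩, ?_⟩
    intro M₁ M₂ hM₁ h1 hM₂ h2
    obtain ⟨g₁, hg₁⟩ := exists_le_map_conj_of_not_dvd_index R M₁ h1
    obtain ⟨g₂, hg₂⟩ := exists_le_map_conj_of_not_dvd_index R M₂ h2
    have e1 : M₁.map (MulAut.conj g₁).toMonoidHom = M := hMu _ ⟨isCoatom_map_conj M₁ g₁ hM₁, hg₁⟩
    have e2 : M₂.map (MulAut.conj g₂).toMonoidHom = M := hMu _ ⟨isCoatom_map_conj M₂ g₂ hM₂, hg₂⟩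
    refine ⟨g₂⁻¹ * g₁, ?_⟩
    rw [← map_conj_map_conj, e1, ← e2, map_conj_map_conj, inv_mul_cancel]
    ext x
    rw [mem_map_conj_iff]
    simp
  · rintro ⟨⟨M₀, hM₀, h0⟩, hconj⟩
    -- `N_G(R)` is proper
    have hNne : Subgroup.normalizer ((R : Subgroup G) : Set G) ≠ ⊤ := by
      intro htop
      apply normalizer_inf_ne_top T hT hna R hR0
      rw [eq_top_iff]
      intro g _
      have hg : g ∈ Subgroup.normalizer ((R : Subgroup G) : Set G) := by rw [htop]; trivial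
      have hgT : g ∈ Subgroup.normalizer ((T : Subgroup G) : Set G) := by
        rw [Subgroup.normalizer_eq_top]; trivial
      exact Subgroup.inf_normalizer_le_normalizer_inf ⟨hg, hgT⟩
    obtain ⟨M, hM, hNM⟩ := exists_le_coatom _ hNne
    have hRM : (R : Subgroup G) ≤ M := le_trans Subgroup.le_normalizer hNM
    refine ⟨M, ⟨hM, hRM⟩, ?_⟩
    rintro M₂ ⟨hM₂, hRM₂⟩
    obtain ⟨g, hg⟩ := hconj M M₂ hM (hidx M hRM) hM₂ (hidx M₂ hRM₂)
    rw [hg] at hRM₂
    have hgM : g ∈ M := mem_of_sylow_le_conj R M hRM hNM g hRM₂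
    rw [hg, map_conj_of_mem M g hgM]

end Cfsg.Agent.S3858
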