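import Cfsg.Statements.S3859
import Cfsg.Agent.Lib.Helper64.Basic

set_option autoImplicit false
open Cfsg

namespace Cfsg.Agent.S3859

open Cfsg.Agent.Helper64

theorem result {G : Type*} [Group G] [Finite G] (T : Subgroup G) [T.Normal] (hT : IsSimpleGroup T) (hna : ¬ IsMulCommutative T)
    (hC : Subgroup.centralizer (T : Set G) = ⊥) {r : ℕ} [Fact r.Prime] (R : Sylow r G) (hR0 : (R : Subgroup G) ⊓ T ≠ ⊥)
    (huniq : ∃! M : Subgroup G, IsCoatom M ∧ (R : Subgroup G) ≤ M) : IsPGroup r (G ⧸ T) := by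
  obtain ⟨M, ⟨hM, hRM⟩, hMu⟩ := huniq
  have hfr := normalizer_inf_sup_eq_top R T
  have hRN := le_normalizer_inf_normal (R : Subgroup G) T
  have hNne := normalizer_inf_ne_top T hT hna R hR0
  obtain ⟨M', hM', hNM'⟩ := exists_le_coatom _ hNne
  have hM'M : M' = M := hMu M' ⟨hM', le_trans hRN hNM'⟩
  subst hM'M
  have hRT : (R : Subgroup G) ⊔ T = ⊤ := by
    by_contra hne
    obtain ⟨M'', hM'', hle⟩ := exists_le_coatom _ hne
    have : M'' = M' := hMu M'' ⟨hM'', le_trans le_sup_left hle⟩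
    subst this
    have hTM : T ≤ M'' := le_trans le_sup_right hle
    have : (⊤ : Subgroup G) ≤ M'' := by
      rw [← hfr]; exact sup_le hNM' hTM
    exact hM''.1 (top_le_iff.mp this)
  have hidx : T.index = T.relIndex (R : Subgroup G) := by
    rw [← Subgroup.relIndex_top_right, ← hRT, Subgroup.relIndex_sup_right]
  have hdvd : T.index ∣ Nat.card (R : Subgroup G) := by
    rw [hidx]; exact Subgroup.relIndex_dvd_card _ _
  obtain ⟨n, hn⟩ := IsPGroup.iff_card.mp R.2
  rw [hn] at hdvd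
  obtain ⟨m, -, hm⟩ := (Nat.dvd_prime_pow (Fact.out : r.Prime)).mp hdvd
  apply IsPGroup.of_card (n := m)
  rw [← Subgroup.index_eq_card, hm]

end Cfsg.Agent.S3859
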