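import Cfsg.Statements.S3861
import Mathlib
import Cfsg.Agent.Lib.Helper67.TwoClosed

set_option autoImplicit false
open Cfsg

namespace Cfsg.Agent.S3861

open Cfsg.Agent.Helper67

/-- A finite group G has no non-identity element of odd order that is conjugate to its inverse if and only if the Sylow 2-subgroups of G are normal. -/
theorem result {G : Type*} [Group G] [Finite G] (P : Sylow 2 G) : (∀ x : G, x ≠ 1 → Odd (orderOf x) → ¬ IsConj x x⁻¹) ↔ (P : Subgroup G).Normal := by
  constructor
  · intro h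
    apply sylow_two_normal_of_noRealOdd
    intro x g hg hodd
    by_contra hx1
    exact h x hx1 hodd (isConj_iff.2 ⟨g, hg⟩)
  · intro hP x hx1 hodd hconj
    obtain ⟨g, hg⟩ := isConj_iff.1 hconj
    obtain ⟨t, -, hk, htx⟩ := exists_two_elt_inverting hg
    have htP : t ∈ P := by
      apply mem_sylow_of_mem_normalizer P _ hk
      rw [Subgroup.normalizer_eq_top_iff.2 hP]
      exact Subgroup.mem_top t
    have h1 : x * t⁻¹ * x⁻¹ ∈ (P : Subgroup G) := hP.conj_mem _ (inv_mem htP) x
    have h2 : (x ^ 2)⁻¹ ∈ (P : Subgroup G) := by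
      have : (x ^ 2)⁻¹ = t * (x * t⁻¹ * x⁻¹) := by
        calc (x ^ 2)⁻¹ = x⁻¹ * x⁻¹ := by rw [pow_two, mul_inv_rev]
          _ = t * x * t⁻¹ * x⁻¹ := by rw [htx]
          _ = t * (x * t⁻¹ * x⁻¹) := by simp [mul_assoc]
      rw [this]
      exact mul_mem htP h1
    have h3 : x ^ 2 ∈ (P : Subgroup G) := by
      have := inv_mem h2
      simpa using this
    obtain ⟨k, hk2⟩ := (IsPGroup.iff_orderOf.1 P.isPGroup') ⟨x ^ 2, h3⟩
    rw [← Subgroup.orderOf_coe] at hk2
    simp only at hk2
    have hdvd : orderOf (x ^ 2) ∣ orderOf x := orderOf_pow_dvd 2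
    have hodd2 : Odd (orderOf (x ^ 2)) := Odd.of_dvd_nat hodd hdvd
    have hone : orderOf (x ^ 2) = 1 := by
      rcases Nat.eq_zero_or_pos k with h0 | h0
      · rw [hk2, h0, pow_zero]
      · exfalso
        rw [hk2] at hodd2
        have : Even (2 ^ k) := (Nat.even_pow.2 ⟨even_two, h0.ne'⟩)
        exact (Nat.not_even_iff_odd.2 hodd2) this
    have hx2 : x ^ 2 = 1 := orderOf_eq_one_iff.1 hone
    have hd : orderOf x ∣ 2 := orderOf_dvd_of_pow_eq_one hx2
    have : orderOf x = 1 := by
      rcases (Nat.dvd_prime Nat.prime_two).1 hd with h1 | h2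
      · exact h1
      · rw [h2] at hodd; exact absurd hodd (by decide)
    exact hx1 (orderOf_eq_one_iff.1 this)

end Cfsg.Agent.S3861
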