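import Cfsg.Statements.S3862
import Cfsg.Agent.Lib.Helper2.Frobenius
import Cfsg.Agent.Lib.Helper24.Coprime

set_option autoImplicit false
open Cfsg

namespace Cfsg.Agent.S3862

open scoped commutatorElement

variable {G : Type*} [Group G]

/-- In a finite group, `g Y g⁻¹ ⊆ Y` implies `g ∈ N(Y)`. -/
theorem mem_normalizer_of_conj_mem [Finite G] (Y : Subgroup G) (g : G)
    (h : ∀ y ∈ Y, g * y * g⁻¹ ∈ Y) : g ∈ Subgroup.normalizer (Y : Set G) := by
  have hpow : ∀ k : ℕ, ∀ y ∈ Y, g ^ k * y * (g ^ k)⁻¹ ∈ Y := by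
    intro k
    induction k with
    | zero => intro y hy; simpa using hy
    | succ k ih =>
      intro y hy
      have := h _ (ih y hy)
      have e : g ^ (k + 1) * y * (g ^ (k + 1))⁻¹ = g * (g ^ k * y * (g ^ k)⁻¹) * g⁻¹ := by
        rw [pow_succ']; group
      rw [e]; exact this
  have hinv : ∀ y ∈ Y, g⁻¹ * y * g ∈ Y := by
    intro y hy
    have hm : 0 < orderOf g := orderOf_pos g
    have e1 : g ^ (orderOf g - 1) = g⁻¹ := by
      apply eq_inv_of_mul_eq_one_left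
      rw [← pow_succ, Nat.sub_add_cancel hm, pow_orderOf_eq_one]
    have := hpow (orderOf g - 1) y hy
    rw [e1, inv_inv] at this
    exact this
  rw [Subgroup.mem_normalizer_iff]
  intro y
  constructor
  · exact h y
  · intro hy
    have := hinv _ hy
    have e : g⁻¹ * (g * y * g⁻¹) * g = y := by group
    rw [e] at this; exact this

theorem conj_mem_closure (S : Set G) (g : G)
    (hS : ∀ s ∈ S, g * s * g⁻¹ ∈ Subgroup.closure S) :
    ∀ n ∈ Subgroup.closure S, g * n * g⁻¹ ∈ Subgroup.closure S := by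
  intro n hn
  induction hn using Subgroup.closure_induction with
  | mem x hx => exact hS x hx
  | one => simp
  | mul x y _ _ ihx ihy =>
    have e : g * (x * y) * g⁻¹ = (g * x * g⁻¹) * (g * y * g⁻¹) := by group
    rw [e]; exact Subgroup.mul_mem _ ihx ihy
  | inv x _ ih =>
    have e : g * x⁻¹ * g⁻¹ = (g * x * g⁻¹)⁻¹ := by group
    rw [e]; exact Subgroup.inv_mem _ ih

theorem conj_mem_commutator_self (X : Subgroup G) (t : G) (ht : ∀ x ∈ X, t * x * t⁻¹ ∈ X) :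
    ∀ c ∈ ⁅X, X⁆, t * c * t⁻¹ ∈ ⁅X, X⁆ := by
  rw [Subgroup.commutator_def]
  apply conj_mem_closure
  rintro _ ⟨a, ha, b, hb, rfl⟩
  apply Subgroup.subset_closure
  refine ⟨t * a * t⁻¹, ht a ha, t * b * t⁻¹, ht b hb, ?_⟩
  simp only [commutatorElement_def]
  group

theorem coprime_card [Finite G] (g : G) (hg : (orderOf g).Coprime 2) (X : Subgroup G)
    (hX : IsPGroup 2 X) : (orderOf g).Coprime (Nat.card X) := by
  obtain ⟨k, hk⟩ := (IsPGroup.iff_card).mp hX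
  rw [hk]
  exact Nat.Coprime.pow_right k hg

theorem two_elt (X : Subgroup G) (hX : IsPGroup 2 X) (x : G) (hx : x ∈ X) :
    ∃ j : ℕ, orderOf x = 2 ^ j := by
  obtain ⟨k, hk⟩ := hX ⟨x, hx⟩
  have h1 : x ^ (2 ^ k) = 1 := by
    have := congrArg Subtype.val hk
    simpa using this
  have h2 : orderOf x ∣ 2 ^ k := orderOf_dvd_of_pow_eq_one h1
  obtain ⟨j, -, hj⟩ := (Nat.dvd_prime_pow Nat.prime_two).mp h2
  exact ⟨j, hj⟩

/-- The abelian case. -/
theorem abelian_case [Finite G]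
    (h : ∀ x : G, (∃ j : ℕ, orderOf x = 2 ^ j) → IsConj x x⁻¹ → x ∈ Subgroup.center G)
    (g : G) (hg : (orderOf g).Coprime 2) (X : Subgroup G) (hX : IsPGroup 2 X)
    (hgX : g ∈ Subgroup.normalizer (X : Set G))
    (hab : ∀ x ∈ X, ∀ y ∈ X, x * y = y * x) : ∀ x ∈ X, x * g = g * x := by
  have hσ : ∀ x ∈ X, g * x * g⁻¹ ∈ X := fun x hx => (Subgroup.mem_normalizer_iff.mp hgX x).mp hx
  have key : ∀ k : ℕ, ∀ x ∈ X, x ^ (2 ^ k) = 1 → x * g = g * x := by
    intro k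
    induction k with
    | zero =>
      intro x _ hx
      simp only [pow_zero, pow_one] at hx
      rw [hx]; simp
    | succ k ih =>
      intro x hx hxk
      have hx2 : (x * x) * g = g * (x * x) := by
        apply ih (x * x) (X.mul_mem hx hx)
        rw [← pow_two, ← pow_mul, ← pow_succ']; exact hxk
      set c := x * g * x⁻¹ * g⁻¹ with hc
      have hw : g * x⁻¹ * g⁻¹ ∈ X := hσ _ (X.inv_mem hx)
      have hcw : c = x * (g * x⁻¹ * g⁻¹) := by rw [hc]; group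
      have hcX : c ∈ X := by rw [hcw]; exact X.mul_mem hx hw
      have hcc : c * c = 1 := by
        have e1 : (g * x⁻¹ * g⁻¹) * x = x * (g * x⁻¹ * g⁻¹) := hab _ hw _ hx
        have e2 : g * (x * x)⁻¹ * g⁻¹ = (x * x)⁻¹ := by
          have : g * (x * x)⁻¹ * g⁻¹ = (g * (x * x) * g⁻¹)⁻¹ := by group
          rw [this, ← hx2]; group
        calc c * c = x * ((g * x⁻¹ * g⁻¹) * x) * (g * x⁻¹ * g⁻¹) := by rw [hcw]; group
          _ = x * (x * (g * x⁻¹ * g⁻¹)) * (g * x⁻¹ * g⁻¹) := by rw [e1]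
          _ = (x * x) * (g * (x * x)⁻¹ * g⁻¹) := by group
          _ = 1 := by rw [e2]; group
      have hcentral : c ∈ Subgroup.center G := by
        apply h c
        · have : orderOf c ∣ 2 := orderOf_dvd_of_pow_eq_one (by rw [pow_two]; exact hcc)
          rcases (Nat.dvd_prime Nat.prime_two).mp this with h1 | h2
          · exact ⟨0, by simpa using h1⟩
          · exact ⟨1, by simpa using h2⟩
        · have : c⁻¹ = c := inv_eq_of_mul_eq_one_left hcc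
          rw [this]
      have hcg : c * g = g * c := (Subgroup.mem_center_iff.mp hcentral g).symm
      exact Cfsg.Agent.Helper24.commute_of_comm_commute_of_coprime X x g hcX hcg (orderOf g)
        (pow_orderOf_eq_one g) (coprime_card g hg X hX)
  intro x hx
  obtain ⟨k, hk⟩ := hX ⟨x, hx⟩
  apply key k x hx
  have := congrArg Subtype.val hk
  simpa using this

/-- Squares of a nonabelian (hence nontrivial) finite `2`-subgroup generate a proper subgroup. -/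
theorem exists_proper_containing_squares [Finite G] (X : Subgroup G) (hX : IsPGroup 2 X)
    (hnt : ∃ x ∈ X, x ≠ 1) :
    ∃ M : Subgroup G, M ≤ X ∧ M ≠ X ∧ ∀ x ∈ X, x * x ∈ M := by
  obtain ⟨k, hk⟩ := (IsPGroup.iff_card).mp hX
  have hk0 : k ≠ 0 := by
    rintro rfl
    rw [pow_zero] at hk
    obtain ⟨x, hx, hx1⟩ := hnt
    have hsub : Subsingleton X := (Nat.card_eq_one_iff_unique.mp hk).1
    have : (⟨x, hx⟩ : X) = 1 := Subsingleton.elim _ _
    exact hx1 (congrArg Subtype.val this)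
  have hdvd : 2 ^ (k - 1) ∣ Nat.card X := by
    rw [hk]; exact pow_dvd_pow 2 (Nat.sub_le k 1)
  obtain ⟨K, hK⟩ := Sylow.exists_subgroup_card_pow_prime 2 hdvd
  have hidx : K.index = 2 := by
    have h1 := K.card_mul_index
    rw [hK, hk] at h1
    have h2 : 2 ^ k = 2 ^ (k - 1) * 2 := by
      rw [← pow_succ, Nat.sub_add_cancel (Nat.pos_of_ne_zero hk0)]
    rw [h2] at h1
    exact Nat.eq_of_mul_eq_mul_left (pow_pos (by norm_num) _) h1
  refine ⟨K.map X.subtype, Subgroup.map_subtype_le K, ?_, ?_⟩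
  · intro heq
    have htop : K = ⊤ := by
      rw [eq_top_iff]
      rintro ⟨x, hx⟩ -
      have : x ∈ K.map X.subtype := by rw [heq]; exact hx
      obtain ⟨y, hy, hyx⟩ := this
      have : y = ⟨x, hx⟩ := Subtype.ext hyx
      rw [← this]; exact hy
    rw [htop, Subgroup.index_top] at hidx
    norm_num at hidx
  · intro x hx
    have := Subgroup.mul_self_mem_of_index_two hidx (⟨x, hx⟩ : X)
    exact ⟨_, this, rfl⟩

/-- Main induction: an odd-order element normalizing a `2`-subgroup centralizes it. -/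
theorem main [Finite G]
    (h : ∀ x : G, (∃ j : ℕ, orderOf x = 2 ^ j) → IsConj x x⁻¹ → x ∈ Subgroup.center G)
    (g : G) (hg : (orderOf g).Coprime 2) :
    ∀ n : ℕ, ∀ X : Subgroup G, Nat.card X = n → IsPGroup 2 X →
      g ∈ Subgroup.normalizer (X : Set G) → ∀ x ∈ X, x * g = g * x := by
  intro n
  induction n using Nat.strong_induction_on with
  | _ n ih =>
  intro X hcard hX hgX
  have IH : ∀ Y : Subgroup G, Y ≤ X → Y ≠ X → g ∈ Subgroup.normalizer (Y : Set G) →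
      ∀ y ∈ Y, y * g = g * y := by
    intro Y hYX hne hgY
    have hlt : Y < X := lt_of_le_of_ne hYX hne
    have hc : Nat.card Y < n := by
      rw [← hcard]
      exact Cfsg.Agent.Helper2.card_lt_card_of_lt' hlt
    exact ih _ hc Y rfl (hX.to_le hYX) hgY
  by_contra hnc
  push_neg at hnc
  obtain ⟨xbad, hxbad, hxbadne⟩ := hnc
  have hcop : (orderOf g).Coprime (Nat.card X) := coprime_card g hg X hX
  have hσ : ∀ x ∈ X, g * x * g⁻¹ ∈ X := fun x hx => (Subgroup.mem_normalizer_iff.mp hgX x).mp hx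
  have hσ' : ∀ x ∈ X, g⁻¹ * x * g ∈ X := by
    intro x hx
    apply (Subgroup.mem_normalizer_iff.mp hgX _).mpr
    have e : g * (g⁻¹ * x * g) * g⁻¹ = x := by group
    rw [e]; exact hx
  have hconjX : ∀ v ∈ X, ∀ x ∈ X, v * x * v⁻¹ ∈ X :=
    fun v hv x hx => X.mul_mem (X.mul_mem hv hx) (X.inv_mem hv)
  -- Step 1: `[X, g] = X`
  set D := Subgroup.closure {u | ∃ x ∈ X, u = x * g * x⁻¹ * g⁻¹} with hD
  have hDX : D ≤ X := by
    rw [hD, Subgroup.closure_le]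
    rintro _ ⟨x, hx, rfl⟩
    have : x * g * x⁻¹ * g⁻¹ = x * (g * x⁻¹ * g⁻¹) := by group
    rw [SetLike.mem_coe, this]
    exact X.mul_mem hx (hσ _ (X.inv_mem hx))
  have hgD : g ∈ Subgroup.normalizer (D : Set G) := by
    apply mem_normalizer_of_conj_mem
    apply conj_mem_closure
    rintro _ ⟨x, hx, rfl⟩
    apply Subgroup.subset_closure
    refine ⟨g * x * g⁻¹, hσ x hx, ?_⟩
    group
  have hDeq : D = X := by
    by_contra hne
    have hDc := IH D hDX hne hgD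
    apply hxbadne
    apply Cfsg.Agent.Helper24.commute_of_comm_commute_of_coprime X xbad g
    · exact hDX (Subgroup.subset_closure ⟨xbad, hxbad, rfl⟩)
    · exact hDc _ (Subgroup.subset_closure ⟨xbad, hxbad, rfl⟩)
    · exact pow_orderOf_eq_one g
    · exact hcop
  -- Step 2: proper invariant normal subgroups are central
  have step2 : ∀ N : Subgroup G, N ≤ X → N ≠ X → (∀ y ∈ N, g * y * g⁻¹ ∈ N) →
      (∀ x ∈ X, ∀ y ∈ N, x * y * x⁻¹ ∈ N) →
      (∀ y ∈ N, y * g = g * y) ∧ ∀ y ∈ N, ∀ x ∈ X, x * y = y * x := by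
    intro N hNX hne hgN hXN
    have hNc := IH N hNX hne (mem_normalizer_of_conj_mem N g hgN)
    refine ⟨hNc, ?_⟩
    have hle : D ≤ Subgroup.centralizer (N : Set G) := by
      rw [hD, Subgroup.closure_le]
      rintro _ ⟨x, hx, rfl⟩
      rw [SetLike.mem_coe, Subgroup.mem_centralizer_iff]
      intro y hy
      have h1 : x⁻¹ * y * x ∈ N := by
        have := hXN x⁻¹ (X.inv_mem hx) y hy
        simpa using this
      have e1 := hNc y hy
      have e2 := hNc _ h1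
      calc y * (x * g * x⁻¹ * g⁻¹) = x * ((x⁻¹ * y * x) * g) * x⁻¹ * g⁻¹ := by group
        _ = x * (g * (x⁻¹ * y * x)) * x⁻¹ * g⁻¹ := by rw [e2]
        _ = x * g * x⁻¹ * g⁻¹ * (g * y) * g⁻¹ := by group
        _ = x * g * x⁻¹ * g⁻¹ * (y * g) * g⁻¹ := by rw [e1]
        _ = x * g * x⁻¹ * g⁻¹ * y := by group
    intro y hy x hx
    have hxD : x ∈ D := by rw [hDeq]; exact hx
    exact (Subgroup.mem_centralizer_iff.mp (hle hxD) y hy).symm
  -- nonabelian
  have hnab : ∃ x₀ ∈ X, ∃ y₀ ∈ X, x₀ * y₀ ≠ y₀ * x₀ := by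
    by_contra hcon
    push_neg at hcon
    exact hxbadne (abelian_case h g hg X hX hgX hcon xbad hxbad)
  obtain ⟨x₀, hx₀, y₀, hy₀, hxy⟩ := hnab
  have hx₀1 : x₀ ≠ 1 := by
    rintro rfl
    simp at hxy
  -- the derived subgroup
  set X' := ⁅X, X⁆ with hX'
  have hX'X : X' ≤ X := by
    rw [hX', Subgroup.commutator_le]
    intro a ha b hb
    rw [commutatorElement_def]
    exact X.mul_mem (X.mul_mem (X.mul_mem ha hb) (X.inv_mem ha)) (X.inv_mem hb)
  have hX'ne : X' ≠ X := by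
    intro heq
    have hnt : Nontrivial X := ⟨⟨⟨x₀, hx₀⟩, 1, fun hh => hx₀1 (congrArg Subtype.val hh)⟩⟩
    have hnil : Group.IsNilpotent X := hX.isNilpotent
    have hlt := IsSolvable.commutator_lt_top_of_nontrivial X
    have h1 : (commutator X).map X.subtype = X := by
      rw [Subgroup.map_subtype_commutator]; exact heq
    have h2 : commutator X = ⊤ := by
      apply Subgroup.map_injective X.subtype_injective
      rw [h1, ← MonoidHom.range_eq_map, Subgroup.range_subtype]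
    exact hlt.ne h2
  obtain ⟨hX'g, hX'cent⟩ := step2 X' hX'X hX'ne (conj_mem_commutator_self X g hσ)
    (fun x hx => conj_mem_commutator_self X x (hconjX x hx))
  -- the subgroup generated by squares
  set S := Subgroup.closure {s | ∃ x ∈ X, s = x * x} with hS
  have hSX : S ≤ X := by
    rw [hS, Subgroup.closure_le]
    rintro _ ⟨x, hx, rfl⟩
    exact X.mul_mem hx hx
  have hSne : S ≠ X := by
    obtain ⟨M, hMX, hMne, hM⟩ := exists_proper_containing_squares X hX ⟨x₀, hx₀, hx₀1⟩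
    intro heq
    apply hMne
    apply le_antisymm hMX
    rw [← heq, hS, Subgroup.closure_le]
    rintro _ ⟨x, hx, rfl⟩
    exact hM x hx
  have hSconj : ∀ t : G, (∀ x ∈ X, t * x * t⁻¹ ∈ X) → ∀ s ∈ S, t * s * t⁻¹ ∈ S := by
    intro t ht
    rw [hS]
    apply conj_mem_closure
    rintro _ ⟨x, hx, rfl⟩
    apply Subgroup.subset_closure
    refine ⟨t * x * t⁻¹, ht x hx, ?_⟩
    group
  obtain ⟨hSg, hScent⟩ := step2 S hSX hSne (hSconj g hσ) (fun x hx => hSconj x (hconjX x hx))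
  have hsqS : ∀ x ∈ X, x * x ∈ S := fun x hx => Subgroup.subset_closure ⟨x, hx, rfl⟩
  -- all squares lie in `X'`
  have hDsq : ∀ d ∈ D, d ∈ X ∧ d * d ∈ X' := by
    intro d hd
    rw [hD] at hd
    induction hd using Subgroup.closure_induction with
    | mem u hu =>
      obtain ⟨x, hx, rfl⟩ := hu
      have hw : g * x⁻¹ * g⁻¹ ∈ X := hσ _ (X.inv_mem hx)
      have huw : x * g * x⁻¹ * g⁻¹ = x * (g * x⁻¹ * g⁻¹) := by group
      refine ⟨by rw [huw]; exact X.mul_mem hx hw, ?_⟩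
      set w := g * x⁻¹ * g⁻¹ with hwdef
      have hc : ⁅x⁻¹, w⁆ ∈ X' := Subgroup.commutator_mem_commutator (X.inv_mem hx) hw
      have hww : w * w = x⁻¹ * x⁻¹ := by
        have e := hSg _ (hsqS _ (X.inv_mem hx))
        calc w * w = g * (x⁻¹ * x⁻¹) * g⁻¹ := by rw [hwdef]; group
          _ = (x⁻¹ * x⁻¹) * g * g⁻¹ := by rw [← e]
          _ = x⁻¹ * x⁻¹ := by group
      have hcomm : (x * x) * ⁅x⁻¹, w⁆ = ⁅x⁻¹, w⁆ * (x * x) :=
        (hScent _ (hsqS x hx) _ (hX'X hc)).symm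
      have : x * g * x⁻¹ * g⁻¹ * (x * g * x⁻¹ * g⁻¹) = ⁅x⁻¹, w⁆ := by
        rw [huw]
        calc x * w * (x * w) = (x * x) * ⁅x⁻¹, w⁆ * (w * w) := by
              rw [commutatorElement_def]; group
          _ = ⁅x⁻¹, w⁆ * (x * x) * (x⁻¹ * x⁻¹) := by rw [hcomm, hww]
          _ = ⁅x⁻¹, w⁆ := by group
      rw [this]; exact hc
    | one => exact ⟨X.one_mem, by simpa using X'.one_mem⟩
    | mul a b _ _ iha ihb =>
      obtain ⟨haX, ha2⟩ := iha
      obtain ⟨hbX, hb2⟩ := ihb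
      refine ⟨X.mul_mem haX hbX, ?_⟩
      have hc : ⁅a⁻¹, b⁆ ∈ X' := Subgroup.commutator_mem_commutator (X.inv_mem haX) hbX
      have : a * b * (a * b) = (a * a) * ⁅a⁻¹, b⁆ * (b * b) := by
        rw [commutatorElement_def]; group
      rw [this]
      exact X'.mul_mem (X'.mul_mem ha2 hc) hb2
    | inv a _ iha =>
      obtain ⟨haX, ha2⟩ := iha
      refine ⟨X.inv_mem haX, ?_⟩
      have : a⁻¹ * a⁻¹ = (a * a)⁻¹ := by group
      rw [this]; exact X'.inv_mem ha2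
  have hsq : ∀ x ∈ X, x * x ∈ X' := by
    intro x hx
    have hxD : x ∈ D := by rw [hDeq]; exact hx
    exact (hDsq x hxD).2
  -- the subgroup `M₀ = [X, x₀]`
  set M₀ := Subgroup.closure {c | ∃ y ∈ X, c = ⁅y, x₀⁆} with hM₀
  have hM₀X' : M₀ ≤ X' := by
    rw [hM₀, Subgroup.closure_le]
    rintro _ ⟨y, hy, rfl⟩
    exact Subgroup.commutator_mem_commutator hy hx₀
  have hM₀form : ∀ c ∈ M₀, ∃ y ∈ X, c = ⁅y, x₀⁆ := by
    intro c hc
    rw [hM₀] at hc
    induction hc using Subgroup.closure_induction with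
    | mem u hu => exact hu
    | one => exact ⟨1, X.one_mem, by simp⟩
    | mul a b _ _ iha ihb =>
      obtain ⟨y₁, hy₁, rfl⟩ := iha
      obtain ⟨y₂, hy₂, rfl⟩ := ihb
      refine ⟨y₂ * y₁, X.mul_mem hy₂ hy₁, ?_⟩
      have hc1 : ⁅y₁, x₀⁆ ∈ X' := Subgroup.commutator_mem_commutator hy₁ hx₀
      have e1 : y₂ * ⁅y₁, x₀⁆ = ⁅y₁, x₀⁆ * y₂ := hX'cent _ hc1 y₂ hy₂
      calc ⁅y₁, x₀⁆ * ⁅y₂, x₀⁆ = ⁅y₁, x₀⁆ * y₂ * y₂⁻¹ * ⁅y₂, x₀⁆ := by group
        _ = y₂ * ⁅y₁, x₀⁆ * y₂⁻¹ * ⁅y₂, x₀⁆ := by rw [← e1]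
        _ = ⁅y₂ * y₁, x₀⁆ := by simp only [commutatorElement_def]; group
    | inv a _ iha =>
      obtain ⟨y, hy, rfl⟩ := iha
      refine ⟨y⁻¹, X.inv_mem hy, ?_⟩
      have hc1 : ⁅y, x₀⁆⁻¹ ∈ X' := X'.inv_mem (Subgroup.commutator_mem_commutator hy hx₀)
      have e1 : y⁻¹ * ⁅y, x₀⁆⁻¹ = ⁅y, x₀⁆⁻¹ * y⁻¹ := hX'cent _ hc1 y⁻¹ (X.inv_mem hy)
      calc ⁅y, x₀⁆⁻¹ = ⁅y, x₀⁆⁻¹ * y⁻¹ * y := by group
        _ = y⁻¹ * ⁅y, x₀⁆⁻¹ * y := by rw [← e1]
        _ = ⁅y⁻¹, x₀⁆ := by simp only [commutatorElement_def]; group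
  -- the subgroup `Y`
  let Y : Subgroup G :=
    { carrier := {y | y ∈ X ∧ ∀ w ∈ X, ⁅y, w⁆ ∈ M₀}
      one_mem' := ⟨X.one_mem, fun w _ => by simpa using M₀.one_mem⟩
      mul_mem' := by
        rintro a b ⟨haX, ha⟩ ⟨hbX, hb⟩
        refine ⟨X.mul_mem haX hbX, fun w hw => ?_⟩
        have hc1 : ⁅b, w⁆ ∈ X' := Subgroup.commutator_mem_commutator hbX hw
        have e1 : a * ⁅b, w⁆ = ⁅b, w⁆ * a := hX'cent _ hc1 a haX
        have : ⁅a * b, w⁆ = ⁅b, w⁆ * ⁅a, w⁆ := by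
          calc ⁅a * b, w⁆ = a * ⁅b, w⁆ * a⁻¹ * ⁅a, w⁆ := by
                simp only [commutatorElement_def]; group
            _ = ⁅b, w⁆ * a * a⁻¹ * ⁅a, w⁆ := by rw [e1]
            _ = ⁅b, w⁆ * ⁅a, w⁆ := by group
        rw [this]
        exact M₀.mul_mem (hb w hw) (ha w hw)
      inv_mem' := by
        rintro a ⟨haX, ha⟩
        refine ⟨X.inv_mem haX, fun w hw => ?_⟩
        have hc1 : ⁅a, w⁆⁻¹ ∈ X' := X'.inv_mem (Subgroup.commutator_mem_commutator haX hw)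
        have e1 : a⁻¹ * ⁅a, w⁆⁻¹ = ⁅a, w⁆⁻¹ * a⁻¹ := hX'cent _ hc1 a⁻¹ (X.inv_mem haX)
        have : ⁅a⁻¹, w⁆ = ⁅a, w⁆⁻¹ := by
          calc ⁅a⁻¹, w⁆ = a⁻¹ * ⁅a, w⁆⁻¹ * a := by simp only [commutatorElement_def]; group
            _ = ⁅a, w⁆⁻¹ * a⁻¹ * a := by rw [e1]
            _ = ⁅a, w⁆⁻¹ := by group
        rw [this]
        exact M₀.inv_mem (ha w hw) }
  have hYmem : ∀ y, y ∈ Y ↔ y ∈ X ∧ ∀ w ∈ X, ⁅y, w⁆ ∈ M₀ := fun y => Iff.rfl
  have hYX : Y ≤ X := fun y hy => ((hYmem y).mp hy).1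
  have hx₀Y : x₀ ∈ Y := by
    rw [hYmem]
    refine ⟨hx₀, fun w hw => ?_⟩
    rw [← commutatorElement_inv]
    exact M₀.inv_mem (Subgroup.subset_closure ⟨w, hw, rfl⟩)
  have hgY : ∀ y ∈ Y, g * y * g⁻¹ ∈ Y := by
    intro y hy
    obtain ⟨hyX, hyw⟩ := (hYmem y).mp hy
    rw [hYmem]
    refine ⟨hσ y hyX, fun w hw => ?_⟩
    have hw' : g⁻¹ * w * g ∈ X := hσ' w hw
    have hc := hyw _ hw'
    have e1 := hX'g _ (hM₀X' hc)
    have : ⁅g * y * g⁻¹, w⁆ = ⁅y, g⁻¹ * w * g⁆ := by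
      calc ⁅g * y * g⁻¹, w⁆ = g * ⁅y, g⁻¹ * w * g⁆ * g⁻¹ := by
            simp only [commutatorElement_def]; group
        _ = ⁅y, g⁻¹ * w * g⁆ * g * g⁻¹ := by rw [← e1]
        _ = ⁅y, g⁻¹ * w * g⁆ := by group
    rw [this]; exact hc
  have hXY : ∀ v ∈ X, ∀ y ∈ Y, v * y * v⁻¹ ∈ Y := by
    intro v hv y hy
    obtain ⟨hyX, hyw⟩ := (hYmem y).mp hy
    rw [hYmem]
    refine ⟨hconjX v hv y hyX, fun w hw => ?_⟩
    have hw' : v⁻¹ * w * v ∈ X := by
      have := hconjX v⁻¹ (X.inv_mem hv) w hw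
      simpa using this
    have hc := hyw _ hw'
    have e1 : v * ⁅y, v⁻¹ * w * v⁆ = ⁅y, v⁻¹ * w * v⁆ * v := hX'cent _ (hM₀X' hc) v hv
    have : ⁅v * y * v⁻¹, w⁆ = ⁅y, v⁻¹ * w * v⁆ := by
      calc ⁅v * y * v⁻¹, w⁆ = v * ⁅y, v⁻¹ * w * v⁆ * v⁻¹ := by
            simp only [commutatorElement_def]; group
        _ = ⁅y, v⁻¹ * w * v⁆ * v * v⁻¹ := by rw [e1]
        _ = ⁅y, v⁻¹ * w * v⁆ := by group
    rw [this]; exact hc
  have hYeq : Y = X := by
    by_contra hne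
    obtain ⟨-, hYcent⟩ := step2 Y hYX hne hgY hXY
    exact hxy (hYcent x₀ hx₀Y y₀ hy₀).symm
  have hX'M₀ : X' ≤ M₀ := by
    rw [hX', Subgroup.commutator_le]
    intro a ha b hb
    have haY : a ∈ Y := by rw [hYeq]; exact ha
    exact ((hYmem a).mp haY).2 b hb
  -- `x₀` is real
  have h1 : (x₀ * x₀)⁻¹ ∈ M₀ := M₀.inv_mem (hX'M₀ (hsq x₀ hx₀))
  obtain ⟨y, hy, hyc⟩ := hM₀form _ h1
  have hconj : y * x₀ * y⁻¹ = x₀⁻¹ := by
    rw [commutatorElement_def] at hyc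
    calc y * x₀ * y⁻¹ = (y * x₀ * y⁻¹ * x₀⁻¹) * x₀ := by group
      _ = (x₀ * x₀)⁻¹ * x₀ := by rw [← hyc]
      _ = x₀⁻¹ := by group
  have hcen : x₀ ∈ Subgroup.center G :=
    h x₀ (two_elt X hX x₀ hx₀) (isConj_iff.mpr ⟨y, hconj⟩)
  exact hxy (Subgroup.mem_center_iff.mp hcen y₀).symm

/-- If every 2-element of the finite group G that is conjugate to its inverse lies in the centre of G, then G has a normal 2-complement. -/
theorem result {G : Type*} [Group G] [Finite G] (h : ∀ x : G, (∃ j : ℕ, orderOf x = 2 ^ j) → IsConj x x⁻¹ → x ∈ Subgroup.center G) : Cfsg.HasNormalPComplement 2 G := by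
  apply Cfsg.Agent.Helper2.frobenius 2
  intro X hX g hgN hgo
  rw [Subgroup.mem_centralizer_iff]
  intro x hx
  exact main h g hgo _ X rfl hX hgN x hx

end Cfsg.Agent.S3862
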