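import Mathlib
import Cfsg.Statements.S3863

set_option autoImplicit false
open Cfsg

namespace Cfsg.Agent.S3863

theorem mem_of_pow_two_pow_mem {G : Type*} [Group G] [Finite G] (N : Subgroup G) [N.Normal]
    (hodd : Odd N.index) (g : G) (j : ℕ) (hg : g ^ (2 ^ j) ∈ N) : g ∈ N := by
  have h1 : ((QuotientGroup.mk g : G ⧸ N)) ^ (2 ^ j) = 1 := by
    rw [← QuotientGroup.mk_pow, QuotientGroup.eq_one_iff]; exact hg
  have h2 : orderOf (QuotientGroup.mk g : G ⧸ N) ∣ 2 ^ j := orderOf_dvd_of_pow_eq_one h1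
  have h3 : orderOf (QuotientGroup.mk g : G ⧸ N) ∣ N.index := by
    rw [Subgroup.index_eq_card]; exact orderOf_dvd_natCard _
  have hcop : Nat.Coprime (2 ^ j) N.index :=
    Nat.Coprime.pow_left j (Nat.coprime_two_left.mpr hodd)
  have h4 : orderOf (QuotientGroup.mk g : G ⧸ N) = 1 :=
    Nat.eq_one_of_dvd_coprimes hcop h2 h3
  rw [orderOf_eq_one_iff, QuotientGroup.eq_one_iff] at h4
  exact h4

theorem conj_pow_odd {G : Type*} [Group G] (g x : G) (h : g * x * g⁻¹ = x⁻¹) (k : ℕ) :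
    g ^ (2 * k + 1) * x * (g ^ (2 * k + 1))⁻¹ = x⁻¹ := by
  have h2 : g ^ 2 * x * (g ^ 2)⁻¹ = x := by
    have : g ^ 2 * x * (g ^ 2)⁻¹ = g * (g * x * g⁻¹) * g⁻¹ := by
      rw [pow_two]; group
    rw [this, h]
    have : g * x⁻¹ * g⁻¹ = (g * x * g⁻¹)⁻¹ := by group
    rw [this, h, inv_inv]
  have h3 : ∀ k : ℕ, g ^ (2 * k) * x * (g ^ (2 * k))⁻¹ = x := by
    intro k
    induction k with
    | zero => simp
    | succ n ih =>
      have : g ^ (2 * (n + 1)) * x * (g ^ (2 * (n + 1)))⁻¹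
          = g ^ 2 * (g ^ (2 * n) * x * (g ^ (2 * n))⁻¹) * (g ^ 2)⁻¹ := by
        rw [show 2 * (n + 1) = 2 + 2 * n by ring, pow_add]
        group
      rw [this, ih, h2]
  have : g ^ (2 * k + 1) * x * (g ^ (2 * k + 1))⁻¹
      = g ^ (2 * k) * (g * x * g⁻¹) * (g ^ (2 * k))⁻¹ := by
    rw [pow_succ]; group
  rw [this, h]
  have : g ^ (2 * k) * x⁻¹ * (g ^ (2 * k))⁻¹ = (g ^ (2 * k) * x * (g ^ (2 * k))⁻¹)⁻¹ := by group
  rw [this, h3 k]

theorem exists_two_elt {G : Type*} [Group G] [Finite G] (x : G) (hx : IsConj x x⁻¹) :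
    ∃ t : G, (∃ j : ℕ, orderOf t = 2 ^ j) ∧ t * x * t⁻¹ = x⁻¹ := by
  obtain ⟨g, hg⟩ := isConj_iff.mp hx
  have hpos : 0 < orderOf g := orderOf_pos g
  obtain ⟨j, m, hm, hjm⟩ := Nat.exists_eq_two_pow_mul_odd hpos.ne'
  obtain ⟨k, rfl⟩ := hm
  refine ⟨g ^ (2 * k + 1), ⟨j, ?_⟩, conj_pow_odd g x hg k⟩
  rw [orderOf_pow' g (by omega), hjm, Nat.gcd_mul_left_left]
  exact Nat.mul_div_cancel _ (by omega)

theorem result {G : Type*} [Group G] [Finite G] (x : G) (hx : IsConj x x⁻¹) : (∃ t : G, (∃ j : ℕ, orderOf t = 2 ^ j) ∧ t * x * t⁻¹ = x⁻¹) ∧ (Odd (Subgroup.centralizer ({x} : Set G)).index → x ^ 2 = 1) ∧ ∀ (N : Subgroup G) [N.Normal], Odd N.index → ∃ hxN : x ∈ N, IsConj (⟨x, hxN⟩ : N) (⟨x, hxN⟩ : N)⁻¹ := by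
  refine ⟨exists_two_elt x hx, ?_, ?_⟩
  · intro hodd
    obtain ⟨g, hg⟩ := isConj_iff.mp hx
    set C := Subgroup.centralizer ({x} : Set G) with hC
    have hmemC : ∀ h : G, h ∈ C ↔ h * x = x * h := by
      intro h
      rw [hC, Subgroup.mem_centralizer_iff]
      constructor
      · intro hh; exact (hh x rfl).symm
      · intro hh y hy; rw [Set.mem_singleton_iff] at hy; rw [hy]; exact hh.symm
    have hgN : g ∈ Subgroup.normalizer (C : Set G) := by
      rw [Subgroup.mem_normalizer_iff]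
      intro h
      rw [hmemC, hmemC]
      have hx' : x = g⁻¹ * x⁻¹ * g := by rw [← hg]; group
      constructor
      · intro hh
        have hinv : h * x⁻¹ = x⁻¹ * h := by
          calc h * x⁻¹ = x⁻¹ * (x * h) * x⁻¹ := by group
            _ = x⁻¹ * (h * x) * x⁻¹ := by rw [hh]
            _ = x⁻¹ * h := by group
        calc g * h * g⁻¹ * x = g * (h * (g⁻¹ * x * g)) * g⁻¹ := by group
          _ = g * (h * x⁻¹) * g⁻¹ := by
              have : g⁻¹ * x * g = x⁻¹ := by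
                have := congrArg (fun z => g⁻¹ * z⁻¹ * g) hg
                simp only [inv_inv] at this
                rw [← this]; group
              rw [this]
          _ = g * (x⁻¹ * h) * g⁻¹ := by rw [hinv]
          _ = g * ((g⁻¹ * x * g) * h) * g⁻¹ := by
              have : g⁻¹ * x * g = x⁻¹ := by
                have := congrArg (fun z => g⁻¹ * z⁻¹ * g) hg
                simp only [inv_inv] at this
                rw [← this]; group
              rw [this]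
          _ = x * (g * h * g⁻¹) := by group
      · intro hh
        have hgx : g * x⁻¹ * g⁻¹ = x := by
          have : g * x⁻¹ * g⁻¹ = (g * x * g⁻¹)⁻¹ := by group
          rw [this, hg, inv_inv]
        have hinv : (g * h * g⁻¹) * x⁻¹ = x⁻¹ * (g * h * g⁻¹) := by
          calc (g * h * g⁻¹) * x⁻¹ = x⁻¹ * (x * (g * h * g⁻¹)) * x⁻¹ := by group
            _ = x⁻¹ * ((g * h * g⁻¹) * x) * x⁻¹ := by rw [hh]
            _ = x⁻¹ * (g * h * g⁻¹) := by group
        calc h * x = g⁻¹ * ((g * h * g⁻¹) * (g * x * g⁻¹)) * g := by group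
          _ = g⁻¹ * ((g * h * g⁻¹) * x⁻¹) * g := by rw [hg]
          _ = g⁻¹ * (x⁻¹ * (g * h * g⁻¹)) * g := by rw [hinv]
          _ = g⁻¹ * ((g * x * g⁻¹) * (g * h * g⁻¹)) * g := by rw [hg]
          _ = x * h := by group
    have hg2 : g ^ 2 ∈ C := by
      rw [hmemC]
      have := conj_pow_odd g x hg 0
      have h2 : g ^ 2 * x * (g ^ 2)⁻¹ = x := by
        have e : g ^ 2 * x * (g ^ 2)⁻¹ = g * (g * x * g⁻¹) * g⁻¹ := by
          rw [pow_two]; group
        rw [e, hg]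
        have : g * x⁻¹ * g⁻¹ = (g * x * g⁻¹)⁻¹ := by group
        rw [this, hg, inv_inv]
      calc g ^ 2 * x = (g ^ 2 * x * (g ^ 2)⁻¹) * g ^ 2 := by group
        _ = x * g ^ 2 := by rw [h2]
    let Nn := Subgroup.normalizer (C : Set G)
    have : (C.subgroupOf Nn).Normal := Subgroup.normal_in_normalizer
    have hoddrel : Odd (C.subgroupOf Nn).index := by
      have hdvd : C.relIndex Nn ∣ C.index := Subgroup.relIndex_dvd_index_of_le Subgroup.le_normalizer
      exact Odd.of_dvd_nat hodd hdvd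
    have hmem : (⟨g, hgN⟩ : Nn) ∈ C.subgroupOf Nn := by
      apply mem_of_pow_two_pow_mem (C.subgroupOf Nn) hoddrel ⟨g, hgN⟩ 1
      rw [Subgroup.mem_subgroupOf]
      simpa using hg2
    rw [Subgroup.mem_subgroupOf] at hmem
    have hgC : g * x = x * g := (hmemC g).mp hmem
    have : x⁻¹ = x := by
      rw [← hg, hgC]; group
    calc x ^ 2 = x * x := pow_two x
      _ = x⁻¹ * x := by rw [this]
      _ = 1 := inv_mul_cancel x
  · intro N _ hodd
    obtain ⟨t, ⟨j, hj⟩, ht⟩ := exists_two_elt x hx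
    have htN : t ∈ N := by
      apply mem_of_pow_two_pow_mem N hodd t j
      rw [← hj, pow_orderOf_eq_one]; exact N.one_mem
    have hxN : x ∈ N := by
      apply mem_of_pow_two_pow_mem N hodd x 1
      have h2 : x ^ 2 ^ 1 = (x * t * x⁻¹ * t⁻¹)⁻¹⁻¹ * 1 := by
        have e : x * t * x⁻¹ * t⁻¹ = x * (t * x * t⁻¹)⁻¹ := by group
        rw [e, ht, inv_inv, inv_inv, mul_one, pow_one, pow_two]
      have hcomm : x * t * x⁻¹ * t⁻¹ ∈ N := by
        have h1 : x * t * x⁻¹ ∈ N := ‹N.Normal›.conj_mem t htN x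
        exact N.mul_mem h1 (N.inv_mem htN)
      rw [h2, inv_inv, mul_one]
      exact hcomm
    refine ⟨hxN, ?_⟩
    rw [isConj_iff]
    refine ⟨⟨t, htN⟩, ?_⟩
    apply Subtype.ext
    simp only [Subgroup.coe_mul, Subgroup.coe_inv]
    exact ht

end Cfsg.Agent.S3863
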