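import Cfsg.Statements.S3864
import Cfsg.Agent.S1255
import Cfsg.Agent.S0111
import Cfsg.Agent.S0107
import Cfsg.Agent.Lib.Helper34.Dihedral2
import Cfsg.Agent.Lib.Helper2.Frobenius
import Cfsg.Agent.Lib.Helper47.PRes

set_option autoImplicit false
set_option linter.unusedSectionVars false
open Cfsg

namespace Cfsg.Agent.S3864

open Cfsg.Agent.S1255 Cfsg.Agent.Helper34.Dih DihedralGroup

section ZModLemmas

/-- the parity homomorphism -/
noncomputable def par {m : ℕ} (h2 : 2 ∣ m) : ZMod m →+* ZMod 2 := ZMod.castHom h2 (ZMod 2)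

theorem par_add_self {m : ℕ} (h2 : 2 ∣ m) (k : ZMod m) : par h2 (k + k) = 0 := by
  rw [map_add]
  exact CharTwo.add_self_eq_zero _

theorem exists_add_self_of_par {m : ℕ} [NeZero m] (h2 : 2 ∣ m) (x : ZMod m) (hx : par h2 x = 0) :
    ∃ k : ZMod m, x = k + k := by
  have h1 : par h2 x = ((x.val : ℕ) : ZMod 2) := by
    conv_lhs => rw [← ZMod.natCast_zmod_val x]
    rw [map_natCast]
  rw [h1, ZMod.natCast_eq_zero_iff] at hx
  obtain ⟨c, hc⟩ := hx
  refine ⟨(c : ZMod m), ?_⟩
  conv_lhs => rw [← ZMod.natCast_zmod_val x, hc]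
  push_cast
  ring

theorem zmod_two_cases (a : ZMod 2) : a = 0 ∨ a = 1 := by
  revert a; decide

/-- uniqueness of the element of order two in `ZMod m` -/
theorem half_unique {m : ℕ} [NeZero m] (j h : ZMod m) (hj : j + j = 0) (hj0 : j ≠ 0)
    (hh : h + h = 0) (hh0 : h ≠ 0) : j = h := by
  have key : ∀ x : ZMod m, x + x = 0 → x ≠ 0 → 2 * x.val = m := by
    intro x hx hx0
    have h1 : (x + x).val = 0 := by rw [hx, ZMod.val_zero]
    rw [ZMod.val_add] at h1
    have h2 : x.val < m := ZMod.val_lt x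
    have h3 : 0 < x.val := by
      rcases Nat.eq_zero_or_pos x.val with h | h
      · exact absurd ((ZMod.val_eq_zero x).mp h) hx0
      · exact h
    obtain ⟨c, hc⟩ := Nat.dvd_of_mod_eq_zero h1
    have hc1 : c = 1 := by
      rcases c with _ | _ | c
      · omega
      · rfl
      · exfalso
        have h5 : m * 2 ≤ m * (c + 1 + 1) := Nat.mul_le_mul_left m (by omega)
        have h6 : x.val + x.val = m * (c + 1 + 1) := hc
        omega
    rw [hc1, mul_one] at hc
    omega
  apply ZMod.val_injective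
  have := key j hj hj0
  have := key h hh hh0
  omega

end ZModLemmas


section Emb

variable {G : Type*} [Group G] [Finite G] (P : Sylow 2 G) {m : ℕ}
  (eS : (P : Subgroup G) ≃* DihedralGroup m)

/-- the rotation subgroup, inside `G` -/
def rotG : Subgroup G := Subgroup.zpowers (emb P eS (r 1))

theorem mem_rotG_iff [NeZero m] (x : G) : x ∈ rotG P eS ↔ ∃ j : ZMod m, x = emb P eS (r j) := by
  constructor
  · intro hx
    obtain ⟨k, hk⟩ := Subgroup.mem_zpowers_iff.mp hx
    refine ⟨(k : ZMod m), ?_⟩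
    rw [← hk, ← map_zpow, r_one_zpow]
  · rintro ⟨j, rfl⟩
    have : (r j : DihedralGroup m) = (r 1) ^ j.val := by
      rw [r_one_pow, ZMod.natCast_zmod_val]
    rw [this, map_pow]
    exact Subgroup.pow_mem _ (Subgroup.mem_zpowers _) _

theorem emb_sr_not_mem_rotG [NeZero m] (i : ZMod m) : emb P eS (sr i) ∉ rotG P eS := by
  intro h
  obtain ⟨j, hj⟩ := (mem_rotG_iff P eS _).mp h
  exact emb_r_ne_sr P eS j i hj.symm

theorem rotG_le : rotG P eS ≤ (P : Subgroup G) := by
  unfold rotG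
  rw [Subgroup.zpowers_le]
  exact emb_mem P eS _

theorem relIndex_rotG [NeZero m] : (rotG P eS).relIndex (P : Subgroup G) = 2 := by
  show ((rotG P eS).subgroupOf (P : Subgroup G)).index = 2
  rw [Subgroup.index_eq_two_iff]
  refine ⟨⟨emb P eS (sr 0), emb_mem P eS _⟩, ?_⟩
  rintro ⟨b, hb⟩
  obtain ⟨d, rfl⟩ := exists_emb_eq P eS hb
  simp only [Subgroup.mem_subgroupOf, Subgroup.coe_mul]
  cases d with
  | r j =>
    right
    refine ⟨(mem_rotG_iff P eS _).mpr ⟨j, rfl⟩, ?_⟩
    rw [← map_mul, r_mul_sr]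
    exact emb_sr_not_mem_rotG P eS _
  | sr i =>
    left
    refine ⟨?_, emb_sr_not_mem_rotG P eS i⟩
    rw [← map_mul, sr_mul_sr]
    exact (mem_rotG_iff P eS _).mpr ⟨_, rfl⟩

theorem conj_r_sr (j i : ZMod m) :
    emb P eS (r j) * emb P eS (sr i) * (emb P eS (r j))⁻¹ = emb P eS (sr (i - j - j)) := by
  rw [← map_inv, ← map_mul, ← map_mul, inv_r, r_mul_sr, sr_mul_r]
  congr 2
  ring

theorem emb_sr_mul_sr (i j : ZMod m) :
    emb P eS (sr i) * emb P eS (sr j) = emb P eS (r (j - i)) := by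
  rw [← map_mul, sr_mul_sr]

theorem isConj_sr_of_par [NeZero m] (h2 : 2 ∣ m) (i i' : ZMod m) (h : par h2 (i - i') = 0) :
    IsConj (emb P eS (sr i)) (emb P eS (sr i')) := by
  obtain ⟨k, hk⟩ := exists_add_self_of_par h2 _ h
  rw [isConj_iff]
  refine ⟨emb P eS (r k), ?_⟩
  rw [conj_r_sr]
  congr 2
  have : i = i' + (k + k) := by rw [← hk]; ring
  rw [this]; ring

/-- an involution of the rotation subgroup is `z` -/
theorem eq_z_of_mem_rotG [NeZero m] (h : ZMod m) (hh : h + h = 0) (hh0 : h ≠ 0) (x : G)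
    (hx : x ∈ rotG P eS) (hx2 : orderOf x = 2) : x = emb P eS (r h) := by
  obtain ⟨j, rfl⟩ := (mem_rotG_iff P eS _).mp hx
  have hsq := sq_eq_one_of_orderOf_two hx2
  have hjj : j + j = 0 := by
    rw [← map_mul, r_mul_r] at hsq
    have h1 : emb P eS (r (j + j)) = emb P eS 1 := by rw [hsq, map_one]
    have h2 := emb_injective P eS h1
    rw [DihedralGroup.one_def] at h2
    exact DihedralGroup.r.inj h2
  have hj0 : j ≠ 0 := by
    rintro rfl
    apply ne_one_of_orderOf_two hx2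
    rw [r_zero, map_one]
  rw [half_unique j h hjj hj0 hh hh0]

theorem orderOf_conj'' (g x : G) : orderOf (g * x * g⁻¹) = orderOf x := by
  have := orderOf_injective (MulAut.conj g).toMonoidHom (MulAut.conj g).injective x
  simpa using this

/-- every involution is conjugate to `z` or to some reflection of `P` -/
theorem inv_cases [NeZero m] (h : ZMod m) (hh : h + h = 0) (hh0 : h ≠ 0) (u : G)
    (hu : orderOf u = 2) :
    IsConj u (emb P eS (r h)) ∨ ∃ i, IsConj u (emb P eS (sr i)) := by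
  obtain ⟨g, hg⟩ := exists_conj_mem_sylow P u (isPGroup_zpowers_of_orderOf_two u hu)
  have h1 : IsConj u (g * u * g⁻¹) := isConj_iff.2 ⟨g, rfl⟩
  have h2 : orderOf (g * u * g⁻¹) = 2 := by rw [orderOf_conj'']; exact hu
  obtain ⟨d, hd⟩ := exists_emb_eq P eS hg
  cases d with
  | r j =>
    left
    have := eq_z_of_mem_rotG P eS h hh hh0 _ ((mem_rotG_iff P eS _).mpr ⟨j, hd.symm⟩) h2
    rw [← this]; exact h1
  | sr i =>
    right
    exact ⟨i, by rw [hd]; exact h1⟩

end Emb


section Count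

variable {G : Type*} [Group G]

theorem card_classes_one (z : G) (hz : orderOf z = 2)
    (hall : ∀ u : G, orderOf u = 2 → IsConj u z) :
    Nat.card {C : ConjClasses G // ∃ g : G, ConjClasses.mk g = C ∧ orderOf g = 2} = 1 := by
  show Nat.card ↥{C : ConjClasses G | ∃ g : G, ConjClasses.mk g = C ∧ orderOf g = 2} = 1
  rw [Nat.card_coe_set_eq, Set.ncard_eq_one]
  refine ⟨ConjClasses.mk z, ?_⟩
  ext C
  simp only [Set.mem_ofPred_eq, Set.mem_singleton_iff]
  constructor
  · rintro ⟨g, rfl, hg⟩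
    exact ConjClasses.mk_eq_mk_iff_isConj.mpr (hall g hg)
  · rintro rfl
    exact ⟨z, rfl, hz⟩

theorem card_classes_two (z t : G) (hz : orderOf z = 2) (ht : orderOf t = 2)
    (hne : ¬ IsConj z t)
    (hall : ∀ u : G, orderOf u = 2 → IsConj u z ∨ IsConj u t) :
    Nat.card {C : ConjClasses G // ∃ g : G, ConjClasses.mk g = C ∧ orderOf g = 2} = 2 := by
  show Nat.card ↥{C : ConjClasses G | ∃ g : G, ConjClasses.mk g = C ∧ orderOf g = 2} = 2
  rw [Nat.card_coe_set_eq, Set.ncard_eq_two]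
  refine ⟨ConjClasses.mk z, ConjClasses.mk t, ?_, ?_⟩
  · intro h
    exact hne (ConjClasses.mk_eq_mk_iff_isConj.mp h)
  · ext C
    simp only [Set.mem_ofPred_eq, Set.mem_insert_iff, Set.mem_singleton_iff]
    constructor
    · rintro ⟨g, rfl, hg⟩
      rcases hall g hg with h | h
      · exact Or.inl (ConjClasses.mk_eq_mk_iff_isConj.mpr h)
      · exact Or.inr (ConjClasses.mk_eq_mk_iff_isConj.mpr h)
    · rintro (rfl | rfl)
      · exact ⟨z, rfl, hz⟩
      · exact ⟨t, rfl, ht⟩

theorem card_classes_three (z s t : G) (hz : orderOf z = 2) (hs : orderOf s = 2)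
    (ht : orderOf t = 2) (hzs : ¬ IsConj z s) (hzt : ¬ IsConj z t) (hst : ¬ IsConj s t)
    (hall : ∀ u : G, orderOf u = 2 → IsConj u z ∨ IsConj u s ∨ IsConj u t) :
    Nat.card {C : ConjClasses G // ∃ g : G, ConjClasses.mk g = C ∧ orderOf g = 2} = 3 := by
  show Nat.card ↥{C : ConjClasses G | ∃ g : G, ConjClasses.mk g = C ∧ orderOf g = 2} = 3
  rw [Nat.card_coe_set_eq, Set.ncard_eq_three]
  refine ⟨ConjClasses.mk z, ConjClasses.mk s, ConjClasses.mk t, ?_, ?_, ?_, ?_⟩
  · intro h; exact hzs (ConjClasses.mk_eq_mk_iff_isConj.mp h)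
  · intro h; exact hzt (ConjClasses.mk_eq_mk_iff_isConj.mp h)
  · intro h; exact hst (ConjClasses.mk_eq_mk_iff_isConj.mp h)
  · ext C
    simp only [Set.mem_ofPred_eq, Set.mem_insert_iff, Set.mem_singleton_iff]
    constructor
    · rintro ⟨g, rfl, hg⟩
      rcases hall g hg with h | h | h
      · exact Or.inl (ConjClasses.mk_eq_mk_iff_isConj.mpr h)
      · exact Or.inr (Or.inl (ConjClasses.mk_eq_mk_iff_isConj.mpr h))
      · exact Or.inr (Or.inr (ConjClasses.mk_eq_mk_iff_isConj.mpr h))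
    · rintro (rfl | rfl | rfl)
      · exact ⟨z, rfl, hz⟩
      · exact ⟨s, rfl, hs⟩
      · exact ⟨t, rfl, ht⟩

end Count


section Cases

open Cfsg.Agent.Helper2 Cfsg.Agent.Helper47

variable {G : Type*} [Group G] [Finite G] (P : Sylow 2 G) {m : ℕ}
  (eS : (P : Subgroup G) ≃* DihedralGroup m)

/-- Case 2: if `P ∩ O^2(G)` lies in the rotation subgroup then `G` has a normal 2-complement. -/
theorem frobCond_of_inf_le_rot [NeZero m] (h : ZMod m) (hh : h + h = 0) (hh0 : h ≠ 0)
    (hPL : ∀ x ∈ (P : Subgroup G), x ∈ Cfsg.pResidual 2 G → x ∈ rotG P eS) : FrobCond 2 G := by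
  have : Fact (Nat.Prime 2) := ⟨Nat.prime_two⟩
  have hD : DihLike (P : Subgroup G) := dihLike_of_equiv _ m eS
  have hLn : (Cfsg.pResidual 2 G).Normal := inferInstance
  apply frobCond_of_sylow P
  intro Q hQP g hg hgo
  have hQ2 : IsPGroup 2 Q := P.2.to_le hQP
  have hgL : g ∈ Cfsg.pResidual 2 G := mem_pResidual_of_coprime hgo
  have hnorm := Subgroup.mem_normalizer_iff.mp hg
  by_cases hv : ∃ v ∈ Q, v * v ≠ 1
  · exact hD.centralizes_of_sq_ne_one Q hQP hQ2 g hg hgo hv
  · push Not at hv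
    by_cases ht : ∃ t ∈ Q, t ≠ 1 ∧ t ∈ Cfsg.pResidual 2 G
    · obtain ⟨t, htQ, ht1, htL⟩ := ht
      have ht2 : orderOf t = 2 := orderOf_two_of_sq (hv t htQ) ht1
      have htR : t ∈ rotG P eS := hPL t (hQP htQ) htL
      have hgtQ : g * t * g⁻¹ ∈ Q := (hnorm t).mp htQ
      have hgtL : g * t * g⁻¹ ∈ Cfsg.pResidual 2 G := hLn.conj_mem t htL g
      have hgtR : g * t * g⁻¹ ∈ rotG P eS := hPL _ (hQP hgtQ) hgtL
      have hgt2 : orderOf (g * t * g⁻¹) = 2 := by rw [orderOf_conj'']; exact ht2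
      have e1 := eq_z_of_mem_rotG P eS h hh hh0 t htR ht2
      have e2 := eq_z_of_mem_rotG P eS h hh hh0 _ hgtR hgt2
      exact hD.centralizes_of_fixed Q hQP hv g hg hgo t htQ ht1 (by rw [e2, ← e1])
    · push Not at ht
      rw [Subgroup.mem_centralizer_iff]
      intro u hu
      have hc1 : g * u * g⁻¹ * u⁻¹ ∈ Q := Q.mul_mem ((hnorm u).mp hu) (Q.inv_mem hu)
      have hc2 : g * u * g⁻¹ * u⁻¹ ∈ Cfsg.pResidual 2 G := by
        have : g * u * g⁻¹ * u⁻¹ = g * (u * g⁻¹ * u⁻¹) := by group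
        rw [this]
        exact Subgroup.mul_mem _ hgL (hLn.conj_mem _ (Subgroup.inv_mem _ hgL) u)
      have hc3 : g * u * g⁻¹ * u⁻¹ = 1 := by
        by_contra hne
        exact ht _ hc1 hne hc2
      calc u * g = (g * u * g⁻¹ * u⁻¹)⁻¹ * (g * u) := by group
        _ = g * u := by rw [hc3]; group

/-- with a normal 2-complement, `G`-conjugate elements of `P` are `P`-conjugate -/
theorem conj_in_sylow_of_complement (hX : Cfsg.HasNormalPComplement 2 G) (x y : G)
    (hx : x ∈ (P : Subgroup G)) (hy : y ∈ (P : Subgroup G)) (hxy : IsConj x y) :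
    ∃ p ∈ (P : Subgroup G), p * x * p⁻¹ = y := by
  have : Fact (Nat.Prime 2) := ⟨Nat.prime_two⟩
  obtain ⟨P', K, hKn, hKP⟩ := hX
  have hcardPS : Nat.card (P' : Subgroup G) = Nat.card (P : Subgroup G) := by
    rw [Sylow.card_eq_multiplicity, Sylow.card_eq_multiplicity]
  have hKS : K.IsComplement' (P : Subgroup G) := by
    apply Subgroup.isComplement'_of_coprime
    · rw [← hcardPS]; exact hKP.card_mul_card
    · have h1 : (P' : Subgroup G).index = Nat.card K := hKP.index_eq_card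
      rw [← hcardPS, ← h1]
      exact (Sylow.card_coprime_index P').symm
  have hdisj : K ⊓ (P : Subgroup G) = ⊥ := disjoint_iff.mp hKS.disjoint
  obtain ⟨g, hg⟩ := isConj_iff.mp hxy
  obtain ⟨⟨⟨k, hk⟩, ⟨s, hs⟩⟩, hks, -⟩ := Subgroup.isComplement_iff_existsUnique.mp hKS g
  simp only at hks
  refine ⟨s, hs, ?_⟩
  set w := s * x * s⁻¹ with hw
  have hwS : w ∈ (P : Subgroup G) :=
    Subgroup.mul_mem _ (Subgroup.mul_mem _ hs hx) (Subgroup.inv_mem _ hs)
  have hkw : k * w * k⁻¹ = y := by rw [← hg, ← hks, hw]; group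
  have h1 : k * w * k⁻¹ * w⁻¹ ∈ K := by
    have : k * w * k⁻¹ * w⁻¹ = k * (w * k⁻¹ * w⁻¹) := by group
    rw [this]
    exact K.mul_mem hk (hKn.conj_mem _ (K.inv_mem hk) w)
  have h2 : k * w * k⁻¹ * w⁻¹ ∈ (P : Subgroup G) := by
    rw [hkw]
    exact Subgroup.mul_mem _ hy (Subgroup.inv_mem _ hwS)
  have h3 : k * w * k⁻¹ * w⁻¹ ∈ K ⊓ (P : Subgroup G) := Subgroup.mem_inf.mpr ⟨h1, h2⟩
  rw [hdisj, Subgroup.mem_bot] at h3
  rw [← hkw]
  calc w = (k * w * k⁻¹ * w⁻¹)⁻¹ * (k * w * k⁻¹) := by group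
    _ = k * w * k⁻¹ := by rw [h3]; group


theorem conj_in_dih (a b : DihedralGroup m) (p : G) (hp : p ∈ (P : Subgroup G))
    (h : p * emb P eS a * p⁻¹ = emb P eS b) : ∃ c : DihedralGroup m, c * a * c⁻¹ = b := by
  obtain ⟨c, rfl⟩ := exists_emb_eq P eS hp
  refine ⟨c, emb_injective P eS ?_⟩
  rw [map_mul, map_mul, map_inv]; exact h

theorem not_conj_r_sr (c : DihedralGroup m) (j i : ZMod m) : c * r j * c⁻¹ ≠ sr i := by
  cases c with
  | r k =>
    rw [inv_r, r_mul_r, r_mul_r]
    intro h; cases h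
  | sr k =>
    rw [inv_sr, sr_mul_r, sr_mul_sr]
    intro h; cases h

theorem par_one (h2 : 2 ∣ m) : par h2 (1 : ZMod m) = 1 := map_one _

theorem not_conj_sr_zero_one (h2 : 2 ∣ m) (c : DihedralGroup m) :
    c * sr 0 * c⁻¹ ≠ sr 1 := by
  cases c with
  | r k =>
    rw [inv_r, r_mul_sr, sr_mul_r]
    intro h
    have h1 : (0 - k + -k : ZMod m) = 1 := DihedralGroup.sr.inj h
    have h3 : (0 - k + -k : ZMod m) = -(k + k) := by ring
    rw [h3] at h1
    have h4 := congrArg (par h2) h1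
    rw [map_neg, par_add_self, neg_zero, par_one] at h4
    exact zero_ne_one h4
  | sr k =>
    rw [inv_sr, sr_mul_sr, r_mul_sr]
    intro h
    have h1 : (k - (0 - k) : ZMod m) = 1 := DihedralGroup.sr.inj h
    have h3 : (k - (0 - k) : ZMod m) = k + k := by ring
    rw [h3] at h1
    have h4 := congrArg (par h2) h1
    rw [par_add_self, par_one] at h4
    exact zero_ne_one h4

include P eS in
/-- Case 2 conclusion: three classes of involutions. -/
theorem three_classes [NeZero m] (h2 : 2 ∣ m) (h : ZMod m) (hh : h + h = 0) (hh0 : h ≠ 0)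
    (hX : Cfsg.HasNormalPComplement 2 G) :
    Nat.card {C : ConjClasses G // ∃ g : G, ConjClasses.mk g = C ∧ orderOf g = 2} = 3 := by
  apply card_classes_three (emb P eS (r h)) (emb P eS (sr 0)) (emb P eS (sr 1))
    (orderOf_emb_r P eS hh hh0) (orderOf_emb_sr P eS 0) (orderOf_emb_sr P eS 1)
  · intro hc
    obtain ⟨p, hp, hpe⟩ := conj_in_sylow_of_complement P hX _ _ (emb_mem P eS _) (emb_mem P eS _) hc
    obtain ⟨c, hc'⟩ := conj_in_dih P eS _ _ p hp hpe
    exact not_conj_r_sr c h 0 hc'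
  · intro hc
    obtain ⟨p, hp, hpe⟩ := conj_in_sylow_of_complement P hX _ _ (emb_mem P eS _) (emb_mem P eS _) hc
    obtain ⟨c, hc'⟩ := conj_in_dih P eS _ _ p hp hpe
    exact not_conj_r_sr c h 1 hc'
  · intro hc
    obtain ⟨p, hp, hpe⟩ := conj_in_sylow_of_complement P hX _ _ (emb_mem P eS _) (emb_mem P eS _) hc
    obtain ⟨c, hc'⟩ := conj_in_dih P eS _ _ p hp hpe
    exact not_conj_sr_zero_one h2 c hc'
  · intro u hu
    rcases inv_cases P eS h hh hh0 u hu with hz | ⟨i, hi⟩
    · exact Or.inl hz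
    · right
      rcases zmod_two_cases (par h2 i) with h0 | h1
      · left
        exact hi.trans (isConj_sr_of_par P eS h2 i 0 (by rw [sub_zero]; exact h0))
      · right
        exact hi.trans (isConj_sr_of_par P eS h2 i 1 (by rw [map_sub, h1, par_one, sub_self]))

theorem pRes_le_of_index (N : Subgroup G) (hN : N.Normal) (k : ℕ) (hk : N.index = 2 ^ k) :
    Cfsg.pResidual 2 G ≤ N := by
  have : Fact (Nat.Prime 2) := ⟨Nat.prime_two⟩
  have := hN
  apply pResidual_le_of_isPGroup_quotient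
  rw [IsPGroup.iff_card]
  exact ⟨k, by rw [← Subgroup.index_eq_card]; exact hk⟩

include P eS in
/-- Case 1 -/
theorem case_one (n : ℕ) (hn : 3 ≤ n) (hm : m = 2 ^ (n - 1))
    (hL : Cfsg.pResidual 2 G = ⊤) :
    Nat.card {C : ConjClasses G // ∃ g : G, ConjClasses.mk g = C ∧ orderOf g = 2} = 1 ∧
      ∀ N : Subgroup G, N.Normal → N.index ≠ 2 := by
  subst hm
  have h4 : 2 ≤ 2 ^ (n - 1) := by
    calc 2 = 2 ^ 1 := by norm_num
      _ ≤ 2 ^ (n - 1) := Nat.pow_le_pow_right (by norm_num) (by omega)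
  have hev : Even (2 ^ (n - 1)) := (Nat.even_pow' (by omega)).mpr even_two
  obtain ⟨h, hh, hh0⟩ := exists_half h4 hev
  constructor
  · apply card_classes_one (emb P eS (r h)) (orderOf_emb_r P eS hh hh0)
    intro u hu
    obtain ⟨g, hg⟩ := Cfsg.Agent.S0107.result P (n - 1) (by omega) ⟨eS⟩ hL u (emb P eS (r h)) hu
      (orderOf_emb_r P eS hh hh0)
    exact isConj_iff.mpr ⟨g, hg⟩
  · intro N hN hidx
    have hle := pRes_le_of_index N hN 1 (by rw [hidx, pow_one])
    rw [hL, top_le_iff] at hle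
    rw [hle, Subgroup.index_top] at hidx
    norm_num at hidx

/-- a reflection lying in `O^2(G)` is conjugate to the central involution -/
theorem sr_conj_z_of_mem [NeZero m] (h : ZMod m) (hh : h + h = 0) (hh0 : h ≠ 0) (i : ZMod m)
    (hi : emb P eS (sr i) ∈ Cfsg.pResidual 2 G) :
    ∃ g : G, g * emb P eS (sr i) * g⁻¹ = emb P eS (r h) := by
  rcases Cfsg.Agent.S0111.result P (rotG P eS) (rotG_le P eS) (relIndex_rotG P eS) (emb P eS (sr i))
    (orderOf_emb_sr P eS i) (emb_mem P eS _) (emb_sr_not_mem_rotG P eS i) with ⟨M, hMn, hMi, hM⟩ | ⟨g, hg⟩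
  · exfalso
    exact hM (pRes_le_of_index M hMn 1 (by rw [hMi, pow_one]) hi)
  · refine ⟨g, eq_z_of_mem_rotG P eS h hh hh0 _ hg ?_⟩
    rw [orderOf_conj'']; exact orderOf_emb_sr P eS i

/-- Case 3 -/
theorem case_three [NeZero m] (h2 : 2 ∣ m) (h : ZMod m) (hh : h + h = 0) (hh0 : h ≠ 0)
    (hLtop : Cfsg.pResidual 2 G ≠ ⊤) (i0 : ZMod m)
    (hi0 : emb P eS (sr i0) ∈ Cfsg.pResidual 2 G) :
    Nat.card {C : ConjClasses G // ∃ g : G, ConjClasses.mk g = C ∧ orderOf g = 2} = 2 ∧
      (∃ N : Subgroup G, N.Normal ∧ N.index = 2) ∧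
      ∀ N : Subgroup G, N.Normal → N.index ≠ 4 := by
  have : Fact (Nat.Prime 2) := ⟨Nat.prime_two⟩
  have hLn : (Cfsg.pResidual 2 G).Normal := inferInstance
  -- (a), (b)
  obtain ⟨g0, hg0⟩ := sr_conj_z_of_mem P eS h hh hh0 i0 hi0
  have hzL : emb P eS (r h) ∈ Cfsg.pResidual 2 G := by
    rw [← hg0]; exact hLn.conj_mem _ hi0 g0
  have hi0z : IsConj (emb P eS (sr i0)) (emb P eS (r h)) := isConj_iff.mpr ⟨g0, hg0⟩
  -- (c)
  have hex : ∃ i1, emb P eS (sr i1) ∉ Cfsg.pResidual 2 G := by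
    by_contra hall
    push Not at hall
    apply hLtop
    have hPL : (P : Subgroup G) ≤ Cfsg.pResidual 2 G := by
      intro x hx
      obtain ⟨d, rfl⟩ := exists_emb_eq P eS hx
      cases d with
      | r j =>
        have := emb_sr_mul_sr P eS 0 j
        rw [sub_zero] at this
        rw [← this]
        exact Subgroup.mul_mem _ (hall 0) (hall j)
      | sr i => exact hall i
    have := sylow_sup_pResidual_eq_top (p := 2) P
    rwa [sup_eq_right.mpr hPL] at this
  obtain ⟨i1, hi1⟩ := hex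
  -- conj invariance of membership in L
  have hLconj : ∀ a b : G, IsConj a b → a ∈ Cfsg.pResidual 2 G → b ∈ Cfsg.pResidual 2 G := by
    intro a b hab ha
    obtain ⟨c, hc⟩ := isConj_iff.mp hab
    rw [← hc]; exact hLn.conj_mem _ ha c
  have hpar1 : par h2 (i1 - i0) = 1 := by
    rcases zmod_two_cases (par h2 (i1 - i0)) with h0 | h1
    · exfalso
      have hc : IsConj (emb P eS (sr i1)) (emb P eS (sr i0)) := isConj_sr_of_par P eS h2 i1 i0 h0
      exact hi1 (hLconj _ _ hc.symm hi0)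
    · exact h1
  -- (e)
  have hne : ¬ IsConj (emb P eS (r h)) (emb P eS (sr i1)) := fun hc => hi1 (hLconj _ _ hc hzL)
  -- (d)
  have hall : ∀ u : G, orderOf u = 2 →
      IsConj u (emb P eS (r h)) ∨ IsConj u (emb P eS (sr i1)) := by
    intro u hu
    rcases inv_cases P eS h hh hh0 u hu with hz | ⟨i, hi⟩
    · exact Or.inl hz
    · rcases zmod_two_cases (par h2 (i - i0)) with h0 | h1
      · left
        exact (hi.trans (isConj_sr_of_par P eS h2 i i0 h0)).trans hi0z
      · right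
        refine hi.trans (isConj_sr_of_par P eS h2 i i1 ?_)
        have : i - i1 = (i - i0) - (i1 - i0) := by ring
        rw [this, map_sub, h1, hpar1, sub_self]
  refine ⟨card_classes_two _ _ (orderOf_emb_r P eS hh hh0) (orderOf_emb_sr P eS i1) hne hall, ?_, ?_⟩
  · -- (f)
    rcases Cfsg.Agent.S0111.result P (rotG P eS) (rotG_le P eS) (relIndex_rotG P eS)
      (emb P eS (sr i1)) (orderOf_emb_sr P eS i1) (emb_mem P eS _)
      (emb_sr_not_mem_rotG P eS i1) with ⟨M, hMn, hMi, -⟩ | ⟨g, hg⟩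
    · exact ⟨M, hMn, hMi⟩
    · exfalso
      have := eq_z_of_mem_rotG P eS h hh hh0 _ hg (by rw [orderOf_conj'']; exact orderOf_emb_sr P eS i1)
      exact hne (isConj_iff.mpr ⟨g, this⟩).symm
  · -- (g)
    intro N hN hidx
    have hLN : Cfsg.pResidual 2 G ≤ N := pRes_le_of_index N hN 2 (by rw [hidx]; norm_num)
    have hsrN : ∀ k : ZMod m, emb P eS (sr (i0 - k - k)) ∈ N := by
      intro k
      rw [← conj_r_sr]
      exact hN.conj_mem _ (hLN hi0) _
    have hrN : ∀ k : ZMod m, emb P eS (r (k + k)) ∈ N := by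
      intro k
      have h1 := emb_sr_mul_sr P eS (i0 - k - k) i0
      have h3 : i0 - (i0 - k - k) = k + k := by ring
      rw [h3] at h1
      rw [← h1]
      exact N.mul_mem (hsrN k) (hLN hi0)
    set ρ := emb P eS (r 1) with hρ
    have hP : ∀ p ∈ (P : Subgroup G), p ∈ N ∨ p * ρ ∈ N := by
      intro p hp
      obtain ⟨d, rfl⟩ := exists_emb_eq P eS hp
      cases d with
      | r j =>
        rcases zmod_two_cases (par h2 j) with h0 | h1
        · left
          obtain ⟨k, rfl⟩ := exists_add_self_of_par h2 j h0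
          exact hrN k
        · right
          have h0 : par h2 (j + 1) = 0 := by
            rw [map_add, h1, par_one]; exact CharTwo.add_self_eq_zero (1 : ZMod 2)
          obtain ⟨k, hk⟩ := exists_add_self_of_par h2 (j + 1) h0
          rw [hρ, ← map_mul, r_mul_r, hk]
          exact hrN k
      | sr i =>
        rcases zmod_two_cases (par h2 (i0 - i)) with h0 | h1
        · left
          obtain ⟨k, hk⟩ := exists_add_self_of_par h2 _ h0
          have : i = i0 - k - k := by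
            have : i = i0 - (i0 - i) := by ring
            rw [this, hk]; ring
          rw [this]; exact hsrN k
        · right
          have h0 : par h2 (i0 - (i + 1)) = 0 := by
            have : i0 - (i + 1) = (i0 - i) - 1 := by ring
            rw [this, map_sub, h1, par_one, sub_self]
          obtain ⟨k, hk⟩ := exists_add_self_of_par h2 _ h0
          have : i + 1 = i0 - k - k := by
            have : i + 1 = i0 - (i0 - (i + 1)) := by ring
            rw [this, hk]; ring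
          rw [hρ, ← map_mul, sr_mul_r, this]; exact hsrN k
    have htop : (P : Subgroup G) ⊔ N = ⊤ := by
      have h1 := sylow_sup_pResidual_eq_top (p := 2) P
      rw [eq_top_iff, ← h1]
      exact sup_le_sup_left hLN _
    have hG : ∀ g : G, g ∈ N ∨ g * ρ ∈ N := by
      intro g
      have hg : g ∈ (P : Subgroup G) ⊔ N := by rw [htop]; trivial
      have := hN
      obtain ⟨p, hp, n', hn', rfl⟩ := Subgroup.mem_sup_of_normal_right.mp hg
      rcases hP p hp with h1 | h1
      · left; exact N.mul_mem h1 hn'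
      · right
        have : p * n' * ρ = p * ρ * (ρ⁻¹ * n' * ρ⁻¹⁻¹) := by group
        rw [this]
        exact N.mul_mem h1 (hN.conj_mem _ hn' _)
    by_cases hρN : ρ ∈ N
    · have : N = ⊤ := by
        rw [eq_top_iff]
        intro g _
        rcases hG g with h1 | h1
        · exact h1
        · have : g = g * ρ * ρ⁻¹ := by group
          rw [this]; exact N.mul_mem h1 (N.inv_mem hρN)
      rw [this, Subgroup.index_top] at hidx
      norm_num at hidx
    · have : N.index = 2 := by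
        rw [Subgroup.index_eq_two_iff]
        refine ⟨ρ, fun b => ?_⟩
        rcases hG b with h1 | h1
        · refine Or.inr ⟨h1, fun h3 => hρN ?_⟩
          have : ρ = b⁻¹ * (b * ρ) := by group
          rw [this]; exact N.mul_mem (N.inv_mem h1) h3
        · refine Or.inl ⟨h1, fun h3 => hρN ?_⟩
          have : ρ = b⁻¹ * (b * ρ) := by group
          rw [this]; exact N.mul_mem (N.inv_mem h3) h1
      rw [this] at hidx
      norm_num at hidx

end Cases


theorem result {G : Type*} [Group G] [Finite G] (P : Sylow 2 G) (n : ℕ) (hn : 3 ≤ n) (hdih : Nonempty (↥(P : Subgroup G) ≃* DihedralGroup (2 ^ (n - 1)))) : (Nat.card {C : ConjClasses G // ∃ g : G, ConjClasses.mk g = C ∧ orderOf g = 2} = 1 ∧ ∀ N : Subgroup G, N.Normal → N.index ≠ 2) ∨ (Nat.card {C : ConjClasses G // ∃ g : G, ConjClasses.mk g = C ∧ orderOf g = 2} = 2 ∧ (∃ N : Subgroup G, N.Normal ∧ N.index = 2) ∧ ∀ N : Subgroup G, N.Normal → N.index ≠ 4) ∨ (Nat.card {C : ConjClasses G // ∃ g : G, ConjClasses.mk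 g = C ∧ orderOf g = 2} = 3 ∧ Cfsg.HasNormalPComplement 2 G) := by
  obtain ⟨eS⟩ := hdih
  have : Fact (Nat.Prime 2) := ⟨Nat.prime_two⟩
  have hne : NeZero (2 ^ (n - 1)) := ⟨by positivity⟩
  have h4 : 2 ≤ 2 ^ (n - 1) := by
    calc 2 = 2 ^ 1 := by norm_num
      _ ≤ 2 ^ (n - 1) := Nat.pow_le_pow_right (by norm_num) (by omega)
  have h2 : 2 ∣ 2 ^ (n - 1) := dvd_pow_self 2 (by omega)
  have hev : Even (2 ^ (n - 1)) := (even_iff_two_dvd).mpr h2
  obtain ⟨h, hh, hh0⟩ := exists_half h4 hev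
  by_cases hL : Cfsg.pResidual 2 G = ⊤
  · exact Or.inl (case_one P eS n hn rfl hL)
  · by_cases hx : ∃ i0, emb P eS (sr i0) ∈ Cfsg.pResidual 2 G
    · obtain ⟨i0, hi0⟩ := hx
      exact Or.inr (Or.inl (case_three P eS h2 h hh hh0 hL i0 hi0))
    · push Not at hx
      right; right
      have hF : Cfsg.Agent.Helper2.FrobCond 2 G := by
        apply frobCond_of_inf_le_rot P eS h hh hh0
        intro x hxP hxL
        obtain ⟨d, rfl⟩ := exists_emb_eq P eS hxP
        cases d with
        | r j => exact (mem_rotG_iff P eS _).mpr ⟨j, rfl⟩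
        | sr i => exact absurd hxL (hx i)
      have hX : Cfsg.HasNormalPComplement 2 G := Cfsg.Agent.Helper2.frobenius 2 hF
      exact ⟨three_classes P eS h2 h hh hh0 hX, hX⟩

end Cfsg.Agent.S3864
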