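import Mathlib
import Cfsg.Statements.S3866

set_option autoImplicit false
open Cfsg

namespace Cfsg.Agent.S3866

open scoped commutatorElement

section
variable {G : Type*} [Group G] (A : Subgroup G) [hAn : A.Normal] (hA : IsMulCommutative A) (x : G)

omit hAn in
include hA in
theorem comm_of_mem {a b : G} (ha : a ∈ A) (hb : b ∈ A) : a * b = b * a := by
  have := hA.is_comm.comm (⟨a, ha⟩ : A) ⟨b, hb⟩
  exact congrArg Subtype.val this

theorem comm_mem {a : G} (ha : a ∈ A) : x * a * x⁻¹ * a⁻¹ ∈ A :=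
  A.mul_mem (hAn.conj_mem a ha x) (A.inv_mem ha)

include hA in
theorem hom_prop {a b : G} (ha : a ∈ A) (hb : b ∈ A) :
    x * (a * b) * x⁻¹ * (a * b)⁻¹ = (x * a * x⁻¹ * a⁻¹) * (x * b * x⁻¹ * b⁻¹) := by
  have h1 : (x * b * x⁻¹ * b⁻¹) * a⁻¹ = a⁻¹ * (x * b * x⁻¹ * b⁻¹) :=
    comm_of_mem A hA (comm_mem A x hb) (A.inv_mem ha)
  calc x * (a * b) * x⁻¹ * (a * b)⁻¹
      = (x * a * x⁻¹) * ((x * b * x⁻¹ * b⁻¹) * a⁻¹) := by group
    _ = (x * a * x⁻¹) * (a⁻¹ * (x * b * x⁻¹ * b⁻¹)) := by rw [h1]
    _ = (x * a * x⁻¹ * a⁻¹) * (x * b * x⁻¹ * b⁻¹) := by group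

/-- The commutator map `a ↦ [x, a]` as a homomorphism `A →* G`. -/
def phi : A →* G :=
  MonoidHom.mk' (fun a => x * a.1 * x⁻¹ * (a.1)⁻¹) (fun a b => by
    have := hom_prop A hA x a.2 b.2
    simpa using this)

theorem phi_apply (a : A) : phi A hA x a = x * a.1 * x⁻¹ * (a.1)⁻¹ := rfl

theorem range_le : (phi A hA x).range ≤ A := by
  rintro _ ⟨a, rfl⟩
  exact comm_mem A x a.2

include hA in
theorem conj_x_mem_range {c : G} (hc : c ∈ (phi A hA x).range) :
    x * c * x⁻¹ ∈ (phi A hA x).range := by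
  obtain ⟨a, rfl⟩ := hc
  refine ⟨⟨x * a.1 * x⁻¹, hAn.conj_mem a.1 a.2 x⟩, ?_⟩
  rw [phi_apply, phi_apply]
  group

include hA in
theorem conj_x_inv_mem_range {c : G} (hc : c ∈ (phi A hA x).range) :
    x⁻¹ * c * x ∈ (phi A hA x).range := by
  obtain ⟨a, rfl⟩ := hc
  refine ⟨⟨x⁻¹ * a.1 * x, by simpa using hAn.conj_mem a.1 a.2 x⁻¹⟩, ?_⟩
  rw [phi_apply, phi_apply]
  group

theorem range_normal (hgen : A ⊔ Subgroup.zpowers x = ⊤) : (phi A hA x).range.Normal := by
  rw [← Subgroup.normalizer_eq_top_iff, eq_top_iff, ← hgen]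
  apply sup_le
  · intro b hb
    rw [Subgroup.mem_normalizer_iff]
    intro c
    constructor
    · intro hc
      have hcA := range_le A hA x hc
      have : b * c * b⁻¹ = c := by
        rw [comm_of_mem A hA hb hcA]; group
      rwa [this]
    · intro hc
      have hcA : c ∈ A := by
        have h1 := range_le A hA x hc
        have := A.mul_mem (A.mul_mem (A.inv_mem hb) h1) hb
        simpa [mul_assoc] using this
      have : b * c * b⁻¹ = c := by
        rw [comm_of_mem A hA hb hcA]; group
      rwa [this] at hc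
  · rw [Subgroup.zpowers_le, Subgroup.mem_normalizer_iff]
    intro c
    constructor
    · exact conj_x_mem_range A hA x
    · intro hc
      have := conj_x_inv_mem_range A hA x hc
      simpa [mul_assoc] using this

theorem commutator_le_range (hgen : A ⊔ Subgroup.zpowers x = ⊤) :
    commutator G ≤ (phi A hA x).range := by
  have hN : (phi A hA x).range.Normal := range_normal A hA x hgen
  set B := (phi A hA x).range with hB
  let π := QuotientGroup.mk' B
  -- commuting modulo `B`
  have hxa : ∀ a ∈ A, π x * π a = π a * π x := by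
    intro a ha
    have h1 : x * a = (x * a * x⁻¹ * a⁻¹) * (a * x) := by group
    have h2 : π (x * a * x⁻¹ * a⁻¹) = 1 := by
      rw [QuotientGroup.mk'_apply, QuotientGroup.eq_one_iff]
      exact ⟨⟨a, ha⟩, rfl⟩
    rw [← map_mul, h1, map_mul, h2, one_mul, map_mul]
  have hab : ∀ a ∈ A, ∀ b ∈ A, π b * π a = π a * π b := by
    intro a ha b hb
    rw [← map_mul, ← map_mul, comm_of_mem A hA hb ha]
  -- elements commuting with a given one modulo `B`
  have htop : ∀ u : G, (∀ a ∈ A, π a * π u = π u * π a) → π x * π u = π u * π x →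
      ∀ h : G, π h * π u = π u * π h := by
    intro u h1 h2 h
    have hle : A ⊔ Subgroup.zpowers x ≤ (Subgroup.centralizer {π u}).comap π := by
      apply sup_le
      · intro a ha
        rw [Subgroup.mem_comap, Subgroup.mem_centralizer_iff]
        intro y hy
        rw [Set.mem_singleton_iff] at hy
        rw [hy]; exact (h1 a ha).symm
      · rw [Subgroup.zpowers_le, Subgroup.mem_comap, Subgroup.mem_centralizer_iff]
        intro y hy
        rw [Set.mem_singleton_iff] at hy
        rw [hy]; exact h2.symm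
    rw [hgen] at hle
    have := hle (Subgroup.mem_top h)
    rw [Subgroup.mem_comap, Subgroup.mem_centralizer_iff] at this
    exact (this _ rfl).symm
  have hA_central : ∀ a ∈ A, ∀ h : G, π h * π a = π a * π h := by
    intro a ha
    exact htop a (fun b hb => hab a ha b hb) (hxa a ha)
  have hx_central : ∀ h : G, π h * π x = π x * π h :=
    htop x (fun a ha => (hxa a ha).symm) rfl
  have hall : ∀ u h : G, π h * π u = π u * π h := by
    intro u
    have hle : A ⊔ Subgroup.zpowers x ≤ (Subgroup.center (G ⧸ B)).comap π := by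
      apply sup_le
      · intro a ha
        rw [Subgroup.mem_comap, Subgroup.mem_center_iff]
        intro q
        obtain ⟨h, rfl⟩ := QuotientGroup.mk'_surjective B q
        exact hA_central a ha h
      · rw [Subgroup.zpowers_le, Subgroup.mem_comap, Subgroup.mem_center_iff]
        intro q
        obtain ⟨h, rfl⟩ := QuotientGroup.mk'_surjective B q
        exact hx_central h
    rw [hgen] at hle
    have := hle (Subgroup.mem_top u)
    rw [Subgroup.mem_comap, Subgroup.mem_center_iff] at this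
    intro h
    exact this (π h)
  rw [commutator_def, Subgroup.commutator_le]
  intro g _ h _
  have : π (⁅g, h⁆ : G) = 1 := by
    rw [map_commutatorElement, commutatorElement_eq_one_iff_mul_comm]
    exact hall h g
  rwa [QuotientGroup.mk'_apply, QuotientGroup.eq_one_iff] at this

theorem range_le_commutator : (phi A hA x).range ≤ commutator G := by
  rintro _ ⟨a, rfl⟩
  rw [commutator_def, phi_apply]
  exact Subgroup.commutator_mem_commutator (Subgroup.mem_top x) (Subgroup.mem_top a.1)

theorem ker_map : (phi A hA x).ker.map A.subtype = A ⊓ Subgroup.centralizer ({x} : Set G) := by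
  ext a
  rw [Subgroup.mem_map, Subgroup.mem_inf, Subgroup.mem_centralizer_iff]
  constructor
  · rintro ⟨b, hb, rfl⟩
    refine ⟨b.2, ?_⟩
    intro y hy
    rw [Set.mem_singleton_iff] at hy
    rw [hy]
    rw [MonoidHom.mem_ker, phi_apply] at hb
    have : x * b.1 = (x * b.1 * x⁻¹ * (b.1)⁻¹) * (b.1 * x) := by group
    rw [Subgroup.coe_subtype, this, hb, one_mul]
  · rintro ⟨ha, hc⟩
    refine ⟨⟨a, ha⟩, ?_, rfl⟩
    rw [MonoidHom.mem_ker, phi_apply]
    have := hc x rfl
    simp only
    rw [this]; group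

end

theorem result {G : Type*} [Group G] [Finite G] (A : Subgroup G) [A.Normal] (hA : IsMulCommutative A) (x : G) (hgen : A ⊔ Subgroup.zpowers x = ⊤) : (∀ a ∈ A, x * a * x⁻¹ * a⁻¹ ∈ commutator G) ∧ (∀ c ∈ commutator G, ∃ a ∈ A, x * a * x⁻¹ * a⁻¹ = c) ∧ (∀ a ∈ A, ∀ b ∈ A, x * (a * b) * x⁻¹ * (a * b)⁻¹ = (x * a * x⁻¹ * a⁻¹) * (x * b * x⁻¹ * b⁻¹)) ∧ Nat.card (commutator G) * Nat.card ↥(A ⊓ Subgroup.centralizer ({x} : Set G)) = Nat.card A := by
  have heq : (phi A hA x).range = commutator G :=
    le_antisymm (range_le_commutator A hA x) (commutator_le_range A hA x hgen)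
  refine ⟨?_, ?_, ?_, ?_⟩
  · intro a ha
    exact range_le_commutator A hA x ⟨⟨a, ha⟩, rfl⟩
  · intro c hc
    rw [← heq] at hc
    obtain ⟨a, rfl⟩ := hc
    exact ⟨a.1, a.2, rfl⟩
  · intro a ha b hb
    exact hom_prop A hA x ha hb
  · rw [← heq, ← ker_map A hA x,
      Subgroup.card_map_of_injective (Subgroup.subtype_injective A), ← Subgroup.index_ker, mul_comm]
    exact Subgroup.card_mul_index _

end Cfsg.Agent.S3866
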