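import Mathlib
import Cfsg.Statements.S3867
import Cfsg.Agent.Lib.Helper64.Basic
import Cfsg.Agent.Lib.Helper64.SylowQuot

set_option autoImplicit false
open Cfsg

namespace Cfsg.Agent.S3867

open Cfsg.Agent.Helper64 Subgroup

theorem exists_pow_mem {G : Type*} [Group G] {p : ℕ} (P : Sylow p G) (K : Subgroup G) [K.Normal]
    (d : G) (hd : d ∈ (P : Subgroup G) ⊔ K) : ∃ i : ℕ, d ^ p ^ i ∈ K := by
  set π := QuotientGroup.mk' K with hπ
  have h1 : π d ∈ (P : Subgroup G).map π := by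
    have : π d ∈ ((P : Subgroup G) ⊔ K).map π := mem_map_of_mem π hd
    rwa [Subgroup.map_sup, QuotientGroup.map_mk'_self, sup_bot_eq] at this
  have hp : IsPGroup p ((P : Subgroup G).map π) := P.2.map π
  obtain ⟨i, hi⟩ := hp ⟨π d, h1⟩
  refine ⟨i, ?_⟩
  have h2 : (π d) ^ p ^ i = 1 := by
    have := congrArg Subtype.val hi
    simpa using this
  rw [← map_pow, hπ, QuotientGroup.mk'_apply, QuotientGroup.eq_one_iff] at h2
  exact h2

theorem isPGroup_inf {G : Type*} [Group G] {p : ℕ} (P : Sylow p G) (M N : Subgroup G)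
    [M.Normal] [N.Normal] (hMN : M ⊓ N = ⊥) :
    IsPGroup p (((P : Subgroup G) ⊔ M) ⊓ ((P : Subgroup G) ⊔ N) : Subgroup G) := by
  intro d
  obtain ⟨i, hi⟩ := exists_pow_mem P M d.1 d.2.1
  obtain ⟨j, hj⟩ := exists_pow_mem P N d.1 d.2.2
  refine ⟨i + j, ?_⟩
  have h1 : d.1 ^ p ^ (i + j) ∈ M := by
    rw [pow_add, pow_mul]; exact M.pow_mem hi _
  have h2 : d.1 ^ p ^ (i + j) ∈ N := by
    rw [pow_add, mul_comm, pow_mul]; exact N.pow_mem hj _
  have h3 : d.1 ^ p ^ (i + j) ∈ M ⊓ N := ⟨h1, h2⟩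
  rw [hMN, mem_bot] at h3
  apply Subtype.ext
  simpa using h3

theorem key {G : Type*} [Group G] [Finite G] {p : ℕ} [Fact p.Prime] (P : Sylow p G)
    (M N : Subgroup G) [M.Normal] [hN : N.Normal] (hMN : M ⊓ N = ⊥) :
    (normalizer ((P : Subgroup G) : Set G) ⊔ N) ⊓ M ≤ normalizer ((P : Subgroup G) : Set G) := by
  rintro g ⟨hgN, hgM⟩
  apply mem_normalizer_of_smul_le
  have hD : ((P : Subgroup G) ⊔ M) ⊓ ((P : Subgroup G) ⊔ N) = (P : Subgroup G) :=
    P.3 (isPGroup_inf P M N hMN) (le_inf le_sup_left le_sup_left)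
  rw [← hD]
  have hgN' : g ∈ (↑(normalizer ((P : Subgroup G) : Set G) ⊔ N) : Set G) := hgN
  rw [mul_normal] at hgN'
  obtain ⟨c, hc, n, hn, rfl⟩ := hgN'
  intro y hy
  rw [mem_smul_sylow_iff] at hy
  set a := (c * n)⁻¹ * y * (c * n) with ha
  have hy' : y = (c * n) * a * (c * n)⁻¹ := by rw [ha]; group
  refine ⟨?_, ?_⟩
  · have : y = a * (a⁻¹ * (c * n) * a * (c * n)⁻¹) := by rw [hy']; group
    rw [this]
    apply mul_mem_sup hy
    have h1 : a⁻¹ * (c * n) * a ∈ M := by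
      have := ‹M.Normal›.conj_mem _ hgM a⁻¹
      simpa using this
    exact M.mul_mem h1 (M.inv_mem hgM)
  · have : y = (c * a * c⁻¹) * (c * (a⁻¹ * n * a * n⁻¹) * c⁻¹) := by rw [hy']; group
    rw [this]
    apply mul_mem_sup
    · exact (mem_normalizer_iff.mp hc a).mp hy
    · apply hN.conj_mem
      have h1 : a⁻¹ * n * a ∈ N := by
        have := hN.conj_mem _ hn a⁻¹
        simpa using this
      exact N.mul_mem h1 (N.inv_mem hn)

theorem result {G : Type*} [Group G] [Finite G] (p : ℕ) [Fact p.Prime] (M N : Subgroup G) [M.Normal] [N.Normal] (hM : M ≠ ⊥) (hN : N ≠ ⊥) (hMN : M ⊓ N = ⊥) : Nat.card (Sylow p G) * Nat.card (Sylow p (G ⧸ (M ⊔ N))) = Nat.card (Sylow p (G ⧸ M)) * Nat.card (Sylow p (G ⧸ N)) := by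
  obtain ⟨P⟩ : Nonempty (Sylow p G) := inferInstance
  set N₀ := normalizer ((P : Subgroup G) : Set G) with hN₀
  have e0 : Nat.card (Sylow p G) = N₀.index := Sylow.card_eq_index_normalizer P
  rw [card_sylow_quotient P (M ⊔ N), card_sylow_quotient P M, card_sylow_quotient P N, e0, ← hN₀]
  have e1 : N₀.index = (N₀ ⊓ M).relIndex M * (N₀ ⊔ M).index := by
    rw [inf_relIndex_eq_relIndex_sup N₀ M, relIndex_mul_index le_sup_left]
  have e2 : (N₀ ⊔ N).index = ((N₀ ⊔ N) ⊓ M).relIndex M * ((N₀ ⊔ N) ⊔ M).index := by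
    rw [inf_relIndex_eq_relIndex_sup (N₀ ⊔ N) M, relIndex_mul_index le_sup_left]
  have e3 : (N₀ ⊔ N) ⊓ M = N₀ ⊓ M := by
    apply le_antisymm
    · exact le_inf (key P M N hMN) inf_le_right
    · exact inf_le_inf_right M le_sup_left
  have e4 : (N₀ ⊔ N) ⊔ M = N₀ ⊔ (M ⊔ N) := by
    rw [sup_assoc, sup_comm N M]
  rw [e3, e4] at e2
  rw [e1, e2]
  ring

end Cfsg.Agent.S3867
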