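import Cfsg.Statements.S3869
import Mathlib
import Cfsg.Agent.Lib.Helper64.IrrAction
import Cfsg.Agent.Lib.Helper64.IndexP

set_option autoImplicit false
open Cfsg

namespace Cfsg.Agent.S3869

open Subgroup Cfsg.Agent.Helper64

/-- Let p and q be distinct primes and G a finite non-abelian group with a normal elementary abelian q-subgroup A that is a minimal normal subgroup of G and has index p. Then A has order q^e with e the multiplicative order of q modulo p, and G is minimal non-p-closed: its Sylow p-subgroups are not normal, while in every proper subgroup and in every proper quotient of G the Sylow p-subgroups are normal. -/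
theorem result {G : Type*} [Group G] [Finite G] {p q : ℕ} [Fact p.Prime] (hq : q.Prime) (hpq : q ≠ p)
    (hna : ¬ IsMulCommutative G) (A : Subgroup G) [A.Normal] (hA : Cfsg.IsElementaryAbelian q A) (hidx : A.index = p)
    (hmin : ∀ B : Subgroup G, B.Normal → B ≤ A → B = ⊥ ∨ B = A) :
    Nat.card ↥A = q ^ orderOf (q : ZMod p) ∧ ¬ Cfsg.IsPClosed p G ∧ (∀ H : Subgroup G, H ≠ ⊤ → Cfsg.IsPClosed p ↥H) ∧
      ∀ (N : Subgroup G) [N.Normal], N ≠ ⊥ → Cfsg.IsPClosed p (G ⧸ N) := by
  obtain ⟨hAc, hAq⟩ := hA
  have : Fact q.Prime := ⟨hq⟩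
  have hp : p.Prime := Fact.out
  have hidxp : A.index.Prime := hidx ▸ hp
  -- no element outside `A` centralizes `A`
  have L1 : ∀ x : G, x ∉ A → x ∉ centralizer (A : Set G) :=
    fun x hxA hxc => hna (comm_of_centralizing hidxp hxA hxc)
  have hAtop : A ≠ ⊤ := by
    intro h
    rw [h, Subgroup.index_top] at hidx
    exact hp.one_lt.ne hidx
  obtain ⟨x, hxA⟩ : ∃ x : G, x ∉ A := by
    by_contra hcon
    push Not at hcon
    exact hAtop (eq_top_iff.mpr fun g _ => hcon g)
  have hAbot : A ≠ ⊥ := by
    intro h
    apply L1 x hxA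
    rw [h]
    intro a ha
    rw [Subgroup.coe_bot, Set.mem_singleton_iff] at ha
    rw [ha, one_mul, mul_one]
  have hAle : A ≤ centralizer (A : Set G) := by
    intro a ha b hb
    have := hAc.is_comm.comm (⟨b, hb⟩ : A) ⟨a, ha⟩
    exact congrArg Subtype.val this
  have hAgrp : IsPGroup q A := by
    intro a
    refine ⟨1, ?_⟩
    rw [pow_one]
    apply Subtype.ext
    simpa using hAq a a.2
  have hqp : (q : ℕ) ≠ p := hpq
  refine ⟨?_, ?_, ?_, ?_⟩
  · -- the order of `A`
    have hxp : x ^ p ∈ A := by
      have h1 : ((x : G ⧸ A)) ^ Nat.card (G ⧸ A) = 1 := pow_card_eq_one'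
      rw [← Subgroup.index_eq_card, hidx, ← QuotientGroup.mk_pow, QuotientGroup.eq_one_iff] at h1
      exact h1
    refine card_of_irreducible_conj p q (Ne.symm hpq) A hAq hAbot x (hAle hxp) (L1 x hxA) ?_
    intro B hBA hB
    have hBn : B.Normal :=
      normal_of_le_abelian_of_mem_normalizer hidxp hBA hxA (mem_normalizer_of_conj_mem B x hB)
    exact hmin B hBn hBA
  · -- `G` is not `p`-closed
    intro hcl
    obtain ⟨P⟩ : Nonempty (Sylow p G) := inferInstance
    have hPn : (P : Subgroup G).Normal := hcl P
    have hdvd : p ∣ Nat.card G := by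
      rw [← hidx]
      exact Subgroup.index_dvd_card A
    have hPbot : (P : Subgroup G) ≠ ⊥ := Sylow.ne_bot_of_dvd_card P hdvd
    obtain ⟨⟨y, hyP⟩, hy1⟩ := Subgroup.ne_bot_iff_exists_ne_one.mp hPbot
    have hy1' : y ≠ 1 := fun h => hy1 (Subtype.ext h)
    have hdis : Disjoint A (P : Subgroup G) := IsPGroup.disjoint_of_ne q p hqp _ _ hAgrp P.isPGroup'
    have hyA : y ∉ A := by
      intro hyA
      exact hy1' (Subgroup.disjoint_def.mp hdis hyA hyP)
    apply L1 y hyA
    intro a ha
    exact (Subgroup.commute_of_normal_of_disjoint A (P : Subgroup G) inferInstance hPn hdis a y ha hyP).eq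
  · -- proper subgroups are `p`-closed
    intro H hH P
    by_cases hHA : H ≤ A
    · -- `H` is a `q`-group
      have hHgrp : IsPGroup q H := by
        intro h
        refine ⟨1, ?_⟩
        rw [pow_one]
        apply Subtype.ext
        simpa using hAq h (hHA h.2)
      have hdis : Disjoint (P : Subgroup H) (P : Subgroup H) :=
        IsPGroup.disjoint_of_ne p q (Ne.symm hqp) _ _ P.isPGroup' (hHgrp.to_subgroup (P : Subgroup H))
      rw [disjoint_self] at hdis
      rw [hdis]
      infer_instance
    · obtain ⟨y, hyH, hyA⟩ := Set.not_subset.mp hHA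
      have hn : (H ⊓ A).Normal :=
        normal_of_le_abelian_of_mem_normalizer hidxp inf_le_right hyA
          (le_normalizer_inf_normal H A hyH)
      rcases hmin (H ⊓ A) hn inf_le_right with h | h
      · have hcard : Nat.card H ∣ p := by
          have h1 : (A ⊓ H).relIndex H = A.relIndex H := Subgroup.inf_relIndex_right A H
          rw [inf_comm, h, Subgroup.relIndex_bot_left] at h1
          rw [h1, ← hidx]
          exact Subgroup.relIndex_dvd_index_of_normal A H
        exact normal_of_card_dvd_prime hcard _
      · exfalso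
        apply hH
        have hlt : A < H := by
          refine lt_of_le_of_ne (by rw [← h]; exact inf_le_left) ?_
          intro hAH
          exact hyA (hAH ▸ hyH)
        exact eq_top_of_prime_index_of_lt hidxp hlt
  · -- proper quotients are `p`-closed
    intro N hN hNbot P
    have hn : (N ⊓ A).Normal := inferInstance
    rcases hmin (N ⊓ A) hn inf_le_right with h | h
    · exfalso
      obtain ⟨⟨y, hyN⟩, hy1⟩ := Subgroup.ne_bot_iff_exists_ne_one.mp hNbot
      have hy1' : y ≠ 1 := fun h => hy1 (Subtype.ext h)
      have hdis : Disjoint A N := by rw [disjoint_iff, inf_comm]; exact h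
      have hyA : y ∉ A := by
        intro hyA
        exact hy1' (Subgroup.disjoint_def.mp hdis hyA hyN)
      apply L1 y hyA
      intro a ha
      exact (Subgroup.commute_of_normal_of_disjoint A N inferInstance hN hdis a y ha hyN).eq
    · have hAN : A ≤ N := by rw [← h]; exact inf_le_left
      have hcard : Nat.card (G ⧸ N) ∣ p := by
        rw [← Subgroup.index_eq_card, ← hidx]
        exact Subgroup.index_dvd_of_le hAN
      exact normal_of_card_dvd_prime hcard _

end Cfsg.Agent.S3869
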