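import Cfsg.Statements.S3870
import Cfsg.Agent.Lib.Helper64.TI

set_option autoImplicit false
open Cfsg

namespace Cfsg.Agent.S3870

open Cfsg.Agent.Helper64

theorem result {G : Type*} [Group G] [Finite G] [IsSimpleGroup G] {p : ℕ} [Fact p.Prime]
    (hnc : ¬ Cfsg.IsPClosed p G) (hsub : ∀ H : Subgroup G, H ≠ ⊤ → Cfsg.IsPClosed p ↥H) :
    (∀ P Q : Sylow p G, P ≠ Q → (P : Subgroup G) ⊓ (Q : Subgroup G) = ⊥) ∧
      ∀ (P : Sylow p G) (R : Subgroup G), R ≤ P → R ≠ ⊥ →
        Subgroup.normalizer (R : Set G) ≤ Subgroup.normalizer ((P : Subgroup G) : Set G) := by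
  -- `G` is not a `p`-group
  have hnotp : ¬ IsPGroup p G := by
    intro hp
    apply hnc
    intro P
    have : (P : Subgroup G) = ⊤ := by
      have := P.3 (Q := ⊤) (IsPGroup.to_le (H := (⊤ : Subgroup G)) (K := ⊤)
        ((IsPGroup.of_equiv hp Subgroup.topEquiv.symm)) le_rfl) le_top
      exact this.symm
    rw [this]; infer_instance
  have hNcl : ∀ D : Subgroup G, D ≠ ⊥ → IsPGroup p D →
      ∀ S : Sylow p (Subgroup.normalizer (D : Set G)),
        (S : Subgroup (Subgroup.normalizer (D : Set G))).Normal := by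
    intro D hD hDp
    apply hsub
    intro htop
    have hn : D.Normal := Subgroup.normalizer_eq_top_iff.mp htop
    rcases hn.eq_bot_or_eq_top with h | h
    · exact hD h
    · apply hnotp
      rw [h] at hDp
      exact IsPGroup.of_equiv hDp Subgroup.topEquiv
  have hTI := sylow_inf_eq_bot_of_normalizers_pclosed hNcl
  refine ⟨hTI, ?_⟩
  intro P R hRP hR g hg
  refine (Sylow.smul_eq_iff_mem_normalizer (g := g) (P := P)).mp ?_
  by_contra hne
  have h0 := hTI (g • P) P hne
  apply hR
  rw [eq_bot_iff, ← h0]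
  refine le_inf ?_ hRP
  intro x hx
  rw [Sylow.coe_subgroup_smul, Subgroup.mem_pointwise_smul_iff_inv_smul_mem]
  have hx' : g⁻¹ * x * g ∈ R := by
    rw [Subgroup.mem_normalizer_iff] at hg
    rw [hg]
    simpa [mul_assoc] using hx
  have := hRP hx'
  simpa [MulAut.smul_def, MulAut.conj_apply, mul_assoc] using this

end Cfsg.Agent.S3870
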