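import Mathlib
import Cfsg.Statements.S3872
import Cfsg.Agent.Lib.Helper64.HallPetrescu
import Cfsg.Agent.S4225
import Cfsg.Agent.Lib.Helper24.NonCyclic
import Cfsg.Agent.Lib.Helper53.MaxClass

set_option autoImplicit false
open Cfsg

namespace Cfsg.Agent.S3872

/-- Say that a finite group is p-exponent closed when its elements of order dividing p form a subgroup. Let G be a finite p-group that is not p-exponent closed, but all of whose proper subgroups and proper quotients are. Then G is generated by two elements, has nilpotency class at least p, has exponent p², has cyclic center, and has order at least p^(p+1). -/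
theorem result {G : Type*} [Group G] [Finite G] {p : ℕ} [Fact p.Prime] (hG : IsPGroup p G)
    (hnc : ¬ (∃ H : Subgroup G, (H : Set G) = {g : G | g ^ p = 1})) (hsub : ∀ K : Subgroup G, K ≠ ⊤ → (∃ H : Subgroup ↥K, (H : Set ↥K) = {g : ↥K | g ^ p = 1}))
    (hquo : ∀ (N : Subgroup G) [N.Normal], N ≠ ⊥ → (∃ H : Subgroup (G ⧸ N), (H : Set (G ⧸ N)) = {g : (G ⧸ N) | g ^ p = 1})) :
    (∃ x y : G, Subgroup.closure ({x, y} : Set G) = ⊤) ∧ (⊤ : Subgroup G).lowerCentralSeries (p - 1) ≠ ⊥ ∧
      Monoid.exponent G = p ^ 2 ∧ IsCyclic ↥(Subgroup.center G) ∧ p ^ (p + 1) ≤ Nat.card G := by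
  classical
  have hp : p.Prime := Fact.out
  -- (a) a bad pair
  obtain ⟨x, y, hx, hy, hxy⟩ : ∃ x y : G, x ^ p = 1 ∧ y ^ p = 1 ∧ (x * y) ^ p ≠ 1 := by
    by_contra hcon
    push Not at hcon
    apply hnc
    exact ⟨{ carrier := {g | g ^ p = 1}
             mul_mem' := fun {a b} ha hb => hcon a b ha hb
             one_mem' := one_pow p
             inv_mem' := fun {a} ha => by
               show (a⁻¹) ^ p = 1
               rw [inv_pow, show a ^ p = 1 from ha, inv_one] }, rfl⟩
  -- (b) they generate
  have htop : Subgroup.closure ({x, y} : Set G) = ⊤ := by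
    by_contra hne
    obtain ⟨H, hH⟩ := hsub _ hne
    have hxK : x ∈ Subgroup.closure ({x, y} : Set G) := Subgroup.subset_closure (by simp)
    have hyK : y ∈ Subgroup.closure ({x, y} : Set G) := Subgroup.subset_closure (by simp)
    have hx' : (⟨x, hxK⟩ : Subgroup.closure ({x, y} : Set G)) ∈ H := by
      rw [← SetLike.mem_coe, hH]
      show (⟨x, hxK⟩ : Subgroup.closure ({x, y} : Set G)) ^ p = 1
      apply Subtype.ext
      simpa using hx
    have hy' : (⟨y, hyK⟩ : Subgroup.closure ({x, y} : Set G)) ∈ H := by
      rw [← SetLike.mem_coe, hH]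
      show (⟨y, hyK⟩ : Subgroup.closure ({x, y} : Set G)) ^ p = 1
      apply Subtype.ext
      simpa using hy
    have h1 := H.mul_mem hx' hy'
    rw [← SetLike.mem_coe, hH] at h1
    have h2 : ((⟨x, hxK⟩ * ⟨y, hyK⟩ : Subgroup.closure ({x, y} : Set G))) ^ p = 1 := h1
    apply hxy
    have h3 := congrArg Subtype.val h2
    simpa using h3
  -- (c) proper quotients have exponent p
  have hpowN : ∀ (N : Subgroup G) [N.Normal], N ≠ ⊥ → ∀ g : G, g ^ p ∈ N := by
    intro N _ hN g
    obtain ⟨H, hH⟩ := hquo N hN
    have hxH : (QuotientGroup.mk x : G ⧸ N) ∈ H := by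
      rw [← SetLike.mem_coe, hH]
      show (QuotientGroup.mk x : G ⧸ N) ^ p = 1
      rw [← QuotientGroup.mk_pow, hx]; rfl
    have hyH : (QuotientGroup.mk y : G ⧸ N) ∈ H := by
      rw [← SetLike.mem_coe, hH]
      show (QuotientGroup.mk y : G ⧸ N) ^ p = 1
      rw [← QuotientGroup.mk_pow, hy]; rfl
    have hHtop : H = ⊤ := by
      rw [eq_top_iff]
      have h1 : (⊤ : Subgroup (G ⧸ N)) =
          (Subgroup.closure ({x, y} : Set G)).map (QuotientGroup.mk' N) := by
        rw [htop, ← MonoidHom.range_eq_map,
          MonoidHom.range_eq_top.2 (QuotientGroup.mk'_surjective N)]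
      rw [h1, MonoidHom.map_closure, Subgroup.closure_le]
      rintro _ ⟨z, hz, rfl⟩
      rcases hz with rfl | hz
      · exact hxH
      · rw [Set.mem_singleton_iff] at hz
        subst hz
        exact hyH
    have hg : (QuotientGroup.mk g : G ⧸ N) ∈ H := hHtop ▸ Subgroup.mem_top _
    rw [← SetLike.mem_coe, hH] at hg
    have hg' : (QuotientGroup.mk g : G ⧸ N) ^ p = 1 := hg
    rw [← QuotientGroup.mk_pow, QuotientGroup.eq_one_iff] at hg'
    exact hg'
  -- central subgroups generated by a central element are normal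
  have hnormal : ∀ z : G, z ∈ Subgroup.center G → (Subgroup.zpowers z).Normal := by
    intro z hz
    refine ⟨fun n hn g => ?_⟩
    obtain ⟨k, rfl⟩ := hn
    have hc : Commute g z := (Subgroup.mem_center_iff.1 hz g)
    have hc' : Commute g (z ^ k) := hc.zpow_right k
    have : g * z ^ k * g⁻¹ = z ^ k := by rw [hc'.eq, mul_assoc, mul_inv_cancel, mul_one]
    rw [this]
    exact ⟨k, rfl⟩
  set w : G := (x * y) ^ p with hw
  -- every nontrivial central element of order p generates the group of `w`
  have hcentral : ∀ z : G, z ∈ Subgroup.center G → orderOf z = p → z ∈ Subgroup.zpowers w := by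
    intro z hz hoz
    haveI := hnormal z hz
    have hne : Subgroup.zpowers z ≠ ⊥ := by
      intro h
      rw [Subgroup.zpowers_eq_bot] at h
      rw [h, orderOf_one] at hoz
      exact hp.one_lt.ne hoz
    have hwz : w ∈ Subgroup.zpowers z := hpowN _ hne (x * y)
    have hle : Subgroup.zpowers w ≤ Subgroup.zpowers z := by
      rw [Subgroup.zpowers_le]; exact hwz
    have hcard : Nat.card (Subgroup.zpowers z) ≤ Nat.card (Subgroup.zpowers w) := by
      rw [Nat.card_zpowers, Nat.card_zpowers, hoz]
      have h1 : orderOf w ∣ p := by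
        have := Subgroup.card_dvd_of_le hle
        rwa [Nat.card_zpowers, Nat.card_zpowers, hoz] at this
      rcases (Nat.dvd_prime hp).1 h1 with h2 | h2
      · exfalso; exact hxy (orderOf_eq_one_iff.1 h2)
      · rw [h2]
    have := Subgroup.eq_of_le_of_card_ge hle hcard
    rw [this]
    exact Subgroup.mem_zpowers z
  have hnt : Nontrivial G := ⟨⟨w, 1, hxy⟩⟩
  have hZnt : Nontrivial (Subgroup.center G) := hG.center_nontrivial
  refine ⟨⟨x, y, htop⟩, ?_, ?_, ?_, ?_⟩
  · -- class at least p
    intro hcl
    have hreg := Cfsg.Agent.Helper64.isRegularPGroup_of_class_lt hG hcl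
    obtain ⟨H, -, hH⟩ := Cfsg.Agent.S4225.result hreg 1
    apply hnc
    refine ⟨H, ?_⟩
    rw [hH]
    simp only [pow_one]
  · -- exponent p^2
    obtain ⟨z, hz⟩ : ∃ z : Subgroup.center G, orderOf z = p := by
      have hdvd : p ∣ Nat.card (Subgroup.center G) := by
        obtain ⟨k, hk⟩ := IsPGroup.iff_card.mp (hG.to_subgroup (Subgroup.center G))
        have hk0 : k ≠ 0 := by
          rintro rfl
          rw [pow_zero] at hk
          have := Finite.one_lt_card_iff_nontrivial.2 hZnt
          omega
        rw [hk]; exact dvd_pow_self p hk0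
      exact exists_prime_orderOf_dvd_card' p hdvd
    have hz' : orderOf (z : G) = p := by rw [Subgroup.orderOf_coe]; exact hz
    haveI := hnormal (z : G) z.2
    have hne : Subgroup.zpowers (z : G) ≠ ⊥ := by
      intro h
      rw [Subgroup.zpowers_eq_bot] at h
      rw [h, orderOf_one] at hz'
      exact hp.one_lt.ne hz'
    have hall : ∀ g : G, g ^ (p ^ 2) = 1 := by
      intro g
      obtain ⟨k, hk⟩ := hpowN _ hne g
      rw [pow_two, pow_mul, ← hk, ← zpow_natCast, ← zpow_mul, mul_comm, zpow_mul, zpow_natCast,
        ← hz', pow_orderOf_eq_one, one_zpow]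
    have hdvd : Monoid.exponent G ∣ p ^ 2 := Monoid.exponent_dvd_of_forall_pow_eq_one hall
    obtain ⟨k, hk2, hk⟩ := (Nat.dvd_prime_pow hp).1 hdvd
    rcases Nat.lt_or_ge k 2 with hlt | hge
    · exfalso
      apply hxy
      have h1 : Monoid.exponent G ∣ p := by
        rw [hk]
        interval_cases k
        · simp
        · simp
      obtain ⟨m, hm⟩ := h1
      rw [hw, hm, pow_mul, Monoid.pow_exponent_eq_one, one_pow]
    · have : k = 2 := le_antisymm hk2 hge
      rw [hk, this]
  · -- cyclic center
    by_contra hcyc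
    obtain ⟨q, B, hq, hBA, hBq, hBcard⟩ :=
      Cfsg.Agent.Helper24.exists_elementary_abelian_le_of_not_isCyclic (Subgroup.center G) hcyc
    -- q = p
    have hBnt : ∃ b ∈ B, b ≠ 1 := by
      by_contra hcon
      push Not at hcon
      have : B = ⊥ := by
        rw [eq_bot_iff]; intro b hb; rw [Subgroup.mem_bot]; exact hcon b hb
      rw [this, Subgroup.card_bot] at hBcard
      have := hq.two_le
      nlinarith
    obtain ⟨b, hbB, hb1⟩ := hBnt
    have hob : orderOf b = q := by
      have h1 : orderOf b ∣ q := orderOf_dvd_of_pow_eq_one (hBq b hbB)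
      rcases (Nat.dvd_prime hq).1 h1 with h2 | h2
      · exfalso; exact hb1 (orderOf_eq_one_iff.1 h2)
      · exact h2
    have hqp : q = p := by
      obtain ⟨k, hk⟩ := IsPGroup.iff_orderOf.1 hG b
      rw [hob] at hk
      have : p ∣ q := by
        rcases k with _ | k
        · rw [pow_zero] at hk; exact absurd hk hq.one_lt.ne'
        · rw [hk]; exact dvd_pow_self p (Nat.succ_ne_zero k)
      exact ((Nat.prime_dvd_prime_iff_eq hp hq).1 this).symm
    subst hqp
    have hBle : B ≤ Subgroup.zpowers w := by
      intro c hc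
      by_cases hc1 : c = 1
      · rw [hc1]; exact one_mem _
      · have hoc : orderOf c = q := by
          have h1 : orderOf c ∣ q := orderOf_dvd_of_pow_eq_one (hBq c hc)
          rcases (Nat.dvd_prime hq).1 h1 with h2 | h2
          · exfalso; exact hc1 (orderOf_eq_one_iff.1 h2)
          · exact h2
        exact hcentral c (hBA hc) hoc
    have h1 := Subgroup.card_le_of_le hBle
    have h2 : Nat.card (Subgroup.zpowers w) ≤ q := by
      rw [Nat.card_zpowers]
      have hwq : w ^ q = 1 := by
        have := hcentral b (hBA hbB) hob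
        -- w generates a group of order q
        have hle : Subgroup.zpowers b ≤ Subgroup.zpowers w := by
          rw [Subgroup.zpowers_le]; exact this
        haveI := hnormal b (hBA hbB)
        have hne : Subgroup.zpowers b ≠ ⊥ := by
          intro h
          rw [Subgroup.zpowers_eq_bot] at h
          exact hb1 h
        obtain ⟨k, hk⟩ := hpowN _ hne (x * y)
        rw [hw, ← hk, ← zpow_natCast, ← zpow_mul, mul_comm, zpow_mul, zpow_natCast, ← hob,
          pow_orderOf_eq_one, one_zpow]
      exact Nat.le_of_dvd hq.pos (orderOf_dvd_of_pow_eq_one hwq)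
    have h3 : q ^ 2 ≤ q := hBcard.trans (h1.trans h2)
    have := hq.two_le
    nlinarith
  · -- order
    obtain ⟨r, hr⟩ := IsPGroup.iff_card.mp hG
    haveI : Group.IsNilpotent G := hG.isNilpotent
    have hclass : ¬ Group.nilpotencyClass G ≤ p - 1 := by
      intro h
      have hbot := Subgroup.lowerCentralSeries_eq_bot_iff_nilpotencyClass_le.2 h
      have hreg := Cfsg.Agent.Helper64.isRegularPGroup_of_class_lt hG hbot
      obtain ⟨H, -, hH⟩ := Cfsg.Agent.S4225.result hreg 1
      apply hnc
      refine ⟨H, ?_⟩
      rw [hH]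
      simp only [pow_one]
    have hr2 : 2 ≤ r := by
      by_contra hlt
      push Not at hlt
      -- order ≤ p: cyclic hence class ≤ 1
      apply hclass
      have hcyc : IsCyclic G := by
        interval_cases r
        · rw [pow_zero] at hr
          haveI : Subsingleton G := (Nat.card_eq_one_iff_unique.1 hr).1
          infer_instance
        · rw [pow_one] at hr
          exact isCyclic_of_prime_card hr
      have hcomm : ∀ a b : G, a * b = b * a := by
        intro a b
        obtain ⟨g, hg⟩ := hcyc.exists_generator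
        obtain ⟨i, rfl⟩ := Subgroup.mem_zpowers_iff.1 (hg a)
        obtain ⟨j, rfl⟩ := Subgroup.mem_zpowers_iff.1 (hg b)
        rw [← zpow_add, ← zpow_add, add_comm]
      have h1 : (⊤ : Subgroup G).lowerCentralSeries 1 = ⊥ := by
        rw [Subgroup.top_lowerCentralSeries_one, eq_bot_iff, commutator_def,
          Subgroup.commutator_le]
        intro a _ b _
        rw [Subgroup.mem_bot, commutatorElement_eq_one_iff_commute]
        exact hcomm a b
      have h2 : (⊤ : Subgroup G).lowerCentralSeries (p - 1) = ⊥ := by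
        rw [eq_bot_iff, ← h1]
        exact (Subgroup.lowerCentralSeries_antitone ⊤) (by have := hp.two_le; omega)
      exact Subgroup.lowerCentralSeries_eq_bot_iff_nilpotencyClass_le.1 h2
    have h1 := Cfsg.Agent.Helper53.nilpotencyClass_add_one_le (p := p) r G hr2 hr
    rw [hr]
    apply Nat.pow_le_pow_right hp.pos
    omega

end Cfsg.Agent.S3872
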