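import Mathlib
import Cfsg.Statements.S3878

set_option autoImplicit false
open Cfsg

namespace Cfsg.Agent.S3878

/-- A `p`-element can be conjugated into any subgroup of index prime to `p`. -/
lemma exists_conj_mem {G : Type*} [Group G] [Finite G] (H : Subgroup G) (p : ℕ) [Fact p.Prime]
    (hp : ¬ p ∣ H.index) (x : G) (hx : IsPGroup p (Subgroup.zpowers x)) :
    ∃ g : G, g⁻¹ * x * g ∈ H := by
  obtain ⟨c, hc⟩ := hx.nonempty_fixed_point_of_prime_not_dvd_card (G ⧸ H)
    (by rwa [← Subgroup.index_eq_card])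
  obtain ⟨g, rfl⟩ := QuotientGroup.mk_surjective c
  refine ⟨g, ?_⟩
  have h1 := hc ⟨x, Subgroup.mem_zpowers x⟩
  have h2 : ((x * g : G) : G ⧸ H) = (g : G ⧸ H) := h1
  rw [QuotientGroup.eq] at h2
  have h3 := H.inv_mem h2
  simpa [mul_assoc] using h3

lemma isPiSubgroup_sylow {G : Type*} [Group G] [Finite G] (π : Set ℕ) (p : ℕ) [Fact p.Prime]
    (hp : p ∈ π) (P : Sylow p G) : IsPiSubgroup π (P : Subgroup G) := by
  intro q hq hqd
  obtain ⟨n, hn⟩ := (IsPGroup.iff_card.mp P.isPGroup')
  rw [hn] at hqd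
  have := (Nat.prime_dvd_prime_iff_eq hq (Fact.out : p.Prime)).mp (hq.dvd_of_dvd_pow hqd)
  rwa [this]

/-- For finite groups, `D_π` implies `E_π`. -/
lemma isEPiGroup_of_isDPiGroup {G : Type*} [Group G] [Finite G] (π : Set ℕ)
    (h : IsDPiGroup π G) : IsEPiGroup π G := by
  have hbot : IsPiSubgroup π (⊥ : Subgroup G) := by
    intro p hp hpd
    simp at hpd
    exact absurd hpd hp.one_lt.ne'
  obtain ⟨M, -, hM⟩ := Finite.exists_le_maximal (p := IsPiSubgroup π) hbot
  refine ⟨M, hM.prop, ?_⟩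
  intro p hp hpπ hpd
  have : Fact p.Prime := ⟨hp⟩
  obtain ⟨P⟩ : Nonempty (Sylow p G) := inferInstance
  obtain ⟨M', hPM', hM'⟩ := Finite.exists_le_maximal (p := IsPiSubgroup π)
    (isPiSubgroup_sylow π p hpπ P)
  obtain ⟨g, hg⟩ := h M M' hM hM'
  have hidx : M'.index = M.index := by
    rw [hg]
    exact Subgroup.index_map_equiv M (MulAut.conj g)
  have h1 : M'.index ∣ (P : Subgroup G).index := Subgroup.index_dvd_of_le hPM'
  have h2 : ¬ p ∣ (P : Subgroup G).index := P.not_dvd_index
  exact h2 (dvd_trans (hidx ▸ hpd) h1)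


lemma isPiSubgroup_iff_isPGroup {G : Type*} [Group G] [Finite G] (π : Set ℕ) (p : ℕ)
    (hp : p.Prime) (hpπ : p ∈ π) (hone : ∀ q : ℕ, q.Prime → q ∈ π → q = p) (K : Subgroup G) :
    IsPiSubgroup π K ↔ IsPGroup p K := by
  have : Fact p.Prime := ⟨hp⟩
  constructor
  · intro h
    have h1 : Nat.card K = p ^ (Nat.card K).primeFactorsList.length :=
      Nat.eq_prime_pow_of_unique_prime_dvd Nat.card_pos.ne'
        (fun {d} hd hdd => hone d hd (h d hd hdd))
    exact IsPGroup.of_card h1
  · intro h q hq hqd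
    obtain ⟨n, hn⟩ := IsPGroup.iff_card.mp h
    rw [hn] at hqd
    have := (Nat.prime_dvd_prime_iff_eq hq hp).mp (hq.dvd_of_dvd_pow hqd)
    rwa [this]

lemma conj_one_map {G : Type*} [Group G] (H : Subgroup G) :
    H.map (MulAut.conj (1 : G)).toMonoidHom = H := by
  ext x
  simp

/-- The easy direction for `D_π`. -/
lemma easy_D (π : Set ℕ)
    (h : (∀ p q : ℕ, p.Prime → q.Prime → p ∈ π → q ∈ π → p = q) ∨ ∀ p : ℕ, p.Prime → p ∈ π)
    (G : Type) [Group G] [Finite G] : IsDPiGroup π G := by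
  intro H K hH hK
  rcases h with h | h
  · by_cases h0 : ∃ p : ℕ, p.Prime ∧ p ∈ π
    · obtain ⟨p, hp, hpπ⟩ := h0
      have : Fact p.Prime := ⟨hp⟩
      have hone : ∀ q : ℕ, q.Prime → q ∈ π → q = p := fun q hq hqπ => h q p hq hp hqπ hpπ
      have key := isPiSubgroup_iff_isPGroup (G := G) π p hp hpπ hone
      let P : Sylow p G := ⟨H, (key H).mp hH.prop, fun {Q} hQ hle =>
        le_antisymm (hH.2 ((key Q).mpr hQ) hle) hle⟩
      let Q : Sylow p G := ⟨K, (key K).mp hK.prop, fun {Q} hQ hle =>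
        le_antisymm (hK.2 ((key Q).mpr hQ) hle) hle⟩
      obtain ⟨g, hg⟩ := MulAction.exists_smul_eq G P Q
      refine ⟨g, ?_⟩
      have h1 : (Q : Subgroup G) = ((g • P : Sylow p G) : Subgroup G) := by rw [hg]
      exact h1
    · have hbot : ∀ L : Subgroup G, IsPiSubgroup π L → L = ⊥ := by
        intro L hL
        rw [← Subgroup.card_eq_one]
        by_contra hne
        obtain ⟨q, hq, hqd⟩ := Nat.exists_prime_and_dvd hne
        exact h0 ⟨q, hq, hL q hq hqd⟩
      refine ⟨1, ?_⟩
      rw [conj_one_map, hbot H hH.prop, hbot K hK.prop]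
  · have htop : IsPiSubgroup π (⊤ : Subgroup G) := fun p hp _ => h p hp
    have hH' : H = ⊤ := top_le_iff.mp (hH.2 htop le_top)
    have hK' : K = ⊤ := top_le_iff.mp (hK.2 htop le_top)
    refine ⟨1, ?_⟩
    rw [conj_one_map, hH', hK']


lemma card_mul_index_perm {n : ℕ} (H : Subgroup (Equiv.Perm (Fin n))) :
    Nat.card H * H.index = n.factorial := by
  rw [Subgroup.card_mul_index, Nat.card_perm, Nat.card_eq_fintype_card, Fintype.card_fin]

/-- If `2, q ∈ π` and some prime `r < q` is not in `π`, then `S_q` has no Hall `π`-subgroup. -/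
lemma no_hall_symm_swap (π : Set ℕ) (q r : ℕ) (hq : q.Prime) (hr : r.Prime) (h2 : 2 ∈ π)
    (hqπ : q ∈ π) (hrπ : r ∉ π) (hrq : r < q) : ¬ IsEPiGroup π (Equiv.Perm (Fin q)) := by
  rintro ⟨H, hH1, hH2⟩
  classical
  have hq2 : 2 ≤ q := hq.two_le
  have : Fact (Nat.Prime 2) := ⟨Nat.prime_two⟩
  let a : Fin q := ⟨0, by omega⟩
  let b : Fin q := ⟨1, by omega⟩
  have hab : a ≠ b := by
    intro h
    have := congrArg Fin.val h
    simp [a, b] at this
  let τ : Equiv.Perm (Fin q) := Equiv.swap a b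
  have hτ : τ.IsSwap := ⟨a, b, hab, rfl⟩
  have hτp : IsPGroup 2 (Subgroup.zpowers τ) := by
    apply IsPGroup.of_card (n := 1)
    rw [Nat.card_zpowers, hτ.orderOf, pow_one]
  obtain ⟨g, hg⟩ := exists_conj_mem H 2 (hH2 2 Nat.prime_two h2) τ hτp
  have hswap : (g⁻¹ * τ * g).IsSwap := by
    rw [← Equiv.Perm.card_support_eq_two]
    have h := Equiv.Perm.card_support_conj (σ := g⁻¹) (τ := τ)
    rw [inv_inv] at h
    rw [h, Equiv.Perm.card_support_eq_two]
    exact hτ
  have hcard := card_mul_index_perm H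
  have hqd : q ∣ Nat.card H := by
    have h1 : q ∣ Nat.card H * H.index := by
      rw [hcard]
      exact Nat.dvd_factorial hq.pos le_rfl
    rcases (Nat.Prime.dvd_mul hq).mp h1 with h | h
    · exact h
    · exact absurd h (hH2 q hq hqπ)
  have htop : H = ⊤ := by
    apply Equiv.Perm.subgroup_eq_top_of_swap_mem (τ := g⁻¹ * τ * g)
    · rw [Fintype.card_fin]; exact hq
    · rw [Fintype.card_fin, ← Nat.card_eq_fintype_card]; exact hqd
    · exact hg
    · exact hswap
  have hrd : r ∣ Nat.card H := by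
    rw [htop, Subgroup.card_top, Nat.card_perm, Nat.card_eq_fintype_card, Fintype.card_fin]
    exact Nat.dvd_factorial hr.pos hrq.le
  exact hrπ (hH1 r hr hrd)


/-- If `π` consists exactly of the primes below the prime `r ≥ 5`, then `A_{r+1}` has no
Hall `π`-subgroup. -/
lemma no_hall_alt (π : Set ℕ) (r : ℕ) (hr : r.Prime) (hr5 : 5 ≤ r)
    (hlt : ∀ p : ℕ, p.Prime → p < r → p ∈ π) (hrπ : r ∉ π) :
    ¬ IsEPiGroup π (alternatingGroup (Fin (r + 1))) := by
  rintro ⟨H, hH1, hH2⟩
  have hsimple : IsSimpleGroup (alternatingGroup (Fin (r + 1))) :=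
    alternatingGroup.isSimpleGroup (by simp; omega)
  have : Nontrivial (Fin (r + 1)) := Fin.nontrivial_iff_two_le.mpr (by omega)
  have hcardG : 2 * Nat.card (alternatingGroup (Fin (r + 1))) = (r + 1).factorial := by
    rw [two_mul_nat_card_alternatingGroup, Nat.card_perm, Nat.card_eq_fintype_card,
      Fintype.card_fin]
  -- every prime divisor of the index is at least `r`
  have hidxp : ∀ p : ℕ, p.Prime → p ∣ H.index → ¬ p < r := fun p hp hpd hpr =>
    hH2 p hp (hlt p hp hpr) hpd
  have hrodd : Odd r := hr.odd_of_ne_two (by omega)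
  have hidx : H.index ∣ r := by
    have h1 : H.index ∣ (r + 1).factorial := by
      refine (H.index_dvd_card).trans ⟨2, ?_⟩
      rw [← hcardG]; ring
    obtain ⟨k, rfl⟩ : ∃ k, r = k + 1 := ⟨r - 1, by omega⟩
    have hfac : (k + 1 + 1).factorial = (k + 1) * ((k + 1 + 1) * k.factorial) := by
      rw [Nat.factorial_succ, Nat.factorial_succ]; ring
    rw [hfac] at h1
    apply Nat.Coprime.dvd_of_dvd_mul_right _ h1
    apply Nat.Coprime.mul_right
    · apply Nat.Coprime.symm
      rw [Nat.coprime_comm]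
      by_contra hnc
      obtain ⟨p, hp, hp1, hp2⟩ := Nat.Prime.not_coprime_iff_dvd.mp hnc
      apply hidxp p hp hp1
      obtain ⟨c, hc⟩ := hp2
      have hc2 : 2 ≤ c := by
        by_contra hc2
        have hc1 : c = 1 := by
          rcases Nat.lt_or_ge c 1 with h | h
          · have : c = 0 := by omega
            subst this; omega
          · omega
        subst hc1
        rw [mul_one] at hc
        -- `p = k + 2` is even and prime, so `p = 2`
        have heven : Even (k + 1 + 1) := by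
          have := hrodd.add_one
          simpa using this
        rw [hc] at heven
        have := (Nat.Prime.even_iff hp).mp heven
        omega
      have : p * 2 ≤ k + 1 + 1 := by
        rw [hc]; exact Nat.mul_le_mul_left p hc2
      omega
    · by_contra hnc
      obtain ⟨p, hp, hp1, hp2⟩ := Nat.Prime.not_coprime_iff_dvd.mp hnc
      apply hidxp p hp hp1
      have := (Nat.Prime.dvd_factorial hp).mp hp2
      omega
  have hrd : r ∣ Nat.card (alternatingGroup (Fin (r + 1))) := by
    have h1 : r ∣ 2 * Nat.card (alternatingGroup (Fin (r + 1))) := by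
      rw [hcardG]
      exact Nat.dvd_factorial hr.pos (by omega)
    rcases (Nat.Prime.dvd_mul hr).mp h1 with h | h
    · have := Nat.le_of_dvd (by norm_num) h
      omega
    · exact h
  have hnc : H.normalCore = ⊥ ∨ H.normalCore = ⊤ := Subgroup.Normal.eq_bot_or_eq_top (H := H.normalCore) inferInstance
  rcases hnc with hbot | htop
  · -- the coset action is faithful
    have hinj : Function.Injective
        (MulAction.toPermHom (alternatingGroup (Fin (r + 1)))
          ((alternatingGroup (Fin (r + 1))) ⧸ H)) := by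
      rw [← MonoidHom.ker_eq_bot_iff, ← Subgroup.normalCore_eq_ker, hbot]
    have h1 := Nat.card_le_card_of_injective _ hinj
    rw [Nat.card_perm, ← Subgroup.index_eq_card] at h1
    have h2 : H.index ≤ r := Nat.le_of_dvd hr.pos hidx
    have h3 : H.index.factorial ≤ r.factorial := Nat.factorial_le h2
    have h4 : (r + 1).factorial = (r + 1) * r.factorial := Nat.factorial_succ r
    have h5 : 0 < r.factorial := Nat.factorial_pos r
    nlinarith
  · have hHtop : H = ⊤ := top_le_iff.mp (htop ▸ Subgroup.normalCore_le H)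
    apply hrπ (hH1 r hr _)
    rw [hHtop, Subgroup.card_top]
    exact hrd


open MulAction in
/-- A subgroup of a symmetric group that is `2`-pretransitive on at least two points has even
order. -/
lemma even_card_of_two_pretransitive {n : ℕ} (hn : 2 ≤ n) (H : Subgroup (Equiv.Perm (Fin n)))
    (h2 : IsMultiplyPretransitive H (Fin n) 2) : 2 ∣ Nat.card H := by
  let a : Fin n := ⟨0, by omega⟩
  let b : Fin n := ⟨1, by omega⟩
  have hab : a ≠ b := by
    intro h
    have := congrArg Fin.val h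
    simp [a, b] at this
  obtain ⟨h, ha, hb⟩ := (is_two_pretransitive_iff.mp h2) hab hab.symm
  have hev : ∀ j : ℕ, (h ^ (2 * j)) • a = a ∧ (h ^ (2 * j)) • b = b := by
    intro j
    induction j with
    | zero => simp
    | succ j ih =>
      have e : h ^ (2 * (j + 1)) = h ^ (2 * j) * h * h := by
        rw [mul_add, pow_add, mul_one, pow_two, mul_assoc]
      rw [e]
      constructor
      · rw [mul_smul, mul_smul, ha, hb]; exact ih.1
      · rw [mul_smul, mul_smul, hb, ha]; exact ih.2
  have hdvd : 2 ∣ orderOf h := by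
    by_contra hnd
    have hodd : Odd (orderOf h) := Nat.odd_iff.mpr (by omega)
    obtain ⟨j, hj⟩ := hodd
    have h1 : (h ^ (2 * j + 1)) • a = a := by
      rw [← hj, pow_orderOf_eq_one, one_smul]
    rw [pow_succ, mul_smul, ha] at h1
    exact hab ((hev j).2.symm.trans h1).symm
  exact hdvd.trans (orderOf_dvd_natCard h)

open MulAction in
/-- If `p < q` are odd primes in `π` and `2 ∉ π`, then `S_q` has no Hall `π`-subgroup. -/
lemma no_hall_symm_odd (π : Set ℕ) (p q : ℕ) (hp : p.Prime) (hq : q.Prime) (h2 : 2 ∉ π)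
    (hpπ : p ∈ π) (hqπ : q ∈ π) (hpq : p < q) : ¬ IsEPiGroup π (Equiv.Perm (Fin q)) := by
  rintro ⟨H, hH1, hH2⟩
  classical
  have hp2 : 2 ≤ p := hp.two_le
  have : Fact p.Prime := ⟨hp⟩
  have : Fact q.Prime := ⟨hq⟩
  have hcard := card_mul_index_perm H
  -- an element of order `q` in `H`
  have hqd : q ∣ Nat.card H := by
    have h1 : q ∣ Nat.card H * H.index := by
      rw [hcard]
      exact Nat.dvd_factorial hq.pos le_rfl
    rcases (Nat.Prime.dvd_mul hq).mp h1 with h | h
    · exact h
    · exact absurd h (hH2 q hq hqπ)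
  obtain ⟨σ, hσ⟩ := exists_prime_orderOf_dvd_card' q hqd
  have hσ1 : orderOf (σ : Equiv.Perm (Fin q)) = Fintype.card (Fin q) := by
    rw [Subgroup.orderOf_coe, hσ, Fintype.card_fin]
  have hσ2 : (σ : Equiv.Perm (Fin q)).IsCycle :=
    Equiv.Perm.isCycle_of_prime_order'' (by rw [Fintype.card_fin]; exact hq) hσ1
  have hσ3 : (σ : Equiv.Perm (Fin q)).support = Finset.univ :=
    Finset.eq_univ_of_card _ (hσ2.orderOf.symm.trans hσ1)
  -- `H` is transitive, hence primitive
  have htrans : IsPretransitive H (Fin q) := by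
    constructor
    intro x y
    have hx : (σ : Equiv.Perm (Fin q)) x ≠ x := by
      rw [← Equiv.Perm.mem_support, hσ3]; exact Finset.mem_univ x
    have hy : (σ : Equiv.Perm (Fin q)) y ≠ y := by
      rw [← Equiv.Perm.mem_support, hσ3]; exact Finset.mem_univ y
    obtain ⟨i, hi⟩ := hσ2.sameCycle hx hy
    exact ⟨σ ^ i, hi⟩
  have hprim : IsPreprimitive H (Fin q) :=
    IsPreprimitive.of_prime_card (by rw [Nat.card_eq_fintype_card, Fintype.card_fin]; exact hq)
  -- a `p`-cycle in `H`
  obtain ⟨g0, hg0⟩ := (Equiv.Perm.exists_with_cycleType_iff (α := Fin q) (m := {p})).mpr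
    ⟨by simp; omega, by simp; omega⟩
  have hg0p : IsPGroup p (Subgroup.zpowers g0) := by
    apply IsPGroup.of_card (n := 1)
    rw [Nat.card_zpowers, ← Equiv.Perm.lcm_cycleType, hg0]
    simp
  obtain ⟨c, hc⟩ := exists_conj_mem H p (hH2 p hp hpπ) g0 hg0p
  set g := c⁻¹ * g0 * c with hgdef
  have hgct : g.cycleType = {p} := by
    have h := Equiv.Perm.cycleType_conj (σ := g0) (τ := c⁻¹)
    rw [inv_inv] at h
    rw [hgdef, h, hg0]
  have hgcyc : g.IsCycle := by
    rw [← Equiv.Perm.card_cycleType_eq_one, hgct]; simp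
  have hgsupp : g.support.card = p := by
    rw [← Equiv.Perm.sum_cycleType, hgct]; simp
  -- Jordan's criterion
  obtain ⟨n, hn⟩ : ∃ n, q = p + (n + 1) := ⟨q - p - 1, by omega⟩
  have hsc : Set.ncard ((g.support : Set (Fin q))ᶜ) = n + 1 := by
    apply Nat.add_left_cancel (n := Set.ncard (g.support : Set (Fin q)))
    rw [Set.ncard_add_ncard_compl, Set.ncard_coe_finset, hgsupp, Nat.card_eq_fintype_card,
      Fintype.card_fin, hn]
  have hpre := Equiv.Perm.isPretransitive_of_isCycle_mem hgcyc hc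
  have hprim' : IsPreprimitive (fixingSubgroup H ((g.support : Set (Fin q))ᶜ))
      (SubMulAction.ofFixingSubgroup H ((g.support : Set (Fin q))ᶜ)) := by
    apply IsPreprimitive.of_prime_card
    convert hp
    rw [Nat.card_eq_fintype_card, Fintype.card_subtype, ← hgsupp]
    apply congr_arg
    ext x
    simp [SubMulAction.mem_ofFixingSubgroup_iff]
  have hmult : IsMultiplyPreprimitive H (Fin q) (n + 2) :=
    hprim.isMultiplyPreprimitive hsc
      (by rw [Nat.card_eq_fintype_card, Fintype.card_fin]; omega) hprim'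
  have hmt : IsMultiplyPretransitive H (Fin q) (n + 2) :=
    IsMultiplyPreprimitive.isMultiplyPretransitive ..
  have hmt2 : IsMultiplyPretransitive H (Fin q) 2 :=
    isMultiplyPretransitive_of_le (n := n + 2) (by omega)
      (by rw [Nat.card_eq_fintype_card, Fintype.card_fin]; omega)
  have heven := even_card_of_two_pretransitive (by omega) H hmt2
  exact h2 (hH1 2 Nat.prime_two heven)


/-- If `π` contains two distinct primes and misses a prime, some finite group has no Hall
`π`-subgroup. -/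
lemma exists_not_E (π : Set ℕ) (p q r : ℕ) (hp : p.Prime) (hq : q.Prime) (hpπ : p ∈ π)
    (hqπ : q ∈ π) (hpq : p ≠ q) (hr : r.Prime) (hrπ : r ∉ π) :
    ∃ (G : Type) (_ : Group G) (_ : Finite G), ¬ IsEPiGroup π G := by
  by_cases h2 : 2 ∈ π
  · -- an odd prime in `π`
    obtain ⟨q', hq', hq'π, hq'2⟩ : ∃ q' : ℕ, q'.Prime ∧ q' ∈ π ∧ q' ≠ 2 := by
      by_cases hp2 : p = 2
      · exact ⟨q, hq, hqπ, fun h => hpq (hp2.trans h.symm)⟩
      · exact ⟨p, hp, hpπ, hp2⟩
    have hex : ∃ n : ℕ, n.Prime ∧ n ∉ π := ⟨r, hr, hrπ⟩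
    classical
    have hr0 := Nat.find_spec hex
    have hmin := fun m (hm : m < Nat.find hex) => Nat.find_min hex hm
    set r0 := Nat.find hex with hr0def
    by_cases hbig : ∃ s : ℕ, s.Prime ∧ s ∈ π ∧ r0 < s
    · obtain ⟨s, hs, hsπ, hlt⟩ := hbig
      exact ⟨Equiv.Perm (Fin s), inferInstance, inferInstance,
        no_hall_symm_swap π s r0 hs hr0.1 h2 hsπ hr0.2 hlt⟩
    · push Not at hbig
      have h1 : q' ≤ r0 := hbig q' hq' hq'π
      have h2' : q' ≠ r0 := fun h => hr0.2 (h ▸ hq'π)
      have h3 : 3 ≤ q' := by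
        have := hq'.two_le
        omega
      have h4 : r0 ≠ 4 := by
        intro h
        have := hr0.1
        rw [h] at this
        norm_num at this
      have hlt : ∀ t : ℕ, t.Prime → t < r0 → t ∈ π := by
        intro t ht htr
        by_contra htπ
        exact hmin t htr ⟨ht, htπ⟩
      exact ⟨alternatingGroup (Fin (r0 + 1)), inferInstance, inferInstance,
        no_hall_alt π r0 hr0.1 (by omega) hlt hr0.2⟩
  · rcases lt_or_gt_of_ne hpq with h | h
    · exact ⟨Equiv.Perm (Fin q), inferInstance, inferInstance,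
        no_hall_symm_odd π p q hp hq h2 hpπ hqπ h⟩
    · exact ⟨Equiv.Perm (Fin p), inferInstance, inferInstance,
        no_hall_symm_odd π q p hq hp h2 hqπ hpπ h⟩

/-- For a set of primes π the following are equivalent: every finite group has a Hall π-subgroup; in every finite group the maximal π-subgroups are pairwise conjugate; π contains at most one prime or contains every prime. -/
theorem result (π : Set ℕ) :
    ((∀ (G : Type) [Group G] [Finite G], Cfsg.IsEPiGroup π G) ↔
      ((∀ p q : ℕ, p.Prime → q.Prime → p ∈ π → q ∈ π → p = q) ∨ ∀ p : ℕ, p.Prime → p ∈ π)) ∧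
    ((∀ (G : Type) [Group G] [Finite G], Cfsg.IsDPiGroup π G) ↔
      ((∀ p q : ℕ, p.Prime → q.Prime → p ∈ π → q ∈ π → p = q) ∨ ∀ p : ℕ, p.Prime → p ∈ π)) := by
  have key : ¬ ((∀ p q : ℕ, p.Prime → q.Prime → p ∈ π → q ∈ π → p = q) ∨
      ∀ p : ℕ, p.Prime → p ∈ π) →
      ∃ (G : Type) (_ : Group G) (_ : Finite G), ¬ IsEPiGroup π G := by
    intro h
    push Not at h
    obtain ⟨⟨p, q, hp, hq, hpπ, hqπ, hne⟩, ⟨r, hr, hrπ⟩⟩ := h
    exact exists_not_E π p q r hp hq hpπ hqπ hne hr hrπ
  refine ⟨⟨?_, ?_⟩, ⟨?_, ?_⟩⟩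
  · intro h
    by_contra hcon
    obtain ⟨G, instG, instF, hG⟩ := key hcon
    exact hG (@h G instG instF)
  · intro h G _ _
    exact isEPiGroup_of_isDPiGroup π (easy_D π h G)
  · intro h
    by_contra hcon
    obtain ⟨G, instG, instF, hG⟩ := key hcon
    exact hG (isEPiGroup_of_isDPiGroup π (@h G instG instF))
  · intro h G _ _
    exact easy_D π h G

end Cfsg.Agent.S3878
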