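import Mathlib
import Cfsg.Statements.S3880
import Cfsg.Agent.Lib.Helper64.Metacyclic4

set_option autoImplicit false
open Cfsg

namespace Cfsg.Agent.S3880

open Cfsg.Agent.Helper64 in
/-- Let p be an odd prime and G a finite metacyclic p-group (G has a cyclic normal subgroup with cyclic quotient). Then a subgroup L of G is abelian if and only if |L| ≤ |G : G'|, and L is a maximal abelian subgroup of G if and only if |L| = |G : G'|. -/
theorem result {G : Type*} [Group G] [Finite G] {p : ℕ} [Fact p.Prime] (hp : p ≠ 2) (hG : IsPGroup p G) (hmc : Cfsg.IsMetacyclic G) (L : Subgroup G) :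
    (IsMulCommutative ↥L ↔ Nat.card ↥L ≤ (commutator G).index) ∧
      (Maximal (fun K : Subgroup G => IsMulCommutative ↥K) L ↔ Nat.card ↥L = (commutator G).index) := by
  have hpp : p.Prime := Fact.out
  obtain ⟨D⟩ := exists_mcData hmc
  have key := fun L => D.abelian_iff_card_le hp hG L
  refine ⟨key L, ?_⟩
  constructor
  · intro hmax
    have hLab := hmax.prop
    have hle := (key L).mp hLab
    by_contra hne
    have hlt : Nat.card L < (commutator G).index := lt_of_le_of_ne hle hne
    obtain ⟨l, hl⟩ : ∃ l, Nat.card L = p ^ l := IsPGroup.iff_card.mp (hG.to_subgroup L)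
    obtain ⟨d, hd⟩ : ∃ d, (commutator G).index = p ^ d := by
      obtain ⟨N, hN⟩ := IsPGroup.iff_card.mp hG
      have h1 : (commutator G).index ∣ p ^ N := hN ▸ Subgroup.index_dvd_card _
      obtain ⟨e, _, he⟩ := (Nat.dvd_prime_pow hpp).mp h1
      exact ⟨e, he⟩
    have hld : l < d := by
      rw [hl, hd] at hlt
      exact (Nat.pow_lt_pow_iff_right hpp.one_lt).mp hlt
    have hdvd : p ^ (l + 1) ∣ Nat.card G :=
      dvd_trans (pow_dvd_pow p hld) (hd ▸ Subgroup.index_dvd_card _)
    obtain ⟨K, hK, hLK⟩ := Sylow.exists_subgroup_card_pow_succ hdvd hl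
    have hKab : IsMulCommutative K :=
      (key K).mpr (by rw [hK, hd]; exact Nat.pow_le_pow_right hpp.pos hld)
    have hKL := hmax.le_of_ge hKab hLK
    have := Subgroup.card_le_of_le hKL
    rw [hK, hl] at this
    exact absurd this (not_le.mpr (Nat.pow_lt_pow_right hpp.one_lt (Nat.lt_succ_self l)))
  · intro hcard
    refine ⟨(key L).mpr hcard.le, ?_⟩
    intro K hK hLK
    have h1 := (key K).mp hK
    have : L = K := Subgroup.eq_of_le_of_card_ge hLK (by rw [hcard]; exact h1)
    exact this ▸ le_rfl

end Cfsg.Agent.S3880
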