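import Mathlib
import Cfsg.Statements.S3881
import Cfsg.Agent.Lib.Helper64.Metacyclic3

set_option autoImplicit false
open Cfsg

namespace Cfsg.Agent.S3881

open Cfsg.Agent.Helper64 in
/-- Let p be an odd prime and G a finite metacyclic p-group (G has a cyclic normal subgroup with cyclic quotient). Suppose G is non-abelian with |G'| = p^n. Then for 1 ≤ i ≤ n the number of elements of G whose conjugacy class has exactly p^i elements is |Z(G)| · (p^(2i) − p^(2i−2)). -/
theorem result {G : Type*} [Group G] [Finite G] {p : ℕ} [Fact p.Prime] (hp : p ≠ 2) (hG : IsPGroup p G) (hmc : Cfsg.IsMetacyclic G) (n : ℕ) (hn : n ≠ 0) (hGn : Nat.card ↥(commutator G) = p ^ n) (i : ℕ) (hi : 1 ≤ i) (hin : i ≤ n) :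
    Nat.card {g : G // (Subgroup.centralizer ({g} : Set G)).index = p ^ i} =
      Nat.card ↥(Subgroup.center G) * (p ^ (2 * i) - p ^ (2 * i - 2)) := by
  have hpp : p.Prime := Fact.out
  obtain ⟨D⟩ := exists_mcData hmc
  have hGn' : orderOf (D.a ^ (D.t - 1)) = p ^ n := by
    rw [← hGn, D.commutator_eq, Nat.card_zpowers]
  have hidx : ∀ g : G, ∃ e, (Subgroup.centralizer ({g} : Set G)).index = p ^ e := by
    intro g
    obtain ⟨N, hN⟩ := IsPGroup.iff_card.mp hG
    have h1 : (Subgroup.centralizer ({g} : Set G)).index ∣ p ^ N :=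
      hN ▸ Subgroup.index_dvd_card _
    obtain ⟨e, _, he⟩ := (Nat.dvd_prime_pow hpp).mp h1
    exact ⟨e, he⟩
  have hset : {g : G | (Subgroup.centralizer ({g} : Set G)).index = p ^ i} =
      ((Subgroup.closure {x : G | ∃ y : G, y ^ p ^ (n - i) = x} : Subgroup G) : Set G) \
        ((Subgroup.closure {x : G | ∃ y : G, y ^ p ^ (n - i + 1) = x} : Subgroup G) : Set G) := by
    ext g
    rw [Set.mem_diff, SetLike.mem_coe, SetLike.mem_coe,
      D.mem_closure_pow_iff hp hG n hGn' (n - i) (by omega) g,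
      D.mem_closure_pow_iff hp hG n hGn' (n - i + 1) (by omega) g, Set.mem_setOf_eq]
    obtain ⟨e, he⟩ := hidx g
    rw [he, Nat.pow_le_pow_iff_right hpp.one_lt, Nat.pow_le_pow_iff_right hpp.one_lt,
      Nat.pow_right_injective hpp.two_le |>.eq_iff]
    omega
  have hsub : ((Subgroup.closure {x : G | ∃ y : G, y ^ p ^ (n - i + 1) = x} : Subgroup G) : Set G) ⊆
      ((Subgroup.closure {x : G | ∃ y : G, y ^ p ^ (n - i) = x} : Subgroup G) : Set G) := by
    have : Subgroup.closure {x : G | ∃ y : G, y ^ p ^ (n - i + 1) = x} ≤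
        Subgroup.closure {x : G | ∃ y : G, y ^ p ^ (n - i) = x} := by
      apply Subgroup.closure_mono
      rintro x ⟨y, rfl⟩
      exact ⟨y ^ p, by rw [← pow_mul, ← pow_succ']⟩
    exact this
  have h1 := D.ncard_agemo hp hG n hGn' (n - i) (by omega)
  have h2 := D.ncard_agemo hp hG n hGn' (n - i + 1) (by omega)
  have h3 : Nat.card G = Nat.card (Subgroup.center G) * (p ^ n * p ^ n) := by
    rw [← Subgroup.card_mul_index (Subgroup.center G), D.index_center, D.orderOf_u_eq hp hG, hGn']
  have hps : ∀ k, 0 < p ^ k := fun k => pow_pos hpp.pos k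
  have e1 : ((Subgroup.closure {x : G | ∃ y : G, y ^ p ^ (n - i) = x} : Subgroup G) : Set G).ncard =
      Nat.card (Subgroup.center G) * p ^ (2 * i) := by
    apply Nat.eq_of_mul_eq_mul_right (Nat.mul_pos (hps (n - i)) (hps (n - i)))
    rw [h1, h3, mul_assoc]
    congr 1
    rw [← pow_add, ← pow_add, ← pow_add]
    congr 1
    omega
  have e2 : ((Subgroup.closure {x : G | ∃ y : G, y ^ p ^ (n - i + 1) = x} : Subgroup G) : Set G).ncard =
      Nat.card (Subgroup.center G) * p ^ (2 * i - 2) := by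
    apply Nat.eq_of_mul_eq_mul_right (Nat.mul_pos (hps (n - i + 1)) (hps (n - i + 1)))
    rw [h2, h3, mul_assoc]
    congr 1
    rw [← pow_add, ← pow_add, ← pow_add]
    congr 1
    omega
  have hcard : Nat.card {g : G // (Subgroup.centralizer ({g} : Set G)).index = p ^ i} =
      {g : G | (Subgroup.centralizer ({g} : Set G)).index = p ^ i}.ncard :=
    Nat.card_coe_set_eq _
  rw [hcard, hset, Set.ncard_diff hsub (Set.toFinite _), e1, e2, Nat.mul_sub]

end Cfsg.Agent.S3881
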