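import Mathlib
import Cfsg.Statements.S3882
import Cfsg.Agent.Lib.Helper64.Metacyclic2

set_option autoImplicit false
open Cfsg

namespace Cfsg.Agent.S3882

open Cfsg.Agent.Helper64 in
/-- Let p be an odd prime and G a finite metacyclic p-group (G has a cyclic normal subgroup with cyclic quotient). Suppose |G'| = p^n and 0 ≤ s ≤ n. Then an element g lies in the subgroup generated by the p^s-th powers if and only if its conjugacy class has at most p^(n−s) elements; in particular the subgroup generated by the p^n-th powers is the center of G. -/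
theorem result {G : Type*} [Group G] [Finite G] {p : ℕ} [Fact p.Prime] (hp : p ≠ 2) (hG : IsPGroup p G) (hmc : Cfsg.IsMetacyclic G) (n : ℕ) (hGn : Nat.card ↥(commutator G) = p ^ n) (s : ℕ) (hs : s ≤ n) (g : G) :
    (g ∈ Subgroup.closure {x : G | ∃ y : G, y ^ p ^ s = x} ↔ (Subgroup.centralizer ({g} : Set G)).index ≤ p ^ (n - s)) ∧
      Subgroup.closure {x : G | ∃ y : G, y ^ p ^ n = x} = Subgroup.center G := by
  obtain ⟨D⟩ := exists_mcData hmc
  have hGn' : orderOf (D.a ^ (D.t - 1)) = p ^ n := by
    rw [← hGn, D.commutator_eq, Nat.card_zpowers]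
  have key := fun s hs g => D.mem_closure_pow_iff hp hG n hGn' s hs g
  refine ⟨key s hs g, ?_⟩
  ext x
  rw [key n le_rfl x, Nat.sub_self, pow_zero]
  constructor
  · intro h
    have h1 : (Subgroup.centralizer ({x} : Set G)).index = 1 :=
      le_antisymm h (Nat.one_le_iff_ne_zero.mpr Subgroup.index_ne_zero_of_finite)
    rw [Subgroup.index_eq_one, Subgroup.centralizer_eq_top_iff_subset] at h1
    exact h1 rfl
  · intro h
    have h1 : Subgroup.centralizer ({x} : Set G) = ⊤ := by
      rw [Subgroup.centralizer_eq_top_iff_subset]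
      intro y hy
      rw [Set.mem_singleton_iff] at hy
      rw [hy]; exact h
    rw [h1, Subgroup.index_top]

end Cfsg.Agent.S3882
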