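import Mathlib
import Cfsg.Statements.S3883
import Cfsg.Agent.Lib.Helper64.Metacyclic5

set_option autoImplicit false
open Cfsg

namespace Cfsg.Agent.S3883

open Cfsg.Agent.Helper64 in
/-- Let p be an odd prime and G a finite metacyclic p-group (G has a cyclic normal subgroup with cyclic quotient). Suppose G is non-abelian. Then an element g of G lies outside the Frattini subgroup if and only if its centralizer C_G(g) is abelian. -/
theorem result {G : Type*} [Group G] [Finite G] {p : ℕ} [Fact p.Prime] (hp : p ≠ 2) (hG : IsPGroup p G) (hmc : Cfsg.IsMetacyclic G) (hna : ¬ IsMulCommutative G) (g : G) :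
    g ∉ frattini G ↔ IsMulCommutative ↥(Subgroup.centralizer ({g} : Set G)) := by
  have hpp : p.Prime := Fact.out
  obtain ⟨D⟩ := exists_mcData hmc
  obtain ⟨n, hGn⟩ : ∃ n, orderOf (D.a ^ (D.t - 1)) = p ^ n := (IsPGroup.iff_orderOf.mp hG) _
  have hn : 1 ≤ n := by
    by_contra h
    have h0 : n = 0 := by omega
    rw [h0, pow_zero, orderOf_eq_one_iff] at hGn
    apply hna
    refine ⟨⟨fun x y => ?_⟩⟩
    have := D.comm_mem x y
    rw [hGn, Subgroup.zpowers_one_eq_bot, Subgroup.mem_bot] at this
    calc x * y = (x * y * x⁻¹ * y⁻¹) * (y * x) := by group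
      _ = y * x := by rw [this, one_mul]
  rw [D.frattini_eq_agemo hG]
  have h1 := D.mem_closure_pow_iff hp hG n hGn 1 hn g
  rw [pow_one] at h1
  rw [h1, D.abelian_iff_card_le hp hG]
  obtain ⟨e, he⟩ : ∃ e, (Subgroup.centralizer ({g} : Set G)).index = p ^ e := by
    obtain ⟨N, hN⟩ := IsPGroup.iff_card.mp hG
    have h1 : (Subgroup.centralizer ({g} : Set G)).index ∣ p ^ N :=
      hN ▸ Subgroup.index_dvd_card _
    obtain ⟨e, _, he⟩ := (Nat.dvd_prime_pow hpp).mp h1
    exact ⟨e, he⟩
  have hidx : (commutator G).index * p ^ n = Nat.card G := by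
    rw [← hGn, ← Nat.card_zpowers, ← D.commutator_eq, Subgroup.index_mul_card]
  have hC : Nat.card (Subgroup.centralizer ({g} : Set G)) * p ^ e = Nat.card G := by
    rw [← he, Subgroup.card_mul_index]
  rw [he, Nat.pow_le_pow_iff_right hpp.one_lt, not_le]
  constructor
  · intro h
    have h2 : Nat.card (Subgroup.centralizer ({g} : Set G)) * p ^ n ≤
        (commutator G).index * p ^ n := by
      rw [hidx, ← hC]
      exact Nat.mul_le_mul_left _ (Nat.pow_le_pow_right hpp.pos (by omega))
    exact Nat.le_of_mul_le_mul_right h2 (pow_pos hpp.pos n)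
  · intro h
    by_contra hcon
    push Not at hcon
    have hlt : e < n := by omega
    have h2 : Nat.card (Subgroup.centralizer ({g} : Set G)) * p ^ n ≤
        (commutator G).index * p ^ n := Nat.mul_le_mul_right _ h
    rw [hidx, ← hC] at h2
    have h3 := Nat.le_of_mul_le_mul_left h2 Nat.card_pos
    exact absurd h3 (not_le.mpr (Nat.pow_lt_pow_right hpp.one_lt hlt))

end Cfsg.Agent.S3883
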