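import Mathlib
import Cfsg.Statements.S3886
import Cfsg.Agent.Lib.Helper64.Metacyclic6
import Cfsg.Agent.S3880

set_option autoImplicit false
open Cfsg

namespace Cfsg.Agent.S3886

open Cfsg.Agent.Helper64 in
/-- Let p be an odd prime and G a finite metacyclic p-group (G has a cyclic normal subgroup with cyclic quotient). Then the largest value of |R| · |Z(R)| over subgroups R of G is |G : G'|², and the subgroups attaining it (the centrally large subgroups) are exactly the non-abelian subgroups together with the maximal abelian subgroups of G. -/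
theorem result {G : Type*} [Group G] [Finite G] {p : ℕ} [Fact p.Prime] (hp : p ≠ 2) (hG : IsPGroup p G) (hmc : Cfsg.IsMetacyclic G) : Cfsg.maxCentralProduct G = (commutator G).index ^ 2 ∧
    ∀ R : Subgroup G, Cfsg.IsCentrallyLarge R ↔ (¬ IsMulCommutative ↥R ∨ Maximal (fun K : Subgroup G => IsMulCommutative ↥K) R) := by
  have hpp : p.Prime := Fact.out
  obtain ⟨D⟩ := exists_mcData hmc
  have h80 := fun R : Subgroup G => Cfsg.Agent.S3880.result hp hG hmc R
  have key : ∀ R : Subgroup G,
      Nat.card ↥R * Nat.card ↥(Subgroup.center ↥R) ≤ (commutator G).index ^ 2 ∧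
      (Nat.card ↥R * Nat.card ↥(Subgroup.center ↥R) = (commutator G).index ^ 2 ↔
        (¬ IsMulCommutative ↥R ∨ Nat.card ↥R = (commutator G).index)) := by
    intro R
    by_cases hR : IsMulCommutative ↥R
    · have hc : Subgroup.center ↥R = ⊤ := by
        rw [eq_top_iff]
        intro z _
        rw [Subgroup.mem_center_iff]
        intro g
        exact hR.is_comm.comm g z
      have hle := (h80 R).1.mp hR
      rw [hc, Subgroup.card_top, ← sq]
      refine ⟨Nat.pow_le_pow_left hle 2, ?_⟩
      constructor
      · intro h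
        right
        exact Nat.pow_left_injective (by norm_num : 2 ≠ 0) h
      · rintro (h | h)
        · exact absurd hR h
        · rw [h]
    · have hmcR : Cfsg.IsMetacyclic ↥R :=
        isMetacyclic_of_injective R.subtype R.subtype_injective hmc
      have h1 := index_center_eq_sq_of_metacyclic hp (hG.to_subgroup R) hmcR
      have h2 := D.index_commutator_subgroup hp hG R hR
      have h3 : Nat.card ↥(Subgroup.center ↥R) * (Subgroup.center ↥R).index = Nat.card ↥R :=
        Subgroup.card_mul_index _
      have h4 : (commutator ↥R).index * Nat.card ↥(commutator ↥R) = Nat.card ↥R :=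
        Subgroup.index_mul_card _
      rw [h1] at h3
      rw [h2] at h4
      have hdpos : 0 < Nat.card ↥(commutator ↥R) ^ 2 := pow_pos Nat.card_pos 2
      have heq : Nat.card ↥R * Nat.card ↥(Subgroup.center ↥R) = (commutator G).index ^ 2 := by
        apply Nat.eq_of_mul_eq_mul_right hdpos
        calc Nat.card ↥R * Nat.card ↥(Subgroup.center ↥R) * Nat.card ↥(commutator ↥R) ^ 2
            = Nat.card ↥R * (Nat.card ↥(Subgroup.center ↥R) * Nat.card ↥(commutator ↥R) ^ 2) := by
              ring
          _ = Nat.card ↥R * Nat.card ↥R := by rw [h3]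
          _ = (commutator G).index ^ 2 * Nat.card ↥(commutator ↥R) ^ 2 := by rw [← h4]; ring
      exact ⟨heq.le, ⟨fun _ => Or.inl hR, fun _ => heq⟩⟩
  have hmax : Cfsg.maxCentralProduct G = (commutator G).index ^ 2 := by
    unfold Cfsg.maxCentralProduct
    apply IsGreatest.csSup_eq
    constructor
    · obtain ⟨d, hd⟩ : ∃ d, (commutator G).index = p ^ d := by
        obtain ⟨N, hN⟩ := IsPGroup.iff_card.mp hG
        have h1 : (commutator G).index ∣ p ^ N := hN ▸ Subgroup.index_dvd_card _
        obtain ⟨e, _, he⟩ := (Nat.dvd_prime_pow hpp).mp h1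
        exact ⟨e, he⟩
      have hdvd : p ^ d ∣ Nat.card G := hd ▸ Subgroup.index_dvd_card _
      obtain ⟨K, hK⟩ := Sylow.exists_subgroup_card_pow_prime p hdvd
      refine ⟨K, ?_⟩
      rw [(key K).2]
      right
      rw [hK, hd]
    · rintro k ⟨R, rfl⟩
      exact (key R).1
  refine ⟨hmax, fun R => ?_⟩
  unfold Cfsg.IsCentrallyLarge
  rw [hmax, (key R).2, (h80 R).2]

end Cfsg.Agent.S3886
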