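import Mathlib
import Cfsg.Statements.S3887
import Cfsg.Agent.Lib.Helper64.Metacyclic7

set_option autoImplicit false
open Cfsg

namespace Cfsg.Agent.S3887

open Cfsg.Agent.Helper64 in
/-- Let p be an odd prime and G a finite metacyclic p-group (G has a cyclic normal subgroup with cyclic quotient). Then a subgroup R of G maximizes |R| · |C_G(R)| over all subgroups of G if and only if R contains the center of G. -/
theorem result {G : Type*} [Group G] [Finite G] {p : ℕ} [Fact p.Prime] (hp : p ≠ 2) (hG : IsPGroup p G) (hmc : Cfsg.IsMetacyclic G) (R : Subgroup G) : Cfsg.IsCentralizerLarge R ↔ Subgroup.center G ≤ R := by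
  obtain ⟨D⟩ := exists_mcData hmc
  have hmax : Cfsg.maxCentralizerProduct G = Nat.card G * Nat.card (Subgroup.center G) := by
    unfold Cfsg.maxCentralizerProduct
    apply IsGreatest.csSup_eq
    constructor
    · refine ⟨⊤, ?_⟩
      rw [Subgroup.coe_top, Subgroup.centralizer_univ, Subgroup.card_top]
    · rintro k ⟨R, rfl⟩
      exact D.cd_le hp hG R
  unfold Cfsg.IsCentralizerLarge
  rw [hmax]
  constructor
  · intro h
    by_contra hZ
    have hlt : R < R ⊔ Subgroup.center G := by
      apply lt_of_le_of_ne le_sup_left
      intro heq
      apply hZ
      rw [heq]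
      exact le_sup_right
    have hcent : Subgroup.centralizer ((R ⊔ Subgroup.center G : Subgroup G) : Set G) =
        Subgroup.centralizer (R : Set G) := by
      apply le_antisymm
      · exact Subgroup.centralizer_le (by
          intro x hx
          exact (le_sup_left : R ≤ R ⊔ Subgroup.center G) hx)
      · intro g hg
        rw [Subgroup.mem_centralizer_iff]
        intro x hx
        have hle : R ⊔ Subgroup.center G ≤ Subgroup.centralizer ({g} : Set G) := by
          apply sup_le
          · intro r hr
            rw [Subgroup.mem_centralizer_iff]
            intro k hk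
            rw [Set.mem_singleton_iff] at hk
            subst hk
            exact ((Subgroup.mem_centralizer_iff.mp hg) r hr).symm
          · exact Subgroup.center_le_centralizer _
        have := (Subgroup.mem_centralizer_iff.mp (hle hx)) g rfl
        exact this.symm
    have h1 := D.cd_le hp hG (R ⊔ Subgroup.center G)
    rw [hcent] at h1
    have h2 : Nat.card R < Nat.card (R ⊔ Subgroup.center G : Subgroup G) := by
      by_contra hcon
      push Not at hcon
      have := Subgroup.eq_of_le_of_card_ge hlt.le hcon
      exact hlt.ne this
    have h3 : 0 < Nat.card (Subgroup.centralizer (R : Set G)) := Nat.card_pos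
    have h4 := Nat.mul_lt_mul_of_pos_right h2 h3
    omega
  · intro hZ
    exact D.cd_eq_of_center_le hp hG R hZ

end Cfsg.Agent.S3887
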