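import Cfsg.Statements.S3889

set_option autoImplicit false
open Cfsg

namespace Cfsg.Agent.S3889

theorem key {G : Type*} [CommGroup G] [Finite G] (𝓑 : Set (Subgroup G))
    (hcov : ∀ g : G, ∃ B ∈ 𝓑, g ∈ B) (hdisj : ∀ B ∈ 𝓑, ∀ C ∈ 𝓑, B ≠ C → B ⊓ C = ⊥)
    (B : Subgroup G) (hB : B ∈ 𝓑) (x y : G) (hx : x ∈ B) (hy : y ∉ B) :
    orderOf x ∣ orderOf y := by
  obtain ⟨C, hC, hxyC⟩ := hcov (x * y)
  by_cases hCB : B = C
  · subst hCB
    exact absurd ((Subgroup.mul_mem_cancel_left B hx).mp hxyC) hy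
  · have h1 : (x * y) ^ orderOf y = x ^ orderOf y := by
      rw [mul_pow, pow_orderOf_eq_one, mul_one]
    have h2 : x ^ orderOf y ∈ B ⊓ C := by
      refine ⟨B.pow_mem hx _, ?_⟩
      rw [← h1]
      exact C.pow_mem hxyC _
    rw [hdisj B hB C hC hCB, Subgroup.mem_bot] at h2
    exact orderOf_dvd_of_pow_eq_one h2

theorem sep {G : Type*} [CommGroup G] [Finite G] (𝓑 : Set (Subgroup G))
    (hcov : ∀ g : G, ∃ B ∈ 𝓑, g ∈ B) (hdisj : ∀ B ∈ 𝓑, ∀ C ∈ 𝓑, B ≠ C → B ⊓ C = ⊥)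
    (B : Subgroup G) (hB : B ∈ 𝓑) (x y : G) (hx : x ∈ B) (hx1 : x ≠ 1) (hy : y ∉ B) :
    orderOf x = orderOf y := by
  apply Nat.dvd_antisymm (key 𝓑 hcov hdisj B hB x y hx hy)
  obtain ⟨C, hC, hyC⟩ := hcov y
  have hBC : B ≠ C := fun h => hy (h ▸ hyC)
  have hxC : x ∉ C := by
    intro hxC
    have : x ∈ B ⊓ C := ⟨hx, hxC⟩
    rw [hdisj B hB C hC hBC, Subgroup.mem_bot] at this
    exact hx1 this
  exact key 𝓑 hcov hdisj C hC y x hyC hxC

theorem result {G : Type*} [CommGroup G] [Finite G] (𝓑 : Set (Subgroup G)) (hprop : ∀ B ∈ 𝓑, B ≠ ⊤)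
    (hcov : ∀ g : G, ∃ B ∈ 𝓑, g ∈ B) (hdisj : ∀ B ∈ 𝓑, ∀ C ∈ 𝓑, B ≠ C → B ⊓ C = ⊥) :
    (Monoid.exponent G).Prime := by
  obtain ⟨B, hB, -⟩ := hcov 1
  have hBt := hprop B hB
  obtain ⟨y, hyB⟩ : ∃ y : G, y ∉ B := by
    by_contra hcon
    push Not at hcon
    exact hBt (by rw [eq_top_iff]; intro g _; exact hcon g)
  have hy1 : y ≠ 1 := fun h => hyB (h ▸ B.one_mem)
  obtain ⟨C, hC, hyC⟩ := hcov y
  obtain ⟨w, hwC⟩ : ∃ w : G, w ∉ C := by
    by_contra hcon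
    push Not at hcon
    exact hprop C hC (by rw [eq_top_iff]; intro g _; exact hcon g)
  have hw1 : w ≠ 1 := fun h => hwC (h ▸ C.one_mem)
  have hyw : orderOf y = orderOf w := sep 𝓑 hcov hdisj C hC y w hyC hy1 hwC
  have hall : ∀ z : G, z ≠ 1 → orderOf z = orderOf y := by
    intro z hz1
    by_cases hzC : z ∈ C
    · rw [hyw]
      exact sep 𝓑 hcov hdisj C hC z w hzC hz1 hwC
    · exact (sep 𝓑 hcov hdisj C hC y z hyC hy1 hzC).symm
  have hn1 : orderOf y ≠ 1 := by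
    rw [Ne, orderOf_eq_one_iff]; exact hy1
  have hnpos : 0 < orderOf y := orderOf_pos y
  have hprime : (orderOf y).Prime := by
    set n := orderOf y with hn
    obtain ⟨q, hq, hqn⟩ := Nat.exists_prime_and_dvd hn1
    obtain ⟨m, hm⟩ := hqn
    have hmpos : 0 < m := by
      rcases Nat.eq_zero_or_pos m with h | h
      · rw [h, mul_zero] at hm; omega
      · exact h
    have ho : orderOf (y ^ m) = q := by
      rw [orderOf_pow' y hmpos.ne', ← hn, hm, Nat.gcd_mul_left_left, Nat.mul_div_cancel _ hmpos]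
    have hne : y ^ m ≠ 1 := by
      intro h
      rw [h, orderOf_one] at ho
      exact hq.one_lt.ne ho
    have := hall _ hne
    rw [ho] at this
    rw [← this]; exact hq
  have hdvd : Monoid.exponent G ∣ orderOf y := by
    apply Monoid.exponent_dvd_of_forall_pow_eq_one
    intro g
    by_cases hg : g = 1
    · rw [hg, one_pow]
    · rw [← hall g hg, pow_orderOf_eq_one]
  have hdvd2 : orderOf y ∣ Monoid.exponent G := Monoid.order_dvd_exponent y
  rw [Nat.dvd_antisymm hdvd hdvd2]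
  exact hprime

end Cfsg.Agent.S3889
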