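import Mathlib
import Cfsg.Statements.S3890
import Cfsg.Agent.Lib.Helper90.NilpCoverSylow

set_option autoImplicit false
open Cfsg

namespace Cfsg.Agent.S3890

open Cfsg.Agent.Helper90

theorem result {G : Type*} [Group G] [Finite G] (hZ : Subgroup.center G = ⊥) (𝓐 : Finset (Subgroup G))
    (h𝓐 : ((∀ A ∈ 𝓐, A ≠ ⊤) ∧ (∀ g : G, ∃ A ∈ 𝓐, g ∈ A)) ∧ (∀ 𝓑 : Finset (Subgroup G), (∀ A ∈ 𝓑, A ≠ ⊤) ∧ (∀ g : G, ∃ A ∈ 𝓑, g ∈ A) → 𝓐.card ≤ 𝓑.card) ∧ (∀ A ∈ 𝓐, Group.IsNilpotent ↥A)) {p : ℕ} [Fact p.Prime] (P : Sylow p G) (hab : IsMulCommutative ↥(P : Subgroup G))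
    (hnn : ¬ (P : Subgroup G).Normal) :
    (Cfsg.IsElementaryAbelian p (P : Subgroup G) ∧ p < Nat.card ↥(P : Subgroup G)) ∨
    (∃ A ∈ 𝓐, (P : Subgroup G) ≤ A ∧ ¬ p ∣ ((P : Subgroup G).subgroupOf A).index ∧
      IsCoatom (Subgroup.normalizer ((P : Subgroup G) : Set G)) ∧
      (∀ g : G, g ∉ Subgroup.normalizer ((P : Subgroup G) : Set G) →
        ¬ p ∣ Nat.card ↥(Subgroup.normalizer ((P : Subgroup G) : Set G) ⊓
          (Subgroup.normalizer ((P : Subgroup G) : Set G)).map (MulAut.conj g).toMonoidHom)) ∧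
      Subgroup.centralizer ((P : Subgroup G) : Set G) = A) := by
  obtain ⟨⟨hprop, hcov⟩, hmin, hnil⟩ := h𝓐
  have h : NilpMinCover G 𝓐 := ⟨hprop, hcov, hmin, hnil⟩
  have hp : p.Prime := Fact.out
  have hc : ∀ a ∈ P, ∀ b ∈ P, a * b = b * a := by
    intro a ha b hb
    have h1 : (⟨a, ha⟩ : (P : Subgroup G)) * ⟨b, hb⟩ = ⟨b, hb⟩ * ⟨a, ha⟩ := mul_comm' _ _
    exact congrArg Subtype.val h1
  by_cases hlarge : Cfsg.IsElementaryAbelian p (P : Subgroup G) ∧ p < Nat.card ↥(P : Subgroup G)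
  · exact Or.inl hlarge
  right
  have hgood : GoodSylow P := by
    by_cases hel : Cfsg.IsElementaryAbelian p (P : Subgroup G)
    · have hle : Nat.card ↥(P : Subgroup G) ≤ p := by
        by_contra hlt
        exact hlarge ⟨hel, not_le.mp hlt⟩
      obtain ⟨k, hk⟩ := IsPGroup.exists_card_eq P.isPGroup'
      have hP1 := sylow_ne_bot_of_not_normal P hnn
      have hk0 : k ≠ 0 := by
        rintro rfl
        rw [pow_zero] at hk
        exact hP1 ((Subgroup.card_eq_one).mp hk)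
      have hcard : Nat.card ↥(P : Subgroup G) = p := by
        apply le_antisymm hle
        rw [hk]
        calc p = p ^ 1 := (pow_one p).symm
          _ ≤ p ^ k := Nat.pow_le_pow_right hp.pos (Nat.one_le_iff_ne_zero.mpr hk0)
      exact goodSylow_of_isCyclic P (isCyclic_of_prime_card hcard)
    · right
      by_contra hno
      push Not at hno
      exact hel ⟨hab, fun a ha => hno a ha⟩
  obtain ⟨h1, h2, h3, -, h5⟩ := h.sylow_package hZ P hc hgood hnn
  refine ⟨_, h1, h2, ?_, h3, h5, rfl⟩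
  intro hdvd
  have hrel : ((P : Subgroup G).subgroupOf
      (Subgroup.centralizer ((P : Subgroup G) : Set G))).index ∣ (P : Subgroup G).index := by
    have := Subgroup.relIndex_mul_index h2
    exact Dvd.intro _ this
  exact P.not_dvd_index (hdvd.trans hrel)

end Cfsg.Agent.S3890
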