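import Mathlib
import Cfsg.Statements.S3891
import Cfsg.Agent.Lib.Helper90.NilpCoverSylow

set_option autoImplicit false
open Cfsg

namespace Cfsg.Agent.S3891

open Cfsg.Agent.Helper90

theorem result {G : Type*} [Group G] [Finite G] (hZ : Subgroup.center G = ⊥) (𝓐 : Finset (Subgroup G))
    (h𝓐 : ((∀ A ∈ 𝓐, A ≠ ⊤) ∧ (∀ g : G, ∃ A ∈ 𝓐, g ∈ A)) ∧ (∀ 𝓑 : Finset (Subgroup G), (∀ A ∈ 𝓑, A ≠ ⊤) ∧ (∀ g : G, ∃ A ∈ 𝓑, g ∈ A) → 𝓐.card ≤ 𝓑.card) ∧ (∀ A ∈ 𝓐, Group.IsNilpotent ↥A)) {p : ℕ} [Fact p.Prime] (P : Sylow p G)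
    (hP : IsCyclic ↥(P : Subgroup G) ∨ (IsMulCommutative ↥(P : Subgroup G) ∧ ¬ Cfsg.IsElementaryAbelian p (P : Subgroup G)))
    (hnn : ¬ (P : Subgroup G).Normal) :
    Group.IsNilpotent ↥(Subgroup.centralizer ((P : Subgroup G) : Set G)) ∧
      IsCoatom (Subgroup.normalizer ((P : Subgroup G) : Set G)) ∧
      ∀ M : Subgroup G, IsCoatom M → Subgroup.centralizer ((P : Subgroup G) : Set G) ≤ M →
        M = Subgroup.normalizer ((P : Subgroup G) : Set G) := by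
  obtain ⟨⟨hprop, hcov⟩, hmin, hnil⟩ := h𝓐
  have h : NilpMinCover G 𝓐 := ⟨hprop, hcov, hmin, hnil⟩
  have hdata : (∀ a ∈ P, ∀ b ∈ P, a * b = b * a) ∧ GoodSylow P := by
    rcases hP with hcyc | ⟨hcomm, hnel⟩
    · exact ⟨sylow_comm_of_isCyclic P hcyc, goodSylow_of_isCyclic P hcyc⟩
    · refine ⟨?_, ?_⟩
      · intro a ha b hb
        have h1 : (⟨a, ha⟩ : (P : Subgroup G)) * ⟨b, hb⟩ = ⟨b, hb⟩ * ⟨a, ha⟩ := mul_comm' _ _
        exact congrArg Subtype.val h1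
      · right
        by_contra hno
        push Not at hno
        exact hnel ⟨hcomm, fun a ha => hno a ha⟩
  obtain ⟨hc, hgood⟩ := hdata
  obtain ⟨h1, -, h3, h4, -⟩ := h.sylow_package hZ P hc hgood hnn
  exact ⟨hnil _ h1, h3, h4⟩

end Cfsg.Agent.S3891
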