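import Mathlib
import Cfsg.Statements.S3892
import Cfsg.Agent.Lib.Helper90.NilpCover

set_option autoImplicit false
open Cfsg

namespace Cfsg.Agent.S3892

open Equiv Equiv.Perm Cfsg.Agent.Helper90

/-- `S_n`, `n ≥ 5`. -/
theorem symm_ge_five (n : ℕ) (hn : 5 ≤ n) (𝓐 : Finset (Subgroup (Perm (Fin n))))
    (hprop : ∀ A ∈ 𝓐, A ≠ ⊤) (hcov : ∀ g : Perm (Fin n), ∃ A ∈ 𝓐, g ∈ A)
    (hmin : ∀ 𝓑 : Finset (Subgroup (Perm (Fin n))),
      (∀ A ∈ 𝓑, A ≠ ⊤) ∧ (∀ g : Perm (Fin n), ∃ A ∈ 𝓑, g ∈ A) → 𝓐.card ≤ 𝓑.card)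
    (hnil : ∀ A ∈ 𝓐, Group.IsNilpotent A) : False := by
  obtain ⟨x, hxt⟩ := (Equiv.Perm.exists_with_cycleType_iff (α := Fin n) (m := {n - 1})).mpr
    ⟨by simp, by simp; omega⟩
  have hx : x.IsCycle := card_cycleType_eq_one.mp (by rw [hxt]; rfl)
  have hsupp : x.support.card = n - 1 := by rw [← sum_cycleType, hxt]; simp
  obtain ⟨a, ha, -⟩ := id hx
  have hd : ∃ d, x d = d := by
    by_contra h
    push Not at h
    have h1 : x.support = Finset.univ := by
      ext i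
      simp [h i]
    rw [h1, Finset.card_univ, Fintype.card_fin] at hsupp
    omega
  obtain ⟨d, hd⟩ := hd
  exact no_nilpotent_minCover_of_cycle (G := Perm (Fin n)) hx (by omega)
    (by rw [Fintype.card_fin]; omega) ha (gx := x) (gy := swap a (x a) * x * swap a (x a))
    (g₀ := swap d a) (fun i => rfl) (fun i => rfl)
    ⟨d, hd, by rw [Perm.smul_def, swap_apply_left]; exact ha⟩ 𝓐 hprop hcov hmin hnil

/-- `A_n`, `n ≥ 6`. -/
theorem alt_ge_six (n : ℕ) (hn : 6 ≤ n) (𝓐 : Finset (Subgroup (alternatingGroup (Fin n))))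
    (hprop : ∀ A ∈ 𝓐, A ≠ ⊤) (hcov : ∀ g : alternatingGroup (Fin n), ∃ A ∈ 𝓐, g ∈ A)
    (hmin : ∀ 𝓑 : Finset (Subgroup (alternatingGroup (Fin n))),
      (∀ A ∈ 𝓑, A ≠ ⊤) ∧ (∀ g : alternatingGroup (Fin n), ∃ A ∈ 𝓑, g ∈ A) → 𝓐.card ≤ 𝓑.card)
    (hnil : ∀ A ∈ 𝓐, Group.IsNilpotent A) : False := by
  obtain ⟨m, hmodd, hm5, hmn, hnm⟩ : ∃ m, Odd m ∧ 5 ≤ m ∧ m < n ∧ n < 2 * m := by
    rcases Nat.even_or_odd n with he | ho
    · refine ⟨n - 1, ?_, by omega, by omega, by omega⟩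
      exact Nat.Even.sub_odd (show 1 ≤ n by omega) he odd_one
    · have h7 : 7 ≤ n := by
        obtain ⟨k, hk⟩ := ho
        omega
      refine ⟨n - 2, ?_, by omega, by omega, by omega⟩
      exact Nat.Odd.sub_even (show 2 ≤ n by omega) ho even_two
  obtain ⟨x, hxt⟩ := (Equiv.Perm.exists_with_cycleType_iff (α := Fin n) (m := {m})).mpr
    ⟨by simp; omega, by simp; omega⟩
  have hx : x.IsCycle := card_cycleType_eq_one.mp (by rw [hxt]; rfl)
  have hsupp : x.support.card = m := by rw [← sum_cycleType, hxt]; simp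
  have hsign : sign x = 1 := by
    rw [hx.sign, hsupp, hmodd.neg_one_pow]
    simp
  obtain ⟨a, ha, -⟩ := id hx
  have hd : ∃ d, x d = d := by
    by_contra h
    push Not at h
    have h1 : x.support = Finset.univ := by
      ext i
      simp [h i]
    rw [h1, Finset.card_univ, Fintype.card_fin] at hsupp
    omega
  obtain ⟨d, hd⟩ := hd
  have hda : d ≠ a := by
    rintro rfl
    exact ha hd
  have hdxa : d ≠ x a := by
    intro h
    apply ha
    apply x.injective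
    rw [← h, hd]
  have haxa : a ≠ x a := fun h => ha h.symm
  have hs : sign (swap a (x a)) = -1 := sign_swap haxa
  have hyA : swap a (x a) * x * swap a (x a) ∈ alternatingGroup (Fin n) := by
    rw [mem_alternatingGroup, Perm.sign_mul, Perm.sign_mul, hs, hsign]
    simp
  have hgA : swap d a * swap a (x a) ∈ alternatingGroup (Fin n) := by
    rw [mem_alternatingGroup, Perm.sign_mul, hs, sign_swap hda]
    simp
  exact no_nilpotent_minCover_of_cycle (G := alternatingGroup (Fin n)) hx (by omega)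
    (by rw [Fintype.card_fin]; omega) ha (gx := ⟨x, mem_alternatingGroup.mpr hsign⟩)
    (gy := ⟨_, hyA⟩) (g₀ := ⟨_, hgA⟩) (fun i => rfl) (fun i => rfl)
    ⟨d, hd, by
      have : (⟨_, hgA⟩ : alternatingGroup (Fin n)) • d = a := by
        show (swap d a * swap a (x a)) d = a
        rw [Perm.mul_apply, swap_apply_of_ne_of_ne hda hdxa, swap_apply_left]
      rw [this]
      exact ha⟩ 𝓐 hprop hcov hmin hnil

/-! ### The special case `S_4` -/

theorem F4 : ∀ ω : Fin 4, ∀ t : Perm (Fin 4), t ω = ω →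
    sign t = 1 ∨ ∃ c, c ≠ ω ∧ t c = c ∧ ∀ i, i ≠ ω → t i = i → i = c := by
  decide

/-- In `S_4`, a nilpotent subgroup containing an element with a unique fixed point `ω` that moves
all other points fixes `ω` and consists of even permutations. -/
theorem s4_nilpotent_even (x : Perm (Fin 4)) (ω : Fin 4) (hxω : ∀ i, x i = i ↔ i = ω)
    (A : Subgroup (Perm (Fin 4))) [Group.IsNilpotent A] (hxA : x ∈ A) :
    (∀ t ∈ A, t ω = ω) ∧ A ≤ alternatingGroup (Fin 4) := by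
  have hfix : ∀ t ∈ A, t • ω = ω :=
    nilpotent_fixes_unique_fixed A (fun _ => True) (fun _ _ _ _ => trivial) hxA trivial
      ((hxω ω).mpr rfl) (fun i _ hi => (hxω i).mp hi)
  refine ⟨hfix, ?_⟩
  intro t ht
  rw [mem_alternatingGroup]
  rcases F4 ω t (hfix t ht) with h | ⟨c, hcω, htc, hc⟩
  · exact h
  · exfalso
    have hfix2 : ∀ g ∈ A, g • c = c := by
      refine nilpotent_fixes_unique_fixed A (fun i => i ≠ ω) ?_ ht hcω htc ?_
      · intro g hg i hi hgi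
        apply hi
        have h1 : g • i = g • ω := by rw [hgi, hfix g hg]
        exact MulAction.injective g h1
      · intro i hi hti
        exact hc i hi hti
    have := hfix2 x hxA
    exact hcω ((hxω c).mp this)

theorem symm_four (𝓐 : Finset (Subgroup (Perm (Fin 4))))
    (hprop : ∀ A ∈ 𝓐, A ≠ ⊤) (hcov : ∀ g : Perm (Fin 4), ∃ A ∈ 𝓐, g ∈ A)
    (hmin : ∀ 𝓑 : Finset (Subgroup (Perm (Fin 4))),
      (∀ A ∈ 𝓑, A ≠ ⊤) ∧ (∀ g : Perm (Fin 4), ∃ A ∈ 𝓑, g ∈ A) → 𝓐.card ≤ 𝓑.card)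
    (hnil : ∀ A ∈ 𝓐, Group.IsNilpotent A) : False := by
  set x₁ : Perm (Fin 4) := swap 0 1 * swap 0 2 with hx₁
  set x₂ : Perm (Fin 4) := swap 0 1 * swap 0 3 with hx₂
  have h1 : ∀ i, x₁ i = i ↔ i = 3 := by decide
  have h2 : ∀ i, x₂ i = i ↔ i = 2 := by decide
  obtain ⟨A, hA, hxA⟩ := hcov x₁
  obtain ⟨B, hB, hxB⟩ := hcov x₂
  have := hnil A hA
  have := hnil B hB
  obtain ⟨hAfix, hAalt⟩ := s4_nilpotent_even x₁ 3 h1 A hxA
  obtain ⟨-, hBalt⟩ := s4_nilpotent_even x₂ 2 h2 B hxB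
  have htop : alternatingGroup (Fin 4) ≠ ⊤ := by
    intro h
    have h3 : swap (0 : Fin 4) 1 ∈ alternatingGroup (Fin 4) := by rw [h]; trivial
    rw [mem_alternatingGroup] at h3
    revert h3
    decide
  have hAB : A = B := minCover_eq_of_le_proper 𝓐 hprop hcov hmin hA hB htop hAalt hBalt
  have h3 := hAfix x₂ (hAB ▸ hxB)
  revert h3
  decide

/-! ### The special case `A_5` -/

set_option maxRecDepth 100000 in
theorem F5 : ∀ p q : Fin 5, p ≠ q → ∀ t : Perm (Fin 5), sign t = 1 → (t p = p ∨ t p = q) →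
    (t q = p ∨ t q = q) →
    (t p = p ∧ t q = q) ∨ ∃ c, c ≠ p ∧ c ≠ q ∧ t c = c ∧ ∀ i, t i = i → i = c := by
  decide

open scoped Pointwise in
/-- In `A_5`, a nilpotent subgroup containing a 3-cycle fixes both fixed points of the 3-cycle. -/
theorem a5_nilpotent_fix (x : Perm (Fin 5)) (hx3 : x.IsThreeCycle) (p q : Fin 5) (hpq : p ≠ q)
    (hxfix : ∀ i, x i = i ↔ i = p ∨ i = q) (hxe : x ∈ alternatingGroup (Fin 5))
    (A : Subgroup (alternatingGroup (Fin 5))) [Group.IsNilpotent A]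
    (hxA : (⟨x, hxe⟩ : alternatingGroup (Fin 5)) ∈ A) :
    ∀ t ∈ A, (t : Perm (Fin 5)) p = p ∧ (t : Perm (Fin 5)) q = q := by
  have hsupp : (x.supportᶜ : Finset (Fin 5)) = {p, q} := by
    ext i
    rw [Finset.mem_compl, mem_support, not_not, hxfix i]
    simp
  have hle := nilpotent_le_stabilizer_of_cycle (G := alternatingGroup (Fin 5)) A hx3.isCycle
    (by rw [hx3.card_support]; simp) (gx := ⟨x, hxe⟩) (fun i => rfl) hxA
  rw [hsupp] at hle
  intro t ht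
  have hstab := hle ht
  rw [MulAction.mem_stabilizer_iff] at hstab
  have hp : (t : Perm (Fin 5)) p = p ∨ (t : Perm (Fin 5)) p = q := by
    have : t • p ∈ t • ({p, q} : Finset (Fin 5)) :=
      Finset.smul_mem_smul_finset (by simp)
    rw [hstab, Finset.mem_insert, Finset.mem_singleton] at this
    exact this
  have hq : (t : Perm (Fin 5)) q = p ∨ (t : Perm (Fin 5)) q = q := by
    have : t • q ∈ t • ({p, q} : Finset (Fin 5)) :=
      Finset.smul_mem_smul_finset (by simp)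
    rw [hstab, Finset.mem_insert, Finset.mem_singleton] at this
    exact this
  rcases F5 p q hpq t (mem_alternatingGroup.mp t.2) hp hq with h | ⟨c, hcp, hcq, htc, hc⟩
  · exact h
  · exfalso
    have hfix : ∀ g ∈ A, g • c = c :=
      nilpotent_fixes_unique_fixed A (fun _ => True) (fun _ _ _ _ => trivial) ht trivial
        htc (fun i _ hi => hc i hi)
    have h1 : x c = c := hfix _ hxA
    rcases (hxfix c).mp h1 with h | h
    · exact hcp h
    · exact hcq h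

theorem alt_five (𝓐 : Finset (Subgroup (alternatingGroup (Fin 5))))
    (hprop : ∀ A ∈ 𝓐, A ≠ ⊤) (hcov : ∀ g : alternatingGroup (Fin 5), ∃ A ∈ 𝓐, g ∈ A)
    (hmin : ∀ 𝓑 : Finset (Subgroup (alternatingGroup (Fin 5))),
      (∀ A ∈ 𝓑, A ≠ ⊤) ∧ (∀ g : alternatingGroup (Fin 5), ∃ A ∈ 𝓑, g ∈ A) → 𝓐.card ≤ 𝓑.card)
    (hnil : ∀ A ∈ 𝓐, Group.IsNilpotent A) : False := by
  set x₁ : Perm (Fin 5) := swap 0 1 * swap 0 2 with hx₁
  set x₂ : Perm (Fin 5) := swap 0 1 * swap 0 3 with hx₂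
  have h31 : x₁.IsThreeCycle :=
    isThreeCycle_swap_mul_swap_same (by decide) (by decide) (by decide)
  have h32 : x₂.IsThreeCycle :=
    isThreeCycle_swap_mul_swap_same (by decide) (by decide) (by decide)
  have h1 : ∀ i, x₁ i = i ↔ i = 3 ∨ i = 4 := by decide
  have h2 : ∀ i, x₂ i = i ↔ i = 2 ∨ i = 4 := by decide
  have he1 : x₁ ∈ alternatingGroup (Fin 5) := h31.mem_alternatingGroup
  have he2 : x₂ ∈ alternatingGroup (Fin 5) := h32.mem_alternatingGroup
  obtain ⟨A, hA, hxA⟩ := hcov ⟨x₁, he1⟩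
  obtain ⟨B, hB, hxB⟩ := hcov ⟨x₂, he2⟩
  have := hnil A hA
  have := hnil B hB
  have hAfix := a5_nilpotent_fix x₁ h31 3 4 (by decide) h1 he1 A hxA
  have hBfix := a5_nilpotent_fix x₂ h32 2 4 (by decide) h2 he2 B hxB
  set M : Subgroup (alternatingGroup (Fin 5)) :=
    MulAction.stabilizer (alternatingGroup (Fin 5)) (4 : Fin 5) with hM
  have hAM : A ≤ M := fun t ht => MulAction.mem_stabilizer_iff.mpr (hAfix t ht).2
  have hBM : B ≤ M := fun t ht => MulAction.mem_stabilizer_iff.mpr (hBfix t ht).2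
  have htop : M ≠ ⊤ := by
    intro h
    have h34 : (swap (0 : Fin 5) 4 * swap 0 1).IsThreeCycle :=
      isThreeCycle_swap_mul_swap_same (by decide) (by decide) (by decide)
    have h3 : (⟨_, h34.mem_alternatingGroup⟩ : alternatingGroup (Fin 5)) ∈ M := by
      rw [h]; trivial
    rw [hM, MulAction.mem_stabilizer_iff] at h3
    have h4 : (swap (0 : Fin 5) 4 * swap 0 1 : Perm (Fin 5)) 4 = 4 := h3
    revert h4
    decide
  have hAB : A = B := minCover_eq_of_le_proper 𝓐 hprop hcov hmin hA hB htop hAM hBM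
  have h3 := (hAfix _ (hAB ▸ hxB)).1
  have h4 : x₂ 3 = 3 := h3
  revert h4
  decide

/-- A cover of a group is a finite set of proper subgroups whose union is the whole group; it is minimal when no cover has fewer members, and nilpotent when all its members are nilpotent. The alternating groups of degree at least 5 and the symmetric groups of degree at least 4 have no nilpotent minimal cover. -/
theorem result (n : ℕ) :
    (5 ≤ n → ¬ ∃ 𝓐 : Finset (Subgroup ↥(alternatingGroup (Fin n))), ((∀ A ∈ 𝓐, A ≠ ⊤) ∧ (∀ g : ↥(alternatingGroup (Fin n)), ∃ A ∈ 𝓐, g ∈ A)) ∧ (∀ 𝓑 : Finset (Subgroup ↥(alternatingGroup (Fin n))), (∀ A ∈ 𝓑, A ≠ ⊤) ∧ (∀ g : ↥(alternatingGroup (Fin n)), ∃ A ∈ 𝓑, g ∈ A) → 𝓐.card ≤ 𝓑.card) ∧ (∀ A ∈ 𝓐, Group.IsNilpotent ↥A)) ∧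
    (4 ≤ n → ¬ ∃ 𝓐 : Finset (Subgroup (Equiv.Perm (Fin n))), ((∀ A ∈ 𝓐, A ≠ ⊤) ∧ (∀ g : (Equiv.Perm (Fin n)), ∃ A ∈ 𝓐, g ∈ A)) ∧ (∀ 𝓑 : Finset (Subgroup (Equiv.Perm (Fin n))), (∀ A ∈ 𝓑, A ≠ ⊤) ∧ (∀ g : (Equiv.Perm (Fin n)), ∃ A ∈ 𝓑, g ∈ A) → 𝓐.card ≤ 𝓑.card) ∧ (∀ A ∈ 𝓐, Group.IsNilpotent ↥A)) := by
  constructor
  · rintro hn ⟨𝓐, ⟨hprop, hcov⟩, hmin, hnil⟩
    rcases Nat.lt_or_ge n 6 with h | h
    · obtain rfl : n = 5 := by omega
      exact alt_five 𝓐 hprop hcov hmin hnil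
    · exact alt_ge_six n h 𝓐 hprop hcov hmin hnil
  · rintro hn ⟨𝓐, ⟨hprop, hcov⟩, hmin, hnil⟩
    rcases Nat.lt_or_ge n 5 with h | h
    · obtain rfl : n = 4 := by omega
      exact symm_four 𝓐 hprop hcov hmin hnil
    · exact symm_ge_five n h 𝓐 hprop hcov hmin hnil

end Cfsg.Agent.S3892
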