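import Cfsg.Statements.S3895
import Cfsg.Agent.Lib.Helper67.IsoFusion

set_option autoImplicit false
open Cfsg

namespace Cfsg.Agent.S3895

open Cfsg.Agent.Helper67.IsoFusion

/-- the classes of `2`-elements are exactly the classes meeting a Sylow `2`-subgroup -/
theorem two_classes_eq_fus {G : Type*} [Group G] [Finite G] (P : Sylow 2 G) :
    {c : ConjClasses G | ∀ x ∈ c.carrier, ∃ k : ℕ, orderOf x = 2 ^ k} = fus (P : Subgroup G) := by
  ext c
  constructor
  · intro hc
    obtain ⟨g, rfl⟩ := ConjClasses.mk_surjective c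
    obtain ⟨k, hk⟩ := hc g ConjClasses.mem_carrier_mk
    have hpg : IsPGroup 2 (Subgroup.zpowers g) :=
      IsPGroup.of_card (n := k) (by rw [Nat.card_zpowers, hk])
    obtain ⟨Q, hQ⟩ := hpg.exists_le_sylow
    obtain ⟨h, hh⟩ := MulAction.exists_smul_eq G P Q
    have hgQ : g ∈ (Q : Subgroup G) := hQ (Subgroup.mem_zpowers g)
    rw [← hh, Sylow.coe_subgroup_smul, Subgroup.mem_pointwise_smul_iff_inv_smul_mem] at hgQ
    have h1 : (MulAut.conj h)⁻¹ • g = h⁻¹ * g * h := by
      rw [MulAut.smul_def, MulAut.conj_inv_apply]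
    rw [h1] at hgQ
    refine mem_fus.mpr ⟨h⁻¹ * g * h, hgQ, ?_⟩
    have := mk_conj_eq h⁻¹ g
    rwa [inv_inv] at this
  · intro hc
    obtain ⟨y, hy, rfl⟩ := mem_fus.mp hc
    intro x hx
    rw [ConjClasses.mem_carrier_iff_mk_eq, ConjClasses.mk_eq_mk_iff_isConj, isConj_iff] at hx
    obtain ⟨g, rfl⟩ := hx
    obtain ⟨j, hj⟩ := P.2 ⟨g * x * g⁻¹, hy⟩
    have hj' : (g * x * g⁻¹) ^ 2 ^ j = 1 := by
      have := congrArg Subtype.val hj
      simpa using this
    have h1 : orderOf (g * x * g⁻¹) = orderOf x := by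
      have := (MulAut.conj g).orderOf_eq x
      rwa [MulAut.conj_apply] at this
    have h2 : orderOf x ∣ 2 ^ j := by
      rw [← h1]; exact orderOf_dvd_of_pow_eq_one hj'
    obtain ⟨m, -, hm⟩ := (Nat.dvd_prime_pow Nat.prime_two).mp h2
    exact ⟨m, hm⟩

/-- Let G be a finite group with Sylow 2-subgroup P, and write k₂(G) for the number of conjugacy classes of G consisting of 2-elements (elements of 2-power order, the identity included). Then k₂(G) > |P|/2 if and only if G has a normal 2-complement and P has more than |P|/2 conjugacy classes. -/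
theorem result {G : Type*} [Group G] [Finite G] (P : Sylow 2 G) :
    Nat.card ↥(P : Subgroup G) < 2 * Nat.card {c : ConjClasses G // ∀ x ∈ c.carrier, ∃ k : ℕ, orderOf x = 2 ^ k} ↔
      Cfsg.HasNormalPComplement 2 G ∧ Nat.card ↥(P : Subgroup G) < 2 * Nat.card (ConjClasses ↥(P : Subgroup G)) := by
  have hset := two_classes_eq_fus P
  have hcard : Nat.card {c : ConjClasses G // ∀ x ∈ c.carrier, ∃ k : ℕ, orderOf x = 2 ^ k} =
      Nat.card (fus (P : Subgroup G)) := by
    show Nat.card ↥{c : ConjClasses G | ∀ x ∈ c.carrier, ∃ k : ℕ, orderOf x = 2 ^ k} = _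
    rw [hset]
  rw [hcard]
  have hrange : fus (P : Subgroup G) = Set.range (ConjClasses.map (P : Subgroup G).subtype) := by
    ext c
    constructor
    · rintro ⟨y, rfl⟩
      exact ⟨ConjClasses.mk y, rfl⟩
    · rintro ⟨d, rfl⟩
      obtain ⟨y, rfl⟩ := ConjClasses.mk_surjective d
      exact ⟨y, rfl⟩
  have hle : Nat.card (fus (P : Subgroup G)) ≤ Nat.card (ConjClasses (P : Subgroup G)) := by
    rw [hrange]; exact Finite.card_range_le _
  constructor
  · intro h
    exact ⟨npc_of_many_classes _ G P rfl h, by omega⟩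
  · rintro ⟨hnpc, h⟩
    have hinj : Function.Injective (ConjClasses.map (P : Subgroup G).subtype) := by
      intro c d hcd
      obtain ⟨a, rfl⟩ := ConjClasses.mk_surjective c
      obtain ⟨b, rfl⟩ := ConjClasses.mk_surjective d
      have h1 : ConjClasses.mk (a : G) = ConjClasses.mk (b : G) := hcd
      rw [ConjClasses.mk_eq_mk_iff_isConj, isConj_iff] at h1
      obtain ⟨g, hg⟩ := h1
      obtain ⟨u, hu, hue⟩ := conj_of_npc P hnpc a a.2 g (by rw [hg]; exact b.2)
      rw [ConjClasses.mk_eq_mk_iff_isConj, isConj_iff]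
      refine ⟨⟨u, hu⟩, Subtype.ext ?_⟩
      show u * (a : G) * u⁻¹ = b
      rw [hue, hg]
    have : Nat.card (fus (P : Subgroup G)) = Nat.card (ConjClasses (P : Subgroup G)) := by
      rw [hrange]; exact Nat.card_range_of_injective hinj
    omega

end Cfsg.Agent.S3895
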