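import Cfsg.Statements.S3897
import Mathlib
import Cfsg.Agent.Lib.Helper45.PClasses

set_option autoImplicit false
open Cfsg

namespace Cfsg.Agent.S3897

open Subgroup Cfsg.Agent.Helper45.PCl
open scoped Pointwise

/-- if `G` has a normal `p`-complement and abelian Sylow `p`-subgroups then there are at least
`|P|` classes of `p`-elements -/
theorem card_le_of_complement {G : Type*} [Group G] [Finite G] {p : ℕ} [hp : Fact p.Prime]
    (P' : Sylow p G) (N₀ : Subgroup G) (hN₀ : N₀.Normal) (hc : N₀.IsComplement' (P' : Subgroup G))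
    (hab : ∀ a ∈ (P' : Subgroup G), ∀ b ∈ (P' : Subgroup G), a * b = b * a) :
    Nat.card (P' : Subgroup G) ≤ Nat.card (PClass p G) := by
  apply Nat.card_le_card_of_injective
    (fun x : (P' : Subgroup G) => (⟨ConjClasses.mk (x : G), pclass_mk_prop P' x.2⟩ : PClass p G))
  intro x y hxy
  have h1 : ConjClasses.mk (x : G) = ConjClasses.mk (y : G) := congrArg Subtype.val hxy
  rw [ConjClasses.mk_eq_mk_iff_isConj, isConj_iff] at h1
  obtain ⟨g, hg⟩ := h1
  -- g = n * u
  have hprod : (g : G) ∈ ((N₀ : Set G) * ((P' : Subgroup G) : Set G)) := by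
    rw [hc.mul_eq]; trivial
  obtain ⟨n, hn, u, hu, rfl⟩ := hprod
  -- n x n⁻¹ = y
  have h2 : n * x * n⁻¹ = y := by
    have hux : u * x * u⁻¹ = x := by
      rw [hab u hu x x.2]; group
    calc n * x * n⁻¹ = n * (u * x * u⁻¹) * n⁻¹ := by rw [hux]
      _ = (n * u) * x * (n * u)⁻¹ := by group
      _ = y := hg
  -- y x⁻¹ ∈ N₀ ∩ P'
  have h3 : (y : G) * (x : G)⁻¹ ∈ N₀ := by
    rw [← h2]
    have : n * x * n⁻¹ * (x : G)⁻¹ = n * ((x : G) * n⁻¹ * (x : G)⁻¹) := by group
    rw [this]
    exact N₀.mul_mem hn (hN₀.conj_mem _ (N₀.inv_mem hn) _)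
  have h4 : (y : G) * (x : G)⁻¹ ∈ (P' : Subgroup G) := mul_mem y.2 (inv_mem x.2)
  have h5 : (y : G) * (x : G)⁻¹ = 1 := by
    have hd := hc.disjoint
    rw [Subgroup.disjoint_def] at hd
    exact hd h3 h4
  apply Subtype.ext
  have : (y : G) = x := by
    calc (y : G) = (y * (x : G)⁻¹) * x := by group
      _ = x := by rw [h5, one_mul]
  exact this.symm

/-- Let p be an odd prime and G a finite group with Sylow p-subgroup P, and write k_p(G) for the number of conjugacy classes of G consisting of p-elements (elements of p-power order, the identity included). Then k_p(G) > (p + 1)|P|/(2p) if and only if G has a normal p-complement and P is abelian. -/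
theorem result {G : Type*} [Group G] [Finite G] {p : ℕ} [Fact p.Prime] (hp : p ≠ 2) (P : Sylow p G) :
    (p + 1) * Nat.card ↥(P : Subgroup G) < 2 * p * Nat.card {c : ConjClasses G // ∀ x ∈ c.carrier, ∃ k : ℕ, orderOf x = p ^ k} ↔
      Cfsg.HasNormalPComplement p G ∧ IsMulCommutative ↥(P : Subgroup G) := by
  constructor
  · intro h
    have hP : normalizer ((P : Subgroup G) : Set G) ≤ centralizer ((P : Subgroup G) : Set G) := by
      by_contra hN
      have := two_p_mul_card_le P hN
      exact absurd h (not_lt.mpr this)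
    refine ⟨⟨P, (MonoidHom.transferSylow P hP).ker, inferInstance,
      MonoidHom.ker_transferSylow_isComplement' P hP⟩, ?_⟩
    exact ⟨⟨fun a b => Subtype.ext (hP (le_normalizer b.2) a a.2)⟩⟩
  · rintro ⟨⟨P', N₀, hN₀, hc⟩, hcomm⟩
    -- P' is abelian as a conjugate of P
    obtain ⟨g, hg⟩ := MulAction.exists_smul_eq G P P'
    have hab : ∀ a ∈ (P' : Subgroup G), ∀ b ∈ (P' : Subgroup G), a * b = b * a := by
      intro a ha b hb
      rw [← hg, Sylow.smul_def, Sylow.pointwise_smul_def] at ha hb
      rw [Subgroup.mem_pointwise_smul_iff_inv_smul_mem] at ha hb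
      have h1 := hcomm.is_comm.comm ⟨_, ha⟩ ⟨_, hb⟩
      have h2 : ((MulAut.conj g)⁻¹ • a) * ((MulAut.conj g)⁻¹ • b) =
          ((MulAut.conj g)⁻¹ • b) * ((MulAut.conj g)⁻¹ • a) := congrArg Subtype.val h1
      rw [← smul_mul', ← smul_mul'] at h2
      exact smul_left_cancel _ h2
    have hle := card_le_of_complement P' N₀ hN₀ hc hab
    have hcard : Nat.card (P' : Subgroup G) = Nat.card (P : Subgroup G) := by
      rw [Sylow.card_eq_multiplicity, Sylow.card_eq_multiplicity]
    rw [hcard] at hle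
    have hpos : 0 < Nat.card (P : Subgroup G) := Nat.card_pos
    have hp2 : 2 ≤ p := (Fact.out : p.Prime).two_le
    calc (p + 1) * Nat.card ↥(P : Subgroup G) < 2 * p * Nat.card ↥(P : Subgroup G) := by
          apply Nat.mul_lt_mul_of_pos_right _ hpos
          omega
      _ ≤ _ := Nat.mul_le_mul_left _ hle

end Cfsg.Agent.S3897
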