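import Cfsg.Statements.S3898
import Mathlib
import Cfsg.Agent.S3895
import Cfsg.Agent.Lib.Helper35.PiCount
import Cfsg.Agent.Lib.Helper45.PiAssembly

set_option autoImplicit false
open Cfsg

namespace Cfsg.Agent.S3898

open Subgroup Cfsg.Agent.Helper35.PiS Cfsg.Agent.Helper35.PiC Cfsg.Agent.Helper45.PCl
open Cfsg.Agent.S4106 (B)

/-- Let π be a finite set of primes containing 2 and G a finite group. Write k_π(G) for the number of conjugacy classes of G consisting of π-elements (elements all of whose order's prime divisors lie in π) and |G|_π for the π-part of the order of G. If k_π(G) > |G|_π/2, then G has a normal π-complement (a normal subgroup of order prime to π whose index is a π-number) and an abelian Hall subgroup for the set of odd primes in π. -/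
theorem result {G : Type*} [Group G] [Finite G] (π : Finset ℕ) (hπ : ∀ r ∈ π, r.Prime) (h2 : 2 ∈ π)
    (hk : π.prod (fun r => r ^ (Nat.card G).factorization r) < 2 * Nat.card {c : ConjClasses G // ∀ x ∈ c.carrier, ∀ r : ℕ, r.Prime → r ∣ orderOf x → r ∈ π}) :
    (∃ N : Subgroup G, N.Normal ∧ (∀ r : ℕ, r.Prime → r ∣ Nat.card ↥N → r ∉ π) ∧ ∀ r : ℕ, r.Prime → r ∣ N.index → r ∈ π) ∧ ∃ H : Subgroup G, Cfsg.IsPiHall ((↑π : Set ℕ) \ {2}) H ∧ IsMulCommutative ↥H := by
  classical
  set n := Nat.card G with hn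
  set k := Nat.card {c : ConjClasses G // ∀ x ∈ c.carrier, ∀ r : ℕ, r.Prime → r ∣ orderOf x → r ∈ π}
    with hkdef
  have hk' : B π n < 2 * k := hk
  have hS2 : ∀ q ∈ π.erase 2, q.Prime := fun q hq => hπ q (Finset.mem_of_mem_erase hq)
  -- Step 1: G is 2-nilpotent
  have h2nil : HasNormalPComplement 2 G := by
    obtain ⟨P⟩ : Nonempty (Sylow 2 G) := inferInstance
    have h1 : k ≤ B (π.erase 2) n * Nat.card (PClass 2 G) := kpi_le_two (G := G) π hπ h2
    have hB : B π n = 2 ^ n.factorization 2 * B (π.erase 2) n := by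
      have := B_insert 2 (π.erase 2) (Finset.notMem_erase 2 π) n
      rwa [Finset.insert_erase h2] at this
    have hBpos : 0 < B (π.erase 2) n := B_pos _ hS2 n
    have h3 : Nat.card (P : Subgroup G) < 2 * Nat.card (PClass 2 G) := by
      rw [P.card_eq_multiplicity]
      by_contra hcon
      push Not at hcon
      have : 2 * k ≤ B π n := by
        calc 2 * k ≤ 2 * (B (π.erase 2) n * Nat.card (PClass 2 G)) := Nat.mul_le_mul_left _ h1
          _ = B (π.erase 2) n * (2 * Nat.card (PClass 2 G)) := by ring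
          _ ≤ B (π.erase 2) n * 2 ^ n.factorization 2 := Nat.mul_le_mul_left _ hcon
          _ = B π n := by rw [hB]; ring
      omega
    exact ((Cfsg.Agent.S3895.result P).mp h3).1
  -- Step 2: the normal 2-complement
  obtain ⟨K₀, hK₀n, hK₀odd, ⟨j, hj⟩, -⟩ :=
    Cfsg.Agent.Helper45.PiAsm.data_of_hasNormalPComplement 2 Nat.prime_two h2nil
  have hv : n.factorization 2 = j := by
    have h := K₀.card_mul_index
    rw [hj] at h
    rw [hn, ← h, Nat.factorization_mul Nat.card_pos.ne' (by positivity), Finsupp.add_apply,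
      Nat.factorization_eq_zero_of_not_dvd hK₀odd, zero_add, Nat.factorization_pow,
      Finsupp.smul_apply, Nat.Prime.factorization_self Nat.prime_two, smul_eq_mul, mul_one]
  have hK₀idx : K₀.index = 2 ^ (Nat.card G).factorization 2 := by rw [hj, ← hn, hv]
  -- Step 3: N = C for odd primes
  have hmain : ∀ r ∈ π, r ≠ 2 → ∀ (hr : Fact r.Prime) (Q : Sylow r G), mIdx Q = 1 := by
    intro r hrπ hr2 hr Q
    by_contra hm
    have h1 := orbSum_le hr2 Q hm K₀ hK₀odd hK₀idx
    have h2' : k ≤ B ((π.erase r).erase 2) n * orbSum Q := kpi_le_odd π hπ h2 r hrπ hr2 Q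
    have h2S' : 2 ∈ π.erase r := Finset.mem_erase.mpr ⟨fun h => hr2 h.symm, h2⟩
    have hB1 : B π n = r ^ n.factorization r * B (π.erase r) n := by
      have := B_insert r (π.erase r) (Finset.notMem_erase r π) n
      rwa [Finset.insert_erase hrπ] at this
    have hB2 : B (π.erase r) n = 2 ^ n.factorization 2 * B ((π.erase r).erase 2) n := by
      have := B_insert 2 ((π.erase r).erase 2) (Finset.notMem_erase 2 _) n
      rwa [Finset.insert_erase h2S'] at this
    rw [Q.card_eq_multiplicity] at h1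
    have : 2 * k ≤ B π n := by
      calc 2 * k ≤ 2 * (B ((π.erase r).erase 2) n * orbSum Q) := Nat.mul_le_mul_left _ h2'
        _ = B ((π.erase r).erase 2) n * (2 * orbSum Q) := by ring
        _ ≤ B ((π.erase r).erase 2) n * (2 ^ n.factorization 2 * r ^ n.factorization r) :=
            Nat.mul_le_mul_left _ h1
        _ = B π n := by rw [hB1, hB2]; ring
    omega
  -- Step 4: p-nilpotency and abelian Sylow subgroups
  have hnil : ∀ r ∈ π, HasNormalPComplement r G := by
    intro r hrπ
    by_cases hr2 : r = 2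
    · subst hr2; exact h2nil
    · haveI hr : Fact r.Prime := ⟨hπ r hrπ⟩
      obtain ⟨Q⟩ : Nonempty (Sylow r G) := inferInstance
      have hP := (mIdx_eq_one_iff Q).mp (hmain r hrπ hr2 hr Q)
      exact ⟨Q, (MonoidHom.transferSylow Q hP).ker, inferInstance,
        MonoidHom.ker_transferSylow_isComplement' Q hP⟩
  have hab : ∀ r ∈ π.erase 2, ∀ Q : Sylow r G, IsMulCommutative Q := by
    intro r hr Q
    have hrπ : r ∈ π := Finset.mem_of_mem_erase hr
    have hr2 : r ≠ 2 := Finset.ne_of_mem_erase hr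
    haveI hrp : Fact r.Prime := ⟨hπ r hrπ⟩
    have hP := (mIdx_eq_one_iff Q).mp (hmain r hrπ hr2 hrp Q)
    exact ⟨⟨fun a b => Subtype.ext (hP (le_normalizer b.2) a a.2)⟩⟩
  -- Step 5: assembly
  refine ⟨Cfsg.Agent.Helper45.PiAsm.exists_normal_pi_complement π hπ hnil, ?_⟩
  obtain ⟨H, hH, hHc⟩ := Cfsg.Agent.Helper45.PiAsm.exists_abelian_hall (π.erase 2) hS2
    (fun r hr => hnil r (Finset.mem_of_mem_erase hr)) hab
  refine ⟨H, ?_, hHc⟩
  rwa [Finset.coe_erase] at hH

end Cfsg.Agent.S3898
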