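import Cfsg.Statements.S3899
import Mathlib
import Cfsg.Agent.Lib.Helper45.PiClasses

set_option autoImplicit false
open Cfsg

namespace Cfsg.Agent.S3899

open Subgroup Cfsg.Agent.Helper45.PCl

/-- the local data at one prime `r ∈ π` -/
theorem local_complement {G : Type*} [Group G] [Finite G] (π : Finset ℕ) (hπ : ∀ r ∈ π, r.Prime)
    (p : ℕ) (hp : p ∈ π) (hmin : ∀ r ∈ π, p ≤ r)
    (hk : (p + 1) * π.prod (fun r => r ^ (Nat.card G).factorization r) <
      2 * p * Nat.card (KCl π G)) (r : ℕ) (hr : r ∈ π) :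
    ∃ K : Subgroup G, K.Normal ∧ ¬ r ∣ Nat.card K ∧ (∃ j : ℕ, K.index = r ^ j) ∧
      ∀ a b : G, a * b * a⁻¹ * b⁻¹ ∈ K := by
  have hrp : r.Prime := hπ r hr
  have hpp : p.Prime := hπ p hp
  haveI : Fact r.Prime := ⟨hrp⟩
  obtain ⟨R⟩ : Nonempty (Sylow r G) := inferInstance
  set T := ∏ s ∈ π.erase r, s ^ (Nat.card G).factorization s with hT
  have hTpos : 0 < T := Finset.prod_pos (fun s hs => pow_pos (hπ s (Finset.mem_of_mem_erase hs)).pos _)
  have hprod : π.prod (fun r => r ^ (Nat.card G).factorization r) =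
      r ^ (Nat.card G).factorization r * T := (Finset.mul_prod_erase π _ hr).symm
  -- k_π ≤ k_r * T
  have hM : ∀ x : G, Nat.card (KCl (π.erase r) ↥(centralizer ({x} : Set G))) ≤ T := by
    intro x
    refine (card_KCl_le (π.erase r) (fun s hs => hπ s (Finset.mem_of_mem_erase hs))
      ↥(centralizer ({x} : Set G))).trans ?_
    apply Finset.prod_le_prod'
    intro s hs
    apply Nat.pow_le_pow_right (hπ s (Finset.mem_of_mem_erase hs)).pos
    have hdvd : Nat.card ↥(centralizer ({x} : Set G)) ∣ Nat.card G := Subgroup.card_subgroup_dvd_card _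
    exact (Nat.factorization_le_iff_dvd Nat.card_pos.ne' Nat.card_pos.ne').2 hdvd s
  have hkr := card_KCl_le_mul (G := G) r π hr T hM
  -- (r+1) |R| < 2 r k_r
  have hS : Nat.card (R : Subgroup G) = r ^ (Nat.card G).factorization r := Sylow.card_eq_multiplicity R
  have hlt : (r + 1) * Nat.card (R : Subgroup G) < 2 * r * Nat.card (PClass r G) := by
    rw [hS]
    set S := r ^ (Nat.card G).factorization r with hSdef
    set kr := Nat.card (PClass r G) with hkrdef
    have h1 : (p + 1) * (S * T) < 2 * p * (kr * T) := by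
      calc (p + 1) * (S * T) = (p + 1) * π.prod (fun r => r ^ (Nat.card G).factorization r) := by rw [hprod]
        _ < 2 * p * Nat.card (KCl π G) := hk
        _ ≤ 2 * p * (kr * T) := Nat.mul_le_mul_left _ hkr
    have h2 : (p + 1) * S < 2 * p * kr := by
      have : ((p + 1) * S) * T < (2 * p * kr) * T := by
        calc ((p + 1) * S) * T = (p + 1) * (S * T) := by ring
          _ < 2 * p * (kr * T) := h1
          _ = (2 * p * kr) * T := by ring
      exact Nat.lt_of_mul_lt_mul_right this
    have hpr : p ≤ r := hmin r hr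
    have hppos : 0 < p := hpp.pos
    have h3 : ((r + 1) * S) * p < (2 * r * kr) * p := by
      calc ((r + 1) * S) * p = (r * p + p) * S := by ring
        _ ≤ (p * r + r) * S := by
            apply Nat.mul_le_mul_right
            nlinarith
        _ = ((p + 1) * S) * r := by ring
        _ < (2 * p * kr) * r := Nat.mul_lt_mul_of_pos_right h2 hrp.pos
        _ = (2 * r * kr) * p := by ring
    exact Nat.lt_of_mul_lt_mul_right h3
  have hP : normalizer ((R : Subgroup G) : Set G) ≤ centralizer ((R : Subgroup G) : Set G) := by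
    by_contra hN
    have := two_p_mul_card_le R hN
    exact absurd hlt (not_lt.mpr this)
  have hc := MonoidHom.ker_transferSylow_isComplement' R hP
  refine ⟨(MonoidHom.transferSylow R hP).ker, inferInstance,
    MonoidHom.not_dvd_card_ker_transferSylow R hP, ⟨(Nat.card G).factorization r, ?_⟩, ?_⟩
  · rw [hc.symm.index_eq_card, hS]
  · intro a b
    rw [MonoidHom.mem_ker]
    have hcomm : ∀ u v : (R : Subgroup G), u * v = v * u :=
      fun u v => Subtype.ext (hP (le_normalizer v.2) u u.2)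
    simp only [map_mul, map_inv]
    rw [hcomm (MonoidHom.transferSylow R hP a) (MonoidHom.transferSylow R hP b)]
    group

/-- Let π be a finite non-empty set of odd primes with smallest member p and G a finite group. Write k_π(G) for the number of conjugacy classes of G consisting of π-elements (elements all of whose order's prime divisors lie in π) and |G|_π for the π-part of the order of G. If k_π(G) > (p + 1)|G|_π/(2p), then G has a normal π-complement (a normal subgroup of order prime to π whose index is a π-number) and an abelian Hall π-subgroup. -/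
theorem result {G : Type*} [Group G] [Finite G] (π : Finset ℕ) (hπ : ∀ r ∈ π, r.Prime) (h2 : 2 ∉ π) (p : ℕ) (hp : p ∈ π)
    (hmin : ∀ r ∈ π, p ≤ r) (hk : (p + 1) * π.prod (fun r => r ^ (Nat.card G).factorization r) < 2 * p * Nat.card {c : ConjClasses G // ∀ x ∈ c.carrier, ∀ r : ℕ, r.Prime → r ∣ orderOf x → r ∈ π}) :
    (∃ N : Subgroup G, N.Normal ∧ (∀ r : ℕ, r.Prime → r ∣ Nat.card ↥N → r ∉ π) ∧ ∀ r : ℕ, r.Prime → r ∣ N.index → r ∈ π) ∧ ∃ H : Subgroup G, Cfsg.IsPiHall (↑π : Set ℕ) H ∧ IsMulCommutative ↥H := by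
  have hloc := local_complement π hπ p hp hmin hk
  choose! K hK using hloc
  set N : Subgroup G := ⨅ r ∈ π, K r with hNdef
  have hmemN : ∀ g : G, g ∈ N ↔ ∀ r ∈ π, g ∈ K r := by
    intro g
    rw [hNdef]
    simp only [Subgroup.mem_iInf]
  have hNn : N.Normal := by
    refine ⟨fun n hn g => ?_⟩
    rw [hmemN] at hn ⊢
    intro r hr
    exact (hK r hr).1.conj_mem n (hn r hr) g
  have hNle : ∀ r ∈ π, N ≤ K r := fun r hr g hg => (hmemN g).1 hg r hr
  have hNcard : ∀ r : ℕ, r.Prime → r ∣ Nat.card ↥N → r ∉ π := by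
    intro r _ hrd hr
    exact (hK r hr).2.1 (hrd.trans (Subgroup.card_dvd_of_le (hNle r hr)))
  have hNidx : ∀ q : ℕ, q.Prime → q ∣ N.index → q ∈ π := by
    intro q hq hqd
    haveI : Fact q.Prime := ⟨hq⟩
    rw [Subgroup.index_eq_card] at hqd
    obtain ⟨x, hx⟩ := exists_prime_orderOf_dvd_card' q hqd
    obtain ⟨g, rfl⟩ := QuotientGroup.mk_surjective x
    have hgq : g ^ q ∈ N := by
      have : ((g ^ q : G) : G ⧸ N) = 1 := by
        rw [QuotientGroup.mk_pow, ← hx, pow_orderOf_eq_one]
      exact (QuotientGroup.eq_one_iff _).1 this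
    have hgN : g ∉ N := by
      intro h
      have : ((g : G) : G ⧸ N) = 1 := (QuotientGroup.eq_one_iff _).2 h
      rw [this, orderOf_one] at hx
      exact hq.one_lt.ne hx
    rw [hmemN] at hgN
    push Not at hgN
    obtain ⟨r, hr, hgr⟩ := hgN
    have hgqr : g ^ q ∈ K r := hNle r hr hgq
    haveI := (hK r hr).1
    have hy1 : ((g : G) : G ⧸ K r) ≠ 1 := fun h => hgr ((QuotientGroup.eq_one_iff _).1 h)
    have hyq : ((g : G) : G ⧸ K r) ^ q = 1 := by
      rw [← QuotientGroup.mk_pow]; exact (QuotientGroup.eq_one_iff _).2 hgqr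
    have hord : orderOf ((g : G) : G ⧸ K r) = q := by
      rcases (Nat.dvd_prime hq).1 (orderOf_dvd_of_pow_eq_one hyq) with h | h
      · exact absurd (orderOf_eq_one_iff.1 h) hy1
      · exact h
    obtain ⟨j, hj⟩ := (hK r hr).2.2.1
    have hdvd : q ∣ r ^ j := by
      rw [← hj, Subgroup.index_eq_card, ← hord]
      exact orderOf_dvd_natCard _
    have := (Nat.prime_dvd_prime_iff_eq hq (hπ r hr)).1 (hq.dvd_of_dvd_pow hdvd)
    rw [this]; exact hr
  refine ⟨⟨N, hNn, hNcard, hNidx⟩, ?_⟩
  have hcop : Nat.Coprime (Nat.card N) N.index :=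
    Nat.coprime_of_dvd (fun q hq h1 h2 => hNcard q hq h1 (hNidx q hq h2))
  haveI := hNn
  obtain ⟨H, hH⟩ := Subgroup.exists_right_complement'_of_coprime hcop
  refine ⟨H, ⟨?_, ?_⟩, ?_⟩
  · intro q hq hqd
    rw [← hH.symm.index_eq_card] at hqd
    exact Finset.mem_coe.2 (hNidx q hq hqd)
  · intro q hq hqπ hqd
    rw [hH.index_eq_card] at hqd
    exact hNcard q hq hqd (Finset.mem_coe.1 hqπ)
  · refine ⟨⟨fun a b => ?_⟩⟩
    apply Subtype.ext
    have h1 : (a : G) * b * (a : G)⁻¹ * (b : G)⁻¹ ∈ N := by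
      rw [hmemN]
      intro r hr
      exact (hK r hr).2.2.2 a b
    have h2 : (a : G) * b * (a : G)⁻¹ * (b : G)⁻¹ ∈ H :=
      H.mul_mem (H.mul_mem (H.mul_mem a.2 b.2) (H.inv_mem a.2)) (H.inv_mem b.2)
    have hd := hH.disjoint
    rw [Subgroup.disjoint_def] at hd
    have h3 := hd h1 h2
    show (a : G) * b = b * a
    calc (a : G) * b = ((a : G) * b * (a : G)⁻¹ * (b : G)⁻¹) * (b * a) := by group
      _ = b * a := by rw [h3, one_mul]

end Cfsg.Agent.S3899
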