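import Mathlib
import Cfsg.Statements.S3903
import Cfsg.Agent.S0556
import Cfsg.Agent.S4040

set_option autoImplicit false
set_option linter.style.haveILetI false
open Cfsg

namespace Cfsg.Agent.S3903

section Aux

variable {G : Type*} [Group G]

/-- membership in the centralizer of a singleton -/
theorem mem_cent {g w : G} : w ∈ Subgroup.centralizer ({g} : Set G) ↔ Commute g w := by
  rw [Subgroup.mem_centralizer_iff]
  constructor
  · intro h
    exact h g rfl
  · intro h k hk
    rw [Set.mem_singleton_iff] at hk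
    subst hk
    exact h

/-- If every element outside `N` has prime power order, the centralizer of an element outside
`N` is a `p`-group. -/
theorem cent_isPGroup [Finite G] (N : Subgroup G) {x : G} (hxN : x ∉ N)
    (h : ∀ y : G, y ∉ N → IsPrimePow (orderOf y)) :
    ∃ p : ℕ, p.Prime ∧ IsPGroup p (Subgroup.centralizer ({x} : Set G)) := by
  obtain ⟨p, k, hp, hk, hpk⟩ := (isPrimePow_nat_iff _).mp (h x hxN)
  refine ⟨p, hp, ?_⟩
  haveI : Fact p.Prime := ⟨hp⟩
  rw [IsPGroup.iff_card]
  refine ⟨_, Nat.eq_prime_pow_of_unique_prime_dvd Nat.card_pos.ne' ?_⟩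
  intro q hq hqd
  by_contra hne
  haveI : Fact q.Prime := ⟨hq⟩
  obtain ⟨y, hy⟩ := exists_prime_orderOf_dvd_card' q hqd
  have hyo : orderOf (y : G) = q := by rw [Subgroup.orderOf_coe]; exact hy
  have hcomm : Commute x (y : G) := mem_cent.mp y.2
  have hcop : (orderOf x).Coprime (orderOf (y : G)) := by
    rw [← hpk, hyo]
    exact Nat.Coprime.pow_left k ((Nat.coprime_primes hp hq).mpr (Ne.symm hne))
  have hord : orderOf (x * (y : G)) = orderOf x * orderOf (y : G) :=
    hcomm.orderOf_mul_eq_mul_orderOf_of_coprime hcop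
  have hxyN : x * (y : G) ∉ N := by
    intro hmem
    apply hxN
    have h1 : (x * (y : G)) ^ q = x ^ q := by
      rw [hcomm.mul_pow, ← hyo, pow_orderOf_eq_one, mul_one]
    have h2 : x ^ q ∈ N := h1 ▸ pow_mem hmem q
    have hcop2 : q.Coprime (orderOf x) := by
      rw [← hyo]; exact hcop.symm
    obtain ⟨m, hm⟩ := exists_pow_eq_self_of_coprime hcop2
    rw [← hm]
    exact pow_mem h2 m
  have hpp := h (x * (y : G)) hxyN
  rw [hord, ← hpk, hyo] at hpp
  obtain ⟨r, j, hr, hj, hrj⟩ := (isPrimePow_nat_iff _).mp hpp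
  have hpr : p ∣ r ^ j := by
    rw [hrj]; exact Dvd.dvd.mul_right (dvd_pow_self p hk.ne') q
  have hqr : q ∣ r ^ j := by
    rw [hrj]; exact Dvd.intro_left _ rfl
  have e1 : p = r := (Nat.prime_dvd_prime_iff_eq hp hr).mp (hp.dvd_of_dvd_pow hpr)
  have e2 : q = r := (Nat.prime_dvd_prime_iff_eq hq hr).mp (hq.dvd_of_dvd_pow hqr)
  exact hne (e2.trans e1.symm)

/-- The counting argument: if the centralizer of every element outside the proper subgroup `N` is
a Sylow `2`-subgroup, these centralizers are abelian. -/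
theorem abelian_of_count [Finite G] (N : Subgroup G) (hN : N ≠ ⊤) (x₀ : G) (hx₀ : x₀ ∉ N)
    (hS : ∀ x, x ∉ N → ∃ P : Sylow 2 G, (P : Subgroup G) = Subgroup.centralizer ({x} : Set G)) :
    ∀ a ∈ Subgroup.centralizer ({x₀} : Set G), ∀ b ∈ Subgroup.centralizer ({x₀} : Set G),
      a * b = b * a := by
  classical
  haveI : Fintype G := Fintype.ofFinite G
  haveI : Fact (Nat.Prime 2) := ⟨Nat.prime_two⟩
  haveI : Fintype (Sylow 2 G) := Fintype.ofFinite _
  obtain ⟨P₀, hP₀⟩ := hS x₀ hx₀
  let F : G → Sylow 2 G := fun y => if hy : y ∉ N then Classical.choose (hS y hy) else P₀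
  have hF : ∀ y (hy : y ∉ N), ((F y : Sylow 2 G) : Subgroup G) = Subgroup.centralizer ({y} : Set G) := by
    intro y hy
    simp only [F, dif_pos hy]
    exact Classical.choose_spec (hS y hy)
  let T : Finset G := Finset.univ.filter (fun y => y ∉ N)
  obtain ⟨z, hzdef⟩ : ∃ z : ℕ, z = Nat.card (Subgroup.center (P₀ : Subgroup G)) := ⟨_, rfl⟩
  have hz : ∀ P : Sylow 2 G, Nat.card (Subgroup.center (P : Subgroup G)) = z := by
    intro P
    obtain ⟨g, rfl⟩ := MulAction.exists_smul_eq G P₀ P
    rw [hzdef]
    exact (Nat.card_congr (Subgroup.centerCongr (Sylow.equivSMul P₀ g)).toEquiv).symm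
  have hfib : ∀ P ∈ T.image F, (T.filter (fun y => F y = P)).card ≤ z := by
    intro P _
    rw [← hz P]
    have hmemT : ∀ y ∈ T.filter (fun y => F y = P), y ∉ N ∧ F y = P := by
      intro y hy
      rw [Finset.mem_filter, Finset.mem_filter] at hy
      exact ⟨hy.1.2, hy.2⟩
    have hPeq : ∀ y ∈ T.filter (fun y => F y = P),
        (P : Subgroup G) = Subgroup.centralizer ({y} : Set G) := by
      intro y hy
      obtain ⟨h1, h2⟩ := hmemT y hy
      rw [← h2]
      exact hF y h1
    have hmemP : ∀ y ∈ T.filter (fun y => F y = P), y ∈ (P : Subgroup G) := by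
      intro y hy
      rw [hPeq y hy, mem_cent]
    have hcen : ∀ y (hy : y ∈ T.filter (fun y => F y = P)),
        (⟨y, hmemP y hy⟩ : (P : Subgroup G)) ∈ Subgroup.center (P : Subgroup G) := by
      intro y hy
      rw [Subgroup.mem_center_iff]
      intro w
      apply Subtype.ext
      have hw : (w : G) ∈ Subgroup.centralizer ({y} : Set G) := by
        rw [← hPeq y hy]; exact w.2
      have := mem_cent.mp hw
      exact this.symm
    have hc : (T.filter (fun y => F y = P)).card =
        Nat.card {y // y ∈ T.filter (fun y => F y = P)} := by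
      rw [Nat.card_eq_fintype_card, Fintype.card_coe]
    rw [hc]
    refine Nat.card_le_card_of_injective
      (fun y => (⟨⟨y.1, hmemP y.1 y.2⟩, hcen y.1 y.2⟩ : Subgroup.center (P : Subgroup G))) ?_
    intro a b hab
    apply Subtype.ext
    have := congrArg (fun t : Subgroup.center (P : Subgroup G) => ((t : (P : Subgroup G)) : G)) hab
    exact this
  have hcard := Finset.card_le_mul_card_image T z hfib
  -- |T| + |N| = |G|
  have hT : T.card + Nat.card N = Nat.card G := by
    have h1 := Finset.card_filter_add_card_filter_not (s := (Finset.univ : Finset G))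
      (fun y => y ∉ N)
    have h2 : (Finset.univ.filter (fun y : G => ¬ (y ∉ N))).card = Nat.card N := by
      rw [Nat.card_eq_fintype_card, Fintype.card_subtype]
      congr 1
      ext y
      simp
    rw [h2] at h1
    rw [Nat.card_eq_fintype_card (α := G)]
    exact h1
  have hidx : 2 * Nat.card N ≤ Nat.card G := by
    have h1 : N.index ≠ 1 := fun h => hN (Subgroup.index_eq_one.mp h)
    have h0 : N.index ≠ 0 := Subgroup.index_ne_zero_of_finite
    have h2 : 2 ≤ N.index := by omega
    calc 2 * Nat.card N ≤ N.index * Nat.card N := Nat.mul_le_mul_right _ h2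
      _ = Nat.card G := Subgroup.index_mul_card N
  have hsyl : Nat.card (Sylow 2 G) ≤ (P₀ : Subgroup G).index := by
    rw [Sylow.card_eq_index_normalizer P₀]
    exact Nat.le_of_dvd (Nat.pos_of_ne_zero Subgroup.index_ne_zero_of_finite)
      (Subgroup.index_dvd_of_le Subgroup.le_normalizer)
  have himg : (T.image F).card ≤ Nat.card (Sylow 2 G) := by
    rw [Nat.card_eq_fintype_card]
    exact Finset.card_le_univ _
  have hP0 : (P₀ : Subgroup G).index * Nat.card (P₀ : Subgroup G) = Nat.card G :=
    Subgroup.index_mul_card _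
  have hipos : 0 < (P₀ : Subgroup G).index := Nat.pos_of_ne_zero Subgroup.index_ne_zero_of_finite
  have hle : Nat.card (P₀ : Subgroup G) ≤ 2 * z := by
    have h1 : Nat.card G ≤ 2 * T.card := by omega
    have h2 : T.card ≤ z * (P₀ : Subgroup G).index :=
      le_trans hcard (Nat.mul_le_mul_left _ (le_trans himg hsyl))
    have h3 : (P₀ : Subgroup G).index * Nat.card (P₀ : Subgroup G) ≤
        (P₀ : Subgroup G).index * (2 * z) := by
      rw [hP0]
      calc Nat.card G ≤ 2 * T.card := h1
        _ ≤ 2 * (z * (P₀ : Subgroup G).index) := Nat.mul_le_mul_left _ h2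
        _ = (P₀ : Subgroup G).index * (2 * z) := by ring
    exact Nat.le_of_mul_le_mul_left h3 hipos
  -- the centre has index at most two
  have hcz : (Subgroup.center (P₀ : Subgroup G)).index * z = Nat.card (P₀ : Subgroup G) := by
    rw [hzdef]; exact Subgroup.index_mul_card _
  have hzpos : 0 < z := by rw [hzdef]; exact Nat.card_pos
  have hci : (Subgroup.center (P₀ : Subgroup G)).index ≤ 2 := by
    have : (Subgroup.center (P₀ : Subgroup G)).index * z ≤ 2 * z := by rw [hcz]; exact hle
    exact Nat.le_of_mul_le_mul_right this hzpos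
  have hcyc : IsCyclic ((P₀ : Subgroup G) ⧸ Subgroup.center (P₀ : Subgroup G)) := by
    have hq : Nat.card ((P₀ : Subgroup G) ⧸ Subgroup.center (P₀ : Subgroup G)) =
        (Subgroup.center (P₀ : Subgroup G)).index := rfl
    have h0 : (Subgroup.center (P₀ : Subgroup G)).index ≠ 0 := Subgroup.index_ne_zero_of_finite
    have h12 : (Subgroup.center (P₀ : Subgroup G)).index = 1 ∨
        (Subgroup.center (P₀ : Subgroup G)).index = 2 := by omega
    rcases h12 with h1 | h2
    · haveI : Subsingleton ((P₀ : Subgroup G) ⧸ Subgroup.center (P₀ : Subgroup G)) := by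
        exact (Nat.card_eq_one_iff_unique.mp (hq.trans h1)).1
      exact isCyclic_of_subsingleton
    · exact isCyclic_of_prime_card (p := 2) (hq.trans h2)
  have hmc : IsMulCommutative (P₀ : Subgroup G) :=
    MonoidHom.isMulCommutative_of_isCyclic_of_ker_le_center
      (QuotientGroup.mk' (Subgroup.center (P₀ : Subgroup G))) (by rw [QuotientGroup.ker_mk'])
  have hab : ∀ a b : (P₀ : Subgroup G), a * b = b * a := fun a b => hmc.is_comm.comm a b
  intro a ha b hb
  rw [← hP₀] at ha hb
  exact congrArg Subtype.val (hab ⟨a, ha⟩ ⟨b, hb⟩)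

end Aux

/-- Let N be a proper normal subgroup of the finite group G such that every element x of G outside N has prime power order and has centralizer C_G(x) a maximal subgroup of G. Then N is solvable. -/
theorem result {G : Type*} [Group G] [Finite G] (N : Subgroup G) [N.Normal] (hN : N ≠ ⊤)
    (h : ∀ x : G, x ∉ N → IsPrimePow (orderOf x) ∧ IsCoatom (Subgroup.centralizer ({x} : Set G))) : Group.IsSolvable ↥N := by
  classical
  suffices hG : Group.IsSolvable G by
    exact Group.isSolvable_of_isSolvable_injective N.subtype_injective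
  obtain ⟨x₀, hx₀⟩ : ∃ x, x ∉ N := by
    by_contra hcon
    push Not at hcon
    exact hN (eq_top_iff.mpr fun g _ => hcon g)
  have hpp : ∀ y : G, y ∉ N → IsPrimePow (orderOf y) := fun y hy => (h y hy).1
  have hco : ∀ y : G, y ∉ N → IsCoatom (Subgroup.centralizer ({y} : Set G)) := fun y hy => (h y hy).2
  have key : ∀ x, x ∉ N → ∃ p : ℕ, p.Prime ∧ IsPGroup p (Subgroup.centralizer ({x} : Set G)) :=
    fun x hx => cent_isPGroup N hx hpp
  by_cases hodd : ∃ x, x ∉ N ∧ ∃ p : ℕ, p.Prime ∧ p ≠ 2 ∧
      IsPGroup p (Subgroup.centralizer ({x} : Set G))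
  · obtain ⟨x, hx, p, hp, hp2, hpg⟩ := hodd
    haveI : Fact p.Prime := ⟨hp⟩
    have hnil : Group.IsNilpotent (Subgroup.centralizer ({x} : Set G)) := hpg.isNilpotent
    have hoddc : Odd (Nat.card (Subgroup.centralizer ({x} : Set G))) := by
      obtain ⟨n, hn⟩ := IsPGroup.iff_card.mp hpg
      rw [hn]
      exact (hp.odd_of_ne_two hp2).pow
    exact Cfsg.Agent.S4040.result _ (hco x hx) hnil hoddc
  · push Not at hodd
    have h2 : ∀ x, x ∉ N → IsPGroup 2 (Subgroup.centralizer ({x} : Set G)) := by
      intro x hx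
      obtain ⟨p, hp, hpg⟩ := key x hx
      by_cases hp2 : p = 2
      · rw [← hp2]; exact hpg
      · exact absurd hpg (hodd x hx p hp hp2)
    haveI : Fact (Nat.Prime 2) := ⟨Nat.prime_two⟩
    by_cases hG2 : IsPGroup 2 G
    · haveI : Group.IsNilpotent G := hG2.isNilpotent
      infer_instance
    · have hS : ∀ x, x ∉ N →
          ∃ P : Sylow 2 G, (P : Subgroup G) = Subgroup.centralizer ({x} : Set G) := by
        intro x hx
        obtain ⟨P, hP⟩ := (h2 x hx).exists_le_sylow
        rcases (hco x hx).le_iff.mp hP with htop | heq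
        · exfalso
          apply hG2
          have hPp : IsPGroup 2 (P : Subgroup G) := P.isPGroup'
          intro g
          have hg : g ∈ (P : Subgroup G) := by rw [htop]; trivial
          obtain ⟨k, hk⟩ := hPp ⟨g, hg⟩
          exact ⟨k, congrArg Subtype.val hk⟩
        · exact ⟨P, heq⟩
      have hab := abelian_of_count N hN x₀ hx₀ hS
      haveI : IsMulCommutative (Subgroup.centralizer ({x₀} : Set G)) :=
        ⟨⟨fun a b => Subtype.ext (hab a a.2 b b.2)⟩⟩
      have h3 := Cfsg.Agent.S0556.result (Subgroup.centralizer ({x₀} : Set G)) (hco x₀ hx₀)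
      exact (Group.isSolvable_def G).mpr ⟨3, h3⟩

end Cfsg.Agent.S3903
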