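import Cfsg.Statements.S3904
import Cfsg.Agent.S0035
import Cfsg.Agent.Lib.Helper96.Frobenius
import Cfsg.Agent.Lib.Helper29.CMGroup

set_option autoImplicit false
open Cfsg

namespace Cfsg.Agent.S3904

open Subgroup
open scoped Pointwise
open Cfsg.Agent.Helper29.CM

variable {G : Type*} [Group G] [Finite G]

theorem caseA (hna : ¬ IsMulCommutative G) (h : Hyp G)
    (hall : ∀ x : G, x ∉ center G → (C x).Normal) :
    ∃ p : ℕ, p.Prime ∧ Cfsg.IsElementaryAbelian p (⊤ : Subgroup (G ⧸ center G)) := by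
  have hder := caseA_comm h hall
  have hcommQ : ∀ u v : G ⧸ center G, u * v = v * u := by
    intro u v
    obtain ⟨a, rfl⟩ := QuotientGroup.mk'_surjective (center G) u
    obtain ⟨b, rfl⟩ := QuotientGroup.mk'_surjective (center G) v
    have h1 := hder a b
    rw [← piZ_eq_one_iff] at h1
    have h2 : piZ G a * piZ G b * (piZ G a)⁻¹ * (piZ G b)⁻¹ = 1 := by simpa using h1
    calc piZ G a * piZ G b
        = (piZ G a * piZ G b * (piZ G a)⁻¹ * (piZ G b)⁻¹) * (piZ G b * piZ G a) := by group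
      _ = piZ G b * piZ G a := by rw [h2, one_mul]
  obtain ⟨x₀, hx₀⟩ : ∃ x₀ : G, x₀ ∉ center G := by
    by_contra hcon
    push Not at hcon
    apply hna
    exact ⟨⟨fun a b => (mem_center_iff.mp (hcon b) a)⟩⟩
  obtain ⟨p, hp, hxp⟩ := caseA_pow h hder hx₀
  refine ⟨p, hp, ?_, ?_⟩
  · exact ⟨⟨fun u v => Subtype.ext (hcommQ u v)⟩⟩
  · intro u _
    obtain ⟨a, rfl⟩ := QuotientGroup.mk'_surjective (center G) u
    show (piZ G a) ^ p = 1
    by_cases ha : a ∈ center G
    · rw [piZ_eq_one_iff.mpr ha, one_pow]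
    obtain ⟨q, hq, haq⟩ := caseA_pow h hder ha
    by_cases hpq : p = q
    · rw [hpq, ← map_pow, piZ_eq_one_iff]
      exact haq
    exfalso
    have : Fact p.Prime := ⟨hp⟩
    have : Fact q.Prime := ⟨hq⟩
    have ho1 : orderOf (piZ G x₀) = p := by
      apply orderOf_eq_prime
      · rw [← map_pow, piZ_eq_one_iff]
        exact hxp
      · intro h1
        exact hx₀ (piZ_eq_one_iff.mp h1)
    have ho2 : orderOf (piZ G a) = q := by
      apply orderOf_eq_prime
      · rw [← map_pow, piZ_eq_one_iff]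
        exact haq
      · intro h1
        exact ha (piZ_eq_one_iff.mp h1)
    have hcom : Commute (piZ G x₀) (piZ G a) := hcommQ _ _
    have ho3 : orderOf (piZ G x₀ * piZ G a) = p * q := by
      rw [hcom.orderOf_mul_eq_mul_orderOf_of_coprime
        (by rw [ho1, ho2]; exact (Nat.coprime_primes hp hq).mpr hpq), ho1, ho2]
    have hxa : x₀ * a ∉ center G := by
      intro hz
      have h1 : piZ G x₀ * piZ G a = 1 := by
        rw [← map_mul, piZ_eq_one_iff]
        exact hz
      rw [h1, orderOf_one] at ho3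
      have := hp.two_le
      have := hq.two_le
      nlinarith
    obtain ⟨r, hr, hxar⟩ := caseA_pow h hder hxa
    have h3 : (piZ G x₀ * piZ G a) ^ r = 1 := by
      rw [← map_mul, ← map_pow, piZ_eq_one_iff]
      exact hxar
    have h4 : p * q ∣ r := ho3 ▸ orderOf_dvd_of_pow_eq_one h3
    rcases (Nat.dvd_prime hr).mp h4 with h5 | h5
    · have := hp.two_le
      have := hq.two_le
      nlinarith
    · exact Nat.not_prime_mul (hp.one_lt.ne') (hq.one_lt.ne') (h5 ▸ hr)

theorem compl_le_of_normal_left {K : Type*} [Group K] {A B N : Subgroup K} (hAB : A ⊓ B = ⊥)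
    (hNA : N ≤ A) (hNn : N.Normal) (hN : N ⊔ B = ⊤) : A ≤ N := by
  intro a ha
  have h1 : a ∈ ((N ⊔ B : Subgroup K) : Set K) := by
    rw [hN]
    exact Set.mem_univ a
  rw [Subgroup.normal_mul] at h1
  obtain ⟨ν, hν, b, hb, rfl⟩ := Set.mem_mul.mp h1
  have hbA : b ∈ A := by
    have : b = ν⁻¹ * (ν * b) := by group
    rw [this]
    exact mul_mem (inv_mem (hNA hν)) ha
  have h2 : b ∈ A ⊓ B := ⟨hbA, hb⟩
  rw [hAB, Subgroup.mem_bot] at h2
  rw [h2, mul_one]
  exact hν

theorem compl_le_of_normal_right {K : Type*} [Group K] {A B N : Subgroup K} (hAB : A ⊓ B = ⊥)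
    (hNA : N ≤ A) (hBn : B.Normal) (hN : N ⊔ B = ⊤) : A ≤ N := by
  intro a ha
  have h1 : a ∈ ((N ⊔ B : Subgroup K) : Set K) := by
    rw [hN]
    exact Set.mem_univ a
  rw [Subgroup.mul_normal] at h1
  obtain ⟨ν, hν, b, hb, rfl⟩ := Set.mem_mul.mp h1
  have hbA : b ∈ A := by
    have : b = ν⁻¹ * (ν * b) := by group
    rw [this]
    exact mul_mem (inv_mem (hNA hν)) ha
  have h2 : b ∈ A ⊓ B := ⟨hbA, hb⟩
  rw [hAB, Subgroup.mem_bot] at h2
  rw [h2, mul_one]
  exact hν

/-- Abstract endgame: a group with a normal abelian maximal subgroup `Kb` complemented by a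
maximal subgroup `Mb`, such that centralizers of non-identity elements of `Kb` lie in `Kb`. -/
theorem endgame {Q : Type*} [Group Q] [Finite Q] (Kb Mb : Subgroup Q) (hKn : Kb.Normal)
    (hdisj : Kb ⊓ Mb = ⊥) (hsup : Kb ⊔ Mb = ⊤) (hMne : Mb ≠ ⊥)
    (hKco : IsCoatom Kb) (hMco : IsCoatom Mb)
    (hKcomm : ∀ u ∈ Kb, ∀ v ∈ Kb, u * v = v * u)
    (hcent : ∀ k ∈ Kb, k ≠ 1 → ∀ v : Q, v * k = k * v → v ∈ Kb) :
    (∀ H : Subgroup Q, H ≠ ⊤ → IsMulCommutative ↥H) ∧
      ∃ p q a : ℕ, p.Prime ∧ q.Prime ∧ p ≠ q ∧ Nat.card Q = p ^ a * q ∧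
        ∀ P : Subgroup Q, Nat.card ↥P = p ^ a → P.Normal := by
  classical
  have hdisj' : Mb ⊓ Kb = ⊥ := by rw [inf_comm]; exact hdisj
  have hKne : Kb ≠ ⊥ := by
    intro hK
    rw [hK, bot_sup_eq] at hsup
    exact hMco.1 hsup
  have hcompl : Kb.IsComplement' Mb := Subgroup.isComplement'_of_disjoint_and_mul_eq_univ
    (disjoint_iff.mpr hdisj) (by
      rw [← Subgroup.normal_mul, hsup]
      rfl)
  have hcard : Nat.card Kb * Nat.card Mb = Nat.card Q := hcompl.card_mul_card
  -- Mb has prime order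
  have hMcard1 : Nat.card Mb ≠ 1 := fun h1 => hMne (Subgroup.card_eq_one.mp h1)
  obtain ⟨q, hq, hqdvd⟩ := Nat.exists_prime_and_dvd hMcard1
  have : Fact q.Prime := ⟨hq⟩
  obtain ⟨u', hu'⟩ := exists_prime_orderOf_dvd_card' q hqdvd
  have hu1 : (u' : Q) ≠ 1 := by
    intro h1
    have : u' = 1 := Subtype.ext h1
    rw [this, orderOf_one] at hu'
    exact hq.one_lt.ne hu'
  have huo : orderOf (u' : Q) = q := by rw [Subgroup.orderOf_coe, hu']
  have hHM : zpowers (u' : Q) ≤ Mb := by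
    rw [Subgroup.zpowers_le]
    exact u'.2
  have hHK : ¬ zpowers (u' : Q) ≤ Kb := by
    intro hle
    have : (u' : Q) ∈ Kb ⊓ Mb := ⟨hle (mem_zpowers _), u'.2⟩
    rw [hdisj, Subgroup.mem_bot] at this
    exact hu1 this
  have hsup2 : zpowers (u' : Q) ⊔ Kb = ⊤ := by
    rcases hKco.le_iff.mp (le_sup_right : Kb ≤ zpowers (u' : Q) ⊔ Kb) with h1 | h1
    · exact h1
    · exfalso
      apply hHK
      rw [← h1]
      exact le_sup_left
  have hMle : Mb ≤ zpowers (u' : Q) := compl_le_of_normal_right hdisj' hHM hKn hsup2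
  have hMeq : Mb = zpowers (u' : Q) := le_antisymm hMle hHM
  have hMcard : Nat.card Mb = q := by
    rw [hMeq, Nat.card_zpowers, huo]
  -- Kb has exponent p
  have hKcard1 : Nat.card Kb ≠ 1 := fun h1 => hKne (Subgroup.card_eq_one.mp h1)
  obtain ⟨p, hp, hpdvd⟩ := Nat.exists_prime_and_dvd hKcard1
  have : Fact p.Prime := ⟨hp⟩
  obtain ⟨w', hw'⟩ := exists_prime_orderOf_dvd_card' p hpdvd
  have hw1 : (w' : Q) ≠ 1 := by
    intro h1
    have : w' = 1 := Subtype.ext h1
    rw [this, orderOf_one] at hw'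
    exact hp.one_lt.ne hw'
  have hwp : (w' : Q) ^ p = 1 := by
    have := pow_orderOf_eq_one w'
    rw [hw'] at this
    exact_mod_cast congrArg Subtype.val this
  let Om : Subgroup Q :=
    { carrier := {k | k ∈ Kb ∧ k ^ p = 1}
      mul_mem' := by
        rintro a b ⟨ha, hap⟩ ⟨hb, hbp⟩
        refine ⟨mul_mem ha hb, ?_⟩
        rw [(show Commute a b from hKcomm a ha b hb).mul_pow, hap, hbp, one_mul]
      one_mem' := ⟨one_mem _, one_pow _⟩
      inv_mem' := by
        rintro a ⟨ha, hap⟩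
        exact ⟨inv_mem ha, by rw [inv_pow, hap, inv_one]⟩ }
  have hOmK : Om ≤ Kb := fun k hk => hk.1
  have hOmn : Om.Normal := by
    constructor
    intro k hk g
    refine ⟨hKn.conj_mem k hk.1 g, ?_⟩
    rw [conj_pow, hk.2]
    group
  have hwOm : (w' : Q) ∈ Om := ⟨w'.2, hwp⟩
  have hOmM : ¬ Om ≤ Mb := by
    intro hle
    have : (w' : Q) ∈ Kb ⊓ Mb := ⟨w'.2, hle hwOm⟩
    rw [hdisj, Subgroup.mem_bot] at this
    exact hw1 this
  have hsup3 : Om ⊔ Mb = ⊤ := by
    rcases hMco.le_iff.mp (le_sup_right : Mb ≤ Om ⊔ Mb) with h1 | h1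
    · exact h1
    · exfalso
      apply hOmM
      rw [← h1]
      exact le_sup_left
  have hKOm : Kb ≤ Om := compl_le_of_normal_left hdisj hOmK hOmn hsup3
  have hKexp : ∀ k ∈ Kb, k ^ p = 1 := fun k hk => (hKOm hk).2
  have hKp : IsPGroup p Kb := by
    intro k
    refine ⟨1, ?_⟩
    apply Subtype.ext
    rw [pow_one]
    exact_mod_cast hKexp k k.2
  obtain ⟨a, ha⟩ := IsPGroup.iff_card.mp hKp
  have hQcard : Nat.card Q = p ^ a * q := by rw [← hcard, ha, hMcard]
  -- p ≠ q
  have hpq : p ≠ q := by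
    intro hpq
    subst hpq
    have hQp : IsPGroup p Q := IsPGroup.of_card (n := a + 1) (by rw [hQcard, pow_succ])
    have : Nontrivial Q := ⟨⟨(w' : Q), 1, hw1⟩⟩
    have hcn := hQp.center_nontrivial
    obtain ⟨z, hz⟩ := exists_ne (1 : center Q)
    have hz1 : (z : Q) ≠ 1 := fun h1 => hz (Subtype.ext h1)
    have hzc := Subgroup.mem_center_iff.mp z.2
    have hzK : (z : Q) ∈ Kb := hcent (w' : Q) w'.2 hw1 (z : Q) (hzc _).symm
    apply hMne
    rw [eq_bot_iff]
    intro m hm
    have hmK : m ∈ Kb := hcent (z : Q) hzK hz1 m (hzc m)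
    have : m ∈ Kb ⊓ Mb := ⟨hmK, hm⟩
    rwa [hdisj] at this
  refine ⟨?_, p, q, a, hp, hq, hpq, hQcard, ?_⟩
  · -- proper subgroups are commutative
    intro H hHtop
    by_cases hHK' : H ≤ Kb
    · exact ⟨⟨fun x y => Subtype.ext (hKcomm x (hHK' x.2) y (hHK' y.2))⟩⟩
    have hsupH : H ⊔ Kb = ⊤ := by
      rcases hKco.le_iff.mp (le_sup_right : Kb ≤ H ⊔ Kb) with h1 | h1
      · exact h1
      · exfalso
        apply hHK'
        rw [← h1]
        exact le_sup_left
    have hNbot : H ⊓ Kb = ⊥ := by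
      by_contra hNne
      have hNn : (H ⊓ Kb).Normal := by
        constructor
        intro n hn g
        have hg : g ∈ ((H ⊔ Kb : Subgroup Q) : Set Q) := by
          rw [hsupH]
          exact Set.mem_univ g
        rw [Subgroup.mul_normal] at hg
        obtain ⟨h', hh', k, hk, rfl⟩ := Set.mem_mul.mp hg
        have h1 : k * n * k⁻¹ = n := by
          rw [hKcomm k hk n hn.2]
          group
        have h2 : h' * k * n * (h' * k)⁻¹ = h' * (k * n * k⁻¹) * h'⁻¹ := by group
        rw [h2, h1]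
        have hn' := Subgroup.mem_inf.mp hn
        exact Subgroup.mem_inf.mpr
          ⟨mul_mem (mul_mem hh' hn'.1) (inv_mem hh'), hKn.conj_mem n hn'.2 h'⟩
      have hNM : ¬ (H ⊓ Kb) ≤ Mb := by
        intro hle
        apply hNne
        rw [eq_bot_iff]
        intro n hn
        have : n ∈ Kb ⊓ Mb := ⟨hn.2, hle hn⟩
        rwa [hdisj] at this
      have hsup4 : (H ⊓ Kb) ⊔ Mb = ⊤ := by
        rcases hMco.le_iff.mp (le_sup_right : Mb ≤ (H ⊓ Kb) ⊔ Mb) with h1 | h1
        · exact h1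
        · exfalso
          apply hNM
          rw [← h1]
          exact le_sup_left
      have hKN : Kb ≤ H ⊓ Kb := compl_le_of_normal_left hdisj inf_le_right hNn hsup4
      have hKH : Kb ≤ H := hKN.trans inf_le_left
      rcases hKco.le_iff.mp hKH with h1 | h1
      · exact hHtop h1
      · exact hHK' h1.le
    refine ⟨⟨fun x y => Subtype.ext ?_⟩⟩
    have hc : (x : Q) * y * (x : Q)⁻¹ * (y : Q)⁻¹ ∈ H ⊓ Kb :=
      Subgroup.mem_inf.mpr
        ⟨mul_mem (mul_mem (mul_mem x.2 y.2) (inv_mem x.2)) (inv_mem y.2),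
          commutator_mem_of_normal_coatom hKn hKco _ _⟩
    rw [hNbot, Subgroup.mem_bot] at hc
    show (x : Q) * y = y * x
    calc (x : Q) * y = ((x : Q) * y * (x : Q)⁻¹ * (y : Q)⁻¹) * (y * x) := by group
      _ = y * x := by rw [hc, one_mul]
  · -- subgroups of order p^a are normal
    intro P hP
    have hindex : Kb.index = q := by rw [hcompl.symm.index_eq_card, hMcard]
    have hPK : P ≤ Kb := by
      intro u hu
      have h1 : u ^ (p ^ a) = 1 := by
        have := pow_card_eq_one' (G := ↥P) (x := ⟨u, hu⟩)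
        rw [hP] at this
        exact congrArg Subtype.val this
      have h2 : u ^ q ∈ Kb := by
        have := hKn
        have := pow_card_eq_one' (G := Q ⧸ Kb) (x := (u : Q ⧸ Kb))
        rw [← Subgroup.index_eq_card, hindex, ← QuotientGroup.mk_pow, QuotientGroup.eq_one_iff]
          at this
        exact this
      have hcop : Nat.Coprime (p ^ a) q := Nat.Coprime.pow_left a ((Nat.coprime_primes hp hq).mpr hpq)
      have h3 := Nat.gcd_eq_gcd_ab (p ^ a) q
      rw [hcop.gcd_eq_one] at h3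
      have h4 : u = (u ^ (p ^ a)) ^ (Nat.gcdA (p ^ a) q) * (u ^ q) ^ (Nat.gcdB (p ^ a) q) := by
        rw [← zpow_natCast u (p ^ a), ← zpow_natCast u q, ← zpow_mul, ← zpow_mul, ← zpow_add, ← h3]
        simp
      rw [h4, h1, one_zpow, one_mul]
      exact zpow_mem h2 _
    have hPeq : P = Kb := Subgroup.eq_of_le_of_card_ge hPK (by rw [hP, ha])
    rw [hPeq]
    exact hKn

omit [Finite G] in
theorem isCoatom_of_comap (N : Subgroup G) (hN : IsCoatom N)
    (Nb : Subgroup (G ⧸ center G)) (hNb : Nb.comap (piZ G) = N) : IsCoatom Nb := by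
  constructor
  · intro htop
    apply hN.1
    rw [← hNb, htop, Subgroup.comap_top]
  · intro H hlt
    have hle : N ≤ H.comap (piZ G) := by
      rw [← hNb]
      exact Subgroup.comap_mono hlt.le
    obtain ⟨u, huH, huN⟩ := Set.exists_of_ssubset hlt
    obtain ⟨g, rfl⟩ := QuotientGroup.mk'_surjective (center G) u
    have hgN : g ∉ N := by
      rw [← hNb]
      exact huN
    rcases hN.le_iff.mp hle with h1 | h1
    · rw [eq_top_iff]
      intro v _
      obtain ⟨t, rfl⟩ := QuotientGroup.mk'_surjective (center G) v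
      have : t ∈ H.comap (piZ G) := h1 ▸ Subgroup.mem_top t
      exact this
    · exfalso
      apply hgN
      rw [← h1]
      exact huH

theorem caseB (h : Hyp G) {x : G} (hx : x ∉ center G) (hnn : ¬ (C x).Normal) :
    ¬ IsMulCommutative (G ⧸ center G) ∧
    (∀ H : Subgroup (G ⧸ center G), H ≠ ⊤ → IsMulCommutative ↥H) ∧
      ∃ p q a : ℕ, p.Prime ∧ q.Prime ∧ p ≠ q ∧ Nat.card (G ⧸ center G) = p ^ a * q ∧
        ∀ P : Subgroup (G ⧸ center G), Nat.card ↥P = p ^ a → P.Normal := by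
  have hab := abelian_of_not_normal h hx hnn
  obtain ⟨Mb, hMb⟩ : ∃ Mb : Subgroup (G ⧸ center G), Mb = (C x).map (piZ G) := ⟨_, rfl⟩
  have hmemMb : ∀ g : G, piZ G g ∈ Mb ↔ g ∈ C x := fun g => by
    rw [hMb]
    exact mem_map_piZ_iff x g
  have hcomapMb : Mb.comap (piZ G) = C x := by
    rw [hMb]
    exact comap_map_C x
  have hNM : normalizer (C x : Set G) = C x := by
    rcases (h x hx).le_iff.mp (Subgroup.le_normalizer : C x ≤ normalizer (C x : Set G))
      with h1 | h1
    · exact absurd (Subgroup.normalizer_eq_top_iff.mp h1) hnn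
    · exact h1
  have hMbne : Mb ≠ ⊥ := by
    intro hbot
    have h1 : piZ G x ∈ Mb := (hmemMb x).mpr (self_mem_C x)
    rw [hbot, Subgroup.mem_bot, piZ_eq_one_iff] at h1
    exact hx h1
  have hMco : IsCoatom Mb := isCoatom_of_comap (C x) (h x hx) Mb hcomapMb
  have hFrob : Cfsg.IsFrobeniusComplement Mb := by
    refine ⟨hMbne, hMco.1, ?_⟩
    intro u hu
    obtain ⟨g, rfl⟩ := QuotientGroup.mk'_surjective (center G) u
    have hg : g ∉ C x := fun hg => hu ((hmemMb g).mpr hg)
    rw [eq_bot_iff]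
    intro v hv
    obtain ⟨hv1, hv2⟩ := Subgroup.mem_inf.mp hv
    obtain ⟨m, rfl⟩ := QuotientGroup.mk'_surjective (center G) v
    rw [Subgroup.mem_bot]
    have hm : m ∈ C x := (hmemMb m).mp hv1
    rw [Cfsg.Agent.Helper96.mem_conj_smul_iff] at hv2
    have hm' : g⁻¹ * m * g ∈ C x := by
      rw [← hmemMb]
      simpa using hv2
    by_contra hne
    have hmZ : m ∉ center G := fun hz => hne (piZ_eq_one_iff.mpr hz)
    have hCm : C x = C m := by
      apply C_eq_of_le h hx hmZ
      intro t ht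
      rw [mem_C]
      exact hab t ht m hm
    have hm'Z : g⁻¹ * m * g ∉ center G := by
      have := conj_not_mem_center hmZ g⁻¹
      simpa using this
    have hCm' : C x = C (g⁻¹ * m * g) := by
      apply C_eq_of_le h hx hm'Z
      intro t ht
      rw [mem_C]
      exact hab t ht _ hm'
    apply hg
    rw [← hNM, Subgroup.mem_normalizer_iff]
    intro k
    have key : k ∈ C (g⁻¹ * m * g) ↔ g * k * g⁻¹ ∈ C m := by
      have := mem_C_conj (x := m) (g := g⁻¹) (k := k)
      simpa using this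
    constructor
    · intro hk
      have h1 : k ∈ C (g⁻¹ * m * g) := by
        rw [← hCm']
        exact hk
      rw [hCm]
      exact key.mp h1
    · intro hk
      have h1 : g * k * g⁻¹ ∈ C m := by
        rw [← hCm]
        exact hk
      rw [hCm']
      exact key.mpr h1
  obtain ⟨Kb, hKset, hKn, hKc⟩ := Cfsg.Agent.S0035.result Mb hFrob
  have hdisj : Kb ⊓ Mb = ⊥ := hKc.disjoint.eq_bot
  have hsup : Kb ⊔ Mb = ⊤ := hKc.sup_eq_top
  have hcent : ∀ k ∈ Kb, k ≠ 1 → ∀ v : G ⧸ center G, v * k = k * v → v ∈ Kb := by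
    intro k hk hk1 v hvk
    by_contra hvK
    have hv' : v ∉ Cfsg.frobeniusKernel Mb := by
      rw [← hKset]
      exact hvK
    obtain ⟨hv1, g, hg⟩ := (Cfsg.Agent.Helper96.not_mem_frobeniusKernel_iff Mb v).mp hv'
    have hk' : g⁻¹ * k * g ∈ Kb := by
      have := hKn.conj_mem k hk g⁻¹
      simpa using this
    have hne1 : g⁻¹ * v * g ≠ 1 := by
      intro h1
      apply hv1
      have : v = g * (g⁻¹ * v * g) * g⁻¹ := by group
      rw [this, h1]
      group
    have hconj : (g⁻¹ * k * g)⁻¹ * (g⁻¹ * v * g) * (g⁻¹ * k * g) = g⁻¹ * v * g := by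
      calc (g⁻¹ * k * g)⁻¹ * (g⁻¹ * v * g) * (g⁻¹ * k * g)
          = g⁻¹ * k⁻¹ * (v * k) * g := by group
        _ = g⁻¹ * k⁻¹ * (k * v) * g := by rw [hvk]
        _ = g⁻¹ * v * g := by group
    have hk'M : g⁻¹ * k * g ∈ Mb :=
      Cfsg.Agent.Helper96.frob_mem_of_conj_mem hFrob hg hne1 (by rw [hconj]; exact hg)
    have h2 : g⁻¹ * k * g ∈ Kb ⊓ Mb := Subgroup.mem_inf.mpr ⟨hk', hk'M⟩
    rw [hdisj, Subgroup.mem_bot] at h2
    apply hk1
    have : k = g * (g⁻¹ * k * g) * g⁻¹ := by group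
    rw [this, h2]
    group
  have hKbne : Kb ≠ ⊥ := by
    intro hK
    rw [hK, bot_sup_eq] at hsup
    exact hMco.1 hsup
  have hKbtop : Kb ≠ ⊤ := by
    intro hK
    rw [hK, top_inf_eq] at hdisj
    exact hMbne hdisj
  obtain ⟨K, hK⟩ : ∃ K : Subgroup G, K = Kb.comap (piZ G) := ⟨_, rfl⟩
  have hmemK : ∀ g : G, g ∈ K ↔ piZ G g ∈ Kb := fun g => by
    rw [hK, Subgroup.mem_comap]
  have hKtop : K ≠ ⊤ := by
    intro htop
    apply hKbtop
    rw [eq_top_iff]
    intro v _
    obtain ⟨t, rfl⟩ := QuotientGroup.mk'_surjective (center G) v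
    exact (hmemK t).mp (htop ▸ Subgroup.mem_top t)
  have hCk : ∀ k ∈ K, k ∉ center G → C k = K := by
    intro k hk hkZ
    have hle : C k ≤ K := by
      intro t ht
      rw [hmemK]
      apply hcent (piZ G k) ((hmemK k).mp hk) (fun h1 => hkZ (piZ_eq_one_iff.mp h1))
      rw [← map_mul, ← map_mul, mem_C.mp ht]
    rcases (h k hkZ).le_iff.mp hle with h1 | h1
    · exact absurd h1 hKtop
    · exact h1.symm
  obtain ⟨k₀, hk₀K, hk₀Z⟩ : ∃ k₀ ∈ K, k₀ ∉ center G := by
    obtain ⟨kb, hkb⟩ := (Subgroup.ne_bot_iff_exists_ne_one).mp hKbne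
    obtain ⟨t, ht⟩ := QuotientGroup.mk'_surjective (center G) (kb : G ⧸ center G)
    refine ⟨t, (hmemK t).mpr (by rw [show piZ G t = kb from ht]; exact kb.2), ?_⟩
    intro hz
    apply hkb
    apply Subtype.ext
    rw [← ht]
    exact piZ_eq_one_iff.mpr hz
  have hKcomm : ∀ u ∈ Kb, ∀ v ∈ Kb, u * v = v * u := by
    intro u hu v hv
    obtain ⟨a, rfl⟩ := QuotientGroup.mk'_surjective (center G) u
    obtain ⟨b, rfl⟩ := QuotientGroup.mk'_surjective (center G) v
    by_cases haZ : a ∈ center G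
    · have : piZ G a = 1 := piZ_eq_one_iff.mpr haZ
      show piZ G a * piZ G b = piZ G b * piZ G a
      rw [this, one_mul, mul_one]
    · have hCa := hCk a ((hmemK a).mpr hu) haZ
      have hb : b ∈ C a := by
        rw [hCa]
        exact (hmemK b).mpr hv
      show piZ G a * piZ G b = piZ G b * piZ G a
      rw [← map_mul, ← map_mul, mem_C.mp hb]
  have hKco : IsCoatom Kb := by
    apply isCoatom_of_comap K _ Kb hK.symm
    rw [← hCk k₀ hk₀K hk₀Z]
    exact h k₀ hk₀Z
  have hnc : ¬ IsMulCommutative (G ⧸ center G) := by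
    intro hc
    obtain ⟨u, hu⟩ : ∃ u, u ∉ Mb := by
      by_contra hcon
      push Not at hcon
      exact hMco.1 (eq_top_iff.mpr fun v _ => hcon v)
    have h1 := hFrob.2.2 u hu
    apply hMbne
    rw [eq_bot_iff, ← h1]
    intro v hv
    refine Subgroup.mem_inf.mpr ⟨hv, ?_⟩
    rw [Cfsg.Agent.Helper96.mem_conj_smul_iff]
    have hvu : v * u = u * v := hc.is_comm.comm v u
    have : u⁻¹ * v * u = v := by
      rw [mul_assoc, hvu, ← mul_assoc, inv_mul_cancel, one_mul]
    rw [this]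
    exact hv
  exact ⟨hnc, endgame Kb Mb hKn hdisj hsup hMbne hKco hMco hKcomm hcent⟩

/-- Let G be a non-abelian finite group in which the centralizer of every non-central element is a maximal subgroup. Then G/Z(G) is either an elementary abelian p-group for some prime p, or a minimal non-abelian group (non-abelian with all proper subgroups abelian) of order p^a · q for distinct primes p, q with a normal Sylow p-subgroup. -/
theorem result {G : Type*} [Group G] [Finite G] (hna : ¬ IsMulCommutative G)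
    (h : ∀ x : G, x ∉ Subgroup.center G → IsCoatom (Subgroup.centralizer ({x} : Set G))) :
    (∃ p : ℕ, p.Prime ∧ Cfsg.IsElementaryAbelian p (⊤ : Subgroup (G ⧸ Subgroup.center G))) ∨
    (¬ IsMulCommutative (G ⧸ Subgroup.center G) ∧ (∀ H : Subgroup (G ⧸ Subgroup.center G), H ≠ ⊤ → IsMulCommutative ↥H) ∧
      ∃ p q a : ℕ, p.Prime ∧ q.Prime ∧ p ≠ q ∧ Nat.card (G ⧸ Subgroup.center G) = p ^ a * q ∧
        ∀ P : Subgroup (G ⧸ Subgroup.center G), Nat.card ↥P = p ^ a → P.Normal) := by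
  have hH : Hyp G := h
  by_cases hall : ∀ x : G, x ∉ center G → (C x).Normal
  · exact Or.inl (caseA hna hH hall)
  · push Not at hall
    obtain ⟨x, hx, hnn⟩ := hall
    exact Or.inr (caseB hH hx hnn)

end Cfsg.Agent.S3904
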