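import Cfsg.Statements.S3908
import Mathlib
import Cfsg.Agent.S0016

set_option autoImplicit false
open Cfsg

namespace Cfsg.Agent.S3908

section

variable {G : Type*} [Group G] [Finite G]

omit [Finite G] in
/-- An element of order `p^2` and an abelian subgroup of order `p^2` and exponent `p` cannot coexist. -/
theorem no_both (hB : ∀ A B : Subgroup G, IsMulCommutative ↥A → IsMulCommutative ↥B → Nat.card ↥A = Nat.card ↥B → ∃ g : G, B = A.map (MulAut.conj g).toMonoidHom)
    (p : ℕ) [Fact p.Prime] (y : G) (hy : orderOf y = p ^ 2) (E : Subgroup G) (hE : IsMulCommutative ↥E)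
    (hcard : Nat.card ↥E = p ^ 2) (hexp : ∀ e ∈ E, e ^ p = 1) : False := by
  have hp : p.Prime := Fact.out
  obtain ⟨g, hg⟩ := hB (Subgroup.zpowers y) E inferInstance hE (by rw [Nat.card_zpowers, hy, hcard])
  have hmem : (MulAut.conj g) y ∈ E := by
    rw [hg]; exact ⟨y, Subgroup.mem_zpowers y, rfl⟩
  have h1 := hexp _ hmem
  have h2 : orderOf ((MulAut.conj g) y) = orderOf y :=
    orderOf_injective (MulAut.conj g).toMonoidHom (MulAut.conj g).injective y
  have h3 : orderOf ((MulAut.conj g) y) ∣ p := orderOf_dvd_of_pow_eq_one h1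
  rw [h2, hy] at h3
  have := Nat.le_of_dvd hp.pos h3
  have : 1 < p := hp.one_lt
  nlinarith

/-- Two independent commuting elements of order `p` generate a group containing an abelian subgroup
of order `p^2` and exponent `p`. -/
theorem exists_el (p : ℕ) [Fact p.Prime] (z w : G) (hzw : z * w = w * z) (hz : z ^ p = 1) (hw : w ^ p = 1)
    (hz1 : z ≠ 1) (hwz : w ∉ Subgroup.zpowers z) :
    ∃ E : Subgroup G, IsMulCommutative ↥E ∧ Nat.card ↥E = p ^ 2 ∧ ∀ e ∈ E, e ^ p = 1 := by
  have hp : p.Prime := Fact.out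
  set S : Set G := {z, w} with hS
  have hScomm : ∀ x ∈ S, ∀ y ∈ S, x * y = y * x := by
    intro x hx y hy
    rcases hx with rfl | rfl <;> rcases hy with rfl | rfl
    · rfl
    · exact hzw
    · exact hzw.symm
    · rfl
  have hC : IsMulCommutative ↥(Subgroup.closure S) := Subgroup.isMulCommutative_closure hScomm
  have hCcomm : ∀ x ∈ Subgroup.closure S, ∀ y ∈ Subgroup.closure S, x * y = y * x := by
    intro x hx y hy
    have := mul_comm' (⟨x, hx⟩ : ↥(Subgroup.closure S)) ⟨y, hy⟩
    exact congrArg Subtype.val this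
  have hexp : ∀ e ∈ Subgroup.closure S, e ^ p = 1 := by
    intro e he
    induction he using Subgroup.closure_induction with
    | mem x hx => rcases hx with rfl | rfl <;> assumption
    | one => exact one_pow p
    | mul x y hx hy ihx ihy =>
      have hc : Commute x y := hCcomm x hx y hy
      rw [hc.mul_pow, ihx, ihy, one_mul]
    | inv x hx ihx => rw [inv_pow, ihx, inv_one]
  -- closure S is a p-group
  have hPG : IsPGroup p ↥(Subgroup.closure S) := by
    intro e
    refine ⟨1, ?_⟩
    rw [pow_one]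
    apply Subtype.ext
    exact hexp e.1 e.2
  obtain ⟨n, hn⟩ := IsPGroup.iff_card.1 hPG
  have hzmem : z ∈ Subgroup.closure S := Subgroup.subset_closure (by simp [hS])
  have hwmem : w ∈ Subgroup.closure S := Subgroup.subset_closure (by simp [hS])
  have hzo : orderOf z = p := by
    have := orderOf_dvd_of_pow_eq_one hz
    rcases (Nat.dvd_prime hp).1 this with h | h
    · exact absurd (orderOf_eq_one_iff.1 h) hz1
    · exact h
  have hlt : Subgroup.zpowers z < Subgroup.closure S := by
    refine lt_of_le_of_ne (Subgroup.zpowers_le.2 hzmem) ?_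
    intro h
    apply hwz
    rw [h]; exact hwmem
  have hcardlt : Nat.card ↥(Subgroup.zpowers z) < Nat.card ↥(Subgroup.closure S) := by
    by_contra hge
    push Not at hge
    exact hlt.ne (Subgroup.eq_of_le_of_card_ge hlt.le hge)
  rw [Nat.card_zpowers, hzo, hn] at hcardlt
  have hn2 : 2 ≤ n := by
    by_contra h
    push Not at h
    have : p ^ n ≤ p ^ 1 := Nat.pow_le_pow_right hp.pos (by omega)
    rw [pow_one] at this
    omega
  have hdvd : p ^ 2 ∣ Nat.card ↥(Subgroup.closure S) := by rw [hn]; exact pow_dvd_pow p hn2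
  obtain ⟨V, hV⟩ := Sylow.exists_subgroup_card_pow_prime p hdvd
  refine ⟨V.map (Subgroup.closure S).subtype, ?_, ?_, ?_⟩
  · refine ⟨⟨?_⟩⟩
    rintro ⟨_, a, ha, rfl⟩ ⟨_, b, hb, rfl⟩
    apply Subtype.ext
    show (Subgroup.closure S).subtype a * (Subgroup.closure S).subtype b
      = (Subgroup.closure S).subtype b * (Subgroup.closure S).subtype a
    rw [← map_mul, ← map_mul, mul_comm' a b]
  · rw [Subgroup.card_map_of_injective (Subgroup.closure S).subtype_injective, hV]
  · rintro _ ⟨a, ha, rfl⟩
    exact hexp a.1 a.2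

theorem main (hB : ∀ A B : Subgroup G, IsMulCommutative ↥A → IsMulCommutative ↥B → Nat.card ↥A = Nat.card ↥B → ∃ g : G, B = A.map (MulAut.conj g).toMonoidHom)
    (p : ℕ) [Fact p.Prime] (P : Sylow p G) :
    (∀ x ∈ (P : Subgroup G), x ^ p = 1) ∨ IsCyclic ↥(P : Subgroup G) ∨
      (p = 2 ∧ ∃ n : ℕ, Nonempty (↥(P : Subgroup G) ≃* QuaternionGroup (2 ^ n))) := by
  have hp : p.Prime := Fact.out
  by_cases hex : ∀ x ∈ (P : Subgroup G), x ^ p = 1
  · left; exact hex
  right
  push Not at hex
  obtain ⟨x, hxP, hxp⟩ := hex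
  obtain ⟨k, hk⟩ := (IsPGroup.iff_orderOf.1 P.isPGroup') ⟨x, hxP⟩
  have hk' : orderOf x = p ^ k := by
    rw [← hk]; exact (Subgroup.orderOf_mk x hxP).symm
  have hk2 : 2 ≤ k := by
    by_contra h
    push Not at h
    apply hxp
    have : orderOf x ∣ p := by
      rw [hk']
      calc p ^ k ∣ p ^ 1 := pow_dvd_pow p (by omega)
        _ = p := pow_one p
    exact orderOf_dvd_iff_pow_eq_one.1 this
  set y := x ^ (p ^ (k - 2)) with hy
  have hyo : orderOf y = p ^ 2 := by
    rw [hy, orderOf_pow' _ (pow_ne_zero _ hp.ne_zero), hk', Nat.gcd_eq_right (pow_dvd_pow p (by omega)),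
      Nat.pow_div (by omega) hp.pos]
    congr 1; omega
  -- central element of order p in P
  have hPnt : Nontrivial ↥(P : Subgroup G) := by
    refine ⟨⟨⟨x, hxP⟩, 1, ?_⟩⟩
    intro h
    apply hxp
    have : x = 1 := congrArg Subtype.val h
    rw [this, one_pow]
  have hcnt : Nontrivial ↥(Subgroup.center ↥(P : Subgroup G)) := IsPGroup.center_nontrivial P.isPGroup'
  have hcp : IsPGroup p ↥(Subgroup.center ↥(P : Subgroup G)) := P.isPGroup'.to_subgroup _
  have hdvdc : p ∣ Nat.card ↥(Subgroup.center ↥(P : Subgroup G)) := by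
    obtain ⟨n, hn⟩ := IsPGroup.iff_card.1 hcp
    rw [hn]
    have : n ≠ 0 := by
      rintro rfl
      rw [pow_zero] at hn
      have := Finite.one_lt_card_iff_nontrivial.2 hcnt
      omega
    exact dvd_pow_self p this
  obtain ⟨z₀, hz₀⟩ := exists_prime_orderOf_dvd_card' p hdvdc
  have hz₀' : orderOf (z₀ : ↥(P : Subgroup G)) = p := by rw [Subgroup.orderOf_coe, hz₀]
  have hz₀'' : orderOf ((z₀ : ↥(P : Subgroup G)) : G) = p := by rw [Subgroup.orderOf_coe, hz₀']
  -- every element of order p of P lies in zpowers z₀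
  have hU : ∀ w : ↥(P : Subgroup G), orderOf w = p → w ∈ Subgroup.zpowers (z₀ : ↥(P : Subgroup G)) := by
    intro w hw
    by_contra hnot
    have hw' : orderOf (w : G) = p := by rw [Subgroup.orderOf_coe, hw]
    have hcomm : ((z₀ : ↥(P : Subgroup G)) : G) * (w : G) = (w : G) * ((z₀ : ↥(P : Subgroup G)) : G) := by
      have := (Subgroup.mem_center_iff.1 z₀.2 w).symm
      exact congrArg Subtype.val this
    have hnot' : (w : G) ∉ Subgroup.zpowers (((z₀ : ↥(P : Subgroup G)) : G)) := by
      intro hmem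
      apply hnot
      obtain ⟨j, hj⟩ := Subgroup.mem_zpowers_iff.1 hmem
      refine Subgroup.mem_zpowers_iff.2 ⟨j, ?_⟩
      apply Subtype.ext
      rw [← hj]
      simp
    obtain ⟨E, hE1, hE2, hE3⟩ := exists_el p (((z₀ : ↥(P : Subgroup G)) : G)) (w : G) hcomm
      (orderOf_dvd_iff_pow_eq_one.1 hz₀''.dvd) (orderOf_dvd_iff_pow_eq_one.1 hw'.dvd)
      (by
        intro h1
        rw [h1, orderOf_one] at hz₀''
        exact hp.one_lt.ne hz₀'') hnot'
    exact no_both hB p y hyo E hE1 hE2 hE3
  have huniq : ∀ H K : Subgroup ↥(P : Subgroup G), Nat.card H = p → Nat.card K = p → H = K := by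
    have key : ∀ H : Subgroup ↥(P : Subgroup G), Nat.card H = p →
        H = Subgroup.zpowers (z₀ : ↥(P : Subgroup G)) := by
      intro H hH
      have hle : H ≤ Subgroup.zpowers (z₀ : ↥(P : Subgroup G)) := by
        intro h hh
        by_cases h1 : h = 1
        · rw [h1]; exact Subgroup.one_mem _
        · apply hU
          have hd : orderOf h ∣ p := by
            have := orderOf_dvd_natCard (⟨h, hh⟩ : ↥H)
            rw [Subgroup.orderOf_mk, hH] at this
            exact this
          rcases (Nat.dvd_prime hp).1 hd with h2 | h2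
          · exact absurd (orderOf_eq_one_iff.1 h2) h1
          · exact h2
      apply Subgroup.eq_of_le_of_card_ge hle
      rw [Nat.card_zpowers, hz₀', hH]
    intro H K hH hK
    rw [key H hH, key K hK]
  exact Cfsg.Agent.S0016.result p P.isPGroup' huniq

end

/-- Let G be a finite group in which any two abelian subgroups of the same order are conjugate. Then a Sylow 2-subgroup of G is cyclic, elementary abelian or generalized quaternion, and for an odd prime p a Sylow p-subgroup of G is cyclic or has exponent dividing p. -/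
theorem result {G : Type*} [Group G] [Finite G] (hB : ∀ A B : Subgroup G, IsMulCommutative ↥A → IsMulCommutative ↥B → Nat.card ↥A = Nat.card ↥B → ∃ g : G, B = A.map (MulAut.conj g).toMonoidHom) :
    (∀ P : Sylow 2 G, IsCyclic ↥(P : Subgroup G) ∨ Cfsg.IsElementaryAbelian 2 (P : Subgroup G) ∨ ∃ k : ℕ, Nonempty (↥(P : Subgroup G) ≃* QuaternionGroup (2 ^ k))) ∧
    ∀ (p : ℕ) [Fact p.Prime], p ≠ 2 → ∀ P : Sylow p G, IsCyclic ↥(P : Subgroup G) ∨ ∀ x ∈ (P : Subgroup G), x ^ p = 1 := by
  refine ⟨?_, ?_⟩
  · intro P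
    rcases main hB 2 P with h | h | ⟨-, n, hn⟩
    · right; left
      refine ⟨⟨⟨?_⟩⟩, h⟩
      intro a b
      have hord : ∀ g : ↥(P : Subgroup G), orderOf g ∣ 2 := by
        intro g
        apply orderOf_dvd_of_pow_eq_one
        apply Subtype.ext
        exact h g.1 g.2
      exact (Commute.of_orderOf_dvd_two hord a b)
    · left; exact h
    · right; right; exact ⟨n, hn⟩
  · intro p _ hp2 P
    rcases main hB p P with h | h | ⟨h2, -⟩
    · right; exact h
    · left; exact h
    · exact absurd h2 hp2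

end Cfsg.Agent.S3908
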