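import Cfsg.Statements.S3912
import Cfsg.Agent.Lib.Helper66.BQuotB
import Cfsg.Agent.Lib.Helper66.BQuotC
import Cfsg.Agent.S3908

set_option autoImplicit false
set_option linter.style.haveILetI false
open Cfsg

namespace Cfsg.Agent.S3912

open Cfsg.Agent.Helper66.BQ

universe u

section

variable {G : Type u} [Group G] [Finite G]

/-- a minimal normal subgroup below a nontrivial normal subgroup. -/
theorem exists_minNormal_le (M : Subgroup G) [hMn : M.Normal] (hM : M ≠ ⊥) :
    ∃ N : Subgroup G, N.Normal ∧ N ≠ ⊥ ∧ N ≤ M ∧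
      ∀ K : Subgroup G, K.Normal → K ≤ N → K = ⊥ ∨ K = N := by
  have hne : {N : Subgroup G | N.Normal ∧ N ≠ ⊥ ∧ N ≤ M}.Nonempty := ⟨M, hMn, hM, le_rfl⟩
  obtain ⟨N, hN, hmin⟩ := wellFounded_lt.has_min _ hne
  refine ⟨N, hN.1, hN.2.1, hN.2.2, fun K hKn hKN => ?_⟩
  by_cases hK : K = ⊥
  · exact Or.inl hK
  · right
    rcases eq_or_lt_of_le hKN with h | h
    · exact h
    · exact absurd h (hmin K ⟨hKn, hK, hKN.trans hN.2.2⟩)

/-- The Sylow 2-subgroups of a solvable B-group with a normal subgroup of order two are cyclic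
or of order eight. -/
theorem sylow_two_cond (hsol : Group.IsSolvable G) (hB : BProp G) (M : Subgroup G) [M.Normal]
    (hM2 : Nat.card M = 2) (P : Sylow 2 G) :
    IsCyclic ↥(P : Subgroup G) ∨ Nat.card ↥(P : Subgroup G) = 8 := by
  haveI : Fact (Nat.Prime 2) := ⟨Nat.prime_two⟩
  rcases (Cfsg.Agent.S3908.result hB).1 P with hc | hel | ⟨k, ⟨e⟩⟩
  · exact Or.inl hc
  · left
    have hPM : (P : Subgroup G) ≤ M := by
      intro a ha
      have h1 : a ^ 2 = 1 := hel.2 a ha
      have h2 : orderOf a ∣ 2 := orderOf_dvd_of_pow_eq_one h1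
      rcases (Nat.dvd_prime Nat.prime_two).mp h2 with h | h
      · rw [orderOf_eq_one_iff] at h
        rw [h]; exact M.one_mem
      · exact involution_mem hB M hM2 a h
    have hle : Nat.card (P : Subgroup G) ≤ 2 := by
      have := Subgroup.card_le_of_le hPM
      omega
    have hpos : 0 < Nat.card (P : Subgroup G) := Nat.card_pos
    have h12 : Nat.card (P : Subgroup G) = 1 ∨ Nat.card (P : Subgroup G) = 2 := by omega
    rcases h12 with h | h
    · haveI : Subsingleton ↥(P : Subgroup G) := by
        rw [← Finite.card_le_one_iff_subsingleton, h]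
      exact isCyclic_of_subsingleton
    · exact isCyclic_of_prime_card (p := 2) h
  · rcases Nat.lt_or_ge k 2 with hk | hk
    · have hk01 : k = 0 ∨ k = 1 := by omega
      rcases hk01 with rfl | rfl
      · left
        haveI : IsCyclic (QuaternionGroup (2 ^ 0)) := by
          rw [pow_zero]; exact QuaternionGroup.quaternionGroup_one_isCyclic
        exact isCyclic_of_surjective e.symm e.symm.surjective
      · right
        haveI : NeZero (2 ^ 1) := ⟨by norm_num⟩
        rw [Nat.card_congr e.toEquiv, Nat.card_eq_fintype_card, QuaternionGroup.card]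
        norm_num
    · exact (no_big_quaternion hsol hB M hM2 P k hk e).elim

/-- Quotient by a minimal normal subgroup. -/
theorem base [hsol : Group.IsSolvable G] (hB : BProp G) (M0 : Subgroup G) [hM0n : M0.Normal]
    (hM01 : M0 ≠ ⊥) (hmin : ∀ K : Subgroup G, K.Normal → K ≤ M0 → K = ⊥ ∨ K = M0) :
    BProp (G ⧸ M0) := by
  obtain ⟨p, d, hp, hd, hcard⟩ := Cfsg.Agent.Helper9.minNormal_card M0 hM01 hmin
  have hcomm := Cfsg.Agent.Helper9.minNormal_comm M0 hM01 hmin
  haveI : Fact p.Prime := ⟨hp⟩
  by_cases hp2 : p = 2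
  · subst hp2
    by_cases hd1 : d = 1
    · subst hd1
      rw [pow_one] at hcard
      exact quot_of_conj_mod M0 (fun A B hMA hMB hA hB' hc =>
        conj_mod_two hB M0 hcard (sylow_two_cond hsol hB M0 hcard) A B hMA hMB hA hB' hc)
    · have hd2 : 2 ≤ d := by omega
      -- exponent 2
      have hexp : ∀ v ∈ M0, v ^ 2 = 1 := by
        have hdvd : 2 ∣ Nat.card M0 := by rw [hcard]; exact dvd_pow_self 2 hd.ne'
        obtain ⟨x, hx⟩ := exists_prime_orderOf_dvd_card' 2 hdvd
        have hK : Cfsg.Agent.Helper9.torsionIn M0 hcomm 2 = M0 := by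
          rcases hmin (Cfsg.Agent.Helper9.torsionIn M0 hcomm 2)
            (Cfsg.Agent.Helper9.torsionIn_normal M0 hcomm 2) (fun g hg => hg.1) with h | h
          · exfalso
            have hxK : (x : G) ∈ Cfsg.Agent.Helper9.torsionIn M0 hcomm 2 := by
              refine ⟨x.2, ?_⟩
              have h1 : x ^ 2 = 1 := by rw [← hx]; exact pow_orderOf_eq_one x
              exact congrArg Subtype.val h1
            rw [h, Subgroup.mem_bot] at hxK
            have hx1 : x = 1 := Subtype.ext hxK
            rw [hx1, orderOf_one] at hx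
            omega
          · exact h
        intro v hv
        have : v ∈ Cfsg.Agent.Helper9.torsionIn M0 hcomm 2 := by rw [hK]; exact hv
        exact this.2
      have hel : Cfsg.IsElementaryAbelian 2 M0 := ⟨(isMulComm_iff M0).mpr hcomm, hexp⟩
      obtain ⟨P⟩ : Nonempty (Sylow 2 G) := inferInstance
      have hPM : (P : Subgroup G) = M0 := (Cfsg.Agent.S3909.result hB M0).2 2 d hd2 hcard hel P
      have hcop : (Nat.card M0).Coprime M0.index := by
        rw [← hPM]; exact P.card_coprime_index
      exact bprop_quot_of_coprime hB M0 hcop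
  · have hodd : Odd (Nat.card M0) := by
      rw [hcard]; exact (hp.odd_of_ne_two hp2).pow
    exact Cfsg.Agent.S3911.result hB M0 hodd

end

/-- Quotients of solvable B-groups are B-groups. -/
theorem main : ∀ n : ℕ, ∀ (G : Type u) [Group G] [Finite G], Nat.card G = n →
    Group.IsSolvable G → BProp G → ∀ (M : Subgroup G) [M.Normal], BProp (G ⧸ M) := by
  intro n
  induction n using Nat.strong_induction_on with
  | _ n ih =>
  intro G _ _ hn hsol hB M hMn
  by_cases hM : M = ⊥
  · subst hM
    exact BProp.of_equiv (QuotientGroup.quotientBot (G := G)).symm hB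
  · obtain ⟨M0, hM0n, hM01, hM0le, hM0min⟩ := exists_minNormal_le M hM
    haveI := hM0n
    haveI := hsol
    have hbase : BProp (G ⧸ M0) := base hB M0 hM01 hM0min
    have hlt : Nat.card (G ⧸ M0) < n := by
      rw [← hn]
      change M0.index < _
      have h1 := M0.card_mul_index
      have h2 : 1 < Nat.card M0 := by
        rw [Finite.one_lt_card_iff_nontrivial]
        exact (Subgroup.nontrivial_iff_ne_bot M0).mpr hM01
      have h3 : 0 < M0.index := Nat.pos_of_ne_zero (Subgroup.index_ne_zero_of_finite)
      nlinarith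
    haveI hmapn : (M.map (QuotientGroup.mk' M0)).Normal :=
      hMn.map _ (QuotientGroup.mk'_surjective M0)
    have h := ih _ hlt (G ⧸ M0) rfl inferInstance hbase (M.map (QuotientGroup.mk' M0))
    exact BProp.of_equiv (QuotientGroup.quotientQuotientEquivQuotient M0 M hM0le) h

/-- Let G be a finite solvable group in which any two abelian subgroups of the same order are conjugate. Then every quotient of G has the same property: any two abelian subgroups of the quotient of the same order are conjugate. -/
theorem result {G : Type*} [Group G] [Finite G] (hB : ∀ A B : Subgroup G, IsMulCommutative ↥A → IsMulCommutative ↥B → Nat.card ↥A = Nat.card ↥B → ∃ g : G, B = A.map (MulAut.conj g).toMonoidHom) (hsol : Group.IsSolvable G) (M : Subgroup G) [M.Normal] :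
    ∀ A B : Subgroup (G ⧸ M), IsMulCommutative ↥A → IsMulCommutative ↥B → Nat.card ↥A = Nat.card ↥B →
      ∃ g : G ⧸ M, B = A.map (MulAut.conj g).toMonoidHom := by
  exact main _ G rfl hsol hB M

end Cfsg.Agent.S3912
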