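import Cfsg.Statements.S3917
import Mathlib
import Cfsg.Agent.Lib.Helper24.NonCyclic

set_option autoImplicit false
open Cfsg

namespace Cfsg.Agent.S3917

open Subgroup

theorem not_isCyclic_of_exponent {G : Type*} [Group G] [Finite G] {p : ℕ} (hp : p.Prime)
    (K : Subgroup G) (hK : ∀ x ∈ K, x ^ p = 1) (hcard : p ^ 2 ≤ Nat.card K) : ¬ IsCyclic K := by
  intro hc
  obtain ⟨g, hg⟩ := hc.exists_generator
  have h1 : orderOf g = Nat.card K := orderOf_eq_card_of_forall_mem_zpowers hg
  have h2 : g ^ p = 1 := Subtype.ext (by simpa using hK g g.2)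
  have h3 : orderOf g ≤ p := Nat.le_of_dvd hp.pos (orderOf_dvd_of_pow_eq_one h2)
  have h4 : p < p ^ 2 := by
    have := hp.one_lt
    nlinarith
  omega

/-- Say that a group has self-centralizing non-cyclic subgroups when every non-cyclic subgroup H satisfies C_G(H) ≤ H. A finite abelian group with self-centralizing non-cyclic subgroups is cyclic or elementary abelian of order p² for a prime p. -/
theorem result {G : Type*} [CommGroup G] [Finite G] (hX : (∀ H : Subgroup G, ¬ IsCyclic ↥H → Subgroup.centralizer (H : Set G) ≤ H)) :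
    IsCyclic G ∨ ∃ p : ℕ, p.Prime ∧ Nat.card G = p ^ 2 ∧ Monoid.exponent G = p := by
  by_cases hcyc : IsCyclic G
  · exact Or.inl hcyc
  right
  have htop : ∀ H : Subgroup G, ¬ IsCyclic ↥H → H = ⊤ := by
    intro H hH
    have := hX H hH
    rw [eq_top_iff]
    intro x _
    apply this
    intro h _
    exact mul_comm h x
  obtain ⟨p, hp, hcard⟩ := Cfsg.Agent.Helper24.exists_prime_sq_le_card_torsionKer (H := G) hcyc
  have : Fact p.Prime := ⟨hp⟩
  have hT : Cfsg.Agent.Helper24.torsionKer G p = ⊤ := by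
    apply htop
    apply not_isCyclic_of_exponent hp _ _ hcard
    intro x hx
    exact Cfsg.Agent.Helper24.mem_torsionKer.mp hx
  have hexp : ∀ x : G, x ^ p = 1 := by
    intro x
    apply Cfsg.Agent.Helper24.mem_torsionKer.mp
    rw [hT]; trivial
  have hpG : IsPGroup p G := fun x => ⟨1, by rw [pow_one]; exact hexp x⟩
  obtain ⟨k, hk⟩ := IsPGroup.iff_card.mp hpG
  have hcardtop : p ^ 2 ≤ Nat.card G := by
    rw [hT] at hcard
    rwa [Subgroup.card_top] at hcard
  have hk2 : 2 ≤ k := by
    rw [hk] at hcardtop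
    exact (Nat.pow_le_pow_iff_right hp.one_lt).mp hcardtop
  obtain ⟨K, hK⟩ := Sylow.exists_subgroup_card_pow_prime (G := G) p
    (n := 2) (by rw [hk]; exact pow_dvd_pow p hk2)
  have hKtop : K = ⊤ := by
    apply htop
    exact not_isCyclic_of_exponent hp K (fun x _ => hexp x) (by rw [hK])
  refine ⟨p, hp, ?_, ?_⟩
  · rw [← hK, hKtop, Subgroup.card_top]
  · have h1 : Monoid.exponent G ∣ p := Monoid.exponent_dvd_of_forall_pow_eq_one hexp
    rcases (Nat.dvd_prime hp).mp h1 with h | h
    · exfalso
      rw [Monoid.exp_eq_one_iff] at h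
      apply hcyc
      infer_instance
    · exact h

end Cfsg.Agent.S3917
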