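import Cfsg.Statements.S3918
import Mathlib
import Cfsg.Agent.S0636
import Cfsg.Agent.S4143
import Cfsg.Agent.Lib.Helper35.NormalStep
import Cfsg.Agent.Lib.Helper32.PGroupCenter

set_option autoImplicit false
open Cfsg
open scoped commutatorElement

namespace Cfsg.Agent.S3918

universe u

/-- forward direction: the order is at most `p^3` -/
theorem card_le_cube {G : Type u} [Group G] [Finite G] {p : ℕ} [Fact p.Prime] (hp : p ≠ 2)
    (hG : IsPGroup p G) (hna : ¬ IsMulCommutative G)
    (h : ∀ H : Subgroup G, ¬ IsCyclic ↥H → Subgroup.centralizer (H : Set G) ≤ H) :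
    Nat.card G < p ^ 4 := by
  classical
  have hpp : p.Prime := Fact.out
  have htop : ¬ IsCyclic (⊤ : Subgroup G) := by
    intro hc
    apply hna
    haveI : IsCyclic G := MulEquiv.isCyclic (Subgroup.topEquiv (G := G)) |>.mp hc
    exact IsCyclic.isMulCommutative
  obtain ⟨A, -, hAn, hAel, hAcard⟩ := Cfsg.Agent.S0636.result hp hG ⊤ htop
  haveI := hAn
  have hAnc : ¬ IsCyclic A := by
    intro hc
    obtain ⟨g, hg⟩ := hc.exists_generator
    have h1 : orderOf g = Nat.card A := orderOf_eq_card_of_forall_mem_zpowers hg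
    have h2 : g ^ p = 1 := by
      apply Subtype.ext
      have := hAel.2 g.1 g.2
      simpa using this
    have h3 : orderOf g ∣ p := orderOf_dvd_of_pow_eq_one h2
    rw [h1, hAcard] at h3
    have h4 := Nat.le_of_dvd hpp.pos h3
    have : p ^ 1 < p ^ 2 := Nat.pow_lt_pow_right hpp.one_lt (by norm_num)
    rw [pow_one] at this
    omega
  have hCA : Subgroup.centralizer (A : Set G) ≤ A := h A hAnc
  have hAne : A ≠ ⊥ := by
    intro hbot
    rw [hbot] at hAcard
    rw [Subgroup.card_bot] at hAcard
    have : 1 < p ^ 2 := Nat.one_lt_pow (by norm_num) hpp.one_lt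
    omega
  obtain ⟨a, haA, ha1, haZ⟩ := Cfsg.Agent.Helper32.exists_ne_one_mem_center_of_normal hG A hAne
  -- an element outside ⟨a⟩
  have hza : Nat.card (Subgroup.zpowers a) = p := by
    rw [Nat.card_zpowers]
    have h1 : orderOf a ∣ p := orderOf_dvd_of_pow_eq_one (hAel.2 a haA)
    rcases (Nat.dvd_prime hpp).mp h1 with h2 | h2
    · exact absurd (orderOf_eq_one_iff.mp h2) ha1
    · exact h2
  obtain ⟨b, hbA, hbz⟩ : ∃ b, b ∈ A ∧ b ∉ Subgroup.zpowers a := by
    by_contra hcon
    push Not at hcon
    have hle : A ≤ Subgroup.zpowers a := fun b hb => hcon b hb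
    have h1 := Subgroup.card_le_of_le hle
    rw [hAcard, hza] at h1
    have : p ^ 1 < p ^ 2 := Nat.pow_lt_pow_right hpp.one_lt (by norm_num)
    rw [pow_one] at this
    omega
  have hgen : Subgroup.closure ({a, b} : Set G) = A := by
    set K := Subgroup.closure ({a, b} : Set G) with hK
    have hKA : K ≤ A := by
      rw [hK, Subgroup.closure_le]
      intro t ht
      rcases ht with rfl | rfl
      · exact haA
      · exact hbA
    have hzK : Subgroup.zpowers a ≤ K := by
      rw [Subgroup.zpowers_le]
      exact Subgroup.subset_closure (by simp)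
    have hbK : b ∈ K := Subgroup.subset_closure (by simp)
    have h1 : Nat.card K ∣ p ^ 2 := hAcard ▸ Subgroup.card_dvd_of_le hKA
    obtain ⟨m, hm2, hKm⟩ := (Nat.dvd_prime_pow hpp).mp h1
    have hm : m = 2 := by
      by_contra hne
      have hm1 : m ≤ 1 := by omega
      have h2 : Nat.card K ≤ p := by
        rw [hKm]
        calc p ^ m ≤ p ^ 1 := Nat.pow_le_pow_right hpp.pos hm1
          _ = p := pow_one p
      have h3 : Subgroup.zpowers a = K := Subgroup.eq_of_le_of_card_ge hzK (by rw [hza]; exact h2)
      exact hbz (h3 ▸ hbK)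
    subst hm
    exact Subgroup.eq_of_le_of_card_ge hKA (by rw [hKm, hAcard])
  -- C_G(b) ≤ A
  have hCb : Subgroup.centralizer ({b} : Set G) ≤ A := by
    refine le_trans ?_ hCA
    intro g hg
    rw [← hgen, Subgroup.centralizer_closure]
    refine Subgroup.mem_centralizer_iff.mpr ?_
    intro t ht
    rcases ht with rfl | ht
    · exact (Subgroup.mem_center_iff.mp haZ g).symm
    · rw [Set.mem_singleton_iff] at ht
      subst ht
      exact (Subgroup.mem_centralizer_iff.mp hg) t (Set.mem_singleton t)
  have hb1 : b ≠ 1 := by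
    intro hb
    apply hbz
    rw [hb]
    exact Subgroup.one_mem _
  -- the index of C_G(b) is less than p^2
  have hidx : (Subgroup.centralizer ({b} : Set G)).index < p ^ 2 := by
    let e := Subgroup.quotientCentralizerEmbedding b
    have hmem : ∀ q : G ⧸ Subgroup.centralizer ({b} : Set G), ((e q : commutatorSet G) : G) ∈ A := by
      intro q
      induction q using QuotientGroup.induction_on with
      | H x =>
        have : e (x : G ⧸ Subgroup.centralizer ({b} : Set G)) = ⟨⁅x, b⁆, x, b, rfl⟩ :=
          Subgroup.quotientCentralizerEmbedding_apply b x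
        rw [this]
        show ⁅x, b⁆ ∈ A
        rw [commutatorElement_def]
        exact A.mul_mem (hAn.conj_mem b hbA x) (A.inv_mem hbA)
    let f : G ⧸ Subgroup.centralizer ({b} : Set G) → A := fun q => ⟨_, hmem q⟩
    have hf : Function.Injective f := by
      intro q₁ q₂ hq
      apply e.injective
      apply Subtype.ext
      exact congrArg (fun z : A => (z : G)) hq
    have hns : ¬ Function.Surjective f := by
      intro hs
      obtain ⟨q, hq⟩ := hs ⟨b⁻¹, A.inv_mem hbA⟩
      induction q using QuotientGroup.induction_on with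
      | H x =>
        have h1 : e (x : G ⧸ Subgroup.centralizer ({b} : Set G)) = ⟨⁅x, b⁆, x, b, rfl⟩ :=
          Subgroup.quotientCentralizerEmbedding_apply b x
        have h2 : ((e (x : G ⧸ Subgroup.centralizer ({b} : Set G)) : commutatorSet G) : G) = b⁻¹ :=
          congrArg (fun z : A => (z : G)) hq
        rw [h1] at h2
        have h3 : ⁅x, b⁆ = b⁻¹ := h2
        rw [commutatorElement_def] at h3
        have h4 : x * b * x⁻¹ = 1 := by
          have h5 : x * b * x⁻¹ * b⁻¹ = 1 * b⁻¹ := by rw [h3, one_mul]
          exact mul_right_cancel h5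
        apply hb1
        have : b = x⁻¹ * (x * b * x⁻¹) * x := by group
        rw [this, h4]
        group
    have hlt : Nat.card (G ⧸ Subgroup.centralizer ({b} : Set G)) < Nat.card A := by
      haveI := Fintype.ofFinite (G ⧸ Subgroup.centralizer ({b} : Set G))
      haveI := Fintype.ofFinite A
      rw [Nat.card_eq_fintype_card, Nat.card_eq_fintype_card]
      exact Fintype.card_lt_of_injective_not_surjective f hf hns
    rw [Subgroup.index_eq_card, ← hAcard]
    exact hlt
  have h1 := Subgroup.card_mul_index (Subgroup.centralizer ({b} : Set G))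
  have h2 : Nat.card (Subgroup.centralizer ({b} : Set G)) ≤ p ^ 2 := hAcard ▸ Subgroup.card_le_of_le hCb
  calc Nat.card G = Nat.card (Subgroup.centralizer ({b} : Set G)) * (Subgroup.centralizer ({b} : Set G)).index := h1.symm
    _ ≤ p ^ 2 * (Subgroup.centralizer ({b} : Set G)).index := Nat.mul_le_mul_right _ h2
    _ < p ^ 2 * p ^ 2 := Nat.mul_lt_mul_of_pos_left hidx (pow_pos hpp.pos 2)
    _ = p ^ 4 := by ring

/-- backward direction -/
theorem self_centralizing_of_card {G : Type u} [Group G] [Finite G] {p : ℕ} [Fact p.Prime]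
    (hna : ¬ IsMulCommutative G) (hcard : Nat.card G = p ^ 3)
    (H : Subgroup G) (hH : ¬ IsCyclic ↥H) : Subgroup.centralizer (H : Set G) ≤ H := by
  classical
  have hpp : p.Prime := Fact.out
  have h1 : Nat.card H ∣ p ^ 3 := hcard ▸ Subgroup.card_subgroup_dvd_card H
  obtain ⟨m, hm3, hHm⟩ := (Nat.dvd_prime_pow hpp).mp h1
  have hm2 : 2 ≤ m := by
    by_contra hlt
    apply hH
    have hm : m = 0 ∨ m = 1 := by omega
    rcases hm with rfl | rfl
    · haveI : Subsingleton H := (Nat.card_eq_one_iff_unique.mp (by simpa using hHm)).1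
      exact isCyclic_of_subsingleton
    · exact isCyclic_of_prime_card (p := p) (by simpa using hHm)
  by_cases hm : m = 3
  · subst hm
    have : H = ⊤ := Subgroup.eq_top_of_card_eq H (by rw [hHm, hcard])
    rw [this]
    exact le_top
  have hm' : m = 2 := by omega
  subst hm'
  have hHcomm : ∀ a b : H, a * b = b * a := Cfsg.Agent.S4143.comm_of_card_le_sq (le_refl 2) hHm
  have hHle : H ≤ Subgroup.centralizer (H : Set G) := by
    intro a ha
    rw [Subgroup.mem_centralizer_iff]
    intro b hb
    exact congrArg Subtype.val (hHcomm ⟨b, hb⟩ ⟨a, ha⟩)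
  by_contra hnle
  apply hna
  have h2 : Nat.card (Subgroup.centralizer (H : Set G)) ∣ p ^ 3 :=
    hcard ▸ Subgroup.card_subgroup_dvd_card _
  obtain ⟨k, hk3, hCk⟩ := (Nat.dvd_prime_pow hpp).mp h2
  have hk2 : 2 ≤ k := by
    have := Subgroup.card_le_of_le hHle
    rw [hHm, hCk] at this
    exact (Nat.pow_le_pow_iff_right hpp.one_lt).mp this
  have hk : k = 3 := by
    by_contra hne
    have hk' : k = 2 := by omega
    apply hnle
    rw [hk'] at hCk
    have := Subgroup.eq_of_le_of_card_ge hHle (by rw [hCk, hHm])
    rw [← this]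
  rw [hk] at hCk
  have htop : Subgroup.centralizer (H : Set G) = ⊤ :=
    Subgroup.eq_top_of_card_eq _ (by rw [hCk, hcard])
  have hidx : H.relIndex ⊤ = p := by
    rw [Subgroup.relIndex_top_right]
    have h3 := Subgroup.card_mul_index H
    rw [hHm, hcard] at h3
    have : p ^ 2 * H.index = p ^ 2 * p := by rw [h3]; ring
    exact Nat.eq_of_mul_eq_mul_left (pow_pos hpp.pos 2) this
  have hcen : (⊤ : Subgroup G) ≤ Subgroup.centralizer (H : Set G) := by rw [htop]
  have := Cfsg.Agent.Helper35.comm_of_central_of_relIndex_prime hpp H ⊤ le_top hcen hidx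
  exact ⟨⟨fun x y => this x (Subgroup.mem_top x) y (Subgroup.mem_top y)⟩⟩

/-- Say that a group has self-centralizing non-cyclic subgroups when every non-cyclic subgroup H satisfies C_G(H) ≤ H. For an odd prime p, a finite non-abelian p-group has self-centralizing non-cyclic subgroups if and only if it has order p³. -/
theorem result {G : Type*} [Group G] [Finite G] {p : ℕ} [Fact p.Prime] (hp : p ≠ 2) (hG : IsPGroup p G) (hna : ¬ IsMulCommutative G) :
    (∀ H : Subgroup G, ¬ IsCyclic ↥H → Subgroup.centralizer (H : Set G) ≤ H) ↔ Nat.card G = p ^ 3 := by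
  have hpp : p.Prime := Fact.out
  constructor
  · intro h
    have hlt := card_le_cube hp hG hna h
    obtain ⟨n, hn⟩ := IsPGroup.iff_card.mp hG
    rw [hn] at hlt ⊢
    have hn4 : n < 4 := (Nat.pow_lt_pow_iff_right hpp.one_lt).mp hlt
    have hn3 : 3 ≤ n := by
      by_contra hlt3
      apply hna
      have := Cfsg.Agent.S4143.comm_of_card_le_sq (k := n) (by omega) hn
      exact ⟨⟨this⟩⟩
    have : n = 3 := by omega
    rw [this]
  · intro hcard H hH
    exact self_centralizing_of_card hna hcard H hH

end Cfsg.Agent.S3918
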