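import Mathlib
import Cfsg.Statements.S3920
-- import your own Cfsg.Agent.* helpers here

set_option autoImplicit false
open Cfsg

namespace Cfsg.Agent.S3920

open DihedralGroup

variable {n : ℕ}

/-- The rotation hom. -/
def rotHom (n : ℕ) : Multiplicative (ZMod n) →* DihedralGroup n where
  toFun x := r (Multiplicative.toAdd x)
  map_one' := by simp
  map_mul' := by intro a b; simp [r_mul_r]

/-- The rotations in `H` form an additive subgroup. -/
def rotSub (H : Subgroup (DihedralGroup n)) : AddSubgroup (ZMod n) where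
  carrier := {x | r x ∈ H}
  zero_mem' := by
    show r 0 ∈ H
    rw [r_zero]; exact H.one_mem
  add_mem' := by
    intro a b ha hb
    show r (a + b) ∈ H
    rw [← r_mul_r]; exact H.mul_mem ha hb
  neg_mem' := by
    intro a ha
    show r (-a) ∈ H
    rw [← inv_r]; exact H.inv_mem ha

lemma mem_rotSub (H : Subgroup (DihedralGroup n)) (x : ZMod n) : x ∈ rotSub H ↔ r x ∈ H := Iff.rfl

/-- A subgroup consisting of rotations is cyclic. -/
lemma cyclic_of_rot (H : Subgroup (DihedralGroup n)) (h : ∀ g ∈ H, ∃ x, g = r x) : IsCyclic H := by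
  have hle : H ≤ (rotHom n).range := by
    intro g hg
    obtain ⟨x, rfl⟩ := h g hg
    exact ⟨Multiplicative.ofAdd x, rfl⟩
  have : IsCyclic (rotHom n).range :=
    isCyclic_of_surjective (rotHom n).rangeRestrict (rotHom n).rangeRestrict_surjective
  exact Subgroup.isCyclic_of_le hle

/-- A non-cyclic subgroup contains a reflection. -/
lemma exists_sr (H : Subgroup (DihedralGroup n)) (hH : ¬ IsCyclic H) : ∃ i, sr i ∈ H := by
  by_contra hcon
  push Not at hcon
  apply hH
  apply cyclic_of_rot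
  intro g hg
  cases g with
  | r x => exact ⟨x, rfl⟩
  | sr x => exact absurd hg (hcon x)

/-- A non-cyclic subgroup contains a nontrivial rotation. -/
lemma exists_r (H : Subgroup (DihedralGroup n)) (hH : ¬ IsCyclic H) : ∃ m, m ≠ 0 ∧ r m ∈ H := by
  obtain ⟨i, hi⟩ := exists_sr H hH
  by_contra hcon
  push Not at hcon
  apply hH
  have hle : H ≤ Subgroup.zpowers (sr i) := by
    intro g hg
    cases g with
    | r x =>
      have : x = 0 := by
        by_contra hx
        exact hcon x hx hg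
      rw [this, r_zero]; exact Subgroup.one_mem _
    | sr x =>
      have h1 : r (x - i) ∈ H := by
        rw [← sr_mul_sr]; exact H.mul_mem hi hg
      have : x - i = 0 := by
        by_contra hx
        exact hcon _ hx h1
      have : x = i := sub_eq_zero.mp this
      rw [this]; exact Subgroup.mem_zpowers _
  exact Subgroup.isCyclic_of_le hle

/-- Elements of the centralizer, relative to a reflection `sr i ∈ H`. -/
lemma centralizer_form (H : Subgroup (DihedralGroup n)) (i : ZMod n) (hi : sr i ∈ H)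
    (c : DihedralGroup n) (hc : c ∈ Subgroup.centralizer (H : Set (DihedralGroup n))) :
    ∃ d : ZMod n, d + d = 0 ∧ (c = r d ∨ c = sr i * r d) := by
  have hcomm := Subgroup.mem_centralizer_iff.mp hc (sr i) hi
  cases c with
  | r j =>
    refine ⟨j, ?_, Or.inl rfl⟩
    rw [sr_mul_r, r_mul_sr] at hcomm
    have h1 : i + j = i - j := by injection hcomm
    have : j + j = (i + j) - (i - j) := by ring
    rw [this, h1, sub_self]
  | sr j =>
    refine ⟨j - i, ?_, Or.inr ?_⟩
    · rw [sr_mul_sr, sr_mul_sr] at hcomm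
      have h1 : j - i = i - j := by injection hcomm
      calc j - i + (j - i) = (j - i) + (i - j) := by rw [← h1]
        _ = 0 := by ring
    · rw [sr_mul_r]; congr 1; ring

lemma odd_case (hodd : Odd n) (d : ZMod n) (hd : d + d = 0) : d = 0 := by
  have hn0 : n ≠ 0 := by rintro rfl; exact absurd hodd (by decide)
  have : NeZero n := ⟨hn0⟩
  have h1 : ((2 * d.val : ℕ) : ZMod n) = 0 := by
    push_cast
    rw [ZMod.natCast_zmod_val, two_mul, hd]
  rw [ZMod.natCast_eq_zero_iff] at h1
  have hcop : Nat.Coprime n 2 := Nat.Coprime.symm (Nat.coprime_two_left.mpr hodd)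
  have h2 : n ∣ d.val := hcop.dvd_of_dvd_mul_left h1
  have h3 : d.val < n := ZMod.val_lt d
  have h4 : d.val = 0 := Nat.eq_zero_of_dvd_of_lt h2 h3
  exact (ZMod.val_eq_zero d).mp h4

/-- In `ZMod (2^k)` a nonzero element with `d + d = 0` has value `2^(k-1)`. -/
lemma val_of_two_torsion (k : ℕ) (d : ZMod (2 ^ k)) (hd : d + d = 0) (hd0 : d ≠ 0) :
    k ≠ 0 ∧ d.val = 2 ^ (k - 1) := by
  have : NeZero (2 ^ k) := ⟨by positivity⟩
  have h1 : ((2 * d.val : ℕ) : ZMod (2 ^ k)) = 0 := by
    push_cast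
    rw [ZMod.natCast_zmod_val, two_mul, hd]
  rw [ZMod.natCast_eq_zero_iff] at h1
  have h3 : d.val < 2 ^ k := ZMod.val_lt d
  have h4 : d.val ≠ 0 := fun h => hd0 ((ZMod.val_eq_zero d).mp h)
  have hk : k ≠ 0 := by
    rintro rfl
    have : d.val < 1 := by simpa using h3
    omega
  refine ⟨hk, ?_⟩
  obtain ⟨k', rfl⟩ : ∃ k', k = k' + 1 := ⟨k - 1, by omega⟩
  have h1' : 2 * 2 ^ k' ∣ 2 * d.val := by rw [← pow_succ']; exact h1
  have h5 : 2 ^ k' ∣ d.val := Nat.dvd_of_mul_dvd_mul_left (by norm_num) h1'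
  obtain ⟨c, hc⟩ := h5
  rw [Nat.add_sub_cancel]
  have h3' : d.val < 2 ^ k' * 2 := by rw [← pow_succ]; exact h3
  have hc1 : c < 2 := by
    by_contra hc2
    push Not at hc2
    have : 2 ^ k' * 2 ≤ 2 ^ k' * c := Nat.mul_le_mul_left _ hc2
    omega
  have hc0 : c ≠ 0 := by
    rintro rfl
    rw [mul_zero] at hc
    exact h4 hc
  have : c = 1 := by omega
  rw [hc, this, mul_one]

lemma pow_case (k : ℕ) (K : AddSubgroup (ZMod (2 ^ k))) (m : ZMod (2 ^ k)) (hm : m ∈ K) (hm0 : m ≠ 0)
    (d : ZMod (2 ^ k)) (hd : d + d = 0) : d ∈ K := by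
  have : NeZero (2 ^ k) := ⟨by positivity⟩
  by_cases hd0 : d = 0
  · rw [hd0]; exact K.zero_mem
  obtain ⟨hk, hdv⟩ := val_of_two_torsion k d hd hd0
  -- the order of m is 2^s, s ≥ 1
  have h1 : addOrderOf m ∣ 2 ^ k := by
    have := addOrderOf_dvd_card (x := m)
    rwa [ZMod.card] at this
  obtain ⟨s, -, hs⟩ := (Nat.dvd_prime_pow Nat.prime_two).mp h1
  have hs0 : s ≠ 0 := by
    rintro rfl
    rw [pow_zero, AddMonoid.addOrderOf_eq_one_iff] at hs
    exact hm0 hs
  obtain ⟨s', rfl⟩ : ∃ s', s = s' + 1 := ⟨s - 1, by omega⟩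
  let e : ZMod (2 ^ k) := (2 ^ s') • m
  have he : e ∈ K := K.nsmul_mem hm _
  have he0 : e ≠ 0 := by
    apply nsmul_ne_zero_of_lt_addOrderOf (by positivity)
    rw [hs, pow_succ]
    have : 0 < 2 ^ s' := by positivity
    omega
  have hee : e + e = 0 := by
    show (2 ^ s') • m + (2 ^ s') • m = 0
    rw [← two_nsmul, ← mul_nsmul', ← pow_succ', ← hs]
    exact addOrderOf_nsmul_eq_zero m
  obtain ⟨-, hev⟩ := val_of_two_torsion k e hee he0
  have : d = e := ZMod.val_injective _ (hdv.trans hev.symm)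
  rw [this]; exact he

/-- The "index" of a dihedral group element. -/
def idx : DihedralGroup n → ZMod n
  | r x => x
  | sr x => x

/-- The subgroup of elements whose index vanishes under a ring hom. -/
def idxSub {R : Type*} [Ring R] (π : ZMod n →+* R) : Subgroup (DihedralGroup n) where
  carrier := {g | π (idx g) = 0}
  one_mem' := by
    show π (idx (1 : DihedralGroup n)) = 0
    rw [one_def]; simp [idx]
  mul_mem' := by
    intro a b ha hb
    have ha' : π (idx a) = 0 := ha
    have hb' : π (idx b) = 0 := hb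
    show π (idx (a * b)) = 0
    cases a <;> cases b <;>
      simp only [idx, r_mul_r, r_mul_sr, sr_mul_r, sr_mul_sr, map_add, map_sub] at ha' hb' ⊢ <;>
      simp [ha', hb']
  inv_mem' := by
    intro a ha
    have ha' : π (idx a) = 0 := ha
    show π (idx a⁻¹) = 0
    cases a <;> simp only [idx, inv_r, inv_sr, map_neg] at ha' ⊢ <;> simp [ha']

lemma mem_idxSub {R : Type*} [Ring R] (π : ZMod n →+* R) (g : DihedralGroup n) :
    g ∈ idxSub π ↔ π (idx g) = 0 := Iff.rfl

lemma forward (hn : 3 ≤ n) (hodd : ¬ Odd n) (hpow : ¬ ∃ k : ℕ, n = 2 ^ k) :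
    ∃ H : Subgroup (DihedralGroup n), ¬ IsCyclic ↥H ∧
      ¬ Subgroup.centralizer (H : Set (DihedralGroup n)) ≤ H := by
  have hn0 : n ≠ 0 := by omega
  have : NeZero n := ⟨hn0⟩
  obtain ⟨a, b, hb, hab⟩ := Nat.exists_eq_two_pow_mul_odd hn0
  have ha0 : a ≠ 0 := by
    rintro rfl
    rw [pow_zero, one_mul] at hab
    exact hodd (hab ▸ hb)
  have hb1 : b ≠ 1 := by
    rintro rfl
    exact hpow ⟨a, by rw [hab, mul_one]⟩
  obtain ⟨a', rfl⟩ : ∃ a', a = a' + 1 := ⟨a - 1, by omega⟩
  have hdvd : 2 ^ (a' + 1) ∣ n := ⟨b, hab⟩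
  let π : ZMod n →+* ZMod (2 ^ (a' + 1)) := ZMod.castHom hdvd _
  let H := idxSub π
  let zz : ℕ := 2 ^ a' * b
  have hzz : 2 * zz = n := by rw [hab, pow_succ]; ring
  refine ⟨H, ?_, ?_⟩
  · intro hcyc
    have h1 : r ((2 ^ (a' + 1) : ℕ) : ZMod n) ∈ H := by
      rw [mem_idxSub]
      show π ((2 ^ (a' + 1) : ℕ) : ZMod n) = 0
      rw [map_natCast, ZMod.natCast_self]
    have h2 : sr (0 : ZMod n) ∈ H := by
      rw [mem_idxSub]
      show π 0 = 0
      rw [map_zero]
    have hcomm : (⟨_, h1⟩ : H) * ⟨_, h2⟩ = ⟨_, h2⟩ * ⟨_, h1⟩ := by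
      obtain ⟨g, hg⟩ := hcyc.exists_generator
      obtain ⟨k1, hk1⟩ := Subgroup.mem_zpowers_iff.mp (hg ⟨_, h1⟩)
      obtain ⟨k2, hk2⟩ := Subgroup.mem_zpowers_iff.mp (hg ⟨_, h2⟩)
      rw [← hk1, ← hk2, ← zpow_add, ← zpow_add, add_comm]
    have hcomm' := congrArg Subtype.val hcomm
    simp only [Subgroup.coe_mul, r_mul_sr, sr_mul_r] at hcomm'
    have h3 : (0 : ZMod n) - ((2 ^ (a' + 1) : ℕ) : ZMod n) = 0 + ((2 ^ (a' + 1) : ℕ) : ZMod n) := by
      injection hcomm'
    have h4 : ((2 ^ (a' + 1) * 2 : ℕ) : ZMod n) = 0 := by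
      push_cast
      push_cast at h3
      linear_combination -h3
    rw [ZMod.natCast_eq_zero_iff, hab] at h4
    have h5 : b ∣ 2 := by
      have : 2 ^ (a' + 1) * b ∣ 2 ^ (a' + 1) * 2 := h4
      exact Nat.dvd_of_mul_dvd_mul_left (by positivity) this
    have h6 : b ≤ 2 := Nat.le_of_dvd (by norm_num) h5
    have hb0 : b ≠ 0 := by rintro rfl; exact absurd hb (by decide)
    have : b = 2 := by omega
    rw [this] at hb
    exact absurd hb (by decide)
  · intro hle
    have hz : r ((zz : ℕ) : ZMod n) ∈ Subgroup.centralizer (H : Set (DihedralGroup n)) := by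
      rw [Subgroup.mem_centralizer_iff]
      intro g _
      have h2 : ((zz : ℕ) : ZMod n) + ((zz : ℕ) : ZMod n) = 0 := by
        rw [← Nat.cast_add, ← two_mul, hzz, ZMod.natCast_self]
      cases g with
      | r x => rw [r_mul_r, r_mul_r, add_comm]
      | sr x =>
        rw [sr_mul_r, r_mul_sr]
        congr 1
        linear_combination h2
    have hzH := hle hz
    rw [mem_idxSub] at hzH
    have : π ((zz : ℕ) : ZMod n) = 0 := hzH
    rw [map_natCast, ZMod.natCast_eq_zero_iff] at this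
    have h5 : 2 ∣ b := by
      have : 2 ^ a' * 2 ∣ 2 ^ a' * b := by rwa [pow_succ] at this
      exact Nat.dvd_of_mul_dvd_mul_left (by positivity) this
    exact (Nat.not_even_iff_odd.mpr hb) (even_iff_two_dvd.mpr h5)

/-- Say that a group has self-centralizing non-cyclic subgroups when every non-cyclic subgroup H satisfies C_G(H) ≤ H. For n ≥ 3, the dihedral group of order 2n has self-centralizing non-cyclic subgroups if and only if n is odd or a power of 2. -/
theorem result (n : ℕ) (hn : 3 ≤ n) : (∀ H : Subgroup (DihedralGroup n), ¬ IsCyclic ↥H → Subgroup.centralizer (H : Set (DihedralGroup n)) ≤ H) ↔ (Odd n ∨ ∃ k : ℕ, n = 2 ^ k) := by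
  constructor
  · intro h
    by_contra hcon
    push Not at hcon
    obtain ⟨H, hH1, hH2⟩ := forward hn hcon.1 (by push Not; exact hcon.2)
    exact hH2 (h H hH1)
  · intro h H hH c hc
    obtain ⟨i, hi⟩ := exists_sr H hH
    obtain ⟨m, hm0, hm⟩ := exists_r H hH
    obtain ⟨d, hd, hcd⟩ := centralizer_form H i hi c hc
    have hrd : r d ∈ H := by
      rcases h with hodd | ⟨k, rfl⟩
      · rw [odd_case hodd d hd, r_zero]; exact H.one_mem
      · exact pow_case k (rotSub H) m hm hm0 d hd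
    rcases hcd with rfl | rfl
    · exact hrd
    · exact H.mul_mem hi hrd

end Cfsg.Agent.S3920
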