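import Cfsg.Statements.S3927
import Mathlib
import Cfsg.Agent.Lib.Helper90.GenZipper

set_option autoImplicit false
open Cfsg

namespace Cfsg.Agent.S3927

open Subgroup
open scoped Pointwise

universe u

section general

variable {Γ : Type*} [Group Γ]

/-- iterated conjugation sets: `D₀ = Γ`, `D_{j+1} = {x a x⁻¹ : x ∈ D_j}` -/
def Dset (a : Γ) : ℕ → Set Γ
  | 0 => Set.univ
  | (j + 1) => (fun x => x * a * x⁻¹) '' Dset a j

theorem a_mem_Dset (a : Γ) (j : ℕ) : a ∈ Dset a j := by
  induction j with
  | zero => exact Set.mem_univ a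
  | succ j ih => exact ⟨a, ih, by group⟩

theorem Dset_subtype (H : Subgroup Γ) (a : Γ) (ha : a ∈ H) (j : ℕ) :
    H.subtype '' Dset (⟨a, ha⟩ : H) j ⊆ Dset a j := by
  induction j with
  | zero => exact Set.subset_univ _
  | succ j ih =>
    rintro _ ⟨_, ⟨x, hx, rfl⟩, rfl⟩
    exact ⟨(x : Γ), ih ⟨x, hx, rfl⟩, rfl⟩

end general

open Cfsg.Agent.Helper90 in
theorem main : ∀ (n : ℕ) (Γ : Type u) [Group Γ] [Finite Γ], Nat.card Γ = n → ∀ a : Γ,
    normalClosure ({a} : Set Γ) = ⊤ → ∀ j, closure (Dset a j) = ⊤ := by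
  intro n
  induction n using Nat.strong_induction_on with
  | _ n ih =>
    intro Γ _ _ hcard a ha j
    by_cases hcyc : zpowers a = ⊤
    · rw [eq_top_iff, ← hcyc, zpowers_le]
      exact subset_closure (a_mem_Dset a j)
    have hA : normalClosure ((zpowers a : Subgroup Γ) : Set Γ) = ⊤ := by
      rw [eq_top_iff, ← ha]
      apply normalClosure_mono
      intro x hx
      rw [Set.mem_singleton_iff] at hx
      rw [hx]; exact mem_zpowers a
    rcases gen_zipper (zpowers a) hA hcyc with h | ⟨M, ⟨hM, hAM⟩, huniq⟩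
    · rw [eq_top_iff, ← h]
      apply sSup_le
      rintro H ⟨hAH, hHtop, hHcl⟩
      have haH : a ∈ H := hAH (mem_zpowers a)
      have hcardH : Nat.card H < n := by
        rw [← hcard]
        refine lt_of_le_of_ne (Subgroup.card_le_card_group H) ?_
        intro h2
        exact hHtop (Subgroup.eq_top_of_card_eq H h2)
      have hcl' : normalClosure ({⟨a, haH⟩} : Set ↥H) = ⊤ := by
        rw [eq_top_iff, ← hHcl]
        apply normalClosure_le_normal
        intro x hx
        have hx' : (x : Γ) ∈ zpowers a := mem_subgroupOf.1 hx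
        obtain ⟨k, hk⟩ := mem_zpowers_iff.1 hx'
        have : x = (⟨a, haH⟩ : H) ^ k := Subtype.ext (by rw [← hk]; simp)
        rw [this]
        have hmem : (⟨a, haH⟩ : ↥H) ∈ normalClosure ({⟨a, haH⟩} : Set ↥H) :=
          subset_normalClosure (Set.mem_singleton _)
        exact zpow_mem hmem k
      have hH : closure (Dset (⟨a, haH⟩ : ↥H) j) = ⊤ :=
        ih (Nat.card ↥H) hcardH ↥H rfl (⟨a, haH⟩ : ↥H) hcl' j
      intro x hx
      have hx' : (⟨x, hx⟩ : H) ∈ closure (Dset (⟨a, haH⟩ : H) j) := by rw [hH]; exact mem_top _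
      have h3 := mem_map_of_mem H.subtype hx'
      rw [MonoidHom.map_closure] at h3
      exact closure_mono (Dset_subtype H a haH j) h3
    · induction j with
      | zero => exact Subgroup.closure_univ
      | succ j ihj =>
        by_contra hne
        obtain ⟨M', hM', hle⟩ := (eq_top_or_exists_le_coatom (closure (Dset a (j + 1)))).resolve_left hne
        have haM' : a ∈ M' := hle (subset_closure (a_mem_Dset a (j + 1)))
        have hMM : M' = M := huniq M' ⟨hM', zpowers_le.2 haM'⟩
        subst hMM
        have hex : ∃ d ∈ Dset a j, d ∉ M' := by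
          by_contra hcon
          push Not at hcon
          have h2 : closure (Dset a j) ≤ M' := (closure_le M').2 hcon
          rw [ihj] at h2
          exact hM.1 (eq_top_iff.2 h2)
        obtain ⟨d, hd, hdM⟩ := hex
        have h1 : d * a * d⁻¹ ∈ M' := hle (subset_closure ⟨d, hd, rfl⟩)
        have haM2 : a ∈ MulAut.conj d⁻¹ • M' := by
          rw [mem_conj_smul']
          simpa using h1
        have hM2 : IsCoatom (MulAut.conj d⁻¹ • M') := isCoatom_conj_smul hM d⁻¹
        have heq : MulAut.conj d⁻¹ • M' = M' := huniq _ ⟨hM2, zpowers_le.2 haM2⟩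
        have hdn : d⁻¹ ∈ normalizer (M' : Set Γ) := conj_smul_eq_self_iff_mem_normalizer.1 heq
        have hdn' : d ∈ normalizer (M' : Set Γ) := by simpa using inv_mem hdn
        have hnorm : normalizer (M' : Set Γ) = M' := by
          by_contra hne2
          have hlt : M' < normalizer (M' : Set Γ) := lt_of_le_of_ne le_normalizer (Ne.symm hne2)
          have htop := hM.2 _ hlt
          have hMn : M'.Normal := normalizer_eq_top_iff.1 htop
          have h3 : normalClosure ((zpowers a : Subgroup Γ) : Set Γ) ≤ M' := normalClosure_le_normal hAM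
          rw [hA] at h3
          exact hM.1 (eq_top_iff.2 h3)
        rw [hnorm] at hdn'
        exact hdM hdn'

section semidirect

variable {G : Type*} [Group G] (α : MulAut G)

/-- the map `c ↦ c * α(c)⁻¹` -/
def ff (c : G) : G := c * (α c)⁻¹

/-- the element `α` of the semidirect product -/
def aa : G ⋊[(zpowers α).subtype] ↥(zpowers α) := SemidirectProduct.inr ⟨α, mem_zpowers α⟩

theorem conj_left (y : G ⋊[(zpowers α).subtype] ↥(zpowers α)) :
    (y * aa α * y⁻¹).left = ff α y.left := by
  have hc : y.right * (⟨α, mem_zpowers α⟩ : ↥(zpowers α)) * y.right⁻¹ = ⟨α, mem_zpowers α⟩ := by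
    rw [mul_comm' y.right, mul_assoc, mul_inv_cancel, mul_one]
  simp only [SemidirectProduct.mul_left, SemidirectProduct.mul_right, SemidirectProduct.inv_left,
    aa, SemidirectProduct.left_inr, SemidirectProduct.right_inr, map_one, mul_one, ff]
  rw [← MulAut.mul_apply, ← map_mul, hc]
  simp

theorem left_mem_range (k : ℕ) (x : G ⋊[(zpowers α).subtype] ↥(zpowers α)) (hx : x ∈ Dset (aa α) k) :
    x.left ∈ Set.range ((ff α)^[k]) := by
  induction k generalizing x with
  | zero => exact ⟨x.left, rfl⟩
  | succ k ih =>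
    obtain ⟨y, hy, rfl⟩ := hx
    obtain ⟨c, hc⟩ := ih y hy
    refine ⟨c, ?_⟩
    rw [Function.iterate_succ_apply', hc]
    exact (conj_left α y).symm

theorem ff_comm (β : MulAut G) (hβ : β * α = α * β) (c : G) : β (ff α c) = ff α (β c) := by
  unfold ff
  rw [map_mul, map_inv, ← MulAut.mul_apply, hβ, MulAut.mul_apply]

theorem ff_iter_comm (β : MulAut G) (hβ : β * α = α * β) (k : ℕ) (c : G) :
    β ((ff α)^[k] c) = (ff α)^[k] (β c) := by
  induction k generalizing c with
  | zero => rfl
  | succ k ih => rw [Function.iterate_succ_apply, Function.iterate_succ_apply, ih, ff_comm α β hβ]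

theorem closure_invariant (k : ℕ) (β : MulAut G) (hβ : β * α = α * β) (n : G)
    (hn : n ∈ closure (Set.range ((ff α)^[k]))) : β n ∈ closure (Set.range ((ff α)^[k])) := by
  induction hn using closure_induction with
  | mem x hx =>
    obtain ⟨c, rfl⟩ := hx
    rw [ff_iter_comm α β hβ]
    exact subset_closure ⟨β c, rfl⟩
  | one => rw [map_one]; exact one_mem _
  | mul x y _ _ ihx ihy => rw [map_mul]; exact mul_mem ihx ihy
  | inv x _ ihx => rw [map_inv]; exact inv_mem ihx

theorem comm_of_mem_zpowers (β : ↥(zpowers α)) : (β : MulAut G) * α = α * (β : MulAut G) := by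
  obtain ⟨k, hk⟩ := mem_zpowers_iff.1 β.2
  rw [← hk]
  exact (Commute.zpow_self α k)

/-- the subgroup of the semidirect product lying over an invariant subgroup -/
def TT (N : Subgroup G) (hN : ∀ β : ↥(zpowers α), ∀ n ∈ N, (β : MulAut G) n ∈ N) :
    Subgroup (G ⋊[(zpowers α).subtype] ↥(zpowers α)) where
  carrier := {x | x.left ∈ N}
  mul_mem' := by
    intro x y hx hy
    show (x * y).left ∈ N
    rw [SemidirectProduct.mul_left]
    exact mul_mem hx (hN x.right _ hy)
  one_mem' := by
    show (1 : G ⋊[(zpowers α).subtype] ↥(zpowers α)).left ∈ N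
    rw [SemidirectProduct.one_left]; exact one_mem N
  inv_mem' := by
    intro x hx
    show (x⁻¹).left ∈ N
    rw [SemidirectProduct.inv_left]
    exact hN x.right⁻¹ _ (inv_mem hx)

theorem normalClosure_aa (hG : closure (Set.range (fun c : G => c * (α c)⁻¹)) = ⊤) :
    normalClosure ({aa α} : Set (G ⋊[(zpowers α).subtype] ↥(zpowers α))) = ⊤ := by
  set N := normalClosure ({aa α} : Set (G ⋊[(zpowers α).subtype] ↥(zpowers α))) with hN
  have haN : aa α ∈ N := subset_normalClosure rfl
  have hnorm : N.Normal := normalClosure_normal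
  have hinl : ∀ g : G, (SemidirectProduct.inl g : G ⋊[(zpowers α).subtype] ↥(zpowers α)) ∈ N := by
    intro g
    have hg : g ∈ closure (Set.range (fun c : G => c * (α c)⁻¹)) := by rw [hG]; exact mem_top g
    induction hg using closure_induction with
    | mem x hx =>
      obtain ⟨c, rfl⟩ := hx
      have h1 : SemidirectProduct.inl c * aa α * (SemidirectProduct.inl c)⁻¹ ∈ N :=
        hnorm.conj_mem _ haN _
      have h2 : (SemidirectProduct.inl (c * (α c)⁻¹) : G ⋊[(zpowers α).subtype] ↥(zpowers α)) =
          SemidirectProduct.inl c * aa α * (SemidirectProduct.inl c)⁻¹ * (aa α)⁻¹ := by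
        ext
        · simp [aa]
        · simp [aa]
      rw [h2]
      exact mul_mem h1 (inv_mem haN)
    | one => rw [map_one]; exact one_mem _
    | mul x y _ _ ihx ihy => rw [map_mul]; exact mul_mem ihx ihy
    | inv x _ ihx => rw [map_inv]; exact inv_mem ihx
  have hinr : ∀ β : ↥(zpowers α), (SemidirectProduct.inr β : G ⋊[(zpowers α).subtype] ↥(zpowers α)) ∈ N := by
    intro β
    obtain ⟨k, hk⟩ := mem_zpowers_iff.1 β.2
    have : β = (⟨α, mem_zpowers α⟩ : ↥(zpowers α)) ^ k := Subtype.ext (by rw [← hk]; simp)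
    rw [this, map_zpow]
    exact zpow_mem haN k
  rw [eq_top_iff]
  intro x _
  rw [← SemidirectProduct.inl_left_mul_inr_right x]
  exact mul_mem (hinl _) (hinr _)

end semidirect

/-- Let G be a finite group and α an automorphism of G with [G, α] = G, that is, the elements g·α(g)⁻¹ generate G. Then for every k ≥ 1 the iterated commutators [g, α, …, α] with k entries α — the values of the k-th iterate of the map c ↦ c·α(c)⁻¹ — also generate G. -/
theorem result {G : Type*} [Group G] [Finite G] (α : MulAut G) (hG : Subgroup.closure (Set.range (fun c : G => c * (α c)⁻¹)) = ⊤) (k : ℕ) (hk : 1 ≤ k) :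
    Subgroup.closure (Set.range ((fun c : G => c * (α c)⁻¹)^[k])) = ⊤ := by
  have _ := hk
  have hfin : Finite (G ⋊[(zpowers α).subtype] ↥(zpowers α)) :=
    Finite.of_equiv _ SemidirectProduct.equivProd.symm
  have hmain := main _ (G ⋊[(zpowers α).subtype] ↥(zpowers α)) rfl (aa α) (normalClosure_aa α hG) k
  have hinv : ∀ β : ↥(zpowers α), ∀ n ∈ closure (Set.range ((ff α)^[k])),
      (β : MulAut G) n ∈ closure (Set.range ((ff α)^[k])) :=
    fun β n hn => closure_invariant α k β (comm_of_mem_zpowers α β) n hn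
  have hT : TT α _ hinv = ⊤ := by
    rw [eq_top_iff, ← hmain, closure_le]
    intro x hx
    exact subset_closure (left_mem_range α k x hx)
  rw [eq_top_iff]
  intro g _
  have : (SemidirectProduct.inl g : G ⋊[(zpowers α).subtype] ↥(zpowers α)) ∈ TT α _ hinv := by
    rw [hT]; exact mem_top _
  exact this

end Cfsg.Agent.S3927
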