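import Cfsg.Statements.S3937
import Mathlib
import Cfsg.Agent.Lib.Helper90.Zipper
import Cfsg.Agent.Lib.Helper22.Fitting

set_option autoImplicit false
open Cfsg

namespace Cfsg.Agent.S3937

open Subgroup
open scoped Pointwise commutatorElement

section

variable {G : Type*} [Group G]

/-- The iterated commutator `[x, g, …, g]` with `n` entries `g`. -/
def eng (x g : G) (n : ℕ) : G := (List.replicate n g).foldl (fun a b => a * b * a⁻¹ * b⁻¹) x

theorem eng_zero (x g : G) : eng x g 0 = x := rfl

theorem eng_succ (x g : G) (n : ℕ) : eng x g (n + 1) = eng x g n * g * (eng x g n)⁻¹ * g⁻¹ := by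
  unfold eng
  rw [List.replicate_succ', List.foldl_append]
  rfl

theorem eng_mem (X : Subgroup G) (x g : G) (hx : x ∈ X) (hg : g ∈ X) (n : ℕ) : eng x g n ∈ X := by
  induction n with
  | zero => exact hx
  | succ n ih =>
    rw [eng_succ]
    exact mul_mem (mul_mem (mul_mem ih hg) (inv_mem ih)) (inv_mem hg)

open Cfsg.Agent.Helper90 in
theorem engel_rsn [Finite G] : ∀ X : Subgroup G, ∀ g ∈ X, (∀ x ∈ X, ∃ n, eng x g n = 1) →
    RSN (zpowers g) X := by
  intro X
  induction X using WellFoundedLT.induction with
  | ind X ih =>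
    intro g hg hE
    by_contra hnot
    have hSX : zpowers g ≤ X := zpowers_le.2 hg
    have hprop : ∀ H, zpowers g ≤ H → H < X → RSN (zpowers g) H := fun H hSH hHX =>
      ih H hHX g (hSH (mem_zpowers g)) (fun x hx => hE x (hHX.le hx))
    obtain ⟨M, hMX, hM⟩ := zipper X (zpowers g) hSX hprop hnot
    have hSltX : zpowers g < X := lt_of_le_of_ne hSX (fun h => hnot (by rw [← h]; exact RSN.refl _))
    have hgM : g ∈ M := hM _ le_rfl hSltX (mem_zpowers g)
    -- Claim A
    have hA : ∃ x ∈ X, x * g * x⁻¹ ∉ M := by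
      by_contra hcon
      push Not at hcon
      set N : Subgroup G := closure {y | ∃ x ∈ X, y = x * g * x⁻¹} with hN
      have hNM : N ≤ M := by
        rw [hN, closure_le]
        rintro y ⟨x, hx, rfl⟩
        exact hcon x hx
      have hNX : N < X := lt_of_le_of_lt hNM hMX
      have hgN : g ∈ N := Subgroup.subset_closure ⟨1, one_mem X, by simp⟩
      have hconj : ∀ a ∈ X, ∀ h ∈ N, a * h * a⁻¹ ∈ N := by
        intro a ha h hh
        induction hh using closure_induction with
        | mem y hy =>
          obtain ⟨x, hx, rfl⟩ := hy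
          apply Subgroup.subset_closure
          refine ⟨a * x, mul_mem ha hx, ?_⟩
          group
        | one => simp
        | mul y z _ _ ihy ihz =>
          have : a * (y * z) * a⁻¹ = (a * y * a⁻¹) * (a * z * a⁻¹) := by group
          rw [this]; exact mul_mem ihy ihz
        | inv y _ ihy =>
          have : a * y⁻¹ * a⁻¹ = (a * y * a⁻¹)⁻¹ := by group
          rw [this]; exact inv_mem ihy
      have hXn : X ≤ normalizer (N : Set G) := by
        intro a ha
        rw [mem_normalizer_iff]
        intro h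
        constructor
        · exact hconj a ha h
        · intro hh
          have := hconj a⁻¹ (inv_mem ha) _ hh
          have h2 : a⁻¹ * (a * h * a⁻¹) * a⁻¹⁻¹ = h := by group
          rwa [h2] at this
      have h1 : RSN (zpowers g) N := ih N hNX g hgN (fun x hx => hE x (hNX.le hx))
      have h2 : RSN N X := RSN.of_normal hNX.le hXn
      exact hnot (h1.trans h2)
    obtain ⟨x, hxX, hxM⟩ := hA
    obtain ⟨n, hn⟩ := hE x hxX
    have hex : ∃ k, eng x g k * g * (eng x g k)⁻¹ ∈ M := ⟨n, by rw [hn]; simpa using hgM⟩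
    classical
    set k := Nat.find hex with hk
    have hQk : eng x g k * g * (eng x g k)⁻¹ ∈ M := Nat.find_spec hex
    have hk0 : k ≠ 0 := by
      intro h0
      rw [h0, eng_zero] at hQk
      exact hxM hQk
    obtain ⟨j, hj⟩ := Nat.exists_eq_succ_of_ne_zero hk0
    have hQj : eng x g j * g * (eng x g j)⁻¹ ∉ M := Nat.find_min hex (by rw [← hk, hj]; exact Nat.lt_succ_self j)
    set y := eng x g j with hy
    set e := eng x g k with he
    have hey : e = y * g * y⁻¹ * g⁻¹ := by rw [he, hj, Nat.succ_eq_add_one, eng_succ]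
    have heX : e ∈ X := eng_mem X x g hxX hg k
    have heM : e ∉ M := by
      intro h
      apply hQj
      have : y * g * y⁻¹ = e * g := by rw [hey]; group
      rw [this]
      exact mul_mem h hgM
    -- M' := conj e⁻¹ • M
    have hgM' : g ∈ MulAut.conj e⁻¹ • M := by
      rw [mem_conj_smul']
      simpa using hQk
    have hM'X : MulAut.conj e⁻¹ • M < X := by
      have hle : MulAut.conj e⁻¹ • M ≤ X := by
        intro h hh
        rw [mem_conj_smul'] at hh
        have h1 : e⁻¹⁻¹ * h * e⁻¹ ∈ X := hMX.le hh
        have h2 : h = e⁻¹ * (e⁻¹⁻¹ * h * e⁻¹) * e := by group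
        rw [h2]
        exact mul_mem (mul_mem (inv_mem heX) h1) heX
      refine lt_of_le_of_ne hle ?_
      intro heq
      have hc1 : Nat.card ↥(MulAut.conj e⁻¹ • M) = Nat.card M := card_conj_smul _ _
      rw [heq] at hc1
      exact hMX.ne (eq_of_le_of_card_ge hMX.le hc1.le)
    have hM'M : MulAut.conj e⁻¹ • M ≤ M := hM _ (zpowers_le.2 hgM') hM'X
    have hM'eq : MulAut.conj e⁻¹ • M = M := eq_of_le_of_card_ge hM'M (card_conj_smul _ _).ge
    have henorm : e ∈ normalizer (M : Set G) := by
      have := conj_smul_eq_self_iff_mem_normalizer.1 hM'eq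
      have h2 := inv_mem this
      rwa [inv_inv] at h2
    -- K' := normalizer M ⊓ X
    have hK'X : normalizer (M : Set G) ⊓ X = X := by
      by_contra hne
      have hlt : normalizer (M : Set G) ⊓ X < X := lt_of_le_of_ne inf_le_right hne
      have hS : zpowers g ≤ normalizer (M : Set G) ⊓ X :=
        le_inf ((zpowers_le.2 hgM).trans le_normalizer) hSX
      have := hM _ hS hlt
      exact heM (this ⟨henorm, heX⟩)
    have hXnorm : X ≤ normalizer (M : Set G) := by
      rw [← hK'X]; exact inf_le_left
    have hxn := hXnorm hxX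
    rw [mem_normalizer_iff] at hxn
    exact hxM ((hxn g).1 hgM)

end

/-- Baer's characterization of the Fitting subgroup: in a finite group G, an element g lies in the Fitting subgroup if and only if g is a left Engel element, that is, for every x there is n with [x, g, g, …, g] = 1 (n entries g, [a, b] = aba⁻¹b⁻¹). -/
theorem result {G : Type*} [Group G] [Finite G] (g : G) :
    g ∈ Cfsg.fittingSubgroup G ↔ ∀ x : G, ∃ n : ℕ, (List.replicate n g).foldl (fun a b => a * b * a⁻¹ * b⁻¹) x = 1 := by
  constructor
  · intro hg x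
    have hnil : Group.IsNilpotent ↥(Cfsg.fittingSubgroup G) := Cfsg.Agent.Helper22.isNilpotent_fittingSubgroup
    have hnorm : (Cfsg.fittingSubgroup G).Normal := Cfsg.Agent.Helper22.fittingSubgroup_normal
    obtain ⟨c, hc⟩ := Subgroup.nilpotent_iff_lowerCentralSeries.1 hnil
    have key : ∀ k : ℕ, ∃ w : ↥(Cfsg.fittingSubgroup G),
        w ∈ (⊤ : Subgroup ↥(Cfsg.fittingSubgroup G)).lowerCentralSeries k ∧ (w : G) = eng x g (k + 1) := by
      intro k
      induction k with
      | zero =>
        refine ⟨⟨x * g * x⁻¹ * g⁻¹, ?_⟩, ?_, ?_⟩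
        · exact mul_mem (hnorm.conj_mem g hg x) (inv_mem hg)
        · exact mem_top _
        · rw [eng_succ, eng_zero]
      | succ k ih =>
        obtain ⟨w, hw, hwe⟩ := ih
        refine ⟨⁅w, ⟨g, hg⟩⁆, ?_, ?_⟩
        · rw [Subgroup.lowerCentralSeries_succ]
          exact Subgroup.commutator_mem_commutator hw (mem_top _)
        · rw [eng_succ (n := k + 1), ← hwe, commutatorElement_def]
          push_cast
          rfl
    obtain ⟨w, hw, hwe⟩ := key c
    rw [hc, mem_bot] at hw
    refine ⟨c + 1, ?_⟩
    show eng x g (c + 1) = 1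
    rw [← hwe, hw]
    rfl
  · intro h
    have hrsn := engel_rsn (⊤ : Subgroup G) g (mem_top g) (fun x _ => h x)
    have hsn : (zpowers g).IsSubnormal := Cfsg.Agent.Helper90.rsn_top_iff.1 hrsn
    have hnil : Group.IsNilpotent ↥(zpowers g) := by
      refine ⟨⟨1, ?_⟩⟩
      rw [Subgroup.upperCentralSeries_one]
      exact Subgroup.center_eq_top
    exact Cfsg.Agent.Helper22.subnormal_nilpotent_le_fittingSubgroup hsn hnil (mem_zpowers g)

end Cfsg.Agent.S3937
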