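import Mathlib
import Cfsg.Statements.S3941
-- import your own Cfsg.Agent.* helpers here

set_option autoImplicit false
open Cfsg

namespace Cfsg.Agent.S3941

open Equiv Equiv.Perm

/-- In a group with a normal Sylow `p`-subgroup, all elements of `p`-power order lie in it. -/
lemma mem_of_normal_sylow {G : Type*} [Group G] [Finite G] {p : ℕ} [Fact p.Prime]
    (P : Sylow p G) (hP : (P : Subgroup G).Normal) (x : G) (k : ℕ) (hx : x ^ (p ^ k) = 1) :
    x ∈ (P : Subgroup G) := by
  have hz : IsPGroup p (Subgroup.zpowers x) := by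
    intro y
    obtain ⟨y, hy⟩ := y
    obtain ⟨j, rfl⟩ := Subgroup.mem_zpowers_iff.mp hy
    refine ⟨k, ?_⟩
    apply Subtype.ext
    simp only [Subgroup.coe_pow, Subgroup.coe_one]
    rw [← zpow_natCast, ← zpow_mul, mul_comm, zpow_mul, zpow_natCast, hx, one_zpow]
  obtain ⟨Q, hQ⟩ := hz.exists_le_sylow
  have := Sylow.unique_of_normal P hP
  have : Q = P := Subsingleton.elim _ _
  rw [← this]
  exact hQ (Subgroup.mem_zpowers x)

lemma l1 : (c[1, 2, 3] : Perm (Fin 5)) ^ 3 = 1 := by decide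
lemma l2 : (c[1, 2, 4] : Perm (Fin 5)) ^ 3 = 1 := by decide
lemma l3 : ((c[1, 2, 3] : Perm (Fin 5)) * c[1, 2, 4]) ^ 2 = 1 := by decide
lemma l4 : ((c[1, 2, 3] : Perm (Fin 5)) * c[1, 2, 4]) ≠ 1 := by decide
lemma l5 : (c[1, 2, 3] : Perm (Fin 5)) ≠ 1 := by decide

lemma case5 (h : ∀ H : Subgroup ↥(alternatingGroup (Fin 5)), H ≠ ⊤ → 3 ∣ Nat.card ↥H →
    Cfsg.IsPClosed 3 ↥H) : False := by
  have : Fact (Nat.Prime 3) := ⟨by norm_num⟩
  let s : Finset (Fin 5) := Finset.univ.erase 0
  let H : Subgroup (alternatingGroup (Fin 5)) := (alternatingGroup.ofSubtype s).range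
  let x : alternatingGroup (Fin 5) := ⟨c[1, 2, 3], by rw [Equiv.Perm.mem_alternatingGroup]; decide⟩
  let y : alternatingGroup (Fin 5) := ⟨c[1, 2, 4], by rw [Equiv.Perm.mem_alternatingGroup]; decide⟩
  let z : alternatingGroup (Fin 5) := ⟨c[0, 1, 2], by rw [Equiv.Perm.mem_alternatingGroup]; decide⟩
  have hx : x ∈ H := by
    rw [alternatingGroup.mem_range_ofSubtype_iff]; decide
  have hy : y ∈ H := by
    rw [alternatingGroup.mem_range_ofSubtype_iff]; decide
  have hz : z ∉ H := by
    rw [alternatingGroup.mem_range_ofSubtype_iff]; decide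
  have hH : H ≠ ⊤ := fun hT => hz (hT ▸ Subgroup.mem_top z)
  have hx3 : (⟨x, hx⟩ : H) ^ (3 ^ 1) = 1 := by
    apply Subtype.ext; apply Subtype.ext
    simp only [Subgroup.coe_pow, Subgroup.coe_one, pow_one]
    exact l1
  have hy3 : (⟨y, hy⟩ : H) ^ (3 ^ 1) = 1 := by
    apply Subtype.ext; apply Subtype.ext
    simp only [Subgroup.coe_pow, Subgroup.coe_one, pow_one]
    exact l2
  have hd : 3 ∣ Nat.card H := by
    have h1 : orderOf (⟨x, hx⟩ : H) ∣ 3 := orderOf_dvd_of_pow_eq_one (by simpa using hx3)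
    have h2 : orderOf (⟨x, hx⟩ : H) ≠ 1 := by
      rw [Ne, orderOf_eq_one_iff]
      intro h
      have h' : x = 1 := congrArg Subtype.val h
      have h'' : (x : Perm (Fin 5)) = 1 := congrArg Subtype.val h'
      exact l5 h''
    have h3 : orderOf (⟨x, hx⟩ : H) = 3 := by
      rcases (Nat.dvd_prime (by norm_num : Nat.Prime 3)).mp h1 with h | h
      · exact absurd h h2
      · exact h
    rw [← h3]; exact orderOf_dvd_natCard _
  have hcl := h H hH hd
  let P : Sylow 3 H := default
  have hPn := hcl P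
  have hxP := mem_of_normal_sylow P hPn _ 1 hx3
  have hyP := mem_of_normal_sylow P hPn _ 1 hy3
  have hxy := (P : Subgroup H).mul_mem hxP hyP
  obtain ⟨k, hk⟩ := P.isPGroup' ⟨_, hxy⟩
  have hk' : ((⟨x, hx⟩ : H) * ⟨y, hy⟩) ^ (3 ^ k) = 1 := congrArg Subtype.val hk
  have h2 : ((⟨x, hx⟩ : H) * ⟨y, hy⟩) ^ 2 = 1 := by
    apply Subtype.ext; apply Subtype.ext
    simp only [Subgroup.coe_pow, Subgroup.coe_one, Subgroup.coe_mul]
    exact l3
  have hne : ((⟨x, hx⟩ : H) * ⟨y, hy⟩) ≠ 1 := by
    intro h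
    have h' : x * y = 1 := congrArg Subtype.val h
    have h'' : ((x * y : alternatingGroup (Fin 5)) : Perm (Fin 5)) = 1 := congrArg Subtype.val h'
    simp only [Subgroup.coe_mul] at h''
    exact l4 h''
  have h1 : orderOf ((⟨x, hx⟩ : H) * ⟨y, hy⟩) ∣ 2 := orderOf_dvd_of_pow_eq_one h2
  have h3 : orderOf ((⟨x, hx⟩ : H) * ⟨y, hy⟩) ∣ 3 ^ k := orderOf_dvd_of_pow_eq_one hk'
  have hcop : Nat.Coprime 2 (3 ^ k) := Nat.Coprime.pow_right k (by norm_num)
  have : orderOf ((⟨x, hx⟩ : H) * ⟨y, hy⟩) = 1 := Nat.eq_one_of_dvd_coprimes hcop h1 h3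
  exact hne (orderOf_eq_one_iff.mp this)

/-- Let n ≥ 5 and p an odd prime with p ≤ n, and suppose that every proper subgroup of the alternating group of degree n whose order is divisible by p has a normal Sylow p-subgroup. Then n = p. -/
theorem result (n p : ℕ) (hn : 5 ≤ n) [Fact p.Prime] (hp : p ≠ 2) (hpn : p ≤ n)
    (h : ∀ H : Subgroup ↥(alternatingGroup (Fin n)), H ≠ ⊤ → p ∣ Nat.card ↥H → Cfsg.IsPClosed p ↥H) : n = p := by
  by_contra hne
  have hlt : p < n := lt_of_le_of_ne hpn (Ne.symm hne)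
  have hp' : p.Prime := Fact.out
  have hp3 : 3 ≤ p := by have := hp'.two_le; omega
  by_cases hn5 : n = 5
  · subst hn5
    have hp3' : p = 3 := by
      have : p ≤ 4 := by omega
      interval_cases p
      · rfl
      · exact absurd hp' (by norm_num)
    subst hp3'
    exact case5 h
  obtain ⟨m, rfl⟩ : ∃ m, n = m + 1 := ⟨n - 1, by omega⟩
  have hm : 5 ≤ m := by omega
  let s : Finset (Fin (m + 1)) := Finset.univ.erase 0
  have hs : s.card = m := by simp [s]
  have hscard : Nat.card s = m := by rw [Nat.card_eq_fintype_card, Fintype.card_coe, hs]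
  let H : Subgroup (alternatingGroup (Fin (m + 1))) := (alternatingGroup.ofSubtype s).range
  let e : alternatingGroup s ≃* H := MonoidHom.ofInjective alternatingGroup.ofSubtype_injective
  have hcardH : Nat.card H = Nat.card (alternatingGroup s) := (Nat.card_congr e.toEquiv).symm
  have : Nontrivial s := by
    rw [← Finite.one_lt_card_iff_nontrivial, hscard]; omega
  have h2 : 2 * Nat.card (alternatingGroup s) = m.factorial := by
    rw [two_mul_nat_card_alternatingGroup, Nat.card_perm, hscard]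
  have hpm : p ∣ m.factorial := (Nat.Prime.dvd_factorial hp').mpr (by omega)
  have hpd : p ∣ Nat.card H := by
    rw [hcardH]
    rw [← h2] at hpm
    rcases (Nat.Prime.dvd_mul hp').mp hpm with h | h
    · exact absurd ((Nat.prime_dvd_prime_iff_eq hp' Nat.prime_two).mp h) hp
    · exact h
  have hH : H ≠ ⊤ := by
    intro hT
    -- the 3-cycle (0 1 2) is not in H
    have h3 : (3 : ℕ) ≤ m + 1 := by omega
    let a : Fin (m + 1) := ⟨1, by omega⟩
    let b : Fin (m + 1) := ⟨2, by omega⟩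
    have hab : a ≠ b := by simp [a, b, Fin.ext_iff]
    have h0a : (0 : Fin (m + 1)) ≠ a := by simp [a, Fin.ext_iff]
    have h0b : (0 : Fin (m + 1)) ≠ b := by simp [b, Fin.ext_iff]
    let z : alternatingGroup (Fin (m + 1)) := ⟨swap 0 a * swap a b, by
      rw [Equiv.Perm.mem_alternatingGroup, map_mul, sign_swap h0a, sign_swap hab]; rfl⟩
    have hz : z ∈ H := hT ▸ Subgroup.mem_top z
    rw [alternatingGroup.mem_range_ofSubtype_iff] at hz
    have h0 : (0 : Fin (m + 1)) ∈ (z : Perm (Fin (m + 1))).support := by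
      rw [Equiv.Perm.mem_support]
      show (swap 0 a * swap a b) 0 ≠ 0
      rw [Equiv.Perm.mul_apply, swap_apply_of_ne_of_ne h0a h0b, swap_apply_left]
      exact h0a.symm
    have := hz h0
    simp [s] at this
  have hcl := h H hH hpd
  let P : Sylow p H := default
  have hPn := hcl P
  have : IsSimpleGroup (alternatingGroup s) := alternatingGroup.isSimpleGroup (by rw [hscard]; exact hm)
  have : IsSimpleGroup H := (MulEquiv.isSimpleGroup_congr e).mp inferInstance
  rcases hPn.eq_bot_or_eq_top with h1 | h1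
  · exact P.ne_bot_of_dvd_card hpd h1
  · have hPG : IsPGroup p H := by
      intro g
      obtain ⟨k, hk⟩ := P.isPGroup' ⟨g, h1 ▸ Subgroup.mem_top g⟩
      exact ⟨k, congrArg Subtype.val hk⟩
    obtain ⟨k, hk⟩ := IsPGroup.iff_card.mp hPG
    have h2d : 2 ∣ Nat.card H := by
      rw [hcardH]
      have h4 : 4 ∣ m.factorial := Nat.dvd_factorial (by norm_num) (by omega)
      rw [← h2] at h4
      omega
    rw [hk] at h2d
    have := Nat.Prime.dvd_of_dvd_pow Nat.prime_two h2d
    exact hp ((Nat.prime_dvd_prime_iff_eq Nat.prime_two hp').mp this).symm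

end Cfsg.Agent.S3941
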