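import Cfsg.Statements.S3949
import Mathlib

set_option autoImplicit false
open Cfsg

namespace Cfsg.Agent.S3949

theorem alpha_sq {G : Type*} [Group G] (α : MulAut G) (hα : orderOf α = 2) (x : G) : α (α x) = x := by
  have h : α ^ 2 = 1 := by rw [← hα]; exact pow_orderOf_eq_one α
  have : (α ^ 2) x = x := by rw [h]; rfl
  simpa [pow_two] using this

theorem f_inverted {G : Type*} [Group G] (α : MulAut G) (hα : orderOf α = 2) (c : G) :
    α (c * (α c)⁻¹) = (c * (α c)⁻¹)⁻¹ := by
  rw [map_mul, map_inv, alpha_sq α hα]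
  group

theorem pow_inverted {G : Type*} [Group G] (α : MulAut G) (g : G) (hg : α g = g⁻¹) (k : ℕ) :
    α (g ^ k) = (g ^ k)⁻¹ := by
  rw [map_pow, hg, inv_pow]

theorem iter_inverted {G : Type*} [Group G] (α : MulAut G) (i : ℕ) :
    ∀ g : G, α g = g⁻¹ → (fun c : G => c * (α c)⁻¹)^[i] g = g ^ (2 ^ i) := by
  induction i with
  | zero => intro g _; simp
  | succ i ih =>
    intro g hg
    rw [Function.iterate_succ_apply]
    have h1 : g * (α g)⁻¹ = g ^ 2 := by rw [hg, inv_inv, pow_two]
    show (fun c : G => c * (α c)⁻¹)^[i] (g * (α g)⁻¹) = _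
    rw [h1, ih (g ^ 2) (pow_inverted α g hg 2), ← pow_mul, pow_succ, mul_comm]

/-- Let G be a finite group and α an automorphism of G of order 2 such that the elements g·α(g)⁻¹ generate G. Let j be a positive integer such that 2^j divides the order of no element inverted by α. Then the set of values of the j-th iterate of the map c ↦ c·α(c)⁻¹ is exactly the set of elements of odd order inverted by α. -/
theorem result {G : Type*} [Group G] [Finite G] (α : MulAut G) (hα : orderOf α = 2) (hG : Subgroup.closure (Set.range (fun c : G => c * (α c)⁻¹)) = ⊤)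
    (j : ℕ) (hj : ∀ g : G, α g = g⁻¹ → ¬ 2 ^ j ∣ orderOf g) :
    Set.range ((fun c : G => c * (α c)⁻¹)^[j]) = {g : G | Odd (orderOf g) ∧ α g = g⁻¹} := by
  have hj0 : j ≠ 0 := by
    rintro rfl
    exact hj 1 (by simp) (by simp)
  obtain ⟨i, rfl⟩ := Nat.exists_eq_succ_of_ne_zero hj0
  ext g
  simp only [Set.mem_range, Set.mem_ofPred_eq]
  constructor
  · rintro ⟨c, rfl⟩
    rw [Function.iterate_succ_apply]
    have hinv := f_inverted α hα c
    set d := c * (α c)⁻¹ with hd
    show Odd (orderOf ((fun c : G => c * (α c)⁻¹)^[i] d)) ∧ α ((fun c : G => c * (α c)⁻¹)^[i] d) = ((fun c : G => c * (α c)⁻¹)^[i] d)⁻¹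
    rw [iter_inverted α i d hinv]
    refine ⟨?_, pow_inverted α d hinv _⟩
    have hnd := hj d hinv
    rw [orderOf_pow]
    by_contra hodd
    rw [Nat.not_odd_iff_even, even_iff_two_dvd] at hodd
    have hpos : 0 < orderOf d := orderOf_pos d
    have hgd : Nat.gcd (orderOf d) (2 ^ i) ∣ orderOf d := Nat.gcd_dvd_left _ _
    have h2 : 2 * Nat.gcd (orderOf d) (2 ^ i) ∣ orderOf d := by
      obtain ⟨t, ht⟩ := hodd
      have := Nat.div_mul_cancel hgd
      rw [ht] at this
      exact ⟨t, this.symm.trans (by ring)⟩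
    obtain ⟨b, hb, hb2⟩ := (Nat.dvd_prime_pow Nat.prime_two).1 (Nat.gcd_dvd_right (orderOf d) (2 ^ i))
    rw [hb2] at h2
    rcases Nat.lt_or_ge b i with hlt | hge
    · have h3 : 2 ^ (b + 1) ∣ Nat.gcd (orderOf d) (2 ^ i) := by
        apply Nat.dvd_gcd
        · rw [pow_succ, mul_comm]; exact h2
        · exact pow_dvd_pow 2 hlt
      rw [hb2] at h3
      have := Nat.le_of_dvd (by positivity) h3
      have : 2 ^ b < 2 ^ (b + 1) := Nat.pow_lt_pow_right (by norm_num) (Nat.lt_succ_self b)
      omega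
    · have hbi : b = i := le_antisymm hb hge
      subst hbi
      apply hnd
      rw [pow_succ, mul_comm]; exact h2
  · rintro ⟨hodd, hinv⟩
    have hcop : Nat.Coprime (2 ^ (i + 1)) (orderOf g) := by
      apply Nat.Coprime.pow_left
      rw [Nat.coprime_two_left]
      exact hodd
    obtain ⟨m, hm⟩ := exists_pow_eq_self_of_coprime hcop
    refine ⟨g ^ m, ?_⟩
    rw [iter_inverted α (i + 1) (g ^ m) (pow_inverted α g hinv m), ← pow_mul, mul_comm, pow_mul]
    exact hm

end Cfsg.Agent.S3949
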