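import Mathlib
import Cfsg.Statements.S3953
import Cfsg.Agent.Lib.Helper65.TransferMult
-- import your own Cfsg.Agent.* helpers here

set_option autoImplicit false
open Cfsg

namespace Cfsg.Agent.S3953

open Cfsg.Agent.Helper65

/-- a retract of abelian groups gives a direct factor -/
theorem split_of_retract {A B : Type*} [CommGroup A] [CommGroup B] (s : A →* B) (t : B →* A)
    (h : Function.Bijective (t.comp s)) :
    ∃ C D : Subgroup B, C ⊓ D = ⊥ ∧ C ⊔ D = ⊤ ∧ Nonempty (A ≃* C) := by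
  have hs : Function.Injective s := by
    intro a b hab
    apply h.1
    simp only [MonoidHom.comp_apply, hab]
  refine ⟨s.range, t.ker, ?_, ?_, ⟨MonoidHom.ofInjective hs⟩⟩
  · rw [eq_bot_iff]
    rintro b ⟨⟨a, rfl⟩, hb⟩
    have hb' : t (s a) = 1 := hb
    have : a = 1 := h.1 (by simp only [MonoidHom.comp_apply, hb', map_one])
    rw [this, map_one]
    exact Subgroup.mem_bot.mpr rfl
  · rw [eq_top_iff]
    intro b _
    obtain ⟨a, ha⟩ := h.2 (t b)
    have ha' : t (s a) = t b := ha
    have h1 : b * (s a)⁻¹ ∈ t.ker := by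
      rw [MonoidHom.mem_ker, map_mul, map_inv, ha', mul_inv_cancel]
    have h2 : b = s a * (b * (s a)⁻¹) := by
      rw [mul_comm b, mul_inv_cancel_left]
    rw [h2]
    exact Subgroup.mul_mem_sup ⟨a, rfl⟩ h1

/-- Let `P` be a Sylow `p`-subgroup of the finite group `G`, let `A` be the Schur multiplier of `G` and `B` that of `P`. Then the `p`-primary component of `A` is isomorphic to a direct factor of `B`: there are subgroups `C` and `D` of `B` meeting trivially and generating `B`, with `C` isomorphic to the `p`-primary component of `A`. -/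
theorem result {G : Type*} [Group G] [Finite G] (p : ℕ) [Fact p.Prime] (P : Sylow p G) {A B : Type*} [CommGroup A] [CommGroup B] (hA : Cfsg.HasSchurMultiplier G A) (hB : Cfsg.HasSchurMultiplier P B) : ∃ C D : Subgroup B, C ⊓ D = ⊥ ∧ C ⊔ D = ⊤ ∧ Nonempty (CommGroup.primaryComponent A p ≃* C) := by
  have hp : p.Prime := Fact.out
  obtain ⟨eA⟩ := mult_equiv_of_hasSchurMultiplier hA
  obtain ⟨eB⟩ := mult_equiv_of_hasSchurMultiplier hB
  obtain ⟨tr, ι, hcomp⟩ := exists_transfer_mult (P : Subgroup G)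
  set m := (P : Subgroup G).index with hm
  have hpm : ¬ p ∣ m := Sylow.not_dvd_index P
  have hAfin : Finite A := Finite.of_equiv _ eA.toEquiv
  -- the order of A
  obtain ⟨a, n', hn', hcardA⟩ :=
    Nat.exists_eq_pow_mul_and_not_dvd (n := Nat.card A) Nat.card_pos.ne' p hp.ne_one
  have hcop : Nat.Coprime (p ^ (a + 1)) n' :=
    Nat.Coprime.pow_left _ ((Nat.Prime.coprime_iff_not_dvd hp).mpr hn')
  obtain ⟨u, hu1, hu0⟩ := Nat.chineseRemainder hcop 1 0
  have hn'u : n' ∣ u := (Nat.modEq_zero_iff_dvd).mp hu0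
  have hpu : ¬ p ∣ u := by
    intro hpu
    have h1 : u ≡ 1 [MOD p] := Nat.ModEq.of_dvd (dvd_pow_self p (Nat.succ_ne_zero a)) hu1
    have h2 : u ≡ 0 [MOD p] := (Nat.modEq_zero_iff_dvd).mpr hpu
    have h3 : 1 ≡ 0 [MOD p] := h1.symm.trans h2
    have h4 : p ∣ 1 := (Nat.modEq_zero_iff_dvd).mp h3
    exact hp.one_lt.ne' (Nat.dvd_one.mp h4)
  -- the two maps
  let Ap := CommGroup.primaryComponent A p
  let s : Ap →* B := eB.toMonoidHom.comp (tr.comp (eA.symm.toMonoidHom.comp Ap.subtype))
  let t0 : B →* A := (powMonoidHom u).comp (eA.toMonoidHom.comp (ι.comp eB.symm.toMonoidHom))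
  have ht0 : ∀ b, t0 b ∈ Ap := by
    intro b
    rw [CommGroup.mem_primaryComponent]
    refine ⟨a, ?_⟩
    show ((eA (ι (eB.symm b))) ^ u) ^ p ^ a = 1
    obtain ⟨c, hc⟩ := hn'u
    rw [← pow_mul, hc, mul_comm n' c, mul_assoc, mul_comm n' (p ^ a), ← hcardA, mul_comm, pow_mul,
      pow_card_eq_one', one_pow]
  let t : B →* Ap := t0.codRestrict Ap ht0
  have hts : ∀ x : Ap, t (s x) = x ^ (m * u) := by
    intro x
    apply Subtype.ext
    show (eA (ι (eB.symm (eB (tr (eA.symm x.1)))))) ^ u = ((x ^ (m * u) : Ap) : A)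
    rw [MulEquiv.symm_apply_apply, hcomp, map_pow, MulEquiv.apply_symm_apply, ← pow_mul,
      Subgroup.coe_pow]
  have hinj : Function.Injective (t.comp s) := by
    rw [injective_iff_map_eq_one]
    intro x hx
    rw [MonoidHom.comp_apply, hts] at hx
    obtain ⟨k, hk⟩ := CommGroup.mem_primaryComponent.mp x.2
    have hk' : x ^ p ^ k = 1 := Subtype.ext (by rw [Subgroup.coe_pow, hk]; rfl)
    have h1 : orderOf x ∣ p ^ k := orderOf_dvd_of_pow_eq_one hk'
    have h2 : orderOf x ∣ m * u := orderOf_dvd_of_pow_eq_one hx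
    have hc : Nat.Coprime (p ^ k) (m * u) := by
      apply Nat.Coprime.pow_left
      rw [Nat.Prime.coprime_iff_not_dvd hp, Nat.Prime.dvd_mul hp]
      push Not
      exact ⟨hpm, hpu⟩
    have h3 : orderOf x = 1 := Nat.eq_one_of_dvd_coprimes hc h1 h2
    exact orderOf_eq_one_iff.mp h3
  have hbij : Function.Bijective (t.comp s) := Finite.injective_iff_bijective.mp hinj
  exact split_of_retract s t hbij

end Cfsg.Agent.S3953
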