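import Cfsg.Statements.S3954
import Mathlib
import Cfsg.Agent.Lib.Helper65.Pull
import Cfsg.Agent.Lib.Helper65.AbDual

set_option autoImplicit false
open Cfsg

namespace Cfsg.Agent.S3954

open Cfsg.Agent.Helper65

/-- transfer argument: for a central element `z` of the commutator subgroup, `z ^ index` lies in the
commutator subgroup of any subgroup of finite index. -/
theorem pow_index_mem_commutator {Γ : Type*} [Group Γ] (V : Subgroup Γ) [V.FiniteIndex] (z : Γ)
    (hzc : z ∈ Subgroup.center Γ) (hzd : z ∈ commutator Γ) :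
    ∃ h : z ^ V.index ∈ V, (⟨z ^ V.index, h⟩ : V) ∈ commutator V := by
  have key : ∀ (k : ℕ) (g₀ : Γ), g₀⁻¹ * z ^ k * g₀ ∈ V → g₀⁻¹ * z ^ k * g₀ = z ^ k := by
    intro k g₀ _
    have hc : z ^ k ∈ Subgroup.center Γ := pow_mem hzc k
    have := Subgroup.mem_center_iff.1 hc g₀
    rw [mul_assoc, ← this, ← mul_assoc, inv_mul_cancel, one_mul]
  have h1 := MonoidHom.transfer_eq_pow (Abelianization.of : V →* Abelianization V) z key
  have h2 : MonoidHom.transfer (Abelianization.of : V →* Abelianization V) z = 1 :=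
    Abelianization.commutator_subset_ker _ hzd
  rw [h2] at h1
  refine ⟨MonoidHom.transfer_eq_pow_aux z key, ?_⟩
  rw [← Abelianization.ker_of, MonoidHom.mem_ker]
  exact h1.symm

/-- Let `U` be a subgroup of index `m` in the finite group `G`, let `A` be the Schur multiplier of `G` and `B` that of `U`. Then the subgroup of `m`-th powers of `A` is isomorphic to a subgroup of `B`. -/
theorem result {G : Type*} [Group G] [Finite G] (U : Subgroup G) {A B : Type*} [CommGroup A] [CommGroup B] (hA : Cfsg.HasSchurMultiplier G A) (hB : Cfsg.HasSchurMultiplier U B) : ∃ C : Subgroup B, Nonempty ((powMonoidHom U.index : A →* A).range ≃* C) := by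
  obtain ⟨eB⟩ := mult_equiv_of_hasSchurMultiplier hB
  obtain ⟨⟨Γ, instG, instF, σ, hσ, ⟨eA⟩⟩, -⟩ := hA
  have hBfin : Finite B := Finite.of_equiv _ eB.toEquiv
  -- the preimage of U
  set V : Subgroup Γ := U.comap σ with hV
  let ξ : V →* U := σ.subgroupComap U
  have hξs : Function.Surjective ξ := MonoidHom.subgroupComap_surjective_of_surjective σ U hσ.1
  have hξker : ∀ w : V, w ∈ ξ.ker ↔ (w : Γ) ∈ σ.ker := by
    intro w
    rw [MonoidHom.mem_ker, MonoidHom.mem_ker]
    constructor
    · intro h
      exact congrArg Subtype.val h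
    · intro h
      exact Subtype.ext h
  have hξc : ξ.ker ≤ Subgroup.center V := by
    intro w hw
    have h1 : (w : Γ) ∈ Subgroup.center Γ := hσ.2.1 ((hξker w).1 hw)
    rw [Subgroup.mem_center_iff]
    intro v
    apply Subtype.ext
    exact Subgroup.mem_center_iff.1 h1 v
  obtain ⟨φ, hcomp, hφ⟩ := exists_central_cover_map (fp U) (fp_surj U) ξ hξs hξc
  set K : Subgroup V := ξ.ker ⊓ commutator V with hK
  let _ : CommGroup K :=
    { (inferInstance : Group K) with
      mul_comm := fun a b => Subtype.ext ((Subgroup.mem_center_iff.1 (hξc b.2.1)) a.1) }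
  -- the surjection from B
  let f₀ : mult (fp U) →* K :=
    { toFun := fun t => ⟨φ (t : CE (fp U)), by
        refine ⟨?_, ?_⟩
        · show φ (t : CE (fp U)) ∈ ξ.ker
          rw [MonoidHom.mem_ker, ← MonoidHom.comp_apply, hcomp, ← MonoidHom.mem_ker]
          exact mult_le_ker (fp U) t.2
        · show φ (t : CE (fp U)) ∈ commutator V
          have h1 : φ (t : CE (fp U)) ∈ (commutator (CE (fp U))).map φ :=
            ⟨_, mult_le_commutator (fp U) t.2, rfl⟩
          rw [map_commutator_eq] at h1
          exact (Subgroup.commutator_mono le_top le_top) h1⟩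
      map_one' := Subtype.ext (map_one φ)
      map_mul' := fun a b => Subtype.ext (map_mul φ _ _) }
  have hf₀ : Function.Surjective f₀ := by
    intro k
    obtain ⟨t, ht, htk⟩ := hφ k.1 k.2
    exact ⟨⟨t, ht⟩, Subtype.ext htk⟩
  let f : B →* K := f₀.comp eB.symm.toMonoidHom
  have hf : Function.Surjective f := hf₀.comp eB.symm.surjective
  -- the injection from the m-th powers
  have hmemV : ∀ a : A, ((eA.symm a : σ.ker) : Γ) ∈ V := by
    intro a
    show σ ((eA.symm a : σ.ker) : Γ) ∈ U
    rw [(eA.symm a).2]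
    exact one_mem U
  have hVfin : V.FiniteIndex := inferInstance
  have hindex : V.index = U.index := Subgroup.index_comap_of_surjective U hσ.1
  have hmemK : ∀ a' : (powMonoidHom U.index : A →* A).range,
      (⟨((eA.symm (a' : A) : σ.ker) : Γ), hmemV _⟩ : V) ∈ K := by
    intro a'
    obtain ⟨a, ha⟩ := a'.2
    refine ⟨?_, ?_⟩
    · exact (hξker _).2 (eA.symm (a' : A)).2
    · show (⟨((eA.symm (a' : A) : σ.ker) : Γ), hmemV _⟩ : V) ∈ commutator V
      set z : Γ := ((eA.symm a : σ.ker) : Γ) with hz
      have hzker : z ∈ σ.ker := (eA.symm a).2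
      obtain ⟨h1, h2⟩ := pow_index_mem_commutator V z (hσ.2.1 hzker) (hσ.2.2 hzker)
      have heq : ((eA.symm (a' : A) : σ.ker) : Γ) = z ^ V.index := by
        rw [← ha, hindex, hz]
        show ((eA.symm (a ^ U.index) : σ.ker) : Γ) = _
        rw [map_pow]
        rfl
      have : (⟨((eA.symm (a' : A) : σ.ker) : Γ), hmemV _⟩ : V) = ⟨z ^ V.index, h1⟩ := Subtype.ext heq
      rw [this]
      exact h2
  let g : (powMonoidHom U.index : A →* A).range →* K :=
    { toFun := fun a' => ⟨⟨((eA.symm (a' : A) : σ.ker) : Γ), hmemV _⟩, hmemK a'⟩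
      map_one' := by
        apply Subtype.ext
        apply Subtype.ext
        show ((eA.symm ((1 : (powMonoidHom U.index : A →* A).range) : A) : σ.ker) : Γ) = 1
        simp
      map_mul' := by
        intro a b
        apply Subtype.ext
        apply Subtype.ext
        show ((eA.symm ((a * b : (powMonoidHom U.index : A →* A).range) : A) : σ.ker) : Γ) =
          ((eA.symm (a : A) : σ.ker) : Γ) * ((eA.symm (b : A) : σ.ker) : Γ)
        simp }
  have hg : Function.Injective g := by
    intro a b h
    have h1 : ((eA.symm (a : A) : σ.ker) : Γ) = ((eA.symm (b : A) : σ.ker) : Γ) :=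
      congrArg (fun k : K => ((k : V) : Γ)) h
    have h2 : eA.symm (a : A) = eA.symm (b : A) := Subtype.ext h1
    exact Subtype.ext (eA.symm.injective h2)
  exact exists_subgroup_equiv_of_surj_inj f hf g hg

end Cfsg.Agent.S3954
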