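import Cfsg.Statements.S3955
import Mathlib
import Cfsg.Agent.Lib.Helper65.ProjLift

set_option autoImplicit false
open Cfsg

namespace Cfsg.Agent.S3955

open Cfsg.Agent.Helper65

/-- Let `Q` be a finite group with Schur multiplier `A`, and let `σ : Γ →* Q` be a finite stem extension whose kernel is isomorphic to `A` (a Schur covering group of `Q`). Then every homomorphism `γ` from `Q` to the quotient of `GL n ℂ` by its centre lifts along `σ`: there is a homomorphism `ρ : Γ →* GL n ℂ` which, followed by the quotient map, equals `γ ∘ σ`. -/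
theorem result {Q : Type*} [Group Q] [Finite Q] {A : Type*} [CommGroup A] (hA : Cfsg.HasSchurMultiplier Q A) {Γ : Type*} [Group Γ] [Finite Γ] (σ : Γ →* Q) (hσ : Cfsg.IsStemExtension σ) (hk : Nonempty (σ.ker ≃* A)) (n : ℕ) (γ : Q →* (GL (Fin n) ℂ ⧸ Subgroup.center (GL (Fin n) ℂ))) : ∃ ρ : Γ →* GL (Fin n) ℂ, (QuotientGroup.mk' (Subgroup.center (GL (Fin n) ℂ))).comp ρ = γ.comp σ := by
  set Z := Subgroup.center (GL (Fin n) ℂ) with hZ
  set q := QuotientGroup.mk' Z with hq
  have hqs : Function.Surjective q := QuotientGroup.mk'_surjective Z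
  have hkerq : q.ker = Z := QuotientGroup.ker_mk' Z
  obtain ⟨eM⟩ := mult_equiv_of_hasSchurMultiplier hA
  obtain ⟨ek⟩ := hk
  have hcard : Nat.card σ.ker = Nat.card (mult (fp Q)) := by
    rw [Nat.card_congr ek.toEquiv, Nat.card_congr eM.toEquiv]
  have hξs := gpb1_surj γ q hqs
  have hξc := gpb1_ker_central γ q (by rw [hkerq])
  have hdiv : ∀ c ∈ (gpb1 γ q).ker, ∀ m : ℤ, m ≠ 0 → ∃ d ∈ (gpb1 γ q).ker, d ^ m = c := by
    intro c hc m hm
    rw [MonoidHom.mem_ker] at hc
    have hc2 : gpb2 γ q c ∈ Z := by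
      rw [← hkerq, MonoidHom.mem_ker, ← gpb_comm, hc, map_one]
    obtain ⟨d, hd⟩ := center_GL_divisible n ⟨gpb2 γ q c, hc2⟩ m hm
    have hdmem : ((1 : Q), (d : GL (Fin n) ℂ)) ∈ gpb γ q := by
      rw [mem_gpb, map_one]
      have : (d : GL (Fin n) ℂ) ∈ q.ker := by rw [hkerq]; exact d.2
      exact ((MonoidHom.mem_ker).1 this).symm
    refine ⟨⟨((1 : Q), (d : GL (Fin n) ℂ)), hdmem⟩, ?_, ?_⟩
    · rw [MonoidHom.mem_ker]; rfl
    · apply gpb_ext
      · rw [map_zpow, hc]
        show (1 : Q) ^ m = 1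
        rw [one_zpow]
      · rw [map_zpow]
        show (d : GL (Fin n) ℂ) ^ m = gpb2 γ q c
        have := congrArg Subtype.val hd
        exact this
  obtain ⟨r, hr⟩ := lift_to_central_divisible σ hσ hcard (gpb1 γ q) hξs hξc hdiv
  refine ⟨(gpb2 γ q).comp r, ?_⟩
  refine MonoidHom.ext fun g => ?_
  rw [MonoidHom.comp_apply, MonoidHom.comp_apply, MonoidHom.comp_apply, ← gpb_comm, ← hr]
  rfl

end Cfsg.Agent.S3955
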