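import Cfsg.Statements.S3956
import Mathlib
import Cfsg.Agent.Lib.Helper65.Pull
import Cfsg.Agent.Lib.Helper65.ProjLift
import Cfsg.Agent.Lib.Helper65.Monomial

set_option autoImplicit false
universe u v
open Cfsg

namespace Cfsg.Agent.S3956

open Cfsg.Agent.Helper65
open scoped commutatorElement

section

variable {Q : Type*} [Group Q] {Γ : Type*} [Group Γ] {Δ : Type*} [Group Δ]

/-- a hom with central values kills the commutator subgroup -/
theorem commutator_le_ker_of_central {P X : Type*} [Group P] [Group X] (μ : P →* X)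
    (h : ∀ w, μ w ∈ Subgroup.center X) : commutator P ≤ μ.ker := by
  rw [commutator_def, Subgroup.commutator_le]
  intro a _ b _
  rw [MonoidHom.mem_ker, map_commutatorElement, commutatorElement_def]
  have := Subgroup.mem_center_iff.1 (h a) (μ b)
  calc μ a * μ b * (μ a)⁻¹ * (μ b)⁻¹ = (μ b * μ a) * (μ a)⁻¹ * (μ b)⁻¹ := by rw [this]
    _ = 1 := by group

/-- Part B: the commutator subgroup of the pullback meets `1 × ker τ` trivially. -/
theorem partB [Finite Q] (σ : Γ →* Q)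
    (hlift : ∀ (n : ℕ) (γ : Q →* (GL (Fin n) ℂ ⧸ Subgroup.center (GL (Fin n) ℂ))), ∃ ρ : Γ →* GL (Fin n) ℂ, (QuotientGroup.mk' (Subgroup.center (GL (Fin n) ℂ))).comp ρ = γ.comp σ)
    (τ : Δ →* Q) [Finite τ.ker] (hτ : Cfsg.IsStemExtension τ)
    (w : gpb σ τ) (hw : w ∈ commutator (gpb σ τ)) (h1 : gpb1 σ τ w = 1) : gpb2 σ τ w = 1 := by
  have hm : gpb2 σ τ w ∈ τ.ker := by
    rw [MonoidHom.mem_ker, ← gpb_comm, h1, map_one]
  by_contra hne
  have hne' : (⟨gpb2 σ τ w, hm⟩ : τ.ker) ≠ 1 := fun h => hne (congrArg Subtype.val h)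
  obtain ⟨lam, hlam⟩ := exists_char_ne_one τ hτ.2.1 ⟨gpb2 σ τ w, hm⟩ hne'
  obtain ⟨n, ρl, hcen, hfaith⟩ := exists_monomial τ hτ.1 hτ.2.1 lam
  -- descend
  have hker : τ.ker ≤ ((QuotientGroup.mk' (Subgroup.center (GL (Fin n) ℂ))).comp ρl).ker := by
    intro d hd
    rw [MonoidHom.mem_ker, MonoidHom.comp_apply, QuotientGroup.mk'_apply, QuotientGroup.eq_one_iff]
    exact hcen ⟨d, hd⟩
  obtain ⟨γ, hγ⟩ := exists_descend τ hτ.1 _ hker
  obtain ⟨ρ, hρ⟩ := hlift n γ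
  have hcmp : ∀ v : gpb σ τ, ρl (gpb2 σ τ v) * (ρ (gpb1 σ τ v))⁻¹ ∈ Subgroup.center (GL (Fin n) ℂ) := by
    intro v
    rw [← QuotientGroup.eq_one_iff, QuotientGroup.mk_mul, QuotientGroup.mk_inv, mul_inv_eq_one]
    have e1 : ((ρl (gpb2 σ τ v) : GL (Fin n) ℂ) : GL (Fin n) ℂ ⧸ Subgroup.center (GL (Fin n) ℂ)) =
        γ (τ (gpb2 σ τ v)) := by
      have := congrArg (fun f => f (gpb2 σ τ v)) hγ
      exact this.symm
    have e2 : ((ρ (gpb1 σ τ v) : GL (Fin n) ℂ) : GL (Fin n) ℂ ⧸ Subgroup.center (GL (Fin n) ℂ)) =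
        γ (σ (gpb1 σ τ v)) := by
      have := congrArg (fun f => f (gpb1 σ τ v)) hρ
      exact this
    rw [e1, e2, gpb_comm]
  let μ : gpb σ τ →* GL (Fin n) ℂ :=
    { toFun := fun v => ρl (gpb2 σ τ v) * (ρ (gpb1 σ τ v))⁻¹
      map_one' := by simp
      map_mul' := by
        intro a b
        have hb := Subgroup.mem_center_iff.1 (hcmp b) ((ρ (gpb1 σ τ a))⁻¹)
        simp only [map_mul, mul_inv_rev]
        calc ρl (gpb2 σ τ a) * ρl (gpb2 σ τ b) * ((ρ (gpb1 σ τ b))⁻¹ * (ρ (gpb1 σ τ a))⁻¹)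
            = ρl (gpb2 σ τ a) * ((ρl (gpb2 σ τ b) * (ρ (gpb1 σ τ b))⁻¹) * (ρ (gpb1 σ τ a))⁻¹) := by group
          _ = ρl (gpb2 σ τ a) * ((ρ (gpb1 σ τ a))⁻¹ * (ρl (gpb2 σ τ b) * (ρ (gpb1 σ τ b))⁻¹)) := by rw [hb]
          _ = ρl (gpb2 σ τ a) * (ρ (gpb1 σ τ a))⁻¹ * (ρl (gpb2 σ τ b) * (ρ (gpb1 σ τ b))⁻¹) := by group }
  have hμ := commutator_le_ker_of_central μ hcmp hw
  rw [MonoidHom.mem_ker] at hμ
  have hμ' : ρl (gpb2 σ τ w) * (ρ (gpb1 σ τ w))⁻¹ = 1 := hμ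
  rw [h1, map_one, inv_one, mul_one] at hμ'
  exact hlam (hfaith ⟨gpb2 σ τ w, hm⟩ hμ')

end

/-- Let `σ : Γ →* Q` be a finite stem extension of the finite group `Q` such that every homomorphism from `Q` to the quotient of `GL n ℂ` by its centre, for every `n`, lifts along `σ` to a homomorphism `Γ →* GL n ℂ`. Then `σ` is a Schur covering group of `Q`: for every finite stem extension `τ : Δ →* Q` with `Δ` in the same universe as `Q`, the kernel of `τ` is a homomorphic image of the kernel of `σ`. -/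
theorem result {Q : Type u} [Group Q] [Finite Q] {Γ : Type v} [Group Γ] [Finite Γ] (σ : Γ →* Q) (hσ : Cfsg.IsStemExtension σ) (hlift : ∀ (n : ℕ) (γ : Q →* (GL (Fin n) ℂ ⧸ Subgroup.center (GL (Fin n) ℂ))), ∃ ρ : Γ →* GL (Fin n) ℂ, (QuotientGroup.mk' (Subgroup.center (GL (Fin n) ℂ))).comp ρ = γ.comp σ) (Δ : Type u) [Group Δ] [Finite Δ] (τ : Δ →* Q) (hτ : Cfsg.IsStemExtension τ) : ∃ π : σ.ker →* τ.ker, Function.Surjective π := by
  have hB := fun w hw h1 => partB σ hlift τ hτ w hw h1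
  -- the correspondence subgroup
  set R : Subgroup (gpb σ τ) := commutator (gpb σ τ) ⊓ (σ.comp (gpb1 σ τ)).ker with hR
  let φ1 : R →* σ.ker :=
    { toFun := fun w => ⟨gpb1 σ τ (w : gpb σ τ), by
        have h3 : (w : gpb σ τ) ∈ (σ.comp (gpb1 σ τ)).ker := w.2.2
        rw [MonoidHom.mem_ker] at h3 ⊢
        exact h3⟩
      map_one' := Subtype.ext (map_one _)
      map_mul' := fun a b => Subtype.ext (map_mul _ _ _) }
  let φ2 : R →* τ.ker :=
    { toFun := fun w => ⟨gpb2 σ τ (w : gpb σ τ), by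
        have h3 : (w : gpb σ τ) ∈ (σ.comp (gpb1 σ τ)).ker := w.2.2
        rw [MonoidHom.mem_ker] at h3 ⊢
        rw [← gpb_comm]
        exact h3⟩
      map_one' := Subtype.ext (map_one _)
      map_mul' := fun a b => Subtype.ext (map_mul _ _ _) }
  have hinj : Function.Injective φ1 := by
    rw [injective_iff_map_eq_one]
    intro w hw
    have h1 : gpb1 σ τ (w : gpb σ τ) = 1 := congrArg Subtype.val hw
    have h2 : gpb2 σ τ (w : gpb σ τ) = 1 := hB _ w.2.1 h1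
    apply Subtype.ext
    apply gpb_ext σ τ
    · rw [h1]; rfl
    · rw [h2]; rfl
  have hsurj1 : Function.Surjective φ1 := by
    intro z
    have hz : (z : Γ) ∈ commutator Γ := hσ.2.2 z.2
    have hmap : (commutator (gpb σ τ)).map (gpb1 σ τ) = commutator Γ := by
      rw [map_commutator_eq, MonoidHom.range_eq_top.2 (gpb1_surj σ τ hτ.1)]
      rfl
    rw [← hmap] at hz
    obtain ⟨w, hw, hwz⟩ := hz
    have hwR : w ∈ R := by
      refine ⟨hw, ?_⟩
      show w ∈ (σ.comp (gpb1 σ τ)).ker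
      rw [MonoidHom.mem_ker, MonoidHom.comp_apply, hwz]
      exact z.2
    exact ⟨⟨w, hwR⟩, Subtype.ext hwz⟩
  have hsurj2 : Function.Surjective φ2 := by
    intro d
    have hd : (d : Δ) ∈ commutator Δ := hτ.2.2 d.2
    have hmap : (commutator (gpb σ τ)).map (gpb2 σ τ) = commutator Δ := by
      rw [map_commutator_eq, MonoidHom.range_eq_top.2 (gpb2_surj σ τ hσ.1)]
      rfl
    rw [← hmap] at hd
    obtain ⟨w, hw, hwd⟩ := hd
    have hwR : w ∈ R := by
      refine ⟨hw, ?_⟩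
      show w ∈ (σ.comp (gpb1 σ τ)).ker
      rw [MonoidHom.mem_ker, MonoidHom.comp_apply, gpb_comm, hwd]
      exact d.2
    exact ⟨⟨w, hwR⟩, Subtype.ext hwd⟩
  let E : R ≃* σ.ker := MulEquiv.ofBijective φ1 ⟨hinj, hsurj1⟩
  refine ⟨φ2.comp E.symm.toMonoidHom, ?_⟩
  exact hsurj2.comp E.symm.surjective

end Cfsg.Agent.S3956
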