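import Cfsg.Statements.S3958
import Mathlib
import Cfsg.Agent.Lib.Helper65.Pull

set_option autoImplicit false
open Cfsg

universe u v

namespace Cfsg.Agent.S3958

open Cfsg.Agent.Helper65

/-- Let `σ : Γ →* Q` be a finite stem extension of the finite group `Q` with `Γ` of trivial Schur multiplier. Then `σ` is a Schur covering group of `Q`: for every finite stem extension `τ : Δ →* Q` with `Δ` in the same universe as `Q`, the kernel of `τ` is a homomorphic image of the kernel of `σ`. -/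
theorem result {Q : Type u} [Group Q] [Finite Q] {Γ : Type v} [Group Γ] [Finite Γ] (σ : Γ →* Q) (hσ : Cfsg.IsStemExtension σ) (hΓ : Cfsg.HasCyclicSchurMultiplier Γ 1) (Δ : Type u) [Group Δ] [Finite Δ] (τ : Δ →* Q) (hτ : Cfsg.IsStemExtension τ) : ∃ π : σ.ker →* τ.ker, Function.Surjective π := by
  have hm := mult_eq_bot_of_trivial hΓ
  have hs1 := gpb1_surj σ τ hτ.1
  have hs2 := gpb2_surj σ τ hσ.1
  have hcen := gpb1_ker_central σ τ hτ.2.1
  have hbot := ker_inf_commutator_eq_bot (fp Γ) (fp_surj Γ) hm (gpb1 σ τ) hs1 hcen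
  -- the subgroup D
  let D : Subgroup (gpb σ τ) := (σ.comp (gpb1 σ τ)).ker ⊓ commutator (gpb σ τ)
  let f : D →* σ.ker :=
    { toFun := fun x => ⟨gpb1 σ τ (x : gpb σ τ), by
        have : (x : gpb σ τ) ∈ (σ.comp (gpb1 σ τ)).ker := x.2.1
        rw [MonoidHom.mem_ker, MonoidHom.comp_apply] at this
        exact (MonoidHom.mem_ker).2 this⟩
      map_one' := Subtype.ext (map_one _)
      map_mul' := fun a b => Subtype.ext (map_mul (gpb1 σ τ) (a : gpb σ τ) (b : gpb σ τ)) }
  let g : D →* τ.ker :=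
    { toFun := fun x => ⟨gpb2 σ τ (x : gpb σ τ), by
        have : (x : gpb σ τ) ∈ (σ.comp (gpb1 σ τ)).ker := x.2.1
        rw [MonoidHom.mem_ker, MonoidHom.comp_apply, gpb_comm] at this
        exact (MonoidHom.mem_ker).2 this⟩
      map_one' := Subtype.ext (map_one _)
      map_mul' := fun a b => Subtype.ext (map_mul (gpb2 σ τ) (a : gpb σ τ) (b : gpb σ τ)) }
  have hfinj : Function.Injective f := by
    rw [injective_iff_map_eq_one]
    intro x hx
    have h1 : gpb1 σ τ (x : gpb σ τ) = 1 := congrArg Subtype.val hx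
    have h2 : (x : gpb σ τ) ∈ (gpb1 σ τ).ker ⊓ commutator (gpb σ τ) :=
      ⟨(MonoidHom.mem_ker).2 h1, x.2.2⟩
    rw [hbot, Subgroup.mem_bot] at h2
    exact Subtype.ext h2
  have hfsurj : Function.Surjective f := by
    intro k
    have hk : (k : Γ) ∈ (commutator (gpb σ τ)).map (gpb1 σ τ) := by
      rw [map_commutator_eq, MonoidHom.range_eq_top.2 hs1, ← commutator_def]
      exact hσ.2.2 k.2
    obtain ⟨x, hx, hxk⟩ := hk
    refine ⟨⟨x, ?_, hx⟩, Subtype.ext hxk⟩
    show x ∈ (σ.comp (gpb1 σ τ)).ker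
    rw [MonoidHom.mem_ker, MonoidHom.comp_apply, hxk]
    exact (MonoidHom.mem_ker).1 k.2
  have hgsurj : Function.Surjective g := by
    intro k
    have hk : (k : Δ) ∈ (commutator (gpb σ τ)).map (gpb2 σ τ) := by
      rw [map_commutator_eq, MonoidHom.range_eq_top.2 hs2, ← commutator_def]
      exact hτ.2.2 k.2
    obtain ⟨x, hx, hxk⟩ := hk
    refine ⟨⟨x, ?_, hx⟩, Subtype.ext hxk⟩
    show x ∈ (σ.comp (gpb1 σ τ)).ker
    rw [MonoidHom.mem_ker, MonoidHom.comp_apply, gpb_comm, hxk]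
    exact (MonoidHom.mem_ker).1 k.2
  let e : D ≃* σ.ker := MulEquiv.ofBijective f ⟨hfinj, hfsurj⟩
  exact ⟨g.comp e.symm.toMonoidHom, hgsurj.comp e.symm.surjective⟩

end Cfsg.Agent.S3958
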