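import Cfsg.Statements.S3960
import Mathlib
import Cfsg.Agent.Lib.Helper65.Central

set_option autoImplicit false
open Cfsg

universe u

namespace Cfsg.Agent.S3960

open Cfsg.Agent.Helper65
open scoped commutatorElement

section

variable {F Q : Type*} [Group F] [Group Q] (p : F →* Q)

theorem sup_ker_eq_top (hp : Function.Surjective p) (hQ : Group.IsPerfect Q) :
    commutator (CE p) ⊔ (cProj p).ker = ⊤ := by
  rw [← Subgroup.comap_map_eq, map_commutator_eq,
    MonoidHom.range_eq_top.2 (cProj_surjective p hp), ← commutator_def, hQ.commutator_eq_top,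
    Subgroup.comap_top]

theorem commutator_CE_perfect (hp : Function.Surjective p) (hQ : Group.IsPerfect Q) :
    Group.IsPerfect (commutator (CE p)) := by
  rw [Subgroup.isPerfect_iff]
  apply le_antisymm (Subgroup.commutator_le_self _)
  have hsup := sup_ker_eq_top p hp hQ
  conv_lhs => rw [commutator_eq_closure]
  rw [Subgroup.closure_le]
  rintro _ ⟨x, y, rfl⟩
  have hx : x ∈ commutator (CE p) ⊔ (cProj p).ker := by rw [hsup]; exact Subgroup.mem_top x
  have hy : y ∈ commutator (CE p) ⊔ (cProj p).ker := by rw [hsup]; exact Subgroup.mem_top y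
  rw [← SetLike.mem_coe, Subgroup.mul_normal] at hx hy
  obtain ⟨e₁, he₁, a₁, ha₁, rfl⟩ := Set.mem_mul.1 hx
  obtain ⟨e₂, he₂, a₂, ha₂, rfl⟩ := Set.mem_mul.1 hy
  rw [SetLike.mem_coe, commutatorElement_mul_central _ _ _ _ (ker_cProj_le_center p ha₁)
    (ker_cProj_le_center p ha₂)]
  exact Subgroup.commutator_mem_commutator he₁ he₂

end

/-- A finite perfect group `Q` has a universal central extension: a finite perfect group `G` in the universe of `Q` and a surjective homomorphism `π : G →* Q` with central kernel such that for every group `X` in that universe and every surjective homomorphism `ξ : X →* Q` with central kernel there is exactly one homomorphism `η : G →* X` with `ξ ∘ η = π`. -/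
theorem result {Q : Type u} [Group Q] [Finite Q] (hQ : Group.IsPerfect Q) : ∃ (G : Type u) (_ : Group G) (_ : Finite G) (π : G →* Q), Group.IsPerfect G ∧ Function.Surjective π ∧ π.ker ≤ Subgroup.center G ∧ ∀ (X : Type u) [Group X] (ξ : X →* Q), Function.Surjective ξ → ξ.ker ≤ Subgroup.center X → ∃! η : G →* X, ξ.comp η = π := by
  let p : FreeGroup Q →* Q := FreeGroup.lift id
  have hp : Function.Surjective p := fun q => ⟨FreeGroup.of q, by simp [p]⟩
  have hperf := commutator_CE_perfect p hp hQ
  refine ⟨commutator (CE p), inferInstance, finite_commutator_CE p,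
    (cProj p).comp (commutator (CE p)).subtype, hperf, ?_, ?_, ?_⟩
  · intro q
    have hq : q ∈ (commutator (CE p)).map (cProj p) := by
      rw [map_commutator_eq, MonoidHom.range_eq_top.2 (cProj_surjective p hp), ← commutator_def,
        hQ.commutator_eq_top]
      exact Subgroup.mem_top q
    obtain ⟨x, hx, rfl⟩ := hq
    exact ⟨⟨x, hx⟩, rfl⟩
  · intro x hx
    rw [MonoidHom.mem_ker, MonoidHom.comp_apply] at hx
    have hc := ker_cProj_le_center p ((MonoidHom.mem_ker).2 hx)
    rw [Subgroup.mem_center_iff] at hc ⊢
    intro y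
    apply Subtype.ext
    exact hc y.1
  · intro X _ ξ hξs hξc
    obtain ⟨φ, hφ⟩ := exists_freeGroup_lift p ξ hξs
    refine ⟨(cLift p ξ hξc φ hφ).comp (commutator (CE p)).subtype, ?_, ?_⟩
    · show ξ.comp ((cLift p ξ hξc φ hφ).comp (commutator (CE p)).subtype) = _
      rw [← MonoidHom.comp_assoc, cLift_comp]
    · intro η' hη'
      apply hom_eq_of_perfect_of_central hperf ξ hξc
      rw [hη', ← MonoidHom.comp_assoc, cLift_comp]

end Cfsg.Agent.S3960
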