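import Cfsg.Statements.S3962
import Mathlib

set_option autoImplicit false
open Cfsg

namespace Cfsg.Agent.S3962

/-- Let `G` be a perfect group and `π : G →* Q` a surjective homomorphism whose kernel is central. Then `π` maps the centre of `G` onto the centre of `Q`. Taking `π` to be the map to `G ⧸ Z(G)` shows that the central quotient of a perfect group has trivial centre. -/
theorem result {G Q : Type*} [Group G] [Group Q] (hG : Group.IsPerfect G) (π : G →* Q) (hπ : Function.Surjective π) (hker : π.ker ≤ Subgroup.center G) : (Subgroup.center G).map π = Subgroup.center Q := by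
  apply le_antisymm
  · rintro _ ⟨z, hz, rfl⟩
    rw [Subgroup.mem_center_iff]
    intro q
    obtain ⟨x, rfl⟩ := hπ q
    rw [← map_mul, ← map_mul, (Subgroup.mem_center_iff.1 hz) x]
  · intro q hq
    obtain ⟨g, rfl⟩ := hπ q
    refine ⟨g, ?_, rfl⟩
    -- for every x, g x g⁻¹ x⁻¹ is central
    have hc : ∀ x : G, g * x * g⁻¹ * x⁻¹ ∈ Subgroup.center G := by
      intro x
      apply hker
      rw [MonoidHom.mem_ker]
      simp only [map_mul, map_inv]
      have := (Subgroup.mem_center_iff.1 hq) (π x)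
      rw [← this]
      group
    have htop : (⊤ : Subgroup G) ≤ Subgroup.centralizer {g} := by
      rw [← hG.commutator_eq_top, commutator_eq_closure, Subgroup.closure_le]
      rintro _ ⟨x, y, rfl⟩
      rw [SetLike.mem_coe, Subgroup.mem_centralizer_iff]
      intro h hh
      rw [Set.mem_singleton_iff] at hh
      subst hh
      -- h * ⁅x,y⁆ = ⁅x,y⁆ * h
      have hx := hc x
      have hy := hc y
      set z1 := h * x * h⁻¹ * x⁻¹ with hz1
      set z2 := h * y * h⁻¹ * y⁻¹ with hz2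
      have e1 : h * x = z1 * x * h := by rw [hz1]; group
      have e2 : h * y = z2 * y * h := by rw [hz2]; group
      have c1 := Subgroup.mem_center_iff.1 hx
      have c2 := Subgroup.mem_center_iff.1 hy
      have e3 : h * x⁻¹ = z1⁻¹ * x⁻¹ * h := by
        have : x⁻¹ * z1⁻¹ = z1⁻¹ * x⁻¹ := by
          rw [← mul_inv_rev, ← mul_inv_rev, c1 x]
        calc h * x⁻¹ = x⁻¹ * (x * h * x⁻¹) := by group
          _ = x⁻¹ * (z1⁻¹ * h) := by rw [hz1]; group
          _ = (x⁻¹ * z1⁻¹) * h := by group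
          _ = z1⁻¹ * x⁻¹ * h := by rw [this]
      have e4 : h * y⁻¹ = z2⁻¹ * y⁻¹ * h := by
        have : y⁻¹ * z2⁻¹ = z2⁻¹ * y⁻¹ := by
          rw [← mul_inv_rev, ← mul_inv_rev, c2 y]
        calc h * y⁻¹ = y⁻¹ * (y * h * y⁻¹) := by group
          _ = y⁻¹ * (z2⁻¹ * h) := by rw [hz2]; group
          _ = (y⁻¹ * z2⁻¹) * h := by group
          _ = z2⁻¹ * y⁻¹ * h := by rw [this]
      rw [commutatorElement_def]
      calc h * (x * y * x⁻¹ * y⁻¹) = (h * x) * y * x⁻¹ * y⁻¹ := by group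
        _ = z1 * x * (h * y) * x⁻¹ * y⁻¹ := by rw [e1]; group
        _ = z1 * x * z2 * y * (h * x⁻¹) * y⁻¹ := by rw [e2]; group
        _ = z1 * x * z2 * y * z1⁻¹ * x⁻¹ * (h * y⁻¹) := by rw [e3]; group
        _ = z1 * x * z2 * y * z1⁻¹ * x⁻¹ * z2⁻¹ * y⁻¹ * h := by rw [e4]; group
        _ = x * y * x⁻¹ * y⁻¹ * h := by
          have a1 : z1 * x = x * z1 := (c1 x).symm
          have a2 : ∀ w : G, z2 * w = w * z2 := fun w => (c2 w).symm
          have a3 : ∀ w : G, z1 * w = w * z1 := fun w => (c1 w).symm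
          calc z1 * x * z2 * y * z1⁻¹ * x⁻¹ * z2⁻¹ * y⁻¹ * h
              = z1 * (x * (z2 * (y * z1⁻¹ * x⁻¹)) * z2⁻¹) * y⁻¹ * h := by group
            _ = z1 * (x * ((y * z1⁻¹ * x⁻¹) * z2) * z2⁻¹) * y⁻¹ * h := by rw [a2]
            _ = z1 * (x * y * z1⁻¹ * x⁻¹) * y⁻¹ * h := by group
            _ = (x * y * z1⁻¹ * x⁻¹) * z1 * y⁻¹ * h := by rw [a3]
            _ = x * y * (z1⁻¹ * (x⁻¹ * z1)) * y⁻¹ * h := by group
            _ = x * y * (z1⁻¹ * (z1 * x⁻¹)) * y⁻¹ * h := by rw [a3]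
            _ = x * y * x⁻¹ * y⁻¹ * h := by group
    rw [SetLike.mem_coe, Subgroup.mem_center_iff]
    intro x
    have := htop (Subgroup.mem_top x)
    rw [Subgroup.mem_centralizer_iff] at this
    exact (this g (Set.mem_singleton g)).symm

end Cfsg.Agent.S3962
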