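import Cfsg.Statements.S3961
import Mathlib
import Cfsg.Agent.Lib.Helper65.Stem
import Cfsg.Agent.Lib.Helper65.Central
import Cfsg.Agent.Lib.Helper65.Perfect
import Cfsg.Agent.S3962

set_option autoImplicit false
open Cfsg

universe u v

namespace Cfsg.Agent.S3961

open Cfsg.Agent.Helper65
open scoped commutatorElement

section Pull

variable {G : Type u} {Q : Type v} {X : Type u} [Group G] [Group Q] [Group X]

/-- pullback of `π : G → Q` and `ξ : X → Q` -/
def pb (π : G →* Q) (ξ : X →* Q) : Subgroup (G × X) :=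
  (π.comp (MonoidHom.fst G X)).eqLocus (ξ.comp (MonoidHom.snd G X))

theorem mem_pb (π : G →* Q) (ξ : X →* Q) (z : G × X) : z ∈ pb π ξ ↔ π z.1 = ξ z.2 := Iff.rfl

/-- first projection -/
def pb1 (π : G →* Q) (ξ : X →* Q) : pb π ξ →* G := (MonoidHom.fst G X).comp (pb π ξ).subtype

/-- second projection -/
def pb2 (π : G →* Q) (ξ : X →* Q) : pb π ξ →* X := (MonoidHom.snd G X).comp (pb π ξ).subtype

theorem pb_comm (π : G →* Q) (ξ : X →* Q) : ξ.comp (pb2 π ξ) = π.comp (pb1 π ξ) := by
  ext z
  exact ((mem_pb π ξ z.1).1 z.2).symm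

theorem pb1_surj (π : G →* Q) (ξ : X →* Q) (hξ : Function.Surjective ξ) :
    Function.Surjective (pb1 π ξ) := by
  intro g
  obtain ⟨x, hx⟩ := hξ (π g)
  exact ⟨⟨(g, x), hx.symm⟩, rfl⟩

theorem pb1_ker_central (π : G →* Q) (ξ : X →* Q) (hξc : ξ.ker ≤ Subgroup.center X) :
    (pb1 π ξ).ker ≤ Subgroup.center (pb π ξ) := by
  intro z hz
  rw [MonoidHom.mem_ker] at hz
  have hz1 : z.1.1 = 1 := hz
  have hz2 : z.1.2 ∈ ξ.ker := by
    rw [MonoidHom.mem_ker, ← (mem_pb π ξ z.1).1 z.2, hz1, map_one]
  have hc := Subgroup.mem_center_iff.1 (hξc hz2)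
  rw [Subgroup.mem_center_iff]
  intro y
  apply Subtype.ext
  apply Prod.ext
  · show y.1.1 * z.1.1 = z.1.1 * y.1.1
    rw [hz1, one_mul, mul_one]
  · show y.1.2 * z.1.2 = z.1.2 * y.1.2
    exact hc y.1.2

end Pull

theorem ker_eq_bot_of_multiplier_one {G : Type u} [Group G] (hM : Cfsg.HasCyclicSchurMultiplier G 1)
    (Γ : Type u) [Group Γ] [Finite Γ] (σ : Γ →* G) (hσ : Cfsg.IsStemExtension σ) : σ.ker = ⊥ := by
  obtain ⟨π', hπ'⟩ := hM.2 Γ σ hσ
  rw [eq_bot_iff]
  intro z hz
  obtain ⟨k, hk⟩ := hπ' ⟨z, hz⟩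
  have hk1 : k = 1 := Subsingleton.elim (α := ZMod 1) _ _
  rw [hk1, map_one] at hk
  rw [Subgroup.mem_bot]
  have := congrArg Subtype.val hk
  simpa using this.symm

/-- Let `π : G →* Q` be a surjective homomorphism with central kernel from a finite perfect group `G` (a perfect cover of `Q`). Then `π` is universal, in the sense that every surjective homomorphism `ξ : X →* Q` with central kernel from a group `X` in the universe of `G` admits a homomorphism `η : G →* X` with `ξ ∘ η = π`, if and only if `G` has trivial Schur multiplier. -/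
theorem result {G : Type u} {Q : Type v} [Group G] [Group Q] [Finite G] (hG : Group.IsPerfect G) (π : G →* Q) (hπ : Function.Surjective π) (hker : π.ker ≤ Subgroup.center G) : (∀ (X : Type u) [Group X] (ξ : X →* Q), Function.Surjective ξ → ξ.ker ≤ Subgroup.center X → ∃ η : G →* X, ξ.comp η = π) ↔ Cfsg.HasCyclicSchurMultiplier G 1 := by
  constructor
  · intro hUP
    apply trivial_multiplier_of
    intro Γ _ _ σ hσ
    -- Γ is perfect
    have hΓ : Group.IsPerfect Γ := by
      rw [Group.isPerfect_def]
      have h1 := commutator_sup_ker_eq_top σ hσ.1 hG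
      rwa [sup_eq_left.2 hσ.2.2] at h1
    -- the kernel of π ∘ σ is central
    have hc : (π.comp σ).ker ≤ Subgroup.center Γ := by
      intro z hz
      rw [MonoidHom.mem_ker, MonoidHom.comp_apply] at hz
      have h1 : σ z ∈ Subgroup.center G := hker ((MonoidHom.mem_ker).2 hz)
      rw [← Cfsg.Agent.S3962.result hΓ σ hσ.1 hσ.2.1] at h1
      obtain ⟨z', hz', hzz'⟩ := h1
      have h2 : z'⁻¹ * z ∈ σ.ker := by
        rw [MonoidHom.mem_ker, map_mul, map_inv, hzz']; group
      have h3 := hσ.2.1 h2
      have : z = z' * (z'⁻¹ * z) := by group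
      rw [this]
      exact Subgroup.mul_mem _ hz' h3
    obtain ⟨η, hη⟩ := hUP Γ (π.comp σ) (hπ.comp hσ.1) hc
    have hid : σ.comp η = MonoidHom.id G := by
      apply hom_eq_of_perfect_of_central hG π hker
      rw [← MonoidHom.comp_assoc, hη, MonoidHom.comp_id]
    have hsup : η.range ⊔ σ.ker = ⊤ := by
      rw [eq_top_iff]
      intro γ _
      have h1 : γ = η (σ γ) * ((η (σ γ))⁻¹ * γ) := by group
      rw [h1]
      apply Subgroup.mul_mem_sup
      · exact ⟨σ γ, rfl⟩
      · rw [MonoidHom.mem_ker, map_mul, map_inv]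
        have := DFunLike.congr_fun hid (σ γ)
        simp only [MonoidHom.comp_apply, MonoidHom.id_apply] at this
        rw [this]; group
    have hrange : η.range = ⊤ := by
      rw [eq_top_iff, ← hΓ.commutator_eq_top]
      exact (commutator_le_of_sup_central η.range σ.ker hσ.2.1 hsup).trans
        (Subgroup.commutator_le_self _)
    rw [eq_bot_iff]
    intro z hz
    have hz' : z ∈ η.range := hrange ▸ Subgroup.mem_top z
    obtain ⟨g, rfl⟩ := hz'
    rw [MonoidHom.mem_ker] at hz
    have := DFunLike.congr_fun hid g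
    simp only [MonoidHom.comp_apply, MonoidHom.id_apply] at this
    rw [hz] at this
    rw [← this, map_one, Subgroup.mem_bot]
  · intro hM X _ ξ hξs hξc
    -- the pullback
    have hcen := pb1_ker_central π ξ hξc
    have hsurj := pb1_surj π ξ hξs
    have hsup := commutator_sup_ker_eq_top (pb1 π ξ) hsurj hG
    have hperf := commutator_perfect_of_sup_central (pb1 π ξ).ker hcen hsup
    have hfin : Finite (commutator (pb π ξ)) := by
      have : (pb1 π ξ).ker.FiniteIndex := by
        constructor
        rw [Subgroup.index_ker]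
        exact Nat.card_pos.ne'
      exact finite_commutator_of_central_finiteIndex (pb1 π ξ).ker hcen
    let σ : commutator (pb π ξ) →* G := (pb1 π ξ).comp (commutator (pb π ξ)).subtype
    have hσsurj : Function.Surjective σ := by
      intro g
      have hg : g ∈ (commutator (pb π ξ)).map (pb1 π ξ) := by
        rw [map_commutator_eq, MonoidHom.range_eq_top.2 hsurj, ← commutator_def,
          hG.commutator_eq_top]
        exact Subgroup.mem_top g
      obtain ⟨x, hx, rfl⟩ := hg
      exact ⟨⟨x, hx⟩, rfl⟩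
    have hσ : Cfsg.IsStemExtension σ := by
      refine ⟨hσsurj, ?_, ?_⟩
      · intro x hx
        rw [MonoidHom.mem_ker, MonoidHom.comp_apply] at hx
        have hc := hcen ((MonoidHom.mem_ker).2 hx)
        rw [Subgroup.mem_center_iff] at hc ⊢
        intro y
        apply Subtype.ext
        exact hc y.1
      · rw [hperf.commutator_eq_top]
        exact le_top
    have hbot := ker_eq_bot_of_multiplier_one hM _ σ hσ
    have hinj : Function.Injective σ := (MonoidHom.ker_eq_bot_iff σ).1 hbot
    let e : commutator (pb π ξ) ≃* G := MulEquiv.ofBijective σ ⟨hinj, hσsurj⟩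
    refine ⟨((pb2 π ξ).comp (commutator (pb π ξ)).subtype).comp e.symm.toMonoidHom, ?_⟩
    ext g
    simp only [MonoidHom.comp_apply]
    have h1 := DFunLike.congr_fun (pb_comm π ξ) ((e.symm g : commutator (pb π ξ)) : pb π ξ)
    simp only [MonoidHom.comp_apply] at h1
    have h2 : (pb1 π ξ) ((e.symm g : commutator (pb π ξ)) : pb π ξ) = g := by
      have : σ (e.symm g) = g := e.apply_symm_apply g
      exact this
    rw [h2] at h1
    exact h1

end Cfsg.Agent.S3961
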