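import Cfsg.Statements.S3966
import Mathlib.GroupTheory.Index
import Mathlib.GroupTheory.QuotientGroup.Basic
import Mathlib.Tactic

set_option autoImplicit false
open Cfsg

namespace Cfsg.Agent.S3966

open QuaternionGroup DihedralGroup
open scoped commutatorElement

/-- reduction `ZMod (2 * n) → ZMod n` -/
def red (n : ℕ) : ZMod (2 * n) →+* ZMod n := ZMod.castHom (Dvd.intro_left 2 rfl) (ZMod n)

theorem red_n (n : ℕ) : red n (n : ZMod (2 * n)) = 0 := by
  rw [map_natCast]; exact ZMod.natCast_self n

/-- the map on elements -/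
def toDihedral (n : ℕ) : QuaternionGroup n → DihedralGroup n
  | QuaternionGroup.a i => DihedralGroup.r (red n i)
  | QuaternionGroup.xa i => DihedralGroup.sr (red n i)

/-- the homomorphism `Q_{4n} → D_{2n}` -/
def sigma (n : ℕ) : QuaternionGroup n →* DihedralGroup n where
  toFun := toDihedral n
  map_one' := by
    rw [QuaternionGroup.one_def, DihedralGroup.one_def]
    simp [toDihedral]
  map_mul' := by
    rintro (i | i) (j | j)
    · simp [toDihedral, QuaternionGroup.a_mul_a, DihedralGroup.r_mul_r]
    · simp [toDihedral, QuaternionGroup.a_mul_xa, DihedralGroup.r_mul_sr]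
    · simp [toDihedral, QuaternionGroup.xa_mul_a, DihedralGroup.sr_mul_r]
    · simp only [toDihedral, QuaternionGroup.xa_mul_xa, DihedralGroup.sr_mul_sr, map_sub, map_add,
        red_n, zero_add]

theorem sigma_surjective (n : ℕ) [NeZero n] : Function.Surjective (sigma n) := by
  have hs : Function.Surjective (red n) := ZMod.castHom_surjective _
  rintro (i | i)
  · obtain ⟨j, rfl⟩ := hs i
    exact ⟨QuaternionGroup.a j, rfl⟩
  · obtain ⟨j, rfl⟩ := hs i
    exact ⟨QuaternionGroup.xa j, rfl⟩

theorem red_eq_zero (n : ℕ) [NeZero n] (i : ZMod (2 * n)) (h : red n i = 0) :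
    i = 0 ∨ i = (n : ZMod (2 * n)) := by
  have hn : 0 < n := Nat.pos_of_ne_zero (NeZero.ne n)
  have h2n : NeZero (2 * n) := ⟨by omega⟩
  have hv : i.val < 2 * n := ZMod.val_lt i
  have h1 : ((i.val : ℕ) : ZMod n) = 0 := by
    have : red n ((i.val : ℕ) : ZMod (2 * n)) = 0 := by rw [ZMod.natCast_zmod_val]; exact h
    rwa [map_natCast] at this
  rw [ZMod.natCast_eq_zero_iff] at h1
  obtain ⟨t, ht⟩ := h1
  have ht' : t = 0 ∨ t = 1 := by
    have : n * t < 2 * n := ht ▸ hv
    have : t < 2 := by nlinarith
    omega
  rcases ht' with rfl | rfl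
  · left
    have : i.val = 0 := by simpa using ht
    exact (ZMod.val_eq_zero i).mp this
  · right
    have hin : i.val = n := by simpa using ht
    calc i = ((i.val : ℕ) : ZMod (2 * n)) := (ZMod.natCast_zmod_val i).symm
      _ = (n : ZMod (2 * n)) := by rw [hin]

theorem mem_ker (n : ℕ) [NeZero n] (x : QuaternionGroup n) (hx : x ∈ (sigma n).ker) :
    x = 1 ∨ x = QuaternionGroup.a (n : ZMod (2 * n)) := by
  rw [MonoidHom.mem_ker] at hx
  rcases x with i | i
  · have : DihedralGroup.r (red n i) = (1 : DihedralGroup n) := hx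
    rw [DihedralGroup.one_def, DihedralGroup.r.injEq] at this
    rcases red_eq_zero n i this with rfl | rfl
    · left; exact QuaternionGroup.a_zero
    · right; rfl
  · have : DihedralGroup.sr (red n i) = (1 : DihedralGroup n) := hx
    rw [DihedralGroup.one_def] at this
    cases this

theorem n_add_n (n : ℕ) : (n : ZMod (2 * n)) + n = 0 := by
  rw [← two_mul]
  have : ((2 * n : ℕ) : ZMod (2 * n)) = 0 := ZMod.natCast_self _
  push_cast at this
  exact this

theorem an_central (n : ℕ) : QuaternionGroup.a (n : ZMod (2 * n)) ∈ Subgroup.center (QuaternionGroup n) := by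
  rw [Subgroup.mem_center_iff]
  have h2 : (n : ZMod (2 * n)) + n = 0 := by
    rw [← two_mul]
    have : ((2 * n : ℕ) : ZMod (2 * n)) = 0 := ZMod.natCast_self _
    push_cast at this
    exact this
  rintro (j | j)
  · rw [QuaternionGroup.a_mul_a, QuaternionGroup.a_mul_a, add_comm]
  · rw [QuaternionGroup.xa_mul_a, QuaternionGroup.a_mul_xa]
    congr 1
    have : (n : ZMod (2 * n)) = -n := eq_neg_of_add_eq_zero_left h2
    rw [sub_eq_add_neg, ← this]

theorem an_mem_commutator (n : ℕ) (hn : Even n) :
    QuaternionGroup.a (n : ZMod (2 * n)) ∈ commutator (QuaternionGroup n) := by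
  obtain ⟨k, hk⟩ := hn
  have h1 : ⁅(QuaternionGroup.a 1 : QuaternionGroup n), QuaternionGroup.xa 0⁆ ∈
      commutator (QuaternionGroup n) :=
    Subgroup.commutator_mem_commutator (Subgroup.mem_top _) (Subgroup.mem_top _)
  have h2 : (⁅(QuaternionGroup.a 1 : QuaternionGroup n),
      (QuaternionGroup.xa 0 : QuaternionGroup n)⁆ : QuaternionGroup n) =
      QuaternionGroup.a 2 := by
    rw [commutatorElement_def]
    have hinv1 : (QuaternionGroup.a 1 : QuaternionGroup n)⁻¹ = QuaternionGroup.a (-1) := by
      rw [inv_eq_iff_mul_eq_one, QuaternionGroup.a_mul_a, add_neg_cancel, QuaternionGroup.a_zero]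
    have hinv2 : (QuaternionGroup.xa 0 : QuaternionGroup n)⁻¹ = QuaternionGroup.xa (n : ZMod (2 * n)) := by
      rw [inv_eq_iff_mul_eq_one, QuaternionGroup.xa_mul_xa]
      rw [sub_zero, n_add_n, QuaternionGroup.a_zero]
    rw [hinv1, hinv2, QuaternionGroup.a_mul_xa, QuaternionGroup.xa_mul_a, QuaternionGroup.xa_mul_xa]
    congr 1
    have := n_add_n n
    linear_combination this
  rw [h2] at h1
  have h3 : (QuaternionGroup.a 2 : QuaternionGroup n) ^ k = QuaternionGroup.a (n : ZMod (2 * n)) := by
    have : (QuaternionGroup.a 2 : QuaternionGroup n) = (QuaternionGroup.a 1) ^ 2 := by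
      rw [QuaternionGroup.a_one_pow]; norm_num
    rw [this, ← pow_mul, QuaternionGroup.a_one_pow, hk]
    congr 1
    push_cast
    ring
  rw [← h3]
  exact Subgroup.pow_mem _ h1 k

/-- For even `n ≥ 2` the dicyclic group of order `4 n` is a stem extension of the dihedral group of order `2 n` with kernel of order `2`: there is a surjective homomorphism `QuaternionGroup n →* DihedralGroup n` whose kernel is central, lies in the commutator subgroup and has two elements. Together with the order of the multiplier this exhibits the dicyclic group as a Schur covering group of the dihedral group. -/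
theorem result (n : ℕ) [NeZero n] (hn : Even n) : ∃ σ : QuaternionGroup n →* DihedralGroup n, Cfsg.IsStemExtension σ ∧ Nat.card σ.ker = 2 := by
  refine ⟨sigma n, ⟨sigma_surjective n, ?_, ?_⟩, ?_⟩
  · intro x hx
    rcases mem_ker n x hx with rfl | rfl
    · exact Subgroup.one_mem _
    · exact an_central n
  · intro x hx
    rcases mem_ker n x hx with rfl | rfl
    · exact Subgroup.one_mem _
    · exact an_mem_commutator n hn
  · have h1 : Nat.card (QuaternionGroup n ⧸ (sigma n).ker) = Nat.card (DihedralGroup n) :=
      Nat.card_congr (QuotientGroup.quotientKerEquivOfSurjective (sigma n) (sigma_surjective n)).toEquiv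
    have h2 := (sigma n).ker.index_mul_card
    rw [Subgroup.index_eq_card, h1, DihedralGroup.nat_card, Nat.card_eq_fintype_card,
      Nat.card_eq_fintype_card, QuaternionGroup.card] at h2
    have hn0 : 0 < n := Nat.pos_of_ne_zero (NeZero.ne n)
    have : 2 * n * Fintype.card (sigma n).ker = 2 * n * 2 := by rw [h2]; ring
    have := Nat.eq_of_mul_eq_mul_left (by omega) this
    rw [Nat.card_eq_fintype_card]
    exact this

end Cfsg.Agent.S3966
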