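import Cfsg.Statements.S3968
import Cfsg.Agent.S0142
import Cfsg.Agent.Lib.Helper79.Restrict
import Cfsg.Agent.Lib.Helper79.Linear

set_option autoImplicit false
open Cfsg

namespace Cfsg.Agent.S3968

open Cfsg.Agent.Helper79

/-- an endomorphism of a one-dimensional space is a scalar -/
theorem end_comm_of_finrank_one {V : Type*} [AddCommGroup V] [Module ℂ V]
    (h : Module.finrank ℂ V = 1) (f g : Module.End ℂ V) : f * g = g * f := by
  obtain ⟨v, hv, hspan⟩ := finrank_eq_one_iff'.1 h
  have hsc : ∀ e : Module.End ℂ V, ∃ c : ℂ, ∀ w, e w = c • w := by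
    intro e
    obtain ⟨c, hc⟩ := hspan (e v)
    refine ⟨c, fun w => ?_⟩
    obtain ⟨a, rfl⟩ := hspan w
    rw [map_smul, ← hc, smul_comm]
  obtain ⟨a, ha⟩ := hsc f
  obtain ⟨b, hb⟩ := hsc g
  apply LinearMap.ext
  intro w
  simp only [Module.End.mul_apply]
  rw [hb w, ha w, map_smul, map_smul, ha w, hb w, smul_comm]

/-- an irreducible character of degree one is trivial on commutators -/
theorem linear_commutator {P : Type*} [Group P] [Finite P] (ψ : IrrCharacter P)
    (hdeg : charDegree (ψ : P → ℂ) = 1) (a b : P) : (ψ : P → ℂ) (a * b * a⁻¹ * b⁻¹) = 1 := by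
  obtain ⟨n, τ, hτ, hψτ, hker⟩ := irr_exists_rep ψ
  have h1 := (irr_one_eq ψ).1
  rw [hdeg] at h1
  have hn : Module.finrank ℂ (Fin n → ℂ) = 1 := by
    have h2 : (ψ : P → ℂ) 1 = τ.character 1 := by rw [hψτ]
    rw [h2, Representation.char_one] at h1
    exact_mod_cast h1
  have h3 : τ (a * b * a⁻¹ * b⁻¹) = 1 := by
    rw [map_mul, map_mul, map_mul, end_comm_of_finrank_one hn (τ a) (τ b), mul_assoc (τ b),
      ← map_mul τ a, mul_inv_cancel, map_one, mul_one, ← map_mul, mul_inv_cancel, map_one]
  rw [(hker _).2 h3, h1]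
  simp

/-- Let `p` be a prime and `G` a finite group with a faithful irreducible complex character of degree `p` (so `G` is an irreducible linear group in `p` variables). If `p ^ 2` divides the order of `G`, then the centre of `G` is nontrivial. -/
theorem result {G : Type*} [Group G] [Finite G] (p : ℕ) (hp : p.Prime) (χ : Cfsg.IrrCharacter G) (hdeg : χ.1 1 = p) (hfaith : ∀ g : G, χ.1 g = χ.1 1 → g = 1) (hdiv : p ^ 2 ∣ Nat.card G) : Subgroup.center G ≠ ⊥ := by
  classical
  have := Fintype.ofFinite G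
  have := Fact.mk hp
  intro hZ
  obtain ⟨n, ρ, hρ, hχρ, hker⟩ := irr_exists_rep χ
  have hd : charDegree (χ : G → ℂ) = p := by
    have h1 := (irr_one_eq χ).1
    have h2 : (χ : G → ℂ) 1 = (p : ℂ) := hdeg
    rw [h2] at h1
    exact_mod_cast h1.symm
  have hn : Module.finrank ℂ (Fin n → ℂ) = p := by
    have h2 : (χ : G → ℂ) 1 = ρ.character 1 := by rw [hχρ]
    have h3 : (χ : G → ℂ) 1 = (p : ℂ) := hdeg
    rw [h2, Representation.char_one] at h3
    exact_mod_cast h3
  -- injectivity
  have hinj : ∀ a b : G, ρ a = ρ b → a = b := by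
    intro a b hab
    have h1 : ρ (a * b⁻¹) = 1 := by
      rw [map_mul, hab, ← map_mul, mul_inv_cancel, map_one]
    have h2 := hfaith _ ((hker _).2 h1)
    exact mul_inv_eq_one.1 h2
  -- scalar elements are central, hence trivial
  have hscal : ∀ z : G, (∃ ω : ℂ, ρ z = ω • (LinearMap.id : (Fin n → ℂ) →ₗ[ℂ] (Fin n → ℂ))) → z = 1 := by
    intro z ⟨ω, hω⟩
    have hz : z ∈ Subgroup.center G := by
      rw [Subgroup.mem_center_iff]
      intro g
      apply hinj
      rw [map_mul, map_mul, hω]
      apply LinearMap.ext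
      intro v
      simp
    rw [hZ, Subgroup.mem_bot] at hz
    exact hz
  let P : Sylow p G := default
  set Q : Subgroup G := (P : Subgroup G) with hQ
  -- central elements of P are zeros of χ
  have hzero : ∀ z : G, z ∈ Q → (∀ x ∈ Q, x * z = z * x) → z ≠ 1 →
      (χ : G → ℂ) z = 0 := by
    intro z hzP hzc hz1
    have hle : Q ≤ Subgroup.centralizer ({z} : Set G) := by
      intro x hx
      rw [Subgroup.mem_centralizer_iff]
      intro y hy
      rw [Set.mem_singleton_iff] at hy
      subst hy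
      exact (hzc x hx).symm
    have hcop : Nat.Coprime (Module.finrank ℂ (Fin n → ℂ)) (Subgroup.centralizer ({z} : Set G)).index := by
      rw [hn]
      apply (Nat.Prime.coprime_iff_not_dvd hp).2
      intro hdvd
      exact Sylow.not_dvd_index P (hdvd.trans (Subgroup.index_dvd_of_le hle))
    rcases Cfsg.Agent.S0142.result ρ z hcop with h0 | hnorm
    · rw [← hχρ]; exact h0
    · exact absurd (hscal z ((Cfsg.Agent.Helper3.norm_char_eq_iff ρ z).1 hnorm)) hz1
  -- order of P
  have hPcard : Nat.card Q = p ^ (Nat.card G).factorization p := Sylow.card_eq_multiplicity P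
  have hk2 : 2 ≤ (Nat.card G).factorization p :=
    (hp.pow_dvd_iff_le_factorization Nat.card_pos.ne').1 hdiv
  have hp2P : p ^ 2 ∣ Nat.card Q := by rw [hPcard]; exact pow_dvd_pow p hk2
  -- decomposition of the restriction
  obtain ⟨m, hexp, -⟩ := res_expansion χ Q
  have hdsum : p = ∑ ψ : IrrCharacter Q, m ψ * charDegree (ψ : Q → ℂ) := by
    have h1 := hexp 1
    rw [Subgroup.coe_one] at h1
    have h3 : (χ : G → ℂ) 1 = (p : ℂ) := hdeg
    rw [h3] at h1
    have h2 : ((p : ℕ) : ℂ) = ((∑ ψ : IrrCharacter Q,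
        m ψ * charDegree (ψ : Q → ℂ) : ℕ) : ℂ) := by
      rw [h1]
      push_cast
      apply Finset.sum_congr rfl
      intro ψ _
      rw [(irr_one_eq ψ).1]
    exact_mod_cast h2
  have hPnt : Nontrivial Q := by
    rw [← Finite.one_lt_card_iff_nontrivial]
    have : p ^ 2 ≤ Nat.card Q := Nat.le_of_dvd Nat.card_pos hp2P
    have h4 : 1 < p ^ 2 := Nat.one_lt_pow (by norm_num) hp.one_lt
    omega
  by_cases hA : ∃ ψ : IrrCharacter Q, m ψ ≠ 0 ∧
      charDegree (ψ : Q → ℂ) ≠ 1
  · -- the restriction is irreducible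
    obtain ⟨ψ, hmψ, hψ1⟩ := hA
    have hdvd : charDegree (ψ : Q → ℂ) ∣ p ^ (Nat.card G).factorization p := by
      rw [← hPcard]; exact irr_degree_dvd_card ψ
    obtain ⟨j, -, hj⟩ := (Nat.dvd_prime_pow hp).1 hdvd
    have hj0 : j ≠ 0 := by
      rintro rfl
      exact hψ1 (by rw [hj, pow_zero])
    have hple : p ≤ charDegree (ψ : Q → ℂ) := by
      rw [hj]
      calc p = p ^ 1 := (pow_one p).symm
        _ ≤ p ^ j := Nat.pow_le_pow_right hp.pos (Nat.one_le_iff_ne_zero.2 hj0)
    -- the sum has only one term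
    have hsplit := Finset.add_sum_erase Finset.univ
      (fun ψ : IrrCharacter Q => m ψ * charDegree (ψ : Q → ℂ))
      (Finset.mem_univ ψ)
    rw [← hdsum] at hsplit
    have hm1 : 1 ≤ m ψ := Nat.one_le_iff_ne_zero.2 hmψ
    have hterm : p ≤ m ψ * charDegree (ψ : Q → ℂ) :=
      hple.trans (Nat.le_mul_of_pos_left _ hm1)
    have hrest : ∑ φ ∈ Finset.univ.erase ψ, m φ * charDegree (φ : Q → ℂ) = 0 := by
      omega
    have hterm' : m ψ * charDegree (ψ : Q → ℂ) = p := by omega
    have hmψ1 : m ψ = 1 := by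
      by_contra hne
      have h2 : 2 ≤ m ψ := by omega
      have : 2 * p ≤ m ψ * charDegree (ψ : Q → ℂ) := Nat.mul_le_mul h2 hple
      have := hp.pos
      omega
    have hother : ∀ φ : IrrCharacter Q, φ ≠ ψ → m φ = 0 := by
      intro φ hφ
      have h1 := (Finset.sum_eq_zero_iff.1 hrest) φ (Finset.mem_erase.2 ⟨hφ, Finset.mem_univ _⟩)
      rcases Nat.mul_eq_zero.1 h1 with h | h
      · exact h
      · exact absurd h (irr_one_eq φ).2.ne'
    have hres : ∀ c : Q, (χ : G → ℂ) c = (ψ : Q → ℂ) c := by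
      intro c
      rw [hexp c, Finset.sum_eq_single ψ]
      · rw [hmψ1]; simp
      · intro φ _ hφ
        rw [hother φ hφ]; simp
      · intro h; exact absurd (Finset.mem_univ _) h
    -- a nontrivial central element of P
    have hZnt : Nontrivial (Subgroup.center Q) :=
      IsPGroup.center_nontrivial (show IsPGroup p Q from P.isPGroup')
    obtain ⟨z, hz⟩ := exists_ne (1 : Subgroup.center Q)
    have hz1 : ((z : Q) : G) ≠ 1 := by
      intro h
      apply hz
      apply Subtype.ext
      apply Subtype.ext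
      simpa using h
    have hzc : ∀ x ∈ Q, x * ((z : Q) : G) = ((z : Q) : G) * x := by
      intro x hx
      have := (Subgroup.mem_center_iff.1 z.2) ⟨x, hx⟩
      exact congrArg Subtype.val this
    have h0 := hzero _ (z : Q).2 hzc hz1
    rw [hres (z : Q)] at h0
    have h5 := irr_normSq_central ψ (z : Q) z.2
    rw [h0, map_zero] at h5
    have h6 : (0 : ℝ) < ((charDegree (ψ : Q → ℂ) : ℕ) : ℝ) ^ 2 := by
      have := (irr_one_eq ψ).2
      positivity
    linarith
  · -- all constituents are linear, so P is abelian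
    push Not at hA
    have hlin : ∀ ψ : IrrCharacter Q, m ψ ≠ 0 → charDegree (ψ : Q → ℂ) = 1 := hA
    have hab : ∀ a b : Q, a * b = b * a := by
      intro a b
      have h1 : (χ : G → ℂ) ((a * b * a⁻¹ * b⁻¹ : Q) : G) = (χ : G → ℂ) 1 := by
        rw [hexp]
        have h2 := hexp 1
        rw [Subgroup.coe_one] at h2
        rw [h2]
        apply Finset.sum_congr rfl
        intro ψ _
        by_cases hm0 : m ψ = 0
        · rw [hm0]; simp
        · rw [linear_commutator ψ (hlin ψ hm0), (irr_one_eq ψ).1, hlin ψ hm0]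
          simp
      have h3 := hfaith _ h1
      have h4 : a * b * a⁻¹ * b⁻¹ = 1 := Subtype.ext h3
      calc a * b = (a * b * a⁻¹ * b⁻¹) * (b * a) := by group
        _ = b * a := by rw [h4, one_mul]
    have hvan : ∀ c : Q, c ≠ 1 → (χ : G → ℂ) c = 0 := by
      intro c hc
      apply hzero c c.2
      · intro x hx
        exact congrArg Subtype.val (hab ⟨x, hx⟩ c)
      · intro h; exact hc (Subtype.ext h)
    -- multiplicity of the trivial character
    have := Fintype.ofFinite Q
    obtain ⟨k, hk⟩ := pair_res_nat χ Q (trivChar Q)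
    unfold pair at hk
    simp only [trivChar_apply, mul_one] at hk
    rw [Finset.sum_eq_single (1 : Q)] at hk
    · rw [Subgroup.coe_one] at hk
      have h3 : (χ : G → ℂ) 1 = (p : ℂ) := hdeg
      rw [h3] at hk
      have hP0 : (Nat.card Q : ℂ) ≠ 0 := card_ne_zero_complex
      have h4 : ((p : ℕ) : ℂ) = ((k * Nat.card Q : ℕ) : ℂ) := by
        push_cast
        rw [← hk]
        field_simp
      have h5 : p = k * Nat.card Q := by exact_mod_cast h4
      have h6 : p ^ 2 ∣ p := hp2P.trans ⟨k, by rw [h5]; ring⟩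
      have h7 := Nat.le_of_dvd hp.pos h6
      have h8 : p < p ^ 2 := by
        calc p = p ^ 1 := (pow_one p).symm
          _ < p ^ 2 := Nat.pow_lt_pow_right hp.one_lt (by norm_num)
      omega
    · intro c _ hc
      exact hvan c hc
    · intro h; exact absurd (Finset.mem_univ _) h

end Cfsg.Agent.S3968
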