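import Cfsg.Statements.S3970
import Cfsg.Agent.Lib.Helper66.AbelianAut
import Mathlib.GroupTheory.Nilpotent
import Mathlib.GroupTheory.SpecificGroups.Cyclic

set_option autoImplicit false
open Cfsg

namespace Cfsg.Agent.S3970

open Subgroup

theorem rank_le_one_of_card_le {A : Type*} [Group A] [Finite A] (p k : ℕ) (hp : p.Prime)
    (hk : k ≤ 1) (hcard : Nat.card A = p ^ k) : Group.rank A ≤ 1 := by
  have : Fact p.Prime := ⟨hp⟩
  rcases Nat.le_one_iff_eq_zero_or_eq_one.mp hk with rfl | rfl
  · have : Subsingleton A := (Nat.card_eq_one_iff_unique.mp (by simpa using hcard)).1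
    rw [Group.rank_eq_zero A]
    exact Nat.zero_le _
  · have hcyc : IsCyclic A := isCyclic_of_prime_card (p := p) (by simpa using hcard)
    obtain ⟨g, hg⟩ := isCyclic_iff_exists_zpowers_eq_top.mp hcyc
    have := Group.rank_le (G := A) (S := {g}) (by
      rw [Finset.coe_singleton, ← Subgroup.zpowers_eq_closure]; exact hg)
    simpa using this

theorem sq_sub_one_eq (m : ℕ) (hm : 1 ≤ m) : m ^ 2 - 1 = (m - 1) * (m + 1) := by
  obtain ⟨t, rfl⟩ : ∃ t, m = t + 1 := ⟨m - 1, by omega⟩
  simp only [Nat.add_sub_cancel]
  ring_nf
  omega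

theorem aux.{u} : ∀ (n : ℕ) (G : Type u) [Group G] [Finite G], Nat.card G = n →
    (∀ p : ℕ, p.Prime → p ∣ Nat.card G → (∃ q : ℕ, q.Prime ∧ q ∣ Nat.card G ∧ p < q) →
      ∀ P : Sylow p G, IsMulCommutative (P : Subgroup G) ∧ Group.rank (P : Subgroup G) ≤ 2) →
    ¬ 12 ∣ Nat.card G → Group.IsSolvable G := by
  intro n
  induction n using Nat.strong_induction_on with
  | _ n ih =>
  intro G _ _ hn h h12
  by_cases h1 : Nat.card G = 1
  · have : Subsingleton G := (Nat.card_eq_one_iff_unique.mp h1).1
    exact Group.isSolvable_of_comm (fun a b => Subsingleton.elim _ _)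
  set p := (Nat.card G).minFac with hpdef
  have hp : p.Prime := Nat.minFac_prime h1
  have hpG : p ∣ Nat.card G := Nat.minFac_dvd _
  have : Fact p.Prime := ⟨hp⟩
  by_cases hbig : ∃ q : ℕ, q.Prime ∧ q ∣ Nat.card G ∧ p < q
  swap
  · -- G is a p-group
    have hPG : IsPGroup p G := by
      have hfac : ∀ q : ℕ, q.Prime → q ∣ Nat.card G → q = p := by
        intro q hq hqG
        by_contra hne
        apply hbig
        refine ⟨q, hq, hqG, lt_of_le_of_ne (Nat.minFac_le_of_dvd hq.two_le hqG) ?_⟩
        exact fun h' => hne h'.symm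
      have := (Nat.eq_prime_pow_of_unique_prime_dvd (Nat.card_pos.ne') (fun {d} hd hdG => hfac d hd hdG))
      exact IsPGroup.of_card this
    have := hPG.isNilpotent
    exact IsNilpotent.to_isSolvable
  obtain ⟨P⟩ : Nonempty (Sylow p G) := inferInstance
  obtain ⟨hab, hrank⟩ := h p hp hpG hbig P
  have hNC : normalizer ((P : Subgroup G) : Set G) ≤ centralizer ((P : Subgroup G) : Set G) := by
    by_contra hcon
    obtain ⟨q, hq, hqp, hqG, i, hi1, hi2, hqi⟩ :=
      Cfsg.Agent.Helper66.exists_prime_dvd_of_not_normalizer_le_centralizer p P hab hcon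
    have hpq : p < q := lt_of_le_of_ne (Nat.minFac_le_of_dvd hq.two_le hqG) hqp.symm
    have hp2le := hp.two_le
    have hi : i = 1 ∨ i = 2 := by omega
    rcases hi with rfl | rfl
    · rw [pow_one] at hqi
      have : q ≤ p - 1 := Nat.le_of_dvd (by omega) hqi
      omega
    · have hfac : p ^ 2 - 1 = (p - 1) * (p + 1) := sq_sub_one_eq p (by omega)
      rw [hfac] at hqi
      rcases (Nat.Prime.dvd_mul hq).mp hqi with h' | h'
      · have : q ≤ p - 1 := Nat.le_of_dvd (by omega) h'
        omega
      · have hq1 : q ≤ p + 1 := Nat.le_of_dvd (by omega) h'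
        have hqe : q = p + 1 := by omega
        have hp2 : p = 2 := by
          rcases hp.eq_two_or_odd' with h2 | hodd
          · exact h2
          · have hev : Even q := by rw [hqe]; exact hodd.add_one
            have : q = 2 := (Nat.Prime.even_iff hq).mp hev
            omega
        have hq3 : q = 3 := by omega
        obtain ⟨k, hk⟩ := P.isPGroup'.exists_card_eq
        have hk2 : 2 ≤ k := by
          by_contra hk2
          have hk1 : k ≤ 1 := by omega
          have := rank_le_one_of_card_le (A := (P : Subgroup G)) p k hp hk1 hk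
          omega
        have h4 : 4 ∣ Nat.card G := by
          have : 4 ∣ Nat.card (P : Subgroup G) := by
            rw [hk, hp2]
            exact pow_dvd_pow 2 hk2
          exact this.trans (card_subgroup_dvd_card _)
        have h3 : 3 ∣ Nat.card G := hq3 ▸ hqG
        exact h12 (Nat.Coprime.mul_dvd_of_dvd_of_dvd (by norm_num) h4 h3)
  -- normal p-complement
  have hcomp := MonoidHom.ker_transferSylow_isComplement' P hNC
  have hpK := MonoidHom.not_dvd_card_ker_transferSylow P hNC
  set K := (MonoidHom.transferSylow P hNC).ker with hK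
  have hcard : Nat.card K * Nat.card (P : Subgroup G) = Nat.card G := hcomp.card_mul_card
  obtain ⟨k, hk⟩ := P.isPGroup'.exists_card_eq
  have hPcard : 1 < Nat.card (P : Subgroup G) := by
    have hpP : p ∣ Nat.card (P : Subgroup G) := P.dvd_card_of_dvd_card hpG
    have hpos : 0 < Nat.card (P : Subgroup G) := Nat.card_pos
    have := Nat.le_of_dvd hpos hpP
    have := hp.two_le
    omega
  have hKpos : 0 < Nat.card K := Nat.card_pos
  have hKlt : Nat.card K < n := by
    rw [← hn, ← hcard]
    nlinarith
  have hKsol : Group.IsSolvable K := by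
    apply ih (Nat.card K) hKlt K rfl
    · intro p' hp' hp'K hbig' Q
      have : Fact p'.Prime := ⟨hp'⟩
      have hKG : Nat.card K ∣ Nat.card G := card_subgroup_dvd_card K
      have hp'G : p' ∣ Nat.card G := hp'K.trans hKG
      have hbigG : ∃ q : ℕ, q.Prime ∧ q ∣ Nat.card G ∧ p' < q := by
        obtain ⟨q, hq, hqK, hlt⟩ := hbig'
        exact ⟨q, hq, hqK.trans hKG, hlt⟩
      have hp'p : p' ≠ p := by
        rintro rfl
        exact hpK hp'K
      set Q' : Subgroup G := (Q : Subgroup K).map K.subtype with hQ'
      let e : (Q : Subgroup K) ≃* Q' := Subgroup.equivMapOfInjective _ K.subtype K.subtype_injective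
      have hcardQ' : Nat.card Q' = p' ^ (Nat.card G).factorization p' := by
        rw [← Nat.card_congr e.toEquiv, Sylow.card_eq_multiplicity, ← hcard,
          Nat.factorization_mul hKpos.ne' (Nat.card_pos.ne'), hk]
        congr 1
        simp only [Finsupp.coe_add, Pi.add_apply]
        have hz : (p ^ k).factorization p' = 0 := by
          apply Nat.factorization_eq_zero_of_not_dvd
          intro hdvd
          exact hp'p ((Nat.prime_dvd_prime_iff_eq hp' hp).mp (hp'.dvd_of_dvd_pow hdvd))
        rw [hz, add_zero]
      obtain ⟨hab', hrank'⟩ := h p' hp' hp'G hbigG (Sylow.ofCard Q' hcardQ')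
      rw [Sylow.coe_ofCard] at hab' hrank'
      constructor
      · constructor
        constructor
        intro a b
        apply e.injective
        rw [map_mul, map_mul]
        exact hab'.is_comm.comm _ _
      · rw [Group.rank_congr e]
        exact hrank'
    · intro h
      exact h12 (h.trans (card_subgroup_dvd_card K))
  have hPsol : Group.IsSolvable (P : Subgroup G) := Group.isSolvable_of_comm (fun a b => hab.is_comm.comm a b)
  exact Group.isSolvable_of_ker_le_range K.subtype (MonoidHom.transferSylow P hNC)
    (by rw [Subgroup.range_subtype])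

/-- Let `G` be a finite group such that for every prime `p` dividing its order, other than the largest such prime, the Sylow `p`-subgroups are abelian and generated by at most two elements, and suppose `12` does not divide the order of `G`. Then `G` is solvable. In particular a group of cube-free order not divisible by `12` is solvable. -/
theorem result {G : Type*} [Group G] [Finite G] (h : ∀ p : ℕ, p.Prime → p ∣ Nat.card G → (∃ q : ℕ, q.Prime ∧ q ∣ Nat.card G ∧ p < q) → ∀ P : Sylow p G, IsMulCommutative (P : Subgroup G) ∧ Group.rank (P : Subgroup G) ≤ 2) (h12 : ¬ 12 ∣ Nat.card G) : Group.IsSolvable G := by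
  exact aux (Nat.card G) G rfl h h12

end Cfsg.Agent.S3970
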