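import Cfsg.Statements.S3971
import Cfsg.Agent.S0071
import Cfsg.Agent.S0014
import Cfsg.Agent.S4208

set_option autoImplicit false
open Cfsg

namespace Cfsg.Agent.S3971

/-- a `2`-group generated by two elements has an automorphism group of order dividing
`2 ^ e * 6` -/
theorem card_mulAut_dvd {Q : Type*} [Group Q] [Finite Q] (hQ : IsPGroup 2 Q) (b y : Q)
    (hgen : ∀ q : Q, q ∈ Subgroup.closure ({b, y} : Set Q)) :
    ∃ e : ℕ, Nat.card (MulAut Q) ∣ 2 ^ e * 6 := by
  classical
  have : Fact (Nat.Prime 2) := ⟨Nat.prime_two⟩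
  obtain ⟨n, hn⟩ := hQ.exists_card_eq
  obtain ⟨r, hr⟩ : ∃ r, (frattini Q).index = 2 ^ r := by
    have h1 : (frattini Q).index ∣ 2 ^ n := hn ▸ Subgroup.index_dvd_card _
    obtain ⟨r, -, hr⟩ := (Nat.dvd_prime_pow Nat.prime_two).mp h1
    exact ⟨r, hr⟩
  have hr2 : r ≤ 2 := by
    have h1 := (Cfsg.Agent.S0014.result 2 r hQ hr).2 ({b, y} : Finset Q) (by
      rw [eq_top_iff]
      intro q _
      have := hgen q
      simpa using this)
    exact h1.trans Finset.card_le_two
  have h := Cfsg.Agent.S4208.result hn hr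
  refine ⟨r * (n - r), h.trans ?_⟩
  apply Nat.mul_dvd_mul_left
  interval_cases r <;> simp [Finset.prod_range_succ]

/-- A group of order 2^a n with n odd and prime to 3 containing an element of order 2^(a-1). -/
theorem result {G : Type*} [Group G] [Finite G] (a n : ℕ) (hG : Nat.card G = 2 ^ a * n) (hn : Odd n) (h3 : ¬ 3 ∣ n) (hx : ∃ x : G, orderOf x = 2 ^ (a - 1)) : ∃ N : Subgroup G, N.Normal ∧ Nat.card N = n := by
  have : Fact (Nat.Prime 2) := ⟨Nat.prime_two⟩
  rcases Nat.eq_zero_or_pos a with ha | ha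
  · subst ha
    refine ⟨⊤, inferInstance, ?_⟩
    rw [Subgroup.card_top, hG]
    simp
  obtain ⟨x, hx⟩ := hx
  have hxp : IsPGroup 2 (Subgroup.zpowers x) :=
    IsPGroup.of_card (n := a - 1) (by rw [Nat.card_zpowers, hx])
  obtain ⟨P, hAP⟩ := hxp.exists_le_sylow
  have hn0 : n ≠ 0 := by
    rintro rfl
    simp at hn
  have h2n : ¬ 2 ∣ n := by
    intro h
    exact (Nat.not_even_iff_odd.mpr hn) (even_iff_two_dvd.mpr h)
  have hPcard : Nat.card P = 2 ^ a := by
    rw [P.card_eq_multiplicity, hG]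
    congr 1
    rw [Nat.factorization_mul (by positivity) hn0, Nat.Prime.factorization_pow Nat.prime_two]
    simp [Nat.factorization_eq_zero_of_not_dvd h2n]
  -- `⟨x⟩` has index two in `P`
  have hAcard : Nat.card ((Subgroup.zpowers x).subgroupOf (P : Subgroup G)) = 2 ^ (a - 1) := by
    rw [Nat.card_congr (Subgroup.subgroupOfEquivOfLe hAP).toEquiv, Nat.card_zpowers, hx]
  have hidx : ((Subgroup.zpowers x).subgroupOf (P : Subgroup G)).index = 2 := by
    have h1 := Subgroup.card_mul_index ((Subgroup.zpowers x).subgroupOf (P : Subgroup G))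
    rw [hAcard, hPcard] at h1
    have h2 : 2 ^ a = 2 ^ (a - 1) * 2 := by
      rw [← pow_succ]
      congr 1
      omega
    rw [h2] at h1
    exact Nat.eq_of_mul_eq_mul_left (by positivity) h1
  -- the Frobenius criterion
  have key : ∀ Q : Subgroup G, Q ≤ (P : Subgroup G) →
      ∀ g ∈ Subgroup.normalizer (Q : Set G), Nat.Coprime (orderOf g) 2 →
        g ∈ Subgroup.centralizer (Q : Set G) := by
    intro Q hQP g hgN hg2
    -- generators
    have hcyc : IsCyclic ↥(Q ⊓ Subgroup.zpowers x) := Subgroup.isCyclic_of_le inf_le_right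
    obtain ⟨b, hb⟩ := (Subgroup.isCyclic_iff_exists_zpowers_eq_top _).mp hcyc
    have hbQ : b ∈ Q := by
      have : b ∈ Q ⊓ Subgroup.zpowers x := hb ▸ Subgroup.mem_zpowers b
      exact this.1
    have hgens : ∃ y ∈ Q, ∀ q ∈ Q, ∃ k : ℤ, q = b ^ k ∨ q = y * b ^ k := by
      by_cases hQA : Q ≤ Subgroup.zpowers x
      · refine ⟨b, hbQ, fun q hq => ?_⟩
        have : q ∈ Subgroup.zpowers b := by
          rw [hb]; exact ⟨hq, hQA hq⟩
        obtain ⟨k, hk⟩ := Subgroup.mem_zpowers_iff.mp this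
        exact ⟨k, Or.inl hk.symm⟩
      · obtain ⟨y, hyQ, hyA⟩ := SetLike.not_le_iff_exists.mp hQA
        refine ⟨y, hyQ, fun q hq => ?_⟩
        by_cases hqA : q ∈ Subgroup.zpowers x
        · have : q ∈ Subgroup.zpowers b := by
            rw [hb]; exact ⟨hq, hqA⟩
          obtain ⟨k, hk⟩ := Subgroup.mem_zpowers_iff.mp this
          exact ⟨k, Or.inl hk.symm⟩
        · have h1 := Subgroup.mul_mem_iff_of_index_two hidx
            (a := (⟨y, hQP hyQ⟩ : (P : Subgroup G))⁻¹) (b := ⟨q, hQP hq⟩)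
          have h2 : (⟨y, hQP hyQ⟩ : (P : Subgroup G))⁻¹ * ⟨q, hQP hq⟩ ∈
              (Subgroup.zpowers x).subgroupOf (P : Subgroup G) := by
            rw [h1, Subgroup.inv_mem_iff]
            exact ⟨fun h => absurd h hyA, fun h => absurd h hqA⟩
          have h3 : y⁻¹ * q ∈ Subgroup.zpowers x := h2
          have h4 : y⁻¹ * q ∈ Subgroup.zpowers b := by
            rw [hb]; exact ⟨Q.mul_mem (Q.inv_mem hyQ) hq, h3⟩
          obtain ⟨k, hk⟩ := Subgroup.mem_zpowers_iff.mp h4
          exact ⟨k, Or.inr (by rw [hk]; group)⟩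
    obtain ⟨y, hyQ, hgen⟩ := hgens
    have hQ2 : IsPGroup 2 ↥Q := P.2.to_le hQP
    obtain ⟨e, he⟩ := card_mulAut_dvd hQ2 (⟨b, hbQ⟩ : Q) ⟨y, hyQ⟩ (by
      intro q
      obtain ⟨k, hk | hk⟩ := hgen q q.2
      · have : q = (⟨b, hbQ⟩ : Q) ^ k := Subtype.ext (by simpa using hk)
        rw [this]
        exact Subgroup.zpow_mem _ (Subgroup.subset_closure (by simp)) k
      · have : q = (⟨y, hyQ⟩ : Q) * (⟨b, hbQ⟩ : Q) ^ k := Subtype.ext (by simpa using hk)
        rw [this]
        exact Subgroup.mul_mem _ (Subgroup.subset_closure (by simp))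
          (Subgroup.zpow_mem _ (Subgroup.subset_closure (by simp)) k))
    -- the automorphism induced by `g`
    have h1 : orderOf (Q.normalizerMonoidHom ⟨g, hgN⟩) ∣ orderOf g := by
      have := orderOf_map_dvd Q.normalizerMonoidHom (⟨g, hgN⟩ : Subgroup.normalizer (Q : Set G))
      rwa [Subgroup.orderOf_mk] at this
    have h2 : orderOf (Q.normalizerMonoidHom ⟨g, hgN⟩) ∣ 2 ^ e * 6 :=
      (orderOf_dvd_natCard _).trans he
    have h3g : ¬ 3 ∣ orderOf g := by
      intro h
      have h4 : 3 ∣ 2 ^ a * n := hG ▸ h.trans (orderOf_dvd_natCard g)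
      rcases (Nat.Prime.dvd_mul Nat.prime_three).mp h4 with h5 | h5
      · have := Nat.Prime.dvd_of_dvd_pow Nat.prime_three h5
        omega
      · exact h3 h5
    have hco : Nat.Coprime (orderOf g) (2 ^ e * 6) := by
      apply Nat.Coprime.mul_right
      · exact Nat.Coprime.pow_right _ hg2
      · have h6 : (6 : ℕ) = 2 * 3 := rfl
        rw [h6]
        apply Nat.Coprime.mul_right hg2
        exact ((Nat.Prime.coprime_iff_not_dvd Nat.prime_three).mpr h3g).symm
    have h7 : orderOf (Q.normalizerMonoidHom ⟨g, hgN⟩) = 1 :=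
      Nat.eq_one_of_dvd_coprimes hco h1 h2
    have h8 : (⟨g, hgN⟩ : Subgroup.normalizer (Q : Set G)) ∈ Q.normalizerMonoidHom.ker :=
      orderOf_eq_one_iff.mp h7
    rw [Subgroup.normalizerMonoidHom_ker] at h8
    exact h8
  obtain ⟨N, hNn, hNc⟩ := (Cfsg.Agent.S0071.result P).mpr key
  refine ⟨N, hNn, ?_⟩
  have h1 := hNc.card_mul_card
  rw [hPcard, hG, mul_comm] at h1
  exact Nat.eq_of_mul_eq_mul_left (by positivity) h1

end Cfsg.Agent.S3971
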