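import Cfsg.Statements.S3972
import Cfsg.Agent.Lib.Helper64.SchurRing2

set_option autoImplicit false
open Cfsg

namespace Cfsg.Agent.S3972

open Cfsg.Agent.Helper64.SchurRing
open scoped Pointwise

/-- Let `p` be a prime, `m ≥ 2`, and `G` a transitive but not doubly transitive permutation group on `p ^ m` points containing a permutation of order `p ^ m` (necessarily a full cycle). Then `G` is imprimitive, and the normal closure in `G` of the `p ^ (m - 1)`-th power of that permutation is an intransitive normal subgroup. -/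
theorem result {Ω : Type*} [Fintype Ω] [DecidableEq Ω] (p m : ℕ) (hp : p.Prime) (hm : 2 ≤ m) (hΩ : Fintype.card Ω = p ^ m) (G : Subgroup (Equiv.Perm Ω)) (htr : MulAction.IsPretransitive G Ω) (h2 : ¬ MulAction.IsMultiplyPretransitive G Ω 2) (g : G) (hg : orderOf g = p ^ m) : ¬ MulAction.IsPreprimitive G Ω ∧ ¬ MulAction.IsPretransitive (Subgroup.normalClosure ({g ^ (p ^ (m - 1))} : Set G)) Ω := by
  set z : ↥G := g ^ (p ^ (m - 1)) with hz
  set C : Subgroup ↥G := Subgroup.zpowers g with hC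
  have hz1 : z ≠ 1 := by
    intro h
    have h1 : orderOf g ∣ p ^ (m - 1) := orderOf_dvd_of_pow_eq_one h
    rw [hg, Nat.pow_dvd_pow_iff_le_right hp.one_lt] at h1
    omega
  -- a point moved by z
  obtain ⟨ω₀, hω₀⟩ : ∃ ω : Ω, z • ω ≠ ω := by
    by_contra hno
    push Not at hno
    apply hz1
    apply Subtype.ext
    ext ω
    exact hno ω
  -- the orbit map of C at ω₀ is injective
  have hstab : C ⊓ MulAction.stabilizer ↥G ω₀ = ⊥ := by
    by_contra hne
    have := pow_mem_of_ne_bot hp (by omega) hg (inf_le_left : C ⊓ MulAction.stabilizer ↥G ω₀ ≤ C) hne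
    exact hω₀ (MulAction.mem_stabilizer_iff.1 (Subgroup.mem_inf.1 this).2)
  have hinj : Function.Injective (fun c : ↥C => c • ω₀) := by
    intro c c' hcc
    have h1 : ((c'⁻¹ * c : ↥C) : ↥G) ∈ C ⊓ MulAction.stabilizer ↥G ω₀ := by
      refine Subgroup.mem_inf.2 ⟨(c'⁻¹ * c).2, ?_⟩
      rw [MulAction.mem_stabilizer_iff]
      change (c'⁻¹ * c) • ω₀ = ω₀
      rw [mul_smul, inv_smul_eq_iff]
      exact hcc
    rw [hstab, Subgroup.mem_bot] at h1
    have h2 : c'⁻¹ * c = 1 := Subtype.ext h1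
    exact (inv_mul_eq_one.1 h2).symm
  have hcardC : Nat.card ↥C = p ^ m := by rw [hC, Nat.card_zpowers, hg]
  have hcardΩ : Nat.card Ω = p ^ m := by rw [Nat.card_eq_fintype_card, hΩ]
  have hbij : Function.Bijective (fun c : ↥C => c • ω₀) :=
    hinj.bijective_of_nat_card_le (by rw [hcardC, hcardΩ])
  have hpd : p ∣ Nat.card Ω := by rw [hcardΩ]; exact dvd_pow_self p (by omega)
  have hlt : p < Nat.card Ω := by
    rw [hcardΩ]
    calc p = p ^ 1 := (pow_one p).symm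
      _ < p ^ m := Nat.pow_lt_pow_right hp.one_lt (by omega)
  have hnprim : ¬ MulAction.IsPreprimitive G Ω := fun hprim =>
    h2 (two_transitive_of_regular_cyclic C ω₀ hbij hprim p hp hpd hlt)
  refine ⟨hnprim, ?_⟩
  intro hNtr
  -- a nontrivial block
  obtain ⟨B, hB, hBnt⟩ : ∃ B : Set Ω, MulAction.IsBlock G B ∧ ¬ MulAction.IsTrivialBlock B := by
    by_contra hno
    push Not at hno
    exact hnprim { toIsPretransitive := htr, isTrivialBlock_of_isBlock := fun {B} hB => hno B hB }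
  have hBns : ¬ B.Subsingleton := fun h => hBnt (Or.inl h)
  have hBnu : B ≠ Set.univ := fun h => hBnt (Or.inr h)
  rw [Set.not_subsingleton_iff] at hBns
  -- z stabilizes every translate of B
  have hzB : ∀ γ : ↥G, z • (γ • B) = γ • B := by
    intro γ
    have hB' : MulAction.IsBlock G (γ • B) := hB.translate γ
    obtain ⟨a₁, ha₁, a₂, ha₂, ha12⟩ := hBns
    have hb₁ : γ • a₁ ∈ γ • B := Set.smul_mem_smul_set ha₁
    have hb₂ : γ • a₂ ∈ γ • B := Set.smul_mem_smul_set ha₂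
    have hb12 : γ • a₁ ≠ γ • a₂ := fun h => ha12 (MulAction.injective γ h)
    obtain ⟨c₁, hc₁⟩ := hbij.2 (γ • a₁)
    obtain ⟨c₂, hc₂⟩ := hbij.2 (γ • a₂)
    have hc₁' : (c₁ : ↥G) • ω₀ = γ • a₁ := hc₁
    have hc₂' : (c₂ : ↥G) • ω₀ = γ • a₂ := hc₂
    set c : ↥G := ((c₂ * c₁⁻¹ : ↥C) : ↥G) with hc
    have hcb : c • (γ • a₁) = γ • a₂ := by
      rw [hc, ← hc₁', Subgroup.coe_mul, Subgroup.coe_inv, mul_smul, inv_smul_smul, hc₂']
    have hc1 : c ≠ 1 := by
      intro h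
      rw [h, one_smul] at hcb
      exact hb12 hcb
    have hcM : c ∈ C ⊓ MulAction.stabilizer ↥G (γ • B) := by
      refine Subgroup.mem_inf.2 ⟨(c₂ * c₁⁻¹).2, ?_⟩
      rw [MulAction.mem_stabilizer_iff]
      exact hB'.smul_eq_of_mem hb₁ (hcb ▸ hb₂)
    have hMne : C ⊓ MulAction.stabilizer ↥G (γ • B) ≠ ⊥ := by
      intro h
      rw [h, Subgroup.mem_bot] at hcM
      exact hc1 hcM
    have := pow_mem_of_ne_bot hp (by omega) hg
      (inf_le_left : C ⊓ MulAction.stabilizer ↥G (γ • B) ≤ C) hMne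
    exact MulAction.mem_stabilizer_iff.1 (Subgroup.mem_inf.1 this).2
  -- the kernel of the action on the block system
  let 𝒦 : Subgroup ↥G := ⨅ γ : ↥G, MulAction.stabilizer ↥G (γ • B)
  have h𝒦mem : ∀ x : ↥G, x ∈ 𝒦 ↔ ∀ γ : ↥G, x • (γ • B) = γ • B := by
    intro x
    simp only [𝒦, Subgroup.mem_iInf, MulAction.mem_stabilizer_iff]
  have h𝒦n : 𝒦.Normal := by
    constructor
    intro x hx y
    rw [h𝒦mem] at hx ⊢
    intro γ
    have h1 := hx (y⁻¹ * γ)
    calc (y * x * y⁻¹) • (γ • B) = y • (x • ((y⁻¹ * γ) • B)) := by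
          rw [mul_smul, mul_smul, mul_smul]
      _ = y • ((y⁻¹ * γ) • B) := by rw [h1]
      _ = γ • B := by rw [mul_smul, smul_inv_smul]
  have hz𝒦 : z ∈ 𝒦 := (h𝒦mem z).2 hzB
  have hN𝒦 : Subgroup.normalClosure ({z} : Set ↥G) ≤ 𝒦 :=
    Subgroup.normalClosure_le_normal (by simpa using hz𝒦)
  apply hBnu
  obtain ⟨b, hb, -⟩ := hBns
  ext ω
  simp only [Set.mem_univ, iff_true]
  obtain ⟨n, hn⟩ := hNtr.exists_smul_eq b ω
  have hn𝒦 : (n : ↥G) ∈ 𝒦 := hN𝒦 n.2
  have h3 := (h𝒦mem _).1 hn𝒦 1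
  rw [one_smul] at h3
  have h4 : (n : ↥G) • b ∈ (n : ↥G) • B := Set.smul_mem_smul_set hb
  rw [h3] at h4
  have h5 : (n : ↥G) • b = ω := hn
  rw [← h5]
  exact h4

end Cfsg.Agent.S3972
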