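import Mathlib
import Cfsg.Statements.S3973
import Cfsg.Agent.Lib.Helper65.RankMult2
-- import your own Cfsg.Agent.* helpers here

set_option autoImplicit false
open Cfsg

namespace Cfsg.Agent.S3973

open Cfsg.Agent.Helper65

/-- If a finite group is presented by `n` generators and a finite set of `r` relators, then its Schur multiplier can be generated by `r - n` elements. In particular a finite group with a presentation having as many relators as generators has trivial Schur multiplier. -/
theorem result (n : ℕ) (rels : Finset (FreeGroup (Fin n))) [Finite (PresentedGroup (rels : Set (FreeGroup (Fin n))))] {A : Type*} [CommGroup A] [Finite A] (hA : Cfsg.HasSchurMultiplier (PresentedGroup (rels : Set (FreeGroup (Fin n)))) A) : Group.rank A ≤ rels.card - n := by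
  classical
  let p : FreeGroup (Fin n) →* PresentedGroup (rels : Set (FreeGroup (Fin n))) :=
    PresentedGroup.mk _
  have hp : Function.Surjective p := PresentedGroup.mk_surjective _
  have hker : p.ker = Subgroup.normalClosure (rels : Set (FreeGroup (Fin n))) := by
    ext x
    rw [MonoidHom.mem_ker]
    exact PresentedGroup.mk_eq_one_iff
  obtain ⟨S, hS1, hS2⟩ := exists_generators_mult p rels hker
  obtain ⟨eA⟩ := mult_equiv_of_hasSchurMultiplier hA
  obtain ⟨φ, hφ⟩ := exists_freeGroup_lift p
    (fp (PresentedGroup (rels : Set (FreeGroup (Fin n))))) (fp_surj _)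
  obtain ⟨ψ, hψ⟩ := exists_freeGroup_lift
    (fp (PresentedGroup (rels : Set (FreeGroup (Fin n))))) p hp
  let e : mult p ≃* A := (multG_equiv p (fp _) φ ψ hφ hψ).trans eA
  have hS' : Subgroup.closure ((S.image e : Finset A) : Set A) = ⊤ := by
    rw [Finset.coe_image]
    have := MonoidHom.map_closure e.toMonoidHom (S : Set (mult p))
    rw [hS2, Subgroup.map_top_of_surjective _ e.surjective] at this
    exact this.symm
  calc Group.rank A ≤ (S.image e).card := Group.rank_le hS'
    _ ≤ S.card := Finset.card_image_le
    _ ≤ rels.card - n := hS1

end Cfsg.Agent.S3973
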