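import Mathlib
import Cfsg.Statements.S3974
import Cfsg.Agent.Lib.Helper65.CoverUniq
import Cfsg.Agent.Lib.Helper65.CoverUniq6
-- import your own Cfsg.Agent.* helpers here

set_option autoImplicit false
universe u v
open Cfsg

namespace Cfsg.Agent.S3974

open Cfsg.Agent.Helper65

/-- the non-coprime direction: two covers which are not isomorphic over `Q` -/
theorem exists_two_covers {Q : Type u} [Group Q] [Finite Q] {A : Type v} [CommGroup A]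
    (eA : mult (fp Q) ≃* A) (ℓ : ℕ) (hℓ : ℓ.Prime) (hQ : ℓ ∣ Nat.card (Abelianization Q))
    (hAd : ℓ ∣ Nat.card A) :
    ∃ (Γ₁ Γ₂ : Type u) (_ : Group Γ₁) (_ : Finite Γ₁) (_ : Group Γ₂) (_ : Finite Γ₂)
      (σ₁ : Γ₁ →* Q) (σ₂ : Γ₂ →* Q), Cfsg.IsStemExtension σ₁ ∧ Cfsg.IsStemExtension σ₂ ∧
      Nonempty (σ₁.ker ≃* A) ∧ Nonempty (σ₂.ker ≃* A) ∧
      ¬ ∃ e : Γ₁ ≃* Γ₂, σ₂.comp e.toMonoidHom = σ₁ := by
  have hp := fp_surj Q
  have hMfin : Finite (mult (fp Q)) := mult_finite (fp Q)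
  have hAfin : Finite A := Finite.of_equiv _ eA.toEquiv
  obtain ⟨N, lam, q₀, hN1, hℓN, hlam, hq₀N⟩ := exists_cyclic_factor ℓ hℓ hQ
  have hN0 : NeZero N := ⟨by omega⟩
  have hNF : Fact (1 < N) := ⟨hN1⟩
  obtain ⟨a₁, ha₁⟩ := exists_not_pow ℓ hℓ hAd
  have ha₁N : ∀ y : A, y ^ N ≠ a₁ := by
    intro y hy
    obtain ⟨t, rfl⟩ := hℓN
    apply ha₁ (y ^ t)
    rw [← pow_mul, mul_comm]; exact hy
  obtain ⟨S₁, -, hinf, hsup⟩ := exists_complement_mult (fp Q) (cProj (fp Q)).ker le_rfl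
    (sup_eq_right.mpr (mult_le_ker (fp Q)))
  have hS₁ : S₁ ≤ (cProj (fp Q)).ker := le_sup_left.trans_eq hsup
  have hn₁ : S₁.Normal := normal_of_le_ker (fp Q) S₁ hS₁
  have hS₂ := twist_le (fp Q) N lam a₁ eA S₁
  have hn₂ : (twist (fp Q) N lam a₁ eA S₁).Normal := normal_of_le_ker (fp Q) _ hS₂
  have hinf₂ := twist_inf (fp Q) N lam a₁ eA S₁ hinf
  have hsup₂ := twist_sup (fp Q) N lam a₁ eA S₁ hsup
  refine ⟨CE (fp Q) ⧸ S₁, CE (fp Q) ⧸ twist (fp Q) N lam a₁ eA S₁, inferInstance,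
    cover_finite (fp Q) hp S₁ hS₁ hinf hsup, inferInstance,
    cover_finite (fp Q) hp _ hS₂ hinf₂ hsup₂, coverMap (fp Q) S₁ hS₁, coverMap (fp Q) _ hS₂,
    coverMap_stem (fp Q) hp S₁ hS₁ hsup, coverMap_stem (fp Q) hp _ hS₂ hsup₂,
    ⟨(coverKerEquiv (fp Q) S₁ hS₁ hinf hsup).symm.trans eA⟩,
    ⟨(coverKerEquiv (fp Q) _ hS₂ hinf₂ hsup₂).symm.trans eA⟩, ?_⟩
  rintro ⟨e, he⟩
  refine no_hom_over (fp Q) N lam a₁ eA S₁ hS₁ hinf hsup hp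
    (QuotientGroup.mk (FreeGroup.of q₀)) ?_ ?_ ha₁N e.toMonoidHom he
  · rw [phi_mk]
    simp only [phi0, FreeGroup.lift_apply_of]
    have : fp Q (FreeGroup.of q₀) = q₀ := by simp [fp]
    rw [this, hlam, toAdd_ofAdd, ZMod.val_one]
    rfl
  · rw [cProj_mk]
    have : fp Q (FreeGroup.of q₀) = q₀ := by simp [fp]
    rw [this]
    exact hq₀N

/-- Let `Q` be a finite group with Schur multiplier `A`. Any two Schur covering groups of `Q` (finite stem extensions `σ₁ : Γ₁ →* Q`, `σ₂ : Γ₂ →* Q` with kernels isomorphic to `A`, `Γ₁, Γ₂` in the universe of `Q`) are isomorphic over `Q` — there is a group isomorphism `e : Γ₁ ≃* Γ₂` with `σ₂ ∘ e = σ₁` — if and only if the order of the commutator quotient of `Q` is coprime to the order of `A`. In particular a finite perfect group has a unique Schur covering group up to isomorphism over it. -/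
theorem result {Q : Type u} [Group Q] [Finite Q] {A : Type v} [CommGroup A] (hA : Cfsg.HasSchurMultiplier Q A) : (∀ (Γ₁ Γ₂ : Type u) [Group Γ₁] [Finite Γ₁] [Group Γ₂] [Finite Γ₂] (σ₁ : Γ₁ →* Q) (σ₂ : Γ₂ →* Q), Cfsg.IsStemExtension σ₁ → Cfsg.IsStemExtension σ₂ → Nonempty (σ₁.ker ≃* A) → Nonempty (σ₂.ker ≃* A) → ∃ e : Γ₁ ≃* Γ₂, σ₂.comp e.toMonoidHom = σ₁) ↔ Nat.Coprime (Nat.card (Abelianization Q)) (Nat.card A) := by
  obtain ⟨eA⟩ := mult_equiv_of_hasSchurMultiplier hA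
  constructor
  · intro H
    by_contra hnc
    obtain ⟨ℓ, hℓ, hQ, hAd⟩ := Nat.Prime.not_coprime_iff_dvd.mp hnc
    obtain ⟨Γ₁, Γ₂, i1, i2, i3, i4, σ₁, σ₂, h₁, h₂, k₁, k₂, hne⟩ :=
      exists_two_covers eA ℓ hℓ hQ hAd
    exact hne (H Γ₁ Γ₂ σ₁ σ₂ h₁ h₂ k₁ k₂)
  · intro hcop Γ₁ Γ₂ _ _ _ _ σ₁ σ₂ h₁ h₂ k₁ k₂
    obtain ⟨k₁⟩ := k₁
    obtain ⟨k₂⟩ := k₂
    exact cover_unique_of_coprime σ₁ σ₂ h₁ h₂ (Nat.card A) (Nat.card_congr k₁.toEquiv)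
      (Nat.card_congr k₂.toEquiv) (Nat.card_congr eA.toEquiv) hcop

end Cfsg.Agent.S3974
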