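import Cfsg.Statements.S3976
import Cfsg.Agent.Lib.Helper66.Wielandt
import Mathlib.GroupTheory.GroupAction.ConjAct
import Mathlib.GroupTheory.PGroup

set_option autoImplicit false
open Cfsg

namespace Cfsg.Agent.S3976

open scoped Pointwise

/-- subgroups of order `k`, with the conjugation action -/
def subgroupsOfCard (G : Type*) [Group G] (k : ℕ) : SubMulAction (ConjAct G) (Subgroup G) where
  carrier := {H | Nat.card H = k}
  smul_mem' g H hH := by
    change Nat.card (g • H : Subgroup G) = k
    rw [← Nat.card_congr (Subgroup.equivSMul g H).toEquiv]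
    exact hH

theorem normal_iff_fixed {G : Type*} [Group G] (H : Subgroup G) :
    H.Normal ↔ ∀ g : ConjAct G, g • H = H := by
  constructor
  · intro hH g
    ext x
    rw [Subgroup.mem_pointwise_smul_iff_inv_smul_mem]
    rw [ConjAct.smul_def]
    constructor
    · intro h
      have := hH.conj_mem _ h (ConjAct.ofConjAct g)
      simpa [mul_assoc] using this
    · intro h
      have := hH.conj_mem _ h (ConjAct.ofConjAct g⁻¹)
      simpa using this
  · intro h
    constructor
    intro n hn g
    have h1 := h (ConjAct.toConjAct g)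
    have h2 : ConjAct.toConjAct g • n ∈ ConjAct.toConjAct g • H :=
      Subgroup.smul_mem_pointwise_smul _ _ _ hn
    rw [h1, ConjAct.smul_def] at h2
    simpa using h2

/-- Let `p` be a prime and `G` a group of order `p ^ m`. For every `s ≤ m` the number of normal subgroups of `G` of order `p ^ s` is congruent to `1` modulo `p`. -/
theorem result {G : Type*} [Group G] [Finite G] (p m s : ℕ) (hp : p.Prime) (hG : Nat.card G = p ^ m) (hs : s ≤ m) : Nat.card {H : Subgroup G // H.Normal ∧ Nat.card H = p ^ s} ≡ 1 [MOD p] := by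
  have : Fact p.Prime := ⟨hp⟩
  have hdiv : p ^ s ∣ Nat.card G := hG ▸ pow_dvd_pow p hs
  have h1 := Cfsg.Agent.Helper66.card_subgroups_prime_pow_modEq_one p s hp hdiv
  have hPG : IsPGroup p (ConjAct G) := IsPGroup.of_card (n := m) hG
  have h2 := hPG.card_modEq_card_fixedPoints (subgroupsOfCard G (p ^ s))
  have e1 : Nat.card (subgroupsOfCard G (p ^ s)) = Nat.card {H : Subgroup G // Nat.card H = p ^ s} := rfl
  have e2 : Nat.card (MulAction.fixedPoints (ConjAct G) (subgroupsOfCard G (p ^ s))) =
      Nat.card {H : Subgroup G // H.Normal ∧ Nat.card H = p ^ s} := by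
    apply Nat.card_congr
    refine ⟨fun x => ⟨x.1.1, ?_, x.1.2⟩, fun H => ⟨⟨H.1, H.2.2⟩, ?_⟩, ?_, ?_⟩
    · rw [normal_iff_fixed]
      intro g
      have := x.2 g
      exact congrArg Subtype.val this
    · intro g
      apply Subtype.ext
      exact (normal_iff_fixed H.1).mp H.2.1 g
    · intro x; rfl
    · intro H; rfl
  rw [e1, e2] at h2
  exact h2.symm.trans h1

end Cfsg.Agent.S3976
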