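import Cfsg.Statements.S3977
import Cfsg.Agent.Lib.Helper66.ClassTwo
import Mathlib.GroupTheory.Sylow
import Mathlib.GroupTheory.IndexNormal
import Mathlib.GroupTheory.SpecificGroups.Cyclic
import Mathlib.Data.Nat.Prime.Pow

set_option autoImplicit false
open Cfsg

namespace Cfsg.Agent.S3977

open Subgroup Cfsg.Agent.Helper66

/-- if `x ^ p` and all `y⁻¹ x⁻¹ y x` are central, `p ∣ tri n`, then `x ↦ x ^ n` is multiplicative -/
theorem mul_pow_of_central {G : Type*} [Group G] (p n : ℕ) (hn : p ∣ tri n)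
    (hpow : ∀ g : G, g ^ p ∈ center G) (hcomm : ∀ g h : G, h⁻¹ * g⁻¹ * h * g ∈ center G)
    (x y : G) : (x * y) ^ n = x ^ n * y ^ n := by
  set c := y⁻¹ * x⁻¹ * y * x with hc
  have hcz : c ∈ center G := hcomm x y
  have hcx : Commute c x := (mem_center_iff.mp hcz x).symm
  have hcy : Commute c y := (mem_center_iff.mp hcz y).symm
  have h1 := mul_pow_class_two x y c hc hcx hcy n
  have h2 : c ^ p = 1 := by
    rw [← comm_pow_class_two x y c hc hcy p]
    have hy : y ^ p ∈ center G := hpow y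
    have : x⁻¹ * y ^ p = y ^ p * x⁻¹ := mem_center_iff.mp hy x⁻¹
    calc (y ^ p)⁻¹ * x⁻¹ * y ^ p * x = (y ^ p)⁻¹ * (x⁻¹ * y ^ p) * x := by simp only [mul_assoc]
      _ = (y ^ p)⁻¹ * (y ^ p * x⁻¹) * x := by rw [this]
      _ = 1 := by group
  obtain ⟨t, ht⟩ := hn
  rw [h1, ht, pow_mul, h2, one_pow, mul_one]

theorem aux.{u} (p s : ℕ) (hp : p.Prime) (hs : 1 ≤ s) (h2 : p ≠ 2 ∨ 2 ≤ s) :
    ∀ (m : ℕ) (G : Type u) [Group G] [Finite G], Nat.card G = p ^ m → s < m →
      (∀ H K : Subgroup G, Nat.card H = p ^ s → Nat.card K = p ^ s → H = K) → IsCyclic G := by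
  intro m
  induction m using Nat.strong_induction_on with
  | _ m ih =>
  intro G _ _ hG hsm huniq
  have : Fact p.Prime := ⟨hp⟩
  by_contra hnc
  have hdvd_s : p ^ s ∣ Nat.card G := hG ▸ pow_dvd_pow p hsm.le
  obtain ⟨H, hH⟩ := Sylow.exists_subgroup_card_pow_prime p hdvd_s
  have hmemH : ∀ x : G, ∀ k ≤ s, orderOf x = p ^ k → x ∈ H := by
    intro x k hk hx
    obtain ⟨K, hK, hle⟩ := Sylow.exists_subgroup_card_pow_prime_le p hdvd_s (zpowers x)
      (by rw [Nat.card_zpowers, hx]) hk
    rw [huniq H K hH hK]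
    exact hle (mem_zpowers x)
  have hord : ∀ x : G, ∃ k ≤ m, orderOf x = p ^ k := by
    intro x
    have : orderOf x ∣ p ^ m := hG ▸ orderOf_dvd_natCard x
    exact (Nat.dvd_prime_pow hp).mp this
  have hlt : ∀ x : G, ∀ k, orderOf x = p ^ k → k < m := by
    intro x k hx
    by_contra hk
    have hk := not_lt.mp hk
    obtain ⟨k', hk', hx'⟩ := hord x
    have hkk : k = k' := Nat.pow_right_injective hp.two_le (hx.symm.trans hx')
    apply hnc
    refine isCyclic_of_orderOf_eq_card x ?_
    rw [hx, hG]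
    congr 1
    omega
  have hHle : ∀ L : Subgroup G, ∀ l, s ≤ l → Nat.card L = p ^ l → H ≤ L := by
    intro L l hl hL
    obtain ⟨H', hH'⟩ := Sylow.exists_subgroup_card_pow_prime p
      (show p ^ s ∣ Nat.card L from hL ▸ pow_dvd_pow p hl)
    have hc : Nat.card (H'.map L.subtype) = p ^ s := by
      rw [← hH']; exact card_map_of_injective L.subtype_injective
    rw [huniq H _ hH hc]
    exact map_subtype_le H'
  have hsub : ∀ L : Subgroup G, Nat.card L = p ^ (m - 1) → s < m - 1 → IsCyclic L := by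
    intro L hL hs'
    apply ih (m - 1) (by omega) L hL hs'
    intro H' K' hH' hK'
    have e1 : Nat.card (H'.map L.subtype) = p ^ s := by
      rw [← hH']; exact card_map_of_injective L.subtype_injective
    have e2 : Nat.card (K'.map L.subtype) = p ^ s := by
      rw [← hK']; exact card_map_of_injective L.subtype_injective
    exact map_injective L.subtype_injective (huniq _ _ e1 e2)
  have hne_top : ∀ L : Subgroup G, ∀ l, l < m → Nat.card L = p ^ l → ∃ g, g ∉ L := by
    intro L l hl hL
    by_contra h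
    have h : ∀ g, g ∈ L := fun g => by_contra fun hg => h ⟨g, hg⟩
    have : L = ⊤ := eq_top_iff.mpr fun g _ => h g
    rw [this, card_top, hG] at hL
    have := Nat.pow_right_injective hp.two_le hL
    omega
  obtain ⟨x, hx⟩ := hne_top H s hsm hH
  obtain ⟨k, hkm, hxk⟩ := hord x
  have hks : s < k := by
    by_contra h
    exact hx (hmemH x k (by omega) hxk)
  have hkm' : k < m := hlt x k hxk
  have hdvd1 : p ^ (m - 1) ∣ Nat.card G := hG ▸ pow_dvd_pow p (by omega)
  obtain ⟨A, hA, hxA⟩ := Sylow.exists_subgroup_card_pow_prime_le p hdvd1 (zpowers x)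
    (by rw [Nat.card_zpowers, hxk]) (by omega)
  have hAcyc : IsCyclic A := hsub A hA (by omega)
  obtain ⟨y, hy⟩ := hne_top A (m - 1) (by omega) hA
  obtain ⟨j, hjm, hyj⟩ := hord y
  have hjm' : j < m := hlt y j hyj
  obtain ⟨B, hB, hyB⟩ := Sylow.exists_subgroup_card_pow_prime_le p hdvd1 (zpowers y)
    (by rw [Nat.card_zpowers, hyj]) (by omega)
  have hBcyc : IsCyclic B := hsub B hB (by omega)
  have hyB' : y ∈ B := hyB (mem_zpowers y)
  have hidx : ∀ L : Subgroup G, Nat.card L = p ^ (m - 1) → L.index = p := by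
    intro L hL
    have h1 := L.index_mul_card
    rw [hL, hG] at h1
    have h3 : p ^ m = p * p ^ (m - 1) := by rw [← pow_succ']; congr 1; omega
    rw [h3] at h1
    exact Nat.eq_of_mul_eq_mul_right (pow_pos hp.pos _) h1
  have hnormal : ∀ L : Subgroup G, Nat.card L = p ^ (m - 1) → L.Normal := by
    intro L hL
    apply normal_of_index_eq_minFac_card
    rw [hidx L hL, hG, Nat.Prime.pow_minFac hp (by omega)]
  have hAn : A.Normal := hnormal A hA
  have hBn : B.Normal := hnormal B hB
  have hquot : ∀ (L : Subgroup G) [L.Normal], Nat.card L = p ^ (m - 1) →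
      (∀ g : G, g ^ p ∈ L) ∧ ∀ g h : G, h⁻¹ * g⁻¹ * h * g ∈ L := by
    intro L _ hL
    have hcardq : Nat.card (G ⧸ L) = p := by rw [← index_eq_card, hidx L hL]
    constructor
    · intro g
      have h1 : ((g : G ⧸ L)) ^ p = 1 := by
        rw [← hcardq]; exact pow_card_eq_one'
      rw [← QuotientGroup.mk_pow, QuotientGroup.eq_one_iff] at h1
      exact h1
    · intro g h
      have hcyc : IsCyclic (G ⧸ L) := isCyclic_of_prime_card hcardq
      let _ : CommGroup (G ⧸ L) := IsCyclic.commGroup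
      rw [← QuotientGroup.eq_one_iff]
      simp only [QuotientGroup.mk_mul, QuotientGroup.mk_inv]
      rw [mul_comm ((h : G ⧸ L))⁻¹, mul_assoc, mul_assoc, inv_mul_cancel_left, inv_mul_cancel]
  obtain ⟨hpA, hcA⟩ := hquot A hA
  obtain ⟨hpB, hcB⟩ := hquot B hB
  -- D = A ⊓ B is central
  set D := A ⊓ B with hD
  have hsup : A ⊔ B = ⊤ := by
    have hle : A ≤ A ⊔ B := le_sup_left
    have hcardK : Nat.card (A ⊔ B : Subgroup G) ∣ p ^ m := hG ▸ card_subgroup_dvd_card _
    obtain ⟨l, hl, hl'⟩ := (Nat.dvd_prime_pow hp).mp hcardK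
    have h1 : p ^ (m - 1) ∣ p ^ l := by
      rw [← hA, ← hl']; exact card_dvd_of_le hle
    have h2 : m - 1 ≤ l := (Nat.pow_dvd_pow_iff_le_right hp.one_lt).mp h1
    rcases Nat.lt_or_ge l m with h3 | h3
    · exfalso
      have hl1 : l = m - 1 := by omega
      have : A = A ⊔ B := eq_of_le_of_card_ge hle (by rw [hl', hA, hl1])
      apply hy
      rw [this]
      exact (le_sup_right : B ≤ A ⊔ B) hyB'
    · have hlm : l = m := by omega
      apply (card_eq_iff_eq_top _).mp
      rw [hl', hlm, hG]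
  have hDcenter : D ≤ center G := by
    intro z hz
    rw [mem_center_iff]
    have hzA : z ∈ A := hz.1
    have hzB : z ∈ B := hz.2
    have hcent : A ⊔ B ≤ centralizer ({z} : Set G) := by
      apply sup_le
      · intro a ha
        rw [mem_centralizer_singleton_iff]
        let _ : CommGroup A := IsCyclic.commGroup
        have := mul_comm (⟨a, ha⟩ : A) ⟨z, hzA⟩
        exact congrArg Subtype.val this
      · intro b hb
        rw [mem_centralizer_singleton_iff]
        let _ : CommGroup B := IsCyclic.commGroup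
        have := mul_comm (⟨b, hb⟩ : B) ⟨z, hzB⟩
        exact congrArg Subtype.val this
    intro g
    have hg : g ∈ centralizer ({z} : Set G) := hcent (hsup ▸ mem_top g)
    rw [mem_centralizer_singleton_iff] at hg
    exact hg
  have hpowD : ∀ g : G, g ^ p ∈ D := fun g => ⟨hpA g, hpB g⟩
  have hcommD : ∀ g h : G, h⁻¹ * g⁻¹ * h * g ∈ D := fun g h => ⟨hcA g h, hcB g h⟩
  -- exponent e
  obtain ⟨e, he1, hes, hetri⟩ : ∃ e, 1 ≤ e ∧ e ≤ s ∧ p ∣ tri (p ^ e) := by
    by_cases hp2 : p = 2
    · refine ⟨2, by omega, ?_, ?_⟩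
      · rcases h2 with h | h
        · exact absurd hp2 h
        · exact h
      · subst hp2
        exact ⟨3, by decide⟩
    · exact ⟨1, le_refl 1, hs, by rw [pow_one]; exact dvd_tri_of_odd_prime p hp hp2⟩
  -- the power endomorphism
  let θ : G →* G :=
    { toFun := fun g => g ^ p ^ e
      map_one' := one_pow _
      map_mul' := fun a b => mul_pow_of_central p (p ^ e) hetri
        (fun g => hDcenter (hpowD g)) (fun g h => hDcenter (hcommD g h)) a b }
  have hθ : ∀ g, θ g = g ^ p ^ e := fun g => rfl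
  -- H is cyclic
  have hHA : H ≤ A := hHle A (m - 1) (by omega) hA
  have hHB : H ≤ B := hHle B (m - 1) (by omega) hB
  have hHcyc : IsCyclic H := isCyclic_of_le hHA
  -- kernel bound
  have hker : Nat.card θ.ker ≤ p ^ e := by
    classical
    have : Fintype H := Fintype.ofFinite H
    have hle := IsCyclic.card_pow_eq_one_le (α := H) (n := p ^ e) (pow_pos hp.pos e)
    refine le_trans ?_ hle
    rw [← Fintype.card_subtype, ← Nat.card_eq_fintype_card]
    have hmem : ∀ g : θ.ker, (g : G) ∈ H := by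
      intro g
      have hg : (g : G) ^ p ^ e = 1 := g.2
      have : orderOf (g : G) ∣ p ^ e := orderOf_dvd_of_pow_eq_one hg
      obtain ⟨k, hk, hk'⟩ := (Nat.dvd_prime_pow hp).mp this
      exact hmemH _ k (by omega) hk'
    refine Nat.card_le_card_of_injective
      (fun g : θ.ker => (⟨⟨g.1, hmem g⟩, Subtype.ext g.2⟩ : {a : H // a ^ p ^ e = 1})) ?_
    intro g1 g2 h
    have := congrArg (fun t : {a : H // a ^ p ^ e = 1} => (t.1.1 : G)) h
    exact Subtype.ext this
  -- D facts
  have hDA : D ≤ A := inf_le_left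
  have hDcyc : IsCyclic D := isCyclic_of_le hDA
  obtain ⟨d, hd⟩ : ∃ d, Nat.card D = p ^ d := by
    have : Nat.card D ∣ p ^ m := hG ▸ card_subgroup_dvd_card _
    obtain ⟨d, -, hd⟩ := (Nat.dvd_prime_pow hp).mp this
    exact ⟨d, hd⟩
  have hHD : H ≤ D := le_inf hHA hHB
  have hsd : s ≤ d := by
    have : p ^ s ∣ p ^ d := by rw [← hH, ← hd]; exact card_dvd_of_le hHD
    exact (Nat.pow_dvd_pow_iff_le_right hp.one_lt).mp this
  have hdm : d + 2 ≤ m := by
    have h1 : p ^ d ∣ p ^ (m - 1) := by rw [← hA, ← hd]; exact card_dvd_of_le hDA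
    have h2 : d ≤ m - 1 := (Nat.pow_dvd_pow_iff_le_right hp.one_lt).mp h1
    rcases Nat.lt_or_ge d (m - 1) with h3 | h3
    · omega
    · exfalso
      have hd1 : d = m - 1 := by omega
      have hDeqA : D = A := eq_of_le_of_card_ge hDA (by rw [hd, hA, hd1])
      have hAB : A ≤ B := hDeqA ▸ (inf_le_right : D ≤ B)
      have : A = B := eq_of_le_of_card_ge hAB (by rw [hA, hB])
      exact hy (this ▸ hyB')
  -- range bound
  have hrange : Nat.card θ.range ≤ p ^ (d + 1 - e) := by
    let _ : CommGroup D := IsCyclic.commGroup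
    set ρ : D →* D := powMonoidHom (p ^ (e - 1)) with hρ
    have hcardρ : Nat.card ρ.range = p ^ (d + 1 - e) := by
      rw [hρ, IsCyclic.card_powMonoidHom_range, hd]
      have : (p ^ d).gcd (p ^ (e - 1)) = p ^ (e - 1) :=
        Nat.gcd_eq_right (pow_dvd_pow p (by omega))
      rw [this, Nat.pow_div (by omega) hp.pos]
      congr 1
      omega
    rw [← hcardρ, ← card_map_of_injective D.subtype_injective]
    apply card_le_of_le
    rintro _ ⟨g, rfl⟩
    refine ⟨ρ ⟨g ^ p, hpowD g⟩, ⟨_, rfl⟩, ?_⟩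
    change (g ^ p) ^ p ^ (e - 1) = g ^ p ^ e
    rw [← pow_mul, ← pow_succ']
    congr 2
    omega
  -- count
  have hcount : Nat.card θ.ker * Nat.card θ.range = Nat.card G := by
    rw [← Nat.card_congr (QuotientGroup.quotientKerEquivRange θ).toEquiv, ← index_eq_card,
      mul_comm]
    exact θ.ker.index_mul_card
  have hfinal : p ^ m ≤ p ^ e * p ^ (d + 1 - e) := by
    rw [← hG, ← hcount]
    exact Nat.mul_le_mul hker hrange
  rw [← pow_add] at hfinal
  have := (Nat.pow_le_pow_iff_right hp.one_lt).mp hfinal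
  omega

/-- Let `p` be a prime and `G` a group of order `p ^ m` which has exactly one subgroup of order `p ^ s`, where `1 ≤ s < m`, and where `s ≥ 2` if `p = 2`. Then `G` is cyclic. (For `p = 2` and `s = 1` the generalized quaternion groups also occur; that case is the classical criterion for a unique involution.) -/
theorem result {G : Type*} [Group G] [Finite G] (p m s : ℕ) (hp : p.Prime) (hG : Nat.card G = p ^ m) (hs : 1 ≤ s) (hsm : s < m) (h2 : p ≠ 2 ∨ 2 ≤ s) (huniq : ∀ H K : Subgroup G, Nat.card H = p ^ s → Nat.card K = p ^ s → H = K) : IsCyclic G := by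
  exact aux p s hp hs h2 m G hG hsm huniq

end Cfsg.Agent.S3977
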