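import Mathlib
import Cfsg.Statements.S3978
import Cfsg.Agent.S3955
import Cfsg.Agent.S3956
-- import your own Cfsg.Agent.* helpers here

set_option autoImplicit false
open Cfsg

namespace Cfsg.Agent.S3978

theorem id_stem (Q : Type*) [Group Q] : Cfsg.IsStemExtension (MonoidHom.id Q) := by
  refine ⟨Function.surjective_id, ?_, ?_⟩ <;> rw [MonoidHom.ker_id] <;> exact bot_le

/-- A finite group `Q` has trivial Schur multiplier if and only if, for every `n`, every homomorphism from `Q` to the projective general linear group (the quotient of `GL n ℂ` by its centre) lifts to a homomorphism into `GL n ℂ`. -/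
theorem result {Q : Type*} [Group Q] [Finite Q] : Cfsg.HasCyclicSchurMultiplier Q 1 ↔ ∀ (n : ℕ) (γ : Q →* (GL (Fin n) ℂ ⧸ Subgroup.center (GL (Fin n) ℂ))), ∃ ρ : Q →* GL (Fin n) ℂ, (QuotientGroup.mk' (Subgroup.center (GL (Fin n) ℂ))).comp ρ = γ := by
  have hker : Subsingleton (MonoidHom.id Q).ker := by
    rw [MonoidHom.ker_id]; infer_instance
  have hT : Subsingleton (Multiplicative (ZMod 1)) := by
    have : Subsingleton (ZMod 1) := by
      show Subsingleton (Fin 1)
      infer_instance
    exact inferInstanceAs (Subsingleton (ZMod 1))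
  have e0 : (MonoidHom.id Q).ker ≃* Multiplicative (ZMod 1) :=
    { toFun := fun _ => 1
      invFun := fun _ => 1
      left_inv := fun _ => Subsingleton.elim _ _
      right_inv := fun _ => Subsingleton.elim _ _
      map_mul' := fun _ _ => Subsingleton.elim _ _ }
  constructor
  · intro h n γ
    obtain ⟨ρ, hρ⟩ := Cfsg.Agent.S3955.result h (MonoidHom.id Q) (id_stem Q) ⟨e0⟩ n γ
    exact ⟨ρ, by rw [hρ, MonoidHom.comp_id]⟩
  · intro h
    refine ⟨⟨Q, inferInstance, inferInstance, MonoidHom.id Q, id_stem Q, ⟨e0⟩⟩, ?_⟩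
    intro Γ _ _ τ hτ
    obtain ⟨π, hπ⟩ := Cfsg.Agent.S3956.result (MonoidHom.id Q) (id_stem Q)
      (fun n γ => by
        obtain ⟨ρ, hρ⟩ := h n γ
        exact ⟨ρ, by rw [hρ, MonoidHom.comp_id]⟩) Γ τ hτ
    refine ⟨1, ?_⟩
    intro k
    obtain ⟨x, hx⟩ := hπ k
    refine ⟨1, ?_⟩
    rw [← hx, Subsingleton.elim x 1, map_one, map_one]

end Cfsg.Agent.S3978
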