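import Cfsg.Statements.S3979
import Mathlib.GroupTheory.SpecificGroups.Cyclic

set_option autoImplicit false
open Cfsg

namespace Cfsg.Agent.S3979

/-- A finite cyclic group has trivial Schur multiplier: every finite stem extension of it is an isomorphism, said through `HasCyclicSchurMultiplier G 1`. -/
theorem result {G : Type*} [Group G] [Finite G] [IsCyclic G] : Cfsg.HasCyclicSchurMultiplier G 1 := by
  refine ⟨⟨G, inferInstance, inferInstance, MonoidHom.id G, ⟨Function.surjective_id, ?_, ?_⟩, ?_⟩, ?_⟩
  · intro x hx
    have : x = 1 := by simpa [MonoidHom.mem_ker] using hx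
    subst this
    exact Subgroup.one_mem _
  · intro x hx
    have : x = 1 := by simpa [MonoidHom.mem_ker] using hx
    subst this
    exact Subgroup.one_mem _
  · have h1 : Subsingleton ↥(MonoidHom.id G).ker := by
      constructor
      rintro ⟨a, ha⟩ ⟨b, hb⟩
      have ha' : a = 1 := by simpa [MonoidHom.mem_ker] using ha
      have hb' : b = 1 := by simpa [MonoidHom.mem_ker] using hb
      subst ha' hb'
      rfl
    have h2 : Subsingleton (Multiplicative (ZMod 1)) := by
      change Subsingleton (ZMod 1)
      infer_instance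
    refine ⟨⟨⟨fun _ => 1, fun _ => 1, ?_, ?_⟩, ?_⟩⟩
    · intro x; exact Subsingleton.elim _ _
    · intro x; exact Subsingleton.elim _ _
    · intro x y; exact Subsingleton.elim _ _
  · intro Γ _ _ σ hσ
    obtain ⟨hsurj, hcen, hcomm⟩ := hσ
    have hab : ∀ a b : Γ, a * b = b * a := fun a b =>
      (MonoidHom.isMulCommutative_of_isCyclic_of_ker_le_center σ hcen).is_comm.comm a b
    have hc : commutator Γ = ⊥ := by
      rw [commutator_def, Subgroup.commutator_eq_bot_iff_le_centralizer]
      intro x _ y _
      exact hab y x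
    have hker : ∀ x : σ.ker, x = 1 := by
      rintro ⟨x, hx⟩
      have : x ∈ (⊥ : Subgroup Γ) := hc ▸ hcomm hx
      rw [Subgroup.mem_bot] at this
      subst this
      rfl
    refine ⟨1, ?_⟩
    intro y
    exact ⟨1, (hker y).symm ▸ rfl⟩

end Cfsg.Agent.S3979
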