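import Mathlib
import Cfsg.Statements.S3980
import Cfsg.Agent.Lib.Helper65.ProdMult
-- import your own Cfsg.Agent.* helpers here

set_option autoImplicit false
universe u v w
open Cfsg

namespace Cfsg.Agent.S3980

open Cfsg.Agent.Helper65
open scoped TensorProduct

/-- the tensor product of abelianizations of coprime orders is trivial -/
theorem abTensor_subsingleton {Q₁ : Type u} {Q₂ : Type v} [Group Q₁] [Group Q₂] [Finite Q₁]
    [Finite Q₂]
    (hcop : Nat.Coprime (Nat.card (Abelianization Q₁)) (Nat.card (Abelianization Q₂))) :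
    Subsingleton (AbTensor Q₁ Q₂) := by
  have h0 : ∀ x : AbTensor Q₁ Q₂, x = 0 := by
    intro x
    induction x using TensorProduct.induction_on with
    | zero => rfl
    | tmul a b =>
      set m := Nat.card (Abelianization Q₁) with hm
      set n := Nat.card (Abelianization Q₂) with hn
      have ha : m • a = 0 := by
        have h := pow_card_eq_one' (G := Abelianization Q₁) (x := Additive.toMul a)
        exact congrArg Additive.ofMul h
      have hb : n • b = 0 := by
        have h := pow_card_eq_one' (G := Abelianization Q₂) (x := Additive.toMul b)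
        exact congrArg Additive.ofMul h
      have h1 : m • (a ⊗ₜ[ℤ] b) = 0 := by
        have h1' : ((m : ℤ) • a) ⊗ₜ[ℤ] b = 0 := by
          rw [natCast_zsmul, ha, TensorProduct.zero_tmul]
        rw [← natCast_zsmul, ← h1', TensorProduct.smul_tmul']
      have h2 : n • (a ⊗ₜ[ℤ] b) = 0 := by
        have h2' : a ⊗ₜ[ℤ] ((n : ℤ) • b) = 0 := by
          rw [natCast_zsmul, hb, TensorProduct.tmul_zero]
        rw [← natCast_zsmul, ← h2', TensorProduct.tmul_smul]
      have h3 : addOrderOf (a ⊗ₜ[ℤ] b) ∣ m := addOrderOf_dvd_of_nsmul_eq_zero h1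
      have h4 : addOrderOf (a ⊗ₜ[ℤ] b) ∣ n := addOrderOf_dvd_of_nsmul_eq_zero h2
      have h5 : addOrderOf (a ⊗ₜ[ℤ] b) = 1 := Nat.eq_one_of_dvd_coprimes hcop h3 h4
      exact AddMonoid.addOrderOf_eq_one_iff.mp h5
    | add a b ha hb => rw [ha, hb, add_zero]
  exact ⟨fun x y => by rw [h0 x, h0 y]⟩

/-- Let `Q₁` and `Q₂` be finite groups whose commutator quotients have coprime orders, with Schur multipliers `A` and `B`. Then the Schur multiplier of `Q₁ × Q₂` is isomorphic to `A × B`. -/
theorem result {Q₁ : Type u} {Q₂ : Type v} [Group Q₁] [Group Q₂] [Finite Q₁] [Finite Q₂] {A B : Type w} [CommGroup A] [CommGroup B] (hA : Cfsg.HasSchurMultiplier Q₁ A) (hB : Cfsg.HasSchurMultiplier Q₂ B) (hcop : Nat.Coprime (Nat.card (Abelianization Q₁)) (Nat.card (Abelianization Q₂))) : Cfsg.HasSchurMultiplier (Q₁ × Q₂) (A × B) := by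
  have hsub := abTensor_subsingleton hcop
  have hsub' : Subsingleton (Multiplicative (AbTensor Q₁ Q₂)) :=
    ⟨fun x y => congrArg Multiplicative.ofAdd (Subsingleton.elim (Multiplicative.toAdd x)
      (Multiplicative.toAdd y))⟩
  let e : A × B × Multiplicative (AbTensor Q₁ Q₂) ≃* A × B :=
    { toFun := fun x => (x.1, x.2.1)
      invFun := fun x => (x.1, x.2, 1)
      left_inv := fun x => by
        obtain ⟨a, b, t⟩ := x
        simp only [Prod.mk.injEq, true_and]
        exact Subsingleton.elim _ _
      right_inv := fun x => rfl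
      map_mul' := fun x y => rfl }
  exact hasSchurMultiplier_congr e (hasSchurMultiplier_prod hA hB)

end Cfsg.Agent.S3980
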