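import Cfsg.Statements.S3981
import Mathlib.GroupTheory.Nilpotent

set_option autoImplicit false
open Cfsg

namespace Cfsg.Agent.S3981

/-- In a finite group, `g R g⁻¹ ⊆ R` already gives `g ∈ N(R)`. -/
theorem mem_normalizer_of_conj_mem {G : Type*} [Group G] [Finite G] (R : Subgroup G) (g : G)
    (h : ∀ r ∈ R, g * r * g⁻¹ ∈ R) : g ∈ Subgroup.normalizer (R : Set G) := by
  rw [Subgroup.mem_normalizer_iff_map_conj_eq]
  apply Subgroup.eq_of_le_of_card_ge
  · rintro _ ⟨r, hr, rfl⟩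
    exact h r hr
  · rw [Subgroup.card_map_of_injective (MulAut.conj g).injective]

/-- An element with a `p`-th power in a `p`-group generates a `p`-group. -/
theorem isPGroup_zpowers_of_pow_mem {G : Type*} [Group G] (p : ℕ) [Fact p.Prime]
    (Q : Subgroup G) (hQ : IsPGroup p ↥Q) (x : G) (hx : x ^ p ∈ Q) :
    IsPGroup p ↥(Subgroup.zpowers x) := by
  obtain ⟨k, hk⟩ := hQ ⟨x ^ p, hx⟩
  have hk' : x ^ p ^ (k + 1) = 1 := by
    have := congrArg Subtype.val hk
    simp only [Subgroup.coe_pow, Subgroup.coe_one] at this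
    rw [pow_succ', pow_mul]
    exact this
  rintro ⟨g, hg⟩
  obtain ⟨n, rfl⟩ := Subgroup.mem_zpowers_iff.mp hg
  refine ⟨k + 1, ?_⟩
  apply Subtype.ext
  simp only [Subgroup.coe_pow, Subgroup.coe_one]
  rw [← zpow_natCast, ← zpow_mul, mul_comm, zpow_mul, zpow_natCast, hk', one_zpow]

theorem forward {G : Type*} [Group G] [Finite G] (p : ℕ) [Fact p.Prime]
    (Q : Subgroup G) (hQ : IsPGroup p ↥Q) (y : G)
    (hyQ : y ∈ Subgroup.normalizer (Q : Set G))
    (hmax : ∀ R : Subgroup G, IsPGroup p ↥R → Q ≤ R → y ∈ Subgroup.normalizer (R : Set G) → R = Q)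
    (x : G) (hxN : x ∈ Subgroup.normalizer (Q : Set G)) (hxQ : x ∉ Q) (hxp : x ^ p ∈ Q) :
    ∀ q ∈ Q, ∀ e : ℤ, y * x * y⁻¹ ≠ q * x ^ e := by
  intro q hq e heq
  have hR : IsPGroup p ↥(Q ⊔ Subgroup.zpowers x) := by
    apply IsPGroup.to_sup_of_normal_left' hQ (isPGroup_zpowers_of_pow_mem p Q hQ x hxp)
    rw [Subgroup.zpowers_le]
    exact hxN
  have hyR : y ∈ Subgroup.normalizer ((Q ⊔ Subgroup.zpowers x : Subgroup G) : Set G) := by
    apply mem_normalizer_of_conj_mem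
    have hle : (Q ⊔ Subgroup.zpowers x).map (MulAut.conj y).toMonoidHom ≤ Q ⊔ Subgroup.zpowers x := by
      rw [Subgroup.map_sup]
      apply sup_le
      · have := Subgroup.mem_normalizer_iff_map_conj_eq.mp hyQ
        exact le_trans (le_of_eq this) le_sup_left
      · rw [MonoidHom.map_zpowers, Subgroup.zpowers_le]
        show y * x * y⁻¹ ∈ Q ⊔ Subgroup.zpowers x
        rw [heq]
        exact Subgroup.mul_mem _ (Subgroup.mem_sup_left hq)
          (Subgroup.mem_sup_right (Subgroup.zpow_mem_zpowers x e))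
    intro r hr
    exact hle ⟨r, hr, rfl⟩
  have := hmax _ hR le_sup_left hyR
  apply hxQ
  rw [← this]
  exact Subgroup.mem_sup_right (Subgroup.mem_zpowers x)


/-- A nontrivial `p`-subgroup `M` of a finite group normalized by `t` with `t * t = 1` contains
an element `z` of order `p` with `t z t⁻¹ = z` or `t z t⁻¹ = z⁻¹`. -/
theorem exists_inverted_or_centralized {H : Type*} [Group H] [Finite H] (p : ℕ) [Fact p.Prime]
    (M : Subgroup H) (hM : IsPGroup p ↥M) (hM1 : M ≠ ⊥) (t : H) (ht : t * t = 1)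
    (htM : ∀ m ∈ M, t * m * t⁻¹ ∈ M) :
    ∃ z : H, z ≠ 1 ∧ z ^ p = 1 ∧ (t * z * t⁻¹ * z = 1 ∨ t * z * t⁻¹ * z⁻¹ = 1) := by
  have htinv : t⁻¹ = t := inv_eq_of_mul_eq_one_right ht
  have : Nontrivial ↥M := (Subgroup.nontrivial_iff_ne_bot M).mpr hM1
  have := hM.center_nontrivial
  have hdvd : p ∣ Nat.card ↥(Subgroup.center ↥M) := by
    rcases (hM.to_subgroup (Subgroup.center ↥M)).card_eq_or_dvd with h1 | h
    · exfalso
      have := Finite.one_lt_card (α := ↥(Subgroup.center ↥M))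
      omega
    · exact h
  obtain ⟨z, hz⟩ := exists_prime_orderOf_dvd_card' p hdvd
  have hzo : orderOf ((z : ↥M) : H) = p := by
    rw [Subgroup.orderOf_coe, Subgroup.orderOf_coe, hz]
  have hzM : ((z : ↥M) : H) ∈ M := (z : ↥M).2
  have hzc : ∀ m ∈ M, m * ((z : ↥M) : H) = ((z : ↥M) : H) * m := by
    intro m hm
    have := (Subgroup.mem_center_iff.mp z.2) ⟨m, hm⟩
    exact congrArg Subtype.val this
  obtain ⟨zz, hzz⟩ : ∃ zz : H, zz = ((z : ↥M) : H) := ⟨_, rfl⟩
  rw [← hzz] at hzo hzM hzc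
  have hp : p.Prime := Fact.out
  have hzz1 : zz ≠ 1 := by
    intro h
    rw [h, orderOf_one] at hzo
    exact hp.one_lt.ne hzo
  have hzzp : zz ^ p = 1 := by rw [← hzo]; exact pow_orderOf_eq_one zz
  have hcomm : Commute zz (t * zz * t⁻¹) := (hzc _ (htM zz hzM)).symm
  by_cases hw : zz * (t * zz * t⁻¹) = 1
  · refine ⟨zz, hzz1, hzzp, Or.inl ?_⟩
    rw [← hcomm.eq]
    exact hw
  · refine ⟨zz * (t * zz * t⁻¹), hw, ?_, Or.inr ?_⟩
    · rw [hcomm.mul_pow, hzzp, conj_pow, hzzp]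
      simp
    · rw [mul_inv_eq_one, htinv]
      have : t * (zz * (t * zz * t)) * t = (t * zz * t) * zz * (t * t) := by group
      rw [this, ht, mul_one]
      rw [htinv] at hcomm
      exact hcomm.eq.symm

theorem backward {G : Type*} [Group G] [Finite G] (p : ℕ) [Fact p.Prime]
    (Q : Subgroup G) (y : G) (hy : orderOf y = 2)
    (hyQ : y ∈ Subgroup.normalizer (Q : Set G))
    (hx : ∀ x : G, x ∈ Subgroup.normalizer (Q : Set G) → x ∉ Q → x ^ p ∈ Q →
      (y * x * y⁻¹ * x ∉ Q ∧ y * x * y⁻¹ * x⁻¹ ∉ Q))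
    (R : Subgroup G) (hR : IsPGroup p ↥R) (hQR : Q ≤ R)
    (hyR : y ∈ Subgroup.normalizer (R : Set G)) : R = Q := by
  by_contra hne
  -- an element of `N_R(Q)` outside `Q`
  have hlt : Q.subgroupOf R < ⊤ := by
    rw [lt_top_iff_ne_top]
    intro h
    apply hne
    apply le_antisymm _ hQR
    intro r hr
    have : (⟨r, hr⟩ : ↥R) ∈ Q.subgroupOf R := by rw [h]; trivial
    exact this
  have hnil : Group.IsNilpotent ↥R := IsPGroup.isNilpotent hR
  have hnc := Group.normalizerCondition_of_isNilpotent (G := ↥R) _ hlt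
  obtain ⟨r, hrN, hrQ⟩ := SetLike.exists_of_lt hnc
  have hrNG : (r : G) ∈ Subgroup.normalizer (Q : Set G) := by
    apply mem_normalizer_of_conj_mem
    intro q hq
    have h1 : (⟨q, hQR hq⟩ : ↥R) ∈ Q.subgroupOf R := hq
    have := (Subgroup.mem_normalizer_iff.mp hrN ⟨q, hQR hq⟩).mp h1
    exact this
  -- the quotient `N(Q)/Q`
  let N : Subgroup G := Subgroup.normalizer (Q : Set G)
  have : (Q.subgroupOf N).Normal := Subgroup.normal_in_normalizer
  let π : ↥N →* ↥N ⧸ Q.subgroupOf N := QuotientGroup.mk' (Q.subgroupOf N)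
  have hπ1 : ∀ n : ↥N, π n = 1 ↔ (n : G) ∈ Q := by
    intro n
    rw [QuotientGroup.mk'_apply, QuotientGroup.eq_one_iff]
    exact Subgroup.mem_subgroupOf
  let M : Subgroup (↥N ⧸ Q.subgroupOf N) := (R.subgroupOf N).map π
  have hM : IsPGroup p ↥M := (hR.comap_subtype).map π
  have hM1 : M ≠ ⊥ := by
    intro h
    have h1 : π ⟨(r : G), hrNG⟩ ∈ M := ⟨⟨(r : G), hrNG⟩, r.2, rfl⟩
    rw [h, Subgroup.mem_bot, hπ1] at h1
    exact hrQ h1
  have hy2 : y * y = 1 := by
    rw [← pow_two, ← hy]; exact pow_orderOf_eq_one y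
  have ht : π ⟨y, hyQ⟩ * π ⟨y, hyQ⟩ = 1 := by
    rw [← map_mul, hπ1]
    show y * y ∈ Q
    rw [hy2]; exact Q.one_mem
  have htM : ∀ m ∈ M, π ⟨y, hyQ⟩ * m * (π ⟨y, hyQ⟩)⁻¹ ∈ M := by
    rintro _ ⟨n, hn, rfl⟩
    refine ⟨⟨y, hyQ⟩ * n * ⟨y, hyQ⟩⁻¹, ?_, by simp⟩
    exact (Subgroup.mem_normalizer_iff.mp hyR n).mp hn
  obtain ⟨z, hz1, hzp, hz⟩ := exists_inverted_or_centralized p M hM hM1 _ ht htM
  obtain ⟨x, rfl⟩ := QuotientGroup.mk'_surjective (Q.subgroupOf N) z
  have hxQ : (x : G) ∉ Q := fun h => hz1 ((hπ1 x).mpr h)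
  have hxp : (x : G) ^ p ∈ Q := by
    have : π (x ^ p) = 1 := by rw [map_pow]; exact hzp
    exact (hπ1 _).mp this
  obtain ⟨h1, h2⟩ := hx x x.2 hxQ hxp
  rcases hz with hz | hz
  · apply h1
    have : π (⟨y, hyQ⟩ * x * ⟨y, hyQ⟩⁻¹ * x) = 1 := by
      rw [map_mul, map_mul, map_mul, map_inv]
      exact hz
    exact (hπ1 _).mp this
  · apply h2
    have : π (⟨y, hyQ⟩ * x * ⟨y, hyQ⟩⁻¹ * x⁻¹) = 1 := by
      rw [map_mul, map_mul, map_mul, map_inv, map_inv]
      exact hz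
    exact (hπ1 _).mp this

/-- Let p be an odd prime, Q a p-subgroup of the finite group G and y an involution normalizing Q. Then Q is maximal among the p-subgroups of G normalized by y if and only if the image of y in N_G(Q) ⧸ Q neither inverts nor centralizes any element of order p there; the latter is phrased inside N_G(Q): for every x in N_G(Q) outside Q with x ^ p ∈ Q, neither y x y⁻¹ x nor y x y⁻¹ x⁻¹ lies in Q. -/
theorem result {G : Type*} [Group G] [Finite G] (p : ℕ) [Fact p.Prime] (hp2 : p ≠ 2) (Q : Subgroup G) (hQ : IsPGroup p ↥Q) (y : G) (hy : orderOf y = 2) (hyQ : y ∈ Subgroup.normalizer (Q : Set G)) : (∀ R : Subgroup G, IsPGroup p ↥R → Q ≤ R → y ∈ Subgroup.normalizer (R : Set G) → R = Q) ↔ ∀ x : G, x ∈ Subgroup.normalizer (Q : Set G) → x ∉ Q → x ^ p ∈ Q → (y * x * y⁻¹ * x ∉ Q ∧ y * x * y⁻¹ * x⁻¹ ∉ Q) := by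
  constructor
  · intro hmax x hxN hxQ hxp
    have key := forward p Q hQ y hyQ hmax x hxN hxQ hxp
    constructor
    · intro h
      apply key _ h (-1)
      rw [zpow_neg_one]
      group
    · intro h
      apply key _ h 1
      rw [zpow_one]
      group
  · intro hx R hR hQR hyR
    exact backward p Q y hy hyQ hx R hR hQR hyR

end Cfsg.Agent.S3981
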