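import Cfsg.Statements.S3982
import Cfsg.Agent.Lib.Helper66.SylowSub
import Cfsg.Agent.Lib.Helper89.Invert
import Cfsg.Agent.Lib.Helper64.TI

set_option autoImplicit false
open Cfsg

namespace Cfsg.Agent.S3982

variable {G : Type*} [Group G] [Finite G]

theorem mem_normalizer_of_conj_mem' (R : Subgroup G) (g : G)
    (h : ∀ r ∈ R, g * r * g⁻¹ ∈ R) : g ∈ Subgroup.normalizer (R : Set G) := by
  rw [Subgroup.mem_normalizer_iff_map_conj_eq]
  apply Subgroup.eq_of_le_of_card_ge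
  · rintro _ ⟨r, hr, rfl⟩
    exact h r hr
  · rw [Subgroup.card_map_of_injective (MulAut.conj g).injective]

theorem card_lt_of_lt' {H K : Subgroup G} (h : H < K) : Nat.card H < Nat.card K := by
  by_contra hle
  exact h.ne (Subgroup.eq_of_le_of_card_ge h.le (not_lt.mp hle))

/-- no involution commutes with a nontrivial `p`-element -/
theorem not_commute (p : ℕ)
    (hC : ∀ g : G, g ≠ 1 → (∃ k : ℕ, orderOf g = p ^ k) →
      Odd (Nat.card ↥(Subgroup.centralizer ({g} : Set G))))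
    (g t : G) (hg : g ≠ 1) (hgp : ∃ k : ℕ, orderOf g = p ^ k) (ht : orderOf t = 2) :
    t * g ≠ g * t := by
  intro h
  have hmem : t ∈ Subgroup.centralizer ({g} : Set G) :=
    Subgroup.mem_centralizer_singleton_iff.mpr h
  have hdvd : 2 ∣ Nat.card ↥(Subgroup.centralizer ({g} : Set G)) := by
    rw [← ht]
    have := orderOf_dvd_natCard (⟨t, hmem⟩ : Subgroup.centralizer ({g} : Set G))
    rwa [Subgroup.orderOf_mk] at this
  have := hC g hg hgp
  exact (Nat.not_even_iff_odd.mpr this) (even_iff_two_dvd.mpr hdvd)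

theorem eq_one_of_sq (p : ℕ) [Fact p.Prime] (hp2 : p ≠ 2) (q : G) (hq : ∃ k : ℕ, orderOf q = p ^ k)
    (h : q * q = 1) : q = 1 := by
  obtain ⟨k, hk⟩ := hq
  have h1 : orderOf q ∣ 2 := by
    apply orderOf_dvd_of_pow_eq_one
    rw [pow_two, h]
  have hp : p.Prime := Fact.out
  have hco : Nat.Coprime (p ^ k) 2 := by
    apply Nat.Coprime.pow_left
    exact (Nat.coprime_primes hp Nat.prime_two).mpr hp2
  have h2 : orderOf q ∣ 1 := by
    have h0 : orderOf q ∣ p ^ k := by rw [hk]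
    have := Nat.dvd_gcd h0 h1
    rwa [hco] at this
  exact orderOf_eq_one_iff.mp (Nat.dvd_one.mp h2)

theorem no_two_p (p : ℕ) [Fact p.Prime]
    (hC : ∀ g : G, g ≠ 1 → (∃ k : ℕ, orderOf g = p ^ k) →
      Odd (Nat.card ↥(Subgroup.centralizer ({g} : Set G))))
    (g : G) (h : 2 * p ∣ orderOf g) : False := by
  have hp : p.Prime := Fact.out
  obtain ⟨c, hc⟩ := h
  have hpos : 0 < orderOf g := orderOf_pos g
  have hc0 : c ≠ 0 := by
    rintro rfl
    rw [mul_zero] at hc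
    omega
  have h1 : orderOf (g ^ c) = 2 * p := by
    rw [orderOf_pow_of_dvd hc0 ⟨2 * p, by rw [hc, mul_comm]⟩, hc]
    exact Nat.mul_div_cancel _ (Nat.pos_of_ne_zero hc0)
  have h2 : orderOf ((g ^ c) ^ 2) = p := by
    rw [orderOf_pow_of_dvd two_ne_zero ⟨p, h1⟩, h1]
    exact Nat.mul_div_cancel_left _ two_pos
  have h3 : orderOf ((g ^ c) ^ p) = 2 := by
    rw [orderOf_pow_of_dvd hp.ne_zero ⟨2, by rw [h1, mul_comm]⟩, h1]
    exact Nat.mul_div_cancel _ hp.pos
  apply not_commute p hC ((g ^ c) ^ 2) ((g ^ c) ^ p) _ ⟨1, by rw [h2, pow_one]⟩ h3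
  · rw [← pow_add, ← pow_add, add_comm]
  · intro h
    rw [h, orderOf_one] at h2
    exact hp.one_lt.ne h2

theorem inverts (p : ℕ) [Fact p.Prime]
    (hC : ∀ g : G, g ≠ 1 → (∃ k : ℕ, orderOf g = p ^ k) →
      Odd (Nat.card ↥(Subgroup.centralizer ({g} : Set G))))
    (Q : Subgroup G) (hQ : IsPGroup p ↥Q) (t : G) (ht : orderOf t = 2)
    (htQ : t ∈ Subgroup.normalizer (Q : Set G)) : ∀ q ∈ Q, t * q * t⁻¹ = q⁻¹ := by
  have ht2 : t * t = 1 := by
    rw [← pow_two, ← ht]; exact pow_orderOf_eq_one t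
  apply Cfsg.Agent.Helper89.inverts_of_fixed_point_free Q t ht2
    (fun k hk => (Subgroup.mem_normalizer_iff.mp htQ k).mp hk)
  intro k hk hcomm
  by_contra hk1
  have hkp : ∃ j : ℕ, orderOf k = p ^ j := by
    obtain ⟨j, hj⟩ := IsPGroup.iff_orderOf.mp hQ ⟨k, hk⟩
    exact ⟨j, by rw [← hj, Subgroup.orderOf_mk]⟩
  exact not_commute p hC k t hk1 hkp ht hcomm

/-- Every `p`-element normalizing `Q` centralizes it. -/
theorem p_element_centralizes (p : ℕ) [Fact p.Prime] (hp2 : p ≠ 2)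
    (hC : ∀ g : G, g ≠ 1 → (∃ k : ℕ, orderOf g = p ^ k) →
      Odd (Nat.card ↥(Subgroup.centralizer ({g} : Set G))))
    (Q : Subgroup G) (hQ : IsPGroup p ↥Q) (hQ1 : Q ≠ ⊥) (t : G) (ht : orderOf t = 2)
    (htQ : t ∈ Subgroup.normalizer (Q : Set G)) (x : G)
    (hxN : x ∈ Subgroup.normalizer (Q : Set G)) (hxp : ∃ k : ℕ, orderOf x = p ^ k) :
    x ∈ Subgroup.centralizer (Q : Set G) := by
  have hp : p.Prime := Fact.out
  have hinv := inverts p hC Q hQ t ht htQ
  have ht2 : t * t = 1 := by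
    rw [← pow_two, ← ht]; exact pow_orderOf_eq_one t
  obtain ⟨a, ha⟩ : ∃ a, a = Q.normalizerMonoidHom ⟨t, htQ⟩ := ⟨_, rfl⟩
  obtain ⟨b, hb⟩ : ∃ b, b = Q.normalizerMonoidHom ⟨x, hxN⟩ := ⟨_, rfl⟩
  have ha_apply : ∀ q : Q, a q = q⁻¹ := by
    intro q
    apply Subtype.ext
    rw [ha, Subgroup.normalizerMonoidHom_apply_apply_coe]
    exact hinv q q.2
  have hab : Commute a b := by
    apply MulEquiv.ext
    intro q
    rw [MulAut.mul_apply, MulAut.mul_apply, ha_apply, ha_apply, map_inv]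
  have ha2 : orderOf a = 2 := by
    apply orderOf_eq_prime
    · rw [ha, ← map_pow]
      have : (⟨t, htQ⟩ : Subgroup.normalizer (Q : Set G)) ^ 2 = 1 := by
        apply Subtype.ext
        rw [pow_two]
        exact ht2
      rw [this, map_one]
    · intro h1
      obtain ⟨q, hq1⟩ := Subgroup.ne_bot_iff_exists_ne_one.mp hQ1
      apply hq1
      have h2 : a q = q := by rw [h1]; rfl
      rw [ha_apply] at h2
      have h3 : (q : G) * (q : G) = 1 := by
        have h4 : ((q⁻¹ : Q) : G) = (q : G) := congrArg Subtype.val h2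
        rw [Subgroup.coe_inv] at h4
        nth_rewrite 1 [← h4]
        exact inv_mul_cancel _
      obtain ⟨j, hj⟩ := IsPGroup.iff_orderOf.mp hQ q
      have := eq_one_of_sq p hp2 (q : G) ⟨j, by rw [← hj, Subgroup.orderOf_coe]⟩ h3
      exact Subtype.ext this
  obtain ⟨k, hk⟩ := hxp
  have hbdvd : orderOf b ∣ p ^ k := by
    rw [hb, ← hk, ← Subgroup.orderOf_mk x hxN]
    exact orderOf_map_dvd _ _
  obtain ⟨j, -, hj⟩ := (Nat.dvd_prime_pow hp).mp hbdvd
  rcases Nat.eq_zero_or_pos j with hj0 | hjpos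
  · rw [hj0, pow_zero, orderOf_eq_one_iff] at hj
    have hker : (⟨x, hxN⟩ : Subgroup.normalizer (Q : Set G)) ∈ Q.normalizerMonoidHom.ker := by
      rw [MonoidHom.mem_ker, ← hb, hj]
    rw [Subgroup.normalizerMonoidHom_ker] at hker
    exact hker
  · exfalso
    have hco : (orderOf a).Coprime (orderOf b) := by
      rw [ha2, hj]
      apply Nat.Coprime.pow_right
      exact (Nat.coprime_primes Nat.prime_two hp).mpr (Ne.symm hp2)
    have hord := hab.orderOf_mul_eq_mul_orderOf_of_coprime hco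
    have hdvd : orderOf (a * b) ∣ orderOf (t * x) := by
      have : a * b = Q.normalizerMonoidHom (⟨t, htQ⟩ * ⟨x, hxN⟩) := by
        rw [map_mul, ha, hb]
      rw [this]
      have h2 := orderOf_map_dvd Q.normalizerMonoidHom
        ((⟨t, htQ⟩ : Subgroup.normalizer (Q : Set G)) * ⟨x, hxN⟩)
      have h3 : orderOf ((⟨t, htQ⟩ : Subgroup.normalizer (Q : Set G)) * ⟨x, hxN⟩) = orderOf (t * x) := by
        rw [← Subgroup.orderOf_coe]
        rfl
      rwa [h3] at h2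
    rw [hord, ha2, hj] at hdvd
    apply no_two_p p hC (t * x)
    refine dvd_trans ?_ hdvd
    apply Nat.mul_dvd_mul_left
    exact dvd_pow_self p (Nat.pos_iff_ne_zero.mp hjpos)

/-- an element inverting a nontrivial group of odd prime power order has even order -/
theorem two_dvd_orderOf_of_inverts (p : ℕ) [Fact p.Prime] (hp2 : p ≠ 2)
    (Q : Subgroup G) (hQ : IsPGroup p ↥Q) (hQ1 : Q ≠ ⊥) (u : G)
    (hu : ∀ q ∈ Q, u * q * u⁻¹ = q⁻¹) : 2 ∣ orderOf u := by
  by_contra hodd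
  obtain ⟨m, hm⟩ : Odd (orderOf u) := Nat.odd_iff.mpr (by omega)
  obtain ⟨q, hq1⟩ := Subgroup.ne_bot_iff_exists_ne_one.mp hQ1
  apply hq1
  have hc : Commute (u ^ 2) (q : G) := by
    have h1 : u * (q : G) * u⁻¹ = (q : G)⁻¹ := hu q q.2
    have h2 : u * (q : G)⁻¹ * u⁻¹ = ((q : G)⁻¹)⁻¹ := hu _ (Q.inv_mem q.2)
    rw [inv_inv] at h2
    have h3 : u ^ 2 * (q : G) * (u ^ 2)⁻¹ = (q : G) := by
      calc u ^ 2 * (q : G) * (u ^ 2)⁻¹ = u * (u * (q : G) * u⁻¹) * u⁻¹ := by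
            simp only [pow_two, mul_inv_rev, mul_assoc]
        _ = u * (q : G)⁻¹ * u⁻¹ := by rw [h1]
        _ = (q : G) := h2
    show u ^ 2 * (q : G) = (q : G) * u ^ 2
    exact mul_inv_eq_iff_eq_mul.mp h3
  have huinv : u⁻¹ = (u ^ 2) ^ m := by
    rw [← pow_mul, inv_eq_iff_mul_eq_one, ← pow_succ', ← hm]
    exact pow_orderOf_eq_one u
  have hc2 : Commute u⁻¹ (q : G) := by
    rw [huinv]; exact hc.pow_left m
  have hc3 : Commute u (q : G) := by
    have := hc2.inv_left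
    rwa [inv_inv] at this
  have h4 : (q : G) = (q : G)⁻¹ := by
    rw [← hu q q.2, hc3.eq]
    group
  have h5 : (q : G) * (q : G) = 1 := by
    nth_rewrite 1 [h4]
    exact inv_mul_cancel _
  obtain ⟨j, hj⟩ := IsPGroup.iff_orderOf.mp hQ q
  have := eq_one_of_sq p hp2 (q : G) ⟨j, by rw [← hj, Subgroup.orderOf_coe]⟩ h5
  exact Subtype.ext this


theorem conj_mem_centralizer (Q : Subgroup G) (n c : G)
    (hn : n ∈ Subgroup.normalizer (Q : Set G)) (hc : c ∈ Subgroup.centralizer (Q : Set G)) :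
    n * c * n⁻¹ ∈ Subgroup.centralizer (Q : Set G) := by
  rw [Subgroup.mem_centralizer_iff]
  intro q hq
  have h1 : n⁻¹ * q * n ∈ Q := (Subgroup.mem_normalizer_iff''.mp hn q).mp hq
  have h2 := Subgroup.mem_centralizer_iff.mp hc _ h1
  calc q * (n * c * n⁻¹) = n * ((n⁻¹ * q * n) * c) * n⁻¹ := by group
    _ = n * (c * (n⁻¹ * q * n)) * n⁻¹ := by rw [h2]
    _ = n * c * n⁻¹ * q := by group

theorem exists_larger (p : ℕ) [Fact p.Prime] (hp2 : p ≠ 2)
    (hC : ∀ g : G, g ≠ 1 → (∃ k : ℕ, orderOf g = p ^ k) →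
      Odd (Nat.card ↥(Subgroup.centralizer ({g} : Set G))))
    (Q : Subgroup G) (hQ : IsPGroup p ↥Q) (hQ1 : Q ≠ ⊥)
    (hev : Even (Nat.card ↥(Subgroup.normalizer (Q : Set G))))
    (hns : Nat.card Q ≠ p ^ (Nat.card G).factorization p) :
    ∃ S : Subgroup G, IsPGroup p ↥S ∧ S ≠ ⊥ ∧
      Even (Nat.card ↥(Subgroup.normalizer (S : Set G))) ∧ Nat.card Q < Nat.card S := by
  -- an involution in `N(Q)`
  haveI : Fact (Nat.Prime 2) := ⟨Nat.prime_two⟩
  obtain ⟨tN, htN⟩ := exists_prime_orderOf_dvd_card' 2 (even_iff_two_dvd.mp hev)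
  obtain ⟨t, htQ⟩ := tN
  rw [Subgroup.orderOf_mk] at htN
  -- a `p`-element of `N(Q)` outside `Q`
  obtain ⟨P₁, hQP₁⟩ := hQ.exists_le_sylow
  have hlt : Q < (P₁ : Subgroup G) := by
    refine lt_of_le_of_ne hQP₁ ?_
    intro h
    apply hns
    rw [h]
    exact P₁.card_eq_multiplicity
  obtain ⟨x, hxP, hxN, hxQ⟩ := Cfsg.Agent.Helper64.exists_mem_normalizer_not_mem P₁ Q hlt
  have hcent : ∀ z : G, z ∈ Subgroup.normalizer (Q : Set G) → (∃ k : ℕ, orderOf z = p ^ k) →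
      z ∈ Subgroup.centralizer (Q : Set G) :=
    fun z hz hzp => p_element_centralizes p hp2 hC Q hQ hQ1 t htN htQ z hz hzp
  have hzp : IsPGroup p ↥(Subgroup.zpowers x) :=
    IsPGroup.to_le P₁.2 (Subgroup.zpowers_le.mpr hxP)
  have hQ₁ : IsPGroup p ↥(Q ⊔ Subgroup.zpowers x) :=
    IsPGroup.to_sup_of_normal_left' hQ hzp (Subgroup.zpowers_le.mpr hxN)
  have hQ₁N : Q ⊔ Subgroup.zpowers x ≤ Subgroup.normalizer (Q : Set G) :=
    sup_le Subgroup.le_normalizer (Subgroup.zpowers_le.mpr hxN)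
  have hQ₁C : Q ⊔ Subgroup.zpowers x ≤ Subgroup.centralizer (Q : Set G) := by
    intro z hz
    apply hcent z (hQ₁N hz)
    obtain ⟨j, hj⟩ := IsPGroup.iff_orderOf.mp hQ₁ ⟨z, hz⟩
    exact ⟨j, by rw [← hj, Subgroup.orderOf_mk]⟩
  have hQQ₁ : Q < Q ⊔ Subgroup.zpowers x := by
    refine lt_of_le_of_ne le_sup_left ?_
    intro h
    apply hxQ
    rw [h]
    exact Subgroup.mem_sup_right (Subgroup.mem_zpowers x)
  obtain ⟨S, hQ₁S, hSC, hScard⟩ := Cfsg.Agent.Helper66.exists_le_card_eq p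
    (Subgroup.centralizer (Q : Set G)) (Q ⊔ Subgroup.zpowers x) hQ₁C hQ₁
  have hQS : Q ≤ S := le_trans le_sup_left hQ₁S
  have hcardlt : Nat.card Q < Nat.card S :=
    lt_of_lt_of_le (card_lt_of_lt' hQQ₁) (Subgroup.card_le_of_le hQ₁S)
  refine ⟨S, IsPGroup.of_card hScard, ?_, ?_, hcardlt⟩
  · intro h
    apply hQ1
    rw [h] at hQS
    exact le_bot_iff.mp hQS
  -- the conjugate of `S` under `t`
  have hStC : S.map (MulAut.conj t).toMonoidHom ≤ Subgroup.centralizer (Q : Set G) := by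
    rintro _ ⟨s, hs, rfl⟩
    exact conj_mem_centralizer Q t s htQ (hSC hs)
  have hStcard : Nat.card (S.map (MulAut.conj t).toMonoidHom) =
      p ^ (Nat.card (Subgroup.centralizer (Q : Set G))).factorization p := by
    rw [Subgroup.card_map_of_injective (MulAut.conj t).injective, hScard]
  obtain ⟨c, hcC, hc⟩ := Cfsg.Agent.Helper66.exists_conj_of_card_eq p
    (Subgroup.centralizer (Q : Set G)) S (S.map (MulAut.conj t).toMonoidHom) hSC hStC hScard hStcard
  have huN : c⁻¹ * t ∈ Subgroup.normalizer (S : Set G) := by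
    apply mem_normalizer_of_conj_mem'
    intro s hs
    have h1 : t * s * t⁻¹ ∈ S.map (MulAut.conj t).toMonoidHom := ⟨s, hs, rfl⟩
    have h2 := (hc _).mp h1
    have h3 : c⁻¹ * t * s * (c⁻¹ * t)⁻¹ = c⁻¹ * (t * s * t⁻¹) * c := by group
    rw [h3]
    exact h2
  have hinv := inverts p hC Q hQ t htN htQ
  have huinv : ∀ q ∈ Q, c⁻¹ * t * q * (c⁻¹ * t)⁻¹ = q⁻¹ := by
    intro q hq
    have h1 := Subgroup.mem_centralizer_iff.mp hcC q⁻¹ (Q.inv_mem hq)
    calc c⁻¹ * t * q * (c⁻¹ * t)⁻¹ = c⁻¹ * (t * q * t⁻¹) * c := by group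
      _ = c⁻¹ * (q⁻¹ * c) := by rw [hinv q hq, mul_assoc]
      _ = c⁻¹ * (c * q⁻¹) := by rw [h1]
      _ = q⁻¹ := by group
  have h2 := two_dvd_orderOf_of_inverts p hp2 Q hQ hQ1 _ huinv
  rw [even_iff_two_dvd]
  apply dvd_trans h2
  have := orderOf_dvd_natCard (⟨c⁻¹ * t, huN⟩ : Subgroup.normalizer (S : Set G))
  rwa [Subgroup.orderOf_mk] at this

/-- Let p be an odd prime and G a finite group of even order divisible by p in which the centralizer of every non-identity p-element has odd order. If some nontrivial p-subgroup of G has a normalizer of even order, then the normalizer of every Sylow p-subgroup of G has even order. -/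
theorem result {G : Type*} [Group G] [Finite G] (p : ℕ) [Fact p.Prime] (hp2 : p ≠ 2) (hpG : p ∣ Nat.card G) (h2G : 2 ∣ Nat.card G) (hC : ∀ g : G, g ≠ 1 → (∃ k : ℕ, orderOf g = p ^ k) → Odd (Nat.card ↥(Subgroup.centralizer ({g} : Set G)))) (Q : Subgroup G) (hQ : IsPGroup p ↥Q) (hQ1 : Q ≠ ⊥) (hev : Even (Nat.card ↥(Subgroup.normalizer (Q : Set G)))) (P : Sylow p G) : Even (Nat.card ↥(Subgroup.normalizer ((P : Subgroup G) : Set G))) := by
  let α := {S : Subgroup G // IsPGroup p ↥S ∧ S ≠ ⊥ ∧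
    Even (Nat.card ↥(Subgroup.normalizer (S : Set G)))}
  haveI : Nonempty α := ⟨⟨Q, hQ, hQ1, hev⟩⟩
  obtain ⟨⟨Q₀, hQ₀, hQ₀1, hQ₀ev⟩, hmax⟩ := Finite.exists_max (fun S : α => Nat.card (S.1 : Subgroup G))
  have hcard : Nat.card Q₀ = p ^ (Nat.card G).factorization p := by
    by_contra hns
    obtain ⟨S, hS, hS1, hSev, hlt⟩ := exists_larger p hp2 hC Q₀ hQ₀ hQ₀1 hQ₀ev hns
    have := hmax ⟨S, hS, hS1, hSev⟩
    simp only at this
    omega
  have h1 : Nat.card (Sylow p G) = (Subgroup.normalizer (Q₀ : Set G)).index :=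
    (Sylow.ofCard Q₀ hcard).card_eq_index_normalizer
  have h2 : Nat.card (Sylow p G) = (Subgroup.normalizer ((P : Subgroup G) : Set G)).index :=
    P.card_eq_index_normalizer
  have h3 := Subgroup.card_mul_index (Subgroup.normalizer (Q₀ : Set G))
  have h4 := Subgroup.card_mul_index (Subgroup.normalizer ((P : Subgroup G) : Set G))
  rw [← h1] at h3
  rw [← h2, ← h3] at h4
  have hpos : 0 < Nat.card (Sylow p G) := Nat.card_pos
  have h5 := Nat.eq_of_mul_eq_mul_right hpos h4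
  rw [h5]
  exact hQ₀ev

end Cfsg.Agent.S3982
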