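import Cfsg.Statements.S3985
import Cfsg.Agent.Lib.Helper64.TISylow
import Cfsg.Agent.Lib.Helper64.CyclicAut

set_option autoImplicit false
open Cfsg
open scoped Pointwise

namespace Cfsg.Agent.S3985

open Cfsg.Agent.Helper64 Subgroup

theorem mem_centralizer_singleton {G : Type*} [Group G] (g x : G) :
    g ∈ centralizer ({x} : Set G) ↔ x * g = g * x := by
  rw [mem_centralizer_iff]
  constructor
  · intro h; exact h x rfl
  · intro h z hz; rw [Set.mem_singleton_iff] at hz; rw [hz]; exact h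

theorem comm_of_cyclic {G : Type*} [Group G] (P : Subgroup G) (hcyc : IsCyclic P) {a b : G}
    (ha : a ∈ P) (hb : b ∈ P) : a * b = b * a := by
  have : IsMulCommutative P := IsCyclic.isMulCommutative
  have := mul_comm' (⟨a, ha⟩ : P) ⟨b, hb⟩
  exact congrArg Subtype.val this

theorem forward {G : Type*} [Group G] [Finite G] (p : ℕ) [Fact p.Prime] (P : Sylow p G)
    (hcyc : IsCyclic ↥(P : Subgroup G)) (hTI : TIelt (P : Subgroup G)) (x : G)
    (hx : x ∈ (P : Subgroup G)) (hx1 : x ≠ 1) :
    centralizer ({x} : Set G) = centralizer ((P : Subgroup G) : Set G) := by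
  have hp : p.Prime := Fact.out
  apply le_antisymm _ (centralizer_le (Set.singleton_subset_iff.mpr hx))
  intro g hg
  rw [mem_centralizer_singleton] at hg
  have hgN : g ∈ normalizer ((P : Subgroup G) : Set G) := by
    apply hTI g x hx _ hx1
    have : g⁻¹ * x * g = x := by rw [mul_assoc, hg]; group
    rw [this]; exact hx
  have hpos : 0 < orderOf g := orderOf_pos g
  obtain ⟨a, m, hm, hgam⟩ := Nat.exists_eq_pow_mul_and_not_dvd hpos.ne' p hp.ne_one
  have hmpos : 0 < m := by
    rcases Nat.eq_zero_or_pos m with h | h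
    · rw [h, mul_zero] at hgam; omega
    · exact h
  have hppos : 0 < p ^ a := pow_pos hp.pos a
  -- the `p`-part
  have h1 : g ^ m ∈ centralizer ((P : Subgroup G) : Set G) := by
    have ho : orderOf (g ^ m) = p ^ a := by
      rw [orderOf_pow' g hmpos.ne', hgam, Nat.gcd_mul_left_left, Nat.mul_div_cancel _ hmpos]
    have hz : IsPGroup p (zpowers (g ^ m)) :=
      IsPGroup.of_card (n := a) (by rw [Nat.card_zpowers, ho])
    have hmem : g ^ m ∈ zpowers (g ^ m) ⊓ normalizer ((P : Subgroup G) : Set G) :=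
      ⟨mem_zpowers _, pow_mem hgN m⟩
    have e := hz.inf_normalizer_sylow P
    have hmem' : g ^ m ∈ zpowers (g ^ m) ⊓ (P : Subgroup G) := by
      rw [← e]; exact hmem
    rw [mem_centralizer_iff]
    intro y hy
    exact comm_of_cyclic _ hcyc hy hmem'.2
  -- the `p'`-part
  have h2 : g ^ (p ^ a) ∈ centralizer ((P : Subgroup G) : Set G) := by
    have ho : orderOf (g ^ (p ^ a)) = m := by
      rw [orderOf_pow' g hppos.ne', hgam, Nat.gcd_mul_right_left, Nat.mul_div_cancel_left _ hppos]
    have hcop : (orderOf (g ^ (p ^ a))).Coprime p := by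
      rw [ho]; exact ((Nat.Prime.coprime_iff_not_dvd hp).mpr hm).symm
    have hcomm : g ^ (p ^ a) * x = x * g ^ (p ^ a) := by
      have : Commute g x := hg.symm
      exact (this.pow_left _)
    have := commute_of_coprime_of_cyclic (P : Subgroup G) P.2 hcyc (g ^ (p ^ a))
      (pow_mem hgN _) hcop x hx hx1 hcomm
    rw [mem_centralizer_iff]
    intro y hy
    exact (this y hy).symm
  -- combine
  have hcopz : IsCoprime (m : ℤ) ((p ^ a : ℕ) : ℤ) := by
    apply Nat.Coprime.isCoprime
    exact Nat.Coprime.pow_right a ((Nat.Prime.coprime_iff_not_dvd hp).mpr hm).symm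
  obtain ⟨u, v, huv⟩ := hcopz
  have hg_eq : g = (g ^ m) ^ u * (g ^ (p ^ a)) ^ v := by
    rw [← zpow_natCast g m, ← zpow_natCast g (p ^ a), ← zpow_mul, ← zpow_mul, ← zpow_add,
      mul_comm (m : ℤ) u, mul_comm ((p ^ a : ℕ) : ℤ) v, huv, zpow_one]
  rw [hg_eq]
  exact mul_mem (zpow_mem h1 u) (zpow_mem h2 v)

theorem backward {G : Type*} [Group G] [Finite G] (p : ℕ) [Fact p.Prime] (P : Sylow p G)
    (hcyc : IsCyclic ↥(P : Subgroup G))
    (h : ∀ x : G, x ∈ (P : Subgroup G) → x ≠ 1 →
      centralizer ({x} : Set G) = centralizer ((P : Subgroup G) : Set G)) :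
    TIelt (P : Subgroup G) := by
  intro g x hx hgx hx1
  set C := centralizer ((P : Subgroup G) : Set G) with hC
  have hPC : (P : Subgroup G) ≤ C := by
    intro y hy
    rw [mem_centralizer_iff]
    intro z hz
    exact comm_of_cyclic _ hcyc hz hy
  have hgPC : ((g • P : Sylow p G) : Subgroup G) ≤ C := by
    intro y hy
    rw [mem_smul_sylow_iff] at hy
    rw [← h x hx hx1, mem_centralizer_singleton]
    have hcomm := comm_of_cyclic _ hcyc hgx hy
    have e1 : x * y = g * ((g⁻¹ * x * g) * (g⁻¹ * y * g)) * g⁻¹ := by group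
    have e2 : y * x = g * ((g⁻¹ * y * g) * (g⁻¹ * x * g)) * g⁻¹ := by group
    rw [e1, e2, hcomm]
  obtain ⟨l, hl, hlP⟩ := exists_mem_smul_eq_of_le P (g • P) C hPC hgPC
  rw [← mul_smul] at hlP
  have hlg : l * g ∈ normalizer ((P : Subgroup G) : Set G) :=
    (Sylow.smul_eq_iff_mem_normalizer (g := l * g) (P := P)).mp hlP
  have hlN : l ∈ normalizer ((P : Subgroup G) : Set G) := centralizer_le_normalizer _ hl
  have : g = l⁻¹ * (l * g) := by group
  rw [this]
  exact mul_mem (inv_mem hlN) hlg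

theorem result {G : Type*} [Group G] [Finite G] (p : ℕ) [Fact p.Prime] (P : Sylow p G) (hcyc : IsCyclic ↥(P : Subgroup G)) : (∀ g : G, g ∉ Subgroup.normalizer ((P : Subgroup G) : Set G) → (P : Subgroup G) ⊓ (MulAut.conj g • (P : Subgroup G)) = ⊥) ↔ ∀ x : G, x ∈ (P : Subgroup G) → x ≠ 1 → Subgroup.centralizer ({x} : Set G) = Subgroup.centralizer ((P : Subgroup G) : Set G) := by
  rw [ti_iff_tielt]
  exact ⟨fun hTI x hx hx1 => forward p P hcyc hTI x hx hx1, backward p P hcyc⟩

end Cfsg.Agent.S3985
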