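import Cfsg.Statements.S3987
import Cfsg.Agent.Lib.Helper64.DirectFactor

set_option autoImplicit false
open Cfsg

namespace Cfsg.Agent.S3987

open Cfsg.Agent.Helper64 Subgroup

theorem coprime_orders {p : ℕ} [Fact p.Prime] {G : Type*} [Group G] (x y : G)
    (hx : ∃ a : ℕ, orderOf x = p ^ a) (hy : ∃ q b : ℕ, q.Prime ∧ q ≠ p ∧ orderOf y = q ^ b) :
    (orderOf x).Coprime (orderOf y) := by
  obtain ⟨a, ha⟩ := hx
  obtain ⟨q, b, hq, hqp, hb⟩ := hy
  rw [ha, hb]
  exact Nat.Coprime.pow _ _ ((Nat.coprime_primes (Fact.out : p.Prime) hq).mpr (Ne.symm hqp))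

theorem mem_centralizer_singleton {G : Type*} [Group G] (g x : G) :
    g ∈ centralizer ({x} : Set G) ↔ x * g = g * x := by
  rw [mem_centralizer_iff]
  constructor
  · intro h; exact h x rfl
  · intro h z hz; rw [Set.mem_singleton_iff] at hz; rw [hz]; exact h

theorem result {G : Type*} [Group G] [Finite G] (p : ℕ) [Fact p.Prime] : (∃ (P : Sylow p G) (K : Subgroup G), (P : Subgroup G).Normal ∧ K.Normal ∧ (P : Subgroup G) ⊓ K = ⊥ ∧ (P : Subgroup G) ⊔ K = ⊤) ↔ ∀ x y : G, (∃ a : ℕ, orderOf x = p ^ a) → (∃ q b : ℕ, q.Prime ∧ q ≠ p ∧ orderOf y = q ^ b) → (Subgroup.centralizer ({x * y} : Set G)).index = (Subgroup.centralizer ({x} : Set G)).index * (Subgroup.centralizer ({y} : Set G)).index := by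
  constructor
  · rintro ⟨P, K, hP, hK, hinf, hsup⟩ x y hx hy
    have hxy := commute_of_direct_factor P K hP hK hinf hsup x y hx hy
    have hcop := coprime_orders x y hx hy
    rw [centralizer_mul_of_coprime x y hxy hcop]
    set A := centralizer ({x} : Set G)
    set B := centralizer ({y} : Set G)
    obtain ⟨a, ha⟩ := hx
    obtain ⟨q, b, hq, hqp, hb⟩ := hy
    have hxP := mem_normal_sylow_of_orderOf P hP x a ha
    have hyK := mem_complement_of_orderOf P K hsup y q b hq hqp hb
    have hdis : Disjoint (P : Subgroup G) K := disjoint_iff.mpr hinf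
    have hKA : K ≤ A := by
      intro k hk
      rw [mem_centralizer_singleton]
      exact commute_of_normal_of_disjoint _ _ hP hK hdis x k hxP hk
    have hPB : (P : Subgroup G) ≤ B := by
      intro z hz
      rw [mem_centralizer_singleton]
      exact (commute_of_normal_of_disjoint _ _ hP hK hdis z y hz hyK).symm
    obtain ⟨j, hj⟩ := index_complement_eq_pow P K hsup
    have hA : A.index ∣ p ^ j := hj ▸ index_dvd_of_le hKA
    have hB : B.index ∣ (P : Subgroup G).index := index_dvd_of_le hPB
    have hcopi : (A.index).Coprime B.index := by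
      have h1 : (p ^ j).Coprime (P : Subgroup G).index :=
        Nat.Coprime.pow_left j
          ((Nat.Prime.coprime_iff_not_dvd (Fact.out : p.Prime)).mpr P.not_dvd_index)
      exact Nat.Coprime.coprime_dvd_left hA (Nat.Coprime.coprime_dvd_right hB h1)
    have hdvd : A.index * B.index ∣ (A ⊓ B).index :=
      Nat.Coprime.mul_dvd_of_dvd_of_dvd hcopi (index_dvd_of_le inf_le_left)
        (index_dvd_of_le inf_le_right)
    have hle : (A ⊓ B).index ≤ A.index * B.index := index_inf_le
    have hpos : (A ⊓ B).index ≠ 0 := index_ne_zero_of_finite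
    exact le_antisymm hle (Nat.le_of_dvd (Nat.pos_of_ne_zero hpos) hdvd)
  · intro h
    apply direct_factor_of_commute p
    intro x y hx hy
    have hidx := h x y hx hy
    set A := centralizer ({x} : Set G)
    set B := centralizer ({y} : Set G)
    set C := centralizer ({x * y} : Set G)
    have hAB : A ⊓ B ≤ C := by
      intro g hg
      rw [mem_inf, mem_centralizer_singleton, mem_centralizer_singleton] at hg
      rw [mem_centralizer_singleton]
      calc x * y * g = x * (y * g) := mul_assoc _ _ _
        _ = x * (g * y) := by rw [hg.2]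
        _ = (x * g) * y := (mul_assoc _ _ _).symm
        _ = g * x * y := by rw [hg.1]
        _ = g * (x * y) := mul_assoc _ _ _
    have h1 : (A ⊓ B).index ≤ C.index := by
      rw [hidx]; exact index_inf_le
    have h2 : C.index ∣ (A ⊓ B).index := index_dvd_of_le hAB
    have h3 : (A ⊓ B).index = C.index :=
      le_antisymm h1 (Nat.le_of_dvd (Nat.pos_of_ne_zero index_ne_zero_of_finite) h2)
    have h4 : A ⊓ B = C := by
      have hrel : (A ⊓ B).relIndex C = 1 := by
        have := relIndex_mul_index hAB
        rw [h3] at this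
        have hpos : 0 < C.index := Nat.pos_of_ne_zero index_ne_zero_of_finite
        exact Nat.eq_of_mul_eq_mul_right hpos (by rw [this, one_mul])
      exact le_antisymm hAB (relIndex_eq_one.mp hrel)
    have h5 : x * y ∈ C := by
      rw [mem_centralizer_singleton]
    rw [← h4, mem_inf, mem_centralizer_singleton] at h5
    have h6 : x * (x * y) = (x * y) * x := h5.1
    have h7 : x * (x * y) = x * (y * x) := by rw [h6, mul_assoc]
    exact mul_left_cancel h7

end Cfsg.Agent.S3987
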