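import Mathlib
import Cfsg.Statements.S3992
import Cfsg.Agent.Lib.Helper60.CPMin

set_option autoImplicit false
set_option linter.style.haveILetI false
open Cfsg

namespace Cfsg.Agent.S3992

/-- Let G be a finite non-solvable group in which every element has prime-power order, and let R be its largest solvable normal subgroup. Then R is a p-group for some prime p; G/R has a non-abelian simple normal subgroup contained in every nontrivial normal subgroup of G/R (its unique minimal normal subgroup); and the order of every solvable subgroup of G has at most two prime divisors. -/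
theorem result {G : Type*} [Group G] [Finite G] (hns : ¬ Group.IsSolvable G) (hpp : ∀ g : G, g ≠ 1 → IsPrimePow (orderOf g))
    (R : Subgroup G) [R.Normal] (hRs : Group.IsSolvable ↥R) (hRmax : ∀ N : Subgroup G, N.Normal → Group.IsSolvable ↥N → N ≤ R) :
    (∃ p : ℕ, p.Prime ∧ IsPGroup p ↥R) ∧
      (∃ M : Subgroup (G ⧸ R), M.Normal ∧ IsSimpleGroup ↥M ∧ ¬ IsMulCommutative ↥M ∧
        ∀ N : Subgroup (G ⧸ R), N.Normal → N ≠ ⊥ → M ≤ N) ∧
      ∀ H : Subgroup G, Group.IsSolvable ↥H → (Nat.card ↥H).primeFactors.card ≤ 2 := by
  have hcp : Cfsg.Agent.Helper60.CP G := hpp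
  refine ⟨Cfsg.Agent.Helper60.radical_isPGroup hns hcp R hRs, ?_, ?_⟩
  · haveI : Nontrivial (G ⧸ R) := by
      by_contra h
      rw [not_nontrivial_iff_subsingleton] at h
      have hR : R = ⊤ := QuotientGroup.subsingleton_iff.mp h
      apply hns
      haveI := hRs
      refine Group.isSolvable_of_surjective (f := R.subtype) ?_
      intro x
      exact ⟨⟨x, hR ▸ Subgroup.mem_top x⟩, rfl⟩
    exact Cfsg.Agent.Helper60.exists_unique_minimal_simple (hcp.quotient R)
      (fun N hN hNs => Cfsg.Agent.Helper60.eq_bot_of_solvable_normal_quotient R hRs hRmax N hN hNs)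
  · intro H hH
    haveI := hH
    exact Cfsg.Agent.Helper60.solvable_cp_card (hcp.subgroup H)

end Cfsg.Agent.S3992
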