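import Cfsg.Statements.S3994
import Cfsg.Agent.Lib.Helper66.Frobenius

set_option autoImplicit false
open Cfsg

namespace Cfsg.Agent.S3994

open Cfsg.Agent.Helper66

theorem dvd_orderOf_pow_iff {G : Type*} [Group G] [Finite G] (n q e v s : ℕ) (hq : q.Prime)
    (hqn : Nat.Coprime n q) (hcop : Nat.Coprime (q ^ e) v)
    (hs0 : s ≡ 0 [MOD q ^ e]) (hs1 : s ≡ 1 [MOD v]) (x : G) (hx : x ^ (q ^ e * v) = 1) :
    n ∣ orderOf (x ^ s) ↔ n ∣ orderOf x := by
  have hus : q ^ e ∣ s := (Nat.modEq_zero_iff_dvd).mp hs0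
  set y := x ^ s with hy
  set z := x * (x ^ s)⁻¹ with hz
  have hyv : y ^ v = 1 := decomp_aux1 (q ^ e) v s hus x hx
  have hzu : z ^ q ^ e = 1 := decomp_aux3 (q ^ e) v s hs1 x hx
  have hyz : Commute y z := decomp_aux2 s x
  have hxyz : y * z = x := by
    rw [hyz.eq, hz, mul_assoc, inv_mul_cancel, mul_one]
  have hoy : orderOf y ∣ v := orderOf_dvd_of_pow_eq_one hyv
  have hoz : orderOf z ∣ q ^ e := orderOf_dvd_of_pow_eq_one hzu
  have hco : Nat.Coprime (orderOf y) (orderOf z) :=
    Nat.Coprime.coprime_dvd_left hoy (Nat.Coprime.coprime_dvd_right hoz hcop.symm)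
  have hox : orderOf x = orderOf y * orderOf z := by
    rw [← hxyz]; exact hyz.orderOf_mul_eq_mul_orderOf_of_coprime hco
  have hnz : Nat.Coprime n (orderOf z) :=
    Nat.Coprime.coprime_dvd_right hoz (Nat.Coprime.pow_right e hqn)
  rw [hox]
  constructor
  · intro h; exact Dvd.dvd.mul_right h _
  · intro h; exact hnz.dvd_of_dvd_mul_right h

/-- Let G be a finite group and n a positive integer. The number of elements of G whose order is divisible by n is either 0 or divisible by the largest divisor of the order of G that is coprime to n. -/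
theorem result {G : Type*} [Group G] [Finite G] (n : ℕ) (hn : 0 < n) :
    Nat.card {g : G // n ∣ orderOf g} = 0 ∨
      (Nat.card G / Nat.gcd (Nat.card G) (n ^ Nat.card G)) ∣ Nat.card {g : G // n ∣ orderOf g} := by
  right
  set N := Nat.card G with hN
  have hN0 : N ≠ 0 := Nat.card_pos.ne'
  set g := Nat.gcd N (n ^ N) with hg
  have hgN : g ∣ N := Nat.gcd_dvd_left _ _
  have hKg : N / g * g = N := Nat.div_mul_cancel hgN
  rw [Nat.dvd_iff_prime_pow_dvd_dvd]
  intro q k hq hqk
  rcases Nat.eq_zero_or_pos k with rfl | hkpos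
  · simp
  set e := N.factorization q with he
  set v := N / q ^ e with hv
  have hNv : q ^ e * v = N := Nat.ordProj_mul_ordCompl_eq_self N q
  have hcop : Nat.Coprime (q ^ e) v := Nat.Coprime.pow_left e (Nat.coprime_ordCompl hq hN0)
  have hqK : q ∣ N / g := (dvd_pow_self q hkpos.ne').trans hqk
  -- q does not divide n
  have hqn : Nat.Coprime n q := by
    rw [Nat.coprime_comm, Nat.Prime.coprime_iff_not_dvd hq]
    intro hqn
    have h1 : q ^ e ∣ N := Nat.ordProj_dvd N q
    have heN : e ≤ N := by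
      have : q ^ e ≤ N := Nat.le_of_dvd (Nat.pos_of_ne_zero hN0) h1
      exact (Nat.lt_pow_self hq.one_lt).le.trans this
    have h2 : q ^ e ∣ n ^ N := (pow_dvd_pow q heN).trans (pow_dvd_pow_of_dvd hqn N)
    have h3 : q ^ e ∣ g := Nat.dvd_gcd h1 h2
    have h4 : q ^ (e + 1) ∣ N := by
      rw [← hKg, pow_succ, mul_comm]
      exact Nat.mul_dvd_mul hqK h3
    exact Nat.pow_succ_factorization_not_dvd hN0 hq h4
  have hke : k ≤ e := by
    have : q ^ k ∣ N := hqk.trans (Dvd.intro _ hKg)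
    exact (hq.pow_dvd_iff_le_factorization hN0).mp this
  obtain ⟨s, hs0, hs1⟩ := Nat.chineseRemainder hcop 0 1
  have hQ : ∀ (c : ConjAct G) (y : G), n ∣ orderOf y → n ∣ orderOf (c • y) := by
    intro c y hy
    have : orderOf (c • y) = orderOf y := by
      rw [ConjAct.smul_def]
      exact (SemiconjBy.orderOf_eq (ConjAct.ofConjAct c) (x := y)
        (y := ConjAct.ofConjAct c * y * (ConjAct.ofConjAct c)⁻¹) (by simp [SemiconjBy])).symm
    rw [this]; exact hy
  have h1 := frobenius_weighted (G := G) q e v s hq hs0 hs1 (fun y => n ∣ orderOf y) hQ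
  have h2 : Nat.gcd (q ^ e) (Nat.card G) = q ^ e := Nat.gcd_eq_left (Nat.ordProj_dvd N q)
  rw [h2] at h1
  have h3 : Nat.card {x : G // x ^ (q ^ e * v) = 1 ∧ n ∣ orderOf (x ^ s)} =
      Nat.card {g : G // n ∣ orderOf g} := by
    apply Nat.card_congr
    apply Equiv.subtypeEquivRight
    intro x
    have hx : x ^ (q ^ e * v) = 1 := by rw [hNv]; exact pow_card_eq_one'
    rw [dvd_orderOf_pow_iff n q e v s hq hqn hcop hs0 hs1 x hx]
    exact ⟨fun h => h.2, fun h => ⟨hx, h⟩⟩
  rw [h3] at h1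
  exact (pow_dvd_pow q hke).trans h1

end Cfsg.Agent.S3994
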