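import Cfsg.Statements.S3995
import Cfsg.Agent.S0016
import Cfsg.Agent.Lib.Helper66.OrderType

set_option autoImplicit false
open Cfsg

namespace Cfsg.Agent.S3995

open Cfsg.Agent.Helper66

/-- A finite `p`-group of exponent dividing `p` which is nontrivial has exponent `p`. -/
theorem exponent_eq_of_forall_pow {Q : Type*} [Group Q] (p : ℕ) (hp : p.Prime) [Nontrivial Q]
    (h : ∀ g : Q, g ^ p = 1) : Monoid.exponent Q = p := by
  have hdvd : Monoid.exponent Q ∣ p := Monoid.exponent_dvd_of_forall_pow_eq_one h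
  rcases (Nat.dvd_prime hp).mp hdvd with h5 | h5
  · exfalso
    have hsub : Subsingleton Q := Monoid.exp_eq_one_iff.mp h5
    exact not_subsingleton Q hsub
  · exact h5


theorem orderOf_conj_eq {G : Type*} [Group G] (g x : G) : orderOf (g * x * g⁻¹) = orderOf x := by
  have h : SemiconjBy g x (g * x * g⁻¹) := by
    show g * x = g * x * g⁻¹ * g
    group
  exact (h.orderOf_eq g).symm

/-- The mixed case: `2` and an odd prime divide the order. -/
theorem case_mixed {G : Type*} [Group G] [Finite G] {n : ℕ} {s : ℕ → ℕ} (T : OrderType2 G n s)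
    (p : ℕ) (hp : p.Prime) (hp3 : 3 ≤ p) (hpd : p ∣ Nat.card G) (h2d : 2 ∣ Nat.card G) :
    ∃ (p : ℕ) (P : Type) (_ : Group P) (_ : Finite P), p.Prime ∧ p ≠ 2 ∧ IsPGroup p P ∧
      Monoid.exponent P = p ∧ Nonempty (G ≃* Multiplicative (ZMod 2) × P) := by
  have : Fact p.Prime := ⟨hp⟩
  obtain ⟨hs2, -⟩ := T.s_two_eq_one p hp hp3 hpd h2d
  have h4 : ¬ 4 ∣ Nat.card G := fun h4 => T.not_four_dvd p hp hp3 hpd h4
  obtain ⟨S⟩ : Nonempty (Sylow p G) := inferInstance
  -- the index of `S` is `2`
  have hidx : (S : Subgroup G).index = 2 := by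
    have hq : ∀ {q : ℕ}, q.Prime → q ∣ (S : Subgroup G).index → q = 2 := by
      intro q hq hqd
      have hqG : q ∣ Nat.card G := hqd.trans (Subgroup.index_dvd_card _)
      by_contra hq2
      have hq3 : 3 ≤ q := by have := hq.two_le; omega
      have hqp := T.odd_prime_unique q p hq hp hq3 hp3 hqG hpd
      subst hqp
      exact S.not_dvd_index hqd
    have hpow := Nat.eq_prime_pow_of_unique_prime_dvd Subgroup.index_ne_zero_of_finite hq
    obtain ⟨j, hj⟩ : ∃ j : ℕ, j = ((S : Subgroup G).index).primeFactorsList.length := ⟨_, rfl⟩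
    rw [← hj] at hpow
    have hj1 : j ≤ 1 := by
      by_contra hjn
      have h5 : 4 ∣ (S : Subgroup G).index := by
        rw [hpow]
        have : (4 : ℕ) = 2 ^ 2 := by norm_num
        rw [this]
        exact pow_dvd_pow 2 (by omega)
      exact h4 (h5.trans (Subgroup.index_dvd_card _))
    have hj0 : j ≠ 0 := by
      intro hj0
      rw [hj0, pow_zero] at hpow
      have h1 := (S : Subgroup G).card_mul_index
      rw [hpow, mul_one] at h1
      obtain ⟨k, hk⟩ := IsPGroup.iff_card.mp S.2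
      rw [← h1, hk] at h2d
      have h6 := Nat.Prime.dvd_of_dvd_pow Nat.prime_two h2d
      have h7 := (Nat.prime_dvd_prime_iff_eq Nat.prime_two hp).mp h6
      omega
    have hj' : j = 1 := by omega
    rw [hpow, hj', pow_one]
  -- the involution
  obtain ⟨t, ht⟩ := OrderType2.cauchy (G := G) 2 Nat.prime_two h2d
  have htuniq : ∀ u : G, orderOf u = 2 → u = t := by
    intro u hu
    have h1 : s 2 = 1 := hs2
    rw [T.hs 2, Nat.card_eq_one_iff_unique] at h1
    obtain ⟨hsub, -⟩ := h1
    exact congrArg Subtype.val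
      (Subsingleton.elim (⟨u, hu⟩ : {g : G // orderOf g = 2}) ⟨t, ht⟩)
  have htc : ∀ g : G, g * t = t * g := by
    intro g
    have h1 : orderOf (g * t * g⁻¹) = 2 := by rw [orderOf_conj_eq]; exact ht
    have h2 := htuniq _ h1
    calc g * t = (g * t * g⁻¹) * g := by group
      _ = t * g := by rw [h2]
  have hodd : Odd (Nat.card (S : Subgroup G)) := by
    obtain ⟨k, hk⟩ := IsPGroup.iff_card.mp S.2
    rw [hk]
    exact Odd.pow (hp.odd_of_ne_two (by omega))
  obtain ⟨e⟩ := nonempty_mulEquiv_prod_of_central_involution t ht htc (S : Subgroup G) hidx hodd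
  obtain ⟨P, instG, instF, ⟨f⟩⟩ := exists_type_zero_copy (S : Subgroup G)
  refine ⟨p, P, instG, instF, hp, by omega, S.2.of_equiv f, ?_,
    ⟨e.trans (MulEquiv.prodCongr (MulEquiv.refl _) f)⟩⟩
  rw [← Monoid.exponent_eq_of_mulEquiv f]
  have hSnt : Nontrivial (S : Subgroup G) := by
    apply Finite.one_lt_card_iff_nontrivial.mp
    have h1 : p ∣ Nat.card (S : Subgroup G) := by
      rw [S.card_eq_multiplicity]
      exact dvd_pow_self p
        ((Nat.Prime.factorization_pos_of_dvd hp Nat.card_pos.ne' hpd).ne')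
    have := Nat.le_of_dvd Nat.card_pos h1
    omega
  apply exponent_eq_of_forall_pow p hp
  apply pow_eq_one_of_no_sq p hp S.2
  rintro ⟨w, hw⟩
  have hw' : orderOf (w : G) = p ^ 2 := by rw [Subgroup.orderOf_coe]; exact hw
  have hd : p ^ 2 ∣ Nat.card G := hw' ▸ orderOf_dvd_natCard (w : G)
  exact T.s_ne_zero (p ^ 2) ⟨w, hw'⟩ (T.s_sq_eq_zero p hp hp3 hd)


/-- The `2`-group case. -/
theorem case_two_group {G : Type*} [Group G] [Finite G] {n : ℕ} {s : ℕ → ℕ}
    (T : OrderType2 G n s) (hG : IsPGroup 2 G) (h2d : 2 ∣ Nat.card G) :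
    (∃ p : ℕ, p.Prime ∧ IsPGroup p G ∧ 3 ≤ Nat.card G ∧ Monoid.exponent G = p) ∨
      Nonempty (G ≃* QuaternionGroup 2) ∨ (IsCyclic G ∧ Nat.card G = 4) := by
  have : Fact (Nat.Prime 2) := ⟨Nat.prime_two⟩
  obtain ⟨t, ht⟩ := OrderType2.cauchy (G := G) 2 Nat.prime_two h2d
  have hnt : Nontrivial G := ⟨⟨t, 1, by rintro rfl; rw [orderOf_one] at ht; omega⟩⟩
  rcases T.hV 2 ⟨t, ht⟩ with hs2 | hs2
  · -- unique involution
    right
    obtain ⟨m, ⟨g, hg⟩, hm⟩ := T.hatt
    obtain ⟨j, hj⟩ := IsPGroup.iff_orderOf.mp hG g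
    have hj2 : 2 ≤ j := by
      by_contra hlt
      have : j = 0 ∨ j = 1 := by omega
      rcases this with rfl | rfl
      · rw [pow_zero] at hj; rw [← hg, hj, T.s_one] at hm; exact T.hn hm.symm
      · rw [pow_one] at hj; rw [← hg, hj, hs2] at hm; exact T.hn hm.symm
    obtain ⟨w4, hw4⟩ := exists_orderOf_eq_pow_of_le 2 2 j Nat.prime_two hj2 g hj
    have h4d : 4 ∣ Nat.card G := by
      have := orderOf_dvd_natCard w4
      rw [hw4] at this
      exact this
    have hno8 : ¬ ∃ g : G, orderOf g = 2 ^ 3 := by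
      rintro ⟨w, hw⟩
      have hw' : orderOf w = 8 := by rw [hw]; norm_num
      have h8d : 8 ∣ Nat.card G := hw' ▸ orderOf_dvd_natCard w
      exact T.s_ne_zero 8 ⟨w, hw'⟩ (T.s_eight_eq_zero hs2 h8d)
    have htuniq : ∀ u : G, orderOf u = 2 → u = t := by
      intro u hu
      have h1 : s 2 = 1 := hs2
      rw [T.hs 2, Nat.card_eq_one_iff_unique] at h1
      obtain ⟨hsub, -⟩ := h1
      exact congrArg Subtype.val
        (Subsingleton.elim (⟨u, hu⟩ : {g : G // orderOf g = 2}) ⟨t, ht⟩)
    have huniq : ∀ H K : Subgroup G, Nat.card H = 2 → Nat.card K = 2 → H = K := by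
      have key : ∀ H : Subgroup G, Nat.card H = 2 → H = Subgroup.zpowers t := by
        intro H hH
        obtain ⟨u, hu⟩ := exists_prime_orderOf_dvd_card' (G := H) 2 (by rw [hH])
        have hu' : orderOf (u : G) = 2 := by rw [Subgroup.orderOf_coe]; exact hu
        have hut := htuniq _ hu'
        symm
        apply Subgroup.eq_of_le_of_card_ge
        · rw [Subgroup.zpowers_le, ← hut]; exact u.2
        · rw [hH, Nat.card_zpowers, ht]
      intro H K hH hK
      rw [key H hH, key K hK]
    rcases Cfsg.Agent.S0016.result 2 hG huniq with hcyc | ⟨-, k, ⟨e⟩⟩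
    · right
      refine ⟨hcyc, ?_⟩
      obtain ⟨g, hg⟩ := hcyc.exists_generator
      have hgo : orderOf g = Nat.card G := orderOf_eq_card_of_forall_mem_zpowers hg
      obtain ⟨a, ha⟩ := IsPGroup.iff_card.mp hG
      have ha2 : 2 ≤ a := by
        by_contra hlt
        have : a = 0 ∨ a = 1 := by omega
        rcases this with rfl | rfl
        · rw [ha] at h4d; norm_num at h4d
        · rw [ha] at h4d; norm_num at h4d
      have ha3 : a < 3 := by
        by_contra hge
        exact hno8 (exists_orderOf_eq_pow_of_le 2 3 a Nat.prime_two (by omega) g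
          (by rw [hgo, ha]))
      have ha' : a = 2 := by omega
      rw [ha, ha']
      norm_num
    · rcases k with _ | _ | k
      · right
        have h1 : IsCyclic (QuaternionGroup 1) := QuaternionGroup.quaternionGroup_one_isCyclic
        refine ⟨(MulEquiv.isCyclic e).mpr h1, ?_⟩
        have h2 : Nat.card (QuaternionGroup 1) = 4 := by
          rw [Nat.card_eq_fintype_card, QuaternionGroup.card]
        rw [← h2]
        exact Nat.card_congr e.toEquiv
      · left
        exact ⟨e⟩
      · exfalso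
        apply hno8
        have hne : NeZero (2 ^ (k + 2)) := ⟨pow_ne_zero _ (by norm_num)⟩
        have h1 : orderOf (e.symm (QuaternionGroup.a 1)) = 2 ^ (k + 3) := by
          rw [MulEquiv.orderOf_eq, QuaternionGroup.orderOf_a_one]
          ring
        exact exists_orderOf_eq_pow_of_le 2 3 (k + 3) Nat.prime_two (by omega) _ h1
  · -- the involutions number `n`: elementary abelian
    left
    have hno4 : ¬ ∃ g : G, orderOf g = 2 ^ 2 := by
      rintro ⟨w, hw⟩
      have hw' : orderOf w = 4 := by rw [hw]; norm_num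
      have h4d : 4 ∣ Nat.card G := hw' ▸ orderOf_dvd_natCard w
      exact T.s_ne_zero 4 ⟨w, hw'⟩ (T.s_four_of_s_two_eq_n hs2 h4d)
    have hexp : ∀ g : G, g ^ 2 = 1 := pow_eq_one_of_no_sq 2 Nat.prime_two hG hno4
    refine ⟨2, Nat.prime_two, hG, ?_, exponent_eq_of_forall_pow 2 Nat.prime_two hexp⟩
    by_contra hlt
    have hc2 : Nat.card G = 2 := by
      have := Nat.le_of_dvd Nat.card_pos h2d
      omega
    have h1 := card_pow_eq_one_eq_sum (G := G) 2 [1, 2] (by simp)
      (by intro d; simp [Nat.dvd_prime Nat.prime_two])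
    simp only [List.map_cons, List.map_nil, List.sum_cons, List.sum_nil, add_zero] at h1
    rw [← T.hs 1, ← T.hs 2, T.s_one, hs2] at h1
    have h2 : Nat.card {g : G // g ^ 2 = 1} ≤ Nat.card G := Finite.card_subtype_le _
    have h3 : n ≠ 0 := by rw [← hs2]; exact T.s_ne_zero 2 ⟨t, ht⟩
    have := T.hn
    omega

/-- Let G be a finite group such that the numbers of elements of each order that occurs in G (the numbers #{g : o(g) = m}, m ranging over the element orders of G) take exactly two values, 1 and some n ≠ 1. Then either G is a p-group of exponent p and order at least 3 for some prime p, or G is the quaternion group of order 8, or G is cyclic of order 4, or G ≅ Z₂ × P for a p-group P of exponent p with p an odd prime. -/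
theorem result {G : Type*} [Group G] [Finite G] (n : ℕ) (hn : n ≠ 1) (h : ((fun m : ℕ => Nat.card {g : G // orderOf g = m}) '' Set.range (orderOf : G → ℕ)) = {1, n}) :
    (∃ p : ℕ, p.Prime ∧ IsPGroup p G ∧ 3 ≤ Nat.card G ∧ Monoid.exponent G = p) ∨
      Nonempty (G ≃* QuaternionGroup 2) ∨ (IsCyclic G ∧ Nat.card G = 4) ∨
      (∃ (p : ℕ) (P : Type) (_ : Group P) (_ : Finite P), p.Prime ∧ p ≠ 2 ∧ IsPGroup p P ∧ Monoid.exponent P = p ∧
        Nonempty (G ≃* Multiplicative (ZMod 2) × P)) := by
  classical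
  obtain ⟨s, hsdef⟩ : ∃ s : ℕ → ℕ, s = fun m => Nat.card {g : G // orderOf g = m} := ⟨_, rfl⟩
  have T : OrderType2 G n s := by
    refine ⟨fun m => by rw [hsdef], ?_, ?_, hn⟩
    · rintro m ⟨g, hg⟩
      have h1 : s m ∈ ((fun m : ℕ => Nat.card {g : G // orderOf g = m}) ''
          Set.range (orderOf : G → ℕ)) := ⟨m, ⟨g, hg⟩, by rw [hsdef]⟩
      rw [h] at h1
      simpa using h1
    · have h1 : n ∈ ((fun m : ℕ => Nat.card {g : G // orderOf g = m}) ''
          Set.range (orderOf : G → ℕ)) := by rw [h]; simp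
      obtain ⟨m, ⟨g, hg⟩, hm⟩ := h1
      exact ⟨m, ⟨g, hg⟩, by rw [hsdef]; exact hm⟩
  -- `G` is nontrivial
  have hnt : Nontrivial G := by
    by_contra hnt
    rw [not_nontrivial_iff_subsingleton] at hnt
    obtain ⟨m, ⟨g, hg⟩, hm⟩ := T.hatt
    have hg1 : g = 1 := Subsingleton.elim _ _
    rw [hg1, orderOf_one] at hg
    rw [← hg, T.s_one] at hm
    exact hn hm.symm
  have hcard1 : Nat.card G ≠ 1 := by
    intro h1
    have := Finite.one_lt_card_iff_nontrivial.mpr hnt
    omega
  by_cases h2 : 2 ∣ Nat.card G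
  · by_cases hoddp : ∃ p : ℕ, p.Prime ∧ 3 ≤ p ∧ p ∣ Nat.card G
    · obtain ⟨p, hp, hp3, hpd⟩ := hoddp
      exact Or.inr (Or.inr (Or.inr (case_mixed T p hp hp3 hpd h2)))
    · have huniq : ∀ {q : ℕ}, q.Prime → q ∣ Nat.card G → q = 2 := by
        intro q hq hqd
        by_contra hq2
        have := hq.two_le
        exact hoddp ⟨q, hq, by omega, hqd⟩
      have hcard := Nat.eq_prime_pow_of_unique_prime_dvd Nat.card_pos.ne' huniq
      have hG : IsPGroup 2 G := IsPGroup.of_card hcard
      rcases case_two_group T hG h2 with h' | h' | h'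
      · exact Or.inl h'
      · exact Or.inr (Or.inl h')
      · exact Or.inr (Or.inr (Or.inl h'))
  · -- odd order: a `p`-group of exponent `p`
    left
    obtain ⟨p, hp, hpd⟩ := Nat.exists_prime_and_dvd hcard1
    have hp3 : 3 ≤ p := by
      have h2' : p ≠ 2 := fun h' => h2 (h' ▸ hpd)
      have := hp.two_le
      omega
    have huniq : ∀ {q : ℕ}, q.Prime → q ∣ Nat.card G → q = p := by
      intro q hq hqd
      have hq3 : 3 ≤ q := by
        have h2' : q ≠ 2 := fun h' => h2 (h' ▸ hqd)
        have := hq.two_le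
        omega
      exact T.odd_prime_unique q p hq hp hq3 hp3 hqd hpd
    have hcard := Nat.eq_prime_pow_of_unique_prime_dvd Nat.card_pos.ne' huniq
    have hG : IsPGroup p G := IsPGroup.of_card hcard
    have hexp : ∀ g : G, g ^ p = 1 := by
      apply pow_eq_one_of_no_sq p hp hG
      rintro ⟨w, hw⟩
      have hd : p ^ 2 ∣ Nat.card G := hw ▸ orderOf_dvd_natCard w
      exact T.s_ne_zero (p ^ 2) ⟨w, hw⟩ (T.s_sq_eq_zero p hp hp3 hd)
    refine ⟨p, hp, hG, ?_, exponent_eq_of_forall_pow p hp hexp⟩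
    exact le_trans hp3 (Nat.le_of_dvd Nat.card_pos hpd)

end Cfsg.Agent.S3995
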