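import Cfsg.Statements.S3997
import Mathlib.GroupTheory.Sylow

set_option autoImplicit false
open Cfsg

namespace Cfsg.Agent.S3997

theorem exists_orderPreserving_equiv {G H : Type*} [Group G] [Finite G] [Group H] [Finite H]
    (hT : ∀ m : ℕ, Nat.card {g : G // orderOf g = m} = Nat.card {h : H // orderOf h = m}) :
    ∃ φ : G ≃ H, ∀ g, orderOf (φ g) = orderOf g := by
  have e : ∀ m : ℕ, Nonempty ({g : G // orderOf g = m} ≃ {h : H // orderOf h = m}) :=
    fun m => Finite.card_eq.mp (hT m)
  obtain ⟨e⟩ : Nonempty (∀ m : ℕ, {g : G // orderOf g = m} ≃ {h : H // orderOf h = m}) :=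
    ⟨fun m => Classical.choice (e m)⟩
  let φ : G ≃ H := (Equiv.sigmaFiberEquiv (orderOf : G → ℕ)).symm.trans
    ((Equiv.sigmaCongrRight e).trans (Equiv.sigmaFiberEquiv (orderOf : H → ℕ)))
  refine ⟨φ, fun g => ?_⟩
  exact (e (orderOf g) ⟨g, rfl⟩).2

/-- Let G and H be finite groups with the same order type: for every m they have the same number of elements of order m. If G is nilpotent then so is H. -/
theorem result {G H : Type*} [Group G] [Finite G] [Group H] [Finite H] (hT : (∀ m : ℕ, Nat.card {g : G // orderOf g = m} = Nat.card {h : H // orderOf h = m})) (hG : Group.IsNilpotent G) :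
    Group.IsNilpotent H := by
  obtain ⟨φ, hφ⟩ := exists_orderPreserving_equiv hT
  have hcard : Nat.card G = Nat.card H := Nat.card_congr φ
  refine ((Group.isNilpotent_of_finite_tfae (G := H)).out 0 3 rfl rfl).mpr ?_
  intro p hp Q
  have := hp
  obtain ⟨P⟩ : Nonempty (Sylow p G) := inferInstance
  have hPn : (P : Subgroup G).Normal :=
    ((Group.isNilpotent_of_finite_tfae (G := G)).out 0 3 rfl rfl).mp hG p hp P
  have hGp : ∀ g : G, (∃ k, orderOf g = p ^ k) → g ∈ P := by
    rintro g ⟨k, hk⟩
    have hz : IsPGroup p (Subgroup.zpowers g) := by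
      apply IsPGroup.of_card (n := k)
      rw [Nat.card_zpowers, hk]
    obtain ⟨P', hP'⟩ := hz.exists_le_sylow
    have := Sylow.unique_of_normal P hPn
    have : P' = P := Subsingleton.elim _ _
    rw [← this]
    exact hP' (Subgroup.mem_zpowers g)
  set S : Set H := {h | ∃ k, orderOf h = p ^ k} with hS
  have hQS : ((Q : Subgroup H) : Set H) ⊆ S := by
    intro h hh
    obtain ⟨k, hk⟩ := IsPGroup.iff_orderOf.mp Q.isPGroup' ⟨h, hh⟩
    exact ⟨k, by rwa [Subgroup.orderOf_mk] at hk⟩
  have hScard : S.ncard ≤ Nat.card P := by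
    rw [← Nat.card_coe_set_eq]
    refine Nat.card_le_card_of_injective (fun h : S => (⟨φ.symm h.1, hGp _ ?_⟩ : P)) ?_
    · obtain ⟨k, hk⟩ := h.2
      refine ⟨k, ?_⟩
      rw [← hφ, Equiv.apply_symm_apply, hk]
    · intro a b hab
      have := congrArg Subtype.val hab
      simp only at this
      exact Subtype.ext (φ.symm.injective this)
  have hPQ : Nat.card P = Nat.card Q := by
    rw [Sylow.card_eq_multiplicity, Sylow.card_eq_multiplicity, hcard]
  have hEq : ((Q : Subgroup H) : Set H) = S := by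
    apply Set.eq_of_subset_of_ncard_le hQS _ (Set.toFinite _)
    calc S.ncard ≤ Nat.card P := hScard
      _ = Nat.card Q := hPQ
      _ = ((Q : Subgroup H) : Set H).ncard := by rw [← Nat.card_coe_set_eq]; rfl
  constructor
  intro n hn g
  have : n ∈ ((Q : Subgroup H) : Set H) := hn
  rw [hEq] at this
  obtain ⟨k, hk⟩ := this
  have h2 : g * n * g⁻¹ ∈ S := ⟨k, by rw [← hk]; exact (SemiconjBy.orderOf_eq g (x := n) (y := g * n * g⁻¹) (by simp [SemiconjBy])).symm⟩
  rw [← hEq] at h2
  exact h2

end Cfsg.Agent.S3997
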