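import Cfsg.Statements.S3998
import Cfsg.Agent.S3997
import Cfsg.Agent.S0582
import Cfsg.Agent.Lib.Helper9.Supersolvable

set_option autoImplicit false
set_option linter.style.haveILetI false
open Cfsg

namespace Cfsg.Agent.S3998

universe u

/-- `m` is `b`-big: every prime divisor of `m` is at least `b`. -/
def Good (b m : ℕ) : Prop := ∀ q : ℕ, q.Prime → q ∣ m → b ≤ q

/-- Number of elements of `X` whose order is `b`-big. -/
noncomputable def T (X : Type*) [Group X] (b : ℕ) : ℕ :=
  Nat.card {x : X // Good b (orderOf x)}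

/-- The tower-count property: for every threshold `b`, the number of elements of `b`-big order
divides the group order and is itself `b`-big. -/
def W (X : Type*) [Group X] : Prop := ∀ b : ℕ, T X b ∣ Nat.card X ∧ Good b (T X b)

theorem good_one (b : ℕ) : Good b 1 := by
  intro q hq hqd
  have h1 := Nat.le_of_dvd one_pos hqd
  have h2 := hq.two_le
  omega

theorem T_eq_one {X : Type*} [Group X] [Finite X] (b : ℕ)
    (h : ∀ q : ℕ, q.Prime → q ∣ Nat.card X → q < b) : T X b = 1 := by
  unfold T
  have key : ∀ z : X, Good b (orderOf z) → z = 1 := by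
    intro z hz
    by_contra hne
    have h1 : orderOf z ≠ 1 := fun h => hne (orderOf_eq_one_iff.mp h)
    obtain ⟨q, hq, hqd⟩ := Nat.exists_prime_and_dvd h1
    have h2 := hz q hq hqd
    have h3 := h q hq (hqd.trans (orderOf_dvd_natCard z))
    omega
  rw [Nat.card_eq_one_iff_unique]
  refine ⟨⟨?_⟩, ⟨⟨1, ?_⟩⟩⟩
  · rintro ⟨x, hx⟩ ⟨y, hy⟩
    apply Subtype.ext
    show x = y
    rw [key x hx, key y hy]
  · rw [orderOf_one]
    exact good_one b

theorem T_quotient {X : Type*} [Group X] [Finite X] (Q : Subgroup X) [Q.Normal] (p k b : ℕ)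
    (hp : p.Prime) (hQ : Nat.card Q = p ^ k) (hb : b ≤ p) :
    T X b = Nat.card Q * T (X ⧸ Q) b := by
  unfold T
  have hiff : ∀ x : X, Good b (orderOf x) ↔ Good b (orderOf (x : X ⧸ Q)) := by
    intro x
    constructor
    · intro h q hq hqd
      exact h q hq (hqd.trans (orderOf_map_dvd (QuotientGroup.mk' Q) x))
    · intro h q hq hqd
      by_cases hqp : q = p
      · rw [hqp]; exact hb
      · apply h q hq
        set n := orderOf (x : X ⧸ Q) with hn
        have h1 : ((x ^ n : X) : X ⧸ Q) = 1 := by
          rw [QuotientGroup.mk_pow, hn]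
          exact pow_orderOf_eq_one _
        have h2 : x ^ n ∈ Q := (QuotientGroup.eq_one_iff _).mp h1
        have h3 : (x ^ n) ^ (p ^ k) = 1 := by
          have := pow_card_eq_one' (G := Q) (x := ⟨x ^ n, h2⟩)
          rw [hQ] at this
          have := congrArg Subtype.val this
          simpa using this
        have h4 : orderOf x ∣ n * p ^ k := by
          apply orderOf_dvd_of_pow_eq_one
          rw [pow_mul]; exact h3
        have h5 : q ∣ n * p ^ k := hqd.trans h4
        rcases (Nat.Prime.dvd_mul hq).mp h5 with h6 | h6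
        · exact h6
        · exfalso
          exact hqp ((Nat.prime_dvd_prime_iff_eq hq hp).mp (hq.dvd_of_dvd_pow h6))
  have hset : {x : X | Good b (orderOf x)} =
      QuotientGroup.mk ⁻¹' {y : X ⧸ Q | Good b (orderOf y)} := by
    ext x
    exact hiff x
  have e := QuotientGroup.preimageMkEquivSubgroupProdSet Q {y : X ⧸ Q | Good b (orderOf y)}
  calc Nat.card {x : X // Good b (orderOf x)}
      = Nat.card ↥{x : X | Good b (orderOf x)} := rfl
    _ = Nat.card ↥(QuotientGroup.mk ⁻¹' {y : X ⧸ Q | Good b (orderOf y)}) := by rw [hset]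
    _ = Nat.card (Q × ↥{y : X ⧸ Q | Good b (orderOf y)}) := Nat.card_congr e
    _ = Nat.card Q * Nat.card {y : X ⧸ Q // Good b (orderOf y)} := by
        rw [Nat.card_prod]; rfl

theorem exists_normal_sylow_of_W {X : Type*} [Group X] [Finite X] (hW : W X) (p : ℕ) (hp : p.Prime)
    (hmax : ∀ q : ℕ, q.Prime → q ∣ Nat.card X → q ≤ p) :
    ∃ Q : Subgroup X, Q.Normal ∧ Nat.card Q = p ^ (Nat.card X).factorization p := by
  haveI : Fact p.Prime := ⟨hp⟩
  obtain ⟨Q⟩ : Nonempty (Sylow p X) := inferInstance
  refine ⟨Q, ?_, Q.card_eq_multiplicity⟩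
  obtain ⟨hdvd, hgood⟩ := hW p
  set S : Set X := {x | Good p (orderOf x)} with hS
  have hQS : ((Q : Subgroup X) : Set X) ⊆ S := by
    intro x hx q hq hqd
    obtain ⟨k, hk⟩ := IsPGroup.iff_orderOf.mp Q.isPGroup' ⟨x, hx⟩
    rw [Subgroup.orderOf_mk] at hk
    rw [hk] at hqd
    have := (Nat.prime_dvd_prime_iff_eq hq hp).mp (hq.dvd_of_dvd_pow hqd)
    omega
  have hTne : T X p ≠ 0 := by
    intro h0
    rw [h0] at hdvd
    exact (Nat.card_pos (α := X)).ne' (Nat.eq_zero_of_zero_dvd hdvd)
  have hT : T X p = p ^ (T X p).primeFactorsList.length := by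
    apply Nat.eq_prime_pow_of_unique_prime_dvd hTne
    intro d hd hdd
    have h1 := hgood d hd hdd
    have h2 := hmax d hd (hdd.trans hdvd)
    omega
  have hjle : T X p ≤ Nat.card Q := by
    rw [Q.card_eq_multiplicity]
    have h1 : p ^ (T X p).primeFactorsList.length ∣ Nat.card X := by rw [← hT]; exact hdvd
    have h2 := (hp.pow_dvd_iff_le_factorization (Nat.card_pos (α := X)).ne').mp h1
    rw [hT]
    exact Nat.pow_le_pow_right hp.pos h2
  have hScard : S.ncard ≤ ((Q : Subgroup X) : Set X).ncard := by
    have e1 : S.ncard = T X p := by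
      rw [← Nat.card_coe_set_eq]; rfl
    have e2 : ((Q : Subgroup X) : Set X).ncard = Nat.card Q := by
      rw [← Nat.card_coe_set_eq]; rfl
    rw [e1, e2]; exact hjle
  have hEq : ((Q : Subgroup X) : Set X) = S :=
    Set.eq_of_subset_of_ncard_le hQS hScard (Set.toFinite _)
  constructor
  intro n hn g
  have h1 : n ∈ ((Q : Subgroup X) : Set X) := hn
  rw [hEq] at h1
  have h2 : g * n * g⁻¹ ∈ S := by
    show Good p (orderOf (g * n * g⁻¹))
    have : orderOf (g * n * g⁻¹) = orderOf n :=
      (SemiconjBy.orderOf_eq g (x := n) (y := g * n * g⁻¹) (by simp [SemiconjBy])).symm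
    rw [this]; exact h1
  rw [← hEq] at h2
  exact h2

/-- the largest prime divisor -/
theorem exists_max_prime (n : ℕ) (h1 : 1 < n) :
    ∃ p : ℕ, p.Prime ∧ p ∣ n ∧ ∀ q : ℕ, q.Prime → q ∣ n → q ≤ p := by
  obtain ⟨p, hpmem, hpmax⟩ :=
    Finset.exists_max_image n.primeFactors id (Nat.nonempty_primeFactors.mpr h1)
  refine ⟨p, Nat.prime_of_mem_primeFactors hpmem, Nat.dvd_of_mem_primeFactors hpmem, ?_⟩
  intro q hq hqd
  exact hpmax q (Nat.mem_primeFactors.mpr ⟨hq, hqd, by omega⟩)

theorem card_quotient_lt {X : Type*} [Group X] [Finite X] (P : Subgroup X) [P.Normal]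
    (h : 1 < Nat.card P) : Nat.card (X ⧸ P) < Nat.card X := by
  have h1 := Subgroup.card_eq_card_quotient_mul_card_subgroup P
  have h2 : 0 < Nat.card (X ⧸ P) := Nat.card_pos
  rw [h1]
  nlinarith

theorem W_of_isSupersolvable_aux : ∀ (n : ℕ) (X : Type u) [Group X] [Finite X],
    Nat.card X = n → Cfsg.IsSupersolvable X → W X := by
  intro n
  induction n using Nat.strong_induction_on with
  | _ n ih =>
    intro X _ _ hn hX b
    by_cases hb : ∀ q : ℕ, q.Prime → q ∣ Nat.card X → q < b
    · rw [T_eq_one b hb]
      exact ⟨one_dvd _, good_one b⟩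
    · rw [not_forall] at hb
      obtain ⟨q0, hq0'⟩ := hb
      rw [Classical.not_imp] at hq0'
      obtain ⟨hq0, hq0''⟩ := hq0'
      rw [Classical.not_imp] at hq0''
      obtain ⟨hq0d, hbq0⟩ := hq0''
      have hbq0' : b ≤ q0 := Nat.le_of_not_lt hbq0
      have h1 : 1 < Nat.card X := by
        have := Nat.le_of_dvd Nat.card_pos hq0d
        have := hq0.two_le
        omega
      obtain ⟨p, hp, hpd, hmax⟩ := exists_max_prime (Nat.card X) h1
      have hbp : b ≤ p := le_trans hbq0' (hmax q0 hq0 hq0d)
      obtain ⟨P, hPn, hPc⟩ := Cfsg.Agent.S0582.exists_normal_sylow hX p hp hmax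
      haveI := hPn
      have hk : 1 ≤ (Nat.card X).factorization p :=
        (hp.dvd_iff_one_le_factorization (Nat.card_pos (α := X)).ne').mp hpd
      have hP1 : 1 < Nat.card P := by
        rw [hPc]
        calc 1 < p := hp.one_lt
          _ = p ^ 1 := (pow_one p).symm
          _ ≤ p ^ (Nat.card X).factorization p := Nat.pow_le_pow_right hp.pos hk
      have hlt : Nat.card (X ⧸ P) < n := by rw [← hn]; exact card_quotient_lt P hP1
      have hWq : W (X ⧸ P) :=
        ih _ hlt (X ⧸ P) rfl (Cfsg.Agent.Helper9.isSupersolvable_quotient hX P)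
      obtain ⟨hd', hg'⟩ := hWq b
      rw [T_quotient P p _ b hp hPc hbp]
      constructor
      · rw [Subgroup.card_eq_card_quotient_mul_card_subgroup P,
          mul_comm (Nat.card (X ⧸ P)) (Nat.card P)]
        exact Nat.mul_dvd_mul_left _ hd'
      · intro q hq hqd
        rcases (Nat.Prime.dvd_mul hq).mp hqd with h | h
        · rw [hPc] at h
          have := (Nat.prime_dvd_prime_iff_eq hq hp).mp (hq.dvd_of_dvd_pow h)
          omega
        · exact hg' q hq h

theorem isSolvable_of_W_aux : ∀ (n : ℕ) (X : Type u) [Group X] [Finite X],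
    Nat.card X = n → W X → Group.IsSolvable X := by
  intro n
  induction n using Nat.strong_induction_on with
  | _ n ih =>
    intro X _ _ hn hW
    by_cases h1 : Nat.card X = 1
    · haveI : Subsingleton X := (Nat.card_eq_one_iff_unique.mp h1).1
      exact inferInstance
    · have h1' : 1 < Nat.card X := by
        have : 0 < Nat.card X := Nat.card_pos
        omega
      obtain ⟨p, hp, hpd, hmax⟩ := exists_max_prime (Nat.card X) h1'
      obtain ⟨Q, hQn, hQc⟩ := exists_normal_sylow_of_W hW p hp hmax
      haveI := hQn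
      have hk : 1 ≤ (Nat.card X).factorization p :=
        (hp.dvd_iff_one_le_factorization (Nat.card_pos (α := X)).ne').mp hpd
      have hQ1 : 1 < Nat.card Q := by
        rw [hQc]
        calc 1 < p := hp.one_lt
          _ = p ^ 1 := (pow_one p).symm
          _ ≤ p ^ (Nat.card X).factorization p := Nat.pow_le_pow_right hp.pos hk
      have hlt : Nat.card (X ⧸ Q) < n := by rw [← hn]; exact card_quotient_lt Q hQ1
      have hcard := Subgroup.card_eq_card_quotient_mul_card_subgroup Q
      have hWq : W (X ⧸ Q) := by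
        intro b
        by_cases hb : b ≤ p
        · obtain ⟨hd, hg⟩ := hW b
          rw [T_quotient Q p _ b hp hQc hb] at hd hg
          constructor
          · rw [hcard, mul_comm (Nat.card (X ⧸ Q)) (Nat.card Q)] at hd
            exact Nat.dvd_of_mul_dvd_mul_left (Nat.card_pos (α := Q)) hd
          · intro q hq hqd
            exact hg q hq (hqd.mul_left _)
        · have hb' : p < b := Nat.lt_of_not_le hb
          rw [T_eq_one b]
          · exact ⟨one_dvd _, good_one b⟩
          · intro q hq hqd
            have : q ∣ Nat.card X := by rw [hcard]; exact hqd.mul_right _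
            exact lt_of_le_of_lt (hmax q hq this) hb'
      haveI hsq : Group.IsSolvable (X ⧸ Q) := ih _ hlt (X ⧸ Q) rfl hWq
      haveI : Fact p.Prime := ⟨hp⟩
      haveI hsQ : Group.IsSolvable Q := by
        have hpg : IsPGroup p Q := IsPGroup.of_card hQc
        haveI := hpg.isNilpotent
        exact IsNilpotent.to_isSolvable
      exact Group.isSolvable_of_ker_le_range Q.subtype (QuotientGroup.mk' Q)
        (by rw [QuotientGroup.ker_mk', Subgroup.range_subtype])

/-- Let G and H be finite groups with the same order type (for every m the same number of elements of order m). If G is supersolvable then H is solvable. -/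
theorem result {G H : Type*} [Group G] [Finite G] [Group H] [Finite H] (hT : (∀ m : ℕ, Nat.card {g : G // orderOf g = m} = Nat.card {h : H // orderOf h = m})) (hG : Cfsg.IsSupersolvable G) :
    Group.IsSolvable H := by
  obtain ⟨φ, hφ⟩ := Cfsg.Agent.S3997.exists_orderPreserving_equiv hT
  have hcard : Nat.card G = Nat.card H := Nat.card_congr φ
  have hWG : W G := W_of_isSupersolvable_aux _ G rfl hG
  have hWH : W H := by
    intro b
    have hTb : T H b = T G b := by
      unfold T
      exact (Nat.card_congr (φ.subtypeEquiv (fun g => by rw [hφ]))).symm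
    rw [hTb, ← hcard]
    exact hWG b
  exact isSolvable_of_W_aux _ H rfl hWH

end Cfsg.Agent.S3998
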