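import Cfsg.Statements.S4001
import Mathlib
import Cfsg.Agent.Lib.Helper61.TwoFrobMain
-- import your own Cfsg.Agent.* helpers here

set_option autoImplicit false
open Cfsg

namespace Cfsg.Agent.S4001

/-- Let G be a 2-Frobenius group: it has normal subgroups H < K with K a Frobenius group with kernel H and G/H a Frobenius group with kernel K/H. Then G is solvable; K/H has odd order coprime to the order of H and to the order of G/K (it is the image of an odd-order Hall subgroup); G/K is cyclic; and the prime graph of G has exactly two connected components, both complete: for distinct primes p, q dividing the order of G, G has an element of order pq exactly when p and q either both divide the order of K/H or both do not. -/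
theorem result {G : Type*} [Group G] [Finite G] (H K : Subgroup G) [H.Normal] [K.Normal] (hlt : H < K)
    (hK : ∃ C : Subgroup ↥K, Cfsg.IsFrobeniusComplement C ∧ Cfsg.frobeniusKernel C = (H.subgroupOf K : Set ↥K))
    (hGH : ∃ C : Subgroup (G ⧸ H), Cfsg.IsFrobeniusComplement C ∧ Cfsg.frobeniusKernel C = (K.map (QuotientGroup.mk' H) : Set (G ⧸ H))) :
    Group.IsSolvable G ∧ Odd (Nat.card (↥K ⧸ H.subgroupOf K)) ∧
      Nat.Coprime (Nat.card (↥K ⧸ H.subgroupOf K)) (Nat.card ↥H * Nat.card (G ⧸ K)) ∧ IsCyclic (G ⧸ K) ∧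
      ∀ p q : ℕ, p.Prime → q.Prime → p ≠ q → p ∣ Nat.card G → q ∣ Nat.card G →
        ((∃ g : G, orderOf g = p * q) ↔ (p ∣ Nat.card (↥K ⧸ H.subgroupOf K) ↔ q ∣ Nat.card (↥K ⧸ H.subgroupOf K))) := by
  obtain ⟨C₁, hC₁, hK₁⟩ := hK
  obtain ⟨C₂, hC₂, hK₂⟩ := hGH
  have h : Helper61.TwoFrob.Hyp H K C₁ C₂ := ⟨hlt.le, hC₁, hK₁, hC₂, hK₂⟩
  have hb : Nat.card (↥K ⧸ H.subgroupOf K) = Nat.card C₁ := h.card_quot
  have hGK : Nat.card (G ⧸ K) = K.index := (Subgroup.index_eq_card K).symm
  refine ⟨h.solvable, ?_, ?_, h.quot_cyclic, ?_⟩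
  · rw [hb]; exact h.odd_card
  · rw [hb, hGK]; exact Nat.Coprime.mul_right h.coprime_H.symm h.coprime_idx
  · intro p q hp hq hpq hpG hqG
    rw [hb]
    constructor
    · rintro ⟨g, hg⟩
      constructor
      · exact h.dvd_of_orderOf hp hq hg
      · exact h.dvd_of_orderOf hq hp (by rw [hg, mul_comm])
    · intro hiff
      by_cases hpb : p ∣ Nat.card C₁
      · exact h.exists_order_B hp hq hpq hpb (hiff.mp hpb)
      · have hqb : ¬ q ∣ Nat.card C₁ := fun e => hpb (hiff.mpr e)
        have hG := h.card_G
        have key : ∀ r : ℕ, r.Prime → r ∣ Nat.card G → ¬ r ∣ Nat.card C₁ →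
            r ∣ Nat.card H ∨ r ∣ K.index := by
          intro r hr hrG hrb
          rw [hG] at hrG
          rcases (Nat.Prime.dvd_mul hr).mp hrG with h1 | h1
          · exact Or.inl h1
          · rcases (Nat.Prime.dvd_mul hr).mp h1 with h2 | h2
            · exact (hrb h2).elim
            · exact Or.inr h2
        rcases key p hp hpG hpb with h1 | h1 <;> rcases key q hq hqG hqb with h2 | h2
        · exact h.exists_order_H hp hq hpq h1 h2
        · exact h.exists_order_mixed hp hq hpq h1 h2
        · obtain ⟨g, hg⟩ := h.exists_order_mixed hq hp hpq.symm h2 h1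
          exact ⟨g, by rw [hg, mul_comm]⟩
        · exact h.exists_order_idx hp hq hpq h1 h2

end Cfsg.Agent.S4001
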