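import Mathlib
import Cfsg.Statements.S4002
import Cfsg.Agent.S3633

set_option autoImplicit false
open Cfsg

namespace Cfsg.Agent.S4002

theorem exists_three_primes (n : ℕ) (hn : 7 ≤ n) :
    ∃ p q r : ℕ, p.Prime ∧ q.Prime ∧ r.Prime ∧ p < q ∧ q < r ∧ r ≤ n ∧ n < p * q := by
  by_cases h1 : n ≤ 14
  · exact ⟨3, 5, 7, by norm_num, by norm_num, by norm_num, by norm_num, by norm_num, hn, by omega⟩
  by_cases h2 : n ≤ 34
  · exact ⟨5, 7, 11, by norm_num, by norm_num, by norm_num, by norm_num, by norm_num, by omega,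
      by omega⟩
  by_cases h3 : n ≤ 39
  · exact ⟨7, 11, 13, by norm_num, by norm_num, by norm_num, by norm_num, by norm_num, by omega,
      by omega⟩
  -- n ≥ 40
  set a := n / 8 with ha
  have ha5 : 5 ≤ a := by omega
  have h8a : 8 * a ≤ n := by omega
  have hn8 : n < 8 * a + 8 := by omega
  obtain ⟨p, hp, hp1, hp2⟩ := Nat.exists_prime_lt_and_le_two_mul a (by omega)
  obtain ⟨q, hq, hq1, hq2⟩ := Nat.exists_prime_lt_and_le_two_mul (2 * a) (by omega)
  obtain ⟨r, hr, hr1, hr2⟩ := Nat.exists_prime_lt_and_le_two_mul (4 * a) (by omega)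
  refine ⟨p, q, r, hp, hq, hr, by omega, by omega, by omega, ?_⟩
  have : (a + 1) * (2 * a + 1) ≤ p * q := Nat.mul_le_mul (by omega) (by omega)
  nlinarith

/-- If the set of element orders of a finite group G is {1, 2, …, n} with n ≥ 7, then G is not solvable. -/
theorem result {G : Type*} [Group G] [Finite G] (n : ℕ) (hn : 7 ≤ n) (h : Set.range (orderOf : G → ℕ) = {k : ℕ | 1 ≤ k ∧ k ≤ n}) : ¬ Group.IsSolvable G := by
  intro hsol
  obtain ⟨p, q, r, hp, hq, hr, hpq, hqr, hrn, hnpq⟩ := exists_three_primes n hn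
  have hmem : ∀ k, 1 ≤ k → k ≤ n → ∃ g : G, orderOf g = k := by
    intro k hk1 hkn
    have : k ∈ Set.range (orderOf : G → ℕ) := by rw [h]; exact ⟨hk1, hkn⟩
    exact this
  have hdvd : ∀ k, 1 ≤ k → k ≤ n → k ∣ Nat.card G := by
    intro k hk1 hkn
    obtain ⟨g, hg⟩ := hmem k hk1 hkn
    rw [← hg]; exact orderOf_dvd_natCard g
  have hnot : ∀ k, n < k → ¬ ∃ g : G, orderOf g = k := by
    rintro k hk ⟨g, hg⟩
    have : k ∈ Set.range (orderOf : G → ℕ) := ⟨g, hg⟩
    rw [h] at this
    exact absurd this.2 (by omega)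
  have hp1 := hp.one_lt
  refine Cfsg.Agent.S3633.solvable_false (G := G) hp hq hr (by omega) (by omega) (by omega)
    (hdvd p (by omega) (by omega)) (hdvd q (by omega) (by omega)) (hdvd r (by omega) hrn) ?_
  intro a ha b hb hab
  apply hnot
  simp only [Finset.mem_insert, Finset.mem_singleton] at ha hb
  have hpr : p * r > n := by nlinarith
  have hqr' : q * r > n := by nlinarith
  rcases ha with rfl | rfl | rfl <;> rcases hb with rfl | rfl | rfl <;>
    first | exact absurd rfl hab | nlinarith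

end Cfsg.Agent.S4002
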