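import Cfsg.Statements.S4005
import Cfsg.Agent.Lib.Helper89.Invert
import Cfsg.Agent.Lib.Helper48.CoprimeGen

set_option autoImplicit false
open Cfsg

namespace Cfsg.Agent.S4005

section
variable {G : Type*} [Group G]

theorem mem_normalizer_of_conj_mem'' [Finite G] (R : Subgroup G) (g : G)
    (h : ∀ r ∈ R, g * r * g⁻¹ ∈ R) : g ∈ Subgroup.normalizer (R : Set G) := by
  rw [Subgroup.mem_normalizer_iff_map_conj_eq]
  apply Subgroup.eq_of_le_of_card_ge
  · rintro _ ⟨r, hr, rfl⟩
    exact h r hr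
  · rw [Subgroup.card_map_of_injective (MulAut.conj g).injective]

/-- the key computation: `y³ = (yu)³ = u² = 1` forces `u` to commute with `y u y⁻¹`. -/
theorem key_algebra (y u : G) (hy : y ^ 3 = 1) (hyu : (y * u) ^ 3 = 1) (hu : u * u = 1) :
    (y * u * y⁻¹) * u = u * (y * u * y⁻¹) := by
  have hyinv : y⁻¹ = y * y := by
    apply inv_eq_of_mul_eq_one_right
    rw [← hy, pow_succ, pow_two, mul_assoc]
  have huinv : u⁻¹ = u := inv_eq_of_mul_eq_one_right hu
  have star : y * u * y = u * (y * y) * u := by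
    have h1 : (y * u * y) * (u * y * u) = 1 := by
      rw [← hyu, pow_succ, pow_two]
      simp only [mul_assoc]
    have h2 : y * u * y = (u * y * u)⁻¹ := eq_inv_of_mul_eq_one_left h1
    rw [h2, mul_inv_rev, mul_inv_rev, huinv, hyinv]
    simp only [mul_assoc]
  calc y * u * y⁻¹ * u = (y * u * y) * y * u := by rw [hyinv]; simp only [mul_assoc]
    _ = (u * (y * y) * u) * y * u := by rw [star]
    _ = u * y * (y * u * y) * u := by simp only [mul_assoc]
    _ = u * y * (u * (y * y) * u) * u := by rw [star]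
    _ = u * (y * u * (y * y)) * (u * u) := by simp only [mul_assoc]
    _ = u * (y * u * y⁻¹) := by rw [hu, mul_one, hyinv]

variable (hord : ∀ g : G, orderOf g = 1 ∨ orderOf g = 2 ∨ orderOf g = 3)
include hord

/-- an involution never commutes with an element of order three -/
theorem no6 (t x : G) (ht : orderOf t = 2) (hx : orderOf x = 3) : t * x ≠ x * t := by
  intro h
  have hc : Commute t x := h
  have h6 := hc.orderOf_mul_eq_mul_orderOf_of_coprime (by rw [ht, hx]; decide)
  rw [ht, hx] at h6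
  rcases hord (t * x) with h1 | h1 | h1 <;> omega

omit hord in
theorem orderOf_two_of_sq {t : G} (ht : t * t = 1) (ht1 : t ≠ 1) : orderOf t = 2 := by
  apply orderOf_eq_prime
  · rw [pow_two, ht]
  · exact ht1

omit hord in
theorem orderOf_three_of_cube {x : G} (hx : x ^ 3 = 1) (hx1 : x ≠ 1) : orderOf x = 3 :=
  orderOf_eq_prime hx hx1

/-- elements commuting with an involution square to one -/
theorem sq_of_commute (t g : G) (ht : orderOf t = 2) (h : g * t = t * g) : g * g = 1 := by
  rcases hord g with h1 | h1 | h1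
  · rw [orderOf_eq_one_iff.mp h1, mul_one]
  · rw [← pow_two, ← h1]; exact pow_orderOf_eq_one g
  · exact absurd h.symm (no6 hord t g ht h1)

/-- elements of a `2`-subgroup square to one -/
theorem sq_of_two_group (T : Subgroup G) (hT : IsPGroup 2 T) (g : G) (hg : g ∈ T) : g * g = 1 := by
  haveI : Fact (Nat.Prime 2) := ⟨Nat.prime_two⟩
  obtain ⟨k, hk⟩ := IsPGroup.iff_orderOf.mp hT ⟨g, hg⟩
  rw [Subgroup.orderOf_mk] at hk
  rcases hord g with h1 | h1 | h1
  · rw [orderOf_eq_one_iff.mp h1, mul_one]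
  · rw [← pow_two, ← h1]; exact pow_orderOf_eq_one g
  · exfalso
    rw [h1] at hk
    have : 2 ∣ 3 := by
      rw [hk]
      apply dvd_pow_self
      rintro rfl
      simp at hk
    omega

omit hord in
theorem comm_of_sq (T : Subgroup G) (hT : ∀ g ∈ T, g * g = 1) (a b : G) (ha : a ∈ T) (hb : b ∈ T) :
    a * b = b * a := by
  have h1 := hT (a * b) (T.mul_mem ha hb)
  have ha' : a⁻¹ = a := inv_eq_of_mul_eq_one_right (hT a ha)
  have hb' : b⁻¹ = b := inv_eq_of_mul_eq_one_right (hT b hb)
  have h2 : a * b = (a * b)⁻¹ := (inv_eq_of_mul_eq_one_right h1).symm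
  rw [h2, mul_inv_rev, ha', hb']

/-- the centralizer of an involution of a Sylow `2`-subgroup `T` is `T` -/
theorem mem_of_commute (T : Sylow 2 G) (t : G) (ht : t ∈ T) (ht1 : t ≠ 1) (g : G)
    (hg : g * t = t * g) : g ∈ T := by
  have hsq := sq_of_two_group hord (T : Subgroup G) T.2
  have hto : orderOf t = 2 := orderOf_two_of_sq (hsq t ht) ht1
  have hC : IsPGroup 2 ↥(Subgroup.centralizer ({t} : Set G)) := by
    rintro ⟨c, hc⟩
    refine ⟨1, ?_⟩
    apply Subtype.ext
    have := sq_of_commute hord t c hto (Subgroup.mem_centralizer_singleton_iff.mp hc)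
    simpa [pow_two] using this
  have hle : (T : Subgroup G) ≤ Subgroup.centralizer ({t} : Set G) := by
    intro v hv
    rw [Subgroup.mem_centralizer_singleton_iff]
    exact comm_of_sq (T : Subgroup G) hsq v t hv ht
  have := T.is_maximal' hC hle
  show g ∈ (T : Subgroup G)
  rw [← this]
  exact Subgroup.mem_centralizer_singleton_iff.mpr hg

/-- a `2`-element normalizing a Sylow `2`-subgroup lies in it -/
theorem mem_of_mem_normalizer (T : Sylow 2 G) (s : G) (hs : s * s = 1)
    (hsN : s ∈ Subgroup.normalizer ((T : Subgroup G) : Set G)) : s ∈ T := by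
  have : Fact (Nat.Prime 2) := ⟨Nat.prime_two⟩
  have hz : IsPGroup 2 ↥(Subgroup.zpowers s) := by
    rintro ⟨g, hg⟩
    obtain ⟨n, rfl⟩ := Subgroup.mem_zpowers_iff.mp hg
    refine ⟨1, ?_⟩
    apply Subtype.ext
    simp only [pow_one, Subgroup.coe_pow, Subgroup.coe_one]
    rw [← zpow_natCast, ← zpow_mul, mul_comm, zpow_mul, zpow_natCast, pow_two, hs, one_zpow]
  have h1 : IsPGroup 2 ↥((T : Subgroup G) ⊔ Subgroup.zpowers s) :=
    IsPGroup.to_sup_of_normal_left' T.2 hz (Subgroup.zpowers_le.mpr hsN)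
  have := T.is_maximal' h1 le_sup_left
  show s ∈ (T : Subgroup G)
  rw [← this]
  exact Subgroup.mem_sup_right (Subgroup.mem_zpowers s)

/-- If the Sylow `2`-subgroup `T` has two distinct involutions then it contains every
involution of `G`. -/
theorem all_invol_mem [Finite G] (T : Sylow 2 G) (t u : G) (ht : t ∈ T) (hu : u ∈ T) (ht1 : t ≠ 1)
    (hu1 : u ≠ 1) (hut : u ≠ t) (s : G) (hs : s * s = 1) : s ∈ T := by
  by_contra hsT
  have hsq := sq_of_two_group hord (T : Subgroup G) T.2
  have hsinv : s⁻¹ = s := inv_eq_of_mul_eq_one_right hs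
  -- (a)
  have ha : ∀ v : G, v ∈ T → v ≠ 1 → (s * v) ^ 3 = 1 := by
    intro v hv hv1
    have hvinv : v⁻¹ = v := inv_eq_of_mul_eq_one_right (hsq v hv)
    rcases hord (s * v) with h1 | h1 | h1
    · exfalso
      apply hsT
      have h2 : s * v = 1 := orderOf_eq_one_iff.mp h1
      have h3 : s = v⁻¹ := eq_inv_of_mul_eq_one_left h2
      rw [h3]
      exact (T : Subgroup G).inv_mem hv
    · exfalso
      apply hsT
      have h2 : (s * v) * (s * v) = 1 := by
        rw [← pow_two, ← h1]; exact pow_orderOf_eq_one _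
      have h3 : s * v = (s * v)⁻¹ := (inv_eq_of_mul_eq_one_right h2).symm
      rw [mul_inv_rev, hvinv, hsinv] at h3
      exact mem_of_commute hord T v hv hv1 s h3
    · rw [← h1]; exact pow_orderOf_eq_one _
  have htu : t * u ∈ T := (T : Subgroup G).mul_mem ht hu
  have htinv : t⁻¹ = t := inv_eq_of_mul_eq_one_right (hsq t ht)
  have htu1 : t * u ≠ 1 := by
    intro h
    apply hut
    have : u = t⁻¹ := (eq_inv_of_mul_eq_one_right h)
    rw [this, htinv]
  have htut : t * u ≠ t := by
    intro h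
    apply hu1
    exact mul_left_cancel (a := t) (by rw [h, mul_one])
  -- conjugation by `y = s * t` maps `T` into `T`
  have hy3 : (s * t) ^ 3 = 1 := ha t ht ht1
  have hconj : ∀ v : G, v ∈ T → v ≠ 1 → v ≠ t → (s * t) * v * (s * t)⁻¹ ∈ T := by
    intro v hv hv1 hvt
    have htv1 : t * v ≠ 1 := by
      intro h
      apply hvt
      have : v = t⁻¹ := (eq_inv_of_mul_eq_one_right h)
      rw [this, htinv]
    have h3 : ((s * t) * v) ^ 3 = 1 := by
      rw [mul_assoc]
      exact ha (t * v) ((T : Subgroup G).mul_mem ht hv) htv1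
    have h4 := key_algebra (s * t) v hy3 h3 (hsq v hv)
    exact mem_of_commute hord T v hv hv1 _ h4
  have hconj_all : ∀ v : G, v ∈ (T : Subgroup G) → (s * t) * v * (s * t)⁻¹ ∈ (T : Subgroup G) := by
    intro v hv
    by_cases hv1 : v = 1
    · rw [hv1, mul_one, mul_inv_cancel]
      exact (T : Subgroup G).one_mem
    by_cases hvt : v = t
    · have h1 := hconj (t * u) htu htu1 htut
      have h2 := hconj u hu hu1 hut
      have h3 : (s * t) * v * (s * t)⁻¹ =
          ((s * t) * (t * u) * (s * t)⁻¹) * ((s * t) * u * (s * t)⁻¹)⁻¹ := by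
        rw [hvt]; group
      rw [h3]
      exact (T : Subgroup G).mul_mem h1 ((T : Subgroup G).inv_mem h2)
    · exact hconj v hv hv1 hvt
  have hyN : s * t ∈ Subgroup.normalizer ((T : Subgroup G) : Set G) :=
    mem_normalizer_of_conj_mem'' _ _ hconj_all
  have hsN : s ∈ Subgroup.normalizer ((T : Subgroup G) : Set G) := by
    have h1 : t⁻¹ ∈ Subgroup.normalizer ((T : Subgroup G) : Set G) :=
      Subgroup.le_normalizer ((T : Subgroup G).inv_mem ht)
    have := Subgroup.mul_mem _ hyN h1
    rwa [mul_inv_cancel_right] at this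
  exact hsT (mem_of_mem_normalizer hord T s hs hsN)

/-- an element of order three fixes no involution of `T` -/
theorem fpf (T : Subgroup G) (hT : ∀ g ∈ T, g * g = 1) (g : G) (hg1 : g ≠ 1) (hg3 : g ^ 3 = 1)
    (v : G) (hv : v ∈ T) (hfix : g * v * g⁻¹ = v) : v = 1 := by
  by_contra hv1
  have h1 : orderOf v = 2 := orderOf_two_of_sq (hT v hv) hv1
  have h2 : orderOf g = 3 := orderOf_three_of_cube hg3 hg1
  apply no6 hord v g h1 h2
  exact (mul_inv_eq_iff_eq_mul.mp hfix).symm

/-- a group of order nine cannot act on `T` without fixed points -/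
theorem no_nine [Finite G] (T : Subgroup G) (hTn : ∀ g : G, g ∈ Subgroup.normalizer (T : Set G))
    (hT : ∀ g ∈ T, g * g = 1) (hcop : (Nat.card T).Coprime 3) (E : Subgroup G)
    (hE : Nat.card E = 9) : ∀ v ∈ T, v = 1 := by
  have : Fact (Nat.Prime 3) := ⟨Nat.prime_three⟩
  have hEp : IsPGroup 3 E := IsPGroup.of_card (n := 2) (by rw [hE]; norm_num)
  have hcube : ∀ e ∈ E, e ^ 3 = 1 := by
    intro e he
    obtain ⟨k, hk⟩ := IsPGroup.iff_orderOf.mp hEp ⟨e, he⟩
    rw [Subgroup.orderOf_mk] at hk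
    rcases hord e with h1 | h1 | h1
    · rw [orderOf_eq_one_iff.mp h1, one_pow]
    · exfalso
      rw [h1] at hk
      have : 3 ∣ 2 := by
        rw [hk]
        apply dvd_pow_self
        rintro rfl
        simp at hk
      omega
    · rw [← h1]; exact pow_orderOf_eq_one e
  have : Nontrivial E := by
    rw [← Finite.one_lt_card_iff_nontrivial, hE]; norm_num
  have := hEp.center_nontrivial
  obtain ⟨⟨⟨b, hbE⟩, hbZ⟩, hb1⟩ := exists_ne (1 : Subgroup.center E)
  have hb1' : b ≠ 1 := by
    intro h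
    apply hb1
    apply Subtype.ext
    apply Subtype.ext
    exact h
  have hbc : ∀ e ∈ E, e * b = b * e := by
    intro e he
    have := Subgroup.mem_center_iff.mp hbZ ⟨e, he⟩
    exact congrArg Subtype.val this
  have hbo : orderOf b = 3 := orderOf_three_of_cube (hcube b hbE) hb1'
  have hlt : Subgroup.zpowers b < E := by
    refine lt_of_le_of_ne (Subgroup.zpowers_le.mpr hbE) ?_
    intro h
    have h1 : Nat.card (Subgroup.zpowers b) = 3 := by rw [Nat.card_zpowers, hbo]
    rw [h, hE] at h1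
    omega
  obtain ⟨a, haE, hab⟩ := SetLike.exists_of_lt hlt
  have hcomm : a * b = b * a := hbc a haE
  -- the action
  let _ : CommGroup T := { (inferInstance : Group T) with
    mul_comm := fun x y => Subtype.ext (comm_of_sq T hT x y x.2 y.2) }
  have hact : ∀ (n : Subgroup.normalizer (T : Set G)) (v : T),
      ((n • v : T) : G) = (n : G) * (v : G) * (n : G)⁻¹ := fun n v => rfl
  have hlift : ∀ g : G, g ≠ 1 → g ^ 3 = 1 → ∀ v : T,
      (⟨g, hTn g⟩ : Subgroup.normalizer (T : Set G)) • v = v → v = 1 := by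
    intro g hg1 hg3 v hv
    have h1 := congrArg Subtype.val hv
    rw [hact] at h1
    exact Subtype.ext (fpf hord T hT g hg1 hg3 v v.2 h1)
  have hall : ∀ v : T, v = 1 := by
    intro v
    refine Cfsg.Agent.Helper48.eq_one_of_fixedPointFree (p := 3) hcop
      (⟨a, hTn a⟩ : Subgroup.normalizer (T : Set G)) ⟨b, hTn b⟩ (Subtype.ext hcomm) ?_ ?_ ?_ ?_ v
    · intro w
      have : (⟨a, hTn a⟩ : Subgroup.normalizer (T : Set G)) ^ 3 = 1 :=
        Subtype.ext (by simpa using hcube a haE)
      rw [this, one_smul]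
    · intro w
      have : (⟨b, hTn b⟩ : Subgroup.normalizer (T : Set G)) ^ 3 = 1 :=
        Subtype.ext (by simpa using hcube b hbE)
      rw [this, one_smul]
    · intro j w hw
      have hmem : a * b ^ j ∈ E := E.mul_mem haE (E.pow_mem hbE j)
      have h1 : a * b ^ j ≠ 1 := by
        intro h
        apply hab
        have : a = (b ^ j)⁻¹ := eq_inv_of_mul_eq_one_left h
        rw [this]
        exact (Subgroup.zpowers b).inv_mem (Subgroup.pow_mem _ (Subgroup.mem_zpowers b) j)
      have h2 : (⟨a, hTn a⟩ : Subgroup.normalizer (T : Set G)) * ⟨b, hTn b⟩ ^ j =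
          ⟨a * b ^ j, hTn _⟩ := Subtype.ext (by simp)
      rw [h2] at hw
      exact hlift _ h1 (hcube _ hmem) w hw
    · intro i hi hi3 w hw
      have h1 : b ^ i ≠ 1 := pow_ne_one_of_lt_orderOf hi.ne' (hbo ▸ hi3)
      have h2 : (⟨b, hTn b⟩ : Subgroup.normalizer (T : Set G)) ^ i = ⟨b ^ i, hTn _⟩ :=
        Subtype.ext (by simp)
      rw [h2] at hw
      exact hlift _ h1 (hcube _ (E.pow_mem hbE i)) w hw
  intro v hv
  exact congrArg Subtype.val (hall ⟨v, hv⟩)

/-- the case of a Sylow `2`-subgroup of order two -/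
theorem case_two [Finite G] (T : Sylow 2 G) (hcard : Nat.card T = 2) :
    ∃ N : Subgroup G, N.Normal ∧ Cfsg.IsElementaryAbelian 3 N ∧ N.index = 2 := by
  have : Fact (Nat.Prime 2) := ⟨Nat.prime_two⟩
  have h2G : 2 ∣ Nat.card G := by
    rw [← hcard]; exact Subgroup.card_subgroup_dvd_card _
  have hp : (Nat.card G).minFac = 2 := (Nat.minFac_eq_two_iff _).mpr h2G
  have hcyc : IsCyclic T := isCyclic_of_prime_card hcard
  have hPc := IsCyclic.normalizer_le_centralizer hp hcyc
  have hK := MonoidHom.ker_transferSylow_isComplement' T hPc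
  have hnd := MonoidHom.not_dvd_card_ker_transferSylow T hPc
  have hKn : (MonoidHom.transferSylow T hPc).ker.Normal := MonoidHom.normal_ker _
  obtain ⟨K, hKdef⟩ : ∃ K, K = (MonoidHom.transferSylow T hPc).ker := ⟨_, rfl⟩
  rw [← hKdef] at hK hnd hKn
  have hcube : ∀ a ∈ K, a ^ 3 = 1 := by
    intro a ha
    rcases hord a with h1 | h1 | h1
    · rw [orderOf_eq_one_iff.mp h1, one_pow]
    · exfalso
      apply hnd
      rw [← h1, ← Subgroup.orderOf_mk a ha]
      exact orderOf_dvd_natCard _
    · rw [← h1]; exact pow_orderOf_eq_one a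
  -- the involution
  have hT1 : 1 < Nat.card T := by rw [hcard]; norm_num
  have : Nontrivial T := Finite.one_lt_card_iff_nontrivial.mp hT1
  obtain ⟨⟨t, ht⟩, ht1⟩ := exists_ne (1 : T)
  have ht1' : t ≠ 1 := fun h => ht1 (Subtype.ext h)
  have htt : t * t = 1 := sq_of_two_group hord (T : Subgroup G) T.2 t ht
  have hto : orderOf t = 2 := orderOf_two_of_sq htt ht1'
  have hinv : ∀ k ∈ K, t * k * t⁻¹ = k⁻¹ := by
    apply Cfsg.Agent.Helper89.inverts_of_fixed_point_free K t htt
    · intro k hk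
      exact hKn.conj_mem k hk t
    · intro k hk hcomm
      by_contra hk1
      exact no6 hord t k hto (orderOf_three_of_cube (hcube k hk) hk1) hcomm
  have hcomm : ∀ a b : G, a ∈ K → b ∈ K → a * b = b * a := by
    intro a b ha hb
    have h1 := hinv (a * b) (K.mul_mem ha hb)
    have h2 := hinv a ha
    have h3 := hinv b hb
    have h4 : t * (a * b) * t⁻¹ = (t * a * t⁻¹) * (t * b * t⁻¹) := by group
    rw [h4, h2, h3, ← mul_inv_rev] at h1
    exact (inv_injective h1).symm
  refine ⟨K, hKn, ⟨⟨⟨fun a b => Subtype.ext (hcomm a b a.2 b.2)⟩⟩, hcube⟩, ?_⟩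
  rw [hK.symm.index_eq_card]
  exact hcard

end

/-- A finite group whose set of element orders is exactly {1, 2, 3} has either a normal elementary abelian 3-subgroup of index 2 or a normal elementary abelian 2-subgroup of index 3. -/
theorem result {G : Type*} [Group G] [Finite G] (h : Set.range (orderOf : G → ℕ) = {k : ℕ | 1 ≤ k ∧ k ≤ 3}) :
    (∃ N : Subgroup G, N.Normal ∧ Cfsg.IsElementaryAbelian 3 N ∧ N.index = 2) ∨
      (∃ N : Subgroup G, N.Normal ∧ Cfsg.IsElementaryAbelian 2 N ∧ N.index = 3) := by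
  have hord : ∀ g : G, orderOf g = 1 ∨ orderOf g = 2 ∨ orderOf g = 3 := by
    intro g
    have h0 : orderOf g ∈ Set.range (orderOf : G → ℕ) := ⟨g, rfl⟩
    rw [h] at h0
    obtain ⟨h1, h2⟩ := h0
    omega
  obtain ⟨t₀, ht₀⟩ : ∃ t : G, orderOf t = 2 := by
    have h0 : (2 : ℕ) ∈ {k : ℕ | 1 ≤ k ∧ k ≤ 3} := ⟨by norm_num, by norm_num⟩
    rw [← h] at h0
    exact h0
  obtain ⟨x₀, hx₀⟩ : ∃ x : G, orderOf x = 3 := by
    have h0 : (3 : ℕ) ∈ {k : ℕ | 1 ≤ k ∧ k ≤ 3} := ⟨by norm_num, by norm_num⟩
    rw [← h] at h0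
    exact h0
  have : Fact (Nat.Prime 2) := ⟨Nat.prime_two⟩
  have : Fact (Nat.Prime 3) := ⟨Nat.prime_three⟩
  obtain ⟨T⟩ : Nonempty (Sylow 2 G) := inferInstance
  by_cases hcard : Nat.card T = 2
  · exact Or.inl (case_two hord T hcard)
  right
  have h2G : 2 ∣ Nat.card G := ht₀ ▸ orderOf_dvd_natCard t₀
  have h3G : 3 ∣ Nat.card G := hx₀ ▸ orderOf_dvd_natCard x₀
  have h2T : 2 ∣ Nat.card T := T.dvd_card_of_dvd_card h2G
  have hT1 : 1 < Nat.card T := by
    have := Nat.le_of_dvd Nat.card_pos h2T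
    omega
  have : Nontrivial T := Finite.one_lt_card_iff_nontrivial.mp hT1
  obtain ⟨⟨t, ht⟩, ht1⟩ := exists_ne (1 : T)
  have ht1' : t ≠ 1 := fun h => ht1 (Subtype.ext h)
  have hsq := sq_of_two_group hord (T : Subgroup G) T.2
  have hto : orderOf t = 2 := orderOf_two_of_sq (hsq t ht) ht1'
  have hlt : Subgroup.zpowers t < (T : Subgroup G) := by
    refine lt_of_le_of_ne (Subgroup.zpowers_le.mpr ht) ?_
    intro h
    apply hcard
    have h1 : Nat.card (Subgroup.zpowers t) = 2 := by rw [Nat.card_zpowers, hto]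
    rw [h] at h1
    exact h1
  obtain ⟨u, huT, hut⟩ := SetLike.exists_of_lt hlt
  have hu1 : u ≠ 1 := by
    rintro rfl
    exact hut (Subgroup.one_mem _)
  have hut' : u ≠ t := by
    rintro rfl
    exact hut (Subgroup.mem_zpowers _)
  have hall := all_invol_mem hord T t u ht huT ht1' hu1 hut'
  have hnormal : (T : Subgroup G).Normal := by
    refine ⟨fun n hn g => hall _ ?_⟩
    have h1 : g * n * g⁻¹ * (g * n * g⁻¹) = g * (n * n) * g⁻¹ := by group
    rw [h1, hsq n hn, mul_one, mul_inv_cancel]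
  have hTn : ∀ g : G, g ∈ Subgroup.normalizer ((T : Subgroup G) : Set G) := by
    intro g
    rw [Subgroup.normalizer_eq_top]
    trivial
  refine ⟨T, hnormal, ⟨⟨⟨fun a b => Subtype.ext
    (comm_of_sq (T : Subgroup G) hsq a b a.2 b.2)⟩⟩, fun a ha => by rw [pow_two]; exact hsq a ha⟩, ?_⟩
  have hcop : (Nat.card T).Coprime 3 := by
    rw [T.card_eq_multiplicity]
    apply Nat.Coprime.pow_left
    decide
  have h9 : ¬ 9 ∣ Nat.card G := by
    intro h9
    obtain ⟨E, hE⟩ := Sylow.exists_subgroup_card_pow_prime 3 (n := 2) (by simpa using h9)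
    have := no_nine hord (T : Subgroup G) hTn hsq hcop E (by rw [hE]; norm_num) t ht
    exact ht1' this
  have hmul := Subgroup.card_mul_index (T : Subgroup G)
  have h3i : 3 ∣ (T : Subgroup G).index := by
    have h0 : 3 ∣ Nat.card T * (T : Subgroup G).index := hmul ▸ h3G
    exact Nat.Coprime.dvd_of_dvd_mul_left hcop.symm h0
  have hidvd : (T : Subgroup G).index ∣ Nat.card G := Subgroup.index_dvd_card _
  have hi0 : (T : Subgroup G).index ≠ 0 := by
    intro h0
    rw [h0] at h3i hidvd
    have := Nat.eq_zero_of_zero_dvd hidvd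
    have := Nat.card_pos (α := G)
    omega
  have hpow := Nat.eq_prime_pow_of_unique_prime_dvd (n := (T : Subgroup G).index) (p := 3) hi0
    (by
      intro d hd hdi
      have : Fact d.Prime := ⟨hd⟩
      obtain ⟨z, hz⟩ := exists_prime_orderOf_dvd_card' d (hdi.trans hidvd)
      rcases hord z with h1 | h1 | h1
      · rw [h1] at hz
        exact absurd hz.symm hd.one_lt.ne'
      · exfalso
        rw [h1] at hz
        rw [← hz] at hdi
        exact T.not_dvd_index hdi
      · rw [h1] at hz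
        exact hz.symm)
  obtain ⟨k, hk⟩ : ∃ k, k = (T : Subgroup G).index.primeFactorsList.length := ⟨_, rfl⟩
  rw [← hk] at hpow
  rcases k with _ | _ | k
  · rw [hpow] at h3i
    norm_num at h3i
  · rw [hpow]; norm_num
  · exfalso
    apply h9
    refine dvd_trans ?_ hidvd
    rw [hpow]
    exact ⟨3 ^ k, by ring⟩

end Cfsg.Agent.S4005
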