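import Cfsg.Statements.S4006
import Cfsg.Agent.S1476
import Cfsg.Agent.Lib.Helper66.OrdersFourFrob
import Cfsg.Agent.Lib.Helper66.OrdersFourThreeStep

set_option autoImplicit false
open Cfsg

namespace Cfsg.Agent.S4006

open Cfsg.Agent.Helper66

/-- A finite group whose set of element orders is exactly {1, 2, 3, 4} has a normal subgroup N such that either N is a 2-group of exponent 4 and nilpotency class at most 2 with G/N of order 3, or N is an elementary abelian 2-group with G/N isomorphic to the symmetric group of degree 3, or N is an elementary abelian 3-group with G/N cyclic of order 4 or quaternion of order 8. -/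
theorem result {G : Type*} [Group G] [Finite G] (h : Set.range (orderOf : G → ℕ) = {k : ℕ | 1 ≤ k ∧ k ≤ 4}) :
    ∃ (N : Subgroup G) (_ : N.Normal),
      (IsPGroup 2 ↥N ∧ Monoid.exponent ↥N = 4 ∧ Group.nilpotencyClass ↥N ≤ 2 ∧ N.index = 3) ∨
      (Cfsg.IsElementaryAbelian 2 N ∧ Nonempty (G ⧸ N ≃* Equiv.Perm (Fin 3))) ∨
      (Cfsg.IsElementaryAbelian 3 N ∧ ((IsCyclic (G ⧸ N) ∧ N.index = 4) ∨ Nonempty (G ⧸ N ≃* QuaternionGroup 2))) := by
  have hord : ∀ g : G, orderOf g = 1 ∨ orderOf g = 2 ∨ orderOf g = 3 ∨ orderOf g = 4 := by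
    intro g
    have : orderOf g ∈ Set.range (orderOf : G → ℕ) := ⟨g, rfl⟩
    rw [h] at this
    obtain ⟨h1, h2⟩ := this
    omega
  have hex : ∀ k : ℕ, 1 ≤ k → k ≤ 4 → ∃ g : G, orderOf g = k := by
    intro k h1 h2
    have : k ∈ Set.range (orderOf : G → ℕ) := by
      rw [h]
      exact ⟨h1, h2⟩
    exact this
  obtain ⟨g2, hg2⟩ := hex 2 (by norm_num) (by norm_num)
  obtain ⟨g3, hg3⟩ := hex 3 (by norm_num) (by norm_num)
  obtain ⟨g4, hg4⟩ := hex 4 (by norm_num) (by norm_num)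
  have hsolv : Group.IsSolvable G := isSolvable_of_ord hord
  have hCN : Cfsg.IsCNGroup G := isCNGroup_of_ord hord
  rcases Cfsg.Agent.S1476.result hCN with hnil | ⟨K, E, hK, hc, hF, hE⟩ | ⟨p, hp, h3⟩
  · exact absurd hnil (not_isNilpotent_of_ord hord g2 g3 hg2 hg3)
  · refine ⟨K, hK, ?_⟩
    rcases frob_case hord g4 hg4 K E hc hF hE with h1 | h1
    · exact Or.inl h1
    · exact Or.inr (Or.inr h1)
  · obtain ⟨N, hN, h1⟩ := threeStep_case hord p hp h3
    exact ⟨N, hN, Or.inr (Or.inl h1)⟩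

end Cfsg.Agent.S4006
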