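import Cfsg.Statements.S4013
import Mathlib.GroupTheory.GroupAction.ConjAct
import Mathlib.GroupTheory.GroupAction.Quotient

set_option autoImplicit false
open Cfsg

namespace Cfsg.Agent.S4013

theorem card_conj_dvd {G : Type*} [Group G] [Finite G] (g : G) :
    Nat.card {h : G | IsConj g h} ∣ Nat.card G := by
  have h1 : {h : G | IsConj g h} = MulAction.orbit (ConjAct G) g := by
    ext h
    simp only [Set.mem_setOf_eq, ConjAct.mem_orbit_conjAct]
    exact isConj_comm
  rw [h1]
  have e := MulAction.orbitProdStabilizerEquivGroup (ConjAct G) g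
  have h2 : Nat.card (MulAction.orbit (ConjAct G) g) *
      Nat.card (MulAction.stabilizer (ConjAct G) g) = Nat.card (ConjAct G) := by
    rw [← Nat.card_prod]
    exact Nat.card_congr e
  have h3 : Nat.card (ConjAct G) = Nat.card G := rfl
  exact ⟨_, (h3 ▸ h2).symm⟩

/-- Let G be a finite p-group (p prime) and N < M normal subgroups of G such that for some g ∈ M ∖ N the conjugacy class of g is exactly M ∖ N. Then p = 2 and N has index 2 in M. -/
theorem result {G : Type*} [Group G] [Finite G] (p : ℕ) [Fact p.Prime] (hG : IsPGroup p G) (N M : Subgroup G) [N.Normal] [M.Normal] (hNM : N < M) (g : G) (hgM : g ∈ M) (hgN : g ∉ N) (hcl : {h : G | IsConj g h} = (M : Set G) \ (N : Set G)) : p = 2 ∧ N.relIndex M = 2 := by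
  have hp : p.Prime := Fact.out
  obtain ⟨n, hn⟩ := IsPGroup.iff_card.mp hG
  -- class size is a power of p
  have hdvd := card_conj_dvd g
  rw [hn] at hdvd
  obtain ⟨j, -, hj⟩ := (Nat.dvd_prime_pow hp).mp hdvd
  -- class size is |M| - |N|
  have hsub : (N : Set G) ⊆ (M : Set G) := hNM.le
  have hcard : Nat.card {h : G | IsConj g h} = Nat.card M - Nat.card N := by
    rw [hcl]
    rw [Nat.card_coe_set_eq, Set.ncard_diff hsub (Set.toFinite _)]
    rw [← Nat.card_coe_set_eq, ← Nat.card_coe_set_eq]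
    rfl
  -- |M| = r * |N|
  have hr : N.relIndex M * Nat.card N = Nat.card M := by
    have := Subgroup.relIndex_mul_relIndex ⊥ N M bot_le hNM.le
    simpa [Subgroup.relIndex_bot_left, mul_comm] using this
  set r := N.relIndex M with hrdef
  have hNpos : 0 < Nat.card N := Nat.card_pos
  -- r is a power of p
  have hrdvd : r ∣ p ^ n := by
    have h1 : r ∣ Nat.card M := ⟨_, hr.symm⟩
    have h2 : Nat.card M ∣ Nat.card G := Subgroup.card_subgroup_dvd_card M
    exact hn ▸ (h1.trans h2)
  obtain ⟨k, -, hk⟩ := (Nat.dvd_prime_pow hp).mp hrdvd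
  have hr1 : r ≠ 1 := by
    intro h
    rw [hrdef, Subgroup.relIndex_eq_one] at h
    exact (not_le_of_gt hNM) h
  have hk0 : k ≠ 0 := by
    rintro rfl
    exact hr1 (by simpa using hk)
  have hpr : p ∣ r := by
    rw [hk]
    exact dvd_pow_self p hk0
  -- (r - 1) * |N| = p ^ j
  have hrpos : 1 ≤ r := by
    rw [hk]; exact Nat.one_le_pow _ _ hp.pos
  have hmain : (r - 1) * Nat.card N = p ^ j := by
    rw [← hj, hcard, ← hr, Nat.sub_mul, one_mul]
  have hr1dvd : (r - 1) ∣ p ^ j := ⟨_, hmain.symm⟩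
  obtain ⟨i, -, hi⟩ := (Nat.dvd_prime_pow hp).mp hr1dvd
  have hi0 : i = 0 := by
    by_contra hi0
    have h1 : p ∣ r - 1 := by rw [hi]; exact dvd_pow_self p hi0
    have h2 : p ∣ r - (r - 1) := Nat.dvd_sub hpr h1
    have h3 : r - (r - 1) = 1 := by omega
    rw [h3] at h2
    exact hp.one_lt.ne' (Nat.dvd_one.mp h2)
  subst hi0
  have hr2 : r = 2 := by
    simp only [pow_zero] at hi
    omega
  refine ⟨?_, hr2⟩
  rw [hr2] at hpr
  exact ((Nat.prime_dvd_prime_iff_eq hp Nat.prime_two).mp hpr)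

end Cfsg.Agent.S4013
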