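import Cfsg.Statements.S4015
import Cfsg.Agent.Lib.Helper57.GLSylowD
-- import your own Cfsg.Agent.* helpers here

set_option autoImplicit false
open Cfsg

namespace Cfsg.Agent.S4015

open Cfsg.Agent.Helper40.SylGL Cfsg.Agent.Helper57

/-- Let p be an odd prime, F a finite field with q elements where p does not divide q, and e the multiplicative order of q modulo p. Let n ≥ e and write w = ⌊n/e⌋ and k = ⌊log_p w⌋. Then a Sylow p-subgroup of GL(n, F) has derived length exactly k + 1: its (k+1)-st derived subgroup is trivial and its k-th is not. -/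
theorem result (p : ℕ) [Fact p.Prime] (hp : p ≠ 2) (F : Type*) [Field F] [Fintype F] (q : ℕ) (hq : Fintype.card F = q) (hpq : ¬ p ∣ q) (n : ℕ) (hn : orderOf (q : ZMod p) ≤ n) (P : Sylow p (Matrix.GeneralLinearGroup (Fin n) F)) : derivedSeries ↥(P : Subgroup (Matrix.GeneralLinearGroup (Fin n) F)) (Nat.log p (n / orderOf (q : ZMod p)) + 1) = ⊥ ∧ derivedSeries ↥(P : Subgroup (Matrix.GeneralLinearGroup (Fin n) F)) (Nat.log p (n / orderOf (q : ZMod p))) ≠ ⊥ := by
  classical
  have hpr : p.Prime := Fact.out
  have hq2 : 2 ≤ q := hq ▸ Fintype.one_lt_card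
  have hepos : 0 < orderOf (q : ZMod p) := orderOf_pos hpq
  have hval := padicValNat_card_GL_cross (p := p) hq2 hpq hp n
  have hdvd : p ∣ q ^ orderOf (q : ZMod p) - 1 := (dvd_pow_sub_one_iff (by omega) _).mpr dvd_rfl
  obtain ⟨e, he⟩ : ∃ e, e = orderOf (q : ZMod p) := ⟨_, rfl⟩
  rw [← he] at hepos hval hn hdvd ⊢
  have hchar : CharP F (ringChar F) := ringChar.charP F
  have hprime : Fact (ringChar F).Prime := ⟨CharP.char_is_prime F (ringChar F)⟩
  have hne : NeZero e := ⟨hepos.ne'⟩
  have hfr : Module.finrank F (FiniteField.Extension F (ringChar F) e) = e :=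
    FiniteField.finrank_extension F (ringChar F) e
  have hcardE : Nat.card (FiniteField.Extension F (ringChar F) e)ˣ = q ^ e - 1 := by
    rw [Nat.card_units, FiniteField.natCard_extension, Nat.card_eq_fintype_card, hq]
  have hfinE : Finite (FiniteField.Extension F (ringChar F) e) := by
    apply Nat.finite_of_card_ne_zero
    rw [FiniteField.natCard_extension, Nat.card_eq_fintype_card, hq]
    exact pow_ne_zero _ (by omega)
  apply gl_sylow_der (FiniteField.Extension F (ringChar F) e) p n (n / e)
    (Nat.div_pos hn hepos) (by rw [hfr]; exact Nat.div_mul_le_self n e) _ (by rw [hcardE]; exact hdvd) P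
  rw [Nat.factorization_def _ hpr, Matrix.card_GL_field, hq, hval, hcardE]

end Cfsg.Agent.S4015
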