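-- Statement S4016: proof via the CYC lemma server (helper24); see Cfsg/Agent/Lib/Helper24/CYCMain.lean.
import Cfsg.Statements.S4016
import Cfsg.Agent.Lib.Helper24.CYCMain

set_option autoImplicit false
open Cfsg

namespace Cfsg.Agent.S4016

open Cfsg.Agent.Helper24.CYC Cfsg.Agent.Helper24.CYCMain

/-- Let G be a finite group and p a prime such that a Sylow p-subgroup P of G is cyclic and every subgroup of G of order prime to p is abelian. Then G has a normal p-complement or P is normal in G. -/
theorem result {G : Type*} [Group G] [Finite G] {p : ℕ}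
    [Fact p.Prime] (P : Sylow p G) (hcyc : IsCyclic P)
    (hab : ∀ H : Subgroup G, ¬ p ∣ Nat.card H → IsMulCommutative H) :
    Cfsg.HasNormalPComplement p G ∨ (P : Subgroup G).Normal := by
  have h : Hyp p G := by
    refine ⟨?_, hab⟩
    intro Q
    obtain ⟨g, hg⟩ := MulAction.exists_smul_eq G P Q
    have e : (P : Subgroup G) ≃* (Q : Subgroup G) := by
      rw [← hg]
      exact Sylow.equivSMul P g
    exact isCyclic_of_surjective e e.surjective
  rcases main G p h with h1 | h1
  · exact Or.inl h1
  · exact Or.inr (h1 P)

end Cfsg.Agent.S4016
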