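import Mathlib
import Cfsg.Statements.S4018
import Cfsg.Agent.Lib.Helper60.FG5

set_option autoImplicit false
set_option linter.style.haveILetI false
open Cfsg

namespace Cfsg.Agent.S4018

open Cfsg.Agent.Helper60 Cfsg.Agent.Helper60.FG5
open scoped Pointwise

/-- Let G be a finite group with an abelian Sylow 3-subgroup P such that the normalizer of P has order 4·#P, the centralizer C of P has order 2·#P, C meets each of its conjugates by elements outside its normalizer trivially, and every proper subgroup of G of even order has order dividing 4·#P. Then G is not simple. -/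
theorem result {G : Type*} [Group G] [Finite G]
    (P : Sylow 3 G) (hab : IsMulCommutative P)
    (hN : Nat.card (Subgroup.normalizer ((P : Subgroup G) : Set G)) = 4 * Nat.card P)
    (hC : Nat.card (Subgroup.centralizer (P : Set G)) = 2 * Nat.card P)
    (hTI : Cfsg.IsTISubset (Subgroup.centralizer (P : Set G) : Set G))
    (heven : ∀ H : Subgroup G, H ≠ ⊤ → 2 ∣ Nat.card H → Nat.card H ∣ 4 * Nat.card P) :
    ¬ IsSimpleGroup G := by
  intro hs
  haveI := hs
  haveI : Fact (Nat.Prime 3) := ⟨Nat.prime_three⟩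
  haveI : Fact (Nat.Prime 2) := ⟨Nat.prime_two⟩
  obtain ⟨a, ha0⟩ := IsPGroup.iff_card.mp P.isPGroup'
  have ha : Nat.card P = 3 ^ a := ha0
  have hC' : Nat.card (Subgroup.centralizer ((P : Subgroup G) : Set G)) = 2 * 3 ^ a := by
    rw [← ha]; exact hC
  have hZ : ∀ z : G, (∀ g, g * z = z * g) → z = 1 := by
    intro z hz
    by_contra hz1
    have hcn : (Subgroup.center G) = ⊤ := by
      rcases (inferInstance : (Subgroup.center G).Normal).eq_bot_or_eq_top with h | h
      · exfalso; apply hz1
        have : z ∈ Subgroup.center G := Subgroup.mem_center_iff.mpr hz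
        rw [h] at this; exact Subgroup.mem_bot.mp this
      · exact h
    have hle : Subgroup.normalizer ((P : Subgroup G) : Set G) ≤
        Subgroup.centralizer ((P : Subgroup G) : Set G) := by
      intro x _
      have hx : x ∈ Subgroup.center G := hcn ▸ Subgroup.mem_top x
      exact Subgroup.center_le_centralizer _ hx
    have := Subgroup.card_dvd_of_le hle
    rw [hN, hC', ha] at this
    have hpos : 0 < 3 ^ a := by positivity
    have := Nat.le_of_dvd (by omega) this
    omega
  have heven' : ∀ H : Subgroup G, H ≠ ⊤ → 2 ∣ Nat.card H → Nat.card H ∣ 4 * 3 ^ a := by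
    intro H h1 h2; rw [← ha]; exact heven H h1 h2
  have habP : ∀ x ∈ (P : Subgroup G), ∀ y ∈ (P : Subgroup G), x * y = y * x := by
    intro x hx y hy
    have := hab.is_comm.comm (⟨x, hx⟩ : P) ⟨y, hy⟩
    exact congrArg Subtype.val this
  have hsyl : ∀ g : G, g ^ (3 ^ a) = 1 → ∃ Q : Subgroup G, g ∈ Q ∧ Nat.card Q = 3 ^ a ∧
      (∀ x ∈ Q, ∀ y ∈ Q, x * y = y * x) ∧
      Nat.card (Subgroup.centralizer (Q : Set G)) = 2 * 3 ^ a := by
    intro g hg
    have hpg : IsPGroup 3 (Subgroup.zpowers g) := by
      have : orderOf g ∣ 3 ^ a := orderOf_dvd_of_pow_eq_one hg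
      obtain ⟨m, -, hm⟩ := (Nat.dvd_prime_pow Nat.prime_three).mp this
      exact IsPGroup.of_card (n := m) (by rw [Nat.card_zpowers, hm])
    obtain ⟨Q, hQ⟩ := hpg.exists_le_sylow
    obtain ⟨x, rfl⟩ := MulAction.exists_smul_eq G P Q
    have e : ((x • P : Sylow 3 G) : Subgroup G) = MulAut.conj x • (P : Subgroup G) := rfl
    obtain ⟨t1, t2, t3⟩ := conj_transport x (P : Subgroup G)
    refine ⟨MulAut.conj x • (P : Subgroup G), ?_, ?_, t2 habP, ?_⟩
    · rw [← e]; exact hQ (Subgroup.mem_zpowers g)
    · rw [t1]; exact ha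
    · rw [t3]; exact hC'
  -- the commuting graph on involutions
  haveI : Fintype {x : G // orderOf x = 2} := Fintype.ofFinite _
  let Γ : SimpleGraph {x : G // orderOf x = 2} :=
    { Adj := fun x y => x ≠ y ∧ (x : G) * y = y * x
      symm := ⟨fun x y h => ⟨h.1.symm, h.2.symm⟩⟩
      loopless := ⟨fun x h => h.1 rfl⟩ }
  have hF : Friend.Friendship Γ := by
    apply Friend.friendship_of_exists_unique
    intro v w hvw
    have huv : (v : G) ≠ w := fun h => hvw (Subtype.ext h)
    obtain ⟨t, ot, htu, htv, ctu, ctv, huniq⟩ : ∃ t : G, orderOf t = 2 ∧ t ≠ v ∧ t ≠ w ∧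
        t * v = v * t ∧ t * w = w * t ∧
        ∀ s : G, orderOf s = 2 → s ≠ v → s ≠ w → s * v = v * s → s * w = w * s → s = t := by
      by_cases hc : (v : G) * w = w * v
      · exact common_comm hZ a heven' v.2 w.2 huv hc
      · exact common_noncomm hZ a heven' hsyl v.2 w.2 hc
    refine ⟨⟨t, ot⟩, ?_, ?_, ?_⟩
    · exact ⟨fun h => htu (congrArg Subtype.val h).symm, ctu.symm⟩
    · exact ⟨fun h => htv (congrArg Subtype.val h).symm, ctv.symm⟩
    · rintro ⟨s, os⟩ hs1 hs2
      apply Subtype.ext
      exact huniq s os (fun h => hs1.1 (Subtype.ext h.symm)) (fun h => hs2.1 (Subtype.ext h.symm))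
        hs1.2.symm hs2.2.symm
  haveI : Nonempty {x : G // orderOf x = 2} := by
    have h2 : 2 ∣ Nat.card G := by
      have := Subgroup.card_subgroup_dvd_card (Subgroup.normalizer ((P : Subgroup G) : Set G))
      rw [hN] at this
      exact (Dvd.intro (2 * Nat.card P) (by ring)).trans this
    obtain ⟨x, hx⟩ := exists_prime_orderOf_dvd_card' 2 h2
    exact ⟨⟨x, hx⟩⟩
  obtain ⟨z, hz⟩ := Friend.friendship_theorem hF
  have hzc : ∀ w : G, orderOf w = 2 → (z : G) * w = w * z := by
    intro w ow
    by_cases h : z = ⟨w, ow⟩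
    · have : (z : G) = w := congrArg Subtype.val h
      rw [this]
    · exact (hz ⟨w, ow⟩ h).2
  have hNn : (Subgroup.centralizer {x : G | orderOf x = 2}).Normal := by
    constructor
    intro n hn g
    rw [Subgroup.mem_centralizer_iff] at hn ⊢
    intro h hh
    have h1 : g⁻¹ * h * g ∈ {x : G | orderOf x = 2} := by
      have := orderOf_conj_h60 g⁻¹ h
      rw [inv_inv] at this
      rw [Set.mem_ofPred_eq, this]; exact hh
    have := hn _ h1
    calc h * (g * n * g⁻¹) = g * ((g⁻¹ * h * g) * n) * g⁻¹ := by group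
      _ = g * (n * (g⁻¹ * h * g)) * g⁻¹ := by rw [this]
      _ = g * n * g⁻¹ * h := by group
  have hzN : (z : G) ∈ Subgroup.centralizer {x : G | orderOf x = 2} :=
    Subgroup.mem_centralizer_iff.mpr (fun w hw => (hzc w hw).symm)
  have hNtop : Subgroup.centralizer {x : G | orderOf x = 2} = ⊤ := by
    rcases hNn.eq_bot_or_eq_top with h | h
    · exfalso
      rw [h] at hzN
      have h1 := Subgroup.mem_bot.mp hzN
      have o := z.2
      rw [h1, orderOf_one] at o
      norm_num at o
    · exact h
  have hz1 : (z : G) = 1 := hZ z (fun g => by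
    have hg : g ∈ Subgroup.centralizer {x : G | orderOf x = 2} := hNtop ▸ Subgroup.mem_top g
    exact (Subgroup.mem_centralizer_iff.mp hg z z.2).symm)
  have o := z.2
  rw [hz1, orderOf_one] at o
  norm_num at o

end Cfsg.Agent.S4018
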