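import Cfsg.Statements.S4023
import Cfsg.Agent.Lib.Helper66.SameOrderIso

set_option autoImplicit false
open Cfsg

namespace Cfsg.Agent.S4023

/-- Let p be a prime and G a finite group in which any two p-subgroups of the same order are conjugate, with Sylow p-subgroup P. Then P is cyclic, or elementary abelian, or p = 2 and P is a quaternion group of order 8, or p is odd and P is non-abelian of order p³ and exponent p. -/
theorem result {G : Type*} [Group G] [Finite G]
    {p : ℕ} [Fact p.Prime] (hC : ∀ H K : Subgroup G, IsPGroup p H → IsPGroup p K → Nat.card H = Nat.card K →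
      ∃ g : G, K = H.map (MulAut.conj g).toMonoidHom) (P : Sylow p G) :
    IsCyclic P ∨ Cfsg.IsElementaryAbelian p (P : Subgroup G) ∨
      (p = 2 ∧ Nonempty ((P : Subgroup G) ≃* QuaternionGroup 2)) ∨
      (p ≠ 2 ∧ ¬ IsMulCommutative P ∧ Nat.card P = p ^ 3 ∧ Monoid.exponent P = p) := by
  have hpp : p.Prime := Fact.out
  have hiso : ∀ A B : Subgroup (P : Subgroup G), Nat.card A = Nat.card B → Nonempty (A ≃* B) := by
    intro A B hAB
    have hA : IsPGroup p (A.map (P : Subgroup G).subtype) := (P.2.to_subgroup A).map _
    have hB : IsPGroup p (B.map (P : Subgroup G).subtype) := (P.2.to_subgroup B).map _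
    obtain ⟨g, hg⟩ := hC _ _ hA hB (by
      rw [Subgroup.card_map_of_injective (P : Subgroup G).subtype_injective,
        Subgroup.card_map_of_injective (P : Subgroup G).subtype_injective, hAB])
    have e1 : A ≃* A.map (P : Subgroup G).subtype :=
      Subgroup.equivMapOfInjective A _ (P : Subgroup G).subtype_injective
    have e2 : A.map (P : Subgroup G).subtype ≃*
        (A.map (P : Subgroup G).subtype).map (MulAut.conj g).toMonoidHom :=
      Subgroup.equivMapOfInjective _ _ (MulAut.conj g).injective
    have e3 : (A.map (P : Subgroup G).subtype).map (MulAut.conj g).toMonoidHom ≃*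
        B.map (P : Subgroup G).subtype := MulEquiv.subgroupCongr hg.symm
    have e4 : B ≃* B.map (P : Subgroup G).subtype :=
      Subgroup.equivMapOfInjective B _ (P : Subgroup G).subtype_injective
    exact ⟨((e1.trans e2).trans e3).trans e4.symm⟩
  rcases Cfsg.Agent.Helper66.structure_of_iso_same_card p P.2 hiso with h | ⟨h1, h2⟩ | h |
    ⟨h1, h2, h3, h4⟩
  · exact Or.inl h
  · right; left
    refine ⟨⟨⟨h1⟩⟩, ?_⟩
    intro a ha
    exact congrArg Subtype.val (h2 ⟨a, ha⟩)
  · right; right; left
    exact h
  · right; right; right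
    refine ⟨h1, fun hc => h2 (fun a b => hc.is_comm.comm a b), h3, ?_⟩
    have hdvd : Monoid.exponent (P : Subgroup G) ∣ p := Monoid.exponent_dvd_of_forall_pow_eq_one h4
    rcases (Nat.dvd_prime hpp).mp hdvd with h5 | h5
    · exfalso
      apply h2
      have hsub : Subsingleton (P : Subgroup G) := Monoid.exp_eq_one_iff.mp h5
      intro a b
      rw [Subsingleton.elim a 1, Subsingleton.elim b 1]
    · exact h5

end Cfsg.Agent.S4023
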