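import Cfsg.Statements.S4024
import Cfsg.Agent.S4023
import Cfsg.Agent.Lib.Helper66.PSolvFusion

set_option autoImplicit false
open Cfsg

namespace Cfsg.Agent.S4024

/-- Let p be an odd prime and G a finite group in which any two p-subgroups of the same order are conjugate, with Sylow p-subgroup P. If H is a normal p-solvable subgroup of G whose order is divisible by p, then P is abelian, and either P ≤ H or P is cyclic. -/
theorem result {G : Type*} [Group G] [Finite G]
    {p : ℕ} [Fact p.Prime] (hp : p ≠ 2) (hC : ∀ H K : Subgroup G, IsPGroup p H → IsPGroup p K → Nat.card H = Nat.card K →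
      ∃ g : G, K = H.map (MulAut.conj g).toMonoidHom) (P : Sylow p G)
    (H : Subgroup G) [hHn : H.Normal] (hsolv : Cfsg.IsPSolvable p H) (hdiv : p ∣ Nat.card H) :
    IsMulCommutative P ∧ ((P : Subgroup G) ≤ H ∨ IsCyclic P) := by
  have hpp : p.Prime := Fact.out
  -- exponent `p` forces `P ≤ H`
  have hPH_of_exp : (∀ x ∈ (P : Subgroup G), x ^ p = 1) → (P : Subgroup G) ≤ H := by
    intro hexp x hx
    by_cases hx1 : x = 1
    · rw [hx1]; exact H.one_mem
    obtain ⟨h, hh⟩ := exists_prime_orderOf_dvd_card' (G := H) p hdiv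
    have ho : orderOf x = p := orderOf_eq_prime (hexp x hx) hx1
    have hho : orderOf (h : G) = p := by rw [Subgroup.orderOf_coe]; exact hh
    have h1 : IsPGroup p (Subgroup.zpowers (h : G)) :=
      IsPGroup.of_card (n := 1) (by rw [Nat.card_zpowers, hho, pow_one])
    have h2 : IsPGroup p (Subgroup.zpowers x) :=
      IsPGroup.of_card (n := 1) (by rw [Nat.card_zpowers, ho, pow_one])
    obtain ⟨g, hg⟩ := hC _ _ h1 h2 (by rw [Nat.card_zpowers, Nat.card_zpowers, ho, hho])
    have h3 : x ∈ (Subgroup.zpowers (h : G)).map (MulAut.conj g).toMonoidHom := by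
      rw [← hg]; exact Subgroup.mem_zpowers x
    obtain ⟨y, hy, rfl⟩ := h3
    have hyH : y ∈ H := by
      obtain ⟨k, rfl⟩ := Subgroup.mem_zpowers_iff.mp hy
      exact H.zpow_mem h.2 k
    exact hHn.conj_mem y hyH g
  rcases Cfsg.Agent.S4023.result hC P with hcyc | ⟨hc, hexp⟩ | ⟨h2, -⟩ | ⟨-, hnc, hcard, hexpo⟩
  · exact ⟨IsCyclic.isMulCommutative, Or.inr hcyc⟩
  · exact ⟨hc, Or.inl (hPH_of_exp hexp)⟩
  · exact absurd h2 hp
  · exfalso
    have hexp : ∀ x ∈ (P : Subgroup G), x ^ p = 1 := by
      intro x hx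
      have h1 : (⟨x, hx⟩ : (P : Subgroup G)) ^ Monoid.exponent (P : Subgroup G) = 1 :=
        Monoid.pow_exponent_eq_one _
      rw [hexpo] at h1
      exact congrArg Subtype.val h1
    have hPH := hPH_of_exp hexp
    have hnc' : ¬ ∀ a b : (P : Subgroup G), a * b = b * a := fun h => hnc ⟨⟨h⟩⟩
    have hZ₀card := Cfsg.Agent.Helper66.card_center_of_card_cube p hcard hnc'
    obtain ⟨Z, hZdef⟩ : ∃ Z : Subgroup G,
        Z = (Subgroup.center (P : Subgroup G)).map (P : Subgroup G).subtype := ⟨_, rfl⟩
    have hZcard : Nat.card Z = p := by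
      rw [hZdef, Subgroup.card_map_of_injective (P : Subgroup G).subtype_injective, hZ₀card]
    have hZP : Z ≤ (P : Subgroup G) := by
      rw [hZdef]; rintro _ ⟨z, _, rfl⟩; exact z.2
    have hmemZ : ∀ z : G, z ∈ Z ↔ z ∈ (P : Subgroup G) ∧ ∀ y ∈ (P : Subgroup G), y * z = z * y := by
      intro z
      rw [hZdef]
      constructor
      · rintro ⟨z', hz', rfl⟩
        refine ⟨z'.2, fun y hy => ?_⟩
        exact congrArg Subtype.val (Subgroup.mem_center_iff.mp hz' ⟨y, hy⟩)
      · rintro ⟨hzP, hz⟩
        refine ⟨⟨z, hzP⟩, ?_, rfl⟩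
        show (⟨z, hzP⟩ : (P : Subgroup G)) ∈ Subgroup.center (P : Subgroup G)
        rw [Subgroup.mem_center_iff]
        intro y
        exact Subtype.ext (hz y y.2)
    -- `N_G(P)` normalizes `Z`
    have hZnormG : ∀ n ∈ Subgroup.normalizer ((P : Subgroup G) : Set G), ∀ z ∈ Z, n * z * n⁻¹ ∈ Z := by
      intro n hn z hz
      rw [hmemZ] at hz ⊢
      refine ⟨(Subgroup.mem_normalizer_iff.mp hn z).mp hz.1, fun y hy => ?_⟩
      have hy' : n⁻¹ * y * n⁻¹⁻¹ ∈ (P : Subgroup G) :=
        (Subgroup.mem_normalizer_iff.mp (Subgroup.inv_mem _ hn) y).mp hy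
      have h1 := hz.2 _ hy'
      calc y * (n * z * n⁻¹) = n * ((n⁻¹ * y * n⁻¹⁻¹) * z) * n⁻¹ := by group
        _ = n * (z * (n⁻¹ * y * n⁻¹⁻¹)) * n⁻¹ := by rw [h1]
        _ = n * z * n⁻¹ * y := by group
    -- a noncentral element
    obtain ⟨x₀, hx₀P, hx₀Z⟩ : ∃ x₀ : G, x₀ ∈ (P : Subgroup G) ∧ x₀ ∉ Z := by
      by_contra hall
      apply hnc'
      intro a b
      have hb : (b : G) ∈ Z := by
        by_contra hb
        exact hall ⟨b, b.2, hb⟩
      exact Subtype.ext ((hmemZ _).mp hb |>.2 a a.2)
    have hx₀1 : x₀ ≠ 1 := fun h => hx₀Z (h ▸ Z.one_mem)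
    have hx₀o : orderOf x₀ = p := orderOf_eq_prime (hexp x₀ hx₀P) hx₀1
    -- set up the lemma inside `H`
    have hPcard : Nat.card (P : Subgroup G) = p ^ (Nat.card H).factorization p := by
      rw [hcard]
      congr 1
      apply le_antisymm
      · have h1 : p ^ 3 ∣ Nat.card H := by rw [← hcard]; exact Subgroup.card_dvd_of_le hPH
        exact (hpp.pow_dvd_iff_le_factorization Nat.card_pos.ne').mp h1
      · have h1 : (Nat.card H).factorization p ≤ (Nat.card G).factorization p :=
          (Nat.factorization_le_iff_dvd Nat.card_pos.ne' Nat.card_pos.ne').mpr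
            (Subgroup.card_subgroup_dvd_card H) p
        have h2 : Nat.card (P : Subgroup G) = p ^ (Nat.card G).factorization p :=
          P.card_eq_multiplicity
        rw [hcard] at h2
        have h3 := Nat.pow_right_injective hpp.two_le h2
        omega
    have key := Cfsg.Agent.Helper66.unique_order_p_of_psolvable p hsolv
      ((P : Subgroup G).subgroupOf H) (Z.subgroupOf H)
      (by
        rw [← hPcard]
        exact Nat.card_congr (Subgroup.subgroupOfEquivOfLe hPH).toEquiv)
      (by
        intro x hx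
        exact Subtype.ext (hexp (x : G) hx))
      (by
        intro z hz
        exact hZP hz)
      (by
        rw [← hZcard]
        exact Nat.card_congr (Subgroup.subgroupOfEquivOfLe (hZP.trans hPH)).toEquiv)
      (by
        intro n hn z hz
        have hnG : (n : G) ∈ Subgroup.normalizer ((P : Subgroup G) : Set G) := by
          apply Cfsg.Agent.Helper66.mem_normalizer_of_forall_conj_mem
          intro r hr
          have h1 : n * ⟨r, hPH hr⟩ * n⁻¹ ∈ (P : Subgroup G).subgroupOf H :=
            (Subgroup.mem_normalizer_iff.mp hn ⟨r, hPH hr⟩).mp hr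
          exact h1
        exact hZnormG _ hnG _ hz)
      (by
        intro Y hY
        have hYp : IsPGroup p (Y.map H.subtype) :=
          IsPGroup.of_card (n := 1) (by
            rw [Subgroup.card_map_of_injective H.subtype_injective, hY, pow_one])
        have hZp : IsPGroup p Z := IsPGroup.of_card (n := 1) (by rw [hZcard, pow_one])
        obtain ⟨g, hg⟩ := hC Z (Y.map H.subtype) hZp hYp (by
          rw [Subgroup.card_map_of_injective H.subtype_injective, hY, hZcard])
        -- Frattini
        have hBH : (P : Subgroup G).map (MulAut.conj g).toMonoidHom ≤ H := by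
          rintro _ ⟨x, hx, rfl⟩
          exact hHn.conj_mem x (hPH hx) g
        obtain ⟨h, hhH, hh⟩ := Cfsg.Agent.Helper66.exists_conj_of_card_eq p H (P : Subgroup G)
          ((P : Subgroup G).map (MulAut.conj g).toMonoidHom) hPH hBH hPcard
          (by rw [Subgroup.card_map_of_injective (MulAut.conj g).injective, hPcard])
        have hn : g⁻¹ * h ∈ Subgroup.normalizer ((P : Subgroup G) : Set G) := by
          have hn' : h⁻¹ * g ∈ Subgroup.normalizer ((P : Subgroup G) : Set G) := by
            apply Cfsg.Agent.Helper66.mem_normalizer_of_forall_conj_mem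
            intro r hr
            have h1 : h⁻¹ * (g * r * g⁻¹) * h ∈ (P : Subgroup G) := (hh _).mp ⟨r, hr, rfl⟩
            have h2 : h⁻¹ * g * r * (h⁻¹ * g)⁻¹ = h⁻¹ * (g * r * g⁻¹) * h := by group
            rw [h2]; exact h1
          have := Subgroup.inv_mem _ hn'
          simpa using this
        refine ⟨⟨h, hhH⟩, ?_⟩
        intro z hz
        have hzZ : (z : G) ∈ Z := hz
        have h1 : g⁻¹ * h * (z : G) * (g⁻¹ * h)⁻¹ ∈ Z := hZnormG _ hn _ hzZ
        have h2 : h * (z : G) * h⁻¹ ∈ Y.map H.subtype := by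
          rw [hg]
          refine ⟨g⁻¹ * h * (z : G) * (g⁻¹ * h)⁻¹, h1, ?_⟩
          simp only [MulEquiv.coe_toMonoidHom, MulAut.conj_apply]
          group
        obtain ⟨y, hy, hy'⟩ := h2
        have : y = ⟨h, hhH⟩ * z * ⟨h, hhH⟩⁻¹ := Subtype.ext (by simpa using hy')
        rw [← this]
        exact hy)
      ((Subgroup.zpowers x₀).subgroupOf H)
      (by
        intro y hy
        have h1 : (y : G) ∈ Subgroup.zpowers x₀ := hy
        have h2 : Subgroup.zpowers x₀ ≤ (P : Subgroup G) := by
          rw [Subgroup.zpowers_le]; exact hx₀P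
        exact h2 h1)
      (by
        have h2 : Subgroup.zpowers x₀ ≤ H := by
          rw [Subgroup.zpowers_le]; exact hPH hx₀P
        rw [Nat.card_congr (Subgroup.subgroupOfEquivOfLe h2).toEquiv, Nat.card_zpowers, hx₀o])
    apply hx₀Z
    have h1 : (⟨x₀, hPH hx₀P⟩ : H) ∈ (Subgroup.zpowers x₀).subgroupOf H :=
      Subgroup.mem_subgroupOf.mpr (Subgroup.mem_zpowers x₀)
    rw [key] at h1
    exact h1

end Cfsg.Agent.S4024
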