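import Cfsg.Statements.S4027
import Mathlib
import Cfsg.Agent.Lib.Helper67.TwoClosed

set_option autoImplicit false
open Cfsg

namespace Cfsg.Agent.S4027

open Cfsg.Agent.Helper67

/-- Let G be a finite group in which every element x of odd order satisfies N_G(⟨x⟩) = C_G(x). Then the Sylow 2-subgroups of G are normal. -/
theorem result {G : Type*} [Group G] [Finite G]
    (hirr : ∀ x : G, (∀ r : ℕ, r.Prime → r ∣ orderOf x → r ≠ 2) →
      Subgroup.normalizer ((Subgroup.zpowers x : Subgroup G) : Set G) ≤ Subgroup.centralizer {x}) (P : Sylow 2 G) :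
    (P : Subgroup G).Normal := by
  apply sylow_two_normal_of_noRealOdd
  intro x g hg hodd
  have h1 : ∀ r : ℕ, r.Prime → r ∣ orderOf x → r ≠ 2 := by
    rintro r _ hr rfl
    exact (Nat.not_even_iff_odd.2 hodd) (even_iff_two_dvd.2 hr)
  have h2 := hirr x h1 (mem_normalizer_zpowers_of_inverts hg)
  rw [Subgroup.mem_centralizer_iff] at h2
  have h3 : x * g = g * x := h2 x rfl
  exact eq_one_of_inverts_of_commute hg h3.symm hodd

end Cfsg.Agent.S4027
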