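import Cfsg.Statements.S4028
import Mathlib
import Cfsg.Agent.Lib.Helper67.BaerSuzuki

set_option autoImplicit false
open Cfsg

namespace Cfsg.Agent.S4028

open Cfsg.Agent.Helper67

/-- An element of odd order normalizing a cyclic `2`-group centralizes it. -/
theorem odd_normalizer_centralizes {G : Type*} [Group G] [Finite G] (x g : G) (k : ℕ)
    (hx : orderOf x = 2 ^ k) (hg : g ∈ Subgroup.normalizer ((Subgroup.zpowers x : Subgroup G) : Set G))
    (hodd : Odd (orderOf g)) : g * x = x * g := by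
  set H := Subgroup.zpowers x with hH
  set φ := H.normalizerMonoidHom with hφ
  set g' : Subgroup.normalizer (H : Set G) := ⟨g, hg⟩ with hg'
  have h1 : (φ g') ^ (orderOf g) = 1 := by
    rw [← map_pow]
    have : g' ^ orderOf g = 1 := by
      apply Subtype.ext
      simp [hg', pow_orderOf_eq_one]
    rw [this, map_one]
  have hcard : ∃ j : ℕ, Nat.card (MulAut H) = 2 ^ j := by
    have hc : IsCyclic H := by rw [hH]; infer_instance
    have hcH : Nat.card H = 2 ^ k := by rw [hH, Nat.card_zpowers, hx]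
    rcases Nat.eq_zero_or_pos k with h0 | h0
    · refine ⟨0, ?_⟩
      rw [hc.card_mulAut, hcH, h0, pow_zero, Nat.totient_one]
    · refine ⟨k - 1, ?_⟩
      rw [hc.card_mulAut, hcH, Nat.totient_prime_pow Nat.prime_two h0]
      simp
  obtain ⟨j, hj⟩ := hcard
  have h2 : (φ g') ^ (2 ^ j) = 1 := by rw [← hj]; exact pow_card_eq_one'
  have h3 : φ g' = 1 := by
    have d1 := orderOf_dvd_of_pow_eq_one h1
    have d2 := orderOf_dvd_of_pow_eq_one h2
    have hcop : Nat.Coprime (orderOf g) (2 ^ j) :=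
      Nat.Coprime.pow_right j (Nat.coprime_two_right.2 hodd)
    exact orderOf_eq_one_iff.1 (Nat.eq_one_of_dvd_coprimes hcop d1 d2)
  have h4 : g' ∈ φ.ker := h3
  rw [hφ, Subgroup.normalizerMonoidHom_ker, Subgroup.mem_subgroupOf] at h4
  have := Subgroup.mem_centralizer_iff.1 h4 x (Subgroup.mem_zpowers x)
  exact this.symm

/-- If `g` normalizes `⟨x⟩`, so do its powers. -/
theorem pow_mem_normalizer {G : Type*} [Group G] (x g : G) (n : ℕ)
    (hg : g ∈ Subgroup.normalizer ((Subgroup.zpowers x : Subgroup G) : Set G)) :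
    g ^ n ∈ Subgroup.normalizer ((Subgroup.zpowers x : Subgroup G) : Set G) := pow_mem hg n

theorem backward {G : Type*} [Group G] [Finite G] (P : Sylow 2 G)
    (hP : ∀ y : ↥(P : Subgroup G), Subgroup.normalizer ((Subgroup.zpowers y : Subgroup ↥(P : Subgroup G)) : Set ↥(P : Subgroup G)) ≤
        Subgroup.centralizer {y})
    (x : G) (hx2 : ∀ r : ℕ, r.Prime → r ∣ orderOf x → r = 2) (g : G)
    (hg : g ∈ Subgroup.normalizer ((Subgroup.zpowers x : Subgroup G) : Set G)) : g * x = x * g := by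
  have hxk : ∃ k : ℕ, orderOf x = 2 ^ k :=
    ⟨_, Nat.eq_prime_pow_of_unique_prime_dvd (orderOf_pos x).ne' (fun {d} hd hdvd => hx2 d hd hdvd)⟩
  obtain ⟨k, hk⟩ := hxk
  obtain ⟨a, m, hm, hgm⟩ := Nat.exists_eq_two_pow_mul_odd (orderOf_pos g).ne'
  have hm0 : m ≠ 0 := by rintro rfl; simp at hm
  have h2a0 : 2 ^ a ≠ 0 := by positivity
  set go := g ^ (2 ^ a) with hgo
  set g2 := g ^ m with hg2
  have hgoo : orderOf go = m := by
    rw [hgo, orderOf_pow_of_dvd h2a0 (hgm ▸ Dvd.intro _ rfl), hgm]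
    exact Nat.mul_div_cancel_left _ (Nat.pos_of_ne_zero h2a0)
  have hg2o : orderOf g2 = 2 ^ a := by
    rw [hg2, orderOf_pow_of_dvd hm0 (hgm ▸ Dvd.intro_left _ rfl), hgm]
    exact Nat.mul_div_cancel _ (Nat.pos_of_ne_zero hm0)
  have hgoN := pow_mem_normalizer x g (2 ^ a) hg
  have hg2N := pow_mem_normalizer x g m hg
  have c1 : go * x = x * go := odd_normalizer_centralizes x go k hk hgoN (by rw [hgoo]; exact hm)
  -- the 2-part
  have c2 : g2 * x = x * g2 := by
    have hzx : IsPGroup 2 (Subgroup.zpowers x) := by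
      apply IsPGroup.of_card (n := k); rw [Nat.card_zpowers]; exact hk
    have hzg : IsPGroup 2 (Subgroup.zpowers g2) := by
      apply IsPGroup.of_card (n := a); rw [Nat.card_zpowers]; exact hg2o
    have hle : Subgroup.zpowers g2 ≤ Subgroup.normalizer ((Subgroup.zpowers x : Subgroup G) : Set G) := by
      rw [Subgroup.zpowers_le]; exact hg2N
    have hT := IsPGroup.to_sup_of_normal_right' hzg hzx hle
    obtain ⟨Q, hQ⟩ := hT.exists_le_sylow
    obtain ⟨c, hc⟩ := MulAction.exists_smul_eq G Q P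
    have hxQ : x ∈ (Q : Subgroup G) := hQ ((le_sup_right : Subgroup.zpowers x ≤ _) (Subgroup.mem_zpowers x))
    have hgQ : g2 ∈ (Q : Subgroup G) := hQ ((le_sup_left : Subgroup.zpowers g2 ≤ _) (Subgroup.mem_zpowers g2))
    have hxP : c * x * c⁻¹ ∈ (P : Subgroup G) := by
      rw [← hc, sylow_smul_coe]; exact conj_mem_cj hxQ
    have hgP : c * g2 * c⁻¹ ∈ (P : Subgroup G) := by
      rw [← hc, sylow_smul_coe]; exact conj_mem_cj hgQ
    set y : (P : Subgroup G) := ⟨c * x * c⁻¹, hxP⟩ with hy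
    set h : (P : Subgroup G) := ⟨c * g2 * c⁻¹, hgP⟩ with hh
    have hhN : h ∈ Subgroup.normalizer ((Subgroup.zpowers y : Subgroup ↥(P : Subgroup G)) : Set ↥(P : Subgroup G)) := by
      apply Subgroup.mem_normalizer_fintype
      intro n hn
      obtain ⟨i, rfl⟩ := Subgroup.mem_zpowers_iff.1 hn
      have h1 : g2 * x * g2⁻¹ ∈ Subgroup.zpowers x :=
        (Subgroup.mem_normalizer_iff.1 hg2N x).1 (Subgroup.mem_zpowers x)
      obtain ⟨t, ht⟩ := Subgroup.mem_zpowers_iff.1 h1
      have h2 : h * y * h⁻¹ = y ^ t := by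
        apply Subtype.ext
        simp only [hh, hy, Subgroup.coe_mul, Subgroup.coe_inv, Subgroup.coe_zpow]
        have e1 := map_zpow (MulAut.conj c) x t
        simp only [MulAut.conj_apply] at e1
        rw [← e1, ht]; simp [mul_assoc]
      have h3 : h * y ^ i * h⁻¹ = (h * y * h⁻¹) ^ i := by
        have e1 := map_zpow (MulAut.conj h) y i
        simp only [MulAut.conj_apply] at e1
        exact e1
      rw [SetLike.mem_coe, h3, h2, ← zpow_mul]
      exact Subgroup.zpow_mem_zpowers _ _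
    have hcen := hP y hhN
    rw [Subgroup.mem_centralizer_iff] at hcen
    have h5 : y * h = h * y := hcen y rfl
    have h6 := congrArg Subtype.val h5
    simp only [hh, hy, Subgroup.coe_mul] at h6
    -- c x c⁻¹ c g2 c⁻¹ = c g2 c⁻¹ c x c⁻¹
    have h7 : c * (x * g2) * c⁻¹ = c * (g2 * x) * c⁻¹ := by
      have : c * x * c⁻¹ * (c * g2 * c⁻¹) = c * (x * g2) * c⁻¹ := by simp [mul_assoc]
      rw [← this, h6]; simp [mul_assoc]
    have h8 := mul_left_cancel (mul_right_cancel h7)
    exact h8.symm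
  have hcop : Nat.Coprime (2 ^ a) m := Nat.Coprime.pow_left a (Nat.coprime_two_left.2 hm)
  have hbez := Nat.gcd_eq_gcd_ab (2 ^ a) m
  rw [hcop.gcd_eq_one] at hbez
  have hgd : g = go ^ (Nat.gcdA (2 ^ a) m) * g2 ^ (Nat.gcdB (2 ^ a) m) := by
    rw [hgo, hg2, ← zpow_natCast g (2 ^ a), ← zpow_natCast g m, ← zpow_mul, ← zpow_mul, ← zpow_add]
    have : ((2 ^ a : ℕ) : ℤ) * Nat.gcdA (2 ^ a) m + (m : ℤ) * Nat.gcdB (2 ^ a) m = 1 := by
      rw [← hbez]; simp
    rw [this, zpow_one]
  have hc1 : Commute go x := c1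
  have hc2 : Commute g2 x := c2
  have : Commute g x := by
    rw [hgd]
    exact (hc1.zpow_left _).mul_left (hc2.zpow_left _)
  exact this.eq

theorem result {G : Type*} [Group G] [Finite G] (P : Sylow 2 G) :
    (∀ x : G, (∀ r : ℕ, r.Prime → r ∣ orderOf x → r = 2) →
      Subgroup.normalizer ((Subgroup.zpowers x : Subgroup G) : Set G) ≤ Subgroup.centralizer {x}) ↔
    (∀ y : ↥(P : Subgroup G), Subgroup.normalizer ((Subgroup.zpowers y : Subgroup ↥(P : Subgroup G)) : Set ↥(P : Subgroup G)) ≤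
        Subgroup.centralizer {y}) := by
  constructor
  · intro h y g hg
    rw [Subgroup.mem_centralizer_iff]
    intro z hz
    rw [Set.mem_singleton_iff] at hz
    rw [hz]
    have hy2 : ∀ r : ℕ, r.Prime → r ∣ orderOf (y : G) → r = 2 := by
      intro r hr hd
      obtain ⟨k, hk⟩ := (IsPGroup.iff_orderOf.1 P.isPGroup') y
      rw [Subgroup.orderOf_coe, hk] at hd
      exact (Nat.prime_dvd_prime_iff_eq hr Nat.prime_two).1 (hr.dvd_of_dvd_pow hd)
    have hgN : (g : G) ∈ Subgroup.normalizer ((Subgroup.zpowers (y : G) : Subgroup G) : Set G) := by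
      apply Subgroup.mem_normalizer_fintype
      intro n hn
      obtain ⟨i, rfl⟩ := Subgroup.mem_zpowers_iff.1 hn
      have h1 : g * y ^ i * g⁻¹ ∈ Subgroup.zpowers y :=
        (Subgroup.mem_normalizer_iff.1 hg (y ^ i)).1 (Subgroup.zpow_mem_zpowers y i)
      obtain ⟨t, ht⟩ := Subgroup.mem_zpowers_iff.1 h1
      have h2 := congrArg Subtype.val ht
      simp only [Subgroup.coe_mul, Subgroup.coe_inv, Subgroup.coe_zpow] at h2
      rw [SetLike.mem_coe, ← h2]
      exact Subgroup.zpow_mem_zpowers _ _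
    have := h (y : G) hy2 hgN
    rw [Subgroup.mem_centralizer_iff] at this
    have h3 := this (y : G) rfl
    apply Subtype.ext
    simpa using h3
  · intro h x hx g hg
    rw [Subgroup.mem_centralizer_iff]
    intro z hz
    rw [Set.mem_singleton_iff] at hz
    rw [hz]
    exact (backward P h x hx g hg).symm

end Cfsg.Agent.S4028
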