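import Mathlib
import Cfsg.Statements.S4029
import Cfsg.Agent.S0160
import Cfsg.Agent.Lib.Helper74.LinChar
import Cfsg.Agent.Lib.Helper2.PGroup
import Cfsg.Agent.Lib.Helper67.TwoClosed

set_option autoImplicit false
open Cfsg

namespace Cfsg.Agent.S4029

open Cfsg.Agent.Helper74

/-- real elements have square one -/
theorem sq_eq_one_of_real {P : Type*} [Group P]
    (hirr : ∀ y : P, Subgroup.normalizer ((Subgroup.zpowers y : Subgroup P) : Set P) ≤
      Subgroup.centralizer {y}) (g : P) (h : IsConj g g⁻¹) : g ^ 2 = 1 := by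
  obtain ⟨c, hc⟩ := isConj_iff.1 h
  have h1 := hirr g (Cfsg.Agent.Helper67.mem_normalizer_zpowers_of_inverts hc)
  have h2 : g * c = c * g := Subgroup.mem_centralizer_iff.1 h1 g rfl
  have h3 : g⁻¹ = g := by rw [← hc, ← h2, mul_inv_cancel_right]
  calc g ^ 2 = g * g := sq g
    _ = g⁻¹ * g := by rw [h3]
    _ = 1 := inv_mul_cancel g

theorem exists_involution_of_real {P : Type*} [Group P]
    (hirr : ∀ y : P, Subgroup.normalizer ((Subgroup.zpowers y : Subgroup P) : Set P) ≤
      Subgroup.centralizer {y}) (C : ConjClasses P)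
    (hC : ∀ g : P, ConjClasses.mk g = C → IsConj g g⁻¹) (hne : C ≠ ConjClasses.mk 1) :
    ∃ y : P, ConjClasses.mk y = C ∧ orderOf y = 2 := by
  obtain ⟨y, rfl⟩ := ConjClasses.mk_surjective C
  refine ⟨y, rfl, ?_⟩
  have : Fact (Nat.Prime 2) := ⟨Nat.prime_two⟩
  apply orderOf_eq_prime (sq_eq_one_of_real hirr y (hC y rfl))
  rintro rfl
  exact hne rfl

theorem card_real_le {P : Type*} [Group P] [Finite P]
    (hirr : ∀ y : P, Subgroup.normalizer ((Subgroup.zpowers y : Subgroup P) : Set P) ≤
      Subgroup.centralizer {y}) :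
    Nat.card {C : ConjClasses P // ∀ g : P, ConjClasses.mk g = C → IsConj g g⁻¹} ≤
    Nat.card {c : ConjClasses P // ∃ y : P, ConjClasses.mk y = c ∧ orderOf y = 2} + 1 := by
  classical
  rw [← Finite.card_option]
  let f : {C : ConjClasses P // ∀ g : P, ConjClasses.mk g = C → IsConj g g⁻¹} →
      Option {c : ConjClasses P // ∃ y : P, ConjClasses.mk y = c ∧ orderOf y = 2} :=
    fun C => if h : C.1 = ConjClasses.mk 1 then none
      else some ⟨C.1, exists_involution_of_real hirr C.1 C.2 h⟩
  apply Nat.card_le_card_of_injective f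
  intro C D hCD
  by_cases hC : C.1 = ConjClasses.mk 1 <;> by_cases hD : D.1 = ConjClasses.mk 1
  · exact Subtype.ext (hC.trans hD.symm)
  · simp [f, hC, hD] at hCD
  · simp [f, hC, hD] at hCD
  · simp only [f, hC, hD, dite_false, Option.some.injEq, Subtype.mk.injEq] at hCD
    exact Subtype.ext hCD

theorem card_involutions_le {P : Type*} [Group P] [Finite P] :
    Nat.card {c : ConjClasses P // ∃ y : P, ConjClasses.mk y = c ∧ orderOf y = 2} + 1 ≤
    Nat.card (Subgroup.closure {y : P | orderOf y = 2}) := by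
  classical
  rw [← Finite.card_option]
  let f : Option {c : ConjClasses P // ∃ y : P, ConjClasses.mk y = c ∧ orderOf y = 2} →
      Subgroup.closure {y : P | orderOf y = 2} :=
    fun o => match o with
      | none => 1
      | some c => ⟨c.2.choose, Subgroup.subset_closure c.2.choose_spec.2⟩
  apply Nat.card_le_card_of_injective f
  intro a b hab
  rcases a with _ | a <;> rcases b with _ | b
  · rfl
  · exfalso
    have h1 : (1 : P) = b.2.choose := congrArg Subtype.val hab
    have h2 := b.2.choose_spec.2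
    rw [← h1, orderOf_one] at h2
    norm_num at h2
  · exfalso
    have h1 : a.2.choose = (1 : P) := congrArg Subtype.val hab
    have h2 := a.2.choose_spec.2
    rw [h1, orderOf_one] at h2
    norm_num at h2
  · have h1 : a.2.choose = b.2.choose := congrArg Subtype.val hab
    congr 1
    apply Subtype.ext
    rw [← a.2.choose_spec.1, ← b.2.choose_spec.1, h1]

theorem card_quot_le_real {P : Type*} [Group P] [Finite P] (hP : IsPGroup 2 P) :
    Nat.card (P ⧸ frattini P) ≤
      Nat.card {χ : Cfsg.IrrCharacter P // ∀ g : P, ((χ : P → ℂ) g).im = 0} := by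
  have : Fact (Nat.Prime 2) := ⟨Nat.prime_two⟩
  have hsq : ∀ a : P ⧸ frattini P, a ^ 2 = 1 := by
    intro a
    obtain ⟨x, rfl⟩ := QuotientGroup.mk_surjective a
    rw [← QuotientGroup.mk_pow, QuotientGroup.eq_one_iff]
    exact Cfsg.Agent.Helper2.pow_mem_frattini hP x
  have hcomm : commutator (P ⧸ frattini P) = ⊥ := by
    rw [commutator_def, Subgroup.commutator_eq_bot_iff_le_centralizer]
    intro a _
    rw [Subgroup.mem_centralizer_iff]
    intro b _
    -- exponent two groups are commutative
    have h1 := hsq (a * b)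
    have h2 := hsq a
    have h3 := hsq b
    rw [sq] at h1 h2 h3
    calc b * a = (a * a) * (b * a) * (b * b) := by rw [h2, h3, one_mul, mul_one]
      _ = a * ((a * b) * (a * b)) * b := by simp only [mul_assoc]
      _ = a * b := by rw [h1, mul_one]
  have hcard : Nat.card ((P ⧸ frattini P) →* ℂˣ) = Nat.card (P ⧸ frattini P) := by
    rw [Lin.card_hom, hcomm, Subgroup.index_bot]
  rw [← hcard]
  have hreal : ∀ (φ : (P ⧸ frattini P) →* ℂˣ) (g : P),
      ((Lin.ofHom (φ.comp (QuotientGroup.mk' (frattini P))) : P → ℂ) g).im = 0 := by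
    intro φ g
    rw [Lin.ofHom_apply]
    have h1 : ((φ (QuotientGroup.mk' (frattini P) g) : ℂˣ) : ℂ) ^ 2 = 1 := by
      rw [← Units.val_pow_eq_pow_val, ← map_pow, hsq, map_one, Units.val_one]
    rcases sq_eq_one_iff.1 h1 with h | h
    · rw [MonoidHom.comp_apply, h]; simp
    · rw [MonoidHom.comp_apply, h]; simp
  apply Nat.card_le_card_of_injective
    (fun φ => (⟨Lin.ofHom (φ.comp (QuotientGroup.mk' (frattini P))), hreal φ⟩ :
      {χ : Cfsg.IrrCharacter P // ∀ g : P, ((χ : P → ℂ) g).im = 0}))
  intro φ ψ h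
  have h1 := Lin.ofHom_injective (congrArg Subtype.val h)
  exact (MonoidHom.cancel_right (QuotientGroup.mk'_surjective _)).1 h1

/-- Let P be a finite 2-group in which N_P(⟨y⟩) = C_P(y) for every y ∈ P. If s is the number of conjugacy classes of involutions of P, then #(P/Φ(P)) ≤ s + 1; in particular the subgroup generated by the involutions of P has order at least #(P/Φ(P)). -/
theorem result {P : Type*} [Group P] [Finite P] (hP : IsPGroup 2 P)
    (hirr : ∀ y : P, Subgroup.normalizer ((Subgroup.zpowers y : Subgroup P) : Set P) ≤ Subgroup.centralizer {y}) :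
    Nat.card (P ⧸ frattini P) ≤ Nat.card {c : ConjClasses P // ∃ y : P, ConjClasses.mk y = c ∧ orderOf y = 2} + 1 ∧
    Nat.card (P ⧸ frattini P) ≤ Nat.card (Subgroup.closure {y : P | orderOf y = 2}) := by
  have h1 : Nat.card (P ⧸ frattini P) ≤
      Nat.card {c : ConjClasses P // ∃ y : P, ConjClasses.mk y = c ∧ orderOf y = 2} + 1 := by
    refine (card_quot_le_real hP).trans ?_
    rw [Cfsg.Agent.S0160.result]
    exact card_real_le hirr
  exact ⟨h1, h1.trans card_involutions_le⟩

end Cfsg.Agent.S4029
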