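import Cfsg.Statements.S4032
import Mathlib
import Cfsg.Agent.Lib.Helper67.BaerSuzuki

set_option autoImplicit false
open Cfsg

namespace Cfsg.Agent.S4032

open Cfsg.Agent.Helper67

theorem prime_power_case {G : Type*} [Group G] [Finite G] (π : Set ℕ)
    (hirr : ∀ x : G, (∀ r : ℕ, r.Prime → r ∣ orderOf x → r ∈ π) →
      Subgroup.normalizer ((Subgroup.zpowers x : Subgroup G) : Set G) ≤ Subgroup.centralizer {x})
    (N : Subgroup G) [N.Normal] (hN : ∀ r : ℕ, r.Prime → r ∣ Nat.card N → r ∉ π)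
    (y : G ⧸ N) (r e : ℕ) (hr : r.Prime) (hrπ : r ∈ π) (hy : orderOf y = r ^ e) (q : G ⧸ N)
    (hq : q ∈ Subgroup.normalizer ((Subgroup.zpowers y : Subgroup (G ⧸ N)) : Set (G ⧸ N))) :
    q * y = y * q := by
  have : Fact r.Prime := ⟨hr⟩
  set π' := QuotientGroup.mk' N with hπ'
  obtain ⟨x0, hx0⟩ := QuotientGroup.mk'_surjective N y
  obtain ⟨g, hg⟩ := QuotientGroup.mk'_surjective N q
  obtain ⟨f, m, hm, hx0o⟩ := Nat.exists_eq_pow_mul_and_not_dvd (orderOf_pos x0).ne' r hr.ne_one
  have hm0 : m ≠ 0 := by rintro rfl; simp at hm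
  have hmcop : m.Coprime (orderOf y) := by
    rw [hy]
    exact (Nat.Coprime.pow_left e ((Nat.Prime.coprime_iff_not_dvd hr).2 hm)).symm
  obtain ⟨m', hm'⟩ := exists_pow_eq_self_of_coprime hmcop
  set x := (x0 ^ m) ^ m' with hx
  have hπx : π' x = y := by
    rw [hx, map_pow, map_pow, hx0]; exact hm'
  have hxo : ∃ f' : ℕ, orderOf x = r ^ f' := by
    have h1 : orderOf (x0 ^ m) = r ^ f := by
      rw [orderOf_pow_of_dvd hm0 (hx0o ▸ Dvd.intro_left _ rfl), hx0o]
      exact Nat.mul_div_cancel _ (Nat.pos_of_ne_zero hm0)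
    have h2 : orderOf x ∣ r ^ f := by
      rw [hx, ← h1]; exact orderOf_pow_dvd m'
    obtain ⟨f', -, hf'⟩ := (Nat.dvd_prime_pow hr).1 h2
    exact ⟨f', hf'⟩
  obtain ⟨f', hf'⟩ := hxo
  have hxπ : ∀ r' : ℕ, r'.Prime → r' ∣ orderOf x → r' ∈ π := by
    intro r' hr' hd
    rw [hf'] at hd
    have := (Nat.prime_dvd_prime_iff_eq hr' hr).1 (hr'.dvd_of_dvd_pow hd)
    rw [this]; exact hrπ
  set L : Subgroup G := Subgroup.comap π' (Subgroup.zpowers y) with hL
  have hxL : x ∈ L := by
    rw [hL, Subgroup.mem_comap, hπx]; exact Subgroup.mem_zpowers y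
  have hq' := (Subgroup.mem_normalizer_iff.1 hq)
  have huL : g * x * g⁻¹ ∈ L := by
    rw [hL, Subgroup.mem_comap, map_mul, map_mul, map_inv, hπx, hg]
    exact (hq' y).1 (Subgroup.mem_zpowers y)
  set x' : L := ⟨x, hxL⟩ with hx'
  set u' : L := ⟨g * x * g⁻¹, huL⟩ with hu'
  have hp1 : IsPGroup r (Subgroup.zpowers x') := by
    apply IsPGroup.of_card (n := f'); rw [Nat.card_zpowers, ← Subgroup.orderOf_coe]; exact hf'
  have hp2 : IsPGroup r (Subgroup.zpowers u') := by
    apply IsPGroup.of_card (n := f'); rw [Nat.card_zpowers, ← Subgroup.orderOf_coe]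
    have := (MulAut.conj g).orderOf_eq x
    rw [MulAut.conj_apply] at this
    rw [← hf']; exact this
  obtain ⟨P, hP⟩ := hp1.exists_le_sylow
  obtain ⟨P', hP'⟩ := hp2.exists_le_sylow
  obtain ⟨l, hl⟩ := MulAction.exists_smul_eq L P' P
  have h1 : l * u' * l⁻¹ ∈ P := by
    have : l * u' * l⁻¹ ∈ ((l • P' : Sylow r L) : Subgroup L) := by
      rw [sylow_smul_coe]
      exact conj_mem_cj (hP' (Subgroup.mem_zpowers u'))
    rw [hl] at this
    exact this
  have h2 : x' ∈ P := hP (Subgroup.mem_zpowers x')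
  -- injectivity of π' on P
  have hinj : ∀ t : L, t ∈ P → π' (t : G) = 1 → t = 1 := by
    intro t htP ht1
    have htN : (t : G) ∈ N := by
      rw [← QuotientGroup.eq_one_iff]; exact ht1
    obtain ⟨k, hk⟩ := (IsPGroup.iff_orderOf.1 P.isPGroup') ⟨t, htP⟩
    rw [← Subgroup.orderOf_coe] at hk
    simp only at hk
    rcases Nat.eq_zero_or_pos k with h0 | h0
    · rw [h0, pow_zero] at hk
      exact orderOf_eq_one_iff.1 hk
    · exfalso
      have hd : r ∣ Nat.card N := by
        have d1 : orderOf (t : G) ∣ Nat.card N := Subgroup.orderOf_dvd_natCard N htN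
        rw [← Subgroup.orderOf_coe] at hk
        rw [hk] at d1
        exact (dvd_pow_self r h0.ne').trans d1
      exact hN r hr hd hrπ
  -- P ⊆ zpowers x'
  have hPz : ∀ t : L, t ∈ P → (t : G) ∈ Subgroup.zpowers x := by
    intro t htP
    have ht : π' (t : G) ∈ Subgroup.zpowers y := t.2
    obtain ⟨i, hi⟩ := Subgroup.mem_zpowers_iff.1 ht
    have h3 : t * (x' ^ i)⁻¹ = 1 := by
      apply hinj _ (mul_mem htP (inv_mem (zpow_mem h2 i)))
      simp only [Subgroup.coe_mul, Subgroup.coe_inv, Subgroup.coe_zpow, map_mul, map_inv, map_zpow]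
      rw [hx']
      simp only [hπx, hi]
      simp
    have h4 : t = x' ^ i := mul_inv_eq_one.1 h3
    rw [h4]
    simp only [Subgroup.coe_zpow]
    exact Subgroup.zpow_mem_zpowers x i
  set w : G := (l : G) * g with hw
  have hwx : w * x * w⁻¹ ∈ Subgroup.zpowers x := by
    have := hPz _ h1
    have e1 : ((l * u' * l⁻¹ : L) : G) = w * x * w⁻¹ := by
      rw [hw, hu']; simp [mul_assoc]
    rw [e1] at this
    exact this
  have hwN : w ∈ Subgroup.normalizer ((Subgroup.zpowers x : Subgroup G) : Set G) := by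
    apply Subgroup.mem_normalizer_fintype
    intro n hn
    obtain ⟨i, rfl⟩ := Subgroup.mem_zpowers_iff.1 hn
    have : w * x ^ i * w⁻¹ = (w * x * w⁻¹) ^ i := by
      have := map_zpow (MulAut.conj w) x i
      simp only [MulAut.conj_apply] at this
      exact this
    rw [this]
    exact zpow_mem hwx i
  have hwc := hirr x hxπ hwN
  rw [Subgroup.mem_centralizer_iff] at hwc
  have hcomm : x * w = w * x := hwc x rfl
  have hπl : π' (l : G) ∈ Subgroup.zpowers y := l.2
  obtain ⟨i, hi⟩ := Subgroup.mem_zpowers_iff.1 hπl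
  have h5 := congrArg π' hcomm
  rw [hw, map_mul, map_mul, map_mul, map_mul, hπx, hg, ← hi] at h5
  -- y * (y^i * q) = y^i * q * y
  have h6 : y ^ i * (y * q) = y ^ i * (q * y) := by
    calc y ^ i * (y * q) = y * (y ^ i * q) := by
          rw [← mul_assoc, ← mul_assoc, (Commute.refl y).zpow_left i |>.eq]
      _ = y ^ i * q * y := h5
      _ = y ^ i * (q * y) := by rw [mul_assoc]
  exact (mul_left_cancel h6).symm

theorem normalizer_zpowers_pow {H : Type*} [Group H] [Finite H] (y q : H) (a : ℕ)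
    (hq : q ∈ Subgroup.normalizer ((Subgroup.zpowers y : Subgroup H) : Set H)) :
    q ∈ Subgroup.normalizer ((Subgroup.zpowers (y ^ a) : Subgroup H) : Set H) := by
  apply Subgroup.mem_normalizer_fintype
  intro n hn
  obtain ⟨i, rfl⟩ := Subgroup.mem_zpowers_iff.1 hn
  have h1 : q * y * q⁻¹ ∈ Subgroup.zpowers y :=
    (Subgroup.mem_normalizer_iff.1 hq y).1 (Subgroup.mem_zpowers y)
  obtain ⟨k, hk⟩ := Subgroup.mem_zpowers_iff.1 h1
  have h2 : q * (y ^ a) ^ i * q⁻¹ = ((q * y * q⁻¹) ^ a) ^ i := by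
    have e1 := map_zpow (MulAut.conj q) (y ^ a) i
    have e2 := map_pow (MulAut.conj q) y a
    simp only [MulAut.conj_apply] at e1 e2
    rw [e1, e2]
  rw [h2, ← hk]
  have : ((y ^ k) ^ a) ^ i = (y ^ a) ^ (k * i) := by
    simp only [← zpow_natCast, ← zpow_mul]
    congr 1
    ring
  rw [this]
  exact Subgroup.zpow_mem_zpowers _ _

theorem main {G : Type*} [Group G] [Finite G] (π : Set ℕ)
    (hirr : ∀ x : G, (∀ r : ℕ, r.Prime → r ∣ orderOf x → r ∈ π) →
      Subgroup.normalizer ((Subgroup.zpowers x : Subgroup G) : Set G) ≤ Subgroup.centralizer {x})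
    (N : Subgroup G) [N.Normal] (hN : ∀ r : ℕ, r.Prime → r ∣ Nat.card N → r ∉ π) :
    ∀ n : ℕ, ∀ y : G ⧸ N, orderOf y = n → (∀ r : ℕ, r.Prime → r ∣ orderOf y → r ∈ π) →
      ∀ q : G ⧸ N, q ∈ Subgroup.normalizer ((Subgroup.zpowers y : Subgroup (G ⧸ N)) : Set (G ⧸ N)) →
        q * y = y * q := by
  intro n
  induction n using Nat.strong_induction_on with
  | _ n ih =>
    intro y hyn hyπ q hq
    have hn0 : n ≠ 0 := by rw [← hyn]; exact (orderOf_pos y).ne'
    by_cases hn1 : n = 1
    · rw [hn1, orderOf_eq_one_iff] at hyn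
      rw [hyn]; simp
    set p := n.minFac with hpdef
    have hp : p.Prime := Nat.minFac_prime hn1
    have hpn : p ∣ n := Nat.minFac_dvd n
    set a := ordProj[p] n with ha
    set b := ordCompl[p] n with hb
    have hab : a * b = n := Nat.ordProj_mul_ordCompl_eq_self n p
    have hkpos : 0 < n.factorization p := hp.factorization_pos_of_dvd hn0 hpn
    by_cases hb1 : b = 1
    · -- prime power
      have hnpow : n = p ^ n.factorization p := by
        have h3 := hab
        rw [hb1, mul_one] at h3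
        exact h3.symm
      exact prime_power_case π hirr N hN y p (n.factorization p) hp
        (hyπ p hp (hyn ▸ hpn)) (hyn.trans hnpow) q hq
    · have hcop : Nat.Coprime a b := Nat.Coprime.pow_left _ (Nat.coprime_ordCompl hp hn0)
      have ha0 : a ≠ 0 := by intro h0; rw [h0, zero_mul] at hab; exact hn0 hab.symm
      have hb0 : b ≠ 0 := by intro h0; rw [h0, mul_zero] at hab; exact hn0 hab.symm
      have ha1 : a ≠ 1 := by
        intro h1
        have hpa : p ∣ a := dvd_pow_self p hkpos.ne'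
        rw [h1] at hpa
        exact hp.one_lt.ne' (Nat.dvd_one.1 hpa)
      have halt : a < n := by
        have h2b : 1 < b := (Nat.two_le_iff b).2 ⟨hb0, hb1⟩
        calc a < a * b := lt_mul_of_one_lt_right (Nat.pos_of_ne_zero ha0) h2b
          _ = n := hab
      have hblt : b < n := by
        have h2a : 1 < a := (Nat.two_le_iff a).2 ⟨ha0, ha1⟩
        calc b < a * b := lt_mul_of_one_lt_left (Nat.pos_of_ne_zero hb0) h2a
          _ = n := hab
      have hoa : orderOf (y ^ a) = b := by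
        rw [orderOf_pow_of_dvd ha0 (by rw [hyn, ← hab]; exact Dvd.intro _ rfl), hyn, ← hab]
        exact Nat.mul_div_cancel_left b (Nat.pos_of_ne_zero ha0)
      have hob : orderOf (y ^ b) = a := by
        rw [orderOf_pow_of_dvd hb0 (by rw [hyn, ← hab]; exact Dvd.intro_left _ rfl), hyn, ← hab]
        exact Nat.mul_div_cancel a (Nat.pos_of_ne_zero hb0)
      have c1 := ih b hblt (y ^ a) hoa
        (fun r hr hd => hyπ r hr (hd.trans (orderOf_pow_dvd a))) q (normalizer_zpowers_pow y q a hq)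
      have c2 := ih a halt (y ^ b) hob
        (fun r hr hd => hyπ r hr (hd.trans (orderOf_pow_dvd b))) q (normalizer_zpowers_pow y q b hq)
      have hbez := Nat.gcd_eq_gcd_ab a b
      rw [hcop.gcd_eq_one] at hbez
      have hy : y = (y ^ a) ^ (Nat.gcdA a b) * (y ^ b) ^ (Nat.gcdB a b) := by
        rw [← zpow_natCast y a, ← zpow_natCast y b, ← zpow_mul, ← zpow_mul, ← zpow_add]
        have : (a : ℤ) * Nat.gcdA a b + (b : ℤ) * Nat.gcdB a b = 1 := by
          rw [← hbez]; simp
        rw [this, zpow_one]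
      have hc1 : Commute q (y ^ a) := c1
      have hc2 : Commute q (y ^ b) := c2
      have : Commute q y := by
        rw [hy]
        exact (hc1.zpow_right _).mul_right (hc2.zpow_right _)
      exact this.eq

/-- Let π be a set of primes and G a finite group in which N_G(⟨x⟩) = C_G(x) for every π-element x. If N is a normal subgroup of G whose order is divisible by no prime of π, then G/N has the same property: N_{G/N}(⟨y⟩) = C_{G/N}(y) for every π-element y of G/N. -/
theorem result {G : Type*} [Group G] [Finite G] (π : Set ℕ)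
    (hirr : ∀ x : G, (∀ r : ℕ, r.Prime → r ∣ orderOf x → r ∈ π) →
      Subgroup.normalizer ((Subgroup.zpowers x : Subgroup G) : Set G) ≤ Subgroup.centralizer {x})
    (N : Subgroup G) [N.Normal] (hN : ∀ r : ℕ, r.Prime → r ∣ Nat.card N → r ∉ π) :
    ∀ y : G ⧸ N, (∀ r : ℕ, r.Prime → r ∣ orderOf y → r ∈ π) →
      Subgroup.normalizer ((Subgroup.zpowers y : Subgroup (G ⧸ N)) : Set (G ⧸ N)) ≤ Subgroup.centralizer {y} := by
  intro y hy q hq
  rw [Subgroup.mem_centralizer_iff]
  intro h hh
  rw [Set.mem_singleton_iff] at hh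
  rw [hh]
  exact (main π hirr N hN (orderOf y) y rfl hy q hq).symm

end Cfsg.Agent.S4032
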