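import Mathlib
import Cfsg.Statements.S4034
import Cfsg.Agent.Lib.Helper60.PRegD

set_option autoImplicit false
open Cfsg

namespace Cfsg.Agent.S4034

/-- Let G be a finite group and p a prime. Every conjugacy class of p-regular elements of G (elements of order prime to p) has p-power size if and only if G has an abelian p-complement, i.e. an abelian subgroup of order prime to p and p-power index. -/
theorem result {G : Type*} [Group G] [Finite G] {p : ℕ} (hp : p.Prime) :
    (∀ x : G, (orderOf x).Coprime p → ∃ k : ℕ, (ConjClasses.mk x).carrier.ncard = p ^ k) ↔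
    (∃ H : Subgroup G, IsMulCommutative H ∧ ¬ p ∣ Nat.card H ∧ ∃ k : ℕ, H.index = p ^ k) := by
  constructor
  · intro h
    have hPC : Cfsg.Agent.Helper60.PC p G := by
      intro x hx
      obtain ⟨k, hk⟩ := h x hx
      exact ⟨k, by rw [← Cfsg.Agent.Helper60.classSize_eq_index]; exact hk⟩
    obtain ⟨C, hC, hcop, k, hk⟩ := hPC.abC hp
    refine ⟨C, ⟨⟨fun a b => Subtype.ext (hC a a.2 b b.2)⟩⟩, ?_, k, hk⟩
    exact (Nat.Prime.coprime_iff_not_dvd hp).mp hcop.symm
  · rintro ⟨H, hH, hnd, k, hk⟩
    have hAb : Cfsg.Agent.Helper60.AbC p G := by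
      refine ⟨H, fun a ha b hb => ?_, ((Nat.Prime.coprime_iff_not_dvd hp).mpr hnd).symm, k, hk⟩
      have := mul_comm' (⟨a, ha⟩ : H) ⟨b, hb⟩
      exact congrArg Subtype.val this
    intro x hx
    obtain ⟨j, hj⟩ := hAb.pc hp x hx
    exact ⟨j, by rw [Cfsg.Agent.Helper60.classSize_eq_index]; exact hj⟩

end Cfsg.Agent.S4034
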