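import Mathlib
import Cfsg.Statements.S4036

set_option autoImplicit false
open Cfsg

namespace Cfsg.Agent.S4036

/-- Let P be a finite abelian p-group and K a group of automorphisms of P (a subgroup of Aut P) whose order is divisible by p. If all non-identity elements of K have the same fixed-point subgroup on P, then K has no non-trivial normal subgroup of order prime to p. -/
theorem result {P : Type*} [CommGroup P] [Finite P] {p : ℕ}
    [Fact p.Prime] (hP : IsPGroup p P) (K : Subgroup (MulAut P)) (hK : p ∣ Nat.card K)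
    (hfix : ∀ x y : MulAut P, x ∈ K → y ∈ K → x ≠ 1 → y ≠ 1 → ∀ v : P, x v = v ↔ y v = v) :
    ∀ N : Subgroup ↥K, N.Normal → ¬ p ∣ Nat.card N → N = ⊥ := by
  classical
  intro N hNn hpN
  by_contra hNbot
  have hp : p.Prime := Fact.out
  let _instN : Fintype N := Fintype.ofFinite N
  -- the norm map
  let ν : P → P := fun v => ∏ n : N, ((n : K) : MulAut P) v
  have hν_def : ∀ v, ν v = ∏ n : N, ((n : K) : MulAut P) v := fun v => rfl
  have hν_mul : ∀ a b, ν (a * b) = ν a * ν b := by
    intro a b
    simp only [hν_def, map_mul, Finset.prod_mul_distrib]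
  have hν_one : ν 1 = 1 := by simp [hν_def]
  have hν_inv : ∀ a, ν a⁻¹ = (ν a)⁻¹ := by
    intro a; simp [hν_def, Finset.prod_inv_distrib]
  -- ν (k v) = k (ν v) for k ∈ K
  have hν_K : ∀ (k : K) v, ν ((k : MulAut P) v) = (k : MulAut P) (ν v) := by
    intro k v
    simp only [hν_def]
    rw [map_prod]
    rw [← Equiv.prod_comp (MulAut.conjNormal k : MulAut N).toEquiv
      (fun n : N => ((n : K) : MulAut P) ((k : MulAut P) v))]
    apply Finset.prod_congr rfl
    intro n _
    have h1 : (((MulAut.conjNormal k : MulAut N) n : N) : K) = k * n * k⁻¹ :=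
      MulAut.conjNormal_apply k n
    show ((((MulAut.conjNormal k : MulAut N) n : N) : K) : MulAut P) ((k : MulAut P) v) = _
    rw [h1]
    simp
  -- ν (n0 v) = ν v for n0 ∈ N
  have hν_N : ∀ (n0 : N) v, ν (((n0 : K) : MulAut P) v) = ν v := by
    intro n0 v
    simp only [hν_def]
    rw [← Equiv.prod_comp (Equiv.mulRight n0) (fun n : N => ((n : K) : MulAut P) v)]
    apply Finset.prod_congr rfl
    intro n _
    simp
  -- the kernel of ν
  let W : Subgroup P :=
    { carrier := {v | ν v = 1}
      mul_mem' := by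
        intro a b ha hb
        show ν (a * b) = 1
        rw [hν_mul, show ν a = 1 from ha, show ν b = 1 from hb, one_mul]
      one_mem' := hν_one
      inv_mem' := by
        intro a ha
        show ν a⁻¹ = 1
        rw [hν_inv, show ν a = 1 from ha, inv_one] }
  have hW_mem : ∀ v, v ∈ W ↔ ν v = 1 := fun v => Iff.rfl
  have hW_inv : ∀ (k : K) v, v ∈ W → (k : MulAut P) v ∈ W := by
    intro k v hv
    rw [hW_mem] at hv ⊢
    rw [hν_K, hv, map_one]
  -- W is nontrivial
  have hW_ne : W ≠ ⊥ := by
    obtain ⟨n0, hn0⟩ : ∃ n0 : N, n0 ≠ 1 := by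
      by_contra hcon
      push Not at hcon
      apply hNbot
      rw [Subgroup.eq_bot_iff_forall]
      intro x hx
      have := hcon ⟨x, hx⟩
      simpa using congrArg Subtype.val this
    have hn0' : ((n0 : K) : MulAut P) ≠ 1 := by
      intro h
      apply hn0
      apply Subtype.ext
      apply Subtype.ext
      simpa using h
    obtain ⟨v, hv⟩ : ∃ v, ((n0 : K) : MulAut P) v ≠ v := by
      by_contra hcon
      push Not at hcon
      apply hn0'
      ext v
      simpa using hcon v
    intro hbot
    have hu : v * (((n0 : K) : MulAut P) v)⁻¹ ∈ W := by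
      rw [hW_mem, hν_mul, hν_inv, hν_N, mul_inv_cancel]
    rw [hbot, Subgroup.mem_bot, mul_inv_eq_one] at hu
    exact hv hu.symm
  -- an element of order p in K
  obtain ⟨k0, hk0⟩ := exists_prime_orderOf_dvd_card' (G := K) p hK
  have hk0_ne : ((k0 : K) : MulAut P) ≠ 1 := by
    intro h
    have : k0 = 1 := Subtype.ext (by simpa using h)
    rw [this, orderOf_one] at hk0
    exact hp.one_lt.ne hk0
  -- the action of ⟨k0⟩ on W
  let Z : Subgroup K := Subgroup.zpowers k0
  have hZ : IsPGroup p Z := by
    apply IsPGroup.of_card (n := 1)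
    rw [pow_one, Nat.card_zpowers, hk0]
  let act : MulAction Z W :=
    { smul := fun z w => ⟨((z : K) : MulAut P) (w : P), hW_inv _ _ w.2⟩
      one_smul := fun w => Subtype.ext (by
        show (((1 : Z) : K) : MulAut P) (w : P) = w
        simp)
      mul_smul := fun a b w => Subtype.ext (by
        show (((a * b : Z) : K) : MulAut P) (w : P) = ((a : K) : MulAut P) (((b : K) : MulAut P) (w : P))
        simp) }
  have hsmul : ∀ (z : Z) (w : W), ((z • w : W) : P) = ((z : K) : MulAut P) (w : P) := fun z w => rfl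
  have hpW : p ∣ Nat.card W := by
    have hWp : IsPGroup p W := hP.to_subgroup W
    obtain ⟨n, hn⟩ := IsPGroup.iff_card.1 hWp
    rw [hn]
    have : n ≠ 0 := by
      intro h0
      rw [h0, pow_zero] at hn
      exact hW_ne (Subgroup.card_eq_one.1 hn)
    exact dvd_pow_self p this
  have h1fix : (1 : W) ∈ MulAction.fixedPoints Z W := by
    intro z
    apply Subtype.ext
    rw [hsmul]
    simp
  obtain ⟨b, hbfix, hb1⟩ := hZ.exists_fixed_point_of_prime_dvd_card_of_fixed_point W hpW h1fix
  have hk0b : ((k0 : K) : MulAut P) (b : P) = b := by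
    have := hbfix ⟨k0, Subgroup.mem_zpowers k0⟩
    have h2 := congrArg Subtype.val this
    rw [hsmul] at h2
    exact h2
  -- every element of N fixes b
  have hNb : ∀ n : N, ((n : K) : MulAut P) (b : P) = b := by
    intro n
    by_cases hn : ((n : K) : MulAut P) = 1
    · rw [hn]; rfl
    · exact (hfix _ _ k0.2 (n : K).2 hk0_ne hn (b : P)).1 hk0b
  have hbW : ν (b : P) = 1 := (hW_mem _).1 b.2
  have hpow : (b : P) ^ Nat.card N = 1 := by
    rw [← hbW, hν_def, Finset.prod_congr rfl (fun n _ => hNb n), Finset.prod_const, Finset.card_univ,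
      Nat.card_eq_fintype_card]
  obtain ⟨m, hm⟩ := (IsPGroup.iff_orderOf.1 hP) (b : P)
  have hdvd : orderOf (b : P) ∣ Nat.card N := orderOf_dvd_of_pow_eq_one hpow
  have hb_one : (b : P) = 1 := by
    rw [← orderOf_eq_one_iff]
    rw [hm] at hdvd ⊢
    rcases Nat.eq_zero_or_pos m with h0 | hpos
    · rw [h0, pow_zero]
    · exfalso
      exact hpN ((dvd_pow_self p hpos.ne').trans hdvd)
  exact hb1 (Subtype.ext hb_one.symm)

end Cfsg.Agent.S4036
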