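import Cfsg.Statements.S4364
import Mathlib
import Cfsg.Agent.Lib.Helper16.WBO
import Cfsg.Agent.Lib.Helper74.DefectZero
import Cfsg.Agent.Lib.Helper3.CharBurnside
-- import your own Cfsg.Agent.* helpers here

set_option autoImplicit false
open Cfsg

namespace Cfsg.Agent.S4364

open scoped commutatorElement

section

open Subgroup

universe u

/-- `x` has `p`-power class size. -/
def PPI {G : Type*} [Group G] (p : ℕ) (x : G) : Prop :=
  ∃ a : ℕ, (Subgroup.centralizer ({x} : Set G)).index = p ^ a

theorem ppi_of_dvd {G : Type*} [Group G] {p : ℕ} (hp : p.Prime) {x : G} {m : ℕ}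
    (hx : PPI p x) (h : m ∣ (Subgroup.centralizer ({x} : Set G)).index) : ∃ b : ℕ, m = p ^ b := by
  obtain ⟨a, ha⟩ := hx
  rw [ha] at h
  obtain ⟨b, _, hb⟩ := (Nat.dvd_prime_pow hp).mp h
  exact ⟨b, hb⟩

theorem ppi_pow {G : Type*} [Group G] {p : ℕ} (hp : p.Prime) {x : G} (hx : PPI p x) (k : ℕ) :
    PPI p (x ^ k) := by
  apply ppi_of_dvd hp hx
  apply Subgroup.index_dvd_of_le
  intro c hc
  rw [Subgroup.mem_centralizer_singleton_iff] at hc ⊢
  exact (Commute.pow_right (show Commute c x from hc) k).eq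

theorem ppi_conj {G : Type*} [Group G] {p : ℕ} {x : G} (hx : PPI p x) (g : G) :
    PPI p (g * x * g⁻¹) := by
  obtain ⟨a, ha⟩ := hx
  refine ⟨a, ?_⟩
  rw [← ha]
  have : Subgroup.centralizer ({g * x * g⁻¹} : Set G)
      = (Subgroup.centralizer ({x} : Set G)).map (MulAut.conj g).toMonoidHom := by
    ext c
    rw [Subgroup.mem_map, Subgroup.mem_centralizer_singleton_iff]
    constructor
    · intro hc
      refine ⟨g⁻¹ * c * g, ?_, ?_⟩
      · rw [Subgroup.mem_centralizer_singleton_iff]
        have : g⁻¹ * (c * (g * x * g⁻¹)) * g = g⁻¹ * ((g * x * g⁻¹) * c) * g := by rw [hc]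
        calc g⁻¹ * c * g * x = g⁻¹ * (c * (g * x * g⁻¹)) * g := by group
          _ = g⁻¹ * ((g * x * g⁻¹) * c) * g := this
          _ = x * (g⁻¹ * c * g) := by group
      · simp [MulAut.conj_apply, mul_assoc]
    · rintro ⟨d, hd, rfl⟩
      rw [Subgroup.mem_centralizer_singleton_iff] at hd
      simp only [MulEquiv.coe_toMonoidHom, MulAut.conj_apply]
      calc g * d * g⁻¹ * (g * x * g⁻¹) = g * (d * x) * g⁻¹ := by group
        _ = g * (x * d) * g⁻¹ := by rw [hd]
        _ = g * x * g⁻¹ * (g * d * g⁻¹) := by group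
  rw [this]
  exact Subgroup.index_map_equiv _ (MulAut.conj g)

theorem ppi_mk {G : Type*} [Group G] {p : ℕ} (hp : p.Prime) (L : Subgroup G) [L.Normal]
    {x : G} (hx : PPI p x) : PPI p (QuotientGroup.mk' L x) := by
  apply ppi_of_dvd hp hx
  have h1 : (Subgroup.centralizer ({x} : Set G)).map (QuotientGroup.mk' L)
      ≤ Subgroup.centralizer ({QuotientGroup.mk' L x} : Set (G ⧸ L)) := by
    rintro _ ⟨c, hc, rfl⟩
    have hc' : c ∈ Subgroup.centralizer ({x} : Set G) := hc
    rw [Subgroup.mem_centralizer_singleton_iff] at hc' ⊢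
    rw [← map_mul, ← map_mul, hc']
  exact (Subgroup.index_dvd_of_le h1).trans
    (Subgroup.index_map_dvd _ (QuotientGroup.mk'_surjective L))

/-- For `K` normal in a finite group, `|K : H ∩ K|` divides `|G : H|`. -/
theorem relIndex_dvd_index_of_normal_right {G : Type*} [Group G] [Finite G]
    (H K : Subgroup G) [K.Normal] : H.relIndex K ∣ H.index := by
  have h1 : H.relIndex (H ⊔ K) ∣ H.index := Subgroup.relIndex_dvd_index_of_le le_sup_left
  suffices h : H.relIndex (H ⊔ K) = H.relIndex K by rwa [h] at h1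
  -- cardinalities
  have e1 : Nat.card H * H.relIndex (H ⊔ K) = Nat.card (H ⊔ K : Subgroup G) := by
    have := Subgroup.relIndex_mul_relIndex (⊥ : Subgroup G) H (H ⊔ K) bot_le le_sup_left
    rwa [Subgroup.relIndex_bot_left, Subgroup.relIndex_bot_left] at this
  have e2 : Nat.card K * K.relIndex (H ⊔ K) = Nat.card (H ⊔ K : Subgroup G) := by
    have := Subgroup.relIndex_mul_relIndex (⊥ : Subgroup G) K (H ⊔ K) bot_le le_sup_right
    rwa [Subgroup.relIndex_bot_left, Subgroup.relIndex_bot_left] at this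
  rw [Subgroup.relIndex_sup_right] at e2
  have e3 : Nat.card (H ⊓ K : Subgroup G) * K.relIndex H = Nat.card H := by
    have := Subgroup.relIndex_mul_relIndex (⊥ : Subgroup G) (H ⊓ K) H bot_le inf_le_left
    rwa [Subgroup.relIndex_bot_left, Subgroup.relIndex_bot_left, Subgroup.inf_relIndex_left] at this
  have e4 : Nat.card (H ⊓ K : Subgroup G) * H.relIndex K = Nat.card K := by
    have := Subgroup.relIndex_mul_relIndex (⊥ : Subgroup G) (H ⊓ K) K bot_le inf_le_right
    rwa [Subgroup.relIndex_bot_left, Subgroup.relIndex_bot_left, Subgroup.inf_relIndex_right] at this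
  have hm : 0 < Nat.card (H ⊓ K : Subgroup G) := Nat.card_pos
  have hb : 0 < K.relIndex H := by
    rcases Nat.eq_zero_or_pos (K.relIndex H) with h0 | h0
    · rw [h0, mul_zero] at e3
      exact absurd e3.symm (Nat.card_pos.ne')
    · exact h0
  -- m * b * a = m * c * b
  have : Nat.card (H ⊓ K : Subgroup G) * K.relIndex H * H.relIndex (H ⊔ K)
      = Nat.card (H ⊓ K : Subgroup G) * K.relIndex H * H.relIndex K := by
    calc Nat.card (H ⊓ K : Subgroup G) * K.relIndex H * H.relIndex (H ⊔ K)
        = Nat.card H * H.relIndex (H ⊔ K) := by rw [e3]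
      _ = Nat.card K * K.relIndex H := by rw [e1, e2]
      _ = Nat.card (H ⊓ K : Subgroup G) * H.relIndex K * K.relIndex H := by rw [e4]
      _ = Nat.card (H ⊓ K : Subgroup G) * K.relIndex H * H.relIndex K := by ring
  exact Nat.eq_of_mul_eq_mul_left (Nat.mul_pos hm hb) this

theorem ppi_subtype {G : Type*} [Group G] [Finite G] {p : ℕ} (hp : p.Prime) (N : Subgroup G)
    [N.Normal] {x : G} (hx : PPI p x) (hxN : x ∈ N) : PPI p (⟨x, hxN⟩ : N) := by
  apply ppi_of_dvd hp hx
  have : Subgroup.centralizer ({(⟨x, hxN⟩ : N)} : Set N)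
      = (Subgroup.centralizer ({x} : Set G)).subgroupOf N := by
    ext c
    rw [Subgroup.mem_subgroupOf, Subgroup.mem_centralizer_singleton_iff,
      Subgroup.mem_centralizer_singleton_iff]
    constructor
    · intro h
      have := congrArg Subtype.val h
      simpa using this
    · intro h
      apply Subtype.ext
      simpa using h
  rw [this]
  exact relIndex_dvd_index_of_normal_right _ N

end

section

open Subgroup

universe u

theorem isSolvable_sup_normal {H : Type*} [Group H] (A B : Subgroup H) [A.Normal]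
    (hA : Group.IsSolvable A) (hB : Group.IsSolvable B) : Group.IsSolvable ↥(A ⊔ B) := by
  haveI := hA
  haveI := hB
  let f : ↥A →* ↥(A ⊔ B) := Subgroup.inclusion le_sup_left
  let g₀ : ↥(A ⊔ B) →* H ⧸ A := (QuotientGroup.mk' A).comp (A ⊔ B).subtype
  let ψ : ↥B →* H ⧸ A := (QuotientGroup.mk' A).comp B.subtype
  have hrange : g₀.range = ψ.range := by
    apply le_antisymm
    · rintro _ ⟨s, rfl⟩
      have hs : (s : H) ∈ A ⊔ B := s.2
      rw [← SetLike.mem_coe, Subgroup.normal_mul] at hs
      obtain ⟨a, ha, b, hb, hab⟩ := hs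
      refine ⟨⟨b, hb⟩, ?_⟩
      show QuotientGroup.mk' A b = QuotientGroup.mk' A (s : H)
      rw [← hab, map_mul]
      have : QuotientGroup.mk' A a = 1 := by
        rw [QuotientGroup.mk'_apply, QuotientGroup.eq_one_iff]; exact ha
      rw [this, one_mul]
    · rintro _ ⟨b, rfl⟩
      exact ⟨⟨b.1, le_sup_right (a := A) b.2⟩, rfl⟩
  have hψ : Group.IsSolvable ↥ψ.range := Group.isSolvable_of_surjective (MonoidHom.rangeRestrict_surjective ψ)
  have hg₀ : Group.IsSolvable ↥g₀.range := by rw [hrange]; exact hψ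
  refine Group.isSolvable_of_ker_le_range f g₀.rangeRestrict ?_
  intro s hs
  rw [MonoidHom.ker_rangeRestrict, MonoidHom.mem_ker] at hs
  have hsA : (s : H) ∈ A := by
    have : QuotientGroup.mk' A (s : H) = 1 := hs
    rwa [QuotientGroup.mk'_apply, QuotientGroup.eq_one_iff] at this
  exact ⟨⟨s.1, hsA⟩, Subtype.ext rfl⟩

theorem isSolvable_iSup_normal {H : Type*} [Group H] {ι : Type*} [Finite ι]
    (f : ι → Subgroup H) (hn : ∀ i, (f i).Normal) (hs : ∀ i, Group.IsSolvable (f i)) :
    Group.IsSolvable ↥(⨆ i, f i) := by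
  classical
  have := Fintype.ofFinite ι
  rw [← Finset.sup_univ_eq_iSup]
  have key : (Finset.univ.sup f).Normal ∧ Group.IsSolvable ↥(Finset.univ.sup f) := by
    apply Finset.sup_induction (p := fun A : Subgroup H => A.Normal ∧ Group.IsSolvable ↥A)
    · exact ⟨Subgroup.normal_bot, inferInstance⟩
    · rintro A ⟨hAn, hAs⟩ B ⟨hBn, hBs⟩
      exact ⟨Subgroup.sup_normal A B, isSolvable_sup_normal A B hAs hBs⟩
    · intro i _
      exact ⟨hn i, hs i⟩
  exact key.2

theorem isSolvable_of_top {H : Type*} [Group H] (J : Subgroup H) (hJ : Group.IsSolvable ↥J)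
    (h : J = ⊤) : Group.IsSolvable H := by
  subst h
  haveI := hJ
  exact Group.isSolvable_of_surjective (f := (Subgroup.topEquiv : ↥(⊤ : Subgroup H) ≃* H).toMonoidHom)
    Subgroup.topEquiv.surjective

theorem isSolvable_of_quotient {H : Type*} [Group H] (L : Subgroup H) [L.Normal]
    (hL : Group.IsSolvable ↥L) (hQ : Group.IsSolvable (H ⧸ L)) : Group.IsSolvable H := by
  haveI := hL
  haveI := hQ
  refine Group.isSolvable_of_ker_le_range L.subtype (QuotientGroup.mk' L) ?_
  rw [QuotientGroup.ker_mk', Subgroup.range_subtype]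

theorem eq_pow_mul_pow_of_primeFactors {n p q : ℕ} (hn : n ≠ 0) (hp : p.Prime) (hq : q.Prime)
    (h : ∀ r : ℕ, r.Prime → r ∣ n → r = p ∨ r = q) : ∃ a b, n = p ^ a * q ^ b := by
  set m := n / p ^ n.factorization p with hm
  have hmn : p ^ n.factorization p * m = n := Nat.ordProj_mul_ordCompl_eq_self n p
  have hpm : ¬ p ∣ m := Nat.not_dvd_ordCompl hp hn
  have hm0 : m ≠ 0 := (Nat.ordCompl_pos p hn).ne'
  set m' := m / q ^ m.factorization q with hm'
  have hmm : q ^ m.factorization q * m' = m := Nat.ordProj_mul_ordCompl_eq_self m q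
  have hqm : ¬ q ∣ m' := Nat.not_dvd_ordCompl hq hm0
  have hm1 : m' = 1 := by
    by_contra hne
    obtain ⟨r, hr, hrd⟩ := Nat.exists_prime_and_dvd hne
    have hrm : r ∣ m := hrd.trans (Dvd.intro_left _ hmm)
    have hrn : r ∣ n := hrm.trans (Dvd.intro_left _ hmn)
    rcases h r hr hrn with rfl | rfl
    · exact hpm hrm
    · exact hqm hrd
  refine ⟨n.factorization p, m.factorization q, ?_⟩
  calc n = p ^ n.factorization p * m := hmn.symm
    _ = p ^ n.factorization p * (q ^ m.factorization q * m') := by rw [hmm]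
    _ = p ^ n.factorization p * q ^ m.factorization q := by rw [hm1, mul_one]

end

section

open Subgroup

open scoped ComplexConjugate

universe u

/-- A root of unity of order prime to `r` which is congruent to `1` modulo `M` (over `r`) is `1`. -/
theorem root_eq_one {r : ℕ} {M : Ideal AlgInt} (hM : IsPModular r M) (ω : ℂ) (n : ℕ)
    (hn : 0 < n) (hω : ω ^ n = 1) (hrn : ¬ r ∣ n) (hmem : MemLocalIdeal M (1 - ω)) : ω = 1 := by
  have hMp : M.IsPrime := Cfsg.Agent.Helper77.isPrime_of_isPModular hM
  by_contra hne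
  have hint : IsIntegral ℤ ω := IsIntegral.of_pow hn (by rw [hω]; exact isIntegral_one)
  let w : AlgInt := ⟨ω, hint⟩
  have hw1 : (1 - w : AlgInt) ∈ M := by
    rw [← Cfsg.Agent.Helper77.memLocalIdeal_algInt_iff]
    have : (((1 - w : AlgInt)) : ℂ) = 1 - ω := by push_cast; rfl
    rw [this]; exact hmem
  have hsum : ∑ j ∈ Finset.range n, w ^ j = 0 := by
    apply Subtype.ext
    push_cast
    have h1 : (∑ j ∈ Finset.range n, ω ^ j) * (ω - 1) = 0 := by
      rw [geom_sum_mul, hω, sub_self]
    rcases mul_eq_zero.mp h1 with h | h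
    · simpa [w] using h
    · exact absurd (sub_eq_zero.mp h) hne
  have hnM : ((n : ℕ) : AlgInt) ∈ M := by
    have h2 : ((n : ℕ) : AlgInt) = ∑ j ∈ Finset.range n, (1 - w ^ j) := by
      rw [Finset.sum_sub_distrib, hsum, sub_zero]
      simp
    rw [h2]
    apply Ideal.sum_mem
    intro j _
    rw [← mul_neg_geom_sum]
    exact Ideal.mul_mem_right _ _ hw1
  exact hrn ((Cfsg.Agent.Helper77.natCast_mem_iff hM n).mp hnM)

/-- **Key character-theoretic lemma.**  If `x` has `p`-power class size and `r ≠ p` is a prime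
dividing `|G|` but not the order of `x`, then `x` lies in a proper normal subgroup of `G`
(the kernel of a non-principal character in the principal `r`-block of degree prime to `p`). -/
theorem exists_proper_normal {G : Type u} [Group G] [Finite G] {p r : ℕ} (hp : p.Prime)
    (hr : r.Prime) (hpr : p ≠ r) (x : G) (hx : PPI p x) (hrG : r ∣ Nat.card G)
    (hrx : ¬ r ∣ orderOf x) : ∃ K : Subgroup G, K.Normal ∧ K ≠ ⊤ ∧ x ∈ K := by
  classical
  have := Fintype.ofFinite G
  obtain ⟨a, ha⟩ := hx
  obtain ⟨M, hM⟩ := Cfsg.Agent.Helper74.DZ.exists_isPModular r hr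
  have hMp : M.IsPrime := Cfsg.Agent.Helper77.isPrime_of_isPModular hM
  let triv : IrrCharacter G := ⟨fun _ => 1, Cfsg.Agent.Helper3.isIrrCharacter_one⟩
  set B : Set (IrrCharacter G) := blockOf M (triv : G → ℂ) with hBdef
  have hB : IsPBlock M B := ⟨triv, rfl⟩
  have htrivB : triv ∈ B := Cfsg.Agent.Helper77.mem_blockOf_self triv
  have : Fact r.Prime := ⟨hr⟩
  obtain ⟨v, hv⟩ := exists_prime_orderOf_dvd_card' r hrG
  have hwbo := Cfsg.Agent.Helper16.weak_block_orthogonality hM hB (1 : G) v
    (by rw [orderOf_one]; exact fun h => hr.one_lt.ne' (Nat.dvd_one.mp h)) (by rw [hv])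
  have hpC : (p : ℂ) ≠ 0 := by exact_mod_cast hp.ne_zero
  -- a non-principal member of the block of degree prime to p
  have hex : ∃ χ ∈ B, χ ≠ triv ∧ ∀ m : ℕ, (χ : G → ℂ) 1 = (m : ℂ) → ¬ p ∣ m := by
    by_contra hcon
    push Not at hcon
    set S := (Set.toFinite B).toFinset with hS
    have htS : triv ∈ S := by rw [hS, Set.Finite.mem_toFinset]; exact htrivB
    rw [← Finset.add_sum_erase S _ htS] at hwbo
    have htriv1 : (triv : G → ℂ) 1 * conj ((triv : G → ℂ) v) = 1 := by simp [triv]
    rw [htriv1] at hwbo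
    have hrest : ∃ β : ℂ, IsIntegral ℤ β ∧
        ∑ χ ∈ S.erase triv, (χ : G → ℂ) 1 * conj ((χ : G → ℂ) v) = (p : ℂ) * β := by
      apply Finset.sum_induction _ (fun z : ℂ => ∃ β : ℂ, IsIntegral ℤ β ∧ z = (p : ℂ) * β)
      · rintro z₁ z₂ ⟨β₁, h₁, rfl⟩ ⟨β₂, h₂, rfl⟩
        exact ⟨β₁ + β₂, h₁.add h₂, by ring⟩
      · exact ⟨0, isIntegral_zero, by simp⟩
      · intro χ hχ
        rw [Finset.mem_erase] at hχ
        have hχB : χ ∈ B := by
          have := hχ.2
          rwa [hS, Set.Finite.mem_toFinset] at this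
        obtain ⟨m, hm1, k, rfl⟩ := hcon χ hχB hχ.1
        obtain ⟨n, ρ, hirr, hρ⟩ := χ.2
        refine ⟨(k : ℂ) * conj ((χ : G → ℂ) v), ?_, ?_⟩
        · apply IsIntegral.mul
          · exact_mod_cast Cfsg.Agent.Helper3.isIntegral_intCast (k : ℤ)
          · apply Cfsg.Agent.Helper3.isIntegral_conj
            rw [← hρ]
            exact Cfsg.Agent.Helper3.char_isIntegral ρ v
        · rw [hm1]; push_cast; ring
    obtain ⟨β, hβ, hβeq⟩ := hrest
    rw [hβeq] at hwbo
    have h1p : IsIntegral ℤ (((1 : ℕ) : ℂ) / (p : ℂ)) := by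
      have : ((1 : ℕ) : ℂ) / (p : ℂ) = -β := by
        field_simp
        push_cast
        linear_combination hwbo
      rw [this]; exact hβ.neg
    have := Cfsg.Agent.Helper3.rat_of_isIntegral_natCast_div 1 p hp.ne_zero h1p
    exact hp.one_lt.ne' (Nat.dvd_one.mp this)
  obtain ⟨χ, hχB, hχne, hχp⟩ := hex
  obtain ⟨n, ρ, hirr, hρ⟩ := χ.2
  have hV := Cfsg.Agent.Helper3.nontrivial_of_irr ρ
  have hfr : Module.finrank ℂ (Fin n → ℂ) = n := by simp
  have hn0 : n ≠ 0 := by
    rw [← hfr]; exact (Module.finrank_pos (R := ℂ) (M := Fin n → ℂ)).ne'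
  have hnC : (n : ℂ) ≠ 0 := by exact_mod_cast hn0
  have h1 : (χ : G → ℂ) 1 = (n : ℂ) := by rw [← hρ, Representation.char_one, hfr]
  have hpn : ¬ p ∣ n := hχp n h1
  have hcop : Nat.Coprime (Module.finrank ℂ (Fin n → ℂ))
      (Subgroup.centralizer ({x} : Set G)).index := by
    rw [hfr, ha]
    apply Nat.Coprime.pow_right
    exact (Nat.Coprime.symm ((Nat.Prime.coprime_iff_not_dvd hp).mpr hpn))
  have hsb : MemLocalIdeal M (centralChar (triv : G → ℂ) x - centralChar (χ : G → ℂ) x) :=
    hχB x
  have hct : centralChar (triv : G → ℂ) x = ((p ^ a : ℕ) : ℂ) := by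
    simp [centralChar, triv, ha]
  have hrpa : ¬ r ∣ p ^ a := by
    intro h
    have := (Nat.prime_dvd_prime_iff_eq hr hp).mp (hr.dvd_of_dvd_pow h)
    exact hpr this.symm
  have hxK : ρ x = LinearMap.id := by
    rcases Cfsg.Agent.Helper3.char_eq_zero_or_norm_eq_of_coprime ρ x hcop with h0 | hnorm
    · exfalso
      have hcx : centralChar (χ : G → ℂ) x = 0 := by
        simp only [centralChar]
        rw [← hρ, h0]; simp
      rw [hct, hcx, sub_zero] at hsb
      exact hrpa ((Cfsg.Agent.Helper77.memLocalIdeal_natCast_iff hM _).mp hsb)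
    · obtain ⟨ω, hω⟩ := (Cfsg.Agent.Helper3.norm_char_eq_iff ρ x).mp hnorm
      have hω1 := Cfsg.Agent.Helper3.smul_id_pow_orderOf ρ x ω hω
      have hχx : (χ : G → ℂ) x = ω * (n : ℂ) := by
        rw [← hρ]
        unfold Representation.character
        rw [hω, map_smul, LinearMap.trace_id, hfr]; simp
      have hcx : centralChar (χ : G → ℂ) x = ((p ^ a : ℕ) : ℂ) * ω := by
        simp only [centralChar]
        rw [hχx, h1, ha]
        field_simp
      rw [hct, hcx] at hsb
      have hsb' : MemLocalIdeal M (((p ^ a : ℕ) : ℂ) * (1 - ω)) := by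
        have : ((p ^ a : ℕ) : ℂ) * (1 - ω) = ((p ^ a : ℕ) : ℂ) - ((p ^ a : ℕ) : ℂ) * ω := by ring
        rw [this]; exact hsb
      have hint : IsIntegral ℤ ω :=
        IsIntegral.of_pow (orderOf_pos x) (by rw [hω1]; exact isIntegral_one)
      have hR2 : MemLocalRing M (1 - ω) := by
        have := Cfsg.Agent.Helper77.memLocalRing_algInt hMp.ne_top
          ((1 : AlgInt) - ⟨ω, hint⟩)
        simpa using this
      rcases Cfsg.Agent.Helper77.memLocalIdeal_or_of_mul
        (Cfsg.Agent.Helper77.memLocalRing_natCast (M := M) (p ^ a)) hR2 hsb' with h | h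
      · exact absurd ((Cfsg.Agent.Helper77.memLocalIdeal_natCast_iff hM _).mp h) hrpa
      · have := root_eq_one hM ω (orderOf x) (orderOf_pos x) hω1 hrx h
        rw [hω, this, one_smul]
  refine ⟨MonoidHom.ker ρ, MonoidHom.normal_ker ρ, ?_, ?_⟩
  · intro htop
    have hconst : ∀ y : G, (χ : G → ℂ) y = (n : ℂ) := by
      intro y
      have hy : y ∈ MonoidHom.ker ρ := by rw [htop]; exact Subgroup.mem_top y
      rw [MonoidHom.mem_ker] at hy
      rw [← hρ]
      unfold Representation.character
      rw [hy, LinearMap.trace_one, hfr]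
    have hne' : (χ : G → ℂ) ≠ fun _ => (1 : ℂ) := by
      intro h
      exact hχne (Subtype.ext h)
    have horth := Cfsg.Agent.Helper3.classInner_irr_ne χ.2
      (Cfsg.Agent.Helper3.isIrrCharacter_one (G := G)) hne'
    unfold Cfsg.classInner at horth
    simp only [hconst, map_one, mul_one, Finset.sum_const, Finset.card_univ,
      nsmul_eq_mul] at horth
    rw [Nat.card_eq_fintype_card] at horth
    have hG : (Fintype.card G : ℂ) ≠ 0 := by exact_mod_cast Fintype.card_ne_zero
    rw [← mul_assoc, inv_mul_cancel₀ hG, one_mul] at horth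
    exact hnC horth
  · rw [MonoidHom.mem_ker]
    exact hxK

end

section

open Subgroup

open scoped ComplexConjugate

universe u

theorem exists_third_prime {G : Type u} [Group G] [Finite G] (hns : ¬ Group.IsSolvable G)
    {p q : ℕ} (hp : p.Prime) (hq : q.Prime) :
    ∃ r : ℕ, r.Prime ∧ r ∣ Nat.card G ∧ r ≠ p ∧ r ≠ q := by
  by_contra hcon
  push Not at hcon
  apply hns
  have h : ∀ r : ℕ, r.Prime → r ∣ Nat.card G → r = p ∨ r = q := by
    intro r hr hrd
    by_cases hrp : r = p
    · exact Or.inl hrp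
    · exact Or.inr (hcon r hr hrd hrp)
  obtain ⟨a, b, hab⟩ := eq_pow_mul_pow_of_primeFactors Nat.card_pos.ne' hp hq h
  exact Cfsg.Agent.Helper3.burnside_paqb p q a b hp hq hab

theorem kazarin_K1 {p : ℕ} (hp : p.Prime) (n : ℕ)
    (IH : ∀ m < n, ∀ (H : Type u) [Group H] [Finite H], Nat.card H = m → ∀ z : H, PPI p z →
      Group.IsSolvable (Subgroup.normalClosure ({z} : Set H)))
    (G : Type u) [Group G] [Finite G] (hG : Nat.card G = n) (x : G) (hx : PPI p x)
    (hN : Subgroup.normalClosure ({x} : Set G) ≠ ⊤) :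
    Group.IsSolvable (Subgroup.normalClosure ({x} : Set G)) := by
  set N := Subgroup.normalClosure ({x} : Set G) with hNdef
  have hxN : x ∈ N := Subgroup.subset_normalClosure (Set.mem_singleton x)
  have hlt : Nat.card N < n := by
    rw [← hG]
    apply lt_of_le_of_ne (Subgroup.card_le_card_group N)
    intro h
    exact hN ((Subgroup.card_eq_iff_eq_top N).mp h)
  have hmem : ∀ g : G, g * x * g⁻¹ ∈ N := fun g => Subgroup.Normal.conj_mem inferInstance x hxN g
  let f : G → Subgroup N := fun g => Subgroup.normalClosure ({(⟨g * x * g⁻¹, hmem g⟩ : N)} : Set N)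
  have hs : ∀ g, Group.IsSolvable (f g) := fun g =>
    IH (Nat.card N) hlt N rfl _ (ppi_subtype hp N (ppi_conj hx g) (hmem g))
  have hJ : Group.IsSolvable ↥(⨆ g, f g) :=
    isSolvable_iSup_normal f (fun g => Subgroup.normalClosure_normal) hs
  apply isSolvable_of_top _ hJ
  rw [eq_top_iff]
  intro w _
  -- w.1 ∈ N = closure of conjugates
  have hw : (w : G) ∈ (⨆ g, f g).map N.subtype := by
    have hle : Subgroup.closure (Group.conjugatesOfSet ({x} : Set G))
        ≤ (⨆ g, f g).map N.subtype := by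
      rw [Subgroup.closure_le]
      intro c hc
      rw [Group.mem_conjugatesOfSet_iff] at hc
      obtain ⟨x', hx', hconj⟩ := hc
      rw [Set.mem_singleton_iff] at hx'
      subst hx'
      rw [isConj_iff] at hconj
      obtain ⟨g, rfl⟩ := hconj
      refine ⟨⟨g * x' * g⁻¹, hmem g⟩, ?_, rfl⟩
      apply (le_iSup f g)
      exact Subgroup.subset_normalClosure (Set.mem_singleton _)
    exact hle w.2
  obtain ⟨j, hj, hjw⟩ := hw
  have : j = w := Subtype.ext hjw
  rw [← this]; exact hj

theorem kazarin_aux {p : ℕ} (hp : p.Prime) : ∀ (n : ℕ) (G : Type u) [Group G] [Finite G],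
    Nat.card G = n → ∀ x : G, PPI p x →
      Group.IsSolvable (Subgroup.normalClosure ({x} : Set G)) := by
  intro n
  induction n using Nat.strong_induction_on with
  | _ n ih =>
    intro G _ _ hG x hx
    by_cases hN : Subgroup.normalClosure ({x} : Set G) = ⊤
    · suffices hsol : Group.IsSolvable G by infer_instance
      by_contra hns
      have hx1 : x ≠ 1 := by
        intro h
        apply hns
        have hbot : Subgroup.normalClosure ({x} : Set G) ≤ ⊥ := by
          apply Subgroup.normalClosure_le_normal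
          rw [h]; simp
        rw [hN, top_le_iff] at hbot
        exact Group.isSolvable_of_top_eq_bot G hbot.symm
      have hord : orderOf x ≠ 1 := by rwa [Ne, orderOf_eq_one_iff]
      set q := (orderOf x).minFac with hqdef
      have hq : q.Prime := Nat.minFac_prime hord
      have hqd : q ∣ orderOf x := Nat.minFac_dvd _
      set y := x ^ (orderOf x / q) with hydef
      have hy : orderOf y = q := orderOf_pow_orderOf_div (orderOf_pos x).ne' hqd
      obtain ⟨r, hr, hrG, hrp, hrq⟩ := exists_third_prime hns hp hq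
      have hyP : PPI p y := ppi_pow hp hx _
      have hry : ¬ r ∣ orderOf y := by
        rw [hy]
        intro h
        exact hrq ((Nat.prime_dvd_prime_iff_eq hr hq).mp h)
      obtain ⟨K, hKn, hKtop, hyK⟩ := exists_proper_normal hp hr (Ne.symm hrp) y hyP hrG hry
      set Ny := Subgroup.normalClosure ({y} : Set G) with hNy
      have hNyK : Ny ≤ K := Subgroup.normalClosure_le_normal (by simpa using hyK)
      have hNytop : Ny ≠ ⊤ := by
        intro h
        rw [h, top_le_iff] at hNyK
        exact hKtop hNyK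
      have hNysol : Group.IsSolvable Ny := kazarin_K1 hp n ih G hG y hyP hNytop
      have hyNy : y ∈ Ny := Subgroup.subset_normalClosure (Set.mem_singleton y)
      have hy1 : y ≠ 1 := by
        intro h
        rw [h, orderOf_one] at hy
        exact hq.one_lt.ne' hy.symm
      have hcardNy : 1 < Nat.card Ny := by
        rw [Finite.one_lt_card_iff_nontrivial]
        exact ⟨⟨⟨y, hyNy⟩, 1, fun h => hy1 (congrArg Subtype.val h)⟩⟩
      have hlt : Nat.card (G ⧸ Ny) < n := by
        have h1 := Subgroup.card_eq_card_quotient_mul_card_subgroup Ny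
        have h0 : 0 < Nat.card (G ⧸ Ny) := Nat.card_pos
        rw [← hG, h1]
        nlinarith
      have hqsol := ih _ hlt (G ⧸ Ny) rfl (QuotientGroup.mk' Ny x) (ppi_mk hp Ny hx)
      have htopq : Subgroup.normalClosure ({QuotientGroup.mk' Ny x} : Set (G ⧸ Ny)) = ⊤ := by
        have himg : ({QuotientGroup.mk' Ny x} : Set (G ⧸ Ny))
            = (QuotientGroup.mk' Ny) '' ({x} : Set G) := (Set.image_singleton).symm
        rw [himg, ← Subgroup.map_normalClosure _ _ (QuotientGroup.mk'_surjective Ny), hN]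
        exact Subgroup.map_top_of_surjective _ (QuotientGroup.mk'_surjective Ny)
      have hQ : Group.IsSolvable (G ⧸ Ny) := isSolvable_of_top _ hqsol htopq
      exact hns (isSolvable_of_quotient Ny hNysol hQ)
    · exact kazarin_K1 hp n ih G hG x hx hN

/-- **Kazarin's theorem**: if the conjugacy class of `x` has prime power size, then the normal
closure of `x` is solvable. -/
theorem kazarin {G : Type u} [Group G] [Finite G] {p : ℕ} (hp : p.Prime) (x : G)
    (hx : PPI p x) : Group.IsSolvable (Subgroup.normalClosure ({x} : Set G)) :=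
  kazarin_aux hp _ G rfl x hx

end

section

open Subgroup

open scoped ComplexConjugate

open scoped commutatorElement

universe u

theorem pCore_normal (p : ℕ) (L : Type*) [Group L] : (Cfsg.pCore p L).Normal :=
  Subgroup.sSup_normal _ fun _ h => h.1

theorem isPGroup_pCore {L : Type*} [Group L] [Finite L] (p : ℕ) [Fact p.Prime] :
    IsPGroup p (Cfsg.pCore p L) := by
  have hs : SupClosed {N : Subgroup L | N.Normal ∧ IsPGroup p N} := by
    intro A hA B hB
    refine ⟨?_, ?_⟩
    · have := hA.1; have := hB.1; infer_instance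
    · have := hB.1; exact IsPGroup.to_sup_of_normal_right hA.2 hB.2
  have := hs.sSup_mem (Set.toFinite _)
    (show (⊥ : Subgroup L) ∈ {N : Subgroup L | N.Normal ∧ IsPGroup p N} from
      ⟨inferInstance, IsPGroup.of_bot⟩) subset_rfl
  exact this.2

theorem pCore_quotient_eq_bot {L : Type*} [Group L] [Finite L] (p : ℕ) [Fact p.Prime] :
    haveI := pCore_normal p L
    Cfsg.pCore p (L ⧸ Cfsg.pCore p L) = ⊥ := by
  have := pCore_normal p L
  rw [eq_bot_iff]
  intro q hq
  obtain ⟨g, rfl⟩ := QuotientGroup.mk'_surjective (Cfsg.pCore p L) q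
  have hQn : (Cfsg.pCore p (L ⧸ Cfsg.pCore p L)).Normal := pCore_normal p _
  have hQp : IsPGroup p (Cfsg.pCore p (L ⧸ Cfsg.pCore p L)) := isPGroup_pCore p
  have hcn : ((Cfsg.pCore p (L ⧸ Cfsg.pCore p L)).comap (QuotientGroup.mk' (Cfsg.pCore p L))).Normal :=
    inferInstance
  have hcp : IsPGroup p
      ((Cfsg.pCore p (L ⧸ Cfsg.pCore p L)).comap (QuotientGroup.mk' (Cfsg.pCore p L))) := by
    apply hQp.comap_of_ker_isPGroup
    rw [QuotientGroup.ker_mk']
    exact isPGroup_pCore p
  have hle : (Cfsg.pCore p (L ⧸ Cfsg.pCore p L)).comap (QuotientGroup.mk' (Cfsg.pCore p L))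
      ≤ Cfsg.pCore p L := le_sSup ⟨hcn, hcp⟩
  have hg : g ∈ Cfsg.pCore p L := hle (Subgroup.mem_comap.mpr hq)
  rw [Subgroup.mem_bot, QuotientGroup.mk'_apply, QuotientGroup.eq_one_iff]
  exact hg

theorem not_dvd_card_of_nilpotent {G : Type*} [Group G] [Finite G] {p : ℕ} [hp : Fact p.Prime]
    (hcore : Cfsg.pCore p G = ⊥) (E : Subgroup G) [E.Normal] [Group.IsNilpotent ↥E] :
    ¬ p ∣ Nat.card E := by
  let P : Sylow p ↥E := default
  have hPn : (P : Subgroup E).Normal := inferInstance
  have hPc : (P : Subgroup E).Characteristic := Sylow.characteristic_of_normal P hPn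
  have hn : ((P : Subgroup E).map E.subtype).Normal := inferInstance
  have hpg : IsPGroup p ((P : Subgroup E).map E.subtype) := P.isPGroup'.map _
  have hle : (P : Subgroup E).map E.subtype ≤ Cfsg.pCore p G := le_sSup ⟨hn, hpg⟩
  rw [hcore, le_bot_iff] at hle
  have hPbot : (P : Subgroup E) = ⊥ :=
    (Subgroup.map_eq_bot_iff_of_injective _ E.subtype_injective).mp hle
  have hcard := P.card_eq_multiplicity
  rw [hPbot, Subgroup.card_bot] at hcard
  intro hdvd
  have hpos : 0 < (Nat.card E).factorization p :=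
    hp.out.factorization_pos_of_dvd Nat.card_pos.ne' hdvd
  have : 1 < p ^ (Nat.card E).factorization p := Nat.one_lt_pow hpos.ne' hp.out.one_lt
  omega

theorem le_centralizer_of_coprime {G : Type*} [Group G] [Finite G] {p : ℕ} (hp : p.Prime)
    (E : Subgroup G) [E.Normal] (hE : ¬ p ∣ Nat.card E) {y : G} (hy : PPI p y) :
    E ≤ Subgroup.centralizer ({y} : Set G) := by
  rw [← Subgroup.relIndex_eq_one]
  have h1 : (Subgroup.centralizer ({y} : Set G)).relIndex E
      ∣ (Subgroup.centralizer ({y} : Set G)).index := relIndex_dvd_index_of_normal_right _ E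
  obtain ⟨b, hb⟩ := ppi_of_dvd hp hy h1
  have h2 : (Subgroup.centralizer ({y} : Set G)).relIndex E ∣ Nat.card E :=
    Subgroup.relIndex_dvd_card _ _
  rw [hb] at h2 ⊢
  rcases Nat.eq_zero_or_pos b with h0 | h0
  · rw [h0, pow_zero]
  · exact absurd ((dvd_pow_self p h0.ne').trans h2) hE

theorem normalClosure_commute {G : Type*} [Group G] [Finite G] {p : ℕ} (hp : p.Prime)
    (E : Subgroup G) [E.Normal] (hE : ¬ p ∣ Nat.card E) {x : G} (hx : PPI p x) :
    ∀ n ∈ Subgroup.normalClosure ({x} : Set G), ∀ e ∈ E, n * e = e * n := by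
  have hle : Subgroup.closure (Group.conjugatesOfSet ({x} : Set G))
      ≤ Subgroup.centralizer (E : Set G) := by
    rw [Subgroup.closure_le]
    intro c hc
    rw [Group.mem_conjugatesOfSet_iff] at hc
    obtain ⟨x', hx', hconj⟩ := hc
    rw [Set.mem_singleton_iff] at hx'
    subst hx'
    rw [isConj_iff] at hconj
    obtain ⟨g, rfl⟩ := hconj
    have hEc := le_centralizer_of_coprime hp E hE (ppi_conj hx g)
    rw [SetLike.mem_coe, Subgroup.mem_centralizer_iff]
    intro e he
    have hec := hEc he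
    rw [Subgroup.mem_centralizer_singleton_iff] at hec
    exact hec
  intro n hn e he
  have := hle hn
  rw [Subgroup.mem_centralizer_iff] at this
  exact (this e he).symm

theorem isNilpotent_of_comm {D : Type*} [Group D] (h : ∀ a b : D, a * b = b * a) :
    Group.IsNilpotent D := by
  let inst : CommGroup D := { (inferInstance : Group D) with mul_comm := h }
  exact @CommGroup.isNilpotent D inst

theorem commutator_eq_bot_of_abelian_commutator {G : Type*} [Group G] [Finite G] {p : ℕ}
    [hp : Fact p.Prime] (hcore : Cfsg.pCore p G = ⊥) {x : G} (hx : PPI p x)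
    (E : Subgroup G) [E.Normal] (hEN : E ≤ Subgroup.normalClosure ({x} : Set G))
    (hab : ⁅⁅E, E⁆, ⁅E, E⁆⁆ = ⊥) : ⁅E, E⁆ = ⊥ := by
  set D := ⁅E, E⁆ with hD
  have hDE : D ≤ E := Subgroup.commutator_le_left E E
  have hDab : ∀ a ∈ D, ∀ b ∈ D, a * b = b * a := by
    rw [Subgroup.commutator_eq_bot_iff_le_centralizer] at hab
    intro a ha b hb
    have := hab ha
    rw [Subgroup.mem_centralizer_iff] at this
    exact (this b hb).symm
  have hDnil : Group.IsNilpotent ↥D :=
    isNilpotent_of_comm (fun a b => Subtype.ext (hDab a a.2 b b.2))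
  have hDp : ¬ p ∣ Nat.card D := not_dvd_card_of_nilpotent hcore D
  have hND := normalClosure_commute hp.out D hDp hx
  have hEnil : Group.IsNilpotent ↥E := by
    apply Subgroup.isNilpotent_of_ker_le_center (Abelianization.of : ↥E →* Abelianization ↥E)
    rw [Abelianization.ker_of]
    rw [commutator_def, Subgroup.commutator_le]
    intro a _ b _
    rw [Subgroup.mem_center_iff]
    intro c
    apply Subtype.ext
    have hmem : ⁅(a : G), (b : G)⁆ ∈ D := Subgroup.commutator_mem_commutator a.2 b.2
    have hcoe : ((⁅a, b⁆ : ↥E) : G) = ⁅(a : G), (b : G)⁆ := by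
      simp [commutatorElement_def]
    have := hND (c : G) (hEN c.2) _ hmem
    rw [Subgroup.coe_mul, Subgroup.coe_mul, hcoe]
    exact this
  have hEp : ¬ p ∣ Nat.card E := not_dvd_card_of_nilpotent hcore E
  have hNE := normalClosure_commute hp.out E hEp hx
  rw [Subgroup.commutator_eq_bot_iff_le_centralizer]
  intro a ha
  rw [Subgroup.mem_centralizer_iff]
  intro b hb
  exact (hNE a (hEN ha) b hb).symm

/-- The derived series of a subgroup, computed inside the ambient group. -/
def dser {G : Type*} [Group G] (N : Subgroup G) : ℕ → Subgroup G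
  | 0 => N
  | (k + 1) => ⁅dser N k, dser N k⁆

theorem dser_normal {G : Type*} [Group G] (N : Subgroup G) [N.Normal] (k : ℕ) :
    (dser N k).Normal := by
  induction k with
  | zero => exact (inferInstance : N.Normal)
  | succ k ih =>
    have := ih
    exact (inferInstance : (⁅dser N k, dser N k⁆).Normal)

theorem dser_le {G : Type*} [Group G] (N : Subgroup G) [N.Normal] (k : ℕ) : dser N k ≤ N := by
  induction k with
  | zero => exact le_rfl
  | succ k ih =>
    have := dser_normal N k
    exact (Subgroup.commutator_le_left (dser N k) (dser N k)).trans ih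

theorem map_derivedSeries_eq_dser {G : Type*} [Group G] (N : Subgroup G) (k : ℕ) :
    (derivedSeries ↥N k).map N.subtype = dser N k := by
  induction k with
  | zero =>
    rw [derivedSeries_zero, ← MonoidHom.range_eq_map, Subgroup.range_subtype]
    rfl
  | succ k ih =>
    rw [derivedSeries_succ, Subgroup.map_commutator, ih]
    rfl

theorem comm_of_core_bot {G : Type u} [Group G] [Finite G] {p : ℕ} [hp : Fact p.Prime]
    (hcore : Cfsg.pCore p G = ⊥) (x : G) (hx : PPI p x) :
    ∀ a ∈ Subgroup.normalClosure ({x} : Set G), ∀ b ∈ Subgroup.normalClosure ({x} : Set G),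
      a * b = b * a := by
  set N := Subgroup.normalClosure ({x} : Set G) with hN
  have hsol : Group.IsSolvable ↥N := kazarin hp.out x hx
  obtain ⟨k, hk⟩ := hsol.solvable
  have hsk : dser N k = ⊥ := by
    rw [← map_derivedSeries_eq_dser, hk, Subgroup.map_bot]
  have hdesc : ∀ j : ℕ, dser N (j + 1) = ⊥ → dser N 1 = ⊥ := by
    intro j
    induction j with
    | zero => exact id
    | succ j ih =>
      intro h
      apply ih
      have := dser_normal N j
      exact commutator_eq_bot_of_abelian_commutator hcore hx (dser N j) (dser_le N j) h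
  have h1 : dser N 1 = ⊥ := by
    rcases k with _ | k
    · have hNbot : N = ⊥ := hsk
      show ⁅N, N⁆ = ⊥
      rw [hNbot]
      exact Subgroup.commutator_bot_left ⊥
    · exact hdesc k hsk
  have h1' : ⁅N, N⁆ = ⊥ := h1
  rw [Subgroup.commutator_eq_bot_iff_le_centralizer] at h1'
  intro a ha b hb
  have := h1' ha
  rw [Subgroup.mem_centralizer_iff] at this
  exact (this b hb).symm

end

/-- Let G be a finite group, p a prime and x an element whose conjugacy class has p-power size. Then for any two conjugates y and z of x, the commutator y z y⁻¹ z⁻¹ lies in O_p(G), the largest normal p-subgroup of G. -/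
theorem result {G : Type*} [Group G] [Finite G] (p : ℕ) [Fact p.Prime]
    (x : G) (hx : ∃ a : ℕ, (Subgroup.centralizer ({x} : Set G)).index = p ^ a) (g h : G) :
    (g * x * g⁻¹) * (h * x * h⁻¹) * (g * x * g⁻¹)⁻¹ * (h * x * h⁻¹)⁻¹ ∈ Cfsg.pCore p G := by
  have hp : p.Prime := Fact.out
  have hOn := pCore_normal p G
  have hcore := pCore_quotient_eq_bot (L := G) p
  have hxbar : PPI p (QuotientGroup.mk' (Cfsg.pCore p G) x) := ppi_mk hp (Cfsg.pCore p G) hx
  have hcomm := comm_of_core_bot hcore _ hxbar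
  have hmem : ∀ k : G, QuotientGroup.mk' (Cfsg.pCore p G) (k * x * k⁻¹) ∈
      Subgroup.normalClosure ({QuotientGroup.mk' (Cfsg.pCore p G) x} : Set (G ⧸ Cfsg.pCore p G)) := by
    intro k
    rw [map_mul, map_mul, map_inv]
    exact Subgroup.Normal.conj_mem inferInstance _
      (Subgroup.subset_normalClosure (Set.mem_singleton _)) _
  have hc := hcomm _ (hmem g) _ (hmem h)
  rw [← QuotientGroup.eq_one_iff (N := Cfsg.pCore p G)]
  have e : ((g * x * g⁻¹ * (h * x * h⁻¹) * (g * x * g⁻¹)⁻¹ * (h * x * h⁻¹)⁻¹ : G) : G ⧸ Cfsg.pCore p G)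
      = QuotientGroup.mk' (Cfsg.pCore p G) (g * x * g⁻¹) * QuotientGroup.mk' (Cfsg.pCore p G) (h * x * h⁻¹)
        * (QuotientGroup.mk' (Cfsg.pCore p G) (g * x * g⁻¹))⁻¹
        * (QuotientGroup.mk' (Cfsg.pCore p G) (h * x * h⁻¹))⁻¹ := by
    simp only [QuotientGroup.mk'_apply, QuotientGroup.mk_mul, QuotientGroup.mk_inv]
  rw [e, hc]
  group

end Cfsg.Agent.S4364
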