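import Cfsg.Statements.S4049
import Mathlib
import Cfsg.Agent.Lib.Helper67.TwoClosed

set_option autoImplicit false
open Cfsg

namespace Cfsg.Agent.S4049

open Cfsg.Agent.Helper67

/-- Let G be a finite group such that N_G(H)/C_G(H) has odd order for every nontrivial subgroup H of odd order. Then the Sylow 2-subgroups of G are normal. -/
theorem result {G : Type*} [Group G] [Finite G]
    (hhom : ∀ H : Subgroup G, H ≠ ⊥ → ¬ 2 ∣ Nat.card ↥H →
        ¬ 2 ∣ (Subgroup.centralizer (H : Set G)).relIndex (Subgroup.normalizer (H : Set G))) (P : Sylow 2 G) :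
    (P : Subgroup G).Normal := by
  apply sylow_two_normal_of_noRealOdd
  intro x g hg hodd
  by_contra hx1
  set H : Subgroup G := Subgroup.zpowers x with hH
  have hHne : H ≠ ⊥ := by
    rw [hH, Ne, Subgroup.zpowers_eq_bot]; exact hx1
  have hHodd : ¬ 2 ∣ Nat.card ↥H := by
    rw [hH, Nat.card_zpowers]
    intro h2
    exact (Nat.not_even_iff_odd.2 hodd) (even_iff_two_dvd.2 h2)
  have hrel := hhom H hHne hHodd
  apply hrel
  set Nn := Subgroup.normalizer (H : Set G) with hNn
  set C := (Subgroup.centralizer (H : Set G)).subgroupOf Nn with hC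
  have hgN : g ∈ Nn := mem_normalizer_zpowers_of_inverts hg
  have hrelC : (Subgroup.centralizer (H : Set G)).relIndex Nn = Nat.card (↥Nn ⧸ C) := by
    rw [Subgroup.relIndex, Subgroup.index_eq_card]
  rw [hrelC]
  set g' : Nn := ⟨g, hgN⟩ with hg'
  set q : ↥Nn ⧸ C := (g' : ↥Nn ⧸ C) with hq
  have hq1 : q ≠ 1 := by
    intro h1
    rw [hq, QuotientGroup.eq_one_iff, hC, Subgroup.mem_subgroupOf] at h1
    rw [Subgroup.mem_centralizer_iff] at h1
    have h3 : x * g = g * x := h1 x (Subgroup.mem_zpowers x)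
    exact hx1 (eq_one_of_inverts_of_commute hg h3.symm hodd)
  have hq2 : q ^ 2 = 1 := by
    rw [hq, ← QuotientGroup.mk_pow, QuotientGroup.eq_one_iff, hC, Subgroup.mem_subgroupOf]
    rw [Subgroup.mem_centralizer_iff]
    intro y hy
    obtain ⟨i, rfl⟩ := Subgroup.mem_zpowers_iff.1 hy
    have hc : Commute (g ^ 2) x := commute_sq_of_inverts hg
    have := (hc.zpow_right i).eq
    simp only [Subgroup.coe_pow]
    exact this.symm
  have ho : orderOf q = 2 := orderOf_eq_prime hq2 hq1
  rw [← ho]
  exact orderOf_dvd_natCard q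

end Cfsg.Agent.S4049
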