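import Mathlib
import Cfsg.Statements.S4051
import Cfsg.Agent.Lib.Helper67.PiElements

set_option autoImplicit false
open Cfsg

namespace Cfsg.Agent.S4051

open Cfsg.Agent.Helper67 Subgroup

/-- Let π be a set of primes and G a finite group such that N_G(H)/C_G(H) is a π'-group for every nontrivial π'-subgroup H of G. If K is a normal subgroup of G such that the π-elements of K form a subgroup and the π-elements of G/K form a subgroup, then the π-elements of G form a subgroup. -/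
theorem result {G : Type*} [Group G] [Finite G] (π : Set ℕ)
    (hπ : ∀ p ∈ π, p.Prime) (hhom : (∀ H : Subgroup G, H ≠ ⊥ → (∀ p : ℕ, p.Prime → p ∣ Nat.card ↥H → p ∉ π) →
        ∀ p : ℕ, p.Prime → p ∣ (Subgroup.centralizer (H : Set G)).relIndex (Subgroup.normalizer (H : Set G)) → p ∉ π))
    (K : Subgroup G) [K.Normal]
    (hK : ∃ L : Subgroup ↥K, ∀ x : ↥K, x ∈ L ↔ ∀ p : ℕ, p.Prime → p ∣ orderOf x → p ∈ π)
    (hQ : ∃ L : Subgroup (G ⧸ K), ∀ x : G ⧸ K, x ∈ L ↔ ∀ p : ℕ, p.Prime → p ∣ orderOf x → p ∈ π) :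
    (∃ K : Subgroup G, ∀ x : G, x ∈ K ↔ ∀ p : ℕ, p.Prime → p ∣ orderOf x → p ∈ π) := by
  obtain ⟨L₀, hL₀⟩ := hK
  obtain ⟨M₀, hM₀⟩ := hQ
  have hL₀' : ∀ x : ↥K, x ∈ L₀ ↔ IsPi π x := hL₀
  have hM₀' : ∀ x : G ⧸ K, x ∈ M₀ ↔ IsPi π x := hM₀
  show ∃ X : Subgroup G, ∀ x : G, x ∈ X ↔ IsPi π x
  set L := L₀.map K.subtype with hL
  have hLK : L ≤ K := map_subtype_le L₀
  have hLmem : ∀ g : G, g ∈ L ↔ g ∈ K ∧ IsPi π g := by
    intro g
    constructor
    · rintro ⟨k, hk, rfl⟩
      exact ⟨k.2, (isPi_coe_iff k).2 ((hL₀' k).1 hk)⟩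
    · rintro ⟨hgK, hg⟩
      exact ⟨⟨g, hgK⟩, (hL₀' _).2 ((isPi_coe_iff (⟨g, hgK⟩ : K)).1 hg), rfl⟩
  have hLn : L.Normal := by
    constructor
    intro l hl g
    rw [hLmem] at hl ⊢
    refine ⟨‹K.Normal›.conj_mem _ hl.1 g, ?_⟩
    apply hl.2.of_dvd
    rw [← MulAut.conj_apply, MulEquiv.orderOf_eq]
  have hLpi : ∀ l ∈ L, IsPi π l := fun l hl => ((hLmem l).1 hl).2
  set f := QuotientGroup.mk' L with hf
  set Kb := K.map f with hKb
  have hmemKb : ∀ a : G, f a ∈ Kb ↔ a ∈ K := by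
    intro a
    constructor
    · rintro ⟨k, hk, hka⟩
      have h1 : k⁻¹ * a ∈ L := by
        rw [← QuotientGroup.eq_one_iff, ← QuotientGroup.mk'_apply, ← hf, map_mul, map_inv, hka,
          inv_mul_cancel]
      have := K.mul_mem hk (hLK h1)
      rwa [mul_inv_cancel_left] at this
    · intro ha
      exact ⟨a, ha, rfl⟩
  -- Kb is a π'-group
  have hKbpi : ∀ p : ℕ, p.Prime → p ∣ Nat.card Kb → p ∉ π := by
    intro p hp hd hpπ
    refine not_dvd_card_map_of_kills f K p hp ?_ hd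
    intro k hk ⟨a, ha⟩
    have hkpi : IsPi π k := by
      intro q hq hqd
      rw [ha] at hqd
      have := (Nat.prime_dvd_prime_iff_eq hq hp).1 (hq.dvd_of_dvd_pow hqd)
      rw [this]; exact hpπ
    have : k ∈ L := (hLmem k).2 ⟨hk, hkpi⟩
    exact (QuotientGroup.eq_one_iff k).2 this
  set M := M₀.comap (QuotientGroup.mk' K) with hM
  set Db := centralizer (Kb : Set (G ⧸ L)) ⊓ M.map f with hDb
  have hKbn : Kb.Normal := Subgroup.Normal.map inferInstance f (QuotientGroup.mk'_surjective L)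
  -- the centre of Db has π-index
  have hcenter : ∀ p : ℕ, p.Prime → p ∣ (center Db).index → p ∈ π := by
    intro p hp hd
    have : Fact p.Prime := ⟨hp⟩
    have hZle : Kb.subgroupOf Db ≤ center Db := by
      intro t ht
      rw [Subgroup.mem_subgroupOf] at ht
      rw [Subgroup.mem_center_iff]
      intro d
      apply Subtype.ext
      have hd1 : (d : G ⧸ L) ∈ centralizer (Kb : Set (G ⧸ L)) := (Subgroup.mem_inf.1 d.2).1
      have := mem_centralizer_iff.1 hd1 _ ht
      simpa using this.symm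
    have hd2 : p ∣ (Kb.subgroupOf Db).index := hd.trans (Subgroup.index_dvd_of_le hZle)
    rw [Subgroup.index_eq_card] at hd2
    obtain ⟨qd, hqd⟩ := exists_prime_orderOf_dvd_card' (G := Db ⧸ Kb.subgroupOf Db) p hd2
    obtain ⟨d, rfl⟩ := QuotientGroup.mk_surjective qd
    have hdM : (d : G ⧸ L) ∈ M.map f := (Subgroup.mem_inf.1 d.2).2
    obtain ⟨g, hgM, hgd⟩ := hdM
    have h1 : g ^ p ∈ K := by
      rw [← hmemKb, map_pow, hgd]
      have : (QuotientGroup.mk d : Db ⧸ Kb.subgroupOf Db) ^ p = 1 := by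
        rw [← hqd]; exact pow_orderOf_eq_one _
      rw [← QuotientGroup.mk_pow, QuotientGroup.eq_one_iff, Subgroup.mem_subgroupOf] at this
      simpa using this
    have h2 : g ∉ K := by
      rw [← hmemKb, hgd]
      intro hdk
      have : (QuotientGroup.mk d : Db ⧸ Kb.subgroupOf Db) = 1 := by
        rw [QuotientGroup.eq_one_iff, Subgroup.mem_subgroupOf]; exact hdk
      rw [this, orderOf_one] at hqd
      exact hp.one_lt.ne hqd
    have h3 : orderOf (QuotientGroup.mk' K g) = p := by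
      apply orderOf_eq_prime
      · rw [← map_pow]
        exact (QuotientGroup.eq_one_iff _).2 h1
      · intro h
        exact h2 ((QuotientGroup.eq_one_iff _).1 h)
    have h4 : IsPi π (QuotientGroup.mk' K g) := (hM₀' _).1 hgM
    exact h4 p hp (by rw [h3])
  obtain ⟨X, hX⟩ := exists_subgroup_isPi_of_center_index (T := Db) π hcenter
  refine ⟨(X.map Db.subtype).comap f, fun x => ?_⟩
  rw [Subgroup.mem_comap]
  constructor
  · rintro ⟨t, ht, htx⟩
    have h1 : IsPi π t := (hX t).1 ht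
    have h2 : IsPi π (f x) := by
      rw [← htx]; exact (isPi_coe_iff t).2 h1
    exact isPi_of_isPi_mk L hLpi x h2
  · intro hx
    have h1 : f x ∈ centralizer (Kb : Set (G ⧸ L)) :=
      centralizes_of_isPi π hhom L K hLpi hKbpi x hx
    have h2 : f x ∈ M.map f := by
      refine ⟨x, ?_, rfl⟩
      show QuotientGroup.mk' K x ∈ M₀
      exact (hM₀' _).2 (hx.map _)
    have h3 : f x ∈ Db := Subgroup.mem_inf.2 ⟨h1, h2⟩
    refine ⟨⟨f x, h3⟩, (hX _).2 ?_, rfl⟩
    exact (isPi_coe_iff (⟨f x, h3⟩ : Db)).1 (hx.map f)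

end Cfsg.Agent.S4051
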