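import Mathlib
import Cfsg.Statements.S4050
import Cfsg.Agent.S4051

set_option autoImplicit false
open Cfsg

namespace Cfsg.Agent.S4050

open Cfsg.Agent.Helper67 Subgroup

/-- element-wise form of the `N_G(H)/C_G(H)` hypothesis -/
def PProp (G : Type*) [Group G] (π : Set ℕ) : Prop :=
  ∀ Q : Subgroup G, Q ≠ ⊥ → (∀ p : ℕ, p.Prime → p ∣ Nat.card Q → p ∉ π) →
    ∀ y : G, y ∈ normalizer (Q : Set G) → IsPi π y → y ∈ centralizer (Q : Set G)

theorem pProp_of_hhom {G : Type*} [Group G] [Finite G] (π : Set ℕ)
    (hhom : ∀ H : Subgroup G, H ≠ ⊥ → (∀ p : ℕ, p.Prime → p ∣ Nat.card ↥H → p ∉ π) →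
        ∀ p : ℕ, p.Prime → p ∣ (centralizer (H : Set G)).relIndex (normalizer (H : Set G)) → p ∉ π) :
    PProp G π := by
  intro Q hQ hQpi y hyN hypi
  apply mem_of_coprime_relIndex (centralizer (Q : Set G)) (normalizer (Q : Set G))
    (normal_subgroupOf_centralizer_normalizer _) y hyN
  intro p hp hd hd2
  exact hhom Q hQ hQpi p hp hd2 (hypi p hp hd)

theorem hhom_of_pProp {G : Type*} [Group G] [Finite G] (π : Set ℕ) (hP : PProp G π) :
    ∀ H : Subgroup G, H ≠ ⊥ → (∀ p : ℕ, p.Prime → p ∣ Nat.card ↥H → p ∉ π) →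
        ∀ p : ℕ, p.Prime → p ∣ (centralizer (H : Set G)).relIndex (normalizer (H : Set G)) → p ∉ π := by
  intro H hH hHpi p hp hd hpπ
  have hn : ((centralizer (H : Set G)).subgroupOf (normalizer (H : Set G))).Normal :=
    normal_subgroupOf_centralizer_normalizer _
  have key := not_dvd_card_map_of_kills
    (QuotientGroup.mk' ((centralizer (H : Set G)).subgroupOf (normalizer (H : Set G))))
    (⊤ : Subgroup (normalizer (H : Set G))) p hp ?_
  · apply key
    rw [← MonoidHom.range_eq_map, MonoidHom.range_eq_top.2 (QuotientGroup.mk'_surjective _),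
      Subgroup.card_top, ← Subgroup.index_eq_card]
    exact hd
  · rintro k - ⟨a, ha⟩
    have hk : IsPi π (k : G) := by
      intro q hq hqd
      rw [Subgroup.orderOf_coe, ha] at hqd
      have := (Nat.prime_dvd_prime_iff_eq hq hp).1 (hq.dvd_of_dvd_pow hqd)
      rw [this]; exact hpπ
    have h1 := hP H hH hHpi k k.2 hk
    exact (QuotientGroup.eq_one_iff k).2 (mem_subgroupOf.2 h1)

theorem pProp_subgroup {G : Type*} [Group G] (π : Set ℕ) (hP : PProp G π) (U : Subgroup G) :
    PProp U π := by
  intro Q hQ hQpi y hyN hypi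
  have h1 : Q.map U.subtype ≠ ⊥ := by
    rwa [Ne, Subgroup.map_eq_bot_iff_of_injective _ U.subtype_injective]
  have h2 : ∀ p : ℕ, p.Prime → p ∣ Nat.card (Q.map U.subtype) → p ∉ π := by
    rw [Subgroup.card_map_of_injective U.subtype_injective]
    exact hQpi
  have h3 : (y : G) ∈ normalizer ((Q.map U.subtype : Subgroup G) : Set G) := by
    rw [mem_normalizer_iff]
    intro h
    constructor
    · rintro ⟨x, hx, rfl⟩
      exact ⟨y * x * y⁻¹, (mem_normalizer_iff.1 hyN x).1 hx, by simp⟩
    · rintro ⟨x, hx, hxe⟩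
      refine ⟨y⁻¹ * x * y, (mem_normalizer_iff''.1 hyN x).1 hx, ?_⟩
      have hxe' : (x : G) = ↑y * h * (↑y)⁻¹ := hxe
      simp [hxe', mul_assoc]
  have h4 := hP _ h1 h2 (y : G) h3 ((isPi_coe_iff y).2 hypi)
  rw [mem_centralizer_iff] at h4 ⊢
  intro x hx
  apply Subtype.ext
  exact h4 (x : G) ⟨x, hx, rfl⟩

/-- Let π be a set of primes and G a finite group. The π-elements of G (elements whose order is divisible only by primes of π) form a subgroup if and only if G is π-separable (it has a chain of normal subgroups from 1 to G with each successive index divisible only by primes in π or only by primes outside π) and N_G(H)/C_G(H) is a π'-group for every nontrivial π'-subgroup H of G. -/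
theorem result {G : Type*} [Group G] [Finite G] (π : Set ℕ)
    (hπ : ∀ p ∈ π, p.Prime) :
    (∃ K : Subgroup G, ∀ x : G, x ∈ K ↔ ∀ p : ℕ, p.Prime → p ∣ orderOf x → p ∈ π) ↔
    ((∃ (n : ℕ) (H : Fin (n + 1) → Subgroup G), H 0 = ⊥ ∧ H (Fin.last n) = ⊤ ∧ Monotone H ∧ (∀ i, (H i).Normal) ∧
      ∀ i : Fin n, (∀ q : ℕ, q.Prime → q ∣ (H i.castSucc).relIndex (H i.succ) → q ∈ π) ∨
        (∀ q : ℕ, q.Prime → q ∣ (H i.castSucc).relIndex (H i.succ) → q ∉ π)) ∧
     (∀ H : Subgroup G, H ≠ ⊥ → (∀ p : ℕ, p.Prime → p ∣ Nat.card ↥H → p ∉ π) →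
        ∀ p : ℕ, p.Prime → p ∣ (Subgroup.centralizer (H : Set G)).relIndex (Subgroup.normalizer (H : Set G)) → p ∉ π)) := by
  constructor
  · rintro ⟨X, hX⟩
    have hX' : ∀ x, x ∈ X ↔ IsPi π x := hX
    have hXn : X.Normal := ⟨fun x hx g => by
      rw [hX'] at hx ⊢
      exact hx.of_dvd (by rw [← MulAut.conj_apply, MulEquiv.orderOf_eq])⟩
    constructor
    · refine ⟨2, ![⊥, X, ⊤], rfl, rfl, ?_, ?_, ?_⟩
      · intro i j hij
        fin_cases i <;> fin_cases j <;> simp at hij ⊢
      · intro i
        fin_cases i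
        · exact (inferInstance : (⊥ : Subgroup G).Normal)
        · exact hXn
        · exact (inferInstance : (⊤ : Subgroup G).Normal)
      · intro i
        fin_cases i
        · left
          intro q hq hd
          have hd' : q ∣ Nat.card X := by
            have : (⊥ : Subgroup G).relIndex X = Nat.card X := Subgroup.relIndex_bot_left X
            rw [← this]; exact hd
          exact prime_mem_of_dvd_card (fun x : X => (isPi_coe_iff x).1 ((hX' x).1 x.2)) q hq hd'
        · right
          intro q hq hd hqπ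
          have hd' : q ∣ X.index := by
            have : X.relIndex ⊤ = X.index := Subgroup.relIndex_top_right X
            rw [← this]; exact hd
          refine not_dvd_card_map_of_kills (QuotientGroup.mk' X) (⊤ : Subgroup G) q hq ?_ ?_
          · rintro k - ⟨a, ha⟩
            have hk : IsPi π k := by
              intro r hr hrd
              rw [ha] at hrd
              have := (Nat.prime_dvd_prime_iff_eq hr hq).1 (hr.dvd_of_dvd_pow hrd)
              rw [this]; exact hqπ
            exact (QuotientGroup.eq_one_iff k).2 ((hX' k).2 hk)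
          · rw [← MonoidHom.range_eq_map, MonoidHom.range_eq_top.2 (QuotientGroup.mk'_surjective _),
              Subgroup.card_top, ← Subgroup.index_eq_card]
            exact hd'
    · apply hhom_of_pProp
      intro Q hQ hQpi y hyN hypi
      have hyX : y ∈ X := (hX' y).2 hypi
      rw [mem_centralizer_iff]
      intro h hh
      have hc1 : y * h * y⁻¹ * h⁻¹ ∈ X := by
        have h1 : h * y⁻¹ * h⁻¹ ∈ X := hXn.conj_mem _ (X.inv_mem hyX) h
        have h2 := X.mul_mem hyX h1
        simpa [mul_assoc] using h2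
      have hc2 : y * h * y⁻¹ * h⁻¹ ∈ Q :=
        Q.mul_mem ((mem_normalizer_iff.1 hyN h).1 hh) (Q.inv_mem hh)
      have hc : y * h * y⁻¹ * h⁻¹ = 1 := by
        apply eq_one_of_isPi_of_not ((hX' _).1 hc1)
        intro p hp hd
        exact hQpi p hp (hd.trans (Subgroup.orderOf_dvd_natCard Q hc2))
      have h3 := congrArg (fun z => z * h * y) hc
      simp only [mul_assoc, inv_mul_cancel, mul_one, one_mul] at h3
      exact h3.symm
  · rintro ⟨⟨n, H, h0, hlast, hmono, hnorm, hstep⟩, hhom⟩
    have hP : PProp G π := pProp_of_hhom π hhom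
    have key : ∀ i : Fin (n + 1), ∃ Y : Subgroup ↥(H i), ∀ x : ↥(H i), x ∈ Y ↔ IsPi π x := by
      intro i
      induction i using Fin.induction with
      | zero =>
        refine ⟨⊤, fun x => ⟨fun _ => ?_, fun _ => trivial⟩⟩
        have : x = 1 := by
          have h1 : (x : G) ∈ (⊥ : Subgroup G) := h0 ▸ x.2
          rw [Subgroup.mem_bot] at h1
          exact Subtype.ext h1
        rw [this]
        exact isPi_one π
      | succ i ih =>
        obtain ⟨Y, hY⟩ := ih
        have hle : H i.castSucc ≤ H i.succ := hmono (Fin.castSucc_lt_succ).le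
        have hK'n : ((H i.castSucc).subgroupOf (H i.succ)).Normal := (hnorm i.castSucc).subgroupOf _
        refine S4051.result (G := ↥(H i.succ)) π hπ
          (hhom_of_pProp π (pProp_subgroup π hP (H i.succ)))
          ((H i.castSucc).subgroupOf (H i.succ)) ?_ ?_
        · let e := Subgroup.subgroupOfEquivOfLe hle
          refine ⟨Y.comap e.toMonoidHom, fun x => ?_⟩
          rw [Subgroup.mem_comap]
          show e x ∈ Y ↔ _
          rw [hY]
          show IsPi π (e x) ↔ IsPi π x
          unfold IsPi
          rw [MulEquiv.orderOf_eq]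
        · have hcard : Nat.card (↥(H i.succ) ⧸ (H i.castSucc).subgroupOf (H i.succ)) =
              (H i.castSucc).relIndex (H i.succ) := by
            rw [Subgroup.relIndex, Subgroup.index_eq_card]
          rcases hstep i with h | h
          · refine ⟨⊤, fun x => ⟨fun _ => ?_, fun _ => trivial⟩⟩
            exact isPi_of_card (fun p hp hd => h p hp (by rwa [hcard] at hd)) x
          · refine ⟨⊥, fun x => ?_⟩
            rw [Subgroup.mem_bot]
            constructor
            · rintro rfl
              exact isPi_one π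
            · intro hx
              apply eq_one_of_isPi_of_not (π := π) hx
              intro p hp hd
              exact h p hp (by rw [← hcard]; exact hd.trans (orderOf_dvd_natCard x))
    obtain ⟨Y, hY⟩ := key (Fin.last n)
    refine ⟨Y.map (H (Fin.last n)).subtype, fun x => ?_⟩
    constructor
    · rintro ⟨y, hy, rfl⟩
      exact (isPi_coe_iff y).2 ((hY y).1 hy)
    · intro hx
      have hxm : x ∈ H (Fin.last n) := by rw [hlast]; trivial
      exact ⟨⟨x, hxm⟩, (hY _).2 ((isPi_coe_iff (⟨x, hxm⟩ : H (Fin.last n))).1 hx), rfl⟩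

end Cfsg.Agent.S4050
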