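import Cfsg.Statements.S4056
import Mathlib
import Cfsg.Agent.Lib.Helper47.Frat

set_option autoImplicit false
open Cfsg

namespace Cfsg.Agent.S4056

open scoped commutatorElement

theorem central_comm_pow_two {P : Type*} [Group P] (x y d : P) (hd : ∀ w : P, w * d = d * w)
    (h1 : y * x = d * (x * y)) : y * x ^ 2 = d ^ 2 * (x ^ 2 * y) := by
  calc y * x ^ 2 = (y * x) * x := by rw [pow_two, mul_assoc]
    _ = d * (x * y) * x := by rw [h1]
    _ = d * (x * (y * x)) := by simp only [mul_assoc]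
    _ = d * (x * (d * (x * y))) := by rw [h1]
    _ = d * ((x * d) * (x * y)) := by simp only [mul_assoc]
    _ = d * ((d * x) * (x * y)) := by rw [hd x]
    _ = d ^ 2 * (x ^ 2 * y) := by simp only [pow_two, mul_assoc]

/-- In a group where `d` is central and `y * x = d * (x * y)`, with `x^4 = y^4 = (xy)^4 = d^4 = 1`,
we get `d^2 = 1`. -/
theorem central_comm_sq {P : Type*} [Group P] (x y d : P) (hd : ∀ w : P, w * d = d * w)
    (h1 : y * x = d * (x * y)) (hx : x ^ 4 = 1) (hy : y ^ 4 = 1) (hxy : (x * y) ^ 4 = 1)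
    (hd4 : d ^ 4 = 1) : d ^ 2 = 1 := by
  have h2 : y * x ^ 2 = d ^ 2 * (x ^ 2 * y) := by
    calc y * x ^ 2 = (y * x) * x := by rw [pow_two, mul_assoc]
      _ = d * (x * y) * x := by rw [h1]
      _ = d * (x * (y * x)) := by simp only [mul_assoc]
      _ = d * (x * (d * (x * y))) := by rw [h1]
      _ = d * ((x * d) * (x * y)) := by simp only [mul_assoc]
      _ = d * ((d * x) * (x * y)) := by rw [hd x]
      _ = d ^ 2 * (x ^ 2 * y) := by simp only [pow_two, mul_assoc]
  have h3 : y ^ 2 * x ^ 2 = d ^ 4 * (x ^ 2 * y ^ 2) := by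
    calc y ^ 2 * x ^ 2 = y * (y * x ^ 2) := by rw [pow_two, mul_assoc]
      _ = y * (d ^ 2 * (x ^ 2 * y)) := by rw [h2]
      _ = (y * d ^ 2) * (x ^ 2 * y) := by simp only [mul_assoc]
      _ = (d ^ 2 * y) * (x ^ 2 * y) := by
          have : y * d ^ 2 = d ^ 2 * y := by
            rw [pow_two, ← mul_assoc, hd y, mul_assoc, hd y, ← mul_assoc]
          rw [this]
      _ = d ^ 2 * ((y * x ^ 2) * y) := by simp only [mul_assoc]
      _ = d ^ 2 * ((d ^ 2 * (x ^ 2 * y)) * y) := by rw [h2]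
      _ = d ^ 4 * (x ^ 2 * y ^ 2) := by
          have : (4 : ℕ) = 2 + 2 := rfl
          rw [this, pow_add]
          simp only [pow_two, mul_assoc]
  have h4 : (x * y) ^ 2 = d * (x ^ 2 * y ^ 2) := by
    calc (x * y) ^ 2 = x * (y * x) * y := by simp only [pow_two, mul_assoc]
      _ = x * (d * (x * y)) * y := by rw [h1]
      _ = (x * d) * (x * y) * y := by simp only [mul_assoc]
      _ = (d * x) * (x * y) * y := by rw [hd x]
      _ = d * (x ^ 2 * y ^ 2) := by simp only [pow_two, mul_assoc]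
  have h5 : (x * y) ^ 4 = d ^ 2 * (x ^ 4 * y ^ 4) := by
    have e4 : (4 : ℕ) = 2 * 2 := rfl
    have hxd : x ^ 2 * y ^ 2 * d = d * (x ^ 2 * y ^ 2) := hd _
    calc (x * y) ^ 4 = ((x * y) ^ 2) ^ 2 := by rw [e4, pow_mul]
      _ = (d * (x ^ 2 * y ^ 2)) * (d * (x ^ 2 * y ^ 2)) := by rw [h4, pow_two]
      _ = d * ((x ^ 2 * y ^ 2 * d) * (x ^ 2 * y ^ 2)) := by simp only [mul_assoc]
      _ = d * ((d * (x ^ 2 * y ^ 2)) * (x ^ 2 * y ^ 2)) := by rw [hxd]
      _ = d ^ 2 * (x ^ 2 * (y ^ 2 * x ^ 2) * y ^ 2) := by simp only [pow_two, mul_assoc]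
      _ = d ^ 2 * (x ^ 2 * (d ^ 4 * (x ^ 2 * y ^ 2)) * y ^ 2) := by rw [h3]
      _ = d ^ 2 * (x ^ 2 * (x ^ 2 * y ^ 2) * y ^ 2) := by rw [hd4, one_mul]
      _ = d ^ 2 * (x ^ 4 * y ^ 4) := by
          have : (4 : ℕ) = 2 + 2 := rfl
          rw [this, pow_add, pow_add]
          simp only [mul_assoc]
  rw [hxy, hx, hy, one_mul, mul_one] at h5
  exact h5.symm

theorem result {P : Type*} [Group P] [Finite P] (hP : IsPGroup 2 P)
    (hcl : Group.nilpotencyClass P ≤ 2) (hexp : Monoid.exponent P ∣ 4) :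
    frattini P ≤ Subgroup.center P ∧ Cfsg.IsElementaryAbelian 2 (frattini P) := by
  have hnil : Group.IsNilpotent P := hP.isNilpotent
  have hucs : Subgroup.upperCentralSeries P 2 = ⊤ :=
    Subgroup.upperCentralSeries_eq_top_iff_nilpotencyClass_le.2 hcl
  have hcomm_central : ∀ x y : P, ⁅x, y⁆ ∈ Subgroup.center P := by
    intro x y
    have hx : x ∈ Subgroup.upperCentralSeries P (1 + 1) := by
      show x ∈ Subgroup.upperCentralSeries P 2
      rw [hucs]; exact Subgroup.mem_top x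
    have := Subgroup.mem_upperCentralSeries_succ_iff.1 hx y
    rwa [Subgroup.upperCentralSeries_one] at this
  have hpow4 : ∀ g : P, g ^ 4 = 1 := Monoid.exponent_dvd_iff_forall_pow_eq_one.1 hexp
  -- squares are central
  have hsq : ∀ x : P, x ^ 2 ∈ Subgroup.center P := by
    intro x
    rw [Subgroup.mem_center_iff]
    intro y
    set d := ⁅y, x⁆ with hd
    have hdc : ∀ w : P, w * d = d * w := fun w => Subgroup.mem_center_iff.1 (hcomm_central y x) w
    have h1 : y * x = d * (x * y) := by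
      rw [hd, commutatorElement_def]; simp [mul_assoc]
    have hd2 : d ^ 2 = 1 :=
      central_comm_sq x y d hdc h1 (hpow4 x) (hpow4 y) (hpow4 (x * y)) (hpow4 d)
    have := central_comm_pow_two x y d hdc h1
    rw [hd2, one_mul] at this
    exact this
  set K : Subgroup P := Subgroup.closure {s : P | ∃ x : P, s = x ^ 2} with hK
  have hKcen : K ≤ Subgroup.center P := by
    rw [hK, Subgroup.closure_le]
    rintro s ⟨x, rfl⟩
    exact hsq x
  have hKn : K.Normal := by
    refine ⟨fun n hn g => ?_⟩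
    have := Subgroup.mem_center_iff.1 (hKcen hn) g
    have e : g * n * g⁻¹ = n := by rw [this]; simp
    rw [e]; exact hn
  set φ := QuotientGroup.mk' K with hφ
  have hφpow : ∀ x : P, φ x ^ 2 = 1 := by
    intro x
    rw [← map_pow, hφ, QuotientGroup.mk'_apply, QuotientGroup.eq_one_iff]
    exact Subgroup.subset_closure ⟨x, rfl⟩
  have hφcomm : ∀ x y : P, φ x * φ y = φ y * φ x := by
    intro x y
    have h1 := hφpow (x * y)
    have h2 := hφpow x
    have h3 := hφpow y
    rw [map_mul, pow_two] at h1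
    rw [pow_two] at h2 h3
    have hxi : (φ x)⁻¹ = φ x := inv_eq_of_mul_eq_one_left h2
    have hyi : (φ y)⁻¹ = φ y := inv_eq_of_mul_eq_one_left h3
    have h4 : (φ x * φ y)⁻¹ = φ x * φ y := inv_eq_of_mul_eq_one_left h1
    rw [mul_inv_rev, hxi, hyi] at h4
    exact h4.symm
  have hfr : frattini P ≤ K := by
    have : Fact (Nat.Prime 2) := ⟨Nat.prime_two⟩
    have := Cfsg.Agent.Helper47.frattini_le_ker_of_elementary (p := 2) φ hφcomm hφpow
    rwa [hφ, QuotientGroup.ker_mk'] at this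
  have hKsq : ∀ a ∈ K, a ^ 2 = 1 := by
    intro a ha
    induction ha using Subgroup.closure_induction with
    | mem s hs =>
      obtain ⟨x, rfl⟩ := hs
      rw [← pow_mul]; exact hpow4 x
    | one => simp
    | mul a b ha hb ha1 hb1 =>
      have hc : Commute a b := (Subgroup.mem_center_iff.1 (hKcen hb) a)
      rw [hc.mul_pow, ha1, hb1, one_mul]
    | inv a _ ha1 => rw [inv_pow, ha1, inv_one]
  refine ⟨hfr.trans hKcen, ⟨⟨fun a b => ?_⟩⟩, fun a ha => hKsq a (hfr ha)⟩
  apply Subtype.ext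
  have := Subgroup.mem_center_iff.1 (hKcen (hfr b.2)) (a : P)
  simpa using this

end Cfsg.Agent.S4056
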