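import Mathlib
import Cfsg.Statements.S4058
import Cfsg.Agent.Lib.Helper74.AFT3
import Cfsg.Agent.Lib.Helper2.PGroup

set_option autoImplicit false
open Cfsg

namespace Cfsg.Agent.S4058

open Cfsg.Agent.Helper74.FS Cfsg.Agent.Helper74.Lin Cfsg.Agent.Helper74.AFT

/-- A sum of an invariant function over a finite set acted on by a finite group is divisible by
`m` as soon as each orbit's contribution is. -/
theorem dvd_sum_of_orbit {Λ X : Type*} [Group Λ] [MulAction Λ X] [Fintype X]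
    (f : X → ℤ) (hf : ∀ (φ : Λ) (x : X), f (φ • x) = f x) (m : ℤ)
    (hm : ∀ x : X, m ∣ (Nat.card (MulAction.orbit Λ x) : ℤ) * f x) :
    m ∣ ∑ x : X, f x := by
  classical
  haveI : Fintype (MulAction.orbitRel.Quotient Λ X) := Fintype.ofFinite _
  rw [← Finset.sum_fiberwise Finset.univ
    (fun x => (Quotient.mk'' x : MulAction.orbitRel.Quotient Λ X)) f]
  apply Finset.dvd_sum
  intro ω _
  obtain ⟨x₀, rfl⟩ := Quotient.exists_rep ω
  have hmem : ∀ x : X, (Quotient.mk'' x : MulAction.orbitRel.Quotient Λ X) = Quotient.mk'' x₀ ↔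
      x ∈ MulAction.orbit Λ x₀ := by
    intro x
    rw [Quotient.eq'']
    exact MulAction.orbitRel_apply
  have h1 : ∀ x ∈ Finset.univ.filter
      (fun x => (Quotient.mk'' x : MulAction.orbitRel.Quotient Λ X) = Quotient.mk'' x₀),
      f x = f x₀ := by
    intro x hx
    rw [Finset.mem_filter] at hx
    obtain ⟨φ, rfl⟩ := (hmem x).1 hx.2
    exact hf φ x₀
  have h2 : (Finset.univ.filter
      (fun x => (Quotient.mk'' x : MulAction.orbitRel.Quotient Λ X) = Quotient.mk'' x₀)).card =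
      Nat.card (MulAction.orbit Λ x₀) := by
    rw [← Nat.card_eq_finsetCard]
    apply Nat.card_congr
    exact Equiv.subtypeEquivRight (fun x => by
      rw [Finset.mem_filter]
      simp only [Finset.mem_univ, true_and]
      exact hmem x)
  show m ∣ ∑ x ∈ Finset.univ.filter
      (fun x => (Quotient.mk'' x : MulAction.orbitRel.Quotient Λ X) = ⟦x₀⟧), f x
  have h3 : (⟦x₀⟧ : MulAction.orbitRel.Quotient Λ X) = Quotient.mk'' x₀ := rfl
  rw [h3, Finset.sum_congr rfl h1, Finset.sum_const, nsmul_eq_mul, h2]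
  exact hm x₀


universe u

section
variable {G : Type u} [Group G]

theorem nu_smul [Fintype G] (φ : G →* ℂˣ) (hφ : φ ^ 2 = 1) (χ : IrrCharacter G) :
    nu (φ • χ) = nu χ := by
  unfold nu
  congr 1
  refine Finset.sum_congr rfl fun s _ => ?_
  rw [Cfsg.Agent.Helper74.Lin.smul_apply]
  have h1 : φ (s * s) = 1 := by
    have := congrArg (fun ψ : G →* ℂˣ => ψ s) hφ
    simpa [MonoidHom.pow_apply, pow_two] using this
  rw [h1]
  simp

theorem sgn_smul [Fintype G] (φ : G →* ℂˣ) (hφ : φ ^ 2 = 1) (χ : IrrCharacter G) :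
    sgn (φ • χ) = sgn χ := by
  unfold sgn
  rw [nu_smul φ hφ χ]

/-- the group of linear characters of order at most two -/
noncomputable def L2 (G : Type u) [Group G] : Subgroup (G →* ℂˣ) :=
  (powMonoidHom 2 : (G →* ℂˣ) →* (G →* ℂˣ)).ker

theorem mem_L2 (φ : G →* ℂˣ) : φ ∈ L2 G ↔ φ ^ 2 = 1 := by
  rw [L2, MonoidHom.mem_ker, powMonoidHom_apply]

theorem isPGroup_L2 : IsPGroup 2 (L2 G) := by
  intro φ
  refine ⟨1, ?_⟩
  apply Subtype.ext
  rw [pow_one]
  exact (mem_L2 φ.1).1 φ.2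

theorem card_quot_le [Finite G] (hG : IsPGroup 2 G) :
    Nat.card (G ⧸ frattini G) ≤ Nat.card (L2 G) := by
  have : Fact (Nat.Prime 2) := ⟨Nat.prime_two⟩
  have hsq : ∀ q : G ⧸ frattini G, q ^ 2 = 1 := by
    intro q
    obtain ⟨g, rfl⟩ := QuotientGroup.mk_surjective q
    rw [← QuotientGroup.mk_pow, QuotientGroup.eq_one_iff]
    exact Cfsg.Agent.Helper2.pow_mem_frattini hG g
  have hinv : ∀ q : G ⧸ frattini G, q⁻¹ = q := by
    intro q
    have := hsq q
    rw [pow_two] at this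
    exact (eq_inv_of_mul_eq_one_left this).symm
  have hcomm : ∀ a b : G ⧸ frattini G, a * b = b * a := by
    intro a b
    calc a * b = (a * b)⁻¹ := (hinv _).symm
      _ = b⁻¹ * a⁻¹ := mul_inv_rev a b
      _ = b * a := by rw [hinv a, hinv b]
  have hbot : commutator (G ⧸ frattini G) = ⊥ := by
    rw [commutator_def, Subgroup.commutator_eq_bot_iff_le_centralizer]
    intro a _
    rw [Subgroup.mem_centralizer_iff]
    intro b _
    exact hcomm b a
  have hcard : Nat.card ((G ⧸ frattini G) →* ℂˣ) = Nat.card (G ⧸ frattini G) := by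
    rw [card_hom, hbot, Subgroup.index_bot]
  rw [← hcard]
  let ι : ((G ⧸ frattini G) →* ℂˣ) → L2 G := fun ψ =>
    ⟨ψ.comp (QuotientGroup.mk' (frattini G)), by
      rw [mem_L2]
      ext g
      rw [MonoidHom.pow_apply, MonoidHom.comp_apply, ← map_pow, hsq, map_one,
        MonoidHom.one_apply]⟩
  have hι : Function.Injective ι := by
    intro ψ₁ ψ₂ h
    have h1 : ψ₁.comp (QuotientGroup.mk' (frattini G)) =
        ψ₂.comp (QuotientGroup.mk' (frattini G)) := congrArg Subtype.val h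
    exact (MonoidHom.cancel_right (QuotientGroup.mk'_surjective _)).1 h1
  exact Nat.card_le_card_of_injective ι hι

end


theorem orbit_term_dvd {G : Type u} [Group G] [Fintype G] (hG : IsPGroup 2 G) (k e : ℕ)
    (he : Nat.card (L2 G) = 2 ^ e) (hek : 2 * k + 1 ≤ e) (χ : IrrCharacter G) :
    (2 ^ (k + 1) : ℤ) ∣ (Nat.card (MulAction.orbit (L2 G) χ) : ℤ) *
      (sgn χ * (charDegree (χ : G → ℂ) : ℤ)) := by
  classical
  haveI : Finite G := Finite.of_fintype G
  have : Fact (Nat.Prime 2) := ⟨Nat.prime_two⟩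
  obtain ⟨N, hN⟩ := IsPGroup.iff_card.1 hG
  have hdvd := Cfsg.Agent.Helper79.irr_degree_dvd_card χ
  rw [hN] at hdvd
  obtain ⟨a, _, ha⟩ := (Nat.dvd_prime_pow Nat.prime_two).1 hdvd
  -- orbit-stabilizer
  have hos : Nat.card (MulAction.orbit (L2 G) χ) * Nat.card (MulAction.stabilizer (L2 G) χ) =
      2 ^ e := by
    rw [← Nat.card_prod, Nat.card_congr (MulAction.orbitProdStabilizerEquivGroup (L2 G) χ), he]
  have hstabdvd : Nat.card (MulAction.stabilizer (L2 G) χ) ∣ 2 ^ e := ⟨_, by rw [← hos, mul_comm]⟩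
  obtain ⟨s, hse, hs⟩ := (Nat.dvd_prime_pow Nat.prime_two).1 hstabdvd
  have horbdvd : Nat.card (MulAction.orbit (L2 G) χ) ∣ 2 ^ e := ⟨_, hos.symm⟩
  obtain ⟨t, hte, ht⟩ := (Nat.dvd_prime_pow Nat.prime_two).1 horbdvd
  have hts : t + s = e := by
    rw [ht, hs, ← pow_add] at hos
    exact Nat.pow_right_injective (le_refl 2) hos
  -- the stabilizer bound
  have hs2a : s ≤ 2 * a := by
    haveI : Fintype (MulAction.stabilizer (L2 G) χ) := Fintype.ofFinite _
    let L : Finset (G →* ℂˣ) :=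
      Finset.univ.image (fun σ : MulAction.stabilizer (L2 G) χ => ((σ : L2 G) : G →* ℂˣ))
    have hLcard : L.card = 2 ^ s := by
      rw [Finset.card_image_of_injective _
        (fun σ₁ σ₂ h => Subtype.ext (Subtype.ext h)), Finset.card_univ,
        ← Nat.card_eq_fintype_card, hs]
    have hL : ∀ φ ∈ L, φ • χ = χ := by
      intro φ hφ
      obtain ⟨σ, -, rfl⟩ := Finset.mem_image.1 hφ
      exact σ.2
    have h1 := card_stabilizer_le χ L hL
    rw [hLcard, ha, ← pow_mul] at h1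
    have h2 := (Nat.pow_le_pow_iff_right (le_refl 2)).1 h1
    omega
  have hnat : 2 ^ (k + 1) ∣ Nat.card (MulAction.orbit (L2 G) χ) * charDegree (χ : G → ℂ) := by
    rw [ht, ha, ← pow_add]
    apply pow_dvd_pow
    omega
  have hint : ((2 ^ (k + 1) : ℕ) : ℤ) ∣
      ((Nat.card (MulAction.orbit (L2 G) χ) * charDegree (χ : G → ℂ) : ℕ) : ℤ) :=
    Int.natCast_dvd_natCast.2 hnat
  have e1 : (Nat.card (MulAction.orbit (L2 G) χ) : ℤ) *
      (sgn χ * (charDegree (χ : G → ℂ) : ℤ)) =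
      sgn χ * ((Nat.card (MulAction.orbit (L2 G) χ) * charDegree (χ : G → ℂ) : ℕ) : ℤ) := by
    push_cast; ring
  rw [e1]
  have e2 : ((2 ^ (k + 1) : ℕ) : ℤ) = (2 ^ (k + 1) : ℤ) := by push_cast; rfl
  rw [← e2]
  exact Dvd.dvd.mul_left hint _

theorem result {G : Type*} [Group G] [Finite G] (hG : IsPGroup 2 G) (k : ℕ)
    (hgen : 2 ^ (2 * k + 1) ≤ Nat.card (G ⧸ frattini G)) :
    2 ^ (k + 1) ∣ Nat.card {x : G // x ^ 2 = 1} := by
  classical
  haveI : Fintype G := Fintype.ofFinite G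
  haveI : Fintype (IrrCharacter G) := Fintype.ofFinite _
  have : Fact (Nat.Prime 2) := ⟨Nat.prime_two⟩
  -- the order of `L2 G`
  obtain ⟨e, he⟩ := IsPGroup.iff_card.1 (isPGroup_L2 (G := G))
  have hek : 2 * k + 1 ≤ e := by
    have h1 := hgen.trans (card_quot_le hG)
    rw [he] at h1
    exact (Nat.pow_le_pow_iff_right (le_refl 2)).1 h1
  -- the count
  have hcount : (Nat.card {x : G // x ^ 2 = 1} : ℤ) =
      ∑ χ : IrrCharacter G, sgn χ * (charDegree (χ : G → ℂ) : ℤ) := by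
    rw [← card_sq_eq_one]
    congr 1
    apply Nat.card_congr
    exact Equiv.subtypeEquivRight (fun x => by rw [pow_two])
  have hdvd : (2 ^ (k + 1) : ℤ) ∣ ∑ χ : IrrCharacter G, sgn χ * (charDegree (χ : G → ℂ) : ℤ) := by
    apply dvd_sum_of_orbit (Λ := L2 G) (fun χ : IrrCharacter G =>
      sgn χ * (charDegree (χ : G → ℂ) : ℤ))
    · intro φ χ
      have hφ : (φ : G →* ℂˣ) ^ 2 = 1 := (mem_L2 φ.1).1 φ.2
      show sgn ((φ : G →* ℂˣ) • χ) * (charDegree (((φ : G →* ℂˣ) • χ : IrrCharacter G) : G → ℂ) : ℤ)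
        = sgn χ * (charDegree (χ : G → ℂ) : ℤ)
      rw [sgn_smul _ hφ, charDegree_smul]
    · intro χ
      exact orbit_term_dvd hG k e he hek χ
  rw [← hcount] at hdvd
  have e2 : ((2 ^ (k + 1) : ℕ) : ℤ) = (2 ^ (k + 1) : ℤ) := by push_cast; rfl
  rw [← e2] at hdvd
  exact Int.natCast_dvd_natCast.1 hdvd

end Cfsg.Agent.S4058
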