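import Cfsg.Statements.S4059
import Mathlib
import Cfsg.Agent.Lib.Helper67.Basic

set_option autoImplicit false
open Cfsg

namespace Cfsg.Agent.S4059

open Cfsg.Agent.Helper67
open scoped commutatorElement

theorem part1 {G : Type*} [Group G] [Finite G] (hamb : ∀ x : G, IsConj x x⁻¹)
    (S : Sylow 2 G) (x : G) (hx : x ∈ Subgroup.centralizer ((S : Subgroup G) : Set G))
    (hx1 : x ≠ 1) : orderOf x = 2 := by
  obtain ⟨g, hg⟩ := isConj_iff.1 (hamb x)
  -- use g⁻¹ in the Sylow lemma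
  have hy : (g⁻¹)⁻¹ * x * g⁻¹ ∈ Subgroup.centralizer ((S : Subgroup G) : Set G) := by
    rw [inv_inv, hg]
    exact inv_mem hx
  obtain ⟨n, hn, hnx⟩ := S.conj_eq_normalizer_conj_of_mem_centralizer x g⁻¹ hx hy
  rw [inv_inv, hg] at hnx
  -- n⁻¹ inverts x
  have hinv : n⁻¹ * x * (n⁻¹)⁻¹ = x⁻¹ := by rw [inv_inv]; exact hnx.symm
  obtain ⟨t, ht, hk, htx⟩ := exists_two_elt_inverting hinv
  have htN : t ∈ Subgroup.normalizer ((S : Subgroup G) : Set G) := by
    have : Subgroup.zpowers n⁻¹ ≤ Subgroup.normalizer ((S : Subgroup G) : Set G) := by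
      rw [Subgroup.zpowers_le]; exact inv_mem hn
    exact this ht
  have htS : t ∈ S := mem_sylow_of_mem_normalizer S htN hk
  have hcomm : t * x = x * t := (Subgroup.mem_centralizer_iff.1 hx t htS)
  have hxx : x = x⁻¹ := by
    rw [← htx, hcomm]; simp
  have hx2 : x ^ 2 = 1 := by
    rw [pow_two]
    nth_rewrite 2 [hxx]
    simp
  exact orderOf_eq_prime hx2 hx1

theorem part4 {G : Type*} [Group G] [Finite G] (hamb : ∀ x : G, IsConj x x⁻¹) :
    Subgroup.closure {x : G | ∃ k : ℕ, orderOf x = 2 ^ k} = ⊤ := by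
  rw [eq_top_iff]
  intro x _
  set T := Subgroup.closure {x : G | ∃ k : ℕ, orderOf x = 2 ^ k} with hT
  obtain ⟨k, b, hb, hkb⟩ := Nat.exists_eq_two_pow_mul_odd (orderOf_pos x).ne'
  have hb0 : b ≠ 0 := by
    rintro rfl
    simp at hb
  have hk0 : 2 ^ k ≠ 0 := by positivity
  -- x^b is a 2-element
  have h1 : x ^ b ∈ T := by
    apply Subgroup.subset_closure
    refine ⟨k, ?_⟩
    rw [orderOf_pow_of_dvd hb0 (hkb ▸ Dvd.intro_left _ rfl), hkb]
    exact Nat.mul_div_cancel _ (Nat.pos_of_ne_zero hb0)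
  -- y = x^(2^k) has odd order b
  set y := x ^ (2 ^ k) with hy
  have hyo : orderOf y = b := by
    rw [hy, orderOf_pow_of_dvd hk0 (hkb ▸ Dvd.intro _ rfl), hkb]
    exact Nat.mul_div_cancel_left _ (Nat.pos_of_ne_zero hk0)
  have h2 : y ∈ T := by
    obtain ⟨g, hg⟩ := isConj_iff.1 (hamb y)
    obtain ⟨t, -, ⟨j, hj⟩, hty⟩ := exists_two_elt_inverting hg
    have ht : t ∈ T := Subgroup.subset_closure ⟨j, hj⟩
    have ht' : y * t⁻¹ * y⁻¹ ∈ T := by
      apply Subgroup.subset_closure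
      refine ⟨j, ?_⟩
      have := (MulAut.conj y).orderOf_eq t⁻¹
      rw [MulAut.conj_apply, orderOf_inv] at this
      rw [this, hj]
    have hsq : (y ^ 2)⁻¹ ∈ T := by
      have : (y ^ 2)⁻¹ = t * (y * t⁻¹ * y⁻¹) := by
        have e1 : t * y * t⁻¹ = y⁻¹ := hty
        calc (y ^ 2)⁻¹ = y⁻¹ * y⁻¹ := by rw [pow_two, mul_inv_rev]
          _ = t * y * t⁻¹ * y⁻¹ := by rw [e1]
          _ = t * (y * t⁻¹ * y⁻¹) := by simp [mul_assoc]
      rw [this]
      exact mul_mem ht ht'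
    have hsq' : y ^ 2 ∈ T := by
      have := inv_mem hsq
      simpa using this
    obtain ⟨m, hm⟩ := hb
    have : y = (y ^ 2) ^ (m + 1) := by
      rw [← pow_mul]
      have : 2 * (m + 1) = b + 1 := by omega
      rw [this, pow_succ, ← hyo, pow_orderOf_eq_one, one_mul]
    rw [this]
    exact pow_mem hsq' _
  -- Bezout
  have hcop : Nat.Coprime (2 ^ k) b := by
    apply Nat.Coprime.pow_left
    exact Nat.coprime_two_left.2 hb
  have hbez := Nat.gcd_eq_gcd_ab (2 ^ k) b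
  rw [hcop.gcd_eq_one] at hbez
  have : x = (x ^ (2 ^ k)) ^ (Nat.gcdA (2 ^ k) b) * (x ^ b) ^ (Nat.gcdB (2 ^ k) b) := by
    rw [← zpow_natCast x (2 ^ k), ← zpow_natCast x b, ← zpow_mul, ← zpow_mul, ← zpow_add]
    have : ((2 ^ k : ℕ) : ℤ) * Nat.gcdA (2 ^ k) b + (b : ℤ) * Nat.gcdB (2 ^ k) b = 1 := by
      rw [← hbez]; simp
    rw [this, zpow_one]
  rw [this]
  exact mul_mem (zpow_mem h2 _) (zpow_mem h1 _)

theorem result {G : Type*} [Group G] [Finite G] (hamb : ∀ x : G, IsConj x x⁻¹) :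
    (∀ (S : Sylow 2 G) (x : G), x ∈ Subgroup.centralizer ((S : Subgroup G) : Set G) → x ≠ 1 → orderOf x = 2) ∧
    (∀ z : G, z ∈ Subgroup.center G → z ^ 2 = 1) ∧
    (∀ x : G, x ^ 2 ∈ commutator G) ∧
    Subgroup.closure {x : G | ∃ k : ℕ, orderOf x = 2 ^ k} = ⊤ := by
  refine ⟨fun S x hx hx1 => part1 hamb S x hx hx1, ?_, ?_, part4 hamb⟩
  · intro z hz
    obtain ⟨g, hg⟩ := isConj_iff.1 (hamb z)
    have hc : g * z = z * g := (Subgroup.mem_center_iff.1 hz g)
    have : z = z⁻¹ := by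
      rw [← hg, hc]; simp
    rw [pow_two]
    nth_rewrite 2 [this]
    simp
  · intro x
    obtain ⟨g, hg⟩ := isConj_iff.1 (hamb x)
    have hx : x = g * x⁻¹ * g⁻¹ := by
      calc x = (x⁻¹)⁻¹ := (inv_inv x).symm
        _ = (g * x * g⁻¹)⁻¹ := by rw [hg]
        _ = g * x⁻¹ * g⁻¹ := by simp [mul_assoc]
    have : x ^ 2 = ⁅x, g⁆ := by
      rw [commutatorElement_def, pow_two]
      nth_rewrite 2 [hx]
      simp [mul_assoc]
    rw [this, commutator_def]
    exact Subgroup.commutator_mem_commutator (Subgroup.mem_top x) (Subgroup.mem_top g)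

end Cfsg.Agent.S4059
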