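import Cfsg.Statements.S4060
import Mathlib
import Cfsg.Agent.Lib.Helper67.Basic

set_option autoImplicit false
open Cfsg

namespace Cfsg.Agent.S4060

open Cfsg.Agent.Helper67
open scoped commutatorElement

universe u

/-- A nontrivial solvable group has a nontrivial abelian normal subgroup. -/
theorem exists_normal_abelian (G : Type*) [Group G] [Group.IsSolvable G] [Nontrivial G] :
    ∃ D : Subgroup G, D.Normal ∧ D ≠ ⊥ ∧ ⁅D, D⁆ = ⊥ := by
  classical
  have hs : ∃ n : ℕ, derivedSeries G n = ⊥ := Group.IsSolvable.solvable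
  have h0 : Nat.find hs ≠ 0 := by
    intro h
    have := Nat.find_spec hs
    rw [h, derivedSeries_zero] at this
    exact top_ne_bot this
  obtain ⟨k, hk⟩ := Nat.exists_eq_succ_of_ne_zero h0
  refine ⟨derivedSeries G k, derivedSeries_normal G k, ?_, ?_⟩
  · exact Nat.find_min hs (by omega)
  · have := Nat.find_spec hs
    rw [hk, derivedSeries_succ] at this
    exact this

/-- An element centralizing a Sylow `2`-subgroup and inverted by some element is an involution
or trivial. -/
theorem sq_eq_one_of_centralizes_sylow {G : Type*} [Group G] [Finite G] (S : Sylow 2 G) (x g : G)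
    (hx : x ∈ Subgroup.centralizer ((S : Subgroup G) : Set G)) (hg : g * x * g⁻¹ = x⁻¹) :
    x ^ 2 = 1 := by
  have hy : (g⁻¹)⁻¹ * x * g⁻¹ ∈ Subgroup.centralizer ((S : Subgroup G) : Set G) := by
    rw [inv_inv, hg]
    exact inv_mem hx
  obtain ⟨n, hn, hnx⟩ := S.conj_eq_normalizer_conj_of_mem_centralizer x g⁻¹ hx hy
  rw [inv_inv, hg] at hnx
  have hinv : n⁻¹ * x * (n⁻¹)⁻¹ = x⁻¹ := by rw [inv_inv]; exact hnx.symm
  obtain ⟨t, ht, hk, htx⟩ := exists_two_elt_inverting hinv
  have htN : t ∈ Subgroup.normalizer ((S : Subgroup G) : Set G) := by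
    have : Subgroup.zpowers n⁻¹ ≤ Subgroup.normalizer ((S : Subgroup G) : Set G) := by
      rw [Subgroup.zpowers_le]; exact inv_mem hn
    exact this ht
  have htS : t ∈ S := mem_sylow_of_mem_normalizer S htN hk
  have hcomm : t * x = x * t := (Subgroup.mem_centralizer_iff.1 hx t htS)
  have hxx : x = x⁻¹ := by
    rw [← htx, hcomm]; simp
  rw [pow_two]
  nth_rewrite 2 [hxx]
  simp

theorem main : ∀ n : ℕ, ∀ (G : Type u) [Group G] [Finite G] [Group.IsSolvable G],
    Nat.card G = n → ∀ (S : Sylow 2 G) (x : G), x ≠ 1 → Odd (orderOf x) →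
      x ∈ Subgroup.normalizer ((S : Subgroup G) : Set G) → ∀ g : G, g * x * g⁻¹ = x⁻¹ → False := by
  intro n
  induction n using Nat.strong_induction_on with
  | _ n ih =>
    intro G _ _ _ hn S x hx hodd hnorm g hg
    have hnt : Nontrivial G := ⟨⟨x, 1, hx⟩⟩
    obtain ⟨M, hMn, hMne, hMab⟩ := exists_normal_abelian G
    have hMcomm : ∀ a ∈ M, ∀ b ∈ M, a * b = b * a := by
      intro a ha b hb
      have : ⁅a, b⁆ ∈ ⁅M, M⁆ := Subgroup.commutator_mem_commutator ha hb
      rw [hMab, Subgroup.mem_bot, commutatorElement_eq_one_iff_mul_comm] at this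
      exact this
    by_cases hxM : x ∈ M
    · -- x centralizes S
      have hcen : x ∈ Subgroup.centralizer ((S : Subgroup G) : Set G) := by
        rw [Subgroup.mem_centralizer_iff]
        intro s hs
        set w := s * x⁻¹ * s⁻¹ with hw
        have hwM : w ∈ M := hMn.conj_mem _ (inv_mem hxM) s
        set c := x * w with hc
        have hcS : c ∈ (S : Subgroup G) := by
          have h1 : x * s * x⁻¹ ∈ (S : Subgroup G) :=
            (Subgroup.mem_normalizer_iff.1 hnorm s).1 hs
          have : c = x * s * x⁻¹ * s⁻¹ := by rw [hc, hw]; simp [mul_assoc]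
          rw [this]
          exact mul_mem h1 (inv_mem hs)
        have hcpow : c ^ orderOf x = 1 := by
          have hcomm : Commute x w := hMcomm x hxM w hwM
          rw [hc, hcomm.mul_pow, pow_orderOf_eq_one, one_mul, hw]
          have e1 := map_pow (MulAut.conj s) x⁻¹ (orderOf x)
          simp only [MulAut.conj_apply] at e1
          rw [← e1, inv_pow, pow_orderOf_eq_one]; simp
        obtain ⟨j, hj⟩ := (IsPGroup.iff_orderOf.1 S.isPGroup') ⟨c, hcS⟩
        rw [← Subgroup.orderOf_coe] at hj
        simp only at hj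
        have hd : orderOf c ∣ orderOf x := orderOf_dvd_of_pow_eq_one hcpow
        have hc1 : c = 1 := by
          rcases Nat.eq_zero_or_pos j with h0 | h0
          · rw [h0, pow_zero] at hj; exact orderOf_eq_one_iff.1 hj
          · exfalso
            have h2 : 2 ∣ orderOf x := by
              rw [hj] at hd
              exact (dvd_pow_self 2 h0.ne').trans hd
            exact (Nat.not_even_iff_odd.2 hodd) (even_iff_two_dvd.2 h2)
        -- c = x s x⁻¹ s⁻¹ = 1 → x s = s x
        have : x * (s * x⁻¹ * s⁻¹) = 1 := hc1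
        have h3 : s * x = x * s := by
          have h4 := congrArg (fun z => z * s * x) this
          simpa [mul_assoc] using h4.symm
        exact h3
      have hx2 := sq_eq_one_of_centralizes_sylow S x g hcen hg
      have hd : orderOf x ∣ 2 := orderOf_dvd_of_pow_eq_one hx2
      have : orderOf x = 1 := by
        rcases (Nat.dvd_prime Nat.prime_two).1 hd with h1 | h2
        · exact h1
        · rw [h2] at hodd; exact absurd hodd (by decide)
      exact hx (orderOf_eq_one_iff.1 this)
    · -- pass to the quotient
      have hcard : Nat.card (G ⧸ M) < n := by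
        have h1 := Subgroup.card_eq_card_quotient_mul_card_subgroup M
        have h2 : 1 < Nat.card M := by
          rw [Subgroup.one_lt_card_iff_ne_bot]; exact hMne
        have h3 : 0 < Nat.card (G ⧸ M) := Nat.card_pos
        rw [← hn, h1]
        nlinarith
      set f := QuotientGroup.mk' M with hf
      have hfs : Function.Surjective f := QuotientGroup.mk'_surjective M
      set S' : Sylow 2 (G ⧸ M) := S.mapSurjective hfs with hS'
      have hx' : f x ≠ 1 := by
        intro h
        exact hxM ((QuotientGroup.eq_one_iff x).1 h)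
      have hodd' : Odd (orderOf (f x)) := Odd.of_dvd_nat hodd (orderOf_map_dvd f x)
      have hnorm' : f x ∈ Subgroup.normalizer ((S' : Subgroup (G ⧸ M)) : Set (G ⧸ M)) := by
        rw [hS', Sylow.coe_mapSurjective]
        exact Subgroup.le_normalizer_map f ⟨x, hnorm, rfl⟩
      have hg' : f g * f x * (f g)⁻¹ = (f x)⁻¹ := by
        rw [← map_inv, ← map_mul, ← map_mul, hg, map_inv]
      exact ih _ hcard (G ⧸ M) rfl S' (f x) hx' hodd' hnorm' (f g) hg'

/-- Let G be a finite solvable group with Sylow 2-subgroup S, and let x ≠ 1 be an element of odd order normalizing S. Then x is not conjugate to its inverse in G. -/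
theorem result {G : Type*} [Group G] [Finite G] [Group.IsSolvable G]
    (S : Sylow 2 G) (x : G) (hx : x ≠ 1) (hodd : Odd (orderOf x))
    (hnorm : x ∈ Subgroup.normalizer ((S : Subgroup G) : Set G)) : ¬ IsConj x x⁻¹ := by
  intro hconj
  obtain ⟨g, hg⟩ := isConj_iff.1 hconj
  exact main _ G rfl S x hx hodd hnorm g hg

end Cfsg.Agent.S4060
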