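import Mathlib
import Cfsg.Statements.S4061
import Cfsg.Agent.Lib.Helper53.UniqueInvol4
import Cfsg.Agent.Lib.Helper30.Cores

set_option autoImplicit false
open Cfsg

namespace Cfsg.Agent.S4061

open Subgroup

universe u

/-- odd powers of an inverting element invert -/
theorem conj_pow_odd {G : Type*} [Group G] {c x : G} (h : c * x * c⁻¹ = x⁻¹) (k : ℕ) :
    c ^ (2 * k + 1) * x * (c ^ (2 * k + 1))⁻¹ = x⁻¹ := by
  have h2 : c ^ 2 * x * (c ^ 2)⁻¹ = x := by
    calc c ^ 2 * x * (c ^ 2)⁻¹ = c * (c * x * c⁻¹) * c⁻¹ := by rw [pow_two]; group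
      _ = c * x⁻¹ * c⁻¹ := by rw [h]
      _ = (c * x * c⁻¹)⁻¹ := by group
      _ = x := by rw [h, inv_inv]
  induction k with
  | zero => simpa using h
  | succ k ih =>
    calc c ^ (2 * (k + 1) + 1) * x * (c ^ (2 * (k + 1) + 1))⁻¹
        = c ^ 2 * (c ^ (2 * k + 1) * x * (c ^ (2 * k + 1))⁻¹) * (c ^ 2)⁻¹ := by
          rw [show 2 * (k + 1) + 1 = 2 + (2 * k + 1) by ring, pow_add]; group
      _ = c ^ 2 * x⁻¹ * (c ^ 2)⁻¹ := by rw [ih]
      _ = (c ^ 2 * x * (c ^ 2)⁻¹)⁻¹ := by group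
      _ = x⁻¹ := by rw [h2]

/-- an inverting element can be replaced by a `2`-element -/
theorem exists_two_elt_inverting {G : Type*} [Group G] [Finite G] {c x : G}
    (h : c * x * c⁻¹ = x⁻¹) : ∃ (g : G) (i : ℕ), orderOf g = 2 ^ i ∧ g * x * g⁻¹ = x⁻¹ := by
  have hpos : orderOf c ≠ 0 := (orderOf_pos c).ne'
  obtain ⟨i, r, hr, he⟩ := Nat.exists_eq_pow_mul_and_not_dvd hpos 2 (by norm_num)
  have hodd : Odd r := by
    rcases Nat.even_or_odd r with h' | h'
    · exact absurd (even_iff_two_dvd.1 h') hr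
    · exact h'
  obtain ⟨k, rfl⟩ := hodd
  refine ⟨c ^ (2 * k + 1), i, ?_, conj_pow_odd h k⟩
  have h1 : orderOf (c ^ (2 * k + 1)) = orderOf c / (2 * k + 1) :=
    orderOf_pow_of_dvd (by omega) (by rw [he]; exact dvd_mul_left _ _)
  rw [h1, he, Nat.mul_div_cancel _ (by omega)]

/-- an element of odd order killed by a power of two is trivial -/
theorem eq_one_of_odd_of_two_pow {G : Type*} [Group G] {x : G} {m : ℕ} (hm : Odd m)
    (h1 : x ^ m = 1) (k : ℕ) (h2 : x ^ (2 ^ k) = 1) : x = 1 := by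
  have d1 : orderOf x ∣ m := orderOf_dvd_of_pow_eq_one h1
  have d2 : orderOf x ∣ 2 ^ k := orderOf_dvd_of_pow_eq_one h2
  have hc : Nat.Coprime m (2 ^ k) := Nat.Coprime.pow_right k (Nat.coprime_two_right.2 hm)
  have : orderOf x = 1 := Nat.eq_one_of_dvd_coprimes hc d1 d2
  exact orderOf_eq_one_iff.1 this

/-- an involution of `G ⧸ N`, `N` of odd order, lifts to an involution. -/
theorem exists_invol_lift {G : Type*} [Group G] [Finite G] (N : Subgroup G) [N.Normal]
    (hN : Odd (Nat.card N)) (q : G ⧸ N) (hq : orderOf q = 2) :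
    ∃ a : G, orderOf a = 2 ∧ (a : G ⧸ N) = q := by
  have : Fact (Nat.Prime 2) := ⟨Nat.prime_two⟩
  obtain ⟨b, rfl⟩ := QuotientGroup.mk_surjective q
  obtain ⟨hq2, hq1⟩ := (orderOf_eq_prime_iff (p := 2)).1 hq
  obtain ⟨m, hm⟩ := hN
  have hb2 : b ^ 2 ∈ N := by
    rw [← QuotientGroup.eq_one_iff, QuotientGroup.mk_pow]; exact hq2
  have himg : ((b ^ Nat.card N : G) : G ⧸ N) = (b : G ⧸ N) := by
    rw [QuotientGroup.mk_pow, hm, pow_succ, pow_mul, hq2, one_pow, one_mul]
  refine ⟨b ^ Nat.card N, ?_, himg⟩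
  rw [orderOf_eq_prime_iff]
  constructor
  · rw [← pow_mul, mul_comm, pow_mul]
    have := pow_card_eq_one' (G := N) (x := ⟨b ^ 2, hb2⟩)
    exact congrArg Subtype.val this
  · intro h1
    apply hq1
    rw [← himg, h1, QuotientGroup.mk_one]


/-- a `2`-element normalizing a nontrivial subgroup of exponent two centralizes a non-identity
element of it -/
theorem exists_fixed_of_two_element {G : Type*} [Group G] [Finite G] (W : Subgroup G)
    (hW : W ≠ ⊥) (hW2 : ∀ w ∈ W, w ^ 2 = 1) (y : G) (j : ℕ) (hy : y ^ (2 ^ j) = 1)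
    (hyW : ∀ w ∈ W, y * w * y⁻¹ ∈ W) : ∃ v ∈ W, v ≠ 1 ∧ y * v = v * y := by
  classical
  haveI : Fact (Nat.Prime 2) := ⟨Nat.prime_two⟩
  haveI : Fintype W := Fintype.ofFinite W
  let f : Function.End W := fun w => ⟨y * w * y⁻¹, hyW w w.2⟩
  have hfpow : ∀ n : ℕ, ∀ w : W, ((f ^ n) w : G) = y ^ n * w * (y ^ n)⁻¹ := by
    intro n
    induction n with
    | zero =>
      intro w
      have h0 : (f ^ 0) w = w := by rw [pow_zero]; rfl
      rw [h0]; simp
    | succ n ih =>
      intro w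
      have h1 : (f ^ (n + 1)) w = f ((f ^ n) w) := by rw [pow_succ']; rfl
      rw [h1]
      show y * ((f ^ n) w : G) * y⁻¹ = _
      rw [ih, pow_succ']; group
  have hf : f ^ 2 ^ j = 1 := by
    funext w
    apply Subtype.ext
    rw [hfpow, hy]
    have h0 : (1 : Function.End W) w = w := rfl
    rw [h0]; simp
  have hmod := Equiv.Perm.card_fixedPoints_modEq (f := f) (p := 2) (n := j) hf
  have hWeven : 2 ∣ Fintype.card W := by
    obtain ⟨w, hw1⟩ := (Subgroup.ne_bot_iff_exists_ne_one).1 hW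
    have h2 : orderOf w = 2 := by
      rw [orderOf_eq_prime_iff]
      refine ⟨?_, hw1⟩
      have := hW2 w w.2
      exact Subtype.ext (by simpa using this)
    rw [← Nat.card_eq_fintype_card, ← h2]
    exact orderOf_dvd_natCard w
  have hfix_even : 2 ∣ Fintype.card (Function.fixedPoints f) :=
    (Nat.modEq_zero_iff_dvd.1 (hmod.symm.trans (Nat.modEq_zero_iff_dvd.2 hWeven)))
  have h1fix : (1 : W) ∈ Function.fixedPoints f := by
    show f 1 = 1
    apply Subtype.ext
    show y * ((1 : W) : G) * y⁻¹ = ((1 : W) : G)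
    simp
  have hcard : 1 < Fintype.card (Function.fixedPoints f) := by
    have hpos : 0 < Fintype.card (Function.fixedPoints f) := Fintype.card_pos_iff.2 ⟨⟨1, h1fix⟩⟩
    obtain ⟨c, hc⟩ := hfix_even
    omega
  obtain ⟨a, b, hab⟩ := Fintype.one_lt_card_iff.1 hcard
  have key : ∀ a : Function.fixedPoints f, (a : W) ≠ 1 → ∃ v ∈ W, v ≠ 1 ∧ y * v = v * y := by
    intro a ha
    refine ⟨((a : W) : G), (a : W).2, fun h => ha (Subtype.ext h), ?_⟩
    have h1 : f a = a := a.2
    have h2 : y * ((a : W) : G) * y⁻¹ = ((a : W) : G) := congrArg Subtype.val h1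
    exact mul_inv_eq_iff_eq_mul.1 h2
  by_cases ha : (a : W) = 1
  · have hb : (b : W) ≠ 1 := fun hb => hab (Subtype.ext (ha.trans hb.symm))
    exact key b hb
  · exact key a ha


theorem conj_sq {G : Type*} [Group G] {c x : G} (h : c * x * c⁻¹ = x⁻¹) :
    c ^ 2 * x = x * c ^ 2 := by
  have h2 : c ^ 2 * x * (c ^ 2)⁻¹ = x := by
    calc c ^ 2 * x * (c ^ 2)⁻¹ = c * (c * x * c⁻¹) * c⁻¹ := by rw [pow_two]; group
      _ = c * x⁻¹ * c⁻¹ := by rw [h]
      _ = (c * x * c⁻¹)⁻¹ := by group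
      _ = x := by rw [h, inv_inv]
  exact mul_inv_eq_iff_eq_mul.1 h2

/-- a nontrivial element of odd order centralizes an involution of `N`. -/
theorem exists_comm_invol_of_odd {G : Type*} [Group G] [Finite G]
    (hamb : ∀ x : G, IsConj x x⁻¹) (N : Subgroup G) [hN : N.Normal]
    (hinv : ∀ s : G, orderOf s = 2 → s ∈ N) (hN2 : ∀ a ∈ N, a ^ 2 = 1)
    (x : G) (m : ℕ) (hm : Odd m) (hxm : x ^ m = 1) (hx1 : x ≠ 1) :
    ∃ v ∈ N, v ≠ 1 ∧ x * v = v * x := by
  have : Fact (Nat.Prime 2) := ⟨Nat.prime_two⟩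
  obtain ⟨c, hc⟩ := isConj_iff.1 (hamb x)
  obtain ⟨g, i, hgo, hgx⟩ := exists_two_elt_inverting hc
  rcases i with _ | _ | i
  · exfalso
    rw [pow_zero, orderOf_eq_one_iff] at hgo
    rw [hgo, one_mul, inv_one, mul_one] at hgx
    apply hx1
    apply eq_one_of_odd_of_two_pow hm hxm 1
    rw [pow_one, pow_two]
    nth_rewrite 1 [hgx]
    exact inv_mul_cancel x
  · exfalso
    rw [zero_add, pow_one] at hgo
    have hgN : g ∈ N := hinv g hgo
    have h1 : x * g⁻¹ * x⁻¹ ∈ N := hN.conj_mem _ (N.inv_mem hgN) x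
    have h2 : g * (x * g⁻¹ * x⁻¹) ∈ N := N.mul_mem hgN h1
    have h3 : g * (x * g⁻¹ * x⁻¹) = (x ^ 2)⁻¹ := by
      calc g * (x * g⁻¹ * x⁻¹) = (g * x * g⁻¹) * x⁻¹ := by group
        _ = x⁻¹ * x⁻¹ := by rw [hgx]
        _ = (x ^ 2)⁻¹ := by rw [pow_two, mul_inv_rev]
    rw [h3] at h2
    have h4 := hN2 _ (N.inv_mem h2)
    rw [inv_inv, ← pow_mul] at h4
    exact hx1 (eq_one_of_odd_of_two_pow hm hxm 2 h4)
  · -- the involution of `⟨g⟩` is a power of `g²`
    have hu : orderOf (g ^ (2 ^ (i + 1))) = 2 := by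
      rw [orderOf_pow_of_dvd (pow_ne_zero _ (by norm_num)) (by rw [hgo]; exact pow_dvd_pow 2 (by omega)),
        hgo, show i + 1 + 1 = (i + 1) + 1 by rfl, pow_succ, Nat.mul_div_cancel_left _ (by positivity)]
    refine ⟨g ^ (2 ^ (i + 1)), hinv _ hu, fun h => ?_, ?_⟩
    · rw [h, orderOf_one] at hu
      omega
    · have hc2 : Commute (g ^ 2) x := conj_sq hgx
      have : g ^ (2 ^ (i + 1)) = (g ^ 2) ^ (2 ^ i) := by rw [← pow_mul, ← pow_succ']
      rw [this]
      exact ((hc2.pow_left (2 ^ i)).eq).symm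


theorem mem_of_pow_mem_of_coprime {G : Type*} [Group G] {H : Subgroup G} {g : G} {a b : ℕ}
    (hab : Nat.Coprime a b) (ha : g ^ a ∈ H) (hb : g ^ b ∈ H) : g ∈ H := by
  have h1 := Nat.gcd_eq_gcd_ab a b
  rw [hab.gcd_eq_one] at h1
  have h2 : g = (g ^ a) ^ (Nat.gcdA a b) * (g ^ b) ^ (Nat.gcdB a b) := by
    rw [← zpow_natCast, ← zpow_natCast, ← zpow_mul, ← zpow_mul, ← zpow_add, ← h1]
    simp
  rw [h2]
  exact H.mul_mem (H.zpow_mem ha _) (H.zpow_mem hb _)

/-- every element of `G` centralizes a non-identity element of `N`. -/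
theorem exists_fixed {G : Type*} [Group G] [Finite G]
    (hamb : ∀ x : G, IsConj x x⁻¹) (N : Subgroup G) [hN : N.Normal] (hN1 : N ≠ ⊥)
    (hinv : ∀ s : G, orderOf s = 2 → s ∈ N) (hN2 : ∀ a ∈ N, a ^ 2 = 1) (g : G) :
    ∃ v ∈ N, v ≠ 1 ∧ g * v = v * g := by
  have hpos : orderOf g ≠ 0 := (orderOf_pos g).ne'
  obtain ⟨j, m, hm2, he⟩ := Nat.exists_eq_pow_mul_and_not_dvd hpos 2 (by norm_num)
  have hm : Odd m := by
    rcases Nat.even_or_odd m with h' | h'
    · exact absurd (even_iff_two_dvd.1 h') hm2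
    · exact h'
  have hxm : (g ^ (2 ^ j)) ^ m = 1 := by rw [← pow_mul, ← he, pow_orderOf_eq_one]
  have hyj : (g ^ m) ^ (2 ^ j) = 1 := by rw [← pow_mul, mul_comm, ← he, pow_orderOf_eq_one]
  have hxy : Commute (g ^ (2 ^ j)) (g ^ m) := (Commute.refl g).pow_pow _ _
  -- a first fixed point, for the odd part
  obtain ⟨v₀, hv₀N, hv₀1, hv₀x⟩ : ∃ v ∈ N, v ≠ 1 ∧ g ^ (2 ^ j) * v = v * g ^ (2 ^ j) := by
    by_cases hx1 : g ^ (2 ^ j) = 1
    · obtain ⟨w, hw1⟩ := (Subgroup.ne_bot_iff_exists_ne_one).1 hN1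
      refine ⟨w, w.2, fun h => hw1 (Subtype.ext h), ?_⟩
      rw [hx1, one_mul, mul_one]
    · exact exists_comm_invol_of_odd hamb N hinv hN2 _ m hm hxm hx1
  -- W = C_N(x)
  have hW1 : N ⊓ centralizer {g ^ (2 ^ j)} ≠ ⊥ := by
    intro h
    have : v₀ ∈ N ⊓ centralizer {g ^ (2 ^ j)} :=
      Subgroup.mem_inf.2 ⟨hv₀N, Subgroup.mem_centralizer_singleton_iff.2 hv₀x.symm⟩
    rw [h, Subgroup.mem_bot] at this
    exact hv₀1 this
  obtain ⟨v, hvW, hv1, hvy⟩ := exists_fixed_of_two_element (N ⊓ centralizer {g ^ (2 ^ j)}) hW1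
    (fun w hw => hN2 w (Subgroup.mem_inf.1 hw).1) (g ^ m) j hyj (by
      intro w hw
      obtain ⟨hwN, hwc⟩ := Subgroup.mem_inf.1 hw
      refine Subgroup.mem_inf.2 ⟨hN.conj_mem w hwN _, ?_⟩
      have h1 : g ^ m ∈ centralizer {g ^ (2 ^ j)} :=
        Subgroup.mem_centralizer_singleton_iff.2 hxy.symm.eq
      exact (centralizer {g ^ (2 ^ j)}).mul_mem ((centralizer {g ^ (2 ^ j)}).mul_mem h1 hwc)
        ((centralizer {g ^ (2 ^ j)}).inv_mem h1))
  obtain ⟨hvN, hvc⟩ := Subgroup.mem_inf.1 hvW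
  refine ⟨v, hvN, hv1, ?_⟩
  have hcop : Nat.Coprime (2 ^ j) m := Nat.Coprime.pow_left j (Nat.coprime_two_left.2 hm)
  have h1 : g ^ (2 ^ j) ∈ centralizer {v} := by
    rw [Subgroup.mem_centralizer_singleton_iff]
    exact (Subgroup.mem_centralizer_singleton_iff.1 hvc).symm
  have h2 : g ^ m ∈ centralizer {v} := by
    rw [Subgroup.mem_centralizer_singleton_iff]
    exact hvy
  have h3 := mem_of_pow_mem_of_coprime hcop h1 h2
  exact Subgroup.mem_centralizer_singleton_iff.1 h3


/-- Burnside's counting lemma applied to the conjugation action on `N`. -/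
theorem card_le_two {G : Type*} [Group G] [Finite G]
    (hone : ∀ s t : G, orderOf s = 2 → orderOf t = 2 → IsConj s t)
    (N : Subgroup G) [hN : N.Normal] (hN2 : ∀ a ∈ N, a ^ 2 = 1)
    (hfix : ∀ g : G, ∃ v ∈ N, v ≠ 1 ∧ g * v = v * g) : Nat.card N ≤ 2 := by
  classical
  have : Fact (Nat.Prime 2) := ⟨Nat.prime_two⟩
  haveI : Fintype G := Fintype.ofFinite G
  haveI : Fintype N := Fintype.ofFinite N
  haveI : Fintype (Quotient (MulAction.orbitRel (ConjAct G) N)) := Fintype.ofFinite _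
  have hB := MulAction.sum_card_fixedBy_eq_card_orbits_mul_card_group (ConjAct G) N
  by_contra hcon
  push Not at hcon
  rw [Nat.card_eq_fintype_card] at hcon
  -- a non-identity element
  obtain ⟨a₀, ha₀⟩ : ∃ a : N, a ≠ 1 := by
    have h1 : 1 < Fintype.card N := by omega
    obtain ⟨a, b, hab⟩ := Fintype.one_lt_card_iff.1 h1
    by_cases ha : a = 1
    · exact ⟨b, fun hb => hab (ha.trans hb.symm)⟩
    · exact ⟨a, ha⟩
  have hord : ∀ a : N, a ≠ 1 → orderOf (a : G) = 2 := by
    intro a ha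
    rw [orderOf_eq_prime_iff]
    exact ⟨hN2 a a.2, fun h => ha (Subtype.ext h)⟩
  -- at most two orbits
  have hΩ : Fintype.card (Quotient (MulAction.orbitRel (ConjAct G) N)) ≤ 2 := by
    have hsurj : Function.Surjective (fun b : Bool =>
        (Quotient.mk'' (if b then (1 : N) else a₀) :
          Quotient (MulAction.orbitRel (ConjAct G) N))) := by
      intro ω
      obtain ⟨v, rfl⟩ := Quotient.exists_rep ω
      by_cases hv : v = 1
      · exact ⟨true, by simp [hv]⟩
      · refine ⟨false, ?_⟩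
        simp only [Bool.false_eq_true, if_false]
        apply Quotient.sound'
        rw [MulAction.orbitRel_apply]
        obtain ⟨c, hc⟩ := isConj_iff.1 (hone (v : G) (a₀ : G) (hord v hv) (hord a₀ ha₀))
        refine ⟨ConjAct.toConjAct c, ?_⟩
        apply Subtype.ext
        rw [ConjAct.Subgroup.val_conj_smul, ConjAct.smul_def, ConjAct.ofConjAct_toConjAct]
        exact hc
    have := Fintype.card_le_of_surjective _ hsurj
    simpa using this
  -- each element has at least two fixed points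
  have hfix2 : ∀ g : ConjAct G, 2 + (if g = 1 then Fintype.card N - 2 else 0) ≤
      Fintype.card (MulAction.fixedBy N g) := by
    intro g
    by_cases hg : g = 1
    · subst hg
      rw [if_pos rfl]
      have : Fintype.card (MulAction.fixedBy N (1 : ConjAct G)) = Fintype.card N := by
        apply Fintype.card_congr
        exact (Equiv.subtypeUnivEquiv (fun v => by
          rw [MulAction.mem_fixedBy, one_smul]))
      rw [this]
      omega
    · rw [if_neg hg, add_zero]
      obtain ⟨v, hvN, hv1, hvc⟩ := hfix (ConjAct.ofConjAct g)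
      have h1 : (1 : N) ∈ MulAction.fixedBy N g := by
        rw [MulAction.mem_fixedBy, smul_one]
      have h2 : (⟨v, hvN⟩ : N) ∈ MulAction.fixedBy N g := by
        rw [MulAction.mem_fixedBy]
        apply Subtype.ext
        rw [ConjAct.Subgroup.val_conj_smul, ConjAct.smul_def]
        show ConjAct.ofConjAct g * v * (ConjAct.ofConjAct g)⁻¹ = v
        rw [hvc, mul_inv_cancel_right]
      have h3 : 1 < Fintype.card (MulAction.fixedBy N g) := by
        rw [Fintype.one_lt_card_iff]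
        refine ⟨⟨1, h1⟩, ⟨⟨v, hvN⟩, h2⟩, ?_⟩
        intro h
        have := congrArg (fun w : MulAction.fixedBy N g => ((w : N) : G)) h
        exact hv1 this.symm
      omega
  have hsum : ∑ g : ConjAct G, (2 + (if g = 1 then Fintype.card N - 2 else 0)) ≤
      ∑ g : ConjAct G, Fintype.card (MulAction.fixedBy N g) :=
    Finset.sum_le_sum fun g _ => hfix2 g
  rw [hB, Finset.sum_add_distrib, Finset.sum_const, Finset.card_univ, smul_eq_mul,
    Finset.sum_ite_eq' Finset.univ (1 : ConjAct G), if_pos (Finset.mem_univ _)] at hsum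
  have h5 : Fintype.card (Quotient (MulAction.orbitRel (ConjAct G) N)) *
      Fintype.card (ConjAct G) ≤ 2 * Fintype.card (ConjAct G) :=
    Nat.mul_le_mul_right _ hΩ
  have h6 : Fintype.card (ConjAct G) * 2 = 2 * Fintype.card (ConjAct G) := mul_comm _ _
  omega


/-- a nontrivial finite solvable group has a nontrivial normal subgroup that is either of odd
order or of exponent two. -/
theorem exists_normal_odd_or_elem2 {G : Type*} [Group G] [Finite G] [hs : Group.IsSolvable G]
    [Nontrivial G] :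
    ∃ N : Subgroup G, N.Normal ∧ N ≠ ⊥ ∧ (Odd (Nat.card N) ∨ ∀ a ∈ N, a ^ 2 = 1) := by
  classical
  have : Fact (Nat.Prime 2) := ⟨Nat.prime_two⟩
  have hex : ∃ k, derivedSeries G k = ⊥ := (isSolvable_def G).1 hs
  have hk₀ : derivedSeries G (Nat.find hex) = ⊥ := Nat.find_spec hex
  have hpos : Nat.find hex ≠ 0 := by
    intro h
    rw [h, derivedSeries_zero] at hk₀
    exact top_ne_bot hk₀
  obtain ⟨j, hj⟩ := Nat.exists_eq_succ_of_ne_zero hpos
  have hA1 : derivedSeries G j ≠ ⊥ := Nat.find_min hex (by omega)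
  have hAc : ⁅derivedSeries G j, derivedSeries G j⁆ = ⊥ := by
    rw [← derivedSeries_succ, ← Nat.succ_eq_add_one, ← hj]; exact hk₀
  have hAn : (derivedSeries G j).Normal := inferInstance
  have hcomm : ∀ a ∈ derivedSeries G j, ∀ b ∈ derivedSeries G j, a * b = b * a := by
    intro a ha b hb
    have : a * b * a⁻¹ * b⁻¹ ∈ ⁅derivedSeries G j, derivedSeries G j⁆ :=
      Subgroup.commutator_mem_commutator ha hb
    rw [hAc, Subgroup.mem_bot] at this
    calc a * b = (a * b * a⁻¹ * b⁻¹) * b * a := by group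
      _ = b * a := by rw [this, one_mul]
  by_cases hodd : Odd (Nat.card (derivedSeries G j))
  · exact ⟨_, hAn, hA1, Or.inl hodd⟩
  · let N : Subgroup G :=
      { carrier := {a | a ∈ derivedSeries G j ∧ a ^ 2 = 1}
        mul_mem' := by
          rintro a b ⟨ha, ha2⟩ ⟨hb, hb2⟩
          refine ⟨(derivedSeries G j).mul_mem ha hb, ?_⟩
          have hc : Commute a b := hcomm a ha b hb
          rw [hc.mul_pow, ha2, hb2, one_mul]
        one_mem' := ⟨(derivedSeries G j).one_mem, one_pow 2⟩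
        inv_mem' := by
          rintro a ⟨ha, ha2⟩
          exact ⟨(derivedSeries G j).inv_mem ha, by rw [inv_pow, ha2, inv_one]⟩ }
    have hNn : N.Normal := by
      refine ⟨fun a ha g => ?_⟩
      exact ⟨hAn.conj_mem a ha.1 g, by rw [conj_pow, ha.2]; group⟩
    have hN1 : N ≠ ⊥ := by
      have heven : 2 ∣ Nat.card (derivedSeries G j) := by
        rcases Nat.even_or_odd (Nat.card (derivedSeries G j)) with h' | h'
        · exact even_iff_two_dvd.1 h'
        · exact absurd h' hodd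
      obtain ⟨a, ha⟩ := exists_prime_orderOf_dvd_card' 2 heven
      intro h
      have haN : (a : G) ∈ N := by
        refine ⟨a.2, ?_⟩
        have := pow_orderOf_eq_one a
        rw [ha] at this
        exact_mod_cast congrArg Subtype.val this
      rw [h, Subgroup.mem_bot] at haN
      have : a = 1 := Subtype.ext haN
      rw [this, orderOf_one] at ha
      omega
    exact ⟨N, hNn, hN1, Or.inr fun a ha => ha.2⟩


/-- commuting involutions coincide (induction on the order) -/
theorem comm_invol_eq_aux : ∀ (n : ℕ) (G : Type u) [Group G] [Finite G] [Group.IsSolvable G],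
    Nat.card G = n → (∀ x : G, IsConj x x⁻¹) →
    (∀ s t : G, orderOf s = 2 → orderOf t = 2 → IsConj s t) →
    ∀ s t : G, orderOf s = 2 → orderOf t = 2 → s * t = t * s → s = t := by
  intro n
  induction n using Nat.strong_induction_on with
  | _ n ih =>
    intro G _ _ _ hcard hamb hone s t hs ht hst
    have : Fact (Nat.Prime 2) := ⟨Nat.prime_two⟩
    haveI : Nontrivial G := ⟨⟨s, 1, fun h => by rw [h, orderOf_one] at hs; omega⟩⟩
    obtain ⟨N, hNn, hN1, hN⟩ := exists_normal_odd_or_elem2 (G := G)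
    haveI := hNn
    obtain ⟨hs2, hs1⟩ := (orderOf_eq_prime_iff (p := 2)).1 hs
    obtain ⟨ht2, ht1⟩ := (orderOf_eq_prime_iff (p := 2)).1 ht
    rcases hN with hodd | hN2
    · -- pass to the quotient by a normal subgroup of odd order
      have hlt : Nat.card (G ⧸ N) < n := by
        rw [← hcard, Subgroup.card_eq_card_quotient_mul_card_subgroup N]
        have h1 : 1 < Nat.card N := (Subgroup.one_lt_card_iff_ne_bot N).2 hN1
        have h2 : 0 < Nat.card (G ⧸ N) := Nat.card_pos
        nlinarith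
      have hamb' : ∀ q : G ⧸ N, IsConj q q⁻¹ := by
        intro q
        obtain ⟨x, rfl⟩ := QuotientGroup.mk_surjective q
        exact (QuotientGroup.mk' N).map_isConj (hamb x)
      have hone' : ∀ q₁ q₂ : G ⧸ N, orderOf q₁ = 2 → orderOf q₂ = 2 → IsConj q₁ q₂ := by
        intro q₁ q₂ h1 h2
        obtain ⟨a₁, ha₁, rfl⟩ := exists_invol_lift N hodd q₁ h1
        obtain ⟨a₂, ha₂, rfl⟩ := exists_invol_lift N hodd q₂ h2
        exact (QuotientGroup.mk' N).map_isConj (hone a₁ a₂ ha₁ ha₂)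
      have hnot : ∀ r : G, orderOf r = 2 → r ∉ N := by
        intro r hr hrN
        have h1 : orderOf (⟨r, hrN⟩ : N) ∣ Nat.card N := orderOf_dvd_natCard _
        rw [Subgroup.orderOf_mk, hr] at h1
        exact (Nat.not_even_iff_odd.2 hodd) (even_iff_two_dvd.2 h1)
      have hord' : ∀ r : G, orderOf r = 2 → orderOf (r : G ⧸ N) = 2 := by
        intro r hr
        rw [orderOf_eq_prime_iff]
        constructor
        · rw [← QuotientGroup.mk_pow, ((orderOf_eq_prime_iff (p := 2)).1 hr).1, QuotientGroup.mk_one]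
        · intro h
          exact hnot r hr ((QuotientGroup.eq_one_iff r).1 h)
      have key := ih _ hlt (G ⧸ N) rfl hamb' hone' (s : G ⧸ N) (t : G ⧸ N) (hord' s hs)
        (hord' t ht) (by rw [← QuotientGroup.mk_mul, ← QuotientGroup.mk_mul, hst])
      have hmem : s⁻¹ * t ∈ N := QuotientGroup.eq.1 key
      have hsq : (s⁻¹ * t) ^ 2 = 1 := by
        have hc : Commute s⁻¹ t := (show Commute s t from hst).inv_left
        rw [hc.mul_pow, inv_pow, hs2, ht2, inv_one, one_mul]
      have hcardN : (s⁻¹ * t) ^ Nat.card N = 1 := by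
        have := pow_card_eq_one' (G := N) (x := ⟨s⁻¹ * t, hmem⟩)
        exact congrArg Subtype.val this
      have h1 := eq_one_of_odd_of_two_pow hodd hcardN 1 (by rw [pow_one]; exact hsq)
      exact (inv_mul_eq_one.1 h1)
    · -- `N` has exponent two and contains all involutions
      obtain ⟨a₀, ha₀⟩ := (Subgroup.ne_bot_iff_exists_ne_one).1 hN1
      have ha₀2 : orderOf (a₀ : G) = 2 := by
        rw [orderOf_eq_prime_iff]
        exact ⟨hN2 a₀ a₀.2, fun h => ha₀ (Subtype.ext h)⟩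
      have hinv : ∀ r : G, orderOf r = 2 → r ∈ N := by
        intro r hr
        obtain ⟨c, hc⟩ := isConj_iff.1 (hone (a₀ : G) r ha₀2 hr)
        rw [← hc]
        exact hNn.conj_mem _ a₀.2 c
      have hfix := exists_fixed hamb N hN1 hinv hN2
      have hcard2 := card_le_two hone N hN2 hfix
      by_contra hne
      haveI : Fintype N := Fintype.ofFinite N
      have h3 : 2 < Fintype.card N := by
        rw [Fintype.two_lt_card_iff]
        refine ⟨1, ⟨s, hinv s hs⟩, ⟨t, hinv t ht⟩, ?_, ?_, ?_⟩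
        · intro h; exact hs1 (congrArg Subtype.val h).symm
        · intro h; exact ht1 (congrArg Subtype.val h).symm
        · intro h; exact hne (congrArg Subtype.val h)
      rw [Nat.card_eq_fintype_card] at hcard2
      omega

theorem comm_invol_eq {G : Type u} [Group G] [Finite G] [Group.IsSolvable G]
    (hamb : ∀ x : G, IsConj x x⁻¹)
    (hone : ∀ s t : G, orderOf s = 2 → orderOf t = 2 → IsConj s t)
    (s t : G) (hs : orderOf s = 2) (ht : orderOf t = 2) (hst : s * t = t * s) : s = t :=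
  comm_invol_eq_aux _ G rfl hamb hone s t hs ht hst


/-- a `2`-subgroup has at most one involution -/
theorem subgroup_unique_invol {G : Type u} [Group G] [Finite G] [Group.IsSolvable G]
    (hamb : ∀ x : G, IsConj x x⁻¹)
    (hone : ∀ s t : G, orderOf s = 2 → orderOf t = 2 → IsConj s t)
    (P : Subgroup G) (hP : IsPGroup 2 P) (x y : P) (hx : orderOf x = 2) (hy : orderOf y = 2) :
    x = y := by
  have : Fact (Nat.Prime 2) := ⟨Nat.prime_two⟩
  haveI : Nontrivial P := ⟨⟨x, 1, fun h => by rw [h, orderOf_one] at hx; omega⟩⟩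
  haveI := hP.center_nontrivial
  have hZ : IsPGroup 2 (center P) := hP.to_subgroup _
  have hdvd : 2 ∣ Nat.card (center P) := by
    rcases hZ.card_eq_or_dvd with h | h
    · exact absurd h (Finite.one_lt_card (α := center P)).ne'
    · exact h
  obtain ⟨z, hz⟩ := exists_prime_orderOf_dvd_card' 2 hdvd
  have hzG : orderOf (((z : P) : G)) = 2 := by
    rw [Subgroup.orderOf_coe, Subgroup.orderOf_coe, hz]
  have key : ∀ w : P, orderOf w = 2 → w = (z : P) := by
    intro w hw
    have hwG : orderOf (w : G) = 2 := by rw [Subgroup.orderOf_coe, hw]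
    have hcomm : (w : G) * ((z : P) : G) = ((z : P) : G) * (w : G) := by
      have := (Subgroup.mem_center_iff.1 z.2 w)
      exact congrArg Subtype.val this
    exact Subtype.ext (comm_invol_eq hamb hone _ _ hwG hzG hcomm)
  rw [key x hx, key y hy]

/-- a cyclic Sylow `2`-subgroup of an ambivalent group of even order has order two -/
theorem card_eq_two_of_cyclic {G : Type*} [Group G] [Finite G]
    (hamb : ∀ x : G, IsConj x x⁻¹) (heven : 2 ∣ Nat.card G) (S : Sylow 2 G)
    (hcyc : IsCyclic (S : Subgroup G)) : Nat.card S = 2 := by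
  have : Fact (Nat.Prime 2) := ⟨Nat.prime_two⟩
  obtain ⟨s, hs⟩ := hcyc.exists_generator
  obtain ⟨c, hc⟩ := isConj_iff.1 (hamb (s : G))
  obtain ⟨g, i, hgo, hgs⟩ := exists_two_elt_inverting hc
  have hmemS : ∀ w : G, w ∈ (S : Subgroup G) → ∃ k : ℤ, w = (s : G) ^ k := by
    intro w hw
    obtain ⟨k, hk⟩ := Subgroup.mem_zpowers_iff.1 (hs ⟨w, hw⟩)
    exact ⟨k, by rw [← Subgroup.coe_zpow, hk]⟩
  -- `g` normalizes `S`
  have hgN : zpowers g ≤ normalizer ((S : Subgroup G) : Set G) := by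
    rw [zpowers_le]
    apply Subgroup.mem_normalizer_fintype
    intro w hw
    obtain ⟨k, rfl⟩ := hmemS w hw
    have : g * (s : G) ^ k * g⁻¹ = ((s : G)⁻¹) ^ k := by
      rw [← hgs, conj_zpow]
    rw [this]
    exact (S : Subgroup G).zpow_mem ((S : Subgroup G).inv_mem s.2) k
  have hgP : IsPGroup 2 (zpowers g) := by
    rw [IsPGroup.iff_card, Nat.card_zpowers, hgo]
    exact ⟨i, rfl⟩
  have hsup : IsPGroup 2 (zpowers g ⊔ (S : Subgroup G) : Subgroup G) :=
    hgP.to_sup_of_normal_right' S.isPGroup' hgN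
  have heq := S.is_maximal' hsup le_sup_right
  have hgS : g ∈ (S : Subgroup G) := by
    rw [← heq]
    exact mem_sup_left (mem_zpowers g)
  obtain ⟨k, hk⟩ := hmemS g hgS
  have hcomm : g * (s : G) * g⁻¹ = (s : G) := by
    rw [hk]
    have : Commute ((s : G) ^ k) (s : G) := (Commute.refl (s : G)).zpow_left k
    rw [this.eq, mul_inv_cancel_right]
  rw [hcomm] at hgs
  have hs2 : (s : G) ^ 2 = 1 := by
    rw [pow_two]
    nth_rewrite 1 [hgs]
    exact inv_mul_cancel _
  have hcard : Nat.card S = orderOf s := (orderOf_eq_card_of_forall_mem_zpowers hs).symm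
  have hdvd : orderOf s ∣ 2 := by
    apply orderOf_dvd_of_pow_eq_one
    exact Subtype.ext (by simpa using hs2)
  have hne : Nat.card S ≠ 1 := by
    intro h1
    have := S.ne_bot_of_dvd_card heven
    exact this ((Subgroup.card_eq_one).1 h1)
  rw [hcard] at hne ⊢
  rcases (Nat.dvd_prime Nat.prime_two).1 hdvd with h | h
  · exact absurd h hne
  · exact h


theorem mem_of_sq_mem_of_odd {G : Type*} [Group G] {H : Subgroup G} {x : G} {m : ℕ}
    (hm : Odd m) (hx : x ^ m = 1) (h2 : x ^ 2 ∈ H) : x ∈ H :=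
  mem_of_pow_mem_of_coprime (Nat.coprime_two_left.2 hm) h2 (hx ▸ H.one_mem)

/-- core of the second part: a normal subgroup `K` of odd order and index two is inverted by
every involution, and equals the derived subgroup. -/
theorem part2_core {G : Type*} [Group G] [Finite G] (hamb : ∀ x : G, IsConj x x⁻¹)
    (K : Subgroup G) [hKn : K.Normal] (hKodd : Odd (Nat.card K)) (hKi : K.index = 2) :
    (∀ t : G, orderOf t = 2 → ∀ x ∈ K, t * x * t⁻¹ = x⁻¹) ∧ K = commutator G := by
  classical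
  have : Fact (Nat.Prime 2) := ⟨Nat.prime_two⟩
  have hKpow : ∀ x ∈ K, x ^ Nat.card K = 1 := by
    intro x hx
    have := pow_card_eq_one' (G := K) (x := ⟨x, hx⟩)
    exact congrArg Subtype.val this
  have hcardG : Nat.card G = Nat.card K * 2 := by rw [← hKi, Subgroup.card_mul_index]
  -- involutions lie outside `K`
  have hnotK : ∀ r : G, orderOf r = 2 → r ∉ K := by
    intro r hr hrK
    have h1 : orderOf (⟨r, hrK⟩ : K) ∣ Nat.card K := orderOf_dvd_natCard _
    rw [Subgroup.orderOf_mk, hr] at h1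
    exact (Nat.not_even_iff_odd.2 hKodd) (even_iff_two_dvd.2 h1)
  -- every non-identity element of `K` is inverted by an involution
  have hreal : ∀ x ∈ K, x ≠ 1 → ∃ h : G, orderOf h = 2 ∧ h * x * h⁻¹ = x⁻¹ := by
    intro x hx hx1
    obtain ⟨c, hc⟩ := isConj_iff.1 (hamb x)
    obtain ⟨g, i, hgo, hgx⟩ := exists_two_elt_inverting hc
    rcases i with _ | _ | i
    · exfalso
      rw [pow_zero, orderOf_eq_one_iff] at hgo
      rw [hgo, one_mul, inv_one, mul_one] at hgx
      apply hx1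
      apply eq_one_of_odd_of_two_pow hKodd (hKpow x hx) 1
      rw [pow_one, pow_two]
      nth_rewrite 1 [hgx]
      exact inv_mul_cancel x
    · exact ⟨g, by simpa using hgo, hgx⟩
    · exfalso
      have h1 : orderOf g ∣ Nat.card G := orderOf_dvd_natCard g
      rw [hgo, hcardG] at h1
      have h2 : (2 : ℕ) ^ (i + 1 + 1) = 2 ^ (i + 1) * 2 := pow_succ 2 (i + 1)
      rw [h2] at h1
      have h3 : 2 ^ (i + 1) ∣ Nat.card K := Nat.dvd_of_mul_dvd_mul_right (by norm_num) h1
      have h4 : 2 ∣ Nat.card K := (dvd_pow_self 2 (by omega)).trans h3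
      exact (Nat.not_even_iff_odd.2 hKodd) (even_iff_two_dvd.2 h4)
  -- an involution has no fixed points on `K`
  have hfpf : ∀ t : G, orderOf t = 2 → ∀ c ∈ K, t * c = c * t → c = 1 := by
    intro t ht c hc htc
    by_contra hc1
    obtain ⟨h, hh, hhc⟩ := hreal c hc hc1
    have hy : h * t ∈ K :=
      (Subgroup.mul_mem_iff_of_index_two hKi).2 ⟨fun h' => absurd h' (hnotK h hh),
        fun h' => absurd h' (hnotK t ht)⟩
    have hyc : (h * t) * c * (h * t)⁻¹ = c⁻¹ := by
      calc (h * t) * c * (h * t)⁻¹ = h * (t * c) * t⁻¹ * h⁻¹ := by group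
        _ = h * (c * t) * t⁻¹ * h⁻¹ := by rw [htc]
        _ = h * c * h⁻¹ := by group
        _ = c⁻¹ := hhc
    have hy2 : (h * t) ^ 2 ∈ centralizer {c} := by
      rw [Subgroup.mem_centralizer_singleton_iff]
      exact conj_sq hyc
    have hyc' : h * t ∈ centralizer {c} :=
      mem_of_sq_mem_of_odd hKodd (hKpow _ hy) hy2
    rw [Subgroup.mem_centralizer_singleton_iff] at hyc'
    have : c = c⁻¹ := by
      rw [← hyc, hyc', mul_inv_cancel_right]
    apply hc1
    apply eq_one_of_odd_of_two_pow hKodd (hKpow c hc) 1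
    rw [pow_one, pow_two]
    nth_rewrite 1 [this]
    exact inv_mul_cancel c
  -- hence it inverts `K`
  have hinvK : ∀ t : G, orderOf t = 2 → ∀ x ∈ K, t * x * t⁻¹ = x⁻¹ := by
    intro t ht x hx
    obtain ⟨ht2, -⟩ := (orderOf_eq_prime_iff (p := 2)).1 ht
    have htinv : t⁻¹ = t := by
      rw [pow_two] at ht2
      exact (eq_inv_of_mul_eq_one_left ht2).symm
    let ψ : K → K := fun k => ⟨(k : G)⁻¹ * (t * k * t⁻¹),
      K.mul_mem (K.inv_mem k.2) (hKn.conj_mem k k.2 t)⟩
    have hψinj : Function.Injective ψ := by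
      intro k l hkl
      have h1 : (k : G)⁻¹ * (t * k * t⁻¹) = (l : G)⁻¹ * (t * l * t⁻¹) := congrArg Subtype.val hkl
      have h2 : t * ((l : G) * (k : G)⁻¹) = ((l : G) * (k : G)⁻¹) * t := by
        have e1 : t * (k : G) * t⁻¹ = (k : G) * ((l : G)⁻¹ * (t * l * t⁻¹)) := by
          rw [← h1]; group
        have e2 : t * ((l : G) * (k : G)⁻¹) * t⁻¹ = (t * l * t⁻¹) * (t * k * t⁻¹)⁻¹ := by group
        have e3 : t * ((l : G) * (k : G)⁻¹) * t⁻¹ = (l : G) * (k : G)⁻¹ := by
          rw [e2, e1]; group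
        exact mul_inv_eq_iff_eq_mul.1 e3
      have h3 := hfpf t ht _ (K.mul_mem l.2 (K.inv_mem k.2)) h2
      exact Subtype.ext (mul_inv_eq_one.1 h3).symm
    obtain ⟨k, hk⟩ := (Finite.surjective_of_injective hψinj) ⟨x, hx⟩
    have hx' : x = (k : G)⁻¹ * (t * k * t⁻¹) := (congrArg Subtype.val hk).symm
    rw [hx']
    calc t * ((k : G)⁻¹ * (t * k * t⁻¹)) * t⁻¹
        = (t * k * t⁻¹)⁻¹ * ((t * t) * k * (t⁻¹ * t⁻¹)) := by group
      _ = (t * k * t⁻¹)⁻¹ * k := by
          rw [htinv, ← pow_two, ht2, one_mul, mul_one]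
      _ = ((k : G)⁻¹ * (t * k * t⁻¹))⁻¹ := by group
  refine ⟨hinvK, ?_⟩
  apply le_antisymm
  · -- `K ≤ G'`
    intro x hx
    obtain ⟨t, ht⟩ : ∃ t : G, orderOf t = 2 := by
      have h2 : 2 ∣ Nat.card G := ⟨Nat.card K, by rw [hcardG, mul_comm]⟩
      exact exists_prime_orderOf_dvd_card' 2 h2
    have h1 : t * x * t⁻¹ * x⁻¹ ∈ commutator G :=
      Subgroup.commutator_mem_commutator (Subgroup.mem_top t) (Subgroup.mem_top x)
    rw [hinvK t ht x hx] at h1
    have h2 : x ^ 2 ∈ commutator G := by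
      have := (commutator G).inv_mem h1
      rwa [mul_inv_rev, inv_inv, ← pow_two] at this
    exact mem_of_sq_mem_of_odd hKodd (hKpow x hx) h2
  · -- `G' ≤ K`
    have hcardQ : Nat.card (G ⧸ K) = 2 := by rw [← Subgroup.index_eq_card, hKi]
    haveI := isCyclic_of_prime_card hcardQ
    exact Subgroup.Normal.quotient_commutative_iff_commutator_le.1 inferInstance


theorem result {G : Type*} [Group G] [Finite G] [Group.IsSolvable G]
    (hamb : ∀ x : G, IsConj x x⁻¹) (heven : 2 ∣ Nat.card G) (hone : ∀ s t : G, orderOf s = 2 → orderOf t = 2 → IsConj s t) (S : Sylow 2 G) :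
    (Nat.card S = 2 ∨ ∃ n : ℕ, Nonempty ((S : Subgroup G) ≃* QuaternionGroup (2 ^ (n + 1)))) ∧
    (Nat.card S = 2 → (S : Subgroup G).IsComplement' (Cfsg.oddCore G) ∧ Cfsg.oddCore G = commutator G ∧
        ∀ t : G, t ∈ S → t ≠ 1 → ∀ x : G, x ∈ Cfsg.oddCore G → t * x * t⁻¹ = x⁻¹) := by
  have : Fact (Nat.Prime 2) := ⟨Nat.prime_two⟩
  constructor
  · rcases Cfsg.Agent.Helper53.isCyclic_or_quaternion_of_unique_invol S.isPGroup'
      (subgroup_unique_invol hamb hone S S.isPGroup') with h | ⟨n, hn1, hn⟩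
    · left; exact card_eq_two_of_cyclic hamb heven S h
    · right
      obtain ⟨m, rfl⟩ := Nat.exists_eq_add_of_le' hn1
      exact ⟨m, hn⟩
  · intro hS
    have hcyc : IsCyclic (S : Subgroup G) := isCyclic_of_prime_card hS
    have hmf : (Nat.card G).minFac = 2 := (Nat.minFac_eq_two_iff _).2 heven
    have hcompl := IsCyclic.isComplement' hmf hcyc
    have hKi : (MonoidHom.transferSylow S (hcyc.normalizer_le_centralizer hmf)).ker.index = 2 := by
      rw [hcompl.symm.index_eq_card, hS]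
    have hKodd : Odd (Nat.card (MonoidHom.transferSylow S
        (hcyc.normalizer_le_centralizer hmf)).ker) := by
      have := MonoidHom.not_dvd_card_ker_transferSylow S (hcyc.normalizer_le_centralizer hmf)
      rcases Nat.even_or_odd (Nat.card (MonoidHom.transferSylow S
        (hcyc.normalizer_le_centralizer hmf)).ker) with h' | h'
      · exact absurd (even_iff_two_dvd.1 h') this
      · exact h'
    obtain ⟨hinvK, hKcomm⟩ := part2_core hamb _ hKodd hKi
    have hOK : Cfsg.oddCore G =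
        (MonoidHom.transferSylow S (hcyc.normalizer_le_centralizer hmf)).ker := by
      apply le_antisymm
      · intro x hx
        have hcop := Cfsg.Agent.Helper30.pPrimeCore_coprime (G := G) 2
        have hodd : Odd (Nat.card (Cfsg.oddCore G)) := Nat.coprime_two_right.1 hcop
        have hpow : x ^ Nat.card (Cfsg.oddCore G) = 1 := by
          have := pow_card_eq_one' (G := Cfsg.oddCore G) (x := ⟨x, hx⟩)
          exact congrArg Subtype.val this
        exact mem_of_sq_mem_of_odd hodd hpow (Subgroup.sq_mem_of_index_two hKi x)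
      · exact Cfsg.Agent.Helper30.le_pPrimeCore inferInstance (Nat.coprime_two_right.2 hKodd)
    rw [hOK]
    refine ⟨hcompl.symm, hKcomm, ?_⟩
    intro t htS ht1 x hx
    apply hinvK t _ x hx
    have h1 : orderOf (⟨t, htS⟩ : S) ∣ Nat.card S := orderOf_dvd_natCard _
    rw [Subgroup.orderOf_mk, hS] at h1
    rcases (Nat.dvd_prime Nat.prime_two).1 h1 with h | h
    · exact absurd (orderOf_eq_one_iff.1 h) ht1
    · exact h

end Cfsg.Agent.S4061
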