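import Mathlib
import Cfsg.Statements.S4065

set_option autoImplicit false
open Cfsg

namespace Cfsg.Agent.S4065

/-- In a group where commuting is transitive on non-identity elements, centralizers of elements
are TI-subsets. -/
theorem ti_of_ct {G : Type*} [Group G]
    (hct : ∀ a b c : G, a ≠ 1 → b ≠ 1 → c ≠ 1 → a * b = b * a → b * c = c * b → a * c = c * a)
    (x : G) : Cfsg.IsTISubset (Subgroup.centralizer ({x} : Set G) : Set G) := by
  intro g hg y hy hgy
  by_contra hy1
  apply hg
  have hyx : y * x = x * y := by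
    have := Subgroup.mem_centralizer_iff.1 hy x (Set.mem_singleton x)
    exact this.symm
  have hgyx : (g * y * g⁻¹) * x = x * (g * y * g⁻¹) := by
    have := Subgroup.mem_centralizer_iff.1 hgy x (Set.mem_singleton x)
    exact this.symm
  by_cases hx1 : x = 1
  · subst hx1
    have : Subgroup.centralizer ({1} : Set G) = ⊤ := by
      ext z
      simp [Subgroup.mem_centralizer_iff]
    rw [this]
    have h2 : Subgroup.normalizer (((⊤ : Subgroup G) : Set G)) = ⊤ :=
      Subgroup.normalizer_eq_top (H := (⊤ : Subgroup G))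
    rw [h2]
    trivial
  -- x' = g⁻¹ x g commutes with y
  have hx'1 : g⁻¹ * x * g ≠ 1 := by
    intro h
    apply hx1
    have := congrArg (fun z => g * z * g⁻¹) h
    simpa [mul_assoc] using this
  have hyx' : y * (g⁻¹ * x * g) = (g⁻¹ * x * g) * y := by
    have := congrArg (fun z => g⁻¹ * z * g) hgyx
    simp only [mul_assoc, inv_mul_cancel_left] at this
    simp only [mul_assoc, inv_mul_cancel, mul_one] at this
    simpa [mul_assoc] using this
  -- centralizer x = centralizer x'
  have hcc : ∀ z : G, z * x = x * z ↔ z * (g⁻¹ * x * g) = (g⁻¹ * x * g) * z := by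
    intro z
    by_cases hz1 : z = 1
    · subst hz1; simp
    constructor
    · intro hz
      exact hct z y (g⁻¹ * x * g) hz1 hy1 hx'1
        (hct z x y hz1 hx1 hy1 hz hyx.symm) hyx'
    · intro hz
      exact hct z y x hz1 hy1 hx1
        (hct z (g⁻¹ * x * g) y hz1 hx'1 hy1 hz hyx'.symm) hyx
  rw [Subgroup.mem_normalizer_iff]
  intro z
  simp only [Subgroup.mem_centralizer_iff, Set.mem_singleton_iff, forall_eq]
  rw [eq_comm, hcc z, eq_comm (a := x * (g * z * g⁻¹))]
  constructor
  · intro h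
    have := congrArg (fun w => g * w * g⁻¹) h
    simpa [mul_assoc] using this
  · intro h
    have := congrArg (fun w => g⁻¹ * w * g) h
    simpa [mul_assoc] using this

/-- commuting with a non-scalar `2 × 2` matrix is transitive -/
theorem mat_ct {F : Type*} [Field F] (A B C : Matrix (Fin 2) (Fin 2) F)
    (hB : B 0 1 ≠ 0 ∨ B 1 0 ≠ 0 ∨ B 0 0 ≠ B 1 1)
    (hAB : A * B = B * A) (hBC : B * C = C * B) : A * C = C * A := by
  have E00 := congrFun (congrFun hAB 0) 0
  have E01 := congrFun (congrFun hAB 0) 1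
  have E10 := congrFun (congrFun hAB 1) 0
  have E11 := congrFun (congrFun hAB 1) 1
  have F00 := congrFun (congrFun hBC 0) 0
  have F01 := congrFun (congrFun hBC 0) 1
  have F10 := congrFun (congrFun hBC 1) 0
  have F11 := congrFun (congrFun hBC 1) 1
  simp only [Matrix.mul_apply, Fin.sum_univ_two] at E00 E01 E10 E11 F00 F01 F10 F11
  ext i j
  fin_cases i <;> fin_cases j <;> simp only [Matrix.mul_apply, Fin.sum_univ_two, Fin.zero_eta,
    Fin.mk_one, Fin.isValue] <;> rcases hB with hB | hB | hB <;> grind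

theorem sl_nonscalar {F : Type*} [Field F] [CharP F 2]
    (B : Matrix.SpecialLinearGroup (Fin 2) F) (hB : B ≠ 1) :
    B.1 0 1 ≠ 0 ∨ B.1 1 0 ≠ 0 ∨ B.1 0 0 ≠ B.1 1 1 := by
  by_contra hcon
  push Not at hcon
  obtain ⟨h01, h10, h00⟩ := hcon
  apply hB
  have hdet := B.2
  rw [Matrix.det_fin_two, h01, h10, ← h00] at hdet
  have h2 : (2 : F) = 0 := CharP.ofNat_eq_zero F 2
  have h3 : (B.1 0 0 + 1) ^ 2 = 0 := by
    have : (B.1 0 0 + 1) ^ 2 = B.1 0 0 * B.1 0 0 - 0 * 0 + 2 * B.1 0 0 + 1 + (2 : F) * 0 - 0 := by ring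
    rw [this, hdet, h2]; ring_nf
    rw [show (2 : F) = 0 from h2]
  have h4 : B.1 0 0 + 1 = 0 := by
    exact pow_eq_zero_iff (two_ne_zero) |>.1 h3
  have h5 : B.1 0 0 = 1 := by
    have : B.1 0 0 = -1 := eq_neg_of_add_eq_zero_left h4
    rw [this]
    have : (-1 : F) = 1 := by
      rw [neg_eq_iff_add_eq_zero]
      have : (1 : F) + 1 = 2 := by norm_num
      rw [this, h2]
    exact this
  ext i j
  fin_cases i <;> fin_cases j
  · simpa using h5
  · simpa using h01
  · simpa using h10
  · simp only [Fin.mk_one, Fin.isValue, Matrix.SpecialLinearGroup.coe_one, Matrix.one_apply_eq]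
    rw [← h00]; exact h5

theorem sl_ct {F : Type*} [Field F] [CharP F 2]
    (a b c : Matrix.SpecialLinearGroup (Fin 2) F) (hb : b ≠ 1)
    (hab : a * b = b * a) (hbc : b * c = c * b) : a * c = c * a := by
  apply Subtype.ext
  have h1 : a.1 * b.1 = b.1 * a.1 := congrArg Subtype.val hab
  have h2 : b.1 * c.1 = c.1 * b.1 := congrArg Subtype.val hbc
  exact mat_ct a.1 b.1 c.1 (sl_nonscalar b hb) h1 h2

theorem center_eq_bot {F : Type*} [Field F] [CharP F 2] :
    Subgroup.center (Matrix.SpecialLinearGroup (Fin 2) F) = ⊥ := by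
  rw [Subgroup.eq_bot_iff_forall]
  intro A hA
  by_contra hA1
  have hns := sl_nonscalar A hA1
  rw [Matrix.SpecialLinearGroup.mem_center_iff] at hA
  obtain ⟨r, -, hr⟩ := hA
  have h01 : A.1 0 1 = 0 := by rw [← hr]; simp
  have h10 : A.1 1 0 = 0 := by rw [← hr]; simp
  have h00 : A.1 0 0 = A.1 1 1 := by rw [← hr]; simp
  rcases hns with h | h | h
  · exact h h01
  · exact h h10
  · exact h h00

theorem psl_ct {F : Type*} [Field F] [CharP F 2]
    (a b c : Matrix.ProjectiveSpecialLinearGroup (Fin 2) F) (ha : a ≠ 1) (hb : b ≠ 1) (hc : c ≠ 1)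
    (hab : a * b = b * a) (hbc : b * c = c * b) : a * c = c * a := by
  obtain ⟨a, rfl⟩ := QuotientGroup.mk_surjective a
  obtain ⟨b, rfl⟩ := QuotientGroup.mk_surjective b
  obtain ⟨c, rfl⟩ := QuotientGroup.mk_surjective c
  have hinj : ∀ u v : Matrix.SpecialLinearGroup (Fin 2) F,
      (QuotientGroup.mk u : Matrix.ProjectiveSpecialLinearGroup (Fin 2) F) = QuotientGroup.mk v →
      u = v := by
    intro u v h
    rw [QuotientGroup.eq, center_eq_bot, Subgroup.mem_bot, inv_mul_eq_one] at h
    exact h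
  have hb1 : b ≠ 1 := by
    intro h; apply hb; rw [h]; rfl
  have hab' : a * b = b * a := hinj _ _ (by simpa using hab)
  have hbc' : b * c = c * b := hinj _ _ (by simpa using hbc)
  have := sl_ct a b c hb1 hab' hbc'
  rw [← QuotientGroup.mk_mul, ← QuotientGroup.mk_mul, this]

theorem result (n : ℕ) (hn : 2 ≤ n)
    (x : Matrix.ProjectiveSpecialLinearGroup (Fin 2) (GaloisField 2 n)) :
    Cfsg.IsTISubset (Subgroup.centralizer ({x} : Set (Matrix.ProjectiveSpecialLinearGroup (Fin 2) (GaloisField 2 n))) :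
      Set (Matrix.ProjectiveSpecialLinearGroup (Fin 2) (GaloisField 2 n))) := by
  have : Fact (Nat.Prime 2) := ⟨Nat.prime_two⟩
  exact ti_of_ct (fun a b c ha hb hc hab hbc => psl_ct a b c ha hb hc hab hbc) x

end Cfsg.Agent.S4065
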