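import Cfsg.Statements.S4066
import Mathlib
import Cfsg.Agent.Lib.Helper67.BaerSuzuki

set_option autoImplicit false
open Cfsg

namespace Cfsg.Agent.S4066

open Cfsg.Agent.Helper67

/-- An abelian-generated normal `p`-subgroup: the closure of the `H`-conjugates of a `p`-element
`u`, when these pairwise commute, is a `p`-group normalized by `H`. -/
theorem closure_conj_isPGroup {G : Type*} [Group G] {p : ℕ} (H : Subgroup G) (u : G) (k : ℕ)
    (huk : u ^ (p ^ k) = 1)
    (hcomm : ∀ h ∈ H, (h * u * h⁻¹) * u = u * (h * u * h⁻¹)) :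
    IsPGroup p (Subgroup.closure {s : G | ∃ h ∈ H, s = h * u * h⁻¹}) ∧
    H ≤ Subgroup.normalizer ((Subgroup.closure {s : G | ∃ h ∈ H, s = h * u * h⁻¹} : Subgroup G) : Set G) := by
  set S : Set G := {s : G | ∃ h ∈ H, s = h * u * h⁻¹} with hS
  set A := Subgroup.closure S with hA
  have hSS : ∀ s ∈ S, ∀ t ∈ S, s * t = t * s := by
    rintro s ⟨h1, hh1, rfl⟩ t ⟨h2, hh2, rfl⟩
    have := hcomm (h1⁻¹ * h2) (mul_mem (inv_mem hh1) hh2)
    have e := congrArg (fun w => h1 * w * h1⁻¹) this
    simp only [mul_assoc, mul_inv_rev, inv_inv] at e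
    simp only [mul_assoc]
    have e' : h1 * (h1⁻¹ * (h2 * (u * (h2⁻¹ * (h1 * (u * h1⁻¹)))))) =
        h1 * (u * (h1⁻¹ * (h2 * (u * (h2⁻¹ * (h1 * h1⁻¹)))))) := e
    simp only [mul_inv_cancel_left, mul_inv_cancel, mul_one] at e'
    rw [← e']
  have h1 : A ≤ Subgroup.centralizer S := by
    rw [hA, Subgroup.closure_le]
    intro s hs
    rw [SetLike.mem_coe, Subgroup.mem_centralizer_iff]
    intro t ht
    exact hSS t ht s hs
  have h2 : S ⊆ Subgroup.centralizer (A : Set G) := by
    intro s hs
    rw [SetLike.mem_coe, Subgroup.mem_centralizer_iff]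
    intro a ha
    exact (Subgroup.mem_centralizer_iff.1 (h1 ha) s hs).symm
  have h3 : A ≤ Subgroup.centralizer (A : Set G) := by
    rw [hA, Subgroup.closure_le]; exact h2
  have hAcomm : ∀ a ∈ A, ∀ b ∈ A, Commute a b := by
    intro a ha b hb
    exact (Subgroup.mem_centralizer_iff.1 (h3 hb) a ha)
  have hpow : ∀ a ∈ A, a ^ (p ^ k) = 1 := by
    intro a ha
    induction ha using Subgroup.closure_induction with
    | mem x hx =>
      obtain ⟨h, -, rfl⟩ := hx
      have e1 := map_pow (MulAut.conj h) u (p ^ k)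
      simp only [MulAut.conj_apply] at e1
      rw [← e1, huk]; simp
    | one => simp
    | mul x y hx hy hx1 hy1 =>
      rw [(hAcomm x hx y hy).mul_pow, hx1, hy1, one_mul]
    | inv x hx hx1 => rw [inv_pow, hx1, inv_one]
  refine ⟨?_, ?_⟩
  · intro a
    refine ⟨k, ?_⟩
    apply Subtype.ext
    simp only [Subgroup.coe_pow, Subgroup.coe_one]
    exact hpow a a.2
  · rw [Subgroup.le_normalizer_iff]
    intro h hh a ha
    induction ha using Subgroup.closure_induction with
    | mem x hx =>
      obtain ⟨h', hh', rfl⟩ := hx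
      apply Subgroup.subset_closure
      exact ⟨h * h', mul_mem hh hh', by simp [mul_assoc]⟩
    | one => simp
    | mul x y _ _ hx1 hy1 =>
      have : h * (x * y) * h⁻¹ = (h * x * h⁻¹) * (h * y * h⁻¹) := by simp [mul_assoc]
      rw [this]; exact mul_mem hx1 hy1
    | inv x _ hx1 =>
      have : h * x⁻¹ * h⁻¹ = (h * x * h⁻¹)⁻¹ := by simp [mul_assoc]
      rw [this]; exact inv_mem hx1

/-- Let G be a finite group in which the centralizer of every element meets each of its conjugates by elements outside its normalizer trivially. Then any two distinct Sylow p-subgroups of G, for any prime p, intersect trivially. -/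
theorem result {G : Type*} [Group G] [Finite G] (hTI : ∀ x : G, Cfsg.IsTISubset (Subgroup.centralizer ({x} : Set G) : Set G))
    {p : ℕ} [Fact p.Prime] (P Q : Sylow p G) (hPQ : P ≠ Q) : (P : Subgroup G) ⊓ (Q : Subgroup G) = ⊥ := by
  rw [eq_bot_iff]
  intro y hy
  rw [Subgroup.mem_bot]
  by_contra hy1
  obtain ⟨hyP, hyQ⟩ := Subgroup.mem_inf.1 hy
  apply hPQ
  -- a nontrivial central element of P
  have hPnt : Nontrivial (P : Subgroup G) := ⟨⟨⟨y, hyP⟩, 1, fun h => hy1 (congrArg Subtype.val h)⟩⟩
  have hcen := IsPGroup.center_nontrivial P.isPGroup'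
  obtain ⟨⟨z', hz'⟩, hz'1⟩ := exists_ne (1 : Subgroup.center (P : Subgroup G))
  set z : G := (z' : G) with hz
  have hz1 : z ≠ 1 := by
    intro h
    apply hz'1
    apply Subtype.ext
    apply Subtype.ext
    exact h
  have hzP : ∀ u ∈ (P : Subgroup G), u * z = z * u := by
    intro u hu
    have := Subgroup.mem_center_iff.1 hz' ⟨u, hu⟩
    have h2 := congrArg Subtype.val this
    simpa using h2
  set H := Subgroup.centralizer ({z} : Set G) with hH
  have hPH : (P : Subgroup G) ≤ H := by
    intro u hu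
    rw [hH, Subgroup.mem_centralizer_iff]
    intro w hw
    rw [Set.mem_singleton_iff] at hw
    rw [hw]; exact (hzP u hu).symm
  obtain ⟨g, hg⟩ := MulAction.exists_smul_eq G P Q
  have hQcj : (Q : Subgroup G) = cj g (P : Subgroup G) := by rw [← hg, sylow_smul_coe]
  have hgN : g ∈ Subgroup.normalizer (H : Set G) := by
    by_contra hgN
    have hx : g⁻¹ * y * g ∈ (P : Subgroup G) := by
      rw [hQcj, mem_cj] at hyQ; exact hyQ
    have := hTI z g hgN (g⁻¹ * y * g) (hPH hx) (by
      have : g * (g⁻¹ * y * g) * g⁻¹ = y := by simp [mul_assoc]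
      rw [this]; exact hPH hyP)
    apply hy1
    have h2 : g * (g⁻¹ * y * g) * g⁻¹ = g * 1 * g⁻¹ := by rw [this]
    simpa [mul_assoc] using h2
  have hQH : (Q : Subgroup G) ≤ H := by
    rw [hQcj]
    calc cj g (P : Subgroup G) ≤ cj g H := cj_mono hPH
      _ = H := cj_eq_self_of_mem_normalizer hgN
  -- P ≤ Q
  have hPleQ : (P : Subgroup G) ≤ (Q : Subgroup G) := by
    intro u hu
    by_cases hu1 : u = 1
    · rw [hu1]; exact one_mem _
    -- H normalizes C(u)
    have hHN : ∀ h ∈ H, h ∈ Subgroup.normalizer ((Subgroup.centralizer ({u} : Set G) : Subgroup G) : Set G) := by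
      intro h hh
      by_contra hcon
      have hzCu : z ∈ Subgroup.centralizer ({u} : Set G) := by
        rw [Subgroup.mem_centralizer_iff]
        intro w hw
        rw [Set.mem_singleton_iff] at hw
        rw [hw]; exact hzP u hu
      have hhz : h * z * h⁻¹ = z := by
        have := Subgroup.mem_centralizer_iff.1 hh z rfl
        rw [← this]; simp
      exact hz1 (hTI u h hcon z hzCu (by rw [hhz]; exact hzCu))
    have hcomm : ∀ h ∈ H, (h * u * h⁻¹) * u = u * (h * u * h⁻¹) := by
      intro h hh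
      have h1 := hHN h⁻¹ (inv_mem hh)
      have hu_mem : u ∈ Subgroup.centralizer ({u} : Set G) := by
        rw [Subgroup.mem_centralizer_iff]
        intro w hw
        rw [Set.mem_singleton_iff] at hw
        rw [hw]
      have h2 := (Subgroup.mem_normalizer_iff.1 h1 u).1 hu_mem
      rw [inv_inv, Subgroup.mem_centralizer_iff] at h2
      have h3 : u * (h⁻¹ * u * h) = h⁻¹ * u * h * u := h2 u rfl
      have h4 := congrArg (fun w => h * w * h⁻¹) h3
      simp only [mul_assoc] at h4
      simp only [mul_assoc]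
      have h5 : h * (u * (h⁻¹ * (u * (h * h⁻¹)))) = h * (h⁻¹ * (u * (h * (u * h⁻¹)))) := h4
      simp only [mul_inv_cancel, mul_one, mul_inv_cancel_left] at h5
      exact h5
    obtain ⟨k, hk⟩ := (IsPGroup.iff_orderOf.1 P.isPGroup') ⟨u, hu⟩
    rw [← Subgroup.orderOf_coe] at hk
    simp only at hk
    have huk : u ^ (p ^ k) = 1 := by rw [← hk]; exact pow_orderOf_eq_one u
    obtain ⟨hAp, hAN⟩ := closure_conj_isPGroup (p := p) H u k huk hcomm
    set A := Subgroup.closure {s : G | ∃ h ∈ H, s = h * u * h⁻¹} with hA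
    have huA : u ∈ A := Subgroup.subset_closure ⟨1, one_mem _, by simp⟩
    have hQA : (Q : Subgroup G) ≤ Subgroup.normalizer (A : Set G) := hQH.trans hAN
    have hsup := IsPGroup.to_sup_of_normal_right' Q.isPGroup' hAp hQA
    have hmax := Q.is_maximal' hsup le_sup_left
    have : u ∈ (Q : Subgroup G) ⊔ A := (le_sup_right : A ≤ _) huA
    rw [hmax] at this
    exact this
  have hcard : Nat.card (Q : Subgroup G) ≤ Nat.card (P : Subgroup G) := by
    rw [hQcj]
    unfold cj
    rw [Subgroup.card_map_of_injective (MulAut.conj g).injective]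
  exact Sylow.ext (Subgroup.eq_of_le_of_card_ge hPleQ hcard)

end Cfsg.Agent.S4066
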