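import Cfsg.Statements.S4067
import Cfsg.Agent.Lib.Helper67.ClassTwoMain
import Cfsg.Agent.Lib.Helper79.Integrality
import Cfsg.Agent.Lib.Helper80.CharBasic
import Cfsg.Agent.Lib.Helper74.LinChar

set_option autoImplicit false
open Cfsg

namespace Cfsg.Agent.S4067

open Cfsg.Agent.Helper67 Cfsg.Agent.Helper67.ClassTwo
open scoped commutatorElement

/-- The number of automorphism orbits is at most the class number. -/
theorem card_orbits_le_card_classes {G : Type*} [Group G] [Finite G] :
    Nat.card (MulAction.orbitRel.Quotient (MulAut G) G) ≤ Nat.card (ConjClasses G) := by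
  let f : ConjClasses G → MulAction.orbitRel.Quotient (MulAut G) G :=
    Quotient.map' id (by
      intro a b hab
      change IsConj a b at hab
      rw [isConj_iff] at hab
      obtain ⟨c, hc⟩ := hab
      change MulAction.orbitRel (MulAut G) G a b
      rw [MulAction.orbitRel_apply]
      refine ⟨(MulAut.conj c)⁻¹, ?_⟩
      simp only [MulAut.smul_def, MulAut.conj_inv_apply]
      rw [← hc]; group)
  have hf : Function.Surjective f := by
    intro q
    induction q using Quotient.inductionOn' with
    | h a => exact ⟨ConjClasses.mk a, rfl⟩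
  exact Nat.card_le_card_of_surjective f hf

/-- character-degree count: either `k(G) * p ≤ |G|` or `|G'| ≤ p`. -/
theorem classes_mul_le_or {G : Type*} [Group G] [Finite G] :
    Nat.card (ConjClasses G) * (Nat.card G).minFac ≤ Nat.card G ∨
      Nat.card (commutator G) ≤ (Nat.card G).minFac := by
  classical
  letI : Fintype G := Fintype.ofFinite G
  set p := (Nat.card G).minFac with hp
  set N := Nat.card G with hN
  have hsum := Helper79.sum_sq_degree_nat (G := G)
  have hk := Helper80.card_irr (G := G)
  have hL := Helper74.Lin.card_linear (G := G)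
  -- pointwise lower bound
  have hpt : ∀ χ : IrrCharacter G,
      (if charDegree (χ : G → ℂ) = 1 then 1 else p ^ 2) ≤
        (charDegree (χ : G → ℂ)) ^ 2 := by
    intro χ
    by_cases h1 : charDegree (χ : G → ℂ) = 1
    · rw [if_pos h1, h1]; norm_num
    · rw [if_neg h1]
      have hd := Helper79.irr_degree_dvd_card χ
      have hpos := (Helper79.irr_one_eq χ).2
      have : p ≤ charDegree (χ : G → ℂ) :=
        Nat.minFac_le_of_dvd (by omega) hd
      exact Nat.pow_le_pow_left this 2
  have hle : ∑ χ : IrrCharacter G, (if charDegree (χ : G → ℂ) = 1 then 1 else p ^ 2) ≤ N := by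
    rw [hN, ← hsum]
    exact Finset.sum_le_sum (fun χ _ => hpt χ)
  rw [Finset.sum_ite, Finset.sum_const, Finset.sum_const, smul_eq_mul, smul_eq_mul, mul_one] at hle
  set A := (Finset.univ.filter (fun χ : IrrCharacter G => charDegree (χ : G → ℂ) = 1)).card
    with hA
  set B := (Finset.univ.filter (fun χ : IrrCharacter G => ¬ charDegree (χ : G → ℂ) = 1)).card
    with hB
  have hAB : A + B = Nat.card (ConjClasses G) := by
    rw [← hk, Nat.card_eq_fintype_card, ← Finset.card_univ]
    exact Finset.card_filter_add_card_filter_not _
  have hAL : A = (commutator G).index := by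
    rw [← hL, Nat.card_eq_fintype_card, Fintype.card_subtype, hA]
    apply congrArg Finset.card
    ext χ
    simp only [Finset.mem_filter, Finset.mem_univ, true_and]
    rw [(Helper79.irr_one_eq χ).1]
    constructor
    · intro h; rw [h]; simp
    · intro h; exact_mod_cast h
  have hNA : A * Nat.card (commutator G) = N := by
    rw [hAL, mul_comm]; exact Subgroup.card_mul_index _
  by_contra hcon
  push Not at hcon
  obtain ⟨h2, h3⟩ := hcon
  rw [← hAB] at h2
  have hG1 : N ≠ 1 := by
    intro h1
    have hp1 : p = 1 := by rw [hp, h1]; exact Nat.minFac_one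
    rw [hp1] at h3
    have hc1 : Nat.card (commutator G) = 1 := by
      have : Nat.card (commutator G) ∣ N := Subgroup.card_subgroup_dvd_card _
      rw [h1] at this
      exact Nat.dvd_one.1 this
    omega
  have hpp : p.Prime := Nat.minFac_prime hG1
  have hp2 : 2 ≤ p := hpp.two_le
  have h4 : A * (p + 1) ≤ N := by
    rw [← hNA]
    exact Nat.mul_le_mul_left _ h3
  -- p * N < p^2 * A + p^2 * B ≤ p^2 * A + N - A
  have h5 : p * N < p ^ 2 * A + B * p ^ 2 := by
    have := Nat.mul_lt_mul_of_pos_left h2 hpp.pos
    calc p * N < p * ((A + B) * p) := this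
      _ = p ^ 2 * A + B * p ^ 2 := by ring
  have h6 : (p - 1) * (A * (p + 1)) ≤ (p - 1) * N := Nat.mul_le_mul_left _ h4
  obtain ⟨q, hq⟩ : ∃ q, p = q + 2 := ⟨p - 2, by omega⟩
  have e1 : p - 1 = q + 1 := by omega
  rw [e1] at h6
  rw [hq] at h5 h6 hle
  nlinarith [h5, h6, hle]

/-- Let G be a finite non-abelian group and p the least prime dividing its order. Then the automorphism group of G has at most #G/p orbits on G. -/
theorem result {G : Type*} [Group G] [Finite G] (hna : ¬ IsMulCommutative G) :
    Nat.card (MulAction.orbitRel.Quotient (MulAut G) G) ≤ Nat.card G / (Nat.card G).minFac := by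
  have hna' : ∃ x y : G, x * y ≠ y * x := by
    by_contra hcon
    push Not at hcon
    exact hna ⟨⟨hcon⟩⟩
  have hppos : 0 < (Nat.card G).minFac := Nat.minFac_pos _
  rw [Nat.le_div_iff_mul_le hppos]
  rcases classes_mul_le_or (G := G) with h1 | h1
  · exact le_trans (Nat.mul_le_mul_right _ card_orbits_le_card_classes) h1
  · apply main_of_card_commutator hna'
    apply le_antisymm h1
    -- the commutator subgroup is nontrivial and its order divides |G|
    have hd : Nat.card (commutator G) ∣ Nat.card G := Subgroup.card_subgroup_dvd_card _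
    have hne1 : Nat.card (commutator G) ≠ 1 := by
      intro hc1
      obtain ⟨x, y, hxy⟩ := hna'
      apply hxy
      have hbot : commutator G = ⊥ := Subgroup.card_eq_one.1 hc1
      have hmem : ⁅x, y⁆ ∈ commutator G := by
        rw [commutator_def]
        exact Subgroup.commutator_mem_commutator (Subgroup.mem_top x) (Subgroup.mem_top y)
      rw [hbot, Subgroup.mem_bot, commutatorElement_eq_one_iff_mul_comm] at hmem
      exact hmem
    exact Nat.minFac_le_of_dvd (by
      have : 0 < Nat.card (commutator G) := Nat.card_pos
      omega) hd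

end Cfsg.Agent.S4067
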