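-- Statement S4068 (helper52): a non-solvable finite group with exactly four Aut(G)-orbits is A5.
-- Proof: Burnside p^a q^b (Helper3) gives three primes, so every element has prime order, so all
-- centralizers are p-groups (a CN-group).  Odd order is excluded by the CN theorem S0183; in even order
-- the involution centralizers are elementary abelian, so S1230 gives PSL(2, 2^n); the spectrum S2475
-- forces 2^n - 1 and 2^n + 1 prime, so n = 2 and the order is 60 (S3378.iso_A5).
import Cfsg.Statements.S4068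
import Cfsg.Agent.Lib.Helper3.CharBurnside
import Cfsg.Agent.S0183
import Cfsg.Agent.S1230
import Cfsg.Agent.S2475
import Cfsg.Agent.S3378
import Cfsg.Agent.Lib.Helper98.PSL2Card

set_option autoImplicit false
set_option linter.style.haveILetI false
open Cfsg

namespace Cfsg.Agent.S4068

/-- Every non-identity element has prime order. -/
def EPO (H : Type*) [Group H] : Prop := ∀ g : H, g ≠ 1 → (orderOf g).Prime

theorem EPO.pow_eq_one {H : Type*} [Group H] (h : EPO H) {g c : H} (hg : g ≠ 1)
    (hc : g * c = c * g) : c ^ orderOf g = 1 := by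
  have hp : (orderOf g).Prime := h g hg
  by_cases hc1 : c = 1
  · rw [hc1, one_pow]
  have hq : (orderOf c).Prime := h c hc1
  by_cases hqp : orderOf c = orderOf g
  · rw [← hqp]; exact pow_orderOf_eq_one c
  exfalso
  have hcop : Nat.Coprime (orderOf g) (orderOf c) := (Nat.coprime_primes hp hq).mpr (Ne.symm hqp)
  have hcomm : Commute g c := hc
  have hord := hcomm.orderOf_mul_eq_mul_orderOf_of_coprime hcop
  have hne : g * c ≠ 1 := by
    intro h1
    apply hqp
    have h2 : c = g⁻¹ := eq_inv_of_mul_eq_one_right h1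
    rw [h2, orderOf_inv]
  have hpr := h _ hne
  rw [hord] at hpr
  exact Nat.not_prime_mul hp.ne_one hq.ne_one hpr

theorem EPO.cn {H : Type*} [Group H] [Finite H] (h : EPO H) : Cfsg.IsCNGroup H := by
  intro g hg
  have hp : (orderOf g).Prime := h g hg
  haveI : Fact (orderOf g).Prime := ⟨hp⟩
  have hP : IsPGroup (orderOf g) (Subgroup.centralizer ({g} : Set H)) := by
    intro c
    refine ⟨1, ?_⟩
    rw [pow_one]
    have hc : g * (c : H) = (c : H) * g := by
      have h1 := c.2
      rw [Subgroup.mem_centralizer_iff] at h1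
      exact h1 g (Set.mem_singleton g)
    apply Subtype.ext
    rw [Subgroup.coe_pow, Subgroup.coe_one]
    exact h.pow_eq_one hg hc
  exact hP.isNilpotent

theorem EPO.subgroup {H : Type*} [Group H] (h : EPO H) (K : Subgroup H) : EPO K := by
  intro g hg
  rw [← Subgroup.orderOf_coe]
  apply h
  intro h1
  apply hg
  exact Subtype.ext h1

theorem EPO.quotient {H : Type*} [Group H] (h : EPO H) (N : Subgroup H) [N.Normal] : EPO (H ⧸ N) := by
  intro x hx
  obtain ⟨g, rfl⟩ := QuotientGroup.mk_surjective x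
  have hg : g ≠ 1 := by
    rintro rfl
    exact hx rfl
  have hp := h g hg
  have hdvd : orderOf (QuotientGroup.mk' N g) ∣ orderOf g := orderOf_map_dvd _ g
  rcases (Nat.dvd_prime hp).mp hdvd with h1 | h1
  · exfalso
    rw [orderOf_eq_one_iff] at h1
    exact hx h1
  · change (orderOf (QuotientGroup.mk' N g)).Prime
    rw [h1]; exact hp

theorem EPO.of_mulEquiv {H K : Type*} [Group H] [Group K] (h : EPO H) (e : K ≃* H) : EPO K := by
  intro g hg
  rw [← MulEquiv.orderOf_eq e g]
  apply h
  intro h1
  apply hg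
  exact e.injective (by rw [h1, map_one])

theorem solvable_of_odd_epo {H : Type*} [Group H] [Finite H] (h : EPO H) (hodd : Odd (Nat.card H)) :
    Group.IsSolvable H :=
  Cfsg.Agent.S0183.result hodd h.cn

theorem exists_three_primes {n : ℕ} (hn : 1 < n)
    (h : ∀ p q a b : ℕ, p.Prime → q.Prime → n ≠ p ^ a * q ^ b) :
    ∃ p q r : ℕ, p.Prime ∧ q.Prime ∧ r.Prime ∧ p ≠ q ∧ p ≠ r ∧ q ≠ r ∧ p ∣ n ∧ q ∣ n ∧ r ∣ n := by
  have hn0 : n ≠ 0 := by omega
  obtain ⟨p, hpp, hpn⟩ : ∃ p, p.Prime ∧ p ∣ n :=
    ⟨n.minFac, Nat.minFac_prime (by omega), Nat.minFac_dvd n⟩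
  obtain ⟨a, m, hpm, hnm⟩ := Nat.exists_eq_pow_mul_and_not_dvd hn0 p hpp.ne_one
  have hm1 : m ≠ 1 := by
    rintro rfl
    exact h p 2 a 0 hpp Nat.prime_two (by rw [hnm]; simp)
  have hm0 : m ≠ 0 := by
    rintro rfl
    apply hn0
    rw [hnm, mul_zero]
  obtain ⟨q, hqp, hqm'⟩ : ∃ q, q.Prime ∧ q ∣ m :=
    ⟨m.minFac, Nat.minFac_prime hm1, Nat.minFac_dvd m⟩
  obtain ⟨b, m', hqm, hmm⟩ := Nat.exists_eq_pow_mul_and_not_dvd hm0 q hqp.ne_one
  have hm'1 : m' ≠ 1 := by
    rintro rfl
    exact h p q a b hpp hqp (by rw [hnm, hmm, mul_one])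
  obtain ⟨r, hrp, hrm'⟩ : ∃ r, r.Prime ∧ r ∣ m' :=
    ⟨m'.minFac, Nat.minFac_prime hm'1, Nat.minFac_dvd m'⟩
  have hm'm : m' ∣ m := ⟨q ^ b, by rw [hmm]; ring⟩
  have hmn : m ∣ n := ⟨p ^ a, by rw [hnm]; ring⟩
  refine ⟨p, q, r, hpp, hqp, hrp, ?_, ?_, ?_, hpn, hqm'.trans hmn, (hrm'.trans hm'm).trans hmn⟩
  · rintro rfl; exact hpm hqm'
  · rintro rfl; exact hpm (hrm'.trans hm'm)
  · rintro rfl; exact hqm hrm'

theorem epo_of_orbits {G : Type*} [Group G] [Finite G] (hns : ¬ Group.IsSolvable G)
    (h4 : Nat.card (MulAction.orbitRel.Quotient (MulAut G) G) = 4) : EPO G := by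
  classical
  have hn1 : 1 < Nat.card G := by
    by_contra hle
    have h1 : Nat.card G = 1 := by
      have := Nat.card_pos (α := G)
      omega
    apply hns
    haveI : Subsingleton G := (Nat.card_eq_one_iff_unique.mp h1).1
    infer_instance
  obtain ⟨p, q, r, hp, hq, hr, hpq, hpr, hqr, hpn, hqn, hrn⟩ :=
    exists_three_primes hn1 (fun p q a b hp hq hcard =>
      hns (Cfsg.Agent.Helper3.burnside_paqb p q a b hp hq hcard))
  haveI := Fact.mk hp
  haveI := Fact.mk hq
  haveI := Fact.mk hr
  obtain ⟨x1, hx1⟩ := exists_prime_orderOf_dvd_card' p hpn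
  obtain ⟨x2, hx2⟩ := exists_prime_orderOf_dvd_card' q hqn
  obtain ⟨x3, hx3⟩ := exists_prime_orderOf_dvd_card' r hrn
  haveI : Finite (MulAction.orbitRel.Quotient (MulAut G) G) := Quotient.finite _
  letI : Fintype (MulAction.orbitRel.Quotient (MulAut G) G) := Fintype.ofFinite _
  have hcard : Fintype.card (MulAction.orbitRel.Quotient (MulAut G) G) = 4 := by
    rw [← Nat.card_eq_fintype_card]; exact h4
  let ord : MulAction.orbitRel.Quotient (MulAut G) G → ℕ :=
    Quotient.lift (orderOf : G → ℕ) (by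
      intro a b hab
      have hab' : a ∈ MulAction.orbit (MulAut G) b := hab
      obtain ⟨φ, rfl⟩ := hab'
      exact MulEquiv.orderOf_eq φ b)
  have himg : (Finset.univ.image ord).card ≤ 4 := by
    calc (Finset.univ.image ord).card ≤ (Finset.univ : Finset _).card := Finset.card_image_le
      _ = 4 := by rw [Finset.card_univ, hcard]
  have hsub : ({1, p, q, r} : Finset ℕ) ⊆ Finset.univ.image ord := by
    intro m hm
    simp only [Finset.mem_insert, Finset.mem_singleton] at hm
    rw [Finset.mem_image]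
    rcases hm with rfl | rfl | rfl | rfl
    · exact ⟨Quotient.mk'' (1 : G), Finset.mem_univ _, orderOf_one⟩
    · exact ⟨Quotient.mk'' x1, Finset.mem_univ _, hx1⟩
    · exact ⟨Quotient.mk'' x2, Finset.mem_univ _, hx2⟩
    · exact ⟨Quotient.mk'' x3, Finset.mem_univ _, hx3⟩
  have hp2 := hp.two_le
  have hq2 := hq.two_le
  have hr2 := hr.two_le
  have hc4 : ({1, p, q, r} : Finset ℕ).card = 4 := by
    rw [Finset.card_insert_of_notMem, Finset.card_insert_of_notMem, Finset.card_insert_of_notMem,
      Finset.card_singleton]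
    · simp only [Finset.mem_singleton]; exact hqr
    · simp only [Finset.mem_insert, Finset.mem_singleton]; omega
    · simp only [Finset.mem_insert, Finset.mem_singleton]; omega
  have heq : ({1, p, q, r} : Finset ℕ) = Finset.univ.image ord :=
    Finset.eq_of_subset_of_card_le hsub (by rw [hc4]; exact himg)
  intro g hg
  have hmem : ord (Quotient.mk'' g) ∈ Finset.univ.image ord :=
    Finset.mem_image_of_mem _ (Finset.mem_univ _)
  rw [← heq] at hmem
  simp only [Finset.mem_insert, Finset.mem_singleton] at hmem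
  have hordg : ord (Quotient.mk'' g) = orderOf g := rfl
  rw [hordg] at hmem
  rcases hmem with h1 | h1 | h1 | h1
  · exfalso; exact hg (orderOf_eq_one_iff.mp h1)
  · rw [h1]; exact hp
  · rw [h1]; exact hq
  · rw [h1]; exact hr

theorem comm_of_sq {H : Type*} [Group H] (h : ∀ c : H, c ^ 2 = 1) (a b : H) : a * b = b * a := by
  have ha : a⁻¹ = a := inv_eq_of_mul_eq_one_right (by rw [← pow_two]; exact h a)
  have hb : b⁻¹ = b := inv_eq_of_mul_eq_one_right (by rw [← pow_two]; exact h b)
  have hab : (a * b)⁻¹ = a * b := inv_eq_of_mul_eq_one_right (by rw [← pow_two]; exact h (a * b))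
  rw [mul_inv_rev, ha, hb] at hab
  exact hab.symm

theorem arith_q {k q : ℕ} (hk : q = 2 ^ k) (h4 : 4 ≤ q) (h1 : (q - 1).Prime) (h2 : (q + 1).Prime) :
    q = 4 := by
  have h3 : ¬ 3 ∣ q := by
    rw [hk]
    intro h
    have := Nat.Prime.dvd_of_dvd_pow Nat.prime_three h
    omega
  have hcases : q % 3 = 0 ∨ q % 3 = 1 ∨ q % 3 = 2 := by omega
  rcases hcases with h | h | h
  · exact absurd (Nat.dvd_of_mod_eq_zero h) h3
  · have hd : 3 ∣ q - 1 := by omega
    have := (Nat.prime_dvd_prime_iff_eq Nat.prime_three h1).mp hd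
    omega
  · have hd : 3 ∣ q + 1 := by omega
    have := (Nat.prime_dvd_prime_iff_eq Nat.prime_three h2).mp hd
    omega

/-- A finite non-solvable group on which its automorphism group has exactly four orbits is isomorphic to the alternating group of degree 5. -/
theorem result {G : Type*} [Group G] [Finite G] (hns : ¬ Group.IsSolvable G)
    (h4 : Nat.card (MulAction.orbitRel.Quotient (MulAut G) G) = 4) : Nonempty (G ≃* alternatingGroup (Fin 5)) := by
  classical
  have hepo : EPO G := epo_of_orbits hns h4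
  have heven : Even (Nat.card G) := by
    by_contra hodd
    rw [Nat.not_even_iff_odd] at hodd
    exact hns (solvable_of_odd_epo hepo hodd)
  haveI : Fact (Nat.Prime 2) := ⟨Nat.prime_two⟩
  obtain ⟨T⟩ : Nonempty (Sylow 2 G) := inferInstance
  have hTsolv : Group.IsSolvable (T : Subgroup G) := by
    haveI := T.2.isNilpotent
    infer_instance
  -- T is not normal
  have hnn : ¬ (T : Subgroup G).Normal := by
    intro hN
    haveI := hN
    apply hns
    have hodd : Odd (Nat.card (G ⧸ (T : Subgroup G))) := by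
      rw [← Nat.not_even_iff_odd, even_iff_two_dvd]
      have := T.not_dvd_index
      rwa [Subgroup.index] at this
    haveI : Group.IsSolvable (G ⧸ (T : Subgroup G)) :=
      solvable_of_odd_epo (hepo.quotient _) hodd
    haveI := hTsolv
    refine Group.isSolvable_of_ker_le_range (T : Subgroup G).subtype (QuotientGroup.mk' (T : Subgroup G)) ?_
    rw [QuotientGroup.ker_mk', Subgroup.range_subtype]
  -- T is not cyclic
  have hnc : ¬ IsCyclic (T : Subgroup G) := by
    intro hcyc
    apply hns
    have hmin : (Nat.card G).minFac = 2 := by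
      rw [Nat.minFac_eq_two_iff]
      exact even_iff_two_dvd.mp heven
    have hle := IsCyclic.normalizer_le_centralizer hmin hcyc
    have hodd : Odd (Nat.card (MonoidHom.transferSylow T hle).ker) := by
      rw [← Nat.not_even_iff_odd, even_iff_two_dvd]
      exact MonoidHom.not_dvd_card_ker_transferSylow T hle
    haveI : Group.IsSolvable (MonoidHom.transferSylow T hle).ker :=
      solvable_of_odd_epo (hepo.subgroup _) hodd
    haveI := hTsolv
    refine Group.isSolvable_of_ker_le_range (MonoidHom.transferSylow T hle).ker.subtype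
      (MonoidHom.transferSylow T hle) ?_
    rw [Subgroup.range_subtype]
  -- involution centralizers
  have hC : ∀ t : G, orderOf t = 2 → IsMulCommutative (Subgroup.centralizer ({t} : Set G)) ∧
      ∀ c ∈ Subgroup.centralizer ({t} : Set G), c ^ 2 = 1 := by
    intro t ht
    have ht1 : t ≠ 1 := by
      rintro rfl
      rw [orderOf_one] at ht
      omega
    have hsq : ∀ c ∈ Subgroup.centralizer ({t} : Set G), c ^ 2 = 1 := by
      intro c hc
      rw [Subgroup.mem_centralizer_iff] at hc
      have := hepo.pow_eq_one ht1 (hc t (Set.mem_singleton t))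
      rwa [ht] at this
    refine ⟨⟨⟨fun a b => ?_⟩⟩, hsq⟩
    refine comm_of_sq (fun c => ?_) a b
    apply Subtype.ext
    rw [Subgroup.coe_pow, Subgroup.coe_one]
    exact hsq c c.2
  obtain ⟨F, instF, instFF, hcardF, ⟨e⟩⟩ := Cfsg.Agent.S1230.result T hnc hnn hC
  -- the order of T
  obtain ⟨k, hk⟩ := T.2.exists_card_eq
  have hk2 : 2 ≤ k := by
    by_contra hlt
    apply hnc
    have hk01 : k = 0 ∨ k = 1 := by omega
    rcases hk01 with rfl | rfl
    · rw [pow_zero] at hk
      haveI : Subsingleton (T : Subgroup G) := (Nat.card_eq_one_iff_unique.mp hk).1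
      infer_instance
    · rw [pow_one] at hk
      exact isCyclic_of_prime_card hk
  have hq : Fintype.card F = 2 ^ k := by rw [hcardF, hk]
  have hq4 : 4 ≤ Fintype.card F := by
    rw [hq]
    calc 4 = 2 ^ 2 := by norm_num
      _ ≤ 2 ^ k := Nat.pow_le_pow_right (by norm_num) hk2
  -- characteristic 2
  obtain ⟨p, hchar⟩ := CharP.exists F
  haveI := hchar
  have hpp : p.Prime := by
    rcases CharP.char_is_prime_or_zero F p with h | h
    · exact h
    · exfalso
      subst h
      haveI : CharZero F := CharP.charP_to_charZero F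
      exact not_finite F
  have hp2 : p = 2 := by
    have hdvd : p ∣ Fintype.card F := by
      rw [← CharP.cast_eq_zero_iff F p, Nat.cast_card_eq_zero]
    rw [hq] at hdvd
    exact (Nat.prime_dvd_prime_iff_eq hpp Nat.prime_two).mp (hpp.dvd_of_dvd_pow hdvd)
  subst hp2
  have hspec := Cfsg.Agent.S2475.result (F := F) 2 hq4
  have hqeven : Even (Fintype.card F) := by
    rw [hq, Nat.even_pow]
    exact ⟨even_two, by omega⟩
  have hgcd : Nat.gcd 2 (Fintype.card F - 1) = 1 := by
    have hodd : ¬ 2 ∣ Fintype.card F - 1 := by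
      obtain ⟨m, hm⟩ := hqeven
      omega
    exact (Nat.Prime.coprime_iff_not_dvd Nat.prime_two).mpr hodd
  rw [hgcd, Nat.div_one, Nat.div_one] at hspec
  have hepoF : EPO (Matrix.ProjectiveSpecialLinearGroup (Fin 2) F) := hepo.of_mulEquiv e.symm
  have hprime_of_mem : ∀ m : ℕ, 1 < m → m ∈ Set.range
      (orderOf : Matrix.ProjectiveSpecialLinearGroup (Fin 2) F → ℕ) → m.Prime := by
    intro m hm ⟨g, hg⟩
    rw [← hg]
    apply hepoF
    rintro rfl
    rw [orderOf_one] at hg
    omega
  have h1 : (Fintype.card F - 1).Prime := by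
    apply hprime_of_mem _ (by omega)
    rw [hspec]
    exact Or.inr (Or.inl dvd_rfl)
  have h2 : (Fintype.card F + 1).Prime := by
    apply hprime_of_mem _ (by omega)
    rw [hspec]
    exact Or.inr (Or.inr dvd_rfl)
  have hq44 : Fintype.card F = 4 := arith_q hq hq4 h1 h2
  have hcardG : Nat.card G = 60 := by
    rw [Nat.card_congr e.toEquiv,
      Cfsg.Agent.Helper98.PSL2Card.card_psl2_even (F := F) hq44 (by decide)]
    norm_num
  exact Cfsg.Agent.S3378.iso_A5 hcardG hns

end Cfsg.Agent.S4068
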