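import Mathlib
import Cfsg.Statements.S4071
import Cfsg.Agent.Lib.Helper67.BaerSuzuki

set_option autoImplicit false
open Cfsg

namespace Cfsg.Agent.S4071

open Subgroup

/-- Key lemma: if `G = ⟨x⟩A` with `A` abelian normal and `x` fixed-point-free on `A`, every subgroup
containing `x` is self-normalizing. -/
theorem normalizer_le_of_mem {G : Type*} [Group G] [Finite G] (A : Subgroup G) [hAn : A.Normal]
    (x : G)
    (hgen : ∀ g : G, ∃ i : ℤ, ∃ a ∈ A, g = x ^ i * a)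
    (hfpf : ∀ a ∈ A, x * a * x⁻¹ = a → a = 1)
    (H : Subgroup G) (hxH : x ∈ H) : normalizer (H : Set G) ≤ H := by
  classical
  intro g hg
  obtain ⟨i, a, haA, rfl⟩ := hgen g
  have hxi : x ^ i ∈ H := H.zpow_mem hxH i
  -- a normalizes H
  have haN : a ∈ normalizer (H : Set G) := by
    have h1 : x ^ i ∈ normalizer (H : Set G) := le_normalizer hxi
    have h2 := (normalizer (H : Set G)).mul_mem ((normalizer (H : Set G)).inv_mem h1) hg
    rwa [inv_mul_cancel_left] at h2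
  suffices haH : a ∈ H from H.mul_mem hxi haH
  -- φ(a) = x a x⁻¹ a⁻¹
  let B : Subgroup G := H ⊓ A
  have hφA : ∀ b ∈ A, x * b * x⁻¹ * b⁻¹ ∈ A := fun b hb =>
    A.mul_mem (hAn.conj_mem b hb x) (A.inv_mem hb)
  have hφB : ∀ b ∈ B, x * b * x⁻¹ * b⁻¹ ∈ B := by
    intro b hb
    have hb' := Subgroup.mem_inf.1 hb
    exact Subgroup.mem_inf.2 ⟨H.mul_mem (H.mul_mem (H.mul_mem hxH hb'.1) (H.inv_mem hxH))
      (H.inv_mem hb'.1), hφA b hb'.2⟩
  have hφinj : ∀ b ∈ A, ∀ c ∈ A, x * b * x⁻¹ * b⁻¹ = x * c * x⁻¹ * c⁻¹ → b = c := by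
    intro b hb c hc h
    have h1 : x * (c⁻¹ * b) * x⁻¹ = c⁻¹ * b := by
      have e1 : x * (c⁻¹ * b) * x⁻¹ = (x * c * x⁻¹)⁻¹ * (x * b * x⁻¹) := by group
      have e2 : x * b * x⁻¹ = x * c * x⁻¹ * c⁻¹ * b := by
        rw [← h]; group
      rw [e1, e2]
      have hcc : x * c * x⁻¹ ∈ A := hAn.conj_mem c hc x
      group
    have h2 := hfpf _ (A.mul_mem (A.inv_mem hc) hb) h1
    exact (inv_mul_eq_one.1 h2).symm
  -- a x a⁻¹ ∈ H gives φ(a) ∈ B
  have haφ : x * a * x⁻¹ * a⁻¹ ∈ B := by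
    refine Subgroup.mem_inf.2 ⟨?_, hφA a haA⟩
    have h1 : a * x⁻¹ * a⁻¹ ∈ H := (mem_normalizer_iff.1 haN x⁻¹).1 (H.inv_mem hxH)
    have h2 := H.mul_mem hxH h1
    have e : x * (a * x⁻¹ * a⁻¹) = (x * a * x⁻¹) * a⁻¹ := by group
    rw [e] at h2
    exact h2
  -- φ restricted to B is injective hence surjective
  let φ : B → B := fun b => ⟨x * b * x⁻¹ * (b : G)⁻¹, hφB b b.2⟩
  have hinj : Function.Injective φ := by
    intro b c h
    have h1 : x * b * x⁻¹ * (b : G)⁻¹ = x * c * x⁻¹ * (c : G)⁻¹ := congrArg Subtype.val h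
    exact Subtype.ext (hφinj b (Subgroup.mem_inf.1 b.2).2 c (Subgroup.mem_inf.1 c.2).2 h1)
  have hsurj : Function.Surjective φ := Finite.surjective_of_injective hinj
  obtain ⟨b, hb⟩ := hsurj ⟨_, haφ⟩
  have h3 : x * b * x⁻¹ * (b : G)⁻¹ = x * a * x⁻¹ * a⁻¹ := congrArg Subtype.val hb
  have h4 := hφinj b (Subgroup.mem_inf.1 b.2).2 a haA h3
  rw [← h4]
  exact (Subgroup.mem_inf.1 b.2).1

/-- powers of `u * a` modulo a normal subgroup -/
theorem mul_pow_mem_coset {G : Type*} [Group G] (A : Subgroup G) [hAn : A.Normal] (u a : G)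
    (ha : a ∈ A) (n : ℕ) : ∃ b ∈ A, (u * a) ^ n = u ^ n * b := by
  induction n with
  | zero => exact ⟨1, A.one_mem, by simp⟩
  | succ n ih =>
    obtain ⟨b, hb, hn⟩ := ih
    refine ⟨u⁻¹ * b * u * a, A.mul_mem ?_ ha, ?_⟩
    · have := hAn.conj_mem b hb u⁻¹
      simpa using this
    · rw [pow_succ, hn, pow_succ]; group

/-- (←) direction -/
theorem sn_of_structure {G : Type*} [Group G] [Finite G] (x : G) (A : Subgroup G) (p : ℕ)
    (hp : p.Prime) (hAn : A.Normal) (hAc : IsMulCommutative A) (hx : ∃ k : ℕ, orderOf x = p ^ k)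
    (hpA : ¬ p ∣ Nat.card A) (hcompl : (zpowers x).IsComplement' A) (hxp : x ^ p ∈ center G)
    (hfpf : ∀ a : G, a ∈ A → a ≠ 1 → x * a * x⁻¹ ≠ a) :
    ∀ H : Subgroup G, ¬ IsMulCommutative H → normalizer (H : Set G) = H := by
  classical
  have : Fact p.Prime := ⟨hp⟩
  obtain ⟨k, hk⟩ := hx
  intro H hH
  apply le_antisymm _ le_normalizer
  have hdisj : zpowers x ⊓ A = ⊥ := hcompl.disjoint.eq_bot
  have hcard : Nat.card (zpowers x) * Nat.card A = Nat.card G := hcompl.card_mul_card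
  -- decomposition
  have hdec : ∀ g : G, ∃ i : ℕ, ∃ a ∈ A, g = x ^ i * a := by
    intro g
    obtain ⟨⟨u, a⟩, hua, -⟩ := hcompl.existsUnique g
    have hu : (u : G) ∈ Submonoid.powers x := mem_powers_iff_mem_zpowers.2 u.2
    obtain ⟨i, hi⟩ := (Submonoid.mem_powers_iff _ _).1 hu
    exact ⟨i, a, a.2, by rw [hi]; exact hua.symm⟩
  -- an element of H outside ⟨x^p⟩A
  obtain ⟨h, hhH, i, a, haA, hhia, hpi⟩ : ∃ h ∈ H, ∃ i : ℕ, ∃ a ∈ A, h = x ^ i * a ∧ ¬ p ∣ i := by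
    by_contra hcon
    push Not at hcon
    apply hH
    refine ⟨⟨fun h₁ h₂ => ?_⟩⟩
    obtain ⟨i₁, a₁, ha₁, e₁⟩ := hdec h₁
    obtain ⟨i₂, a₂, ha₂, e₂⟩ := hdec h₂
    obtain ⟨j₁, rfl⟩ := hcon h₁ h₁.2 i₁ a₁ ha₁ e₁
    obtain ⟨j₂, rfl⟩ := hcon h₂ h₂.2 i₂ a₂ ha₂ e₂
    have hc₁ : x ^ (p * j₁) ∈ center G := by rw [pow_mul]; exact Subgroup.pow_mem _ hxp j₁
    have hc₂ : x ^ (p * j₂) ∈ center G := by rw [pow_mul]; exact Subgroup.pow_mem _ hxp j₂
    have haa : a₁ * a₂ = a₂ * a₁ := congrArg Subtype.val (hAc.is_comm.comm ⟨a₁, ha₁⟩ ⟨a₂, ha₂⟩)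
    apply Subtype.ext
    show (h₁ : G) * h₂ = h₂ * h₁
    rw [e₁, e₂]
    have t1 := Subgroup.mem_center_iff.1 hc₁
    have t2 := Subgroup.mem_center_iff.1 hc₂
    calc x ^ (p * j₁) * a₁ * (x ^ (p * j₂) * a₂)
        = x ^ (p * j₁) * (a₁ * x ^ (p * j₂)) * a₂ := by group
      _ = x ^ (p * j₁) * (x ^ (p * j₂) * a₁) * a₂ := by rw [t2 a₁]
      _ = x ^ (p * j₂) * x ^ (p * j₁) * (a₁ * a₂) := by
          rw [show x ^ (p * j₁) * (x ^ (p * j₂) * a₁) * a₂ =
            (x ^ (p * j₁) * x ^ (p * j₂)) * (a₁ * a₂) by group, pow_mul_comm]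
      _ = x ^ (p * j₂) * x ^ (p * j₁) * (a₂ * a₁) := by rw [haa]
      _ = x ^ (p * j₂) * (x ^ (p * j₁) * a₂) * a₁ := by group
      _ = x ^ (p * j₂) * (a₂ * x ^ (p * j₁)) * a₁ := by rw [t1 a₂]
      _ = x ^ (p * j₂) * a₂ * (x ^ (p * j₁) * a₁) := by group
  -- p^k divides the order of h
  have hpk : p ^ k ∣ orderOf h := by
    obtain ⟨b, hb, hn⟩ := mul_pow_mem_coset A (x ^ i) a haA (orderOf h)
    rw [← hhia, pow_orderOf_eq_one] at hn
    have h1 : (x ^ i) ^ orderOf h ∈ zpowers x ⊓ A := by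
      refine Subgroup.mem_inf.2 ⟨Subgroup.pow_mem _ (Subgroup.pow_mem _ (mem_zpowers x) i) _, ?_⟩
      have : (x ^ i) ^ orderOf h = b⁻¹ := eq_inv_of_mul_eq_one_left hn.symm
      rw [this]
      exact A.inv_mem hb
    rw [hdisj, Subgroup.mem_bot, ← pow_mul] at h1
    have h2 := orderOf_dvd_of_pow_eq_one h1
    rw [hk] at h2
    exact (Nat.Coprime.pow_left k ((Nat.Prime.coprime_iff_not_dvd hp).2 hpi)).dvd_of_dvd_mul_left h2
  -- Sylow subgroups
  have hcardx : Nat.card (zpowers x) = p ^ k := by rw [Nat.card_zpowers, hk]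
  have hfG : (Nat.card G).factorization p = k := by
    rw [← hcard, hcardx, Nat.factorization_mul (pow_ne_zero _ hp.ne_zero) Nat.card_pos.ne',
      Finsupp.add_apply, Nat.Prime.factorization_pow hp, Finsupp.single_eq_same,
      Nat.factorization_eq_zero_of_not_dvd hpA, add_zero]
  have hfH : (Nat.card H).factorization p = k := by
    apply le_antisymm
    · rw [← hfG]
      exact (Nat.factorization_le_iff_dvd Nat.card_pos.ne' Nat.card_pos.ne').2
        (Subgroup.card_subgroup_dvd_card H) p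
    · have h1 : p ^ k ∣ Nat.card H :=
        hpk.trans (orderOf_dvd_natCard (⟨h, hhH⟩ : H) |> (Subgroup.orderOf_mk h hhH ▸ ·))
      exact (hp.pow_dvd_iff_le_factorization Nat.card_pos.ne').1 h1
  obtain ⟨Q₀⟩ : Nonempty (Sylow p H) := inferInstance
  have hQcard : Nat.card ((Q₀ : Subgroup H).map H.subtype) = p ^ k := by
    rw [Subgroup.card_map_of_injective H.subtype_injective, Q₀.card_eq_multiplicity, hfH]
  let P₁ : Sylow p G := Sylow.ofCard (zpowers x) (by rw [hcardx, hfG])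
  let P₂ : Sylow p G := Sylow.ofCard ((Q₀ : Subgroup H).map H.subtype) (by rw [hQcard, hfG])
  obtain ⟨g, hg⟩ := MulAction.exists_smul_eq G P₁ P₂
  have hx'H : g * x * g⁻¹ ∈ H := by
    have h1 : g * x * g⁻¹ ∈ ((g • P₁ : Sylow p G) : Subgroup G) := by
      rw [Cfsg.Agent.Helper67.sylow_smul_coe]
      exact Cfsg.Agent.Helper67.conj_mem_cj (mem_zpowers x)
    rw [hg] at h1
    obtain ⟨q, -, hq⟩ := h1
    rw [← hq]
    exact q.2
  apply normalizer_le_of_mem A (g * x * g⁻¹) ?_ ?_ H hx'H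
  · intro g'
    obtain ⟨j, b, hb, e⟩ := hdec (g⁻¹ * g' * g)
    refine ⟨j, g * b * g⁻¹, hAn.conj_mem b hb g, ?_⟩
    have e' : g' = g * (g⁻¹ * g' * g) * g⁻¹ := by group
    rw [e', e, zpow_natCast, conj_pow]
    group
  · intro b hb hfix
    by_contra hb1
    apply hfpf (g⁻¹ * b * g) (by simpa using hAn.conj_mem b hb g⁻¹)
    · intro h1
      apply hb1
      have := congrArg (fun t => g * t * g⁻¹) h1
      simpa [mul_assoc] using this
    · have := congrArg (fun t => g⁻¹ * t * g) hfix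
      simp only [mul_assoc, inv_mul_cancel_left, mul_inv_rev, inv_inv, inv_mul_cancel, mul_one] at this ⊢
      exact this

/-- iterated conjugation when `x a x⁻¹ = c a` with `c` commuting with `x` -/
theorem conj_pow_eq {G : Type*} [Group G] {x a c : G} (h : x * a * x⁻¹ = c * a)
    (hc : x * c = c * x) (n : ℕ) : x ^ n * a * (x ^ n)⁻¹ = c ^ n * a := by
  induction n with
  | zero => simp
  | succ n ih =>
    have hcn : x * c ^ n * x⁻¹ = c ^ n := by
      have : Commute x (c ^ n) := Commute.pow_right hc n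
      rw [this.eq, mul_inv_cancel_right]
    calc x ^ (n + 1) * a * (x ^ (n + 1))⁻¹ = x * (x ^ n * a * (x ^ n)⁻¹) * x⁻¹ := by
          rw [pow_succ']; group
      _ = x * (c ^ n * a) * x⁻¹ := by rw [ih]
      _ = (x * c ^ n * x⁻¹) * (x * a * x⁻¹) := by group
      _ = c ^ n * (c * a) := by rw [hcn, h]
      _ = c ^ (n + 1) * a := by rw [pow_succ]; group

/-- the subgroup of elements of an abelian subgroup `M` of order prime to `p` -/
def pPrimePart {G : Type*} [Group G] (M : Subgroup G) (hM : IsMulCommutative M) (p : ℕ)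
    (hp : p.Prime) : Subgroup G where
  carrier := {a | a ∈ M ∧ ¬ p ∣ orderOf a}
  mul_mem' := by
    rintro a b ⟨ha, hpa⟩ ⟨hb, hpb⟩
    refine ⟨M.mul_mem ha hb, fun hd => ?_⟩
    have hab : Commute a b := congrArg Subtype.val (hM.is_comm.comm ⟨a, ha⟩ ⟨b, hb⟩)
    have h1 := hd.trans hab.orderOf_mul_dvd_lcm
    rcases (Nat.Prime.dvd_lcm hp).1 h1 with h | h
    · exact hpa h
    · exact hpb h
  one_mem' := ⟨M.one_mem, by rw [orderOf_one, Nat.dvd_one]; exact hp.ne_one⟩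
  inv_mem' := by
    rintro a ⟨ha, hpa⟩
    exact ⟨M.inv_mem ha, by rwa [orderOf_inv]⟩

/-- Step 1: an abelian normal subgroup of prime index. -/
theorem exists_abelian_normal_prime_index {G : Type*} [Group G] [Finite G]
    [hsol : Group.IsSolvable G] (hnt : Nontrivial G)
    (hS : ∀ H : Subgroup G, ¬ IsMulCommutative H → normalizer (H : Set G) = H) :
    ∃ M : Subgroup G, M.Normal ∧ IsMulCommutative M ∧ (M.index).Prime := by
  classical
  have hcomm_lt := Group.IsSolvable.commutator_lt_top_of_nontrivial G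
  obtain ⟨M, ⟨hMn, hMt, hcM⟩, hMmax⟩ := Set.exists_max_image
    {N : Subgroup G | N.Normal ∧ N ≠ ⊤ ∧ commutator G ≤ N} (fun N => Nat.card N) (Set.toFinite _)
    ⟨commutator G, inferInstance, hcomm_lt.ne, le_rfl⟩
  have hMc : IsMulCommutative M := by
    by_contra hc
    have h1 := hS M hc
    rw [normalizer_eq_top] at h1
    exact hMt h1.symm
  refine ⟨M, hMn, hMc, ?_⟩
  have hQc : IsMulCommutative (G ⧸ M) :=
    Subgroup.Normal.quotient_commutative_iff_commutator_le.2 hcM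
  letI : CommGroup (G ⧸ M) :=
    { (inferInstance : Group (G ⧸ M)) with mul_comm := hQc.is_comm.comm }
  have hQnt : Nontrivial (G ⧸ M) := by
    rw [← Finite.one_lt_card_iff_nontrivial, ← Subgroup.index_eq_card]
    have h1 : M.index ≠ 1 := fun h => hMt (Subgroup.index_eq_one.1 h)
    have h2 : M.index ≠ 0 := Subgroup.index_ne_zero_of_finite
    omega
  have hQs : IsSimpleGroup (G ⧸ M) := by
    refine ⟨fun H hH => ?_⟩
    have h1 : (H.comap (QuotientGroup.mk' M)).Normal := inferInstance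
    have h2 : M ≤ H.comap (QuotientGroup.mk' M) := by
      intro m hm
      show QuotientGroup.mk' M m ∈ H
      rw [QuotientGroup.mk'_apply, (QuotientGroup.eq_one_iff m).2 hm]
      exact H.one_mem
    by_cases h3 : H.comap (QuotientGroup.mk' M) = ⊤
    · right
      rw [eq_top_iff]
      intro q _
      obtain ⟨g, rfl⟩ := QuotientGroup.mk_surjective q
      have : g ∈ H.comap (QuotientGroup.mk' M) := h3 ▸ Subgroup.mem_top g
      exact this
    · left
      have h4 := hMmax _ ⟨h1, h3, hcM.trans h2⟩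
      have h5 : M = H.comap (QuotientGroup.mk' M) := Subgroup.eq_of_le_of_card_ge h2 h4
      rw [eq_bot_iff]
      intro q hq
      obtain ⟨g, rfl⟩ := QuotientGroup.mk_surjective q
      have : g ∈ M := by rw [h5]; exact hq
      rw [Subgroup.mem_bot]
      exact (QuotientGroup.eq_one_iff g).2 this
  rw [Subgroup.index_eq_card]
  exact IsSimpleGroup.prime_card


theorem mem_pPrimePart {G : Type*} [Group G] (M : Subgroup G) (hM : IsMulCommutative M) (p : ℕ)
    (hp : p.Prime) {a : G} : a ∈ pPrimePart M hM p hp ↔ a ∈ M ∧ ¬ p ∣ orderOf a := Iff.rfl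

theorem pPrimePart_le {G : Type*} [Group G] (M : Subgroup G) (hM : IsMulCommutative M) (p : ℕ)
    (hp : p.Prime) : pPrimePart M hM p hp ≤ M := fun _ ha => ha.1

theorem pPrimePart_normal {G : Type*} [Group G] (M : Subgroup G) (hM : IsMulCommutative M) (p : ℕ)
    (hp : p.Prime) (hMn : M.Normal) : (pPrimePart M hM p hp).Normal := by
  refine ⟨fun a ha g => ?_⟩
  refine ⟨hMn.conj_mem a ha.1 g, ?_⟩
  have h1 : orderOf (g * a * g⁻¹) = orderOf a := by
    have := orderOf_injective (MulAut.conj g).toMonoidHom (MulAut.conj g).injective a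
    simpa using this
  rw [h1]
  exact ha.2

theorem eq_one_of_pow_prime_pow {G : Type*} [Group G] (M : Subgroup G) (hM : IsMulCommutative M)
    (p : ℕ) (hp : p.Prime) {a : G} (ha : a ∈ pPrimePart M hM p hp) (k : ℕ)
    (h : a ^ (p ^ k) = 1) : a = 1 := by
  have h1 : orderOf a ∣ p ^ k := orderOf_dvd_of_pow_eq_one h
  have h2 : Nat.Coprime (orderOf a) (p ^ k) :=
    (Nat.Coprime.pow_right k ((Nat.Prime.coprime_iff_not_dvd hp).2 ha.2).symm)
  have h3 : orderOf a = 1 := Nat.Coprime.eq_one_of_dvd h2 h1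
  exact orderOf_eq_one_iff.1 h3

theorem not_dvd_card_pPrimePart {G : Type*} [Group G] [Finite G] (M : Subgroup G)
    (hM : IsMulCommutative M) (p : ℕ) (hp : p.Prime) :
    ¬ p ∣ Nat.card (pPrimePart M hM p hp) := by
  intro hd
  haveI : Fact p.Prime := ⟨hp⟩
  obtain ⟨a, ha⟩ := exists_prime_orderOf_dvd_card' p hd
  have h1 : orderOf (a : G) = p := by rw [Subgroup.orderOf_coe, ha]
  exact a.2.2 (by rw [h1])

theorem pow_mem_pPrimePart {G : Type*} [Group G] [Finite G] (M : Subgroup G)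
    (hM : IsMulCommutative M) (p : ℕ) (hp : p.Prime) {m : G} (hm : m ∈ M) :
    ∃ e : ℕ, m ^ (p ^ e) ∈ pPrimePart M hM p hp := by
  have hpos : orderOf m ≠ 0 := (orderOf_pos m).ne'
  obtain ⟨e, r, hr, he⟩ := Nat.exists_eq_pow_mul_and_not_dvd hpos p hp.ne_one
  refine ⟨e, M.pow_mem hm _, ?_⟩
  have h1 : orderOf (m ^ (p ^ e)) = orderOf m / p ^ e :=
    orderOf_pow_of_dvd (pow_ne_zero _ hp.ne_zero) (by rw [he]; exact dvd_mul_right _ _)
  rw [h1, he, Nat.mul_div_cancel_left _ (pow_pos hp.pos e)]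
  exact hr

/-- the subgroup `{y a y⁻¹ a⁻¹ | a ∈ A}` of an abelian normal subgroup `A` -/
def commSub {G : Type*} [Group G] (A : Subgroup G) (hAn : A.Normal)
    (hAc : ∀ a ∈ A, ∀ b ∈ A, a * b = b * a) (y : G) : Subgroup G where
  carrier := {b | ∃ a ∈ A, b = y * a * y⁻¹ * a⁻¹}
  one_mem' := ⟨1, A.one_mem, by group⟩
  mul_mem' := by
    rintro _ _ ⟨a, ha, rfl⟩ ⟨b, hb, rfl⟩
    refine ⟨a * b, A.mul_mem ha hb, ?_⟩
    have h1 : y * b * y⁻¹ ∈ A := hAn.conj_mem b hb y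
    have h2 := hAc a⁻¹ (A.inv_mem ha) (y * b * y⁻¹) h1
    have h3 := hAc a⁻¹ (A.inv_mem ha) b⁻¹ (A.inv_mem hb)
    calc y * a * y⁻¹ * a⁻¹ * (y * b * y⁻¹ * b⁻¹)
        = y * a * y⁻¹ * (a⁻¹ * (y * b * y⁻¹)) * b⁻¹ := by group
      _ = y * a * y⁻¹ * ((y * b * y⁻¹) * a⁻¹) * b⁻¹ := by rw [h2]
      _ = y * (a * b) * y⁻¹ * (a⁻¹ * b⁻¹) := by group
      _ = y * (a * b) * y⁻¹ * (b⁻¹ * a⁻¹) := by rw [h3]
      _ = y * (a * b) * y⁻¹ * (a * b)⁻¹ := by group
  inv_mem' := by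
    rintro _ ⟨a, ha, rfl⟩
    refine ⟨a⁻¹, A.inv_mem ha, ?_⟩
    have h1 : y * a⁻¹ * y⁻¹ ∈ A := hAn.conj_mem _ (A.inv_mem ha) y
    have h2 := hAc a ha _ h1
    calc (y * a * y⁻¹ * a⁻¹)⁻¹ = a * (y * a⁻¹ * y⁻¹) := by group
      _ = (y * a⁻¹ * y⁻¹) * a := h2
      _ = y * a⁻¹ * y⁻¹ * a⁻¹⁻¹ := by group

theorem mem_commSub {G : Type*} [Group G] (A : Subgroup G) (hAn : A.Normal)
    (hAc : ∀ a ∈ A, ∀ b ∈ A, a * b = b * a) (y : G) {b : G} :
    b ∈ commSub A hAn hAc y ↔ ∃ a ∈ A, b = y * a * y⁻¹ * a⁻¹ := Iff.rfl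

theorem commSub_le {G : Type*} [Group G] (A : Subgroup G) (hAn : A.Normal)
    (hAc : ∀ a ∈ A, ∀ b ∈ A, a * b = b * a) (y : G) : commSub A hAn hAc y ≤ A := by
  rintro _ ⟨a, ha, rfl⟩
  exact A.mul_mem (hAn.conj_mem a ha y) (A.inv_mem ha)

theorem zpowers_le_normalizer_commSub {G : Type*} [Group G] [Finite G] (A : Subgroup G)
    (hAn : A.Normal) (hAc : ∀ a ∈ A, ∀ b ∈ A, a * b = b * a) (y : G) :
    zpowers y ≤ normalizer ((commSub A hAn hAc y : Subgroup G) : Set G) := by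
  rw [zpowers_le]
  apply Subgroup.mem_normalizer_fintype
  rintro _ ⟨a, ha, rfl⟩
  exact ⟨y * a * y⁻¹, hAn.conj_mem a ha y, by group⟩


theorem structure_core {G : Type*} [Group G] [Finite G] (hnn : ¬ Group.IsNilpotent G)
    (hS : ∀ H : Subgroup G, ¬ IsMulCommutative H → normalizer (H : Set G) = H)
    (M A : Subgroup G) (p : ℕ) (hp : p.Prime) (hMn : M.Normal) (hMc : IsMulCommutative M)
    (hMi : M.index = p) (hAM : A ≤ M) (hAn : A.Normal)
    (hA1 : ∀ a ∈ A, ∀ k : ℕ, a ^ (p ^ k) = 1 → a = 1)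
    (hA2 : ∀ m ∈ M, ∃ e : ℕ, m ^ (p ^ e) ∈ A)
    (hpA : ¬ p ∣ Nat.card A) :
    ∃ x : G, (∃ k : ℕ, orderOf x = p ^ k) ∧ (zpowers x).IsComplement' A ∧ x ^ p ∈ center G ∧
      ∀ a : G, a ∈ A → a ≠ 1 → x * a * x⁻¹ ≠ a := by
  classical
  have : Fact p.Prime := ⟨hp⟩
  have hMcomm : ∀ a ∈ M, ∀ b ∈ M, a * b = b * a := fun a ha b hb =>
    congrArg Subtype.val (hMc.is_comm.comm ⟨a, ha⟩ ⟨b, hb⟩)
  have hAcomm : ∀ a ∈ A, ∀ b ∈ A, a * b = b * a := fun a ha b hb =>
    hMcomm a (hAM ha) b (hAM hb)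
  have hcardQ : Nat.card (G ⧸ M) = p := by rw [← Subgroup.index_eq_card, hMi]
  have hpowM : ∀ g : G, g ^ p ∈ M := by
    intro g
    have h1 : ((g : G ⧸ M)) ^ p = 1 := by rw [← hcardQ]; exact pow_card_eq_one'
    rw [← QuotientGroup.mk_pow] at h1
    exact (QuotientGroup.eq_one_iff _).1 h1
  have hQA : IsPGroup p (G ⧸ A) := by
    intro q
    obtain ⟨g, rfl⟩ := QuotientGroup.mk_surjective q
    obtain ⟨e, he⟩ := hA2 (g ^ p) (hpowM g)
    refine ⟨e + 1, ?_⟩
    rw [← QuotientGroup.mk_pow, QuotientGroup.eq_one_iff, pow_succ', pow_mul]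
    exact he
  obtain ⟨n, hn⟩ := (IsPGroup.iff_card).1 hQA
  have hAidx : A.index = p ^ n := by rw [Subgroup.index_eq_card, hn]
  have hcardG : Nat.card G = Nat.card A * p ^ n := by rw [← hAidx, Subgroup.card_mul_index]
  obtain ⟨P⟩ : Nonempty (Sylow p G) := inferInstance
  have hPcard : Nat.card P = p ^ n := by
    rw [P.card_eq_multiplicity, hcardG,
      Nat.factorization_mul Nat.card_pos.ne' (pow_ne_zero _ hp.ne_zero),
      Finsupp.add_apply, Nat.Prime.factorization_pow hp, Finsupp.single_eq_same,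
      Nat.factorization_eq_zero_of_not_dvd hpA, zero_add]
  have hcop : Nat.Coprime (Nat.card P) (Nat.card A) := by
    rw [hPcard]
    exact Nat.Coprime.pow_left n ((Nat.Prime.coprime_iff_not_dvd hp).2 hpA)
  have hPA : (P : Subgroup G) ⊓ A = ⊥ := Subgroup.inf_eq_bot_of_coprime hcop
  -- an element of P outside M
  obtain ⟨y, hyP, hyM⟩ : ∃ y ∈ (P : Subgroup G), y ∉ M := by
    by_contra hcon
    push Not at hcon
    have hPM : (P : Subgroup G) ≤ M := hcon
    have h1 := Subgroup.index_dvd_of_le hPM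
    rw [hMi] at h1
    exact P.not_dvd_index h1
  have hdecM : ∀ g : G, ∃ i : ℤ, ∃ m ∈ M, g = y ^ i * m := by
    intro g
    have hy1 : (y : G ⧸ M) ≠ 1 := fun h => hyM ((QuotientGroup.eq_one_iff y).1 h)
    have htop := zpowers_eq_top_of_prime_card hcardQ hy1
    have hg : (g : G ⧸ M) ∈ zpowers (y : G ⧸ M) := htop ▸ mem_top _
    obtain ⟨i, hi⟩ := mem_zpowers_iff.1 hg
    refine ⟨i, (y ^ i)⁻¹ * g, ?_, by group⟩
    rw [← QuotientGroup.eq_one_iff, QuotientGroup.mk_mul, QuotientGroup.mk_inv,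
      QuotientGroup.mk_zpow, hi, inv_mul_cancel]
  have hcentral : ∀ c ∈ M, y * c = c * y → c ∈ center G := by
    intro c hc hyc
    rw [Subgroup.mem_center_iff]
    intro g
    obtain ⟨i, m, hm, rfl⟩ := hdecM g
    have h1 : Commute c (y ^ i) := Commute.zpow_right (show Commute c y from hyc.symm) i
    have h2 : Commute c m := hMcomm c hc m hm
    exact ((h1.mul_right h2).eq).symm
  have hyA : ¬ ∀ a ∈ A, y * a = a * y := by
    intro hcen
    apply hnn
    have hAc : A ≤ center G := fun a ha => hcentral a (hAM ha) (hcen a ha)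
    have hk : (QuotientGroup.mk' A).ker ≤ center G := by rwa [QuotientGroup.ker_mk']
    have hQn : Group.IsNilpotent (G ⧸ A) := hQA.isNilpotent
    exact _root_.isNilpotent_of_ker_le_center (QuotientGroup.mk' A) hk
  have hKna : ¬ IsMulCommutative (zpowers y ⊔ A : Subgroup G) := by
    intro hc
    apply hyA
    intro a ha
    have := hc.is_comm.comm ⟨y, mem_sup_left (mem_zpowers y)⟩ ⟨a, mem_sup_right ha⟩
    exact congrArg Subtype.val this
  have hyP' : zpowers y ≤ (P : Subgroup G) := (zpowers_le).2 hyP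
  have hPeq : zpowers y = (P : Subgroup G) := by
    by_contra hne
    have hlt : zpowers y < (P : Subgroup G) := lt_of_le_of_ne hyP' hne
    obtain ⟨e, heP, heny, heN⟩ :=
      Cfsg.Agent.Helper67.exists_mem_normalizer_not_mem P.isPGroup' hlt
    have heK : e ∈ normalizer ((zpowers y ⊔ A : Subgroup G) : Set G) := by
      apply Subgroup.mem_normalizer_fintype
      intro k hk
      obtain ⟨u, hu, a, ha, rfl⟩ := (Subgroup.mem_sup_of_normal_right).1 hk
      have h1 : e * u * e⁻¹ ∈ zpowers y := (mem_normalizer_iff.1 heN u).1 hu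
      have h2 : e * a * e⁻¹ ∈ A := hAn.conj_mem a ha e
      have e3 : e * (u * a) * e⁻¹ = (e * u * e⁻¹) * (e * a * e⁻¹) := by group
      rw [e3]
      exact (Subgroup.mem_sup_of_normal_right).2 ⟨_, h1, _, h2, rfl⟩
    rw [hS _ hKna] at heK
    obtain ⟨u, hu, a, ha, hua⟩ := (Subgroup.mem_sup_of_normal_right).1 heK
    have ha' : a ∈ (P : Subgroup G) ⊓ A := by
      refine Subgroup.mem_inf.2 ⟨?_, ha⟩
      have : a = u⁻¹ * e := by rw [← hua]; group
      rw [this]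
      exact (P : Subgroup G).mul_mem ((P : Subgroup G).inv_mem (hyP' hu)) heP
    rw [hPA, Subgroup.mem_bot] at ha'
    rw [ha', mul_one] at hua
    exact heny (hua ▸ hu)
  have hord : orderOf y = p ^ n := by
    rw [← Nat.card_zpowers, hPeq, hPcard]
  have hyApow : ∀ a ∈ A, a ^ orderOf y = 1 → a = 1 := fun a ha h => hA1 a ha n (hord ▸ h)
  have hdisj : zpowers y ⊓ A = ⊥ := by rw [hPeq]; exact hPA
  refine ⟨y, ⟨n, hord⟩, ?_, ?_, ?_⟩
  · apply isComplement'_of_coprime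
    · rw [hPeq, hPcard, hcardG, mul_comm]
    · rw [hPeq]; exact hcop
  · exact hcentral _ (hpowM y) (pow_mul_comm' y p).symm
  · intro a₀ ha₀ hne hfix
    have hya₀ : y * a₀ = a₀ * y := mul_inv_eq_iff_eq_mul.1 hfix
    have ha₀c : a₀ ∈ center G := hcentral a₀ (hAM ha₀) hya₀
    -- H = ⟨y⟩ B
    have hBN := zpowers_le_normalizer_commSub A hAn hAcomm y
    have hHna : ¬ IsMulCommutative (zpowers y ⊔ commSub A hAn hAcomm y : Subgroup G) := by
      intro hc
      apply hyA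
      intro a ha
      have hbB : y * a * y⁻¹ * a⁻¹ ∈ commSub A hAn hAcomm y := ⟨a, ha, rfl⟩
      have hcomm : y * (y * a * y⁻¹ * a⁻¹) = (y * a * y⁻¹ * a⁻¹) * y :=
        congrArg Subtype.val (hc.is_comm.comm ⟨y, mem_sup_left (mem_zpowers y)⟩
          ⟨_, mem_sup_right hbB⟩)
      have h1 : y * a * y⁻¹ = (y * a * y⁻¹ * a⁻¹) * a := by group
      have h2 := conj_pow_eq h1 hcomm (orderOf y)
      rw [pow_orderOf_eq_one, inv_one, mul_one, one_mul] at h2
      have h3 : (y * a * y⁻¹ * a⁻¹) ^ orderOf y = 1 := by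
        have := congrArg (fun t => t * a⁻¹) h2
        simpa using this.symm
      have h4 := hyApow _ (commSub_le A hAn hAcomm y hbB) h3
      have h5 : y * a * y⁻¹ = a := by
        have := congrArg (fun t => t * a) h4
        simpa using this
      exact mul_inv_eq_iff_eq_mul.1 h5
    have ha₀N : a₀ ∈ normalizer
        ((zpowers y ⊔ commSub A hAn hAcomm y : Subgroup G) : Set G) :=
      Subgroup.center_le_normalizer _ ha₀c
    rw [hS _ hHna] at ha₀N
    have hmem : a₀ ∈ ((zpowers y ⊔ commSub A hAn hAcomm y : Subgroup G) : Set G) := ha₀N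
    rw [Subgroup.coe_mul_of_left_le_normalizer_right _ _ hBN] at hmem
    obtain ⟨u, hu, b, hb, hub⟩ := Set.mem_mul.1 hmem
    have hbA : b ∈ A := commSub_le A hAn hAcomm y hb
    have hu' : u ∈ zpowers y ⊓ A := by
      refine Subgroup.mem_inf.2 ⟨hu, ?_⟩
      have : u = a₀ * b⁻¹ := by rw [← hub]; group
      rw [this]
      exact A.mul_mem ha₀ (A.inv_mem hbA)
    rw [hdisj, Subgroup.mem_bot] at hu'
    rw [hu', one_mul] at hub
    obtain ⟨a₁, ha₁, hba₁⟩ := hb
    have h1 : y * a₁ * y⁻¹ = a₀ * a₁ := by rw [← hub, hba₁]; group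
    have h2 := conj_pow_eq h1 hya₀ (orderOf y)
    rw [pow_orderOf_eq_one, inv_one, mul_one, one_mul] at h2
    have h3 : a₀ ^ orderOf y = 1 := by
      have := congrArg (fun t => t * a₁⁻¹) h2
      simpa using this.symm
    exact hne (hyApow a₀ ha₀ h3)

/-- (→) direction -/
theorem structure_of_sn {G : Type*} [Group G] [Finite G] [Group.IsSolvable G]
    (hnn : ¬ Group.IsNilpotent G)
    (hS : ∀ H : Subgroup G, ¬ IsMulCommutative H → normalizer (H : Set G) = H) :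
    ∃ (x : G) (A : Subgroup G) (p : ℕ), p.Prime ∧ A.Normal ∧ IsMulCommutative A ∧
      (∃ k : ℕ, orderOf x = p ^ k) ∧
      ¬ p ∣ Nat.card A ∧ (Subgroup.zpowers x).IsComplement' A ∧ x ^ p ∈ Subgroup.center G ∧
      ∀ a : G, a ∈ A → a ≠ 1 → x * a * x⁻¹ ≠ a := by
  classical
  have hnt : Nontrivial G := by
    by_contra h
    rw [not_nontrivial_iff_subsingleton] at h
    exact hnn inferInstance
  obtain ⟨M, hMn, hMc, hMp⟩ := exists_abelian_normal_prime_index hnt hS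
  have hp := hMp
  have hAn := pPrimePart_normal M hMc M.index hp hMn
  have hAc : IsMulCommutative (pPrimePart M hMc M.index hp) := by
    refine ⟨⟨fun a b => ?_⟩⟩
    apply Subtype.ext
    have h1 : (a : G) * (b : G) = (b : G) * (a : G) :=
      congrArg Subtype.val (hMc.is_comm.comm ⟨(a : G), a.2.1⟩ ⟨(b : G), b.2.1⟩)
    exact h1
  obtain ⟨x, hx1, hx2, hx3, hx4⟩ := structure_core hnn hS M (pPrimePart M hMc M.index hp) M.index hp
    hMn hMc rfl (pPrimePart_le M hMc _ hp) hAn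
    (fun a ha k h => eq_one_of_pow_prime_pow M hMc _ hp ha k h)
    (fun m hm => pow_mem_pPrimePart M hMc _ hp hm)
    (not_dvd_card_pPrimePart M hMc _ hp)
  exact ⟨x, _, _, hp, hAn, hAc, hx1, not_dvd_card_pPrimePart M hMc _ hp, hx2, hx3, hx4⟩

theorem result {G : Type*} [Group G] [Finite G]
    [Group.IsSolvable G] (hnn : ¬ Group.IsNilpotent G) :
    (∀ H : Subgroup G, ¬ IsMulCommutative H → Subgroup.normalizer (H : Set G) = H) ↔
    ∃ (x : G) (A : Subgroup G) (p : ℕ), p.Prime ∧ A.Normal ∧ IsMulCommutative A ∧ (∃ k : ℕ, orderOf x = p ^ k) ∧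
      ¬ p ∣ Nat.card A ∧ (Subgroup.zpowers x).IsComplement' A ∧ x ^ p ∈ Subgroup.center G ∧
      ∀ a : G, a ∈ A → a ≠ 1 → x * a * x⁻¹ ≠ a := by
  constructor
  · exact structure_of_sn hnn
  · rintro ⟨x, A, p, hp, hAn, hAc, hx, hpA, hcompl, hxp, hfpf⟩
    exact sn_of_structure x A p hp hAn hAc hx hpA hcompl hxp hfpf

end Cfsg.Agent.S4071
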