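import Mathlib
import Cfsg.Statements.S4074

set_option autoImplicit false
open Cfsg

namespace Cfsg.Agent.S4074

open DihedralGroup

/-- a noncommutative subgroup contains a reflection and a rotation `r k` with `2k ≠ 0` -/
theorem exists_of_not_comm {n : ℕ} (H : Subgroup (DihedralGroup n)) (hH : ¬ IsMulCommutative H) :
    ∃ i k : ZMod n, sr i ∈ H ∧ r k ∈ H ∧ k + k ≠ 0 := by
  have : ∃ a b : DihedralGroup n, a ∈ H ∧ b ∈ H ∧ a * b ≠ b * a := by
    by_contra hcon
    push Not at hcon
    apply hH
    exact ⟨⟨fun a b => Subtype.ext (hcon a b a.2 b.2)⟩⟩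
  obtain ⟨a, b, ha, hb, hab⟩ := this
  rcases a with k | i <;> rcases b with l | j
  · exfalso; apply hab; simp [add_comm]
  · refine ⟨j, k, hb, ha, ?_⟩
    intro h
    apply hab
    rw [r_mul_sr, sr_mul_r]
    congr 1
    linear_combination (-1 : ZMod n) * h
  · refine ⟨i, l, ha, hb, ?_⟩
    intro h
    apply hab
    rw [r_mul_sr, sr_mul_r]
    congr 1
    linear_combination h
  · have hmem : r (j - i) ∈ H := by
      rw [← sr_mul_sr]; exact H.mul_mem ha hb
    refine ⟨i, j - i, ha, hmem, ?_⟩
    intro h
    apply hab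
    rw [sr_mul_sr, sr_mul_sr]
    congr 1
    linear_combination h

theorem r_mem_of_double {n : ℕ} (hn : Odd n) (H : Subgroup (DihedralGroup n)) (j : ZMod n)
    (h : r (j + j) ∈ H) : r j ∈ H := by
  obtain ⟨m, hm⟩ := hn
  have h1 : (r (j + j)) ^ (m + 1) ∈ H := H.pow_mem h _
  rw [r_pow] at h1
  have h0 : ((2 * m + 1 : ℕ) : ZMod n) = 0 := by
    rw [← hm]; exact ZMod.natCast_self n
  push_cast at h0
  have : (j + j) * ((m + 1 : ℕ) : ZMod n) = j := by
    push_cast
    linear_combination j * h0
  rwa [this] at h1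

theorem odd_case {n : ℕ} (hn : Odd n) (H : Subgroup (DihedralGroup n))
    (hH : ¬ IsMulCommutative H) : Subgroup.normalizer (H : Set (DihedralGroup n)) = H := by
  obtain ⟨i, k, hi, -, -⟩ := exists_of_not_comm H hH
  apply le_antisymm _ Subgroup.le_normalizer
  intro g hg
  rw [Subgroup.mem_normalizer_iff] at hg
  have h1 := (hg (sr i)).1 hi
  rcases g with j | j
  · -- r j * sr i * r (-j) = sr (i - j - j)
    rw [inv_r, r_mul_sr, sr_mul_r] at h1
    have h2 : r (-j + -j) ∈ H := by
      have := H.mul_mem hi h1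
      rw [sr_mul_sr] at this
      convert this using 2
      ring
    have h3 := r_mem_of_double hn H (-j) h2
    have h4 := H.inv_mem h3
    rwa [inv_r, neg_neg] at h4
  · rw [inv_sr, sr_mul_sr, r_mul_sr] at h1
    have h2 : r ((j - i) + (j - i)) ∈ H := by
      have := H.mul_mem hi h1
      rw [sr_mul_sr] at this
      convert this using 2
      ring
    have h3 := r_mem_of_double hn H (j - i) h2
    have h4 := H.mul_mem hi h3
    rw [sr_mul_r] at h4
    convert h4 using 2
    ring

theorem four_case (H : Subgroup (DihedralGroup 4))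
    (hH : ¬ IsMulCommutative H) : Subgroup.normalizer (H : Set (DihedralGroup 4)) = H := by
  obtain ⟨i, k, hi, hk, hkk⟩ := exists_of_not_comm H hH
  have h1 : r (1 : ZMod 4) ∈ H := by
    have hk'' : ∀ k : ZMod 4, k + k ≠ 0 → k = 1 ∨ k = 3 := by decide
    have hk' : k = 1 ∨ k = 3 := hk'' k hkk
    rcases hk' with rfl | rfl
    · exact hk
    · have := H.pow_mem hk 3
      rw [r_pow] at this
      have h2 : (3 : ZMod 4) * ((3 : ℕ) : ZMod 4) = 1 := by decide
      rwa [h2] at this
  have htop : H = ⊤ := by
    rw [eq_top_iff]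
    intro g _
    rcases g with j | j
    · have := H.pow_mem h1 j.val
      rw [r_one_pow] at this
      simpa using this
    · have := H.pow_mem h1 (j - i).val
      rw [r_one_pow] at this
      have h3 := H.mul_mem hi this
      rw [sr_mul_r] at h3
      simpa using h3
  rw [htop]
  exact Subgroup.normalizer_eq_top (H := (⊤ : Subgroup (DihedralGroup 4)))

/-- parity hom for even n -/
def par {n : ℕ} (h2 : 2 ∣ n) : DihedralGroup n →* Multiplicative (ZMod 2) :=
  MonoidHom.mk'
    (fun g => match g with
      | r i => Multiplicative.ofAdd (ZMod.castHom h2 (ZMod 2) i)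
      | sr i => Multiplicative.ofAdd (ZMod.castHom h2 (ZMod 2) i))
    (by
      have hneg : ∀ x : ZMod 2, -x = x := by decide
      rintro (a | a) (b | b)
      · simp only [r_mul_r, map_add, ofAdd_add]
      · simp only [r_mul_sr, map_sub]
        rw [sub_eq_add_neg, hneg, add_comm, ofAdd_add]
      · simp only [sr_mul_r, map_add, ofAdd_add]
      · simp only [sr_mul_sr, map_sub]
        rw [sub_eq_add_neg, hneg, add_comm, ofAdd_add])

theorem result (n : ℕ) (hn : 2 < n) :
    (∀ H : Subgroup (DihedralGroup n), ¬ IsMulCommutative H → Subgroup.normalizer (H : Set (DihedralGroup n)) = H) ↔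
    (n = 4 ∨ Odd n) := by
  constructor
  · intro hall
    by_contra hcon
    push Not at hcon
    obtain ⟨hn4, hodd⟩ := hcon
    rw [Nat.not_odd_iff_even] at hodd
    have h2 : 2 ∣ n := hodd.two_dvd
    have hker := hall (par h2).ker ?_
    · rw [Subgroup.normalizer_eq_top] at hker
      have : r (1 : ZMod n) ∈ (par h2).ker := by rw [← hker]; trivial
      rw [MonoidHom.mem_ker] at this
      have h3 : (ZMod.castHom h2 (ZMod 2) (1 : ZMod n)) = 0 := by
        have := congrArg Multiplicative.toAdd this
        simpa [par] using this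
      rw [map_one] at h3
      exact one_ne_zero h3
    · intro hc
      have hr : r (2 : ZMod n) ∈ (par h2).ker := by
        rw [MonoidHom.mem_ker]
        show Multiplicative.ofAdd (ZMod.castHom h2 (ZMod 2) (2 : ZMod n)) = 1
        rw [map_ofNat]
        rfl
      have hs : sr (0 : ZMod n) ∈ (par h2).ker := by
        rw [MonoidHom.mem_ker]
        show Multiplicative.ofAdd (ZMod.castHom h2 (ZMod 2) (0 : ZMod n)) = 1
        rw [map_zero]
        rfl
      have hcomm := hc.is_comm.comm ⟨_, hr⟩ ⟨_, hs⟩
      have h4 := congrArg Subtype.val hcomm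
      simp only [Subgroup.coe_mul, r_mul_sr, sr_mul_r] at h4
      have h5 : (0 : ZMod n) - 2 = 0 + 2 := by
        injection h4
      have h6 : ((4 : ℕ) : ZMod n) = 0 := by
        push_cast
        linear_combination (-1 : ZMod n) * h5
      rw [ZMod.natCast_eq_zero_iff] at h6
      have hle := Nat.le_of_dvd (by norm_num) h6
      obtain ⟨m, rfl⟩ := h2
      omega
  · rintro (rfl | hodd)
    · exact four_case
    · exact odd_case hodd

end Cfsg.Agent.S4074
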