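import Cfsg.Statements.S4075
import Mathlib

set_option autoImplicit false
open Cfsg

namespace Cfsg.Agent.S4075

theorem result {G : Type*} [Group G] [Finite G]
    [Group.IsNilpotent G] :
    (∀ H : Subgroup G, ¬ IsMulCommutative H → Subgroup.normalizer (H : Set G) = H) ↔
    (IsMulCommutative G ∨ (IsPrimePow (Nat.card G) ∧ ¬ IsMulCommutative G ∧ ∀ H : Subgroup G, H ≠ ⊤ → IsMulCommutative H)) := by
  constructor
  · intro hS
    by_cases hG : IsMulCommutative G
    · exact Or.inl hG
    right
    have hprop : ∀ H : Subgroup G, H ≠ ⊤ → IsMulCommutative H := by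
      intro H hH
      by_contra hnc
      have h1 := hS H hnc
      have h2 := (normalizerCondition_iff_only_full_group_self_normalizing.1
        (Group.normalizerCondition_of_isNilpotent (G := G))) H h1
      exact hH h2
    refine ⟨?_, hG, hprop⟩
    by_contra hnpp
    apply hG
    obtain ⟨e⟩ := (Group.isNilpotent_of_finite_tfae (G := G)).out 0 4 rfl rfl |>.mp inferInstance
    have hcomp : ∀ (p : (Nat.card G).primeFactors) (P : Sylow p G), IsMulCommutative (P : Subgroup G) := by
      intro p P
      apply hprop
      intro htop
      apply hnpp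
      have hp : (p : ℕ).Prime := Nat.prime_of_mem_primeFactors p.2
      have : Fact (p : ℕ).Prime := ⟨hp⟩
      obtain ⟨n, hn⟩ := (IsPGroup.iff_card.1 P.isPGroup')
      have hcard : Nat.card G = (p : ℕ) ^ n := by
        rw [← hn, htop]
        exact (Subgroup.card_top (G := G)).symm
      rw [hcard]
      refine ⟨p, n, hp.prime, ?_, rfl⟩
      rcases Nat.eq_zero_or_pos n with h0 | h0
      · exfalso
        have hdvd : (p : ℕ) ∣ Nat.card G := Nat.dvd_of_mem_primeFactors p.2
        have h2 : (p : ℕ) ∣ (p : ℕ) ^ n := by rw [← hcard]; exact hdvd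
        rw [h0, pow_zero] at h2
        exact hp.one_lt.ne' (Nat.dvd_one.1 h2)
      · exact h0
    refine ⟨⟨fun x y => ?_⟩⟩
    have hx : ∀ a b : (∀ p : (Nat.card G).primeFactors, ∀ P : Sylow p G, (↑P : Subgroup G)), a * b = b * a := by
      intro a b
      funext p P
      have := (hcomp p P).is_comm.comm (a p P) (b p P)
      simpa using this
    have := hx (e.symm x) (e.symm y)
    have h2 := congrArg e this
    simpa using h2
  · rintro (hG | ⟨_, hG, hprop⟩)
    · intro H hH
      exfalso
      apply hH
      refine ⟨⟨fun x y => ?_⟩⟩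
      apply Subtype.ext
      have := hG.is_comm.comm (x : G) (y : G)
      simpa using this
    · intro H hH
      have : H = ⊤ := by
        by_contra hne
        exact hH (hprop H hne)
      subst this
      exact Subgroup.normalizer_eq_top (G := G) (H := ⊤)

end Cfsg.Agent.S4075
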