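import Cfsg.Statements.S4079
import Mathlib
import Cfsg.Agent.Lib.Helper53.MC3Defs
import Cfsg.Agent.Lib.Helper53.MC3A2
import Cfsg.Agent.Lib.Helper5.MC3A1
import Cfsg.Agent.Lib.Helper5.MC3A4
import Cfsg.Agent.Lib.Helper5.MC3A8
import Cfsg.Agent.Lib.Helper64.MC3A3
import Cfsg.Agent.Lib.Helper64.MC3A5
import Cfsg.Agent.Lib.Helper63.MC3A6
import Cfsg.Agent.Lib.Helper49.MC3A7
import Cfsg.Agent.Lib.Helper69.MC3B1
import Cfsg.Agent.Lib.Helper65.MC3B2
import Cfsg.Agent.Lib.Helper57.MC3B3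
import Cfsg.Agent.Lib.Helper69.MC3S
import Cfsg.Agent.Lib.Helper65.MC3SD
import Cfsg.Agent.Lib.Helper25.MC3C1
import Cfsg.Agent.Lib.Helper57.MC3C2
-- import your own Cfsg.Agent.* helpers here

set_option autoImplicit false
open Cfsg

namespace Cfsg.Agent.S4079

open Cfsg.Agent.Helper53.MC3

/-- Let p be an odd prime and L a finite metacyclic p-group with no cyclic subgroup of index p, and let a be an automorphism of L of order p. Then a moves some element of order p of L if and only if p = 3 and the semidirect product L ⋊ ⟨a⟩ (of order 3·#L) has maximal class, i.e. nilpotency class m where #L = 3^m. -/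
theorem result {L : Type*} [Group L] [Finite L] {p : ℕ} [Fact p.Prime]
    (hp : p ≠ 2) (hL : IsPGroup p L) (hmc : Cfsg.IsMetacyclic L) (hnc : ∀ C : Subgroup L, IsCyclic C → C.index ≠ p)
    (a : MulAut L) (ha : orderOf a = p) (m : ℕ) (hm : Nat.card L = p ^ m) :
    (∃ x : L, orderOf x = p ∧ a x ≠ x) ↔
    (p = 3 ∧ Group.nilpotencyClass (SemidirectProduct L ↥(Subgroup.zpowers a) (Subgroup.zpowers a).subtype) = m) := by
  have hpp : p.Prime := Fact.out
  -- `L` is nontrivial
  have hnt : Nontrivial L := by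
    by_contra h
    rw [not_nontrivial_iff_subsingleton] at h
    have : a = 1 := by
      ext x
      exact Subsingleton.elim _ _
    rw [this, orderOf_one] at ha
    exact hpp.one_lt.ne ha
  have hncyc := Cfsg.Agent.Helper5.MC3.not_isCyclic hL hnt hnc
  obtain ⟨h1, hc1⟩ := Cfsg.Agent.Helper53.MC3.om1 hp hL hmc hncyc
  have h1' : ∀ x y : L, x ^ p = 1 → y ^ p = 1 → (x * y) ^ p = 1 := fun x y hx hy => (h1 x y hx hy).1
  obtain ⟨hc2, hq2⟩ := Cfsg.Agent.Helper63.MC3.quot hp hL hmc hnc h1' hc1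
  obtain ⟨c, hcyc⟩ := Cfsg.Agent.Helper5.MC3.comm_cyc hmc
  have D : OmData p L := Cfsg.Agent.Helper49.MC3.omData_of_parts h1 hc1
    (Cfsg.Agent.Helper64.MC3.reg hp hL hmc) (Cfsg.Agent.Helper5.MC3.commute_pow_of_comm_pow hL hmc)
    (Cfsg.Agent.Helper64.MC3.mul2 hp hL hmc h1') hc2 hq2 hcyc
  have hm4 : 4 ≤ m := by
    have h : Nat.card {x : L // x ^ p ^ 2 = 1} ≤ Nat.card L :=
      Nat.card_le_card_of_injective Subtype.val Subtype.val_injective
    rw [hc2, hm] at h
    exact (Nat.pow_le_pow_iff_right hpp.one_lt).mp h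
  have hap : a ^ p = 1 := by rw [← ha]; exact pow_orderOf_eq_one a
  have hcz : Nat.card ↥(Subgroup.zpowers a) = p := by rw [Nat.card_zpowers, ha]
  have hfin : Finite (SemidirectProduct L ↥(Subgroup.zpowers a) (Subgroup.zpowers a).subtype) :=
    Finite.of_equiv _ SemidirectProduct.equivProd.symm
  have hcX : Nat.card (SemidirectProduct L ↥(Subgroup.zpowers a) (Subgroup.zpowers a).subtype) = p ^ (m + 1) := by
    rw [SemidirectProduct.card, hm, hcz, pow_succ]
  constructor
  · rintro ⟨x, hxo, hax⟩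
    have hx : x ^ p = 1 := by rw [← hxo]; exact pow_orderOf_eq_one x
    obtain ⟨w2, hw2, hw2p, haw2, hdel, hfix⟩ := Cfsg.Agent.Helper69.MC3.unipotent h1 hc1 a hap x hx hax
    obtain ⟨hp3, h2⟩ := Cfsg.Agent.Helper65.MC3.pow_three hp D a hap w2 hw2 hw2p haw2 hdel hfix x hx hax
    have hfc := Cfsg.Agent.Helper57.MC3.fixed_card hL a w2 hw2 hw2p haw2 hfix h2
    refine ⟨hp3, ?_⟩
    have hcent := Cfsg.Agent.Helper65.MC3.card_centralizer_inr a
    rw [hfc, hcz] at hcent
    have := Cfsg.Agent.Helper69.MC3.maxClass_of_card_centralizer (p := p) (m + 1) _ (by omega) hcX _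
      (by rw [hcent, sq])
    simpa using this
  · rintro ⟨hp3, hcl⟩
    subst hp3
    obtain ⟨x, hx, hax⟩ := Cfsg.Agent.Helper57.MC3.exists_moved D m hm a ha hcl
      (fun {X} _ _ => Cfsg.Agent.Helper25.MC3.false_of_centralizes)
    refine ⟨x, ?_, hax⟩
    have hx1 : x ≠ 1 := by
      rintro rfl
      exact hax (map_one a)
    exact orderOf_eq_prime hx hx1

end Cfsg.Agent.S4079
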