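import Mathlib
import Cfsg.Statements.S4080

set_option autoImplicit false
open Cfsg

namespace Cfsg.Agent.S4080

open Polynomial

/-- A `2 × 2` matrix over `𝔽_p` with `B ^ p = 1` satisfies `(B - 1) ^ 2 = 0`. -/
theorem sq_zero_mod_p {p : ℕ} [Fact p.Prime] (B : Matrix (Fin 2) (Fin 2) (ZMod p))
    (hB : B ^ p = 1) : (B - 1) ^ 2 = 0 := by
  have h1 : (B - 1) ^ p = 0 := by
    rw [sub_pow_char_of_commute (p := p) (h := Commute.one_right B), hB, one_pow, sub_self]
  have hnil : IsNilpotent (B - 1) := ⟨p, h1⟩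
  have h2 := Matrix.isNilpotent_charpoly_sub_pow_of_isNilpotent hnil
  have h3 : (B - 1).charpoly = X ^ 2 := by
    have := h2.eq_zero
    rw [sub_eq_zero] at this
    simpa using this
  have h4 := Matrix.aeval_self_charpoly (B - 1)
  rw [h3] at h4
  simpa using h4

/-- kernel of reduction mod `p` on `ZMod (p^2)` -/
theorem exists_eq_mul_of_cast_eq_zero {p : ℕ} [Fact p.Prime] (h : p ∣ p ^ 2) (x : ZMod (p ^ 2))
    (hx : ZMod.castHom h (ZMod p) x = 0) : ∃ c : ZMod (p ^ 2), x = p • c := by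
  have hp : p.Prime := Fact.out
  have : NeZero (p ^ 2) := ⟨pow_ne_zero _ hp.ne_zero⟩
  have h1 : x = ((x.val : ℕ) : ZMod (p ^ 2)) := (ZMod.natCast_zmod_val x).symm
  rw [h1, map_natCast, ZMod.natCast_eq_zero_iff] at hx
  obtain ⟨k, hk⟩ := hx
  refine ⟨(k : ZMod (p ^ 2)), ?_⟩
  rw [h1, hk]
  simp

theorem binom_key {S : Type*} [Ring S] {p : ℕ} (hp : p.Prime) (hp3 : 3 < p)
    (hS : ∀ z : S, (p ^ 2) • z = 0) (N M' : S) (hN : N ^ 2 = p • M') :
    (N + 1) ^ p = 1 + p • N := by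
  have hpN : ∀ k, 2 ≤ k → p • N ^ k = 0 := by
    intro k hk
    obtain ⟨j, rfl⟩ := Nat.exists_eq_add_of_le hk
    rw [pow_add, hN, smul_mul_assoc, smul_smul, ← sq]
    exact hS _
  have hN4 : ∀ k, 4 ≤ k → N ^ k = 0 := by
    intro k hk
    obtain ⟨j, rfl⟩ := Nat.exists_eq_add_of_le hk
    rw [show 4 + j = 2 + (2 + j) by ring, pow_add, hN, smul_mul_assoc, ← mul_smul_comm,
      hpN _ (by omega), mul_zero]
  rw [(Commute.one_right N).add_pow]
  have hz : ∀ m ∈ Finset.range (p + 1), m ∉ Finset.range 2 →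
      N ^ m * 1 ^ (p - m) * (p.choose m : S) = 0 := by
    intro m hm hm2
    simp only [Finset.mem_range] at hm hm2
    push Not at hm2
    rcases Nat.lt_or_ge m p with hlt | hge
    · obtain ⟨c, hc⟩ := hp.dvd_choose_self (by omega) hlt
      rw [one_pow, mul_one, ← nsmul_eq_mul', hc, mul_comm p c, mul_smul, hpN m hm2, smul_zero]
    · have : m = p := by omega
      subst this
      rw [hN4 m (by omega), zero_mul, zero_mul]
  rw [← Finset.sum_subset (Finset.range_subset_range.2 (by omega : 2 ≤ p + 1)) hz]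
  rw [Finset.sum_range_succ, Finset.sum_range_one]
  simp
  exact (Nat.cast_commute p N).eq.symm

theorem key_matrix {p : ℕ} [Fact p.Prime] (hp3 : 3 < p)
    (A : Matrix (Fin 2) (Fin 2) (ZMod (p ^ 2))) (hA : A ^ p = 1) :
    p • (A - 1) = 0 := by
  have hp : p.Prime := Fact.out
  have hdvd : p ∣ p ^ 2 := dvd_pow_self p two_ne_zero
  let red : Matrix (Fin 2) (Fin 2) (ZMod (p ^ 2)) →+* Matrix (Fin 2) (Fin 2) (ZMod p) :=
    (ZMod.castHom hdvd (ZMod p)).mapMatrix
  have h1 : (red A) ^ p = 1 := by rw [← map_pow, hA, map_one]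
  have h2 := sq_zero_mod_p (red A) h1
  have h3 : red ((A - 1) ^ 2) = 0 := by
    rw [map_pow, map_sub, map_one, h2]
  have h4 : ∀ i j, ∃ c : ZMod (p ^ 2), ((A - 1) ^ 2 : Matrix (Fin 2) (Fin 2) (ZMod (p ^ 2))) i j = p • c := by
    intro i j
    apply exists_eq_mul_of_cast_eq_zero hdvd
    have := congrFun (congrFun h3 i) j
    simpa [red, RingHom.mapMatrix_apply, Matrix.map_apply] using this
  choose c hc using h4
  have hN : (A - 1) ^ 2 = p • (Matrix.of c) := by
    ext i j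
    rw [hc i j]
    simp [Matrix.smul_apply]
  have hS : ∀ z : Matrix (Fin 2) (Fin 2) (ZMod (p ^ 2)), (p ^ 2) • z = 0 := by
    intro z
    ext i j
    rw [Matrix.smul_apply, nsmul_eq_mul, ZMod.natCast_self, zero_mul]
    rfl
  have h5 := binom_key hp hp3 hS (A - 1) _ hN
  rw [sub_add_cancel, hA] at h5
  have h6 : (1 : Matrix (Fin 2) (Fin 2) (ZMod (p ^ 2))) + 0 = 1 + p • (A - 1) := by
    rw [add_zero]; exact h5
  exact (add_left_cancel h6).symm

/-- The linear map attached to an automorphism. -/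
def lin {p : ℕ} (a : MulAut (Multiplicative (ZMod (p ^ 2) × ZMod (p ^ 2)))) :
    (ZMod (p ^ 2) × ZMod (p ^ 2)) →ₗ[ZMod (p ^ 2)] (ZMod (p ^ 2) × ZMod (p ^ 2)) :=
  AddMonoidHom.toZModLinearMap (p ^ 2) (AddMonoidHom.toMultiplicative.symm a.toMonoidHom)

theorem lin_apply {p : ℕ} (a : MulAut (Multiplicative (ZMod (p ^ 2) × ZMod (p ^ 2))))
    (v : ZMod (p ^ 2) × ZMod (p ^ 2)) :
    lin a v = Multiplicative.toAdd (a (Multiplicative.ofAdd v)) := rfl

theorem lin_pow {p : ℕ} (a : MulAut (Multiplicative (ZMod (p ^ 2) × ZMod (p ^ 2))))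
    (k : ℕ) (v : ZMod (p ^ 2) × ZMod (p ^ 2)) :
    ((lin a) ^ k) v = Multiplicative.toAdd ((a ^ k) (Multiplicative.ofAdd v)) := by
  induction k generalizing v with
  | zero => simp
  | succ k ih =>
    rw [pow_succ' (lin a) k, pow_succ' a k, Module.End.mul_apply, ih, lin_apply, MulAut.mul_apply]
    rfl

theorem result {p : ℕ} [Fact p.Prime] (hp : 3 < p)
    (a : MulAut (Multiplicative (ZMod (p ^ 2) × ZMod (p ^ 2)))) (ha : orderOf a = p)
    (x : Multiplicative (ZMod (p ^ 2) × ZMod (p ^ 2))) (hx : orderOf x = p) : a x = x := by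
  have hpp : p.Prime := Fact.out
  have : NeZero (p ^ 2) := ⟨pow_ne_zero _ hpp.ne_zero⟩
  let T := LinearMap.toMatrixAlgEquiv (Module.Basis.finTwoProd (ZMod (p ^ 2)))
  have h1 : (lin a) ^ p = 1 := by
    refine LinearMap.ext fun v => ?_
    have hap : a ^ p = 1 := by
      have := pow_orderOf_eq_one a
      rwa [ha] at this
    rw [lin_pow, hap]
    rfl
  have h2 : (T (lin a)) ^ p = 1 := by rw [← map_pow, h1, map_one]
  have h3 := key_matrix hp (T (lin a)) h2
  have h4 : p • (lin a - 1) = 0 := by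
    apply T.injective
    rw [map_nsmul, map_sub, map_one, map_zero]
    exact h3
  have h5 : ∀ y : ZMod (p ^ 2) × ZMod (p ^ 2), lin a (p • y) = p • y := by
    intro y
    have := LinearMap.congr_fun h4 y
    simp only [LinearMap.smul_apply, LinearMap.sub_apply, Module.End.one_apply,
      LinearMap.zero_apply, smul_sub, sub_eq_zero] at this
    rw [map_nsmul]
    exact this
  have hx1 : x ^ p = 1 := by
    have := pow_orderOf_eq_one x
    rwa [hx] at this
  have hx2 : p • (Multiplicative.toAdd x) = 0 := by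
    have := congrArg Multiplicative.toAdd hx1
    simpa using this
  obtain ⟨y, hy⟩ : ∃ y : ZMod (p ^ 2) × ZMod (p ^ 2), Multiplicative.toAdd x = p • y := by
    have hc : ∀ c : ZMod (p ^ 2), p • c = 0 → ∃ d : ZMod (p ^ 2), c = p • d := by
      intro c hc
      have h1 : c = ((c.val : ℕ) : ZMod (p ^ 2)) := (ZMod.natCast_zmod_val c).symm
      rw [h1, nsmul_eq_mul, ← Nat.cast_mul, ZMod.natCast_eq_zero_iff] at hc
      have hc' : p * p ∣ p * c.val := by rw [← sq]; exact hc
      rw [Nat.mul_dvd_mul_iff_left hpp.pos] at hc'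
      obtain ⟨k, hk⟩ := hc'
      refine ⟨(k : ZMod (p ^ 2)), ?_⟩
      rw [h1, hk]
      simp
    obtain ⟨d1, hd1⟩ := hc (Multiplicative.toAdd x).1 (by simpa using congrArg Prod.fst hx2)
    obtain ⟨d2, hd2⟩ := hc (Multiplicative.toAdd x).2 (by simpa using congrArg Prod.snd hx2)
    exact ⟨(d1, d2), Prod.ext (by simpa using hd1) (by simpa using hd2)⟩
  have h6 := h5 y
  rw [← hy, lin_apply] at h6
  exact Multiplicative.toAdd.injective h6

end Cfsg.Agent.S4080
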