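import Mathlib
import Cfsg.Statements.S4082
import Cfsg.Agent.Lib.Helper34.Dihedral2
import Cfsg.Agent.Lib.Helper9.MinNonAbelian
import Cfsg.Agent.Lib.Helper67.BaerSuzuki
import Cfsg.Agent.S0206

set_option autoImplicit false
open Cfsg

namespace Cfsg.Agent.S4082

open Subgroup Cfsg.Agent.Helper67

/-- a normal `p`-subgroup lies in every Sylow `p`-subgroup -/
theorem le_sylow_of_normal {H : Type*} [Group H] {p : ℕ} (A : Subgroup H) [A.Normal]
    (hA : IsPGroup p A) (S : Sylow p H) : A ≤ (S : Subgroup H) := by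
  have h1 : IsPGroup p ((S : Subgroup H) ⊔ A : Subgroup H) :=
    S.isPGroup'.to_sup_of_normal_right hA
  have h2 := S.is_maximal' h1 le_sup_left
  rw [← h2]
  exact le_sup_right

/-- quotients of `A ⊔ ⟨x⟩` by normal subgroups containing `A` are cyclic -/
theorem isCyclic_quotient_of_sup_zpowers {G : Type*} [Group G] (A : Subgroup G) (x : G)
    (N : Subgroup ↥(A ⊔ zpowers x)) [N.Normal] (hAN : A.subgroupOf (A ⊔ zpowers x) ≤ N) :
    IsCyclic (↥(A ⊔ zpowers x) ⧸ N) := by
  have hxH : x ∈ A ⊔ zpowers x := mem_sup_right (mem_zpowers x)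
  refine ⟨⟨QuotientGroup.mk' N ⟨x, hxH⟩, ?_⟩⟩
  -- the preimage of the cyclic subgroup generated by the image of `x`
  set M : Subgroup ↥(A ⊔ zpowers x) :=
    (zpowers (QuotientGroup.mk' N ⟨x, hxH⟩)).comap (QuotientGroup.mk' N) with hM
  have hNM : N ≤ M := by
    intro n hn
    rw [hM, Subgroup.mem_comap]
    have : QuotientGroup.mk' N n = 1 := (QuotientGroup.eq_one_iff n).2 hn
    rw [this]
    exact Subgroup.one_mem _
  have hxM : (⟨x, hxH⟩ : ↥(A ⊔ zpowers x)) ∈ M := by
    rw [hM, Subgroup.mem_comap]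
    exact mem_zpowers _
  have hle : A ⊔ zpowers x ≤ M.map (A ⊔ zpowers x).subtype := by
    apply sup_le
    · intro a ha
      have haH : a ∈ A ⊔ zpowers x := mem_sup_left ha
      exact ⟨⟨a, haH⟩, hNM (hAN (by rw [Subgroup.mem_subgroupOf]; exact ha)), rfl⟩
    · rw [zpowers_le]
      exact ⟨⟨x, hxH⟩, hxM, rfl⟩
  intro q
  obtain ⟨h, rfl⟩ := QuotientGroup.mk_surjective q
  obtain ⟨h', hh'M, hh'⟩ := hle h.2
  have : h' = h := Subtype.ext hh'
  rw [this] at hh'M
  have h4 : QuotientGroup.mk' N h ∈ zpowers (QuotientGroup.mk' N ⟨x, hxH⟩) := hh'M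
  exact h4

/-- `A ⊔ ⟨x⟩` is `p`-by-cyclic, for a `p`-subgroup `A` normalized by `x`. -/
theorem pbc_of_sup {G : Type*} [Group G] [Finite G] {p : ℕ} [Fact p.Prime] (A : Subgroup G)
    (hA : IsPGroup p A) (x : G) (hx : x ∈ normalizer (A : Set G)) :
    (∀ S : Sylow p ↥(A ⊔ zpowers x), (S : Subgroup ↥(A ⊔ zpowers x)).Normal) ∧
    (∀ (S : Sylow p ↥(A ⊔ zpowers x)) [(S : Subgroup ↥(A ⊔ zpowers x)).Normal],
      IsCyclic (↥(A ⊔ zpowers x) ⧸ (S : Subgroup ↥(A ⊔ zpowers x)))) := by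
  have hHN : A ⊔ zpowers x ≤ normalizer (A : Set G) :=
    sup_le le_normalizer ((zpowers_le).2 hx)
  haveI hAn : (A.subgroupOf (A ⊔ zpowers x)).Normal :=
    Subgroup.normal_subgroupOf_of_le_normalizer hHN
  have hA' : IsPGroup p (A.subgroupOf (A ⊔ zpowers x)) := hA.comap_subtype
  have hle : ∀ S : Sylow p ↥(A ⊔ zpowers x),
      A.subgroupOf (A ⊔ zpowers x) ≤ (S : Subgroup ↥(A ⊔ zpowers x)) :=
    fun S => le_sylow_of_normal _ hA' S
  constructor
  · intro S
    haveI hcyc : IsCyclic (↥(A ⊔ zpowers x) ⧸ A.subgroupOf (A ⊔ zpowers x)) :=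
      isCyclic_quotient_of_sup_zpowers A x _ le_rfl
    have hcomm : commutator ↥(A ⊔ zpowers x) ≤ A.subgroupOf (A ⊔ zpowers x) :=
      Subgroup.Normal.quotient_commutative_iff_commutator_le.1 inferInstance
    refine ⟨fun s hs h => ?_⟩
    have h1 : h * s * h⁻¹ * s⁻¹ ∈ commutator ↥(A ⊔ zpowers x) :=
      Subgroup.commutator_mem_commutator (Subgroup.mem_top h) (Subgroup.mem_top s)
    have h2 : h * s * h⁻¹ * s⁻¹ ∈ (S : Subgroup ↥(A ⊔ zpowers x)) := hle S (hcomm h1)
    have h3 := (S : Subgroup ↥(A ⊔ zpowers x)).mul_mem h2 hs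
    rwa [inv_mul_cancel_right] at h3
  · intro S _
    exact isCyclic_quotient_of_sup_zpowers A x _ (hle S)


/-- the left-hand side of the statement -/
def Restricted (G : Type*) [Group G] (p : ℕ) : Prop :=
  ∀ H : Subgroup G, (∀ S : Sylow p ↥H, (S : Subgroup ↥H).Normal) →
    (∀ (S : Sylow p ↥H) [(S : Subgroup ↥H).Normal], IsCyclic (↥H ⧸ (S : Subgroup ↥H))) →
    IsCyclic H ∨ (∃ n : ℕ, Nonempty (H ≃* DihedralGroup (p ^ n)))

theorem eq_one_of_sq_of_isPGroup {G : Type*} [Group G] {p : ℕ} [hp : Fact p.Prime] (hp2 : p ≠ 2)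
    {A : Subgroup G} (hA : IsPGroup p A) {u : G} (hu : u ∈ A) (h2 : u * u = 1) : u = 1 := by
  obtain ⟨k, hk⟩ := hA ⟨u, hu⟩
  have hk' : u ^ (p ^ k) = 1 := by
    have := congrArg Subtype.val hk
    simpa using this
  have d1 : orderOf u ∣ p ^ k := orderOf_dvd_of_pow_eq_one hk'
  have d2 : orderOf u ∣ 2 := orderOf_dvd_of_pow_eq_one (by rw [pow_two]; exact h2)
  have hc : Nat.Coprime (p ^ k) 2 := by
    apply Nat.Coprime.pow_left
    rw [Nat.coprime_primes hp.out Nat.prime_two]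
    exact hp2
  exact orderOf_eq_one_iff.1 (Nat.eq_one_of_dvd_coprimes hc d1 d2)

/-- in a dihedral-like group, an element centralizes or inverts a subgroup without involutions -/
theorem dih_dichotomy {G : Type*} [Group G] {H : Subgroup G}
    (hD : Cfsg.Agent.Helper34.Dih.DihLike H) (A : Subgroup G) (hAH : A ≤ H)
    (hAodd : ∀ u ∈ A, u * u = 1 → u = 1) (x : G) (hx : x ∈ H) :
    (∀ u ∈ A, x * u = u * x) ∨ (x * x = 1 ∧ ∀ u ∈ A, x * u * x⁻¹ = u⁻¹) := by
  obtain ⟨R, hRH, hRc, hR1, hR2⟩ := hD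
  have hAR : A ≤ R := by
    intro u hu
    by_contra hnR
    have := hAodd u hu (hR2 u (hAH hu) hnR)
    exact hnR (this ▸ R.one_mem)
  by_cases hxR : x ∈ R
  · left
    intro u hu
    obtain ⟨g, hg⟩ := hRc.exists_generator
    obtain ⟨i, hi⟩ := Subgroup.mem_zpowers_iff.1 (hg ⟨x, hxR⟩)
    obtain ⟨j, hj⟩ := Subgroup.mem_zpowers_iff.1 (hg ⟨u, hAR hu⟩)
    have hi' : (g : G) ^ i = x := by
      have := congrArg Subtype.val hi
      simpa using this
    have hj' : (g : G) ^ j = u := by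
      have := congrArg Subtype.val hj
      simpa using this
    rw [← hi', ← hj']
    exact ((Commute.refl (g : G)).zpow_zpow i j).eq
  · right
    have hxx := hR2 x hx hxR
    refine ⟨hxx, fun u hu => ?_⟩
    have hxu : x * u ∉ R := by
      intro h
      apply hxR
      have := R.mul_mem h (R.inv_mem (hAR hu))
      rwa [mul_inv_cancel_right] at this
    have h1 := hR2 (x * u) (H.mul_mem hx (hAH hu)) hxu
    have hxinv : x⁻¹ = x := (eq_inv_of_mul_eq_one_left hxx).symm
    rw [hxinv]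
    have h2 : x * u * x * u = 1 := by rw [← h1]; group
    exact eq_inv_of_mul_eq_one_left h2

/-- consequence of the left-hand side for an element normalizing a `p`-subgroup -/
theorem cases_of_restricted {G : Type*} [Group G] [Finite G] {p : ℕ} [hp : Fact p.Prime]
    (hp2 : p ≠ 2) (hres : Restricted G p) (A : Subgroup G) (hA : IsPGroup p A) (x : G)
    (hx : x ∈ normalizer (A : Set G)) :
    (∀ u ∈ A, x * u = u * x) ∨ (x * x = 1 ∧ ∀ u ∈ A, x * u * x⁻¹ = u⁻¹) := by
  obtain ⟨h1, h2⟩ := pbc_of_sup A hA x hx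
  have hxH : x ∈ A ⊔ zpowers x := mem_sup_right (mem_zpowers x)
  have hAH : A ≤ A ⊔ zpowers x := le_sup_left
  rcases hres (A ⊔ zpowers x) h1 h2 with hc | ⟨n, ⟨e⟩⟩
  · left
    intro u hu
    obtain ⟨g, hg⟩ := hc.exists_generator
    obtain ⟨i, hi⟩ := Subgroup.mem_zpowers_iff.1 (hg ⟨x, hxH⟩)
    obtain ⟨j, hj⟩ := Subgroup.mem_zpowers_iff.1 (hg ⟨u, hAH hu⟩)
    have hi' : (g : G) ^ i = x := by
      have := congrArg Subtype.val hi
      simpa using this
    have hj' : (g : G) ^ j = u := by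
      have := congrArg Subtype.val hj
      simpa using this
    rw [← hi', ← hj']
    exact ((Commute.refl (g : G)).zpow_zpow i j).eq
  · exact dih_dichotomy (Cfsg.Agent.Helper34.Dih.dihLike_of_equiv _ _ e) A hAH
      (fun u hu h2 => eq_one_of_sq_of_isPGroup hp2 hA hu h2) x hxH


/-- the property of the subgroups of order `p` in the second alternative -/
def QProp {G : Type*} [Group G] (Q : Subgroup G) : Prop :=
  IsMulCommutative ↥(Subgroup.centralizer (Q : Set G)) ∧
    ∀ x : G, x ∈ Subgroup.normalizer (Q : Set G) → x ∉ Subgroup.centralizer (Q : Set G) →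
      orderOf x = 2 ∧ ∀ c : G, c ∈ Subgroup.centralizer (Q : Set G) → x * c * x⁻¹ = c⁻¹

theorem forward {G : Type*} [Group G] [Finite G] {p : ℕ} [hp : Fact p.Prime] (hp2 : p ≠ 2)
    (P : Sylow p G) (hres : Restricted G p) :
    IsCyclic P ∧
      (normalizer ((P : Subgroup G) : Set G) = centralizer ((P : Subgroup G) : Set G) ∨
       ((centralizer ((P : Subgroup G) : Set G)).relIndex (normalizer ((P : Subgroup G) : Set G)) = 2 ∧
        ∀ Q : Subgroup G, Q ≤ P → Nat.card Q = p → QProp Q)) := by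
  constructor
  · -- `P` is cyclic
    obtain ⟨h1, h2⟩ := pbc_of_sup (P : Subgroup G) P.isPGroup' 1 (Subgroup.one_mem _)
    have hH : (P : Subgroup G) ⊔ zpowers (1 : G) = (P : Subgroup G) := by
      rw [zpowers_one_eq_bot, sup_bot_eq]
    rcases hres _ h1 h2 with hc | ⟨n, ⟨e⟩⟩
    · exact isCyclic_of_surjective (MulEquiv.subgroupCongr hH) (MulEquiv.subgroupCongr hH).surjective
    · exfalso
      have hcard : Nat.card (P : Subgroup G) = 2 * p ^ n := by
        rw [← Nat.card_congr (MulEquiv.subgroupCongr hH).toEquiv, Nat.card_congr e.toEquiv,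
          DihedralGroup.nat_card]
      obtain ⟨k, hk⟩ := IsPGroup.iff_card.1 P.isPGroup'
      rw [hk] at hcard
      have h2p : 2 ∣ p ^ k := ⟨_, hcard⟩
      have h2p' : 2 ∣ p := Nat.Prime.dvd_of_dvd_pow Nat.prime_two h2p
      exact hp2 ((Nat.prime_dvd_prime_iff_eq Nat.prime_two hp.out).1 h2p').symm
  · by_cases hNC : normalizer ((P : Subgroup G) : Set G) ≤ centralizer ((P : Subgroup G) : Set G)
    · left
      exact le_antisymm hNC (Subgroup.centralizer_le_normalizer _)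
    · right
      obtain ⟨x₀, hx₀N, hx₀C⟩ := SetLike.not_le_iff_exists.1 hNC
      have hcase : ∀ x ∈ normalizer ((P : Subgroup G) : Set G),
          x ∉ centralizer ((P : Subgroup G) : Set G) →
          x * x = 1 ∧ ∀ u ∈ (P : Subgroup G), x * u * x⁻¹ = u⁻¹ := by
        intro x hxN hxC
        rcases cases_of_restricted hp2 hres (P : Subgroup G) P.isPGroup' x hxN with h | h
        · exact absurd (Subgroup.mem_centralizer_iff.2 fun u hu => (h u hu).symm) hxC
        · exact h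
      obtain ⟨hx₀2, hx₀inv⟩ := hcase x₀ hx₀N hx₀C
      constructor
      · -- index two
        rw [Subgroup.relIndex, Subgroup.index_eq_two_iff]
        refine ⟨⟨x₀, hx₀N⟩, fun b => ?_⟩
        have hmem : ∀ c : ↥(normalizer ((P : Subgroup G) : Set G)),
            c ∈ (centralizer ((P : Subgroup G) : Set G)).subgroupOf
              (normalizer ((P : Subgroup G) : Set G)) ↔
            (c : G) ∈ centralizer ((P : Subgroup G) : Set G) := fun c => Subgroup.mem_subgroupOf
        rw [hmem, hmem]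
        by_cases hbC : (b : G) ∈ centralizer ((P : Subgroup G) : Set G)
        · right
          refine ⟨hbC, fun h => ?_⟩
          apply hx₀C
          have := (centralizer ((P : Subgroup G) : Set G)).mul_mem
            ((centralizer ((P : Subgroup G) : Set G)).inv_mem hbC) h
          simpa using this
        · left
          refine ⟨?_, hbC⟩
          obtain ⟨-, hbinv⟩ := hcase (b : G) b.2 hbC
          rw [Subgroup.mem_centralizer_iff]
          intro u hu
          have e1 : ((b : G) * x₀) * u * ((b : G) * x₀)⁻¹ = u := by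
            calc ((b : G) * x₀) * u * ((b : G) * x₀)⁻¹
                = (b : G) * (x₀ * u * x₀⁻¹) * (b : G)⁻¹ := by group
              _ = (b : G) * u⁻¹ * (b : G)⁻¹ := by rw [hx₀inv u hu]
              _ = ((b : G) * u * (b : G)⁻¹)⁻¹ := by group
              _ = u := by rw [hbinv u hu, inv_inv]
          have e2 := mul_inv_eq_iff_eq_mul.1 e1
          exact e2.symm
      · -- the subgroups of order `p`
        intro Q hQP hQcard
        have hQp : IsPGroup p Q := P.isPGroup'.to_le hQP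
        have hx₀NQ : x₀ ∈ normalizer (Q : Set G) := by
          apply Subgroup.mem_normalizer_fintype
          intro u hu
          rw [hx₀inv u (hQP hu)]
          exact Q.inv_mem hu
        have hx₀CQ : x₀ ∉ centralizer (Q : Set G) := by
          intro hC
          have hne : Q ≠ ⊥ := by
            intro h
            rw [h, Subgroup.card_bot] at hQcard
            exact hp.out.one_lt.ne hQcard
          obtain ⟨u, hu1⟩ := (Subgroup.ne_bot_iff_exists_ne_one).1 hne
          have h1 := Subgroup.mem_centralizer_iff.1 hC (u : G) u.2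
          have h2 : x₀ * (u : G) * x₀⁻¹ = (u : G) := by rw [← h1, mul_inv_cancel_right]
          rw [hx₀inv (u : G) (hQP u.2)] at h2
          have h3 : (u : G) * (u : G) = 1 := by
            nth_rewrite 1 [← h2]
            exact inv_mul_cancel _
          exact hu1 (Subtype.ext (eq_one_of_sq_of_isPGroup hp2 hQp u.2 h3))
        have hgen : ∀ x : G, x ∈ normalizer (Q : Set G) → x ∉ centralizer (Q : Set G) →
            orderOf x = 2 ∧ ∀ c : G, c ∈ centralizer (Q : Set G) → x * c * x⁻¹ = c⁻¹ := by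
          intro x hxN hxC
          have hcaseQ : ∀ z ∈ normalizer (Q : Set G), z ∉ centralizer (Q : Set G) →
              z * z = 1 := by
            intro z hzN hzC
            rcases cases_of_restricted hp2 hres Q hQp z hzN with h | h
            · exact absurd (Subgroup.mem_centralizer_iff.2 fun u hu => (h u hu).symm) hzC
            · exact h.1
          have hxx := hcaseQ x hxN hxC
          constructor
          · have : Fact (Nat.Prime 2) := ⟨Nat.prime_two⟩
            rw [orderOf_eq_prime_iff]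
            exact ⟨by rw [pow_two]; exact hxx, fun h1 => hxC (h1 ▸ Subgroup.one_mem _)⟩
          · intro c hc
            have hxcN : x * c ∈ normalizer (Q : Set G) :=
              (normalizer (Q : Set G)).mul_mem hxN (Subgroup.centralizer_le_normalizer _ hc)
            have hxcC : x * c ∉ centralizer (Q : Set G) := by
              intro h
              apply hxC
              have := (centralizer (Q : Set G)).mul_mem h ((centralizer (Q : Set G)).inv_mem hc)
              rwa [mul_inv_cancel_right] at this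
            have h2 := hcaseQ (x * c) hxcN hxcC
            have hxinv : x⁻¹ = x := (eq_inv_of_mul_eq_one_left hxx).symm
            rw [hxinv]
            have h3 : x * c * x * c = 1 := by rw [← h2]; group
            exact eq_inv_of_mul_eq_one_left h3
        refine ⟨?_, hgen⟩
        obtain ⟨-, hinvC⟩ := hgen x₀ hx₀NQ hx₀CQ
        refine ⟨⟨fun c d => ?_⟩⟩
        apply Subtype.ext
        show (c : G) * d = d * c
        have h1 := hinvC ((c : G) * d) ((centralizer (Q : Set G)).mul_mem c.2 d.2)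
        have h2 := hinvC c c.2
        have h3 := hinvC d d.2
        have h4 : (c : G)⁻¹ * (d : G)⁻¹ = (d : G)⁻¹ * (c : G)⁻¹ := by
          calc (c : G)⁻¹ * (d : G)⁻¹ = (x₀ * c * x₀⁻¹) * (x₀ * d * x₀⁻¹) := by rw [h2, h3]
            _ = x₀ * ((c : G) * d) * x₀⁻¹ := by group
            _ = ((c : G) * d)⁻¹ := h1
            _ = (d : G)⁻¹ * (c : G)⁻¹ := mul_inv_rev _ _
        have h5 := congrArg (fun t => t⁻¹) h4
        simp only [mul_inv_rev, inv_inv] at h5
        exact h5.symm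


/-- `H` with normal Sylow `p`-subgroup `S` and cyclic quotient: a `p'`-element generating `H`
modulo `S`. -/
theorem exists_pprime_generator {H : Type*} [Group H] [Finite H] {p : ℕ} [hp : Fact p.Prime]
    (S : Sylow p H) [hSn : (S : Subgroup H).Normal] (hcyc : IsCyclic (H ⧸ (S : Subgroup H))) :
    ∃ x : H, (orderOf x).Coprime p ∧ ∀ h : H, ∃ i : ℕ, h * (x ^ i)⁻¹ ∈ (S : Subgroup H) := by
  obtain ⟨y', hy'⟩ := hcyc.exists_generator
  obtain ⟨y, rfl⟩ := QuotientGroup.mk_surjective y'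
  obtain ⟨a, m, hm, hym⟩ := Nat.exists_eq_pow_mul_and_not_dvd (orderOf_pos y).ne' p hp.out.ne_one
  refine ⟨y ^ p ^ a, ?_, ?_⟩
  · rw [orderOf_pow_of_dvd (pow_ne_zero _ hp.out.ne_zero) (by rw [hym]; exact dvd_mul_right _ _),
      hym, Nat.mul_div_cancel_left _ (pow_pos hp.out.pos a)]
    exact ((Nat.Prime.coprime_iff_not_dvd hp.out).2 hm).symm
  · intro h
    have h3 : ¬ p ∣ (S : Subgroup H).index := S.not_dvd_index
    have h2 : orderOf (y : H ⧸ (S : Subgroup H)) ∣ (S : Subgroup H).index := by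
      rw [Subgroup.index_eq_card]
      exact orderOf_dvd_natCard _
    have h4 : Nat.Coprime (p ^ a) (orderOf (y : H ⧸ (S : Subgroup H))) :=
      Nat.Coprime.coprime_dvd_right h2
        (Nat.Coprime.pow_left a ((Nat.Prime.coprime_iff_not_dvd hp.out).mpr h3))
    obtain ⟨j, hj⟩ := exists_pow_eq_self_of_coprime h4
    have h5 := hy' (h : H ⧸ (S : Subgroup H))
    rw [← mem_powers_iff_mem_zpowers, Submonoid.mem_powers_iff] at h5
    obtain ⟨k, hk⟩ := h5
    refine ⟨j * k, ?_⟩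
    rw [← QuotientGroup.eq_one_iff, QuotientGroup.mk_mul, QuotientGroup.mk_inv,
      QuotientGroup.mk_pow, QuotientGroup.mk_pow, pow_mul, hj, hk, mul_inv_cancel]

/-- ambient data extracted from a `p`-by-cyclic subgroup -/
theorem exists_data_of_pbc {G : Type*} [Group G] [Finite G] {p : ℕ} [hp : Fact p.Prime]
    (H : Subgroup G) (hN : ∀ S : Sylow p ↥H, (S : Subgroup ↥H).Normal)
    (hC : ∀ (S : Sylow p ↥H) [(S : Subgroup ↥H).Normal], IsCyclic (↥H ⧸ (S : Subgroup ↥H))) :
    ∃ (S₀ : Subgroup G) (y : G), S₀ ≤ H ∧ IsPGroup p S₀ ∧ y ∈ H ∧ (orderOf y).Coprime p ∧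
      (∀ s ∈ S₀, y * s * y⁻¹ ∈ S₀) ∧ (∀ h ∈ H, ∃ i : ℕ, h * (y ^ i)⁻¹ ∈ S₀) := by
  obtain ⟨S⟩ : Nonempty (Sylow p ↥H) := inferInstance
  haveI := hN S
  obtain ⟨x, hxo, hxgen⟩ := exists_pprime_generator S (hC S)
  refine ⟨(S : Subgroup ↥H).map H.subtype, (x : G), Subgroup.map_subtype_le _,
    S.isPGroup'.map _, x.2, by rw [Subgroup.orderOf_coe]; exact hxo, ?_, ?_⟩
  · rintro _ ⟨s, hs, rfl⟩
    exact ⟨x * s * x⁻¹, (hN S).conj_mem s hs x, by simp⟩
  · intro h hh
    obtain ⟨i, hi⟩ := hxgen ⟨h, hh⟩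
    exact ⟨i, ⟨_, hi, by simp⟩⟩


/-- a subgroup generated by a cyclic subgroup and a commuting element of coprime order is cyclic
(copied from helper4's `S4083`) -/
theorem isCyclic_of_cyclic_mul_coprime {G : Type*} [Group G] [Finite G] (H S' : Subgroup G)
    (hS'H : S' ≤ H) (hS'c : IsCyclic S') (x : G) (hxH : x ∈ H)
    (hcomm : ∀ s ∈ S', x * s = s * x) (hco : (Nat.card S').Coprime (orderOf x))
    (hgen : ∀ h ∈ H, ∃ i : ℕ, h * (x ^ i)⁻¹ ∈ S') : IsCyclic H := by
  obtain ⟨⟨s₀, hs₀⟩, hs₀gen⟩ := hS'c.exists_generator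
  have hord : orderOf s₀ = Nat.card S' := by
    have := orderOf_eq_card_of_forall_mem_zpowers hs₀gen
    rwa [Subgroup.orderOf_mk] at this
  have hS'z : ∀ s ∈ S', ∃ a : ℕ, s₀ ^ a = s := by
    intro s hs
    have h5 := hs₀gen ⟨s, hs⟩
    rw [← mem_powers_iff_mem_zpowers, Submonoid.mem_powers_iff] at h5
    obtain ⟨a, ha⟩ := h5
    refine ⟨a, ?_⟩
    have := congrArg Subtype.val ha
    simpa using this
  have hc : Commute s₀ x := (hcomm s₀ hs₀).symm
  have hgH : s₀ * x ∈ H := H.mul_mem (hS'H hs₀) hxH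
  refine ⟨⟨⟨s₀ * x, hgH⟩, fun h => ?_⟩⟩
  obtain ⟨i, hi⟩ := hgen h.1 h.2
  obtain ⟨a, ha⟩ := hS'z _ hi
  have hco' : (orderOf s₀).Coprime (orderOf x) := by rw [hord]; exact hco
  obtain ⟨n, hn1, hn2⟩ := Nat.chineseRemainder hco' a i
  refine ⟨(n : ℤ), ?_⟩
  apply Subtype.ext
  show ((⟨s₀ * x, hgH⟩ : H) ^ (n : ℤ) : H).1 = h.1
  rw [zpow_natCast, Subgroup.coe_pow]
  show (s₀ * x) ^ n = h.1
  rw [hc.mul_pow, (pow_eq_pow_iff_modEq).mpr hn1, (pow_eq_pow_iff_modEq).mpr hn2, ha]
  group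

/-- the elements of order dividing `p` in a commutative subgroup -/
def omegaSub {G : Type*} [Group G] (S₀ : Subgroup G) (hc : ∀ a ∈ S₀, ∀ b ∈ S₀, a * b = b * a)
    (p : ℕ) : Subgroup G where
  carrier := {v | v ∈ S₀ ∧ v ^ p = 1}
  mul_mem' := by
    rintro a b ⟨ha, ha2⟩ ⟨hb, hb2⟩
    refine ⟨S₀.mul_mem ha hb, ?_⟩
    have hcab : Commute a b := hc a ha b hb
    rw [hcab.mul_pow, ha2, hb2, one_mul]
  one_mem' := ⟨S₀.one_mem, one_pow p⟩
  inv_mem' := by
    rintro a ⟨ha, ha2⟩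
    exact ⟨S₀.inv_mem ha, by rw [inv_pow, ha2, inv_one]⟩

theorem card_omegaSub {G : Type*} [Group G] [Finite G] {p : ℕ} [hp : Fact p.Prime]
    (S₀ : Subgroup G) (hS₀p : IsPGroup p S₀) (hS₀cyc : IsCyclic S₀)
    (hc : ∀ a ∈ S₀, ∀ b ∈ S₀, a * b = b * a) (hne : omegaSub S₀ hc p ≠ ⊥) :
    Nat.card (omegaSub S₀ hc p) = p := by
  classical
  have hle : omegaSub S₀ hc p ≤ S₀ := fun v hv => hv.1
  have hΩp : IsPGroup p (omegaSub S₀ hc p) := hS₀p.to_le hle
  obtain ⟨j, hj⟩ := IsPGroup.iff_card.1 hΩp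
  haveI : Fintype S₀ := Fintype.ofFinite _
  have hub := IsCyclic.card_pow_eq_one_le (α := S₀) hp.out.pos
  have hcard_le : Nat.card (omegaSub S₀ hc p) ≤ p := by
    refine le_trans ?_ hub
    rw [← Fintype.card_subtype, ← Nat.card_eq_fintype_card]
    apply Nat.card_le_card_of_injective
      (fun v : omegaSub S₀ hc p => (⟨⟨(v : G), v.2.1⟩, by
        apply Subtype.ext
        simpa using v.2.2⟩ : {a : S₀ // a ^ p = 1}))
    intro v w hvw
    apply Subtype.ext
    have := congrArg (fun t : {a : S₀ // a ^ p = 1} => ((t : S₀) : G)) hvw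
    exact this
  have hgt : 1 < Nat.card (omegaSub S₀ hc p) := (Subgroup.one_lt_card_iff_ne_bot _).2 hne
  rw [hj] at hcard_le hgt ⊢
  rcases j with _ | _ | j
  · simp at hgt
  · simp
  · exfalso
    have : p ^ (j + 1 + 1) = p ^ (j + 1) * p := pow_succ p (j + 1)
    have h2 : 2 ≤ p ^ (j + 1) := by
      calc 2 ≤ p := hp.out.two_le
        _ = p ^ 1 := (pow_one p).symm
        _ ≤ p ^ (j + 1) := Nat.pow_le_pow_right hp.out.pos (by omega)
    nlinarith [hp.out.pos]


theorem backward_dichotomy {G : Type*} [Group G] [Finite G] {p : ℕ} [hp : Fact p.Prime]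
    (P : Sylow p G) (hcyc : IsCyclic P)
    (hcond : normalizer ((P : Subgroup G) : Set G) = centralizer ((P : Subgroup G) : Set G) ∨
      (∀ Q : Subgroup G, Q ≤ P → Nat.card Q = p → QProp Q))
    (S₀ : Subgroup G) (y g : G) (hS₀p : IsPGroup p S₀)
    (hS₀c : ∀ a ∈ S₀, ∀ b ∈ S₀, a * b = b * a) (hS₀cyc : IsCyclic S₀)
    (hyo : (orderOf y).Coprime p) (hyS : ∀ s ∈ S₀, y * s * y⁻¹ ∈ S₀)
    (hS₀P : S₀ ≤ cj g (P : Subgroup G)) :
    (∀ s ∈ S₀, y * s * y⁻¹ = s) ∨
      (S₀ ≠ ⊥ ∧ orderOf y = 2 ∧ ∀ s ∈ S₀, y * s * y⁻¹ = s⁻¹) := by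
  classical
  rcases hcond with hNC | hQ
  · -- fusion is controlled by `N(P) = C(P)`
    left
    intro s hs
    haveI := hcyc
    have hu : g⁻¹ * s * g ∈ (P : Subgroup G) := mem_cj.1 (hS₀P hs)
    have hu2 : g⁻¹ * (y * s * y⁻¹) * g ∈ (P : Subgroup G) := mem_cj.1 (hS₀P (hyS s hs))
    have hu3 : ((g⁻¹ * y * g)⁻¹)⁻¹ * (g⁻¹ * s * g) * (g⁻¹ * y * g)⁻¹ ∈ (P : Subgroup G) := by
      have e : ((g⁻¹ * y * g)⁻¹)⁻¹ * (g⁻¹ * s * g) * (g⁻¹ * y * g)⁻¹ =
          g⁻¹ * (y * s * y⁻¹) * g := by group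
      rw [e]; exact hu2
    obtain ⟨n, hn, hn2⟩ := P.conj_eq_normalizer_conj_of_mem (g⁻¹ * s * g) (g⁻¹ * y * g)⁻¹ hu hu3
    have hnC : n ∈ centralizer ((P : Subgroup G) : Set G) := by rw [← hNC]; exact hn
    have hcomm := Subgroup.mem_centralizer_iff.1 hnC _ hu
    have e1 : n⁻¹ * (g⁻¹ * s * g) * n = g⁻¹ * s * g := by
      rw [mul_assoc, hcomm, ← mul_assoc, inv_mul_cancel, one_mul]
    rw [e1] at hn2
    have e2 : y * s * y⁻¹ = g * (((g⁻¹ * y * g)⁻¹)⁻¹ * (g⁻¹ * s * g) * (g⁻¹ * y * g)⁻¹) * g⁻¹ := by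
      group
    rw [e2, hn2]
    group
  · by_cases hyΩ : ∀ v ∈ S₀, v ^ p = 1 → y * v * y⁻¹ = v
    · left
      intro s hs
      have key := Cfsg.Agent.Helper9.conj_eq_of_conj_eq_on_omega S₀ hS₀c p (orderOf y) y
        (pow_orderOf_eq_one y) hyo hyS hyΩ
      obtain ⟨a, ha⟩ := hS₀p ⟨s, hs⟩
      have ha' : s ^ (p ^ a) = 1 := by
        have := congrArg Subtype.val ha
        simpa using this
      exact key a s hs ha'
    · right
      push Not at hyΩ
      obtain ⟨v₀, hv₀S, hv₀p, hv₀y⟩ := hyΩ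
      have hS₀ne : S₀ ≠ ⊥ := by
        intro h
        rw [h, Subgroup.mem_bot] at hv₀S
        apply hv₀y
        rw [hv₀S]; group
      have hΩne : omegaSub S₀ hS₀c p ≠ ⊥ := by
        intro h
        have : v₀ ∈ omegaSub S₀ hS₀c p := ⟨hv₀S, hv₀p⟩
        rw [h, Subgroup.mem_bot] at this
        apply hv₀y
        rw [this]; group
      have hΩcard := card_omegaSub S₀ hS₀p hS₀cyc hS₀c hΩne
      have hΩle : omegaSub S₀ hS₀c p ≤ S₀ := fun v hv => hv.1
      -- the conjugate inside `P`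
      have hQP : cj g⁻¹ (omegaSub S₀ hS₀c p) ≤ (P : Subgroup G) := by
        rw [cj_le_iff, inv_inv]
        exact hΩle.trans hS₀P
      have hQcard : Nat.card (cj g⁻¹ (omegaSub S₀ hS₀c p)) = p := by
        rw [cj, Subgroup.card_map_of_injective (MulAut.conj g⁻¹).injective, hΩcard]
      obtain ⟨-, hQ2⟩ := hQ _ hQP hQcard
      have hmemQ : ∀ q : G, q ∈ cj g⁻¹ (omegaSub S₀ hS₀c p) ↔
          g * q * g⁻¹ ∈ omegaSub S₀ hS₀c p := by
        intro q
        rw [mem_cj, inv_inv]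
      have hyN : g⁻¹ * y * g ∈ normalizer ((cj g⁻¹ (omegaSub S₀ hS₀c p) : Subgroup G) : Set G) := by
        apply Subgroup.mem_normalizer_fintype
        intro q hq
        have hq' := (hmemQ q).1 hq
        show g⁻¹ * y * g * q * (g⁻¹ * y * g)⁻¹ ∈ cj g⁻¹ (omegaSub S₀ hS₀c p)
        rw [hmemQ]
        have e : g * (g⁻¹ * y * g * q * (g⁻¹ * y * g)⁻¹) * g⁻¹ = y * (g * q * g⁻¹) * y⁻¹ := by
          group
        rw [e]
        refine ⟨hyS _ hq'.1, ?_⟩
        rw [conj_pow, hq'.2]; group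
      have hyC : g⁻¹ * y * g ∉ centralizer ((cj g⁻¹ (omegaSub S₀ hS₀c p) : Subgroup G) : Set G) := by
        intro hC
        have hq₀ : g⁻¹ * v₀ * g ∈ cj g⁻¹ (omegaSub S₀ hS₀c p) := by
          rw [hmemQ]
          have e : g * (g⁻¹ * v₀ * g) * g⁻¹ = v₀ := by group
          rw [e]
          exact ⟨hv₀S, hv₀p⟩
        have h1 := Subgroup.mem_centralizer_iff.1 hC _ hq₀
        apply hv₀y
        have e : y * v₀ * y⁻¹ = g * ((g⁻¹ * y * g) * (g⁻¹ * v₀ * g)) * (g⁻¹ * y⁻¹ * g⁻¹⁻¹) * g⁻¹ := by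
          group
        rw [e, ← h1]
        group
      obtain ⟨hord, hinv⟩ := hQ2 _ hyN hyC
      refine ⟨hS₀ne, ?_, ?_⟩
      · have h1 : orderOf (g⁻¹ * y * g) = orderOf y := by
          have := orderOf_injective (MulAut.conj g⁻¹).toMonoidHom (MulAut.conj g⁻¹).injective y
          simpa using this
        rw [← h1]; exact hord
      · intro s hs
        have hsC : g⁻¹ * s * g ∈ centralizer ((cj g⁻¹ (omegaSub S₀ hS₀c p) : Subgroup G) : Set G) := by
          rw [Subgroup.mem_centralizer_iff]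
          intro q hq
          have hq' := (hmemQ q).1 hq
          have hc := hS₀c _ hq'.1 s hs
          calc q * (g⁻¹ * s * g) = g⁻¹ * ((g * q * g⁻¹) * s) * g := by group
            _ = g⁻¹ * (s * (g * q * g⁻¹)) * g := by rw [hc]
            _ = g⁻¹ * s * g * q := by group
        have h1 := hinv _ hsC
        have e : y * s * y⁻¹ = g * ((g⁻¹ * y * g) * (g⁻¹ * s * g) * (g⁻¹ * y * g)⁻¹) * g⁻¹ := by
          group
        rw [e, h1]
        group


theorem backward {G : Type*} [Group G] [Finite G] {p : ℕ} [hp : Fact p.Prime] (hp2 : p ≠ 2)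
    (P : Sylow p G) (hcyc : IsCyclic P)
    (hcond : normalizer ((P : Subgroup G) : Set G) = centralizer ((P : Subgroup G) : Set G) ∨
      (∀ Q : Subgroup G, Q ≤ P → Nat.card Q = p → QProp Q)) :
    Restricted G p := by
  intro H hN hC
  have : Fact (Nat.Prime 2) := ⟨Nat.prime_two⟩
  obtain ⟨S₀, y, hS₀H, hS₀p, hyH, hyo, hyS, hgen⟩ := exists_data_of_pbc H hN hC
  -- conjugate into `P`
  obtain ⟨P₁, hP₁⟩ := hS₀p.exists_le_sylow
  obtain ⟨g, hg⟩ := MulAction.exists_smul_eq G P P₁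
  have hS₀P : S₀ ≤ cj g (P : Subgroup G) := by
    rw [← sylow_smul_coe, hg]; exact hP₁
  -- `S₀` is cyclic
  obtain ⟨⟨u₀, hu₀⟩, hu₀gen⟩ := hcyc.exists_generator
  have hS₀z : S₀ ≤ zpowers (g * u₀ * g⁻¹) := by
    intro s hs
    have h1 : g⁻¹ * s * g ∈ (P : Subgroup G) := mem_cj.1 (hS₀P hs)
    obtain ⟨k, hk⟩ := Subgroup.mem_zpowers_iff.1 (hu₀gen ⟨_, h1⟩)
    have hk' : u₀ ^ k = g⁻¹ * s * g := by
      have := congrArg Subtype.val hk
      simpa using this
    rw [Subgroup.mem_zpowers_iff]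
    refine ⟨k, ?_⟩
    rw [conj_zpow, hk']; group
  have hS₀cyc : IsCyclic S₀ := Subgroup.isCyclic_of_le hS₀z
  have hS₀c : ∀ a ∈ S₀, ∀ b ∈ S₀, a * b = b * a := by
    intro a ha b hb
    obtain ⟨i, rfl⟩ := Subgroup.mem_zpowers_iff.1 (hS₀z ha)
    obtain ⟨j, rfl⟩ := Subgroup.mem_zpowers_iff.1 (hS₀z hb)
    exact ((Commute.refl _).zpow_zpow i j).eq
  rcases backward_dichotomy P hcyc hcond S₀ y g hS₀p hS₀c hS₀cyc hyo hyS hS₀P with
    hcent | ⟨hne, hy2, hinv⟩
  · left
    apply isCyclic_of_cyclic_mul_coprime H S₀ hS₀H hS₀cyc y hyH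
    · intro s hs
      exact mul_inv_eq_iff_eq_mul.1 (hcent s hs)
    · obtain ⟨k, hk⟩ := IsPGroup.iff_card.1 hS₀p
      rw [hk]
      exact (Nat.Coprime.pow_right k hyo).symm
    · exact hgen
  · right
    obtain ⟨⟨s₀, hs₀⟩, hs₀gen⟩ := hS₀cyc.exists_generator
    have hord : orderOf s₀ = Nat.card S₀ := by
      have := orderOf_eq_card_of_forall_mem_zpowers hs₀gen
      rwa [Subgroup.orderOf_mk] at this
    obtain ⟨a, ha⟩ := IsPGroup.iff_card.1 hS₀p
    have hs₀1 : s₀ ≠ 1 := by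
      intro h
      apply hne
      rw [eq_bot_iff]
      intro s hs
      obtain ⟨k, hk⟩ := Subgroup.mem_zpowers_iff.1 (hs₀gen ⟨s, hs⟩)
      have hk' : s₀ ^ k = s := by
        have := congrArg Subtype.val hk
        simpa using this
      rw [Subgroup.mem_bot, ← hk', h, one_zpow]
    obtain ⟨hyy, hy1⟩ := (orderOf_eq_prime_iff (p := 2)).1 hy2
    rw [pow_two] at hyy
    have hyinv : y⁻¹ = y := (eq_inv_of_mul_eq_one_left hyy).symm
    have hys2 : orderOf (y * s₀) = 2 := by
      rw [orderOf_eq_prime_iff]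
      constructor
      · have h1 := hinv s₀ hs₀
        rw [hyinv] at h1
        rw [pow_two]
        calc y * s₀ * (y * s₀) = (y * s₀ * y) * s₀ := by group
          _ = s₀⁻¹ * s₀ := by rw [h1]
          _ = 1 := inv_mul_cancel _
      · intro h
        have hyS₀ : y = s₀⁻¹ := eq_inv_of_mul_eq_one_left h
        have h1 := hinv s₀ hs₀
        rw [hyS₀] at h1
        have h2 : s₀ * s₀ = 1 := by
          have : s₀⁻¹ * s₀ * s₀⁻¹⁻¹ = s₀ := by group
          rw [this] at h1
          nth_rewrite 1 [h1]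
          exact inv_mul_cancel _
        exact hs₀1 (eq_one_of_sq_of_isPGroup hp2 hS₀p hs₀ h2)
    have hneq : y ≠ y * s₀ := by
      intro h
      apply hs₀1
      have := congrArg (fun t => y⁻¹ * t) h
      simpa using this.symm
    have hprod : y * (y * s₀) = s₀ := by rw [← mul_assoc, hyy, one_mul]
    obtain ⟨e⟩ := Cfsg.Agent.S0206.result y (y * s₀) hy2 hys2 hneq
    rw [hprod, hord, ha] at e
    have hHeq : H = closure ({y, y * s₀} : Set G) := by
      apply le_antisymm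
      · intro h hh
        obtain ⟨i, hi⟩ := hgen h hh
        obtain ⟨k, hk⟩ := Subgroup.mem_zpowers_iff.1 (hs₀gen ⟨_, hi⟩)
        have hk' : s₀ ^ k = h * (y ^ i)⁻¹ := by
          have := congrArg Subtype.val hk
          simpa using this
        have hyc : y ∈ closure ({y, y * s₀} : Set G) := subset_closure (by simp)
        have hysc : y * s₀ ∈ closure ({y, y * s₀} : Set G) := subset_closure (by simp)
        have hs₀c' : s₀ ∈ closure ({y, y * s₀} : Set G) := by
          have h := Subgroup.mul_mem _ hyc hysc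
          rwa [hprod] at h
        have : h = s₀ ^ k * y ^ i := by rw [hk']; group
        rw [this]
        exact Subgroup.mul_mem _ (Subgroup.zpow_mem _ hs₀c' k) (Subgroup.pow_mem _ hyc i)
      · rw [closure_le]
        intro z hz
        rcases hz with rfl | rfl
        · exact hyH
        · exact H.mul_mem hyH (hS₀H hs₀)
    exact ⟨a, ⟨(MulEquiv.subgroupCongr hHeq).trans e⟩⟩

theorem result {G : Type*} [Group G] [Finite G] {p : ℕ}
    [Fact p.Prime] (hp : p ≠ 2) (P : Sylow p G) :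
    (∀ H : Subgroup G, (∀ S : Sylow p ↥H, (S : Subgroup ↥H).Normal) →
        (∀ (S : Sylow p ↥H) [(S : Subgroup ↥H).Normal], IsCyclic (↥H ⧸ (S : Subgroup ↥H))) →
        IsCyclic H ∨ (∃ n : ℕ, Nonempty (H ≃* DihedralGroup (p ^ n)))) ↔
    (IsCyclic P ∧
      (Subgroup.normalizer ((P : Subgroup G) : Set G) = Subgroup.centralizer ((P : Subgroup G) : Set G) ∨
       ((Subgroup.centralizer ((P : Subgroup G) : Set G)).relIndex (Subgroup.normalizer ((P : Subgroup G) : Set G)) = 2 ∧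
        ∀ Q : Subgroup G, Q ≤ P → Nat.card Q = p →
          IsMulCommutative ↥(Subgroup.centralizer (Q : Set G)) ∧
          ∀ x : G, x ∈ Subgroup.normalizer (Q : Set G) → x ∉ Subgroup.centralizer (Q : Set G) →
            orderOf x = 2 ∧ ∀ c : G, c ∈ Subgroup.centralizer (Q : Set G) → x * c * x⁻¹ = c⁻¹))) := by
  constructor
  · intro h
    exact forward hp P h
  · rintro ⟨hcyc, hcond⟩
    apply backward hp P hcyc
    rcases hcond with h | ⟨-, h⟩
    · exact Or.inl h
    · exact Or.inr h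

end Cfsg.Agent.S4082
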