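import Cfsg.Statements.S4083
import Mathlib
import Cfsg.Agent.Lib.Helper34.Dihedral2
import Cfsg.Agent.Lib.Helper4.ElemAb
import Cfsg.Agent.S0206
import Cfsg.Agent.S0228

set_option autoImplicit false
open Cfsg
open scoped Pointwise

namespace Cfsg.Agent.S4083

open Cfsg.Agent.Helper4 Cfsg.Agent.Helper34.Dih

/-- A noncyclic `2`-subgroup of a dihedral-like group is dihedral of `2`-power degree and contains
a four-group. -/
theorem dihedral_of_le_dihLike {X : Type*} [Group X] [Finite X] {D : Subgroup X} (hD : DihLike D)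
    (U : Subgroup X) (hUD : U ≤ D) (hU2 : IsPGroup 2 U) (hnc : ¬ IsCyclic U) :
    (∃ k : ℕ, Nonempty (U ≃* DihedralGroup (2 ^ k))) ∧
      ∃ K : Subgroup X, K ≤ U ∧ Nat.card K = 4 ∧ ∀ k ∈ K, k ^ 2 = 1 := by
  classical
  obtain ⟨R, hRD, hRc, hmul, hinv⟩ := hD
  set U0 : Subgroup X := U ⊓ R with hU0
  have hU0c : IsCyclic U0 := Subgroup.isCyclic_of_le (inf_le_right : U0 ≤ R)
  obtain ⟨⟨c, hcU0⟩, hcgen⟩ := hU0c.exists_generator
  have hcU : c ∈ U := (Subgroup.mem_inf.mp hcU0).1
  have hcR : c ∈ R := (Subgroup.mem_inf.mp hcU0).2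
  have hU0z : ∀ x ∈ U0, x ∈ Subgroup.zpowers c := by
    intro x hx
    obtain ⟨k, hk⟩ := Subgroup.mem_zpowers_iff.mp (hcgen ⟨x, hx⟩)
    refine ⟨k, ?_⟩
    have := congrArg Subtype.val hk
    simpa using this
  -- an element outside `R`
  have hex : ∃ b ∈ U, b ∉ R := by
    by_contra hall
    push Not at hall
    exact hnc (Subgroup.isCyclic_of_le (fun u hu => hall u hu : U ≤ R))
  obtain ⟨b, hbU, hbR⟩ := hex
  have hbb : b * b = 1 := hinv b (hUD hbU) hbR
  have hb1 : b ≠ 1 := fun h => hbR (h ▸ R.one_mem)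
  have hbinv : b⁻¹ = b := inv_eq_of_mul_eq_one_left hbb
  -- decomposition
  have hdec : ∀ u ∈ U, u ∈ Subgroup.zpowers c ∨ ∃ w ∈ Subgroup.zpowers c, u = b * w := by
    intro u hu
    by_cases huR : u ∈ R
    · exact Or.inl (hU0z u (Subgroup.mem_inf.mpr ⟨hu, huR⟩))
    · right
      refine ⟨b * u, hU0z _ (Subgroup.mem_inf.mpr ⟨U.mul_mem hbU hu,
        hmul b (hUD hbU) u (hUD hu) hbR huR⟩), ?_⟩
      rw [← mul_assoc, hbb, one_mul]
  -- `c ≠ 1`
  have hc1 : c ≠ 1 := by
    intro hc
    apply hnc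
    refine ⟨⟨⟨b, hbU⟩, fun u => ?_⟩⟩
    rcases hdec u u.2 with h | ⟨w, hw, h⟩
    · refine ⟨0, ?_⟩
      rw [hc, Subgroup.zpowers_one_eq_bot, Subgroup.mem_bot] at h
      apply Subtype.ext
      simp [h]
    · refine ⟨1, ?_⟩
      rw [hc, Subgroup.zpowers_one_eq_bot, Subgroup.mem_bot] at hw
      apply Subtype.ext
      simp [h, hw]
  have hbcR : b * c ∉ R := by
    intro h
    apply hbR
    have : b = (b * c) * c⁻¹ := by group
    rw [this]
    exact R.mul_mem h (R.inv_mem hcR)
  have hbcU : b * c ∈ U := U.mul_mem hbU hcU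
  have hbc2 : (b * c) * (b * c) = 1 := hinv _ (hUD hbcU) hbcR
  have hbc1 : b * c ≠ 1 := fun h => hbcR (h ▸ R.one_mem)
  have hob : orderOf b = 2 := orderOf_eq_prime (by rw [pow_two]; exact hbb) hb1
  have hobc : orderOf (b * c) = 2 := orderOf_eq_prime (by rw [pow_two]; exact hbc2) hbc1
  have hne : b ≠ b * c := by
    intro h
    apply hc1
    have : b * 1 = b * c := by rw [mul_one]; exact h
    exact (mul_left_cancel this).symm
  -- `b` inverts `c`
  have hinvc : b * c * b⁻¹ = c⁻¹ := by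
    rw [hbinv]
    have : b * c * b * c = 1 := by
      calc b * c * b * c = (b * c) * (b * c) := by group
        _ = 1 := hbc2
    exact eq_inv_of_mul_eq_one_left this
  -- the order of `c`
  obtain ⟨j, hj⟩ : ∃ j : ℕ, orderOf c = 2 ^ j := by
    obtain ⟨k, hk⟩ := hU2 ⟨c, hcU⟩
    have h1 : c ^ 2 ^ k = 1 := by
      have := congrArg Subtype.val hk
      simpa using this
    have h2 : orderOf c ∣ 2 ^ k := orderOf_dvd_of_pow_eq_one h1
    obtain ⟨j, -, hj⟩ := (Nat.dvd_prime_pow Nat.prime_two).mp h2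
    exact ⟨j, hj⟩
  have hj0 : j ≠ 0 := by
    intro h0
    rw [h0, pow_zero, orderOf_eq_one_iff] at hj
    exact hc1 hj
  constructor
  · -- the isomorphism
    refine ⟨j, ?_⟩
    obtain ⟨e⟩ := Cfsg.Agent.S0206.result b (b * c) hob hobc hne
    have hprod : b * (b * c) = c := by rw [← mul_assoc, hbb, one_mul]
    rw [hprod, hj] at e
    have hcl : Subgroup.closure ({b, b * c} : Set X) = U := by
      apply le_antisymm
      · rw [Subgroup.closure_le]
        intro x hx
        rcases hx with h | h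
        · rw [h]; exact hbU
        · rw [Set.mem_singleton_iff] at h
          rw [h]; exact hbcU
      · intro u hu
        have hbm : b ∈ Subgroup.closure ({b, b * c} : Set X) :=
          Subgroup.subset_closure (by simp)
        have hbcm : b * c ∈ Subgroup.closure ({b, b * c} : Set X) :=
          Subgroup.subset_closure (by simp)
        have hcm : c ∈ Subgroup.closure ({b, b * c} : Set X) := by
          have h := Subgroup.mul_mem _ (Subgroup.inv_mem _ hbm) hbcm
          rwa [inv_mul_cancel_left] at h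
        have hle : Subgroup.zpowers c ≤ Subgroup.closure ({b, b * c} : Set X) :=
          Subgroup.zpowers_le.mpr hcm
        rcases hdec u hu with h | ⟨w, hw, h⟩
        · exact hle h
        · rw [h]; exact Subgroup.mul_mem _ hbm (hle hw)
    exact ⟨(MulEquiv.subgroupCongr hcl.symm).trans e⟩
  · -- the four-group
    obtain ⟨i, hi⟩ : ∃ i, j = i + 1 := ⟨j - 1, by omega⟩
    obtain ⟨z, hz⟩ : ∃ z : X, z = c ^ 2 ^ i := ⟨_, rfl⟩
    have hzz : z * z = 1 := by
      rw [hz, ← pow_add, ← two_mul, ← pow_succ', ← hi, ← hj, pow_orderOf_eq_one]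
    have hz1 : z ≠ 1 := by
      rw [hz]
      intro h
      have h1 := orderOf_dvd_of_pow_eq_one h
      rw [hj, hi] at h1
      have := Nat.le_of_dvd (by positivity) h1
      have h2 : 2 ^ i < 2 ^ (i + 1) := Nat.pow_lt_pow_right (by norm_num) (by omega)
      omega
    have hzR : z ∈ R := by rw [hz]; exact R.pow_mem hcR _
    have hzU : z ∈ U := by rw [hz]; exact U.pow_mem hcU _
    have hzb : z ≠ b := fun h => hbR (h ▸ hzR)
    have hcomm : z * b = b * z := by
      have h1 : b * z * b⁻¹ = z⁻¹ := by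
        rw [hz, ← conj_pow, hinvc, inv_pow]
      have h2 : z⁻¹ = z := inv_eq_of_mul_eq_one_left hzz
      rw [h2] at h1
      calc z * b = (b * z * b⁻¹) * b := by rw [h1]
        _ = b * z := by group
    refine ⟨fourSub z b hzz hbb hcomm, ?_, card_fourSub hzz hbb hcomm hz1 hb1 hzb, ?_⟩
    · intro w hw
      rcases mem_fourSub.mp hw with h | h | h | h
      · rw [h]; exact U.one_mem
      · rw [h]; exact hzU
      · rw [h]; exact hbU
      · rw [h]; exact U.mul_mem hzU hbU
    · intro w hw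
      rw [pow_two]
      rcases mem_fourSub.mp hw with h | h | h | h
      · rw [h, mul_one]
      · rw [h, hzz]
      · rw [h, hbb]
      · rw [h]
        calc z * b * (z * b) = z * (b * z) * b := by group
          _ = z * (z * b) * b := by rw [hcomm]
          _ = (z * z) * (b * b) := by group
          _ = 1 := by rw [hzz, hbb, mul_one]

/-- `2`-elements lie in a normal Sylow `2`-subgroup -/
theorem mem_sylow_of_two_pow {H : Type*} [Group H] [Finite H] (S : Sylow 2 H)
    [hSn : (S : Subgroup H).Normal] (h : H) (k : ℕ) (hk : h ^ 2 ^ k = 1) :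
    h ∈ (S : Subgroup H) := by
  haveI : Fact (Nat.Prime 2) := ⟨Nat.prime_two⟩
  rw [← QuotientGroup.eq_one_iff, ← orderOf_eq_one_iff]
  have h1 : orderOf (h : H ⧸ (S : Subgroup H)) ∣ 2 ^ k := by
    apply orderOf_dvd_of_pow_eq_one
    rw [← QuotientGroup.mk_pow, hk]
    rfl
  have h2 : orderOf (h : H ⧸ (S : Subgroup H)) ∣ (S : Subgroup H).index := by
    rw [Subgroup.index_eq_card]
    exact orderOf_dvd_natCard _
  have h3 : ¬ 2 ∣ (S : Subgroup H).index := S.not_dvd_index
  have h4 : Nat.Coprime (2 ^ k) (S : Subgroup H).index :=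
    Nat.Coprime.pow_left k ((Nat.Prime.coprime_iff_not_dvd Nat.prime_two).mpr h3)
  exact Nat.eq_one_of_dvd_coprimes h4 h1 h2

/-- `H` with normal Sylow `2`-subgroup `S` and cyclic quotient: an odd-order element generating
`H` modulo `S`. -/
theorem exists_odd_generator {H : Type*} [Group H] [Finite H] (S : Sylow 2 H)
    [hSn : (S : Subgroup H).Normal] (hcyc : IsCyclic (H ⧸ (S : Subgroup H))) :
    ∃ x : H, (orderOf x).Coprime 2 ∧ ∀ h : H, ∃ i : ℕ, h * (x ^ i)⁻¹ ∈ (S : Subgroup H) := by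
  haveI : Fact (Nat.Prime 2) := ⟨Nat.prime_two⟩
  obtain ⟨y', hy'⟩ := hcyc.exists_generator
  obtain ⟨y, rfl⟩ := QuotientGroup.mk_surjective y'
  obtain ⟨a, m, hm, hym⟩ := Nat.exists_eq_two_pow_mul_odd (orderOf_pos y).ne'
  refine ⟨y ^ 2 ^ a, ?_, ?_⟩
  · rw [orderOf_pow' y (pow_ne_zero _ (by norm_num)), hym]
    have h1 : Nat.gcd (2 ^ a * m) (2 ^ a) = 2 ^ a := Nat.gcd_eq_right (dvd_mul_right _ _)
    rw [h1, Nat.mul_div_cancel_left _ (by positivity)]
    exact Nat.Coprime.symm (Nat.coprime_two_left.mpr hm)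
  · intro h
    have h3 : ¬ 2 ∣ (S : Subgroup H).index := S.not_dvd_index
    have h2 : orderOf (y : H ⧸ (S : Subgroup H)) ∣ (S : Subgroup H).index := by
      rw [Subgroup.index_eq_card]
      exact orderOf_dvd_natCard _
    have h4 : Nat.Coprime (2 ^ a) (orderOf (y : H ⧸ (S : Subgroup H))) :=
      Nat.Coprime.coprime_dvd_right h2
        (Nat.Coprime.pow_left a ((Nat.Prime.coprime_iff_not_dvd Nat.prime_two).mpr h3))
    obtain ⟨j, hj⟩ := exists_pow_eq_self_of_coprime h4
    have h5 := hy' (h : H ⧸ (S : Subgroup H))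
    rw [← mem_powers_iff_mem_zpowers, Submonoid.mem_powers_iff] at h5
    obtain ⟨k, hk⟩ := h5
    refine ⟨j * k, ?_⟩
    rw [← QuotientGroup.eq_one_iff, QuotientGroup.mk_mul, QuotientGroup.mk_inv,
      QuotientGroup.mk_pow, QuotientGroup.mk_pow, pow_mul, hj, hk, mul_inv_cancel]

/-- a subgroup generated by a cyclic subgroup and a commuting element of coprime order is cyclic -/
theorem isCyclic_of_cyclic_mul_coprime {G : Type*} [Group G] [Finite G] (H S' : Subgroup G)
    (hS'H : S' ≤ H) (hS'c : IsCyclic S') (x : G) (hxH : x ∈ H)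
    (hcomm : ∀ s ∈ S', x * s = s * x) (hco : (Nat.card S').Coprime (orderOf x))
    (hgen : ∀ h ∈ H, ∃ i : ℕ, h * (x ^ i)⁻¹ ∈ S') : IsCyclic H := by
  obtain ⟨⟨s₀, hs₀⟩, hs₀gen⟩ := hS'c.exists_generator
  have hord : orderOf s₀ = Nat.card S' := by
    have := orderOf_eq_card_of_forall_mem_zpowers hs₀gen
    rwa [Subgroup.orderOf_mk] at this
  have hS'z : ∀ s ∈ S', ∃ a : ℕ, s₀ ^ a = s := by
    intro s hs
    have h5 := hs₀gen ⟨s, hs⟩
    rw [← mem_powers_iff_mem_zpowers, Submonoid.mem_powers_iff] at h5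
    obtain ⟨a, ha⟩ := h5
    refine ⟨a, ?_⟩
    have := congrArg Subtype.val ha
    simpa using this
  have hc : Commute s₀ x := (hcomm s₀ hs₀).symm
  have hgH : s₀ * x ∈ H := H.mul_mem (hS'H hs₀) hxH
  refine ⟨⟨⟨s₀ * x, hgH⟩, fun h => ?_⟩⟩
  obtain ⟨i, hi⟩ := hgen h.1 h.2
  obtain ⟨a, ha⟩ := hS'z _ hi
  have hco' : (orderOf s₀).Coprime (orderOf x) := by rw [hord]; exact hco
  obtain ⟨n, hn1, hn2⟩ := Nat.chineseRemainder hco' a i
  refine ⟨(n : ℤ), ?_⟩
  apply Subtype.ext
  show ((⟨s₀ * x, hgH⟩ : H) ^ (n : ℤ) : H).1 = h.1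
  rw [zpow_natCast, Subgroup.coe_pow]
  show (s₀ * x) ^ n = h.1
  rw [hc.mul_pow, (pow_eq_pow_iff_modEq).mpr hn1, (pow_eq_pow_iff_modEq).mpr hn2, ha]
  group

/-- the right-hand side condition, for an arbitrary subgroup -/
def Good {G : Type*} [Group G] (D : Subgroup G) : Prop :=
  IsCyclic D ∨ (DihLike D ∧ ∀ K : Subgroup G, K ≤ D → Nat.card K = 4 → (∀ k ∈ K, k ^ 2 = 1) →
    Subgroup.centralizer (K : Set G) = K)

/-- the order 12 case -/
theorem a4_case {G : Type*} [Group G] [Finite G] {D : Subgroup G} (hDih : DihLike D)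
    (H : Subgroup G) (S : Sylow 2 ↥H) [hSn : (S : Subgroup ↥H).Normal]
    (S' : Subgroup G) (hS'mem : ∀ h : ↥H, (h : G) ∈ S' ↔ h ∈ (S : Subgroup ↥H))
    (hS'H : S' ≤ H) (hSD : S' ≤ D) (hS'2 : IsPGroup 2 S') (hS'4 : Nat.card S' = 4)
    (hself : Subgroup.centralizer (S' : Set G) = S')
    (hv : ∀ v ∈ S', v * v = 1) (x : G) (hxH : x ∈ H) (hxodd : (orderOf x).Coprime 2)
    (hnorm : x ∈ Subgroup.normalizer (S' : Set G))
    (hgen : ∀ h ∈ H, ∃ i : ℕ, h * (x ^ i)⁻¹ ∈ S')
    (hcen : x ∉ Subgroup.centralizer (S' : Set G)) :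
    Nonempty (H ≃* alternatingGroup (Fin 4)) := by
  classical
  haveI : Fact (Nat.Prime 2) := ⟨Nat.prime_two⟩
  haveI : Fact (Nat.Prime 3) := ⟨Nat.prime_three⟩
  have hodd_of : ∀ g : G, g ∈ S' → (orderOf g).Coprime 2 → g = 1 := by
    intro g hg hgo
    obtain ⟨k, hk⟩ := hS'2 ⟨g, hg⟩
    have h1 : g ^ 2 ^ k = 1 := by
      have := congrArg Subtype.val hk
      simpa using this
    have h2 : orderOf g ∣ 2 ^ k := orderOf_dvd_of_pow_eq_one h1
    have h3 : orderOf g = 1 :=
      Nat.eq_one_of_dvd_coprimes (Nat.Coprime.pow_right k hgo) dvd_rfl h2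
    exact orderOf_eq_one_iff.mp h3
  have hnofix : ∀ g : G, g ∈ Subgroup.normalizer (S' : Set G) → (orderOf g).Coprime 2 →
      g ∉ Subgroup.centralizer (S' : Set G) → ∀ t ∈ S', t ≠ 1 → g * t * g⁻¹ ≠ t :=
    fun g hg hgo hgc t ht ht1 h =>
      hgc (hDih.centralizes_of_fixed S' hSD hv g hg hgo t ht ht1 h)
  have hconj : ∀ s ∈ S', x * s * x⁻¹ ∈ S' := fun s hs =>
    (Subgroup.mem_normalizer_iff.mp hnorm s).mp hs
  -- the square of `x`
  have hx2n : x * x ∈ Subgroup.normalizer (S' : Set G) := Subgroup.mul_mem _ hnorm hnorm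
  have hx2o : (orderOf (x * x)).Coprime 2 := by
    have : orderOf (x * x) ∣ orderOf x := by
      rw [← pow_two]; exact orderOf_pow_dvd 2
    exact Nat.Coprime.coprime_dvd_left this hxodd
  have hx2c : x * x ∉ Subgroup.centralizer (S' : Set G) := by
    intro h
    apply hcen
    obtain ⟨m, hm⟩ := exists_pow_eq_self_of_coprime (x := x) (n := 2) hxodd.symm
    rw [← hm, pow_two]
    exact Subgroup.pow_mem _ h m
  -- a non-identity element
  have hex : ∃ t₀ ∈ S', t₀ ≠ 1 := by
    by_contra hall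
    push Not at hall
    have : S' = ⊥ := by
      rw [Subgroup.eq_bot_iff_forall]; exact hall
    rw [this, Subgroup.card_bot] at hS'4
    omega
  obtain ⟨t₀, ht₀, ht₀1⟩ := hex
  obtain ⟨t₁, ht₁⟩ : ∃ t₁, t₁ = x * t₀ * x⁻¹ := ⟨_, rfl⟩
  obtain ⟨t₂, ht₂⟩ : ∃ t₂, t₂ = x * t₁ * x⁻¹ := ⟨_, rfl⟩
  obtain ⟨t₃, ht₃⟩ : ∃ t₃, t₃ = x * t₂ * x⁻¹ := ⟨_, rfl⟩
  have hconj1 : ∀ t : G, t ≠ 1 → x * t * x⁻¹ ≠ 1 := by
    intro t ht h
    apply ht
    have : t = x⁻¹ * (x * t * x⁻¹) * x := by group
    rw [this, h]; group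
  have ht₁S : t₁ ∈ S' := ht₁ ▸ hconj _ ht₀
  have ht₂S : t₂ ∈ S' := ht₂ ▸ hconj _ ht₁S
  have ht₃S : t₃ ∈ S' := ht₃ ▸ hconj _ ht₂S
  have ht₁1 : t₁ ≠ 1 := ht₁ ▸ hconj1 _ ht₀1
  have ht₂1 : t₂ ≠ 1 := ht₂ ▸ hconj1 _ ht₁1
  have ht₃1 : t₃ ≠ 1 := ht₃ ▸ hconj1 _ ht₂1
  have h10 : t₁ ≠ t₀ := ht₁ ▸ hnofix x hnorm hxodd hcen t₀ ht₀ ht₀1
  have h21 : t₂ ≠ t₁ := ht₂ ▸ hnofix x hnorm hxodd hcen t₁ ht₁S ht₁1
  have h32 : t₃ ≠ t₂ := ht₃ ▸ hnofix x hnorm hxodd hcen t₂ ht₂S ht₂1
  have h20 : t₂ ≠ t₀ := by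
    have e : t₂ = (x * x) * t₀ * (x * x)⁻¹ := by rw [ht₂, ht₁]; group
    rw [e]
    exact hnofix (x * x) hx2n hx2o hx2c t₀ ht₀ ht₀1
  have h31 : t₃ ≠ t₁ := by
    have e : t₃ = (x * x) * t₁ * (x * x)⁻¹ := by rw [ht₃, ht₂]; group
    rw [e]
    exact hnofix (x * x) hx2n hx2o hx2c t₁ ht₁S ht₁1
  -- `S' = {1, t₀, t₁, t₂}`
  have hsub : ((({1, t₀, t₁, t₂} : Finset G)) : Set G) ⊆ (S' : Set G) := by
    intro u hu
    simp only [Finset.coe_insert, Finset.coe_singleton, Set.mem_insert_iff,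
      Set.mem_singleton_iff] at hu
    rcases hu with h | h | h | h
    · rw [h]; exact S'.one_mem
    · rw [h]; exact ht₀
    · rw [h]; exact ht₁S
    · rw [h]; exact ht₂S
  have hcard4 : ({1, t₀, t₁, t₂} : Finset G).card = 4 := by
    rw [Finset.card_insert_of_notMem, Finset.card_insert_of_notMem, Finset.card_insert_of_notMem,
      Finset.card_singleton]
    · simp only [Finset.mem_singleton]; exact h21.symm
    · simp only [Finset.mem_insert, Finset.mem_singleton, not_or]
      exact ⟨h10.symm, h20.symm⟩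
    · simp only [Finset.mem_insert, Finset.mem_singleton, not_or]
      exact ⟨ht₀1.symm, ht₁1.symm, ht₂1.symm⟩
  have hSeq : ((({1, t₀, t₁, t₂} : Finset G)) : Set G) = (S' : Set G) := by
    apply Set.eq_of_subset_of_ncard_le hsub _ (Set.toFinite _)
    rw [Set.ncard_coe_finset, hcard4]
    have : (S' : Set G).ncard = Nat.card S' := (Nat.card_coe_set_eq _).symm
    rw [this, hS'4]
  have ht₃0 : t₃ = t₀ := by
    have h := ht₃S
    rw [← SetLike.mem_coe, ← hSeq] at h
    simp only [Finset.coe_insert, Finset.coe_singleton, Set.mem_insert_iff,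
      Set.mem_singleton_iff] at h
    rcases h with h | h | h | h
    · exact absurd h ht₃1
    · exact h
    · exact absurd h h31
    · exact absurd h h32
  -- `x³ = 1`
  have hx3 : x * x * x = 1 := by
    apply hodd_of
    · rw [← hself]
      apply hDih.centralizes_of_fixed S' hSD hv (x * x * x)
        (Subgroup.mul_mem _ hx2n hnorm) _ t₀ ht₀ ht₀1
      · have e : (x * x * x) * t₀ * (x * x * x)⁻¹ = t₃ := by rw [ht₃, ht₂, ht₁]; group
        rw [e, ht₃0]
      · have : orderOf (x * x * x) ∣ orderOf x := by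
          have e : x * x * x = x ^ 3 := by
            simp only [pow_succ, pow_zero, one_mul]
          rw [e]; exact orderOf_pow_dvd 3
        exact Nat.Coprime.coprime_dvd_left this hxodd
    · have : orderOf (x * x * x) ∣ orderOf x := by
        have e : x * x * x = x ^ 3 := by
          simp only [pow_succ, pow_zero, one_mul]
        rw [e]; exact orderOf_pow_dvd 3
      exact Nat.Coprime.coprime_dvd_left this hxodd
  have hx1 : x ≠ 1 := by
    intro h
    apply hcen
    rw [h]; exact Subgroup.one_mem _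
  have hx3' : x ^ 3 = 1 := by
    rw [← hx3]; simp only [pow_succ, pow_zero, one_mul]
  have hox : orderOf x = 3 := orderOf_eq_prime hx3' hx1
  -- the order of `H`
  have hcard : Nat.card H = 12 := by
    apply le_antisymm
    · -- surjection
      let f : ↥S' × Fin 3 → ↥H := fun q => ⟨q.1.1 * x ^ (q.2 : ℕ),
        H.mul_mem (hS'H q.1.2) (H.pow_mem hxH _)⟩
      have hf : Function.Surjective f := by
        intro h
        obtain ⟨i, hi⟩ := hgen h.1 h.2
        refine ⟨(⟨h.1 * (x ^ i)⁻¹, hi⟩, ⟨i % 3, Nat.mod_lt _ (by norm_num)⟩), ?_⟩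
        apply Subtype.ext
        show h.1 * (x ^ i)⁻¹ * x ^ (i % 3) = h.1
        have : x ^ (i % 3) = x ^ i := by
          rw [← hox]; exact pow_mod_orderOf x i
        rw [this]; group
      have := Nat.card_le_card_of_surjective f hf
      rw [Nat.card_prod, hS'4, Nat.card_eq_fintype_card (α := Fin 3), Fintype.card_fin] at this
      exact this
    · have h4 : 4 ∣ Nat.card H := by
        rw [← hS'4]; exact Subgroup.card_dvd_of_le hS'H
      have h3 : 3 ∣ Nat.card H := by
        have := orderOf_dvd_natCard (⟨x, hxH⟩ : ↥H)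
        rwa [Subgroup.orderOf_mk, hox] at this
      have h12 : 4 * 3 ∣ Nat.card H :=
        Nat.Coprime.mul_dvd_of_dvd_of_dvd (by norm_num) h4 h3
      exact Nat.le_of_dvd Nat.card_pos h12
  -- no central involution
  have hz : ∀ z : ↥H, orderOf z = 2 → z ∉ Subgroup.center ↥H := by
    intro z hoz hzc
    have hz2 : z ^ 2 ^ 1 = 1 := by
      rw [pow_one, ← hoz]; exact pow_orderOf_eq_one z
    have hzS := mem_sylow_of_two_pow S z 1 hz2
    have hzS' : (z : G) ∈ S' := (hS'mem z).mpr hzS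
    have hz1 : (z : G) ≠ 1 := by
      intro h
      have : z = 1 := Subtype.ext h
      rw [this, orderOf_one] at hoz
      omega
    have hcomm := Subgroup.mem_center_iff.mp hzc ⟨x, hxH⟩
    have hcomm' : x * (z : G) = (z : G) * x := by
      have := congrArg Subtype.val hcomm
      simpa using this
    apply hnofix x hnorm hxodd hcen (z : G) hzS' hz1
    rw [hcomm']; group
  exact Cfsg.Agent.S0228.result hcard hz

/-- the core of the direction `⇐` -/
theorem core {G : Type*} [Group G] [Finite G] (D : Subgroup G) (hgood : Good D)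
    (H : Subgroup G) (S : Sylow 2 ↥H) [hSn : (S : Subgroup ↥H).Normal]
    (hcyc : IsCyclic (↥H ⧸ (S : Subgroup ↥H)))
    (hSD : (S : Subgroup ↥H).map H.subtype ≤ D) :
    IsCyclic H ∨ (∃ n : ℕ, Nonempty (H ≃* DihedralGroup (2 ^ n))) ∨
      Nonempty (H ≃* alternatingGroup (Fin 4)) := by
  classical
  haveI : Fact (Nat.Prime 2) := ⟨Nat.prime_two⟩
  obtain ⟨x₀, hx₀odd, hx₀gen⟩ := exists_odd_generator S hcyc
  obtain ⟨S', hS'⟩ : ∃ S' : Subgroup G, S' = (S : Subgroup ↥H).map H.subtype := ⟨_, rfl⟩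
  rw [← hS'] at hSD
  obtain ⟨x, hxdef⟩ : ∃ x : G, x = (x₀ : G) := ⟨_, rfl⟩
  have hxH : x ∈ H := hxdef ▸ x₀.2
  have hxodd : (orderOf x).Coprime 2 := by
    rw [hxdef, Subgroup.orderOf_coe]; exact hx₀odd
  have hS'H : S' ≤ H := by rw [hS']; exact Subgroup.map_subtype_le _
  have hS'mem : ∀ h : ↥H, (h : G) ∈ S' ↔ h ∈ (S : Subgroup ↥H) := by
    intro h
    rw [hS', Subgroup.mem_map]
    constructor
    · rintro ⟨y, hy, hyh⟩
      have : y = h := Subtype.ext hyh
      rwa [← this]
    · intro hh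
      exact ⟨h, hh, rfl⟩
  have hgen : ∀ h ∈ H, ∃ i : ℕ, h * (x ^ i)⁻¹ ∈ S' := by
    intro h hh
    obtain ⟨i, hi⟩ := hx₀gen ⟨h, hh⟩
    refine ⟨i, ?_⟩
    have := (hS'mem _).mpr hi
    simpa [hxdef] using this
  have hS'2 : IsPGroup 2 S' := by
    rw [hS']; exact S.isPGroup'.map H.subtype
  have hconj : ∀ s ∈ S', x * s * x⁻¹ ∈ S' := by
    intro s hs
    have hsH := hS'H hs
    have h1 : (⟨s, hsH⟩ : ↥H) ∈ (S : Subgroup ↥H) := (hS'mem ⟨s, hsH⟩).mp hs
    have h2 := hSn.conj_mem _ h1 ⟨x, hxH⟩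
    have := (hS'mem _).mpr h2
    simpa using this
  have hnorm : x ∈ Subgroup.normalizer (S' : Set G) := mem_normalizer_of_conj_mem' S' x hconj
  have hx1_of : x ∈ S' → x = 1 := by
    intro hg
    obtain ⟨k, hk⟩ := hS'2 ⟨x, hg⟩
    have h1 : x ^ 2 ^ k = 1 := by
      have := congrArg Subtype.val hk
      simpa using this
    have h2 : orderOf x ∣ 2 ^ k := orderOf_dvd_of_pow_eq_one h1
    have h3 : orderOf x = 1 :=
      Nat.eq_one_of_dvd_coprimes (Nat.Coprime.pow_right k hxodd) dvd_rfl h2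
    exact orderOf_eq_one_iff.mp h3
  have hH_eq_of : x = 1 → ∀ h ∈ H, h ∈ S' := by
    intro hx h hh
    obtain ⟨i, hi⟩ := hgen h hh
    simpa [hx] using hi
  -- cyclic branch
  have hcyclic_branch : IsCyclic S' → IsCyclic H := by
    intro hc
    haveI := hc
    have hcen := centralizes_cyclic_two S' hS'2 x hnorm hxodd
    apply isCyclic_of_cyclic_mul_coprime H S' hS'H hc x hxH _ _ hgen
    · intro s hs
      exact (Subgroup.mem_centralizer_iff.mp hcen s hs).symm
    · obtain ⟨k, hk⟩ := IsPGroup.iff_card.mp hS'2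
      rw [hk]
      exact Nat.Coprime.pow_left k hxodd.symm
  -- dihedral branch when `H = S'`
  have hdih_branch : (∃ k : ℕ, Nonempty (S' ≃* DihedralGroup (2 ^ k))) → x = 1 →
      ∃ n : ℕ, Nonempty (H ≃* DihedralGroup (2 ^ n)) := by
    rintro ⟨k, ⟨e⟩⟩ hx
    have : H = S' := le_antisymm (hH_eq_of hx) hS'H
    exact ⟨k, ⟨(MulEquiv.subgroupCongr this).trans e⟩⟩
  rcases hgood with hDc | ⟨hDih, hself⟩
  · left
    haveI := hDc
    exact hcyclic_branch (Subgroup.isCyclic_of_le hSD)
  by_cases hS'c : IsCyclic S'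
  · left; exact hcyclic_branch hS'c
  obtain ⟨hiso, K, hKS', hK4, hKexp⟩ := dihedral_of_le_dihLike hDih S' hSD hS'2 hS'c
  have hKself := hself K (hKS'.trans hSD) hK4 hKexp
  have hcentral_branch : x ∈ Subgroup.centralizer (S' : Set G) →
      ∃ n : ℕ, Nonempty (H ≃* DihedralGroup (2 ^ n)) := by
    intro hcen
    apply hdih_branch hiso
    apply hx1_of
    apply hKS'
    rw [← hKself]
    exact Subgroup.centralizer_le (SetLike.coe_subset_coe.mpr hKS') hcen
  by_cases hv : ∃ v ∈ S', v * v ≠ 1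
  · right; left
    exact hcentral_branch (hDih.centralizes_of_sq_ne_one S' hSD hS'2 x hnorm hxodd hv)
  push Not at hv
  by_cases hcen : x ∈ Subgroup.centralizer (S' : Set G)
  · right; left; exact hcentral_branch hcen
  right; right
  have hle4 := hDih.card_le_four S' hSD hv
  have hge4 : 4 ≤ Nat.card S' := by
    rw [← hK4]; exact Subgroup.card_le_of_le hKS'
  have hS'4 : Nat.card S' = 4 := le_antisymm hle4 hge4
  have hKeq : K = S' := Subgroup.eq_of_le_of_card_ge hKS' (by rw [hK4, hS'4])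
  rw [hKeq] at hKself
  exact a4_case hDih H S S' hS'mem hS'H hSD hS'2 hS'4 hKself hv x hxH hxodd hnorm hgen hcen

/-- transport of `Good` along conjugation -/
theorem good_conj {G : Type*} [Group G] (D D' : Subgroup G) (g : G)
    (h : ∀ x : G, x ∈ D' ↔ g⁻¹ * x * g ∈ D) (hgood : Good D) : Good D' := by
  have hD' : D' = D.map (MulAut.conj g).toMonoidHom := by
    ext x
    rw [h, Subgroup.mem_map]
    constructor
    · intro hx
      refine ⟨g⁻¹ * x * g, hx, ?_⟩
      simp [MulAut.conj_apply]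
      group
    · rintro ⟨y, hy, rfl⟩
      have : g⁻¹ * (MulAut.conj g).toMonoidHom y * g = y := by
        simp [MulAut.conj_apply]
        group
      rw [this]; exact hy
  have hinj : Function.Injective (MulAut.conj g).toMonoidHom := (MulAut.conj g).injective
  rcases hgood with hc | ⟨⟨R, hRD, hRc, hmul, hinv⟩, hself⟩
  · left
    rw [hD']
    exact (D.equivMapOfInjective _ hinj).isCyclic.mp hc
  · right
    constructor
    · refine ⟨R.map (MulAut.conj g).toMonoidHom, ?_, ?_, ?_, ?_⟩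
      · rw [hD']; exact Subgroup.map_mono hRD
      · exact (R.equivMapOfInjective _ hinj).isCyclic.mp hRc
      · intro x hx y hy hxR hyR
        rw [h] at hx hy
        have hxR' : g⁻¹ * x * g ∉ R := by
          intro hh
          apply hxR
          refine ⟨g⁻¹ * x * g, hh, ?_⟩
          simp [MulAut.conj_apply]
          group
        have hyR' : g⁻¹ * y * g ∉ R := by
          intro hh
          apply hyR
          refine ⟨g⁻¹ * y * g, hh, ?_⟩
          simp [MulAut.conj_apply]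
          group
        have := hmul _ hx _ hy hxR' hyR'
        refine ⟨_, this, ?_⟩
        simp [MulAut.conj_apply]
        group
      · intro x hx hxR
        rw [h] at hx
        have hxR' : g⁻¹ * x * g ∉ R := by
          intro hh
          apply hxR
          refine ⟨g⁻¹ * x * g, hh, ?_⟩
          simp [MulAut.conj_apply]
          group
        have := hinv _ hx hxR'
        calc x * x = g * ((g⁻¹ * x * g) * (g⁻¹ * x * g)) * g⁻¹ := by group
          _ = 1 := by rw [this]; group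
    · intro K hKD hK4 hKexp
      -- pull `K` back
      obtain ⟨K₀, hK₀⟩ : ∃ K₀ : Subgroup G, K₀ = K.comap (MulAut.conj g).toMonoidHom := ⟨_, rfl⟩
      have hK₀mem : ∀ y : G, y ∈ K₀ ↔ g * y * g⁻¹ ∈ K := by
        intro y
        rw [hK₀, Subgroup.mem_comap]
        simp [MulAut.conj_apply]
      have hK₀D : K₀ ≤ D := by
        intro y hy
        have := (h _).mp (hKD ((hK₀mem y).mp hy))
        have e : g⁻¹ * (g * y * g⁻¹) * g = y := by group
        rwa [e] at this
      have hK₀4 : Nat.card K₀ = 4 := by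
        rw [← hK4]
        apply Nat.card_congr
        refine ⟨fun y => ⟨g * y.1 * g⁻¹, (hK₀mem _).mp y.2⟩,
          fun k => ⟨g⁻¹ * k.1 * g, (hK₀mem _).mpr (by
            have e : g * (g⁻¹ * k.1 * g) * g⁻¹ = k.1 := by group
            rw [e]; exact k.2)⟩, ?_, ?_⟩
        · intro y; apply Subtype.ext; simp; group
        · intro k; apply Subtype.ext; simp; group
      have hK₀exp : ∀ k ∈ K₀, k ^ 2 = 1 := by
        intro k hk
        have := hKexp _ ((hK₀mem k).mp hk)
        rw [conj_pow] at this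
        have e : k ^ 2 = g⁻¹ * (g * k ^ 2 * g⁻¹) * g := by group
        rw [e, this]; group
      have hs := hself K₀ hK₀D hK₀4 hK₀exp
      ext x
      constructor
      · intro hx
        have : g⁻¹ * x * g ∈ Subgroup.centralizer (K₀ : Set G) := by
          rw [Subgroup.mem_centralizer_iff] at hx ⊢
          intro y hy
          have := hx _ ((hK₀mem y).mp hy)
          calc y * (g⁻¹ * x * g) = g⁻¹ * ((g * y * g⁻¹) * x) * g := by group
            _ = g⁻¹ * (x * (g * y * g⁻¹)) * g := by rw [this]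
            _ = g⁻¹ * x * g * y := by group
        rw [hs, hK₀mem] at this
        have e : g * (g⁻¹ * x * g) * g⁻¹ = x := by group
        rwa [e] at this
      · intro hx
        have hx₀ : g⁻¹ * x * g ∈ K₀ := by
          rw [hK₀mem]
          have e : g * (g⁻¹ * x * g) * g⁻¹ = x := by group
          rw [e]; exact hx
        rw [← hs, Subgroup.mem_centralizer_iff] at hx₀
        rw [Subgroup.mem_centralizer_iff]
        intro k hk
        have hk₀ : g⁻¹ * k * g ∈ K₀ := by
          rw [hK₀mem]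
          have e : g * (g⁻¹ * k * g) * g⁻¹ = k := by group
          rw [e]; exact hk
        have := hx₀ _ hk₀
        calc k * x = g * ((g⁻¹ * k * g) * (g⁻¹ * x * g)) * g⁻¹ := by group
          _ = g * ((g⁻¹ * x * g) * (g⁻¹ * k * g)) * g⁻¹ := by rw [this]
          _ = x * k := by group

/-- a commutative dihedral group has degree at most two -/
theorem dihedral_comm_le_two (N : ℕ) [NeZero N]
    (h : ∀ a b : DihedralGroup N, a * b = b * a) : N ≤ 2 := by
  have h1 := h (DihedralGroup.r 1) (DihedralGroup.sr 0)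
  rw [DihedralGroup.r_mul_sr, DihedralGroup.sr_mul_r] at h1
  have h2 : (0 : ZMod N) - 1 = 0 + 1 := by
    injection h1
  have h3 : ((2 : ℕ) : ZMod N) = 0 := by
    push_cast
    have : (2 : ZMod N) = (0 + 1) - (0 - 1) := by ring
    rw [this, h2]; ring
  rw [ZMod.natCast_eq_zero_iff] at h3
  exact Nat.le_of_dvd (by norm_num) h3

theorem alt4_not_comm : ∃ a b : alternatingGroup (Fin 4), a * b ≠ b * a := by
  decide

/-- the direction `⇒`, self-centralizing part -/
theorem self_centralizing {G : Type*} [Group G] [Finite G]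
    (hall : ∀ H : Subgroup G, (∀ S : Sylow 2 ↥H, (S : Subgroup ↥H).Normal) →
        (∀ (S : Sylow 2 ↥H) [(S : Subgroup ↥H).Normal], IsCyclic (↥H ⧸ (S : Subgroup ↥H))) →
        IsCyclic H ∨ (∃ n : ℕ, Nonempty (H ≃* DihedralGroup (2 ^ n))) ∨
          Nonempty (H ≃* alternatingGroup (Fin 4)))
    (K : Subgroup G) (hK4 : Nat.card K = 4) (hKexp : ∀ k ∈ K, k ^ 2 = 1) :
    Subgroup.centralizer (K : Set G) = K := by
  classical
  haveI : Fact (Nat.Prime 2) := ⟨Nat.prime_two⟩
  have hKcomm : ∀ a ∈ K, ∀ b ∈ K, a * b = b * a := by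
    intro a ha b hb
    have h1 := hKexp a ha
    have h2 := hKexp b hb
    have h3 := hKexp (a * b) (K.mul_mem ha hb)
    rw [pow_two] at h1 h2 h3
    calc a * b = a * ((a * b) * (a * b)) * b := by rw [h3, mul_one]
      _ = (a * a) * (b * a) * (b * b) := by group
      _ = b * a := by rw [h1, h2, one_mul, mul_one]
  ext x
  constructor
  · intro hx
    rw [Subgroup.mem_centralizer_iff] at hx
    obtain ⟨A, hA⟩ : ∃ A : Subgroup G, A = Subgroup.closure ((K : Set G) ∪ {x}) := ⟨_, rfl⟩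
    have hKA : K ≤ A := by
      rw [hA]; intro k hk; exact Subgroup.subset_closure (Or.inl hk)
    have hxA : x ∈ A := by
      rw [hA]; exact Subgroup.subset_closure (Or.inr rfl)
    -- normal form of elements of `A`
    have hform : ∀ a ∈ A, ∃ k ∈ K, ∃ i : ℤ, a = k * x ^ i := by
      intro a ha
      rw [hA] at ha
      induction ha using Subgroup.closure_induction with
      | mem y hy =>
        rcases hy with hy | hy
        · exact ⟨y, hy, 0, by simp⟩
        · rw [Set.mem_singleton_iff] at hy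
          exact ⟨1, K.one_mem, 1, by simp [hy]⟩
      | one => exact ⟨1, K.one_mem, 0, by simp⟩
      | mul y z _ _ ihy ihz =>
        obtain ⟨k1, hk1, i1, rfl⟩ := ihy
        obtain ⟨k2, hk2, i2, rfl⟩ := ihz
        refine ⟨k1 * k2, K.mul_mem hk1 hk2, i1 + i2, ?_⟩
        have hc : Commute (x ^ i1) k2 := by
          apply Commute.zpow_left
          exact (hx k2 hk2).symm
        calc k1 * x ^ i1 * (k2 * x ^ i2) = k1 * (x ^ i1 * k2) * x ^ i2 := by group
          _ = k1 * (k2 * x ^ i1) * x ^ i2 := by rw [hc.eq]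
          _ = k1 * k2 * x ^ (i1 + i2) := by rw [zpow_add]; group
      | inv y _ ih =>
        obtain ⟨k1, hk1, i1, rfl⟩ := ih
        refine ⟨k1⁻¹, K.inv_mem hk1, -i1, ?_⟩
        have hc : Commute (x ^ (-i1)) k1⁻¹ := by
          apply Commute.zpow_left
          apply Commute.inv_right
          exact (hx k1 hk1).symm
        calc (k1 * x ^ i1)⁻¹ = x ^ (-i1) * k1⁻¹ := by rw [mul_inv_rev, zpow_neg]
          _ = k1⁻¹ * x ^ (-i1) := hc.eq
    have hAcomm : ∀ a b : ↥A, a * b = b * a := by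
      intro a b
      obtain ⟨k1, hk1, i1, h1⟩ := hform a.1 a.2
      obtain ⟨k2, hk2, i2, h2⟩ := hform b.1 b.2
      apply Subtype.ext
      show a.1 * b.1 = b.1 * a.1
      have hc1 : Commute (x ^ i1) k2 := Commute.zpow_left (hx k2 hk2).symm _
      have hc2 : Commute (x ^ i2) k1 := Commute.zpow_left (hx k1 hk1).symm _
      have hc3 : Commute (x ^ i1) (x ^ i2) := (Commute.refl x).zpow_zpow _ _
      rw [h1, h2]
      calc k1 * x ^ i1 * (k2 * x ^ i2) = k1 * (x ^ i1 * k2) * x ^ i2 := by group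
        _ = k1 * (k2 * x ^ i1) * x ^ i2 := by rw [hc1.eq]
        _ = (k1 * k2) * (x ^ i1 * x ^ i2) := by group
        _ = (k2 * k1) * (x ^ i2 * x ^ i1) := by rw [hKcomm k1 hk1 k2 hk2, hc3.eq]
        _ = k2 * (k1 * x ^ i2) * x ^ i1 := by group
        _ = k2 * (x ^ i2 * k1) * x ^ i1 := by rw [hc2.eq]
        _ = k2 * x ^ i2 * (k1 * x ^ i1) := by group
    have hnormal : ∀ S : Sylow 2 ↥A, (S : Subgroup ↥A).Normal := by
      intro S
      refine ⟨fun n hn g => ?_⟩
      rw [hAcomm g n, mul_inv_cancel_right]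
      exact hn
    have hcyclic : ∀ (S : Sylow 2 ↥A) [(S : Subgroup ↥A).Normal],
        IsCyclic (↥A ⧸ (S : Subgroup ↥A)) := by
      intro S hSn
      refine ⟨⟨((⟨x, hxA⟩ : ↥A) : ↥A ⧸ (S : Subgroup ↥A)), fun a' => ?_⟩⟩
      obtain ⟨a, rfl⟩ := QuotientGroup.mk_surjective a'
      obtain ⟨k, hk, i, h⟩ := hform a.1 a.2
      refine ⟨i, ?_⟩
      have hkS : (⟨k, hKA hk⟩ : ↥A) ∈ (S : Subgroup ↥A) := by
        apply mem_sylow_of_two_pow S _ 1
        apply Subtype.ext
        simp only [pow_one, Subgroup.coe_pow, Subgroup.coe_one]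
        exact hKexp k hk
      have ha : a = ⟨k, hKA hk⟩ * (⟨x, hxA⟩ : ↥A) ^ i := by
        apply Subtype.ext
        simp only [Subgroup.coe_mul, Subgroup.coe_zpow]
        exact h
      show ((⟨x, hxA⟩ : ↥A) : ↥A ⧸ (S : Subgroup ↥A)) ^ i = (a : ↥A ⧸ (S : Subgroup ↥A))
      rw [ha, QuotientGroup.mk_mul, (QuotientGroup.eq_one_iff _).mpr hkS, one_mul,
        QuotientGroup.mk_zpow]
    rcases hall A hnormal hcyclic with hc | ⟨m, ⟨e⟩⟩ | ⟨⟨e⟩⟩
    · -- cyclic: impossible
      exfalso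
      haveI := hc
      have hKc : IsCyclic K := Subgroup.isCyclic_of_le hKA
      obtain ⟨⟨k₀, hk₀⟩, hgen⟩ := hKc.exists_generator
      have h1 : orderOf k₀ = 4 := by
        have := orderOf_eq_card_of_forall_mem_zpowers hgen
        rwa [Subgroup.orderOf_mk, hK4] at this
      have h2 : orderOf k₀ ∣ 2 := orderOf_dvd_of_pow_eq_one (hKexp k₀ hk₀)
      rw [h1] at h2
      omega
    · -- dihedral
      haveI : NeZero (2 ^ m) := ⟨by positivity⟩
      have hle := dihedral_comm_le_two (2 ^ m) (fun a b => by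
        have := hAcomm (e.symm a) (e.symm b)
        have h2 := congrArg e this
        simpa using h2)
      have hcardA : Nat.card A ≤ 4 := by
        rw [Nat.card_congr e.toEquiv, DihedralGroup.nat_card]
        omega
      have hAK : K = A := Subgroup.eq_of_le_of_card_ge hKA (by rw [hK4]; exact hcardA)
      rw [hAK]; exact hxA
    · -- alternating: impossible
      exfalso
      obtain ⟨a, b, hab⟩ := alt4_not_comm
      apply hab
      have := hAcomm (e.symm a) (e.symm b)
      have h2 := congrArg e this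
      simpa using h2
  · intro hx
    rw [Subgroup.mem_centralizer_iff]
    intro k hk
    exact hKcomm k hk x hx

theorem card_alt4 : Nat.card (alternatingGroup (Fin 4)) = 12 := by
  rw [Nat.card_eq_fintype_card]
  decide

/-- Let G be a finite group with Sylow 2-subgroup P. Every subgroup H of G whose Sylow 2-subgroup is normal in H with cyclic quotient is cyclic, dihedral of 2-power order, or isomorphic to the alternating group of degree 4, if and only if either P is cyclic, or P is dihedral (of order at least 4) and every elementary abelian subgroup K of order 4 of P satisfies C_G(K) = K. -/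
theorem result {G : Type*} [Group G] [Finite G] (P : Sylow 2 G) :
    (∀ H : Subgroup G, (∀ S : Sylow 2 ↥H, (S : Subgroup ↥H).Normal) →
        (∀ (S : Sylow 2 ↥H) [(S : Subgroup ↥H).Normal], IsCyclic (↥H ⧸ (S : Subgroup ↥H))) →
        IsCyclic H ∨ (∃ n : ℕ, Nonempty (H ≃* DihedralGroup (2 ^ n))) ∨ Nonempty (H ≃* alternatingGroup (Fin 4))) ↔
    (IsCyclic P ∨
      ((∃ n : ℕ, 1 ≤ n ∧ Nonempty ((P : Subgroup G) ≃* DihedralGroup (2 ^ n))) ∧
        ∀ K : Subgroup G, K ≤ P → Nat.card K = 4 → (∀ k ∈ K, k ^ 2 = 1) → Subgroup.centralizer (K : Set G) = K)) := by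
  classical
  haveI : Fact (Nat.Prime 2) := ⟨Nat.prime_two⟩
  constructor
  · intro hall
    have hPS : ∀ S : Sylow 2 ↥(P : Subgroup G), (S : Subgroup ↥(P : Subgroup G)) = ⊤ := by
      intro S
      have h2 : IsPGroup 2 (⊤ : Subgroup ↥(P : Subgroup G)) := P.isPGroup'.to_subgroup ⊤
      exact (S.is_maximal' h2 le_top).symm
    have h1 := hall (P : Subgroup G) (fun S => by rw [hPS S]; infer_instance) (fun S _ => by
      have hidx : (S : Subgroup ↥(P : Subgroup G)).index = 1 := by
        rw [hPS S]; exact Subgroup.index_top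
      rw [Subgroup.index_eq_card, Nat.card_eq_one_iff_unique] at hidx
      haveI := hidx.1
      exact isCyclic_of_subsingleton)
    rcases h1 with hc | ⟨n, ⟨e⟩⟩ | ⟨⟨e⟩⟩
    · exact Or.inl hc
    · by_cases hn : n = 0
      · left
        have hcard : Nat.card (P : Subgroup G) = 2 := by
          rw [Nat.card_congr e.toEquiv, DihedralGroup.nat_card, hn]
          norm_num
        exact isCyclic_of_prime_card hcard
      · right
        exact ⟨⟨n, by omega, ⟨e⟩⟩, fun K _ hK4 hKexp => self_centralizing hall K hK4 hKexp⟩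
    · exfalso
      have hcard : Nat.card (P : Subgroup G) = 12 := by
        rw [Nat.card_congr e.toEquiv, card_alt4]
      obtain ⟨k, hk⟩ := IsPGroup.iff_card.mp P.isPGroup'
      rw [hk] at hcard
      have h3 : 3 ∣ 2 ^ k := by rw [hcard]; norm_num
      have := (Nat.Prime.dvd_of_dvd_pow Nat.prime_three h3)
      omega
  · intro hP H hSn hScyc
    have hgoodP : Good (P : Subgroup G) := by
      rcases hP with h | ⟨⟨n, hn, ⟨e⟩⟩, hself⟩
      · exact Or.inl h
      · exact Or.inr ⟨dihLike_of_equiv _ _ e, hself⟩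
    obtain ⟨S⟩ : Nonempty (Sylow 2 ↥H) := inferInstance
    haveI := hSn S
    have hS'2 : IsPGroup 2 ((S : Subgroup ↥H).map H.subtype) := S.isPGroup'.map H.subtype
    obtain ⟨Q, hQ⟩ := hS'2.exists_le_sylow
    obtain ⟨g, rfl⟩ := MulAction.exists_smul_eq G P Q
    have hgoodQ : Good ((g • P : Sylow 2 G) : Subgroup G) := by
      apply good_conj (P : Subgroup G) _ g _ hgoodP
      intro x
      rw [Sylow.coe_subgroup_smul, Subgroup.mem_pointwise_smul_iff_inv_smul_mem]
      simp [MulAut.smul_def]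
    exact core _ hgoodQ H S (hScyc S) hQ

end Cfsg.Agent.S4083
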