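import Cfsg.Statements.S4084
import Mathlib

set_option autoImplicit false
open Cfsg

namespace Cfsg.Agent.S4084

theorem aux {G H : Type*} [Group G] [Finite G] [Group H] [Finite H] (e : G ≃ H)
    (he : ∀ x y : G, Commute x y ↔ Commute (e x) (e y))
    {p q : ℕ} (hp : p.Prime) (hq : q.Prime) (hpq : p ≠ q) :
    (∃ g : G, orderOf g = p * q) → (∃ h : H, orderOf h = p * q) := by
  rintro ⟨g, hg⟩
  set A : Subgroup G := Subgroup.centralizer (Subgroup.centralizer {g} : Set G) with hA
  set B : Subgroup H := Subgroup.centralizer (Subgroup.centralizer {e g} : Set H) with hB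
  have hAB : ∀ a : G, a ∈ A ↔ e a ∈ B := by
    intro a
    simp only [hA, hB, Subgroup.mem_centralizer_iff, SetLike.mem_coe, Set.mem_singleton_iff,
      forall_eq]
    constructor
    · intro h c hc
      obtain ⟨c', rfl⟩ := e.surjective c
      have h1 : Commute c' g := (he c' g).2 hc.symm
      have h2 := h c' h1.symm.eq
      exact ((he c' a).1 h2).eq
    · intro h c hc
      have h1 : Commute (e c) (e g) := (he c g).1 (Commute.symm hc)
      have h2 := h (e c) h1.symm.eq
      exact ((he c a).2 h2).eq
  have hcard : Nat.card A = Nat.card B := Nat.card_congr (e.subtypeEquiv hAB)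
  have hgA : g ∈ A := by
    simp only [hA, Subgroup.mem_centralizer_iff, SetLike.mem_coe, Set.mem_singleton_iff, forall_eq]
    intro c hc
    exact hc.symm
  have hdvd : p * q ∣ Nat.card B := by
    rw [← hcard, ← hg]
    have := Subgroup.orderOf_dvd_natCard A hgA
    exact this
  have hBcomm : ∀ a b : B, Commute a b := by
    intro a b
    have hb : (b : H) ∈ Subgroup.centralizer ({e g} : Set H) := by
      simp only [Subgroup.mem_centralizer_iff, Set.mem_singleton_iff, forall_eq]
      have := b.2
      simp only [hB, Subgroup.mem_centralizer_iff, SetLike.mem_coe, Set.mem_singleton_iff,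
        forall_eq] at this
      exact this (e g) rfl
    have ha := a.2
    simp only [hB, Subgroup.mem_centralizer_iff, SetLike.mem_coe] at ha
    have := ha b hb
    apply Subtype.ext
    simpa using this.symm
  have : Fact p.Prime := ⟨hp⟩
  have : Fact q.Prime := ⟨hq⟩
  obtain ⟨a, ha⟩ := exists_prime_orderOf_dvd_card' p (G := B) (Dvd.dvd.trans (Dvd.intro _ rfl) hdvd)
  obtain ⟨b, hb⟩ := exists_prime_orderOf_dvd_card' q (G := B) (Dvd.dvd.trans (Dvd.intro_left _ rfl) hdvd)
  refine ⟨((a * b : B) : H), ?_⟩
  rw [Subgroup.orderOf_coe]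
  have hcop : Nat.Coprime (orderOf a) (orderOf b) := by
    rw [ha, hb]
    exact (Nat.coprime_primes hp hq).2 hpq
  rw [(hBcomm a b).orderOf_mul_eq_mul_orderOf_of_coprime hcop, ha, hb]

theorem result {G H : Type*} [Group G] [Finite G] [Group H] [Finite H] (e : G ≃ H)
    (he : ∀ x y : G, Commute x y ↔ Commute (e x) (e y))
    {p q : ℕ} (hp : p.Prime) (hq : q.Prime) (hpq : p ≠ q) :
    (∃ g : G, orderOf g = p * q) ↔ (∃ h : H, orderOf h = p * q) := by
  refine ⟨aux e he hp hq hpq, aux e.symm ?_ hp hq hpq⟩
  intro x y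
  have := he (e.symm x) (e.symm y)
  simpa using this.symm

end Cfsg.Agent.S4084
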