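import Cfsg.Statements.S4085
import Cfsg.Agent.Lib.Helper67.PowerGraph3

set_option autoImplicit false
open Cfsg

namespace Cfsg.Agent.S4085

open Cfsg.Agent.Helper67.PG Subgroup

theorem pow_eq_prime {r j p : ℕ} (hr : r.Prime) (hp : p.Prime) (h : p = r ^ j) : r = p := by
  have hj : j ≠ 0 := by
    rintro rfl
    rw [pow_zero] at h
    exact hp.ne_one h
  have : r ∣ p := h ▸ dvd_pow_self r hj
  exact (Nat.prime_dvd_prime_iff_eq hr hp).1 this

theorem not_isPrimePow_mul {p q : ℕ} (hp : p.Prime) (hq : q.Prime) (hpq : p ≠ q) :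
    ¬ IsPrimePow (p * q) := by
  intro h
  rw [isPrimePow_nat_iff] at h
  obtain ⟨r, k, hr, hk, hrk⟩ := h
  have h1 : p ∣ r ^ k := hrk ▸ Dvd.intro _ rfl
  have h2 : q ∣ r ^ k := hrk ▸ Dvd.intro_left _ rfl
  have e1 := (Nat.prime_dvd_prime_iff_eq hp hr).1 (hp.dvd_of_dvd_pow h1)
  have e2 := (Nat.prime_dvd_prime_iff_eq hq hr).1 (hq.dvd_of_dvd_pow h2)
  exact hpq (e1.trans e2.symm)

/-- In the local situation (case (i)) the order of `a'` is a prime power. -/
theorem case_i_primePow {H : Type*} [Group H] [Finite H] (hdomH : ∀ y : H, Dom y → y = 1)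
    {g' a' b' : H} (ha : a' ∈ zpowers g') (hb : b' ∈ zpowers g')
    (hnpp : ¬ IsPrimePow (orderOf g')) (ha1 : a' ≠ 1) (hb1 : b' ≠ 1)
    (hab : ¬ orderOf a' ∣ orderOf b') (hba : ¬ orderOf b' ∣ orderOf a')
    (hstar : ∀ y : H, y ∈ zpowers g' → y = 1 ∨ Tw a' y ∨ Tw b' y ∨ (R a' y ∧ R b' y)) :
    ∃ r c : ℕ, r.Prime ∧ 0 < c ∧ orderOf a' = r ^ c := by
  set α := orderOf a' with hα
  set β := orderOf b' with hβ
  have hα0 : α ≠ 0 := (orderOf_pos a').ne'
  have hβ0 : β ≠ 0 := (orderOf_pos b').ne'
  have hαn : α ∣ orderOf g' := orderOf_dvd_of_mem_zpowers ha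
  -- a prime r with v_r β < v_r α
  have : ¬ α.factorization ≤ β.factorization := by
    rw [Nat.factorization_le_iff_dvd hα0 hβ0]; exact hab
  rw [Finsupp.le_def] at this
  push Not at this
  obtain ⟨r, hr⟩ := this
  have hrp : r.Prime := by
    by_contra hnp
    rw [Nat.factorization_eq_zero_of_not_prime α hnp] at hr
    omega
  set c := α.factorization r with hc
  have hc0 : 0 < c := by omega
  have hrcα : r ^ c ∣ α := Nat.ordProj_dvd α r
  obtain ⟨y, hy, hyo⟩ := exists_mem_zpowers_orderOf_eq g' (dvd_trans hrcα hαn)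
  have hy1 : y ≠ 1 := by
    intro h1
    rw [h1, orderOf_one] at hyo
    have := Nat.one_lt_pow hc0.ne' hrp.one_lt
    omega
  refine ⟨r, c, hrp, hc0, ?_⟩
  rcases hstar y hy with h | h | h | h
  · exact absurd h hy1
  · have := zpowers_eq_of_tw hdomH ha ha1 hnpp h
    rw [hα, ← hyo, ← Nat.card_zpowers, ← Nat.card_zpowers, this]
  · exfalso
    have := zpowers_eq_of_tw hdomH hb hb1 hnpp h
    have hβe : β = r ^ c := by
      rw [hβ, ← hyo, ← Nat.card_zpowers, ← Nat.card_zpowers, this]
    rw [hβe, Nat.Prime.factorization_pow hrp] at hr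
    simp at hr
  · exfalso
    rcases (R_iff_of_mem_zpowers hb hy).1 h.2 with h2 | h2
    · rw [hyo] at h2
      obtain ⟨j, hjc, hj⟩ := (Nat.dvd_prime_pow hrp).1 h2
      apply hba
      have hj' : β = r ^ j := hj
      rw [hj']
      exact dvd_trans (pow_dvd_pow r hjc) hrcα
    · rw [hyo] at h2
      have : c ≤ β.factorization r := (hrp.pow_dvd_iff_le_factorization hβ0).1 h2
      omega

/-- In case (i) the order of `a'` is a prime. -/
theorem case_i_prime {H : Type*} [Group H] [Finite H] (hdomH : ∀ y : H, Dom y → y = 1)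
    {g' a' b' : H} (ha : a' ∈ zpowers g') (hb : b' ∈ zpowers g')
    (hnpp : ¬ IsPrimePow (orderOf g')) (ha1 : a' ≠ 1) (hb1 : b' ≠ 1)
    (hstar : ∀ y : H, y ∈ zpowers g' → y = 1 ∨ Tw a' y ∨ Tw b' y ∨ (R a' y ∧ R b' y))
    {r s c d : ℕ} (hr : r.Prime) (hs : s.Prime) (hrs : r ≠ s) (hc : 0 < c) (hd : 0 < d)
    (hα : orderOf a' = r ^ c) (hβ : orderOf b' = s ^ d) : orderOf a' = r := by
  have hrn : r ∣ orderOf g' :=
    dvd_trans (dvd_trans (dvd_pow_self r hc.ne') (dvd_of_eq hα.symm))
      (orderOf_dvd_of_mem_zpowers ha)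
  obtain ⟨y, hy, hyo⟩ := exists_mem_zpowers_orderOf_eq g' hrn
  rcases hstar y hy with h | h | h | h
  · exfalso
    rw [h, orderOf_one] at hyo
    exact hr.ne_one hyo.symm
  · have := zpowers_eq_of_tw hdomH ha ha1 hnpp h
    rw [← hyo, ← Nat.card_zpowers, ← Nat.card_zpowers, this]
  · exfalso
    have := zpowers_eq_of_tw hdomH hb hb1 hnpp h
    have hβe : orderOf b' = r := by
      rw [← hyo, ← Nat.card_zpowers, ← Nat.card_zpowers, this]
    rw [hβ] at hβe
    exact hrs (pow_eq_prime hs hr hβe.symm).symm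
  · exfalso
    rcases (R_iff_of_mem_zpowers hb hy).1 h.2 with h2 | h2
    · rw [hyo, hβ] at h2
      have : s ∣ r := dvd_trans (dvd_pow_self s hd.ne') h2
      exact hrs ((Nat.prime_dvd_prime_iff_eq hs hr).1 this).symm
    · rw [hyo, hβ] at h2
      exact hrs ((Nat.prime_dvd_prime_iff_eq hr hs).1 (hr.dvd_of_dvd_pow h2))

theorem divisors_mul {p q d : ℕ} (hp : p.Prime) (hq : q.Prime) (hd : d ∣ p * q) :
    d = 1 ∨ d = p ∨ d = q ∨ d = p * q := by
  obtain ⟨d1, d2, h1, h2, rfl⟩ := (Nat.dvd_mul).1 hd
  rcases (Nat.dvd_prime hp).1 h1 with rfl | rfl <;> rcases (Nat.dvd_prime hq).1 h2 with rfl | rfl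
  · left; rfl
  · right; right; left; simp
  · right; left; simp
  · right; right; right; rfl

/-- one direction of the statement -/
theorem forward {G H : Type*} [Group G] [Finite G] [Group H] [Finite H] (e : G ≃ H)
    (he : ∀ x y : G, R x y ↔ R (e x) (e y))
    {p q : ℕ} (hp : p.Prime) (hq : q.Prime) (hpq : p ≠ q)
    (hG : ∃ g : G, orderOf g = p * q) : ∃ h : H, orderOf h = p * q := by
  obtain ⟨g, hg⟩ := hG
  have hnpp : ¬ IsPrimePow (p * q) := not_isPrimePow_mul hp hq hpq
  -- transfer lemmas
  have hDom : ∀ x : G, Dom x ↔ Dom (e x) := by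
    intro x
    constructor
    · intro h z'
      have := (he x (e.symm z')).1 (h _)
      rwa [e.apply_symm_apply] at this
    · intro h z
      exact (he x z).2 (h _)
  have hTw : ∀ x y : G, Tw x y ↔ Tw (e x) (e y) := by
    intro x y
    constructor
    · intro h z'
      have h1 := he x (e.symm z')
      have h2 := he y (e.symm z')
      rw [e.apply_symm_apply] at h1 h2
      rw [← h1, ← h2]
      exact h _
    · intro h z
      rw [he x z, he y z]
      exact h _
  have hTcard : ∀ x : G, {y | Tw x y}.ncard = {y' | Tw (e x) y'}.ncard := by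
    intro x
    have : {y' | Tw (e x) y'} = e '' {y | Tw x y} := by
      ext y'
      constructor
      · intro h
        refine ⟨e.symm y', ?_, e.apply_symm_apply y'⟩
        change Tw x (e.symm y')
        rw [hTw, e.apply_symm_apply]
        exact h
      · rintro ⟨y, hy, rfl⟩
        exact (hTw x y).1 hy
    rw [this, Set.ncard_image_of_injective _ e.injective]
  by_cases hD : ∃ x : G, Dom x ∧ x ≠ 1
  · -- cyclic case
    obtain ⟨x, hxd, hx1⟩ := hD
    have hxnp : ¬ IsPrimePow (orderOf x) := by
      intro hpp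
      rw [isPrimePow_nat_iff] at hpp
      obtain ⟨r, k, hr, hk, hrk⟩ := hpp
      obtain ⟨j, hj⟩ := orderOf_eq_pow_of_dom hxd hr hk hrk.symm g
      apply hnpp
      rw [← hg, hj, isPrimePow_nat_iff]
      refine ⟨r, j, hr, ?_, rfl⟩
      rcases Nat.eq_zero_or_pos j with h0 | h0
      · exfalso
        rw [h0, pow_zero, hg] at hj
        have := hp.two_le
        have := hq.two_le
        nlinarith
      · exact h0
    have hall := mem_zpowers_of_dom hxd hx1 hxnp
    have hcardG : Nat.card G = orderOf x := by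
      rw [← Nat.card_zpowers]
      have : zpowers x = ⊤ := (Subgroup.eq_top_iff' _).2 hall
      rw [this, Subgroup.card_top]
    have hpqG : p * q ∣ Nat.card G := hg ▸ orderOf_dvd_natCard g
    have hcardH : Nat.card H = Nat.card G := (Nat.card_congr e).symm
    -- a dominating non-identity vertex of H
    obtain ⟨y', hy'd, hy'1⟩ : ∃ y' : H, Dom y' ∧ y' ≠ 1 := by
      by_cases h1 : e x = 1
      · refine ⟨e 1, (hDom 1).1 (fun z => R_one z), ?_⟩
        intro h2
        apply hx1
        exact e.injective (h1.trans h2.symm)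
      · exact ⟨e x, (hDom x).1 hxd, h1⟩
    have hy'np : ¬ IsPrimePow (orderOf y') := by
      intro hpp
      rw [isPrimePow_nat_iff] at hpp
      obtain ⟨r, k, hr, hk, hrk⟩ := hpp
      have hpH : p ∣ Nat.card H := hcardH ▸ dvd_trans (Dvd.intro _ rfl) hpqG
      have hqH : q ∣ Nat.card H := hcardH ▸ dvd_trans (Dvd.intro_left _ rfl) hpqG
      haveI : Fact p.Prime := ⟨hp⟩
      haveI : Fact q.Prime := ⟨hq⟩
      obtain ⟨u, hu⟩ := exists_prime_orderOf_dvd_card' p hpH
      obtain ⟨v, hv⟩ := exists_prime_orderOf_dvd_card' q hqH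
      obtain ⟨j1, hj1⟩ := orderOf_eq_pow_of_dom hy'd hr hk hrk.symm u
      obtain ⟨j2, hj2⟩ := orderOf_eq_pow_of_dom hy'd hr hk hrk.symm v
      rw [hu] at hj1
      rw [hv] at hj2
      exact hpq ((pow_eq_prime hr hp hj1).symm.trans (pow_eq_prime hr hq hj2))
    have hallH := mem_zpowers_of_dom hy'd hy'1 hy'np
    have hcardH' : Nat.card H = orderOf y' := by
      rw [← Nat.card_zpowers]
      have : zpowers y' = ⊤ := (Subgroup.eq_top_iff' _).2 hallH
      rw [this, Subgroup.card_top]
    have : p * q ∣ orderOf y' := by rw [← hcardH', hcardH]; exact hpqG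
    obtain ⟨u, -, hu⟩ := exists_mem_zpowers_orderOf_eq y' this
    exact ⟨u, hu⟩
  · push Not at hD
    have hdomG : ∀ x : G, Dom x → x = 1 := fun x hx => by
      by_contra h1
      exact h1 (hD x hx)
    have he1 : e 1 = 1 := by
      have h1 : Dom (e.symm (1 : H)) := by
        rw [hDom, e.apply_symm_apply]
        exact fun z => R_one z
      have := hdomG _ h1
      rw [← this, e.apply_symm_apply]
    have hdomH : ∀ y : H, Dom y → y = 1 := by
      intro y hy
      have h1 : Dom (e.symm y) := by rw [hDom, e.apply_symm_apply]; exact hy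
      have := hdomG _ h1
      rw [← e.apply_symm_apply y, this, he1]
    -- the local structure in G
    set a := g ^ q with ha
    set b := g ^ p with hb
    have hao : orderOf a = p := by
      rw [ha, orderOf_pow_of_dvd hq.ne_zero (hg ▸ Dvd.intro_left _ rfl), hg]
      exact Nat.mul_div_cancel _ hq.pos
    have hbo : orderOf b = q := by
      rw [hb, orderOf_pow_of_dvd hp.ne_zero (hg ▸ Dvd.intro _ rfl), hg]
      exact Nat.mul_div_cancel_left _ hp.pos
    have hag : a ∈ zpowers g := Subgroup.pow_mem _ (mem_zpowers g) _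
    have hbg : b ∈ zpowers g := Subgroup.pow_mem _ (mem_zpowers g) _
    have hg1 : g ≠ 1 := by
      intro h1
      rw [h1, orderOf_one] at hg
      have := hp.two_le
      have := hq.two_le
      nlinarith
    have ha1 : a ≠ 1 := by
      intro h1
      rw [h1, orderOf_one] at hao
      exact hp.ne_one hao.symm
    have hb1 : b ≠ 1 := by
      intro h1
      rw [h1, orderOf_one] at hbo
      exact hq.ne_one hbo.symm
    have hgnp : ¬ IsPrimePow (orderOf g) := by rw [hg]; exact hnpp
    have hnab : ¬ R a b := by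
      rintro (h | h)
      · have := orderOf_dvd_of_mem_zpowers h
        rw [hao, hbo] at this
        exact hpq ((Nat.prime_dvd_prime_iff_eq hp hq).1 this)
      · have := orderOf_dvd_of_mem_zpowers h
        rw [hao, hbo] at this
        exact hpq ((Nat.prime_dvd_prime_iff_eq hq hp).1 this).symm
    have hTg : {y | Tw g y} = gen g := Set.Subset.antisymm
      (fun y hy => zpowers_eq_of_tw hdomG (mem_zpowers g) hg1 hgnp hy) (gen_subset_tw g)
    have hTa : {y | Tw a y} = gen a := Set.Subset.antisymm
      (fun y hy => zpowers_eq_of_tw hdomG hag ha1 hgnp hy) (gen_subset_tw a)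
    have hTb : {y | Tw b y} = gen b := Set.Subset.antisymm
      (fun y hy => zpowers_eq_of_tw hdomG hbg hb1 hgnp hy) (gen_subset_tw b)
    have hcg : {y | Tw g y}.ncard = (p - 1) * (q - 1) := by
      rw [hTg, ncard_gen, hg, Nat.totient_mul ((Nat.coprime_primes hp hq).2 hpq),
        Nat.totient_prime hp, Nat.totient_prime hq]
    have hca : {y | Tw a y}.ncard = p - 1 := by
      rw [hTa, ncard_gen, hao, Nat.totient_prime hp]
    have hcb : {y | Tw b y}.ncard = q - 1 := by
      rw [hTb, ncard_gen, hbo, Nat.totient_prime hq]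
    have hstar : ∀ y : G, R g y → y = 1 ∨ Tw a y ∨ Tw b y ∨ (R a y ∧ R b y) := by
      intro y hy
      rcases hy with h | h
      · right; right; right
        exact ⟨Or.inl (mem_zpowers_trans hag h), Or.inl (mem_zpowers_trans hbg h)⟩
      · have hd := orderOf_dvd_of_mem_zpowers h
        rw [hg] at hd
        rcases divisors_mul hp hq hd with h1 | h1 | h1 | h1
        · left; exact orderOf_eq_one_iff.1 h1
        · right; left
          apply Tw_of_zpowers_eq
          exact le_antisymm
            (zpowers_le.2 (mem_zpowers_of_orderOf_dvd hag h (by rw [hao, h1])))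
            (zpowers_le.2 (mem_zpowers_of_orderOf_dvd h hag (by rw [hao, h1])))
        · right; right; left
          apply Tw_of_zpowers_eq
          exact le_antisymm
            (zpowers_le.2 (mem_zpowers_of_orderOf_dvd hbg h (by rw [hbo, h1])))
            (zpowers_le.2 (mem_zpowers_of_orderOf_dvd h hbg (by rw [hbo, h1])))
        · right; right; right
          have hgy : g ∈ zpowers y := mem_zpowers_of_orderOf_eq h (by rw [h1, hg])
          exact ⟨Or.inl (mem_zpowers_trans hag hgy), Or.inl (mem_zpowers_trans hbg hgy)⟩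
    -- transfer to H
    set g' := e g with hg'
    set a' := e a with ha'
    set b' := e b with hb'
    have hg'1 : g' ≠ 1 := fun h => hg1 (e.injective (h.trans he1.symm))
    have ha'1 : a' ≠ 1 := fun h => ha1 (e.injective (h.trans he1.symm))
    have hb'1 : b' ≠ 1 := fun h => hb1 (e.injective (h.trans he1.symm))
    have hnab' : ¬ R a' b' := fun h => hnab ((he a b).2 h)
    have hRga' : R g' a' := (he g a).1 (Or.inr hag)
    have hRgb' : R g' b' := (he g b).1 (Or.inr hbg)
    have hcg' : {y | Tw g' y}.ncard = (p - 1) * (q - 1) := by rw [← hTcard g, hcg]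
    have hca' : {y | Tw a' y}.ncard = p - 1 := by rw [← hTcard a, hca]
    have hcb' : {y | Tw b' y}.ncard = q - 1 := by rw [← hTcard b, hcb]
    have hstar' : ∀ y' : H, R g' y' → y' = 1 ∨ Tw a' y' ∨ Tw b' y' ∨ (R a' y' ∧ R b' y') := by
      intro y' hy'
      have hy : R g (e.symm y') := by
        rw [he, e.apply_symm_apply]; exact hy'
      rcases hstar _ hy with h | h | h | h
      · left; rw [← e.apply_symm_apply y', h, he1]
      · right; left
        have := (hTw a _).1 h
        rwa [e.apply_symm_apply] at this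
      · right; right; left
        have := (hTw b _).1 h
        rwa [e.apply_symm_apply] at this
      · right; right; right
        have h1 := (he a _).1 h.1
        have h2 := (he b _).1 h.2
        rw [e.apply_symm_apply] at h1 h2
        exact ⟨h1, h2⟩
    have hp2 := hp.two_le
    have hq2 := hq.two_le
    -- the two configurations
    have hcases : (a' ∈ zpowers g' ∧ b' ∈ zpowers g') ∨ (g' ∈ zpowers a' ∧ g' ∈ zpowers b') := by
      rcases hRga' with h1 | h1 <;> rcases hRgb' with h2 | h2
      · right; exact ⟨h1, h2⟩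
      · exfalso; exact hnab' (Or.inr (mem_zpowers_trans h2 h1))
      · exfalso; exact hnab' (Or.inl (mem_zpowers_trans h1 h2))
      · left; exact ⟨h1, h2⟩
    rcases hcases with ⟨hag', hbg'⟩ | ⟨hga', hgb'⟩
    · -- case (i)
      have hab' : ¬ orderOf a' ∣ orderOf b' := fun h =>
        hnab' ((R_iff_of_mem_zpowers hag' hbg').2 (Or.inl h))
      have hba' : ¬ orderOf b' ∣ orderOf a' := fun h =>
        hnab' ((R_iff_of_mem_zpowers hag' hbg').2 (Or.inr h))
      have hg'np : ¬ IsPrimePow (orderOf g') := by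
        intro hpp
        rw [isPrimePow_nat_iff] at hpp
        obtain ⟨r, k, hr, hk, hrk⟩ := hpp
        have h1 : orderOf a' ∣ r ^ k := hrk ▸ orderOf_dvd_of_mem_zpowers hag'
        have h2 : orderOf b' ∣ r ^ k := hrk ▸ orderOf_dvd_of_mem_zpowers hbg'
        obtain ⟨i, -, hi⟩ := (Nat.dvd_prime_pow hr).1 h1
        obtain ⟨j, -, hj⟩ := (Nat.dvd_prime_pow hr).1 h2
        rcases le_total i j with hij | hij
        · exact hab' (by rw [hi, hj]; exact pow_dvd_pow r hij)
        · exact hba' (by rw [hi, hj]; exact pow_dvd_pow r hij)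
      have hstarA : ∀ y : H, y ∈ zpowers g' →
          y = 1 ∨ Tw a' y ∨ Tw b' y ∨ (R a' y ∧ R b' y) := fun y hy => hstar' y (Or.inr hy)
      have hstarB : ∀ y : H, y ∈ zpowers g' →
          y = 1 ∨ Tw b' y ∨ Tw a' y ∨ (R b' y ∧ R a' y) := by
        intro y hy
        rcases hstarA y hy with h | h | h | h
        · exact Or.inl h
        · exact Or.inr (Or.inr (Or.inl h))
        · exact Or.inr (Or.inl h)
        · exact Or.inr (Or.inr (Or.inr ⟨h.2, h.1⟩))
      obtain ⟨r, c, hr, hc, hα⟩ :=
        case_i_primePow hdomH hag' hbg' hg'np ha'1 hb'1 hab' hba' hstarA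
      obtain ⟨s, d, hs, hd, hβ⟩ :=
        case_i_primePow hdomH hbg' hag' hg'np hb'1 ha'1 hba' hab' hstarB
      have hrs : r ≠ s := by
        rintro rfl
        rcases le_total c d with hcd | hcd
        · exact hab' (by rw [hα, hβ]; exact pow_dvd_pow r hcd)
        · exact hba' (by rw [hα, hβ]; exact pow_dvd_pow r hcd)
      have hαr := case_i_prime hdomH hag' hbg' hg'np ha'1 hb'1 hstarA hr hs hrs hc hd hα hβ
      have hβs := case_i_prime hdomH hbg' hag' hg'np hb'1 ha'1 hstarB hs hr (Ne.symm hrs) hd hc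
        hβ hα
      -- twin classes
      have hTa' : {y | Tw a' y} = gen a' := Set.Subset.antisymm
        (fun y hy => zpowers_eq_of_tw hdomH hag' ha'1 hg'np hy) (gen_subset_tw a')
      have hTb' : {y | Tw b' y} = gen b' := Set.Subset.antisymm
        (fun y hy => zpowers_eq_of_tw hdomH hbg' hb'1 hg'np hy) (gen_subset_tw b')
      rw [hTa', ncard_gen, hαr, Nat.totient_prime hr] at hca'
      rw [hTb', ncard_gen, hβs, Nat.totient_prime hs] at hcb'
      have hr2 := hr.two_le
      have hs2 := hs.two_le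
      have hrp : r = p := by omega
      have hsq : s = q := by omega
      have h1 : p ∣ orderOf g' := by
        rw [← hrp, ← hαr]; exact orderOf_dvd_of_mem_zpowers hag'
      have h2 : q ∣ orderOf g' := by
        rw [← hsq, ← hβs]; exact orderOf_dvd_of_mem_zpowers hbg'
      have h3 : p * q ∣ orderOf g' :=
        ((Nat.coprime_primes hp hq).2 hpq).mul_dvd_of_dvd_of_dvd h1 h2
      obtain ⟨u, -, hu⟩ := exists_mem_zpowers_orderOf_eq g' h3
      exact ⟨u, hu⟩
    · -- case (ii)
      exfalso
      have hnt1 : ¬ Tw g' a' := fun h => hnab' ((h b').1 hRgb')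
      have hnt2 : ¬ Tw g' b' := fun h => hnab' ((R_comm _ _).1 ((h a').1 hRga'))
      have h1 := ncard_tw_le hdomH hga' hg'1 hnt1
      have h2 := ncard_tw_le hdomH hgb' hg'1 hnt2
      rw [hcg', hca'] at h1
      rw [hcg', hcb'] at h2
      obtain ⟨p', rfl⟩ : ∃ p', p = p' + 2 := ⟨p - 2, by omega⟩
      obtain ⟨q', rfl⟩ : ∃ q', q = q' + 2 := ⟨q - 2, by omega⟩
      simp only [show p' + 2 - 1 = p' + 1 from by omega, show q' + 2 - 1 = q' + 1 from by omega]
        at h1 h2
      have hq0 : q' = 0 := by nlinarith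
      have hp0 : p' = 0 := by nlinarith
      exact hpq (by rw [hp0, hq0])

/-- Let G and H be finite groups whose power graphs are isomorphic: there is a bijection e : G → H such that, for all x, y, one of x, y is a power of the other exactly when one of e(x), e(y) is a power of the other. Then G and H have the same prime graph: for distinct primes p, q, G has an element of order pq if and only if H does. -/
theorem result {G H : Type*} [Group G] [Finite G] [Group H] [Finite H] (e : G ≃ H)
    (he : ∀ x y : G, (x ∈ Subgroup.zpowers y ∨ y ∈ Subgroup.zpowers x) ↔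
      (e x ∈ Subgroup.zpowers (e y) ∨ e y ∈ Subgroup.zpowers (e x)))
    {p q : ℕ} (hp : p.Prime) (hq : q.Prime) (hpq : p ≠ q) :
    (∃ g : G, orderOf g = p * q) ↔ (∃ h : H, orderOf h = p * q) := by
  constructor
  · exact forward e he hp hq hpq
  · apply forward e.symm ?_ hp hq hpq
    intro x y
    have := he (e.symm x) (e.symm y)
    rw [e.apply_symm_apply, e.apply_symm_apply] at this
    exact this.symm

end Cfsg.Agent.S4085
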