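import Cfsg.Statements.S4086
import Mathlib

set_option autoImplicit false
open Cfsg

namespace Cfsg.Agent.S4086

theorem pow_mem_zpowers_pow {G : Type*} [Group G] (g : G) (a b : ℕ)
    (h : Nat.gcd b (orderOf g) ∣ a) : g ^ a ∈ Subgroup.zpowers (g ^ b) := by
  obtain ⟨c, hc⟩ := h
  rw [Subgroup.mem_zpowers_iff]
  refine ⟨(Nat.gcdA b (orderOf g)) * c, ?_⟩
  have hbez := Nat.gcd_eq_gcd_ab b (orderOf g)
  have h1 : (a : ℤ) = b * (Nat.gcdA b (orderOf g) * c) + (orderOf g : ℤ) * (Nat.gcdB b (orderOf g) * c) := by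
    have : (a : ℤ) = (Nat.gcd b (orderOf g) : ℤ) * c := by exact_mod_cast hc
    rw [this, hbez]; ring
  rw [← zpow_natCast g b, ← zpow_mul, ← zpow_natCast g a, h1, zpow_add, zpow_mul g (orderOf g : ℤ),
    zpow_natCast g (orderOf g), pow_orderOf_eq_one, one_zpow, mul_one]

theorem forward {G : Type*} [Group G] [Finite G]
    (h : ∀ g : G, g ≠ 1 → IsPrimePow (orderOf g)) (x y : G)
    (hc : IsCyclic ↥(Subgroup.closure ({x, y} : Set G))) :
    x ∈ Subgroup.zpowers y ∨ y ∈ Subgroup.zpowers x := by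
  obtain ⟨⟨g, hgK⟩, hg⟩ := hc.exists_generator
  have hxK : x ∈ Subgroup.closure ({x, y} : Set G) := Subgroup.subset_closure (by simp)
  have hyK : y ∈ Subgroup.closure ({x, y} : Set G) := Subgroup.subset_closure (by simp)
  have hx : x ∈ Subgroup.zpowers g := by
    obtain ⟨k, hk⟩ := Subgroup.mem_zpowers_iff.1 (hg ⟨x, hxK⟩)
    refine Subgroup.mem_zpowers_iff.2 ⟨k, ?_⟩
    have := congrArg Subtype.val hk
    simpa using this
  have hy : y ∈ Subgroup.zpowers g := by
    obtain ⟨k, hk⟩ := Subgroup.mem_zpowers_iff.1 (hg ⟨y, hyK⟩)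
    refine Subgroup.mem_zpowers_iff.2 ⟨k, ?_⟩
    have := congrArg Subtype.val hk
    simpa using this
  rw [← mem_powers_iff_mem_zpowers] at hx hy
  obtain ⟨a, rfl⟩ := hx
  obtain ⟨b, rfl⟩ := hy
  by_cases hg1 : g = 1
  · subst hg1
    left
    simp
  obtain ⟨p, k, hp, hk, hpk⟩ := h g hg1
  have hp' : p.Prime := hp.nat_prime
  obtain ⟨i, hi, hgi⟩ := (Nat.dvd_prime_pow hp').1 (hpk ▸ Nat.gcd_dvd_right a (orderOf g))
  obtain ⟨j, hj, hgj⟩ := (Nat.dvd_prime_pow hp').1 (hpk ▸ Nat.gcd_dvd_right b (orderOf g))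
  rw [hpk] at hgi hgj
  rcases le_total i j with hij | hij
  · right
    apply pow_mem_zpowers_pow
    rw [hgi]
    exact (pow_dvd_pow p hij).trans (hgj ▸ Nat.gcd_dvd_left b (orderOf g))
  · left
    apply pow_mem_zpowers_pow
    rw [hgj]
    exact (pow_dvd_pow p hij).trans (hgi ▸ Nat.gcd_dvd_left a (orderOf g))

theorem backward {G : Type*} [Group G] [Finite G]
    (h : ∀ x y : G, IsCyclic ↥(Subgroup.closure ({x, y} : Set G)) →
      (x ∈ Subgroup.zpowers y ∨ y ∈ Subgroup.zpowers x)) (g : G) (hg : g ≠ 1) :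
    IsPrimePow (orderOf g) := by
  by_contra hnpp
  set n := orderOf g with hn
  have hn0 : n ≠ 0 := (orderOf_pos g).ne'
  have hn1 : n ≠ 1 := by
    intro h1
    exact hg (orderOf_eq_one_iff.1 h1)
  set p := n.minFac with hpdef
  have hp : p.Prime := Nat.minFac_prime hn1
  set a := ordProj[p] n with ha
  set b := ordCompl[p] n with hb
  have hab : a * b = n := Nat.ordProj_mul_ordCompl_eq_self n p
  have hcop : Nat.Coprime a b := Nat.Coprime.pow_left _ (Nat.coprime_ordCompl hp hn0)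
  have ha0 : a ≠ 0 := by intro h0; rw [h0, zero_mul] at hab; exact hn0 hab.symm
  have hb0 : b ≠ 0 := by intro h0; rw [h0, mul_zero] at hab; exact hn0 hab.symm
  have hb1 : b ≠ 1 := by
    intro h1
    apply hnpp
    rw [← hab, h1, mul_one]
    refine ⟨p, n.factorization p, hp.prime, ?_, rfl⟩
    exact Nat.pos_of_ne_zero (fun h0 => by
      have : p ∣ n := Nat.minFac_dvd n
      have := (hp.factorization_pos_of_dvd hn0 this)
      omega)
  have ha1 : a ≠ 1 := by
    intro h1
    have hpa : p ∣ a := by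
      rw [ha]
      exact dvd_pow_self p (by
        have : p ∣ n := Nat.minFac_dvd n
        have := (hp.factorization_pos_of_dvd hn0 this)
        omega)
    rw [h1] at hpa
    exact hp.one_lt.ne' (Nat.dvd_one.1 hpa)
  have hoa : orderOf (g ^ a) = b := by
    rw [orderOf_pow_of_dvd ha0 (by rw [← hn, ← hab]; exact Dvd.intro _ rfl), ← hn, ← hab]
    exact Nat.mul_div_cancel_left b (Nat.pos_of_ne_zero ha0)
  have hob : orderOf (g ^ b) = a := by
    rw [orderOf_pow_of_dvd hb0 (by rw [← hn, ← hab]; exact Dvd.intro_left _ rfl), ← hn, ← hab]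
    exact Nat.mul_div_cancel a (Nat.pos_of_ne_zero hb0)
  have hcyc : IsCyclic ↥(Subgroup.closure ({g ^ a, g ^ b} : Set G)) := by
    have hle : Subgroup.closure ({g ^ a, g ^ b} : Set G) ≤ Subgroup.zpowers g := by
      rw [Subgroup.closure_le]
      intro z hz
      rcases hz with rfl | rfl
      · exact Subgroup.npow_mem_zpowers g a
      · exact Subgroup.npow_mem_zpowers g b
    exact Subgroup.isCyclic_of_le hle
  rcases h _ _ hcyc with h1 | h1
  · have := orderOf_dvd_of_mem_zpowers h1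
    rw [hoa, hob] at this
    exact hb1 (Nat.Coprime.eq_one_of_dvd hcop.symm this)
  · have := orderOf_dvd_of_mem_zpowers h1
    rw [hoa, hob] at this
    exact ha1 (Nat.Coprime.eq_one_of_dvd hcop this)

theorem result {G : Type*} [Group G] [Finite G] :
    (∀ g : G, g ≠ 1 → IsPrimePow (orderOf g)) ↔
    (∀ x y : G, IsCyclic ↥(Subgroup.closure ({x, y} : Set G)) → (x ∈ Subgroup.zpowers y ∨ y ∈ Subgroup.zpowers x)) := by
  exact ⟨fun h x y hc => forward h x y hc, fun h g hg => backward h g hg⟩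

end Cfsg.Agent.S4086
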