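import Cfsg.Statements.S4088
import Mathlib
import Cfsg.Agent.S4089
-- import your own Cfsg.Agent.* helpers here

set_option autoImplicit false
open Cfsg

namespace Cfsg.Agent.S4088


section

open Classical in
/-- Möbius-type weights on a finite subset `X` of a poset: the unique function with
`∑_{y ∈ X, m ≤ y} wt X y = 1` for all `m ∈ X`. -/
noncomputable def wt {α : Type*} [PartialOrder α] (X : Finset α) (x : α) : ℤ :=
  1 - ∑ y ∈ (X.filter (fun y => x < y)).attach, wt X y.1
termination_by (X.filter (fun y => x < y)).card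
decreasing_by
  have hy := (Finset.mem_filter.mp y.2)
  apply Finset.card_lt_card
  constructor
  · intro z hz
    have hz' := Finset.mem_filter.mp hz
    exact Finset.mem_filter.mpr ⟨hz'.1, lt_trans hy.2 hz'.2⟩
  · intro hsub
    have : y.1 ∈ X.filter (fun z => y.1 < z) := hsub y.2
    exact lt_irrefl _ (Finset.mem_filter.mp this).2

section weights

variable {α : Type*} [PartialOrder α]

open Classical in
theorem wt_eq (X : Finset α) (x : α) :
    wt X x = 1 - ∑ y ∈ X.filter (fun y => x < y), wt X y := by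
  rw [wt]
  congr 1
  exact Finset.sum_attach (X.filter (fun y => x < y)) (fun y => wt X y)

open Classical in
theorem filter_le_eq (X : Finset α) {m : α} (hm : m ∈ X) :
    X.filter (fun y => m ≤ y) = insert m (X.filter (fun y => m < y)) := by
  ext y
  simp only [Finset.mem_filter, Finset.mem_insert]
  constructor
  · rintro ⟨hy, hle⟩
    rcases eq_or_lt_of_le hle with h | h
    · left; exact h.symm
    · right; exact ⟨hy, h⟩
  · rintro (rfl | ⟨hy, hlt⟩)
    · exact ⟨hm, le_rfl⟩
    · exact ⟨hy, hlt.le⟩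

open Classical in
theorem sum_filter_le (u : α → ℤ) (X : Finset α) {m : α} (hm : m ∈ X) :
    ∑ y ∈ X.filter (fun y => m ≤ y), u y = u m + ∑ y ∈ X.filter (fun y => m < y), u y := by
  rw [filter_le_eq X hm, Finset.sum_insert]
  intro h
  exact lt_irrefl _ (Finset.mem_filter.mp h).2

open Classical in
theorem wt_sum (X : Finset α) {m : α} (hm : m ∈ X) :
    ∑ y ∈ X.filter (fun y => m ≤ y), wt X y = 1 := by
  rw [sum_filter_le _ X hm, wt_eq X m]
  ring

open Classical in
/-- Uniqueness of the weights. -/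
theorem wt_unique (X : Finset α) (u : α → ℤ)
    (hu : ∀ m ∈ X, ∑ y ∈ X.filter (fun y => m ≤ y), u y = 1) :
    ∀ x ∈ X, u x = wt X x := by
  have key : ∀ n : ℕ, ∀ x ∈ X, (X.filter (fun y => x < y)).card = n → u x = wt X x := by
    intro n
    induction n using Nat.strong_induction_on with
    | _ n ih =>
      intro x hx hn
      have h1 := hu x hx
      rw [sum_filter_le _ X hx] at h1
      have h2 : ∑ y ∈ X.filter (fun y => x < y), u y = ∑ y ∈ X.filter (fun y => x < y), wt X y := by
        apply Finset.sum_congr rfl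
        intro y hy
        have hy' := Finset.mem_filter.mp hy
        refine ih _ ?_ y hy'.1 rfl
        rw [← hn]
        apply Finset.card_lt_card
        constructor
        · intro z hz
          have hz' := Finset.mem_filter.mp hz
          exact Finset.mem_filter.mpr ⟨hz'.1, lt_trans hy'.2 hz'.2⟩
        · intro hsub
          have : y ∈ X.filter (fun z => y < z) := hsub hy
          exact lt_irrefl _ (Finset.mem_filter.mp this).2
      rw [wt_eq X x, ← h2]
      linarith
  intro x hx
  exact key _ x hx rfl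

open Classical in
/-- Retraction lemma. -/
theorem wt_retract (X Y : Finset α) (f : α → α) (hYX : Y ⊆ X) (hf : ∀ x ∈ X, f x ∈ Y)
    (hgal : ∀ x ∈ X, ∀ y ∈ Y, (y ≤ f x ↔ y ≤ x)) :
    ∑ y ∈ Y, wt Y y = ∑ x ∈ X, wt X x := by
  have h1 : ∀ y ∈ Y, (∑ x ∈ X.filter (fun x => f x = y), wt X x) = wt Y y := by
    apply wt_unique Y (fun y => ∑ x ∈ X.filter (fun x => f x = y), wt X x)
    intro m hm
    have h2 : ∑ y ∈ Y.filter (fun y => m ≤ y), ∑ x ∈ X.filter (fun x => f x = y), wt X x
        = ∑ x ∈ X.filter (fun x => m ≤ f x), wt X x := by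
      have hmaps : ∀ x ∈ X.filter (fun x => m ≤ f x), f x ∈ Y.filter (fun y => m ≤ y) := by
        intro x hx
        have hx' := Finset.mem_filter.mp hx
        exact Finset.mem_filter.mpr ⟨hf x hx'.1, hx'.2⟩
      rw [← Finset.sum_fiberwise_of_maps_to hmaps]
      apply Finset.sum_congr rfl
      intro y hy
      have hy' := Finset.mem_filter.mp hy
      apply Finset.sum_congr
      · ext x
        constructor
        · intro hx
          have hx1 := Finset.mem_filter.mp hx
          refine Finset.mem_filter.mpr ⟨Finset.mem_filter.mpr ⟨hx1.1, ?_⟩, hx1.2⟩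
          rw [hx1.2]; exact hy'.2
        · intro hx
          have hx1 := Finset.mem_filter.mp hx
          have hx2 := Finset.mem_filter.mp hx1.1
          exact Finset.mem_filter.mpr ⟨hx2.1, hx1.2⟩
      · intro _ _; rfl
    rw [h2]
    have h3 : X.filter (fun x => m ≤ f x) = X.filter (fun x => m ≤ x) := by
      ext x
      simp only [Finset.mem_filter]
      constructor
      · rintro ⟨hx, h⟩; exact ⟨hx, (hgal x hx m hm).mp h⟩
      · rintro ⟨hx, h⟩; exact ⟨hx, (hgal x hx m hm).mpr h⟩
    rw [h3]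
    exact wt_sum X (hYX hm)
  rw [← Finset.sum_fiberwise_of_maps_to hf]
  exact (Finset.sum_congr rfl h1).symm

open Classical in
/-- Restricting to a strict upper set does not change the weights. -/
theorem wt_upper (X : Finset α) (r : α) :
    ∀ x ∈ X.filter (fun y => r < y), wt X x = wt (X.filter (fun y => r < y)) x := by
  apply wt_unique
  intro m hm
  have hm' := Finset.mem_filter.mp hm
  have h1 : (X.filter (fun y => r < y)).filter (fun y => m ≤ y) = X.filter (fun y => m ≤ y) := by
    ext y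
    constructor
    · intro hy
      have hy1 := Finset.mem_filter.mp hy
      have hy2 := Finset.mem_filter.mp hy1.1
      exact Finset.mem_filter.mpr ⟨hy2.1, hy1.2⟩
    · intro hy
      have hy1 := Finset.mem_filter.mp hy
      exact Finset.mem_filter.mpr ⟨Finset.mem_filter.mpr ⟨hy1.1, lt_of_lt_of_le hm'.2 hy1.2⟩, hy1.2⟩
  rw [h1]
  exact wt_sum X hm'.1

open Classical in
theorem wt_eq' (X : Finset α) (x : α) :
    wt X x = 1 - ∑ y ∈ X.filter (fun y => x < y), wt (X.filter (fun y => x < y)) y := by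
  rw [wt_eq]
  congr 1
  exact Finset.sum_congr rfl (wt_upper X x)

end weights

end

section

open Subgroup

-- stubs from c1

section weights

variable {α : Type*} [PartialOrder α]

end weights

section grp

variable {G : Type*} [Group G] [Finite G] (p : ℕ) [Fact p.Prime]

/-- The `g`-invariant `p`-subgroups of `N`. -/
noncomputable def XS (N : Subgroup G) (g : G) : Finset (Subgroup G) :=
  (Set.toFinite {R : Subgroup G | IsPGroup p R ∧ R ≤ N ∧ g ∈ normalizer (R : Set G)}).toFinset

theorem mem_XS {N : Subgroup G} {g : G} {R : Subgroup G} :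
    R ∈ XS p N g ↔ IsPGroup p R ∧ R ≤ N ∧ g ∈ normalizer (R : Set G) := by
  unfold XS
  rw [Set.Finite.mem_toFinset]
  rfl

theorem mem_normalizer_inf {A B : Subgroup G} {g : G} (hA : g ∈ normalizer (A : Set G))
    (hB : g ∈ normalizer (B : Set G)) : g ∈ normalizer ((A ⊓ B : Subgroup G) : Set G) := by
  rw [mem_normalizer_iff]
  intro y
  simp only [mem_inf]
  rw [← (mem_normalizer_iff.mp hA) y, ← (mem_normalizer_iff.mp hB) y]

open Classical in
/-- Localization: the weight of `R` can be computed inside `N ⊓ N_G(R)`. -/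
theorem wt_local (N : Subgroup G) (g : G) (R : Subgroup G) (hR : R ∈ XS p N g) :
    wt (XS p N g) R = wt (XS p (N ⊓ normalizer (R : Set G)) g) R := by
  obtain ⟨hRp, hRN, hgR⟩ := (mem_XS p).mp hR
  rw [wt_eq' (XS p N g) R, wt_eq' (XS p (N ⊓ normalizer (R : Set G)) g) R]
  congr 1
  symm
  apply wt_retract _ _ (fun R' => R' ⊓ normalizer (R : Set G))
  · intro T hT
    obtain ⟨hT1, hT2⟩ := Finset.mem_filter.mp hT
    obtain ⟨hTp, hTN, hgT⟩ := (mem_XS p).mp hT1
    exact Finset.mem_filter.mpr ⟨(mem_XS p).mpr ⟨hTp, hTN.trans inf_le_left, hgT⟩, hT2⟩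
  · intro R' hR'
    obtain ⟨h1, h2⟩ := Finset.mem_filter.mp hR'
    obtain ⟨hp', hN', hg'⟩ := (mem_XS p).mp h1
    refine Finset.mem_filter.mpr ⟨(mem_XS p).mpr ⟨hp'.to_le inf_le_left, ?_, ?_⟩, ?_⟩
    · exact inf_le_inf_right _ hN'
    · exact mem_normalizer_inf hg' (le_normalizer hgR)
    · obtain ⟨x, hx1, hx2, hx3⟩ := Cfsg.Agent.S4089.exists_mem_normalizer_not_mem h2 hp'
      refine lt_of_le_of_ne (le_inf h2.le le_normalizer) ?_
      intro heq
      apply hx3
      rw [heq]
      exact ⟨hx1, hx2⟩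
  · intro R' hR' T hT
    obtain ⟨hT1, hT2⟩ := Finset.mem_filter.mp hT
    obtain ⟨hTp, hTN, hgT⟩ := (mem_XS p).mp hT1
    constructor
    · intro h; exact h.trans inf_le_left
    · intro h; exact le_inf h (hTN.trans inf_le_right)

/-- Elements of a subgroup as a Finset. -/
noncomputable def elts (K : Subgroup G) : Finset G := (Set.toFinite (K : Set G)).toFinset

omit [Fact p.Prime] in
theorem mem_elts {K : Subgroup G} {g : G} : g ∈ elts K ↔ g ∈ K := by
  unfold elts
  rw [Set.Finite.mem_toFinset]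
  rfl

theorem card_elts (K : Subgroup G) : (elts K).card = Nat.card K := by
  unfold elts
  rw [← Set.ncard_eq_toFinset_card (K : Set G)]
  rfl

/-- The total weight of `R` over the elements of `N` normalizing it. -/
noncomputable def E (N R : Subgroup G) : ℤ :=
  ∑ g ∈ elts (N ⊓ normalizer (R : Set G)), wt (XS p N g) R

theorem E_local (N R : Subgroup G) (hRp : IsPGroup p R) (hRN : R ≤ N) :
    E p N R = E p (N ⊓ normalizer (R : Set G)) R := by
  unfold E
  have h1 : (N ⊓ normalizer (R : Set G)) ⊓ normalizer (R : Set G) = N ⊓ normalizer (R : Set G) := by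
    rw [inf_assoc, inf_idem]
  rw [h1]
  apply Finset.sum_congr rfl
  intro g hg
  rw [mem_elts] at hg
  exact wt_local p N g R ((mem_XS p).mpr ⟨hRp, hRN, hg.2⟩)

end grp

end

section

open Subgroup

section sylsum

variable {G : Type*} [Group G] [Finite G] (p : ℕ) [Fact p.Prime]

/-- The image in `G` of a Sylow subgroup of `N`. -/
noncomputable def sylMap (N : Subgroup G) (Q : Sylow p N) : Subgroup G :=
  (Q : Subgroup N).map N.subtype

theorem sylMap_injective (N : Subgroup G) : Function.Injective (sylMap p N) := by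
  intro Q1 Q2 h
  unfold sylMap at h
  exact Sylow.ext (map_injective N.subtype_injective h)

theorem sylMap_le (N : Subgroup G) (Q : Sylow p N) : sylMap p N Q ≤ N :=
  map_subtype_le _

theorem sylMap_isPGroup (N : Subgroup G) (Q : Sylow p N) : IsPGroup p (sylMap p N Q) :=
  Q.2.map _

theorem sylMap_subgroupOf (N : Subgroup G) (Q : Sylow p N) :
    (sylMap p N Q).subgroupOf N = (Q : Subgroup N) := by
  unfold sylMap subgroupOf
  exact comap_map_eq_self_of_injective N.subtype_injective _

theorem card_subgroupOf_of_le {A N : Subgroup G} (h : A ≤ N) :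
    Nat.card (A.subgroupOf N) = Nat.card A :=
  Nat.card_congr (subgroupOfEquivOfLe h).toEquiv

theorem card_inf_normalizer_sylMap (N : Subgroup G) (Q : Sylow p N) :
    Nat.card (N ⊓ normalizer (sylMap p N Q : Set G) : Subgroup G)
      = Nat.card (normalizer ((Q : Subgroup N) : Set N)) := by
  rw [← card_subgroupOf_of_le (inf_le_left : N ⊓ normalizer (sylMap p N Q : Set G) ≤ N),
    inf_subgroupOf_left, subgroupOf_normalizer_eq (sylMap_le p N Q), sylMap_subgroupOf]

theorem sum_card_normalizer_sylow (N : Subgroup G) [Fintype (Sylow p N)] :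
    ∑ Q : Sylow p N, Nat.card (normalizer ((Q : Subgroup N) : Set N)) = Nat.card N := by
  have h : ∀ Q : Sylow p N, Nat.card (Sylow p N) * Nat.card (normalizer ((Q : Subgroup N) : Set N))
      = Nat.card N := by
    intro Q
    rw [Sylow.card_eq_index_normalizer Q, mul_comm]
    exact card_mul_index _
  have hpos : 0 < Nat.card (Sylow p N) := Nat.card_pos
  have h2 : ∀ Q : Sylow p N, Nat.card (normalizer ((Q : Subgroup N) : Set N))
      = Nat.card N / Nat.card (Sylow p N) := by
    intro Q
    rw [← h Q, Nat.mul_div_cancel_left _ hpos]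
  rw [Finset.sum_congr rfl (fun Q _ => h2 Q), Finset.sum_const, Finset.card_univ, smul_eq_mul,
    ← Nat.card_eq_fintype_card]
  obtain ⟨Q⟩ : Nonempty (Sylow p N) := inferInstance
  rw [← h2 Q, h Q]

theorem not_dvd_relIndex_sylMap (N : Subgroup G) (Q : Sylow p N) :
    ¬ p ∣ (sylMap p N Q).relIndex N := by
  unfold relIndex
  rw [sylMap_subgroupOf]
  exact Q.not_dvd_index

theorem le_sylMap_of_normal (N : Subgroup G) (Q : Sylow p N) {R : Subgroup G}
    (hRp : IsPGroup p R) (hRN : R ≤ N) (hNR : N ≤ normalizer (R : Set G)) :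
    R ≤ sylMap p N Q := by
  have hn : (R.subgroupOf N).Normal := by
    have := (normal_subgroupOf_iff_le_normalizer hRN).mpr hNR
    exact this
  have hRp' : IsPGroup p (R.subgroupOf N) := hRp.comap_subtype
  have hsup : IsPGroup p ((Q : Subgroup N) ⊔ R.subgroupOf N : Subgroup N) :=
    Q.2.to_sup_of_normal_right hRp'
  have heq := Q.3 hsup le_sup_left
  have hle : R.subgroupOf N ≤ (Q : Subgroup N) := by
    rw [← heq]; exact le_sup_right
  intro x hx
  unfold sylMap
  rw [mem_map]
  exact ⟨⟨x, hRN hx⟩, hle (mem_subgroupOf.mpr hx), rfl⟩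

theorem dvd_relIndex_of_lt_isPGroup {y M : Subgroup G} (hM : IsPGroup p M) (hyM : y < M) :
    p ∣ y.relIndex M := by
  obtain ⟨n, hn⟩ := hM.index (y.subgroupOf M)
  have hn0 : n ≠ 0 := by
    rintro rfl
    rw [pow_zero] at hn
    exact hyM.not_ge (relIndex_eq_one.mp hn)
  unfold relIndex
  rw [hn]
  exact dvd_pow_self p hn0

theorem exists_sylMap_eq (N : Subgroup G) {y : Subgroup G} (hyp : IsPGroup p y) (hyN : y ≤ N)
    (hy : ¬ p ∣ y.relIndex (N ⊓ normalizer (y : Set G))) : ∃ Q : Sylow p N, sylMap p N Q = y := by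
  obtain ⟨Q, hQ⟩ := (hyp.comap_subtype (K := N)).exists_le_sylow
  refine ⟨Q, ?_⟩
  have hle : y ≤ sylMap p N Q := by
    intro x hx
    unfold sylMap
    rw [mem_map]
    exact ⟨⟨x, hyN hx⟩, hQ (mem_subgroupOf.mpr hx), rfl⟩
  by_contra hne
  have hlt : y < sylMap p N Q := lt_of_le_of_ne hle (Ne.symm hne)
  obtain ⟨x, hx1, hx2, hx3⟩ :=
    Cfsg.Agent.S4089.exists_mem_normalizer_not_mem hlt (sylMap_isPGroup p N Q)
  set M : Subgroup G := sylMap p N Q ⊓ normalizer (y : Set G) with hM
  have hMp : IsPGroup p M := (sylMap_isPGroup p N Q).to_le inf_le_left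
  have hyM : y < M := by
    refine lt_of_le_of_ne (le_inf hle le_normalizer) ?_
    intro heq
    apply hx3
    rw [heq]
    exact ⟨hx1, hx2⟩
  have hMN : M ≤ N ⊓ normalizer (y : Set G) := inf_le_inf_right _ (sylMap_le p N Q)
  apply hy
  rw [← relIndex_mul_relIndex y M _ hyM.le hMN]
  exact Dvd.dvd.mul_right (dvd_relIndex_of_lt_isPGroup p hMp hyM) _

end sylsum

end

section

open Subgroup

section main

variable {G : Type*} [Group G] [Finite G] (p : ℕ) [Fact p.Prime]

open Classical in
theorem sylow_sum (N R : Subgroup G) (hRp : IsPGroup p R) (hRN : R ≤ N)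
    (hNR : N ≤ normalizer (R : Set G)) (hk : p ∣ R.relIndex N) :
    ∑ y ∈ ((XS p N 1).filter (fun y => R ≤ y)).erase R,
      (if p ∣ y.relIndex (N ⊓ normalizer (y : Set G)) then (0:ℤ)
        else (Nat.card (N ⊓ normalizer (y : Set G) : Subgroup G) : ℤ)) = Nat.card N := by
  haveI : Fintype (Sylow p N) := Fintype.ofFinite _
  rw [Finset.sum_ite, Finset.sum_const_zero, zero_add]
  have himg : (((XS p N 1).filter (fun y => R ≤ y)).erase R).filter
      (fun y => ¬ p ∣ y.relIndex (N ⊓ normalizer (y : Set G)))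
      = Finset.univ.image (sylMap p N) := by
    ext y
    simp only [Finset.mem_filter, Finset.mem_erase, Finset.mem_image, Finset.mem_univ, true_and]
    constructor
    · rintro ⟨⟨hne, hy1, hRy⟩, hnd⟩
      obtain ⟨hyp, hyN, -⟩ := (mem_XS p).mp hy1
      exact exists_sylMap_eq p N hyp hyN hnd
    · rintro ⟨Q, rfl⟩
      refine ⟨⟨?_, (mem_XS p).mpr ⟨sylMap_isPGroup p N Q, sylMap_le p N Q, one_mem _⟩,
        le_sylMap_of_normal p N Q hRp hRN hNR⟩, ?_⟩
      · intro heq
        apply not_dvd_relIndex_sylMap p N Q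
        rw [heq]
        exact hk
      · intro hd
        apply not_dvd_relIndex_sylMap p N Q
        rw [← relIndex_mul_relIndex _ (N ⊓ normalizer (sylMap p N Q : Set G)) N
          (le_inf (sylMap_le p N Q) le_normalizer) inf_le_left]
        exact hd.mul_right _
  rw [himg, Finset.sum_image (fun a _ b _ h => sylMap_injective p N h)]
  simp_rw [card_inf_normalizer_sylMap]
  rw [← Nat.cast_sum, sum_card_normalizer_sylow]

end main

end

section

open Subgroup

section main2

variable {G : Type*} [Group G] [Finite G] (p : ℕ) [Fact p.Prime]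

omit [Fact p.Prime] in
theorem relIndex_pos' (A B : Subgroup G) : 0 < A.relIndex B := by
  unfold relIndex
  exact Nat.pos_of_ne_zero index_ne_zero_of_finite

open Classical in
/-- No `p`-subgroup of `N` lies strictly above a Sylow `p`-subgroup `R` of `N`. -/
theorem E_eq_of_not_dvd (N R : Subgroup G) (hNR : N ≤ normalizer (R : Set G))
    (hk : ¬ p ∣ R.relIndex N) : E p N R = Nat.card N := by
  unfold E
  have h1 : N ⊓ normalizer (R : Set G) = N := inf_eq_left.mpr hNR
  rw [h1]
  have h2 : ∀ g ∈ elts N, wt (XS p N g) R = 1 := by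
    intro g _
    rw [wt_eq]
    have hemp : (XS p N g).filter (fun y => R < y) = ∅ := by
      rw [Finset.filter_eq_empty_iff]
      intro y hy hlt
      obtain ⟨hyp, hyN, -⟩ := (mem_XS p).mp hy
      apply hk
      rw [← relIndex_mul_relIndex R y N hlt.le hyN]
      exact (dvd_relIndex_of_lt_isPGroup p hyp hlt).mul_right _
    rw [hemp, Finset.sum_empty, sub_zero]
  rw [Finset.sum_congr rfl h2, Finset.sum_const, card_elts]
  simp

open Classical in
theorem sum_E_eq_card (N R : Subgroup G) (hRp : IsPGroup p R) (hRN : R ≤ N)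
    (hNR : N ≤ normalizer (R : Set G)) :
    ∑ y ∈ (XS p N 1).filter (fun y => R ≤ y), E p N y = Nat.card N := by
  have step1 : ∀ g ∈ elts N, ∑ y ∈ (XS p N 1).filter (fun y => R ≤ y),
      (if g ∈ normalizer (y : Set G) then wt (XS p N g) y else 0) = 1 := by
    intro g hg
    rw [mem_elts] at hg
    rw [← Finset.sum_filter]
    have hfe : ((XS p N 1).filter (fun y => R ≤ y)).filter
        (fun y : Subgroup G => g ∈ normalizer (y : Set G))
        = (XS p N g).filter (fun y => R ≤ y) := by
      ext y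
      simp only [Finset.mem_filter, mem_XS]
      constructor
      · rintro ⟨⟨⟨h1, h2, -⟩, h3⟩, h4⟩
        exact ⟨⟨h1, h2, h4⟩, h3⟩
      · rintro ⟨⟨h1, h2, h4⟩, h3⟩
        exact ⟨⟨⟨h1, h2, one_mem _⟩, h3⟩, h4⟩
    rw [hfe]
    exact wt_sum _ ((mem_XS p).mpr ⟨hRp, hRN, hNR hg⟩)
  have step2 : ∑ g ∈ elts N, ∑ y ∈ (XS p N 1).filter (fun y => R ≤ y),
      (if g ∈ normalizer (y : Set G) then wt (XS p N g) y else 0) = Nat.card N := by
    rw [Finset.sum_congr rfl step1, Finset.sum_const, card_elts]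
    simp
  rw [← step2, Finset.sum_comm]
  apply Finset.sum_congr rfl
  intro y _
  unfold E
  rw [← Finset.sum_filter]
  apply Finset.sum_congr _ (fun _ _ => rfl)
  ext g
  simp only [Finset.mem_filter, mem_elts, mem_inf]

open Classical in
theorem E_eq : ∀ (k : ℕ) (N R : Subgroup G), IsPGroup p R → R ≤ N →
    N ≤ normalizer (R : Set G) → R.relIndex N = k →
    E p N R = if p ∣ k then 0 else (Nat.card N : ℤ) := by
  intro k
  induction k using Nat.strong_induction_on with
  | _ k ih =>
    intro N R hRp hRN hNR hk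
    by_cases hpk : p ∣ k
    · rw [if_pos hpk]
      have hsum := sum_E_eq_card p N R hRp hRN hNR
      have hRmem : R ∈ (XS p N 1).filter (fun y => R ≤ y) :=
        Finset.mem_filter.mpr ⟨(mem_XS p).mpr ⟨hRp, hRN, one_mem _⟩, le_rfl⟩
      rw [← Finset.add_sum_erase _ _ hRmem] at hsum
      have hrest : ∑ y ∈ ((XS p N 1).filter (fun y => R ≤ y)).erase R, E p N y
          = ∑ y ∈ ((XS p N 1).filter (fun y => R ≤ y)).erase R,
            (if p ∣ y.relIndex (N ⊓ normalizer (y : Set G)) then (0:ℤ)
              else (Nat.card (N ⊓ normalizer (y : Set G) : Subgroup G) : ℤ)) := by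
        apply Finset.sum_congr rfl
        intro y hy
        obtain ⟨hne, hy2⟩ := Finset.mem_erase.mp hy
        obtain ⟨hy3, hRy⟩ := Finset.mem_filter.mp hy2
        obtain ⟨hyp, hyN, -⟩ := (mem_XS p).mp hy3
        rw [E_local p N y hyp hyN]
        refine ih (y.relIndex (N ⊓ normalizer (y : Set G))) ?_ _ y hyp
          (le_inf hyN le_normalizer) inf_le_right rfl
        have hlt : R < y := lt_of_le_of_ne hRy (Ne.symm hne)
        have e1 : R.relIndex y * y.relIndex N = k := by
          rw [relIndex_mul_relIndex R y N hRy hyN, hk]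
        have e2 : y.relIndex (N ⊓ normalizer (y : Set G))
            * (N ⊓ normalizer (y : Set G)).relIndex N = y.relIndex N :=
          relIndex_mul_relIndex y _ N (le_inf hyN le_normalizer) inf_le_left
        have h2 : 2 ≤ R.relIndex y := by
          have hd := dvd_relIndex_of_lt_isPGroup p hyp hlt
          have := Nat.le_of_dvd (relIndex_pos' R y) hd
          exact le_trans (Fact.out : p.Prime).two_le this
        have hpos1 := relIndex_pos' y (N ⊓ normalizer (y : Set G))
        have hpos2 := relIndex_pos' (N ⊓ normalizer (y : Set G)) N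
        rw [← e1, ← e2]
        nlinarith
      rw [hrest, sylow_sum p N R hRp hRN hNR (hk ▸ hpk)] at hsum
      linarith
    · rw [if_neg hpk]
      exact E_eq_of_not_dvd p N R hNR (hk ▸ hpk)

end main2

end

section

open Subgroup

section first

variable {G : Type*} [Group G] [Finite G] (p : ℕ) [Fact p.Prime]

omit [Finite G] in
theorem mem_normalizer_sInf {𝒮 : Set (Subgroup G)} {g : G}
    (h : ∀ K ∈ 𝒮, g ∈ normalizer (K : Set G)) : g ∈ normalizer ((sInf 𝒮 : Subgroup G) : Set G) := by
  rw [mem_normalizer_iff]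
  intro x
  simp only [mem_sInf]
  constructor
  · intro hx K hK
    exact (mem_normalizer_iff.mp (h K hK) x).mp (hx K hK)
  · intro hx K hK
    exact (mem_normalizer_iff.mp (h K hK) x).mpr (hx K hK)

/-- Characterization of the subnormalizer via invariant `p`-subgroups. -/
theorem mem_subnormalizer_iff {H : Subgroup G} (hH : IsPGroup p H) (g : G) :
    (H.subgroupOf (H ⊔ zpowers g)).IsSubnormal ↔
      ∃ R : Subgroup G, IsPGroup p R ∧ H ≤ R ∧ g ∈ normalizer (R : Set G) := by
  constructor
  · intro hg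
    obtain ⟨R, hHR, hReq, hgR⟩ := Cfsg.Agent.S4089.exists_radical hH hg
    refine ⟨R, ?_, hHR, hgR⟩
    rw [← hReq]
    exact Cfsg.Agent.S4089.isPGroup_pcOf _
  · rintro ⟨R, hRp, hHR, hgR⟩
    exact (Cfsg.Agent.S4089.rsn_of_mem_normalizer hHR hRp hgR).subgroupOf_isSubnormal

open Classical in
/-- The total weight over the `g`-invariant `p`-subgroups containing `H` is the indicator
of the subnormalizer. -/
theorem sum_wt_indicator {H : Subgroup G} (hH : IsPGroup p H) (g : G) :
    ∑ y ∈ (XS p ⊤ g).filter (fun y => H ≤ y), wt (XS p ⊤ g) y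
      = if (H.subgroupOf (H ⊔ zpowers g)).IsSubnormal then 1 else 0 := by
  split_ifs with hg
  · obtain ⟨R, hRp, hHR, hgR⟩ := (mem_subnormalizer_iff p hH g).mp hg
    set 𝒮 : Set (Subgroup G) := {y | y ∈ (XS p ⊤ g).filter (fun y => H ≤ y)} with h𝒮
    have hR𝒮 : R ∈ 𝒮 := Finset.mem_filter.mpr ⟨(mem_XS p).mpr ⟨hRp, le_top, hgR⟩, hHR⟩
    set m : Subgroup G := sInf 𝒮 with hm
    have hmR : m ≤ R := sInf_le hR𝒮
    have hHm : H ≤ m := le_sInf (fun K hK => (Finset.mem_filter.mp hK).2)
    have hmX : m ∈ XS p ⊤ g := by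
      refine (mem_XS p).mpr ⟨hRp.to_le hmR, le_top, mem_normalizer_sInf ?_⟩
      intro K hK
      exact ((mem_XS p).mp (Finset.mem_filter.mp hK).1).2.2
    have hfe : (XS p ⊤ g).filter (fun y => H ≤ y) = (XS p ⊤ g).filter (fun y => m ≤ y) := by
      ext y
      simp only [Finset.mem_filter]
      constructor
      · rintro ⟨h1, h2⟩
        exact ⟨h1, sInf_le (Finset.mem_filter.mpr ⟨h1, h2⟩)⟩
      · rintro ⟨h1, h2⟩
        exact ⟨h1, hHm.trans h2⟩
    rw [hfe]
    exact wt_sum _ hmX
  · have hemp : (XS p ⊤ g).filter (fun y => H ≤ y) = ∅ := by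
      rw [Finset.filter_eq_empty_iff]
      intro y hy hHy
      obtain ⟨hyp, -, hgy⟩ := (mem_XS p).mp hy
      exact hg ((mem_subnormalizer_iff p hH g).mpr ⟨y, hyp, hHy, hgy⟩)
    rw [hemp, Finset.sum_empty]

open Classical in
theorem card_subtype_eq_filter {α : Type*} (P : α → Prop) (s : Finset α)
    (hs : ∀ a, P a → a ∈ s) : Nat.card {a // P a} = (s.filter P).card := by
  rw [← Nat.card_eq_finsetCard]
  apply Nat.card_congr
  apply Equiv.subtypeEquivRight
  intro a
  simp only [Finset.mem_filter]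
  exact ⟨fun h => ⟨hs a h, h⟩, fun h => h.2⟩

open Classical in
/-- The subnormalizer count as a sum of the `E`'s. -/
theorem card_subnormalizer_eq_sum_E {H : Subgroup G} (hH : IsPGroup p H) :
    (Nat.card {g : G // (H.subgroupOf (H ⊔ zpowers g)).IsSubnormal} : ℤ)
      = ∑ y ∈ (XS p ⊤ 1).filter (fun y => H ≤ y), E p ⊤ y := by
  rw [card_subtype_eq_filter _ (elts (⊤ : Subgroup G)) (fun a _ => (mem_elts).mpr (mem_top a)),
    ← Finset.sum_boole, ]
  have step1 : ∀ g ∈ elts (⊤ : Subgroup G),
      (if (H.subgroupOf (H ⊔ zpowers g)).IsSubnormal then (1:ℤ) else 0)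
      = ∑ y ∈ (XS p ⊤ 1).filter (fun y => H ≤ y),
      (if g ∈ normalizer (y : Set G) then wt (XS p ⊤ g) y else 0) := by
    intro g _
    rw [← sum_wt_indicator p hH g, ← Finset.sum_filter]
    apply Finset.sum_congr _ (fun _ _ => rfl)
    ext y
    simp only [Finset.mem_filter, mem_XS]
    constructor
    · rintro ⟨⟨h1, h2, h4⟩, h3⟩
      exact ⟨⟨⟨h1, h2, one_mem _⟩, h3⟩, h4⟩
    · rintro ⟨⟨⟨h1, h2, -⟩, h3⟩, h4⟩
      exact ⟨⟨h1, h2, h4⟩, h3⟩
  rw [Finset.sum_congr rfl step1, Finset.sum_comm]
  apply Finset.sum_congr rfl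
  intro y _
  unfold E
  rw [← Finset.sum_filter]
  apply Finset.sum_congr _ (fun _ _ => rfl)
  ext g
  simp only [Finset.mem_filter, mem_elts, mem_inf]

end first

end

section

open Subgroup

section first2

variable {G : Type*} [Group G] [Finite G] (p : ℕ) [Fact p.Prime]

theorem dvd_relIndex_inf_normalizer {y T N : Subgroup G} (hT : IsPGroup p T) (hyT : y < T)
    (hTN : T ≤ N) : p ∣ y.relIndex (N ⊓ normalizer (y : Set G)) := by
  obtain ⟨x, hx1, hx2, hx3⟩ := Cfsg.Agent.S4089.exists_mem_normalizer_not_mem hyT hT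
  set M : Subgroup G := T ⊓ normalizer (y : Set G) with hM
  have hMp : IsPGroup p M := hT.to_le inf_le_left
  have hyM : y < M := by
    refine lt_of_le_of_ne (le_inf hyT.le le_normalizer) ?_
    intro heq
    apply hx3
    rw [heq]
    exact ⟨hx1, hx2⟩
  have hMN : M ≤ N ⊓ normalizer (y : Set G) := inf_le_inf_right _ hTN
  rw [← relIndex_mul_relIndex y M _ hyM.le hMN]
  exact Dvd.dvd.mul_right (dvd_relIndex_of_lt_isPGroup p hMp hyM) _

theorem card_normalizer_sylow_eq (P Q : Sylow p G) :
    Nat.card (normalizer ((Q : Subgroup G) : Set G)) = Nat.card (normalizer ((P : Subgroup G) : Set G)) := by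
  have h1 : Nat.card (Sylow p G) = (normalizer ((Q : Subgroup G) : Set G)).index :=
    Sylow.card_eq_index_normalizer Q
  have h2 : Nat.card (Sylow p G) = (normalizer ((P : Subgroup G) : Set G)).index :=
    Sylow.card_eq_index_normalizer P
  have h3 := card_mul_index (normalizer ((Q : Subgroup G) : Set G))
  have h4 := card_mul_index (normalizer ((P : Subgroup G) : Set G))
  rw [← h1] at h3
  rw [← h2] at h4
  have hpos : 0 < Nat.card (Sylow p G) := Nat.card_pos
  exact Nat.eq_of_mul_eq_mul_right hpos (h3.trans h4.symm)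

open Classical in
theorem sum_E_top (H : Subgroup G) (P : Sylow p G) [Fintype (Sylow p G)] :
    ∑ y ∈ (XS p ⊤ 1).filter (fun y => H ≤ y), E p ⊤ y
      = ((Finset.univ.filter (fun Q : Sylow p G => H ≤ (Q : Subgroup G))).card : ℤ)
        * Nat.card (normalizer ((P : Subgroup G) : Set G)) := by
  have h1 : ∀ y ∈ (XS p ⊤ 1).filter (fun y => H ≤ y), E p ⊤ y
      = (if p ∣ y.relIndex (⊤ ⊓ normalizer (y : Set G)) then (0:ℤ)
          else (Nat.card (⊤ ⊓ normalizer (y : Set G) : Subgroup G) : ℤ)) := by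
    intro y hy
    obtain ⟨hy1, -⟩ := Finset.mem_filter.mp hy
    obtain ⟨hyp, -, -⟩ := (mem_XS p).mp hy1
    rw [E_local p ⊤ y hyp le_top]
    exact E_eq p _ _ y hyp (le_inf le_top le_normalizer) inf_le_right rfl
  rw [Finset.sum_congr rfl h1, Finset.sum_ite, Finset.sum_const_zero, zero_add]
  have himg : ((XS p ⊤ 1).filter (fun y => H ≤ y)).filter
      (fun y => ¬ p ∣ y.relIndex (⊤ ⊓ normalizer (y : Set G)))
      = (Finset.univ.filter (fun Q : Sylow p G => H ≤ (Q : Subgroup G))).image
        (fun Q : Sylow p G => (Q : Subgroup G)) := by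
    ext y
    simp only [Finset.mem_filter, Finset.mem_image, Finset.mem_univ, true_and]
    constructor
    · rintro ⟨⟨hy1, hHy⟩, hnd⟩
      obtain ⟨hyp, -, -⟩ := (mem_XS p).mp hy1
      obtain ⟨Q, hQ⟩ := hyp.exists_le_sylow
      have hyQ : y = (Q : Subgroup G) := by
        by_contra hne
        exact hnd (dvd_relIndex_inf_normalizer p Q.2 (lt_of_le_of_ne hQ hne) le_top)
      exact ⟨Q, hyQ ▸ hHy, hyQ.symm⟩
    · rintro ⟨Q, hHQ, rfl⟩
      refine ⟨⟨(mem_XS p).mpr ⟨Q.2, le_top, one_mem _⟩, hHQ⟩, ?_⟩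
      intro hd
      apply Q.not_dvd_index
      rw [← relIndex_top_right, ← relIndex_mul_relIndex (Q : Subgroup G)
        (⊤ ⊓ normalizer ((Q : Subgroup G) : Set G)) ⊤ (le_inf le_top le_normalizer) le_top]
      exact hd.mul_right _
  rw [himg, Finset.sum_image (fun a _ b _ h => Sylow.ext h)]
  have h2 : ∀ Q ∈ Finset.univ.filter (fun Q : Sylow p G => H ≤ (Q : Subgroup G)),
      (Nat.card (⊤ ⊓ normalizer ((Q : Subgroup G) : Set G) : Subgroup G) : ℤ)
        = Nat.card (normalizer ((P : Subgroup G) : Set G)) := by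
    intro Q _
    rw [top_inf_eq, card_normalizer_sylow_eq p P Q]
  rw [Finset.sum_congr rfl h2, Finset.sum_const, nsmul_eq_mul]

open Classical in
theorem first_eq (H : Subgroup G) (hH : IsPGroup p H) (P : Sylow p G) :
    Nat.card {g : G // (H.subgroupOf (H ⊔ zpowers g)).IsSubnormal}
      = Nat.card {Q : Sylow p G // H ≤ (Q : Subgroup G)}
        * Nat.card (normalizer ((P : Subgroup G) : Set G)) := by
  haveI : Fintype (Sylow p G) := Fintype.ofFinite _
  have h := card_subnormalizer_eq_sum_E p hH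
  rw [sum_E_top p H P] at h
  rw [card_subtype_eq_filter (fun Q : Sylow p G => H ≤ (Q : Subgroup G)) Finset.univ
    (fun a _ => Finset.mem_univ a)]
  exact_mod_cast h

end first2

end

section

open Subgroup

section second

theorem card_eq_of_fibers {A B : Type*} [Finite A] [Finite B] (f : A → B) (c : ℕ)
    (h : ∀ b, Nat.card {a // f a = b} = c) : Nat.card A = Nat.card B * c := by
  haveI := Fintype.ofFinite B
  rw [Nat.card_congr (Equiv.sigmaFiberEquiv f).symm, Nat.card_sigma]
  simp [h, Nat.card_eq_fintype_card]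

variable {G : Type*} [Group G]

theorem mem_map_conj {H : Subgroup G} {g x : G} :
    x ∈ H.map (MulAut.conj g).toMonoidHom ↔ g⁻¹ * x * g ∈ H := by
  rw [mem_map]
  constructor
  · rintro ⟨h, hh, rfl⟩
    simp only [MulEquiv.coe_toMonoidHom, MulAut.conj_apply]
    have : g⁻¹ * (g * h * g⁻¹) * g = h := by group
    rw [this]; exact hh
  · intro hx
    refine ⟨g⁻¹ * x * g, hx, ?_⟩
    simp only [MulEquiv.coe_toMonoidHom, MulAut.conj_apply]
    group

theorem map_conj_eq_iff {H : Subgroup G} {a b : G} :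
    H.map (MulAut.conj a).toMonoidHom = H.map (MulAut.conj b).toMonoidHom
      ↔ b⁻¹ * a ∈ normalizer (H : Set G) := by
  rw [mem_normalizer_iff]
  constructor
  · intro h x
    have h1 : a * x * a⁻¹ ∈ H.map (MulAut.conj a).toMonoidHom ↔ x ∈ H := by
      rw [mem_map_conj]
      have : a⁻¹ * (a * x * a⁻¹) * a = x := by group
      rw [this]
    have h2 : a * x * a⁻¹ ∈ H.map (MulAut.conj b).toMonoidHom ↔
        b⁻¹ * a * x * (b⁻¹ * a)⁻¹ ∈ H := by
      rw [mem_map_conj]
      have : b⁻¹ * (a * x * a⁻¹) * b = b⁻¹ * a * x * (b⁻¹ * a)⁻¹ := by group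
      rw [this]
    rw [← h1, h, h2]
  · intro h
    ext x
    rw [mem_map_conj, mem_map_conj, h (a⁻¹ * x * a)]
    have : b⁻¹ * a * (a⁻¹ * x * a) * (b⁻¹ * a)⁻¹ = b⁻¹ * x * b := by group
    rw [this]

variable [Finite G] (p : ℕ) [Fact p.Prime]

theorem mem_inv_smul_sylow {P : Sylow p G} {g x : G} :
    x ∈ ((g⁻¹ • P : Sylow p G) : Subgroup G) ↔ g * x * g⁻¹ ∈ (P : Subgroup G) := by
  rw [Sylow.coe_subgroup_smul, Subgroup.mem_pointwise_smul_iff_inv_smul_mem]
  simp [MulAut.smul_def]

theorem le_inv_smul_sylow_iff {P : Sylow p G} {H : Subgroup G} {g : G} :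
    H ≤ ((g⁻¹ • P : Sylow p G) : Subgroup G) ↔ H.map (MulAut.conj g).toMonoidHom ≤ (P : Subgroup G) := by
  rw [map_le_iff_le_comap]
  constructor
  · intro h x hx
    rw [mem_comap]
    simp only [MulEquiv.coe_toMonoidHom, MulAut.conj_apply]
    exact (mem_inv_smul_sylow p).mp (h hx)
  · intro h x hx
    have := h hx
    rw [mem_comap] at this
    simp only [MulEquiv.coe_toMonoidHom, MulAut.conj_apply] at this
    exact (mem_inv_smul_sylow p).mpr this

/-- Counting `T = {g | gHg⁻¹ ≤ P}` via the conjugates of `H` inside `P`. -/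
theorem card_T_a (H : Subgroup G) (P : Sylow p G) :
    Nat.card {g : G // H.map (MulAut.conj g).toMonoidHom ≤ (P : Subgroup G)}
      = Nat.card {K : Subgroup G // K ≤ (P : Subgroup G) ∧
          ∃ g : G, K = H.map (MulAut.conj g).toMonoidHom}
        * Nat.card (normalizer (H : Set G)) := by
  apply card_eq_of_fibers
    (fun g : {g : G // H.map (MulAut.conj g).toMonoidHom ≤ (P : Subgroup G)} =>
      (⟨H.map (MulAut.conj g.1).toMonoidHom, g.2, g.1, rfl⟩ :
        {K : Subgroup G // K ≤ (P : Subgroup G) ∧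
          ∃ g : G, K = H.map (MulAut.conj g).toMonoidHom}))
  rintro ⟨K, hKP, g0, hK⟩
  apply Nat.card_congr
  refine
    { toFun := fun a => ⟨g0⁻¹ * a.1.1, ?_⟩
      invFun := fun n => ⟨⟨g0 * n.1, ?_⟩, ?_⟩
      left_inv := ?_
      right_inv := ?_ }
  · have h : H.map (MulAut.conj a.1.1).toMonoidHom = K := congrArg Subtype.val a.2
    exact map_conj_eq_iff.mp (h.trans hK)
  · have h : H.map (MulAut.conj (g0 * n.1)).toMonoidHom = H.map (MulAut.conj g0).toMonoidHom := by
      rw [map_conj_eq_iff]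
      have : g0⁻¹ * (g0 * n.1) = n.1 := by group
      rw [this]; exact n.2
    rw [h, ← hK]; exact hKP
  · apply Subtype.ext
    simp only
    rw [hK, map_conj_eq_iff]
    have : g0⁻¹ * (g0 * n.1) = n.1 := by group
    rw [this]; exact n.2
  · intro a
    apply Subtype.ext
    apply Subtype.ext
    simp
  · intro n
    apply Subtype.ext
    simp

/-- Counting `T = {g | gHg⁻¹ ≤ P}` via the Sylow subgroups containing `H`. -/
theorem card_T_b (H : Subgroup G) (P : Sylow p G) :
    Nat.card {g : G // H.map (MulAut.conj g).toMonoidHom ≤ (P : Subgroup G)}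
      = Nat.card {Q : Sylow p G // H ≤ (Q : Subgroup G)}
        * Nat.card (normalizer ((P : Subgroup G) : Set G)) := by
  apply card_eq_of_fibers
    (fun g : {g : G // H.map (MulAut.conj g).toMonoidHom ≤ (P : Subgroup G)} =>
      (⟨g.1⁻¹ • P, (le_inv_smul_sylow_iff p).mpr g.2⟩ :
        {Q : Sylow p G // H ≤ (Q : Subgroup G)}))
  rintro ⟨Q, hHQ⟩
  obtain ⟨g1, hg1⟩ := MulAction.exists_smul_eq G P Q
  apply Nat.card_congr
  refine
    { toFun := fun a => ⟨a.1.1 * g1, ?_⟩
      invFun := fun n => ⟨⟨n.1 * g1⁻¹, ?_⟩, ?_⟩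
      left_inv := ?_
      right_inv := ?_ }
  · have h : a.1.1⁻¹ • P = Q := congrArg Subtype.val a.2
    have h2 : (a.1.1 * g1) • P = P := by
      generalize a.1.1 = x at h ⊢
      rw [mul_smul, hg1, ← h, smul_inv_smul]
    exact Sylow.smul_eq_iff_mem_normalizer.mp h2
  · have h2 : (n.1 * g1⁻¹)⁻¹ • P = Q := by
      rw [mul_inv_rev, inv_inv, mul_smul, ← hg1]
      congr 1
      have h3 : n.1 • P = P := Sylow.smul_eq_iff_mem_normalizer.mpr n.2
      rw [inv_smul_eq_iff, h3]
    rw [← le_inv_smul_sylow_iff p, h2]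
    exact hHQ
  · apply Subtype.ext
    simp only
    rw [mul_inv_rev, inv_inv, mul_smul, ← hg1]
    congr 1
    have h3 : n.1 • P = P := Sylow.smul_eq_iff_mem_normalizer.mpr n.2
    rw [inv_smul_eq_iff, h3]
  · intro a
    apply Subtype.ext
    apply Subtype.ext
    simp
  · intro n
    apply Subtype.ext
    simp

end second

end


/-- Let G be a finite group, p a prime dividing the order of G, H a p-subgroup of G and P a Sylow p-subgroup of G. Call the subnormalizer of H the set of elements g of G such that H is subnormal in the subgroup generated by H and g. Then the number of elements of the subnormalizer of H equals the number of Sylow p-subgroups of G containing H times the order of N_G(P), and also equals the number of conjugates of H contained in P times the order of N_G(H). -/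
theorem result {G : Type*} [Group G] [Finite G] (p : ℕ) [Fact p.Prime]
    (hp : p ∣ Nat.card G) (H : Subgroup G) (hH : IsPGroup p H) (P : Sylow p G) :
    Nat.card {g : G // ((H).subgroupOf (H ⊔ Subgroup.zpowers g)).IsSubnormal} =
        Nat.card {Q : Sylow p G // H ≤ (Q : Subgroup G)} * Nat.card (Subgroup.normalizer ((P : Subgroup G) : Set G)) ∧
    Nat.card {g : G // ((H).subgroupOf (H ⊔ Subgroup.zpowers g)).IsSubnormal} =
        Nat.card {K : Subgroup G // K ≤ (P : Subgroup G) ∧ ∃ g : G, K = H.map (MulAut.conj g).toMonoidHom} *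
          Nat.card (Subgroup.normalizer (H : Set G)) := by
  have h1 := first_eq p H hH P
  refine ⟨h1, ?_⟩
  rw [h1, ← card_T_b p H P, card_T_a p H P]

end Cfsg.Agent.S4088
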