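import Cfsg.Statements.S4090
import Mathlib
import Cfsg.Agent.S4088
-- import your own Cfsg.Agent.* helpers here

set_option autoImplicit false
open scoped BigOperators
open Cfsg

namespace Cfsg.Agent.S4090


section

open Subgroup

section generic

variable {G : Type*} [Group G] [Finite G]

theorem card_preimage {G' : Type*} [Group G'] [Finite G'] (f : G →* G')
    (hf : Function.Surjective f) (A : G' → Prop) :
    Nat.card {g : G // A (f g)} = Nat.card {g' : G' // A g'} * Nat.card f.ker := by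
  apply Cfsg.Agent.S4088.card_eq_of_fibers
    (fun g : {g : G // A (f g)} => (⟨f g.1, g.2⟩ : {g' : G' // A g'}))
  rintro ⟨g', hg'⟩
  obtain ⟨g0, rfl⟩ := hf g'
  apply Nat.card_congr
  refine
    { toFun := fun a => ⟨g0⁻¹ * a.1.1, ?_⟩
      invFun := fun k => ⟨⟨g0 * k.1, ?_⟩, ?_⟩
      left_inv := ?_
      right_inv := ?_ }
  · have h : f a.1.1 = f g0 := congrArg Subtype.val a.2
    rw [MonoidHom.mem_ker, map_mul, map_inv, h, inv_mul_cancel]
  · have hk : f k.1 = 1 := MonoidHom.mem_ker.mp k.2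
    rw [map_mul, hk, mul_one]; exact hg'
  · apply Subtype.ext
    have hk : f k.1 = 1 := MonoidHom.mem_ker.mp k.2
    simp only
    rw [map_mul, hk, mul_one]
  · intro a
    apply Subtype.ext
    apply Subtype.ext
    simp
  · intro k
    apply Subtype.ext
    simp

/-- The number of `g` with `gHg⁻¹ ≤ B`. -/
noncomputable def tcount (H B : Subgroup G) : ℕ :=
  Nat.card {g : G // H.map (MulAut.conj g).toMonoidHom ≤ B}

theorem subnormalizer_card_eq_tcount (p : ℕ) [Fact p.Prime] (H : Subgroup G) (hH : IsPGroup p H)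
    (P : Sylow p G) :
    Nat.card {g : G // (H.subgroupOf (H ⊔ zpowers g)).IsSubnormal} = tcount H (P : Subgroup G) := by
  unfold tcount
  rw [Cfsg.Agent.S4088.first_eq p H hH P, ← Cfsg.Agent.S4088.card_T_b p H P]

omit [Finite G] in
theorem map_conj_map {G' : Type*} [Group G'] (f : G →* G') (H : Subgroup G) (g : G) :
    (H.map f).map (MulAut.conj (f g)).toMonoidHom = (H.map (MulAut.conj g).toMonoidHom).map f := by
  rw [map_map, map_map]
  congr 1
  ext x
  simp

theorem tcount_sup_normal (H B N : Subgroup G) [N.Normal] :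
    tcount H (B ⊔ N) = tcount (H.map (QuotientGroup.mk' N)) (B.map (QuotientGroup.mk' N))
      * Nat.card N := by
  unfold tcount
  have h := card_preimage (QuotientGroup.mk' N) (QuotientGroup.mk'_surjective N)
    (fun g' => (H.map (QuotientGroup.mk' N)).map (MulAut.conj g').toMonoidHom
      ≤ B.map (QuotientGroup.mk' N))
  rw [QuotientGroup.ker_mk'] at h
  rw [← h]
  apply Nat.card_congr
  apply Equiv.subtypeEquivRight
  intro g
  rw [map_conj_map, map_le_iff_le_comap (f := QuotientGroup.mk' N), comap_map_eq,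
    QuotientGroup.ker_mk']

end generic

end

section

open Subgroup

section coprime

variable {G : Type*} [Group G]

theorem map_conj_le_iff {H B : Subgroup G} {g : G} :
    H.map (MulAut.conj g).toMonoidHom ≤ B ↔ ∀ x ∈ H, g * x * g⁻¹ ∈ B := by
  rw [map_le_iff_le_comap]
  constructor
  · intro h x hx
    have := h hx
    rw [mem_comap] at this
    simpa using this
  · intro h x hx
    rw [mem_comap]
    simpa using h x hx

variable [Finite G] (p : ℕ) [Fact p.Prime]

/-- Sylow's theorem inside `P ⊔ N`: a `p`-subgroup of `PN` is `N`-conjugate into `P`. -/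
theorem exists_conj_mem_of_le_sup (P : Sylow p G) (N : Subgroup G) [N.Normal] (K : Subgroup G)
    (hK : IsPGroup p K) (hKL : K ≤ (P : Subgroup G) ⊔ N) :
    ∃ n ∈ N, ∀ k ∈ K, n * k * n⁻¹ ∈ (P : Subgroup G) := by
  set L : Subgroup G := (P : Subgroup G) ⊔ N with hL
  have hPL : (P : Subgroup G) ≤ L := le_sup_left
  obtain ⟨Q', hQ'⟩ := (hK.comap_subtype (K := L)).exists_le_sylow
  obtain ⟨x, hx⟩ := MulAction.exists_smul_eq L Q' (P.subtype hPL)
  have hxL : (x : G) ∈ ((P : Subgroup G) ⊔ N : Subgroup G) := x.2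
  rw [← SetLike.mem_coe, mul_normal, Set.mem_mul] at hxL
  obtain ⟨y, hy, n, hn, hyn⟩ := hxL
  refine ⟨n, hn, ?_⟩
  intro k hk
  have h1 : (⟨k, hKL hk⟩ : L) ∈ (Q' : Subgroup L) := hQ' (mem_subgroupOf.mpr hk)
  have h2 : x * ⟨k, hKL hk⟩ * x⁻¹ ∈ ((x • Q' : Sylow p L) : Subgroup L) := by
    rw [Sylow.coe_subgroup_smul, Subgroup.mem_pointwise_smul_iff_inv_smul_mem, MulAut.smul_def,
      MulAut.conj_inv_apply]
    have e : x⁻¹ * (x * ⟨k, hKL hk⟩ * x⁻¹) * x = ⟨k, hKL hk⟩ := by group
    rw [e]; exact h1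
  rw [hx, Sylow.coe_subtype, mem_subgroupOf] at h2
  have h3 : (x : G) * k * (x : G)⁻¹ ∈ (P : Subgroup G) := by simpa using h2
  rw [← hyn] at h3
  have h4 : y⁻¹ * (y * n * k * (y * n)⁻¹) * y ∈ (P : Subgroup G) :=
    mul_mem (mul_mem (inv_mem hy) h3) hy
  have e : y⁻¹ * (y * n * k * (y * n)⁻¹) * y = n * k * n⁻¹ := by group
  rwa [e] at h4

theorem centralizes_imp_mem_normalizer {H : Subgroup G} {c : G}
    (hc : ∀ h ∈ H, h * c * h⁻¹ * c⁻¹ = 1) : c ∈ normalizer (H : Set G) := by
  have hc' : ∀ h ∈ H, c * h * c⁻¹ = h := by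
    intro h hh
    have := hc h hh
    have e : c * h * c⁻¹ = (h * c * h⁻¹ * c⁻¹)⁻¹ * h := by group
    rw [e, this, inv_one, one_mul]
  rw [mem_normalizer_iff]
  intro h
  constructor
  · intro hh
    rw [hc' h hh]; exact hh
  · intro hh
    have h2 := hc' _ hh
    have h3 : c * h * c⁻¹ = h := by
      have := mul_left_cancel (mul_right_cancel h2)
      exact this
    rw [← h3]; exact hh

theorem tcount_coprime (H : Subgroup G) (P : Sylow p G) (N : Subgroup G) [N.Normal]
    (hH : IsPGroup p H) (hN : (Nat.card N).Coprime p) :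
    Nat.card N * tcount H (P : Subgroup G) = tcount H ((P : Subgroup G) ⊔ N)
      * Nat.card {u : G // u ∈ N ∧ ∀ h ∈ H, h * u * h⁻¹ * u⁻¹ = 1} := by
  unfold tcount
  rw [← Nat.card_prod]
  have hPN : (P : Subgroup G) ⊓ N = ⊥ := by
    apply Disjoint.eq_bot
    apply disjoint_of_coprime_natCard
    obtain ⟨k, hk⟩ := (IsPGroup.iff_card.mp P.2)
    rw [hk]
    exact (Nat.Coprime.pow_left k hN.symm)
  have hφ : ∀ x : ↥N × {g : G // H.map (MulAut.conj g).toMonoidHom ≤ (P : Subgroup G)},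
      H.map (MulAut.conj ((x.1 : G) * x.2.1)).toMonoidHom ≤ (P : Subgroup G) ⊔ N := by
    intro x
    rw [map_conj_le_iff]
    intro h hh
    have h1 := (map_conj_le_iff.mp x.2.2) h hh
    have e : (x.1 : G) * x.2.1 * h * ((x.1 : G) * x.2.1)⁻¹
        = ((x.1 : G) * (x.2.1 * h * x.2.1⁻¹) * (x.1 : G)⁻¹ * (x.2.1 * h * x.2.1⁻¹)⁻¹)
          * (x.2.1 * h * x.2.1⁻¹) := by group
    rw [e]
    refine mul_mem ?_ ((le_sup_left : (P : Subgroup G) ≤ _) h1)
    apply (le_sup_right : N ≤ (P : Subgroup G) ⊔ N)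
    have hnorm : (x.2.1 * h * x.2.1⁻¹) * (x.1 : G)⁻¹ * (x.2.1 * h * x.2.1⁻¹)⁻¹ ∈ N :=
      (inferInstance : N.Normal).conj_mem _ (inv_mem x.1.2) _
    have := mul_mem x.1.2 hnorm
    have e2 : (x.1 : G) * ((x.2.1 * h * x.2.1⁻¹) * (x.1 : G)⁻¹ * (x.2.1 * h * x.2.1⁻¹)⁻¹)
        = (x.1 : G) * (x.2.1 * h * x.2.1⁻¹) * (x.1 : G)⁻¹ * (x.2.1 * h * x.2.1⁻¹)⁻¹ := by group
    rwa [e2] at this
  apply Cfsg.Agent.S4088.card_eq_of_fibers
    (fun x : ↥N × {g : G // H.map (MulAut.conj g).toMonoidHom ≤ (P : Subgroup G)} =>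
      (⟨(x.1 : G) * x.2.1, hφ x⟩ :
        {g : G // H.map (MulAut.conj g).toMonoidHom ≤ (P : Subgroup G) ⊔ N}))
  rintro ⟨w, hw⟩
  -- find a point in the fibre
  have hKp : IsPGroup p (H.map (MulAut.conj w).toMonoidHom) := hH.map _
  obtain ⟨n1, hn1, hn1K⟩ := exists_conj_mem_of_le_sup p P N _ hKp hw
  have ht0 : H.map (MulAut.conj (n1 * w)).toMonoidHom ≤ (P : Subgroup G) := by
    rw [map_conj_le_iff]
    intro h hh
    have := hn1K (w * h * w⁻¹) (by
      rw [Cfsg.Agent.S4088.mem_map_conj]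
      have e : w⁻¹ * (w * h * w⁻¹) * w = h := by group
      rw [e]; exact hh)
    have e : n1 * w * h * (n1 * w)⁻¹ = n1 * (w * h * w⁻¹) * n1⁻¹ := by group
    rw [e]; exact this
  set t0 : G := n1 * w with ht0def
  have hw_eq : w = n1⁻¹ * t0 := by rw [ht0def]; group
  symm
  apply Nat.card_congr
  refine
    { toFun := fun c => ⟨(⟨n1⁻¹ * t0 * c.1⁻¹ * t0⁻¹, ?_⟩, ⟨t0 * c.1, ?_⟩), ?_⟩
      invFun := fun x => ⟨t0⁻¹ * x.1.2.1, ?_, ?_⟩
      left_inv := ?_
      right_inv := ?_ }
  · have h1 : t0 * c.1⁻¹ * t0⁻¹ ∈ N := (inferInstance : N.Normal).conj_mem _ (inv_mem c.2.1) _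
    have := mul_mem (inv_mem hn1) h1
    have e : n1⁻¹ * (t0 * c.1⁻¹ * t0⁻¹) = n1⁻¹ * t0 * c.1⁻¹ * t0⁻¹ := by group
    rwa [e] at this
  · have h1 : H.map (MulAut.conj (t0 * c.1)).toMonoidHom = H.map (MulAut.conj t0).toMonoidHom := by
      rw [Cfsg.Agent.S4088.map_conj_eq_iff]
      have e : t0⁻¹ * (t0 * c.1) = c.1 := by group
      rw [e]
      exact centralizes_imp_mem_normalizer c.2.2
    rw [h1]; exact ht0
  · apply Subtype.ext
    simp only
    rw [hw_eq]
    group
  · obtain ⟨⟨⟨a, ha⟩, ⟨t, ht⟩⟩, hx⟩ := x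
    have hx' : a * t = w := congrArg Subtype.val hx
    show t0⁻¹ * t ∈ N
    have ht_eq : t = a⁻¹ * n1⁻¹ * t0 := by
      have : t = a⁻¹ * (a * t) := by group
      rw [this, hx', hw_eq]; group
    have e : t0⁻¹ * t = t0⁻¹ * (a⁻¹ * n1⁻¹) * t0 := by
      rw [ht_eq]; group
    rw [e]
    have := (inferInstance : N.Normal).conj_mem _ (mul_mem (inv_mem ha) (inv_mem hn1)) t0⁻¹
    simpa using this
  · obtain ⟨⟨⟨a, ha⟩, ⟨t, htT⟩⟩, hx⟩ := x
    have hx' : a * t = w := congrArg Subtype.val hx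
    intro h hh
    show h * (t0⁻¹ * t) * h⁻¹ * (t0⁻¹ * t)⁻¹ = 1
    have ht_eq : t = a⁻¹ * n1⁻¹ * t0 := by
      have : t = a⁻¹ * (a * t) := by group
      rw [this, hx', hw_eq]; group
    set c : G := t0⁻¹ * t with hc
    have hcN : c ∈ N := by
      have e : c = t0⁻¹ * (a⁻¹ * n1⁻¹) * t0 := by
        rw [hc, ht_eq]; group
      rw [e]
      have := (inferInstance : N.Normal).conj_mem _ (mul_mem (inv_mem ha) (inv_mem hn1)) t0⁻¹
      simpa using this
    have h1 := (map_conj_le_iff.mp ht0) h hh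
    have h2 := (map_conj_le_iff.mp htT) h hh
    have hz : t0 * (c * h * c⁻¹ * h⁻¹) * t0⁻¹ ∈ (P : Subgroup G) := by
      have e : t0 * (c * h * c⁻¹ * h⁻¹) * t0⁻¹ = (t * h * t⁻¹) * (t0 * h * t0⁻¹)⁻¹ := by
        rw [hc]; group
      rw [e]
      exact mul_mem h2 (inv_mem h1)
    have hzN : t0 * (c * h * c⁻¹ * h⁻¹) * t0⁻¹ ∈ N := by
      apply (inferInstance : N.Normal).conj_mem
      have h3 : h * c⁻¹ * h⁻¹ ∈ N := (inferInstance : N.Normal).conj_mem _ (inv_mem hcN) _
      have := mul_mem hcN h3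
      have e : c * (h * c⁻¹ * h⁻¹) = c * h * c⁻¹ * h⁻¹ := by group
      rwa [e] at this
    have hz1 : t0 * (c * h * c⁻¹ * h⁻¹) * t0⁻¹ = 1 := by
      have : t0 * (c * h * c⁻¹ * h⁻¹) * t0⁻¹ ∈ (P : Subgroup G) ⊓ N := ⟨hz, hzN⟩
      rw [hPN] at this
      exact (mem_bot).mp this
    have hz2 : c * h * c⁻¹ * h⁻¹ = 1 := by
      have e : c * h * c⁻¹ * h⁻¹ = t0⁻¹ * (t0 * (c * h * c⁻¹ * h⁻¹) * t0⁻¹) * t0 := by group
      rw [e, hz1]; group
    have e : h * c * h⁻¹ * c⁻¹ = (c * h * c⁻¹ * h⁻¹)⁻¹ := by group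
    rw [e, hz2, inv_one]
  · intro c
    apply Subtype.ext
    show t0⁻¹ * (t0 * c.1) = c.1
    group
  · intro x
    obtain ⟨⟨⟨a, ha⟩, ⟨t, htT⟩⟩, hx⟩ := x
    have hx' : a * t = w := congrArg Subtype.val hx
    have ha_eq : a = n1⁻¹ * t0 * t⁻¹ := by
      have : a = (a * t) * t⁻¹ := by group
      rw [this, hx', hw_eq]
    apply Subtype.ext
    apply Prod.ext
    · apply Subtype.ext
      show n1⁻¹ * t0 * (t0⁻¹ * t)⁻¹ * t0⁻¹ = a
      rw [ha_eq]; group
    · apply Subtype.ext
      show t0 * (t0⁻¹ * t) = t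
      group

end coprime

end

section

open Subgroup

section transfer

variable {G : Type*} [Group G] [Finite G] (p : ℕ) [Fact p.Prime]

/-- The factor attached to a step `A ≤ B` of the chain. -/
noncomputable def fac (H A B : Subgroup G) : ℕ :=
  if (A.relIndex B).Coprime p then
    Nat.card {u : G // u ∈ B ∧ ∀ h ∈ H, h * u * h⁻¹ * u⁻¹ ∈ A} / Nat.card A
  else 1

omit [Finite G] in
theorem mk_mem_map_iff (N A : Subgroup G) [N.Normal] (hNA : N ≤ A) (x : G) :
    QuotientGroup.mk' N x ∈ A.map (QuotientGroup.mk' N) ↔ x ∈ A := by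
  rw [← mem_comap, comap_map_eq, QuotientGroup.ker_mk', sup_eq_left.mpr hNA]

omit [Finite G] in
theorem relIndex_map_mk (N A B : Subgroup G) [N.Normal] (hNA : N ≤ A) :
    (A.map (QuotientGroup.mk' N)).relIndex (B.map (QuotientGroup.mk' N)) = A.relIndex B := by
  rw [← relIndex_comap, comap_map_eq, QuotientGroup.ker_mk', sup_eq_left.mpr hNA]

theorem card_map_mk (N A : Subgroup G) [N.Normal] (hNA : N ≤ A) :
    Nat.card A = Nat.card (A.map (QuotientGroup.mk' N)) * Nat.card N := by
  have h := card_preimage (QuotientGroup.mk' N) (QuotientGroup.mk'_surjective N)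
    (fun g' => g' ∈ A.map (QuotientGroup.mk' N))
  rw [QuotientGroup.ker_mk'] at h
  rw [← h]
  apply Nat.card_congr
  apply Equiv.subtypeEquivRight
  intro x
  exact (mk_mem_map_iff N A hNA x).symm

theorem card_cent_map_mk (N H A B : Subgroup G) [N.Normal] (hNA : N ≤ A) (hNB : N ≤ B) :
    Nat.card {u : G // u ∈ B ∧ ∀ h ∈ H, h * u * h⁻¹ * u⁻¹ ∈ A}
      = Nat.card {u : G ⧸ N // u ∈ B.map (QuotientGroup.mk' N) ∧
          ∀ h ∈ H.map (QuotientGroup.mk' N), h * u * h⁻¹ * u⁻¹ ∈ A.map (QuotientGroup.mk' N)}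
        * Nat.card N := by
  have h := card_preimage (QuotientGroup.mk' N) (QuotientGroup.mk'_surjective N)
    (fun u => u ∈ B.map (QuotientGroup.mk' N) ∧
          ∀ h ∈ H.map (QuotientGroup.mk' N), h * u * h⁻¹ * u⁻¹ ∈ A.map (QuotientGroup.mk' N))
  rw [QuotientGroup.ker_mk'] at h
  rw [← h]
  apply Nat.card_congr
  apply Equiv.subtypeEquivRight
  intro x
  rw [mk_mem_map_iff N B hNB x]
  apply and_congr Iff.rfl
  constructor
  · intro hx h' hh'
    obtain ⟨h, hh, rfl⟩ := mem_map.mp hh'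
    have := (mk_mem_map_iff N A hNA _).mpr (hx h hh)
    simpa using this
  · intro hx h hh
    have := hx (QuotientGroup.mk' N h) (mem_map_of_mem _ hh)
    rw [← mk_mem_map_iff N A hNA]
    simpa using this

theorem fac_map_mk (N H A B : Subgroup G) [N.Normal] (hNA : N ≤ A) (hNB : N ≤ B) :
    fac p (H.map (QuotientGroup.mk' N)) (A.map (QuotientGroup.mk' N)) (B.map (QuotientGroup.mk' N))
      = fac p H A B := by
  unfold fac
  rw [relIndex_map_mk N A B hNA, card_cent_map_mk N H A B hNA hNB, card_map_mk N A hNA]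
  have hpos : 0 < Nat.card N := Nat.card_pos
  rw [Nat.mul_div_mul_right _ _ hpos]

end transfer

end

section

open Subgroup

section steps

variable {G : Type*} [Group G] [Finite G] (p : ℕ) [Fact p.Prime]

theorem tcount_step_p (H : Subgroup G) (P : Sylow p G) (N : Subgroup G) [N.Normal]
    (hN : IsPGroup p N) :
    tcount H (P : Subgroup G)
      = tcount (H.map (QuotientGroup.mk' N)) ((P : Subgroup G).map (QuotientGroup.mk' N))
        * Nat.card N := by
  have hsup : (P : Subgroup G) ⊔ N = P := by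
    have h1 : IsPGroup p ((P : Subgroup G) ⊔ N : Subgroup G) := P.2.to_sup_of_normal_right hN
    exact P.3 h1 le_sup_left
  rw [← tcount_sup_normal, hsup]

theorem tcount_step_p' (H : Subgroup G) (hH : IsPGroup p H) (P : Sylow p G) (N : Subgroup G)
    [N.Normal] (hN : (Nat.card N).Coprime p) :
    tcount H (P : Subgroup G)
      = tcount (H.map (QuotientGroup.mk' N)) ((P : Subgroup G).map (QuotientGroup.mk' N))
        * Nat.card {u : G // u ∈ N ∧ ∀ h ∈ H, h * u * h⁻¹ * u⁻¹ = 1} := by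
  have h1 := tcount_coprime p H P N hH hN
  rw [tcount_sup_normal] at h1
  have hpos : 0 < Nat.card N := Nat.card_pos
  apply Nat.eq_of_mul_eq_mul_left hpos
  rw [h1]
  ring

theorem card_sylow_quotient (P : Sylow p G) (N : Subgroup G) [N.Normal]
    (P' : Sylow p (G ⧸ N)) :
    Nat.card (P : Subgroup G) = Nat.card (P' : Subgroup (G ⧸ N)) * p ^ (Nat.card N).factorization p := by
  rw [Sylow.card_eq_multiplicity P, Sylow.card_eq_multiplicity P',
    card_eq_card_quotient_mul_card_subgroup N,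
    Nat.factorization_mul Nat.card_pos.ne' Nat.card_pos.ne', Finsupp.add_apply, pow_add]

end steps

end

section

open Subgroup

section induction

universe u

theorem main (p : ℕ) [Fact p.Prime] : ∀ (n : ℕ) (G : Type u) [Group G] [Finite G]
    (H : Subgroup G) (_ : IsPGroup p H) (P : Sylow p G) (M : Fin (n + 1) → Subgroup G),
    M 0 = ⊥ → M (Fin.last n) = ⊤ → Monotone M → (∀ i, (M i).Normal) →
    (∀ i : Fin n, (∃ m : ℕ, (M i.castSucc).relIndex (M i.succ) = p ^ m) ∨
      ((M i.castSucc).relIndex (M i.succ)).Coprime p) →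
    tcount H (P : Subgroup G)
      = Nat.card (P : Subgroup G) * ∏ i : Fin n, fac p H (M i.castSucc) (M i.succ) := by
  intro n
  induction n with
  | zero =>
    intro G _ _ H hH P M h0 hn _ _ _
    have hbt : (⊥ : Subgroup G) = ⊤ := by
      rw [← h0, ← hn]; rfl
    haveI : Subsingleton G :=
      Subgroup.subsingleton_iff.mp ((subsingleton_iff_bot_eq_top (α := Subgroup G)).mp hbt)
    simp only [Finset.univ_eq_empty, Finset.prod_empty, mul_one]
    have h1 : Nat.card (P : Subgroup G) = 1 := by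
      rw [Nat.card_eq_one_iff_unique]
      exact ⟨inferInstance, ⟨1⟩⟩
    rw [h1]
    unfold tcount
    rw [Nat.card_eq_one_iff_unique]
    refine ⟨inferInstance, ⟨⟨1, ?_⟩⟩⟩
    intro x _
    rw [Subsingleton.elim x 1]
    exact one_mem _
  | succ n ih =>
    intro G _ _ H hH P M h0 hn hmono hnormal hfac
    set N : Subgroup G := M 1 with hNdef
    have hNn : N.Normal := hnormal 1
    have hf : Function.Surjective (QuotientGroup.mk' N) := QuotientGroup.mk'_surjective N
    have hN_le : ∀ i : Fin (n + 1), N ≤ M i.succ := by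
      intro i
      apply hmono
      rw [← Fin.succ_zero_eq_one]
      exact Fin.succ_le_succ_iff.mpr (Fin.zero_le i)
    have h0' : (M (0 : Fin (n + 1)).succ).map (QuotientGroup.mk' N) = ⊥ := by
      rw [Fin.succ_zero_eq_one]
      exact QuotientGroup.map_mk'_self N
    have hn' : (M (Fin.last n).succ).map (QuotientGroup.mk' N) = ⊤ := by
      rw [Fin.succ_last, hn]
      exact map_top_of_surjective _ hf
    have hmono' : Monotone (fun i : Fin (n + 1) => (M i.succ).map (QuotientGroup.mk' N)) := by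
      intro i j hij
      exact map_mono (hmono (Fin.succ_le_succ_iff.mpr hij))
    have hnormal' : ∀ i : Fin (n + 1), ((M i.succ).map (QuotientGroup.mk' N)).Normal :=
      fun i => (hnormal i.succ).map _ hf
    have hfac' : ∀ i : Fin n,
        (∃ m : ℕ, ((M i.castSucc.succ).map (QuotientGroup.mk' N)).relIndex
          ((M i.succ.succ).map (QuotientGroup.mk' N)) = p ^ m) ∨
        (((M i.castSucc.succ).map (QuotientGroup.mk' N)).relIndex
          ((M i.succ.succ).map (QuotientGroup.mk' N))).Coprime p := by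
      intro i
      rw [relIndex_map_mk N _ _ (hN_le i.castSucc), Fin.succ_castSucc]
      exact hfac i.succ
    have ih' := ih (G ⧸ N) (H.map (QuotientGroup.mk' N)) (hH.map _) (P.mapSurjective hf)
      (fun i : Fin (n + 1) => (M i.succ).map (QuotientGroup.mk' N)) h0' hn' hmono' hnormal' hfac'
    have hprod : ∏ i : Fin n, fac p (H.map (QuotientGroup.mk' N))
          ((M i.castSucc.succ).map (QuotientGroup.mk' N)) ((M i.succ.succ).map (QuotientGroup.mk' N))
        = ∏ i : Fin n, fac p H (M i.succ.castSucc) (M i.succ.succ) := by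
      apply Finset.prod_congr rfl
      intro i _
      rw [fac_map_mk p N H _ _ (hN_le i.castSucc) (hN_le i.succ), Fin.succ_castSucc]
    rw [hprod, Sylow.coe_mapSurjective] at ih'
    rw [Fin.prod_univ_succ, Fin.castSucc_zero, Fin.succ_zero_eq_one, h0]
    have hcard := card_sylow_quotient p P N (P.mapSurjective hf)
    rw [Sylow.coe_mapSurjective] at hcard
    by_cases hc : (Nat.card N).Coprime p
    · have hfac0 : fac p H ⊥ N = Nat.card {u : G // u ∈ N ∧ ∀ h ∈ H, h * u * h⁻¹ * u⁻¹ = 1} := by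
        unfold fac
        rw [relIndex_bot_left, if_pos hc, card_bot, Nat.div_one]
        apply Nat.card_congr
        apply Equiv.subtypeEquivRight
        intro u
        simp only [mem_bot]
      have hv : (Nat.card N).factorization p = 0 := by
        apply Nat.factorization_eq_zero_of_not_dvd
        exact ((Nat.Prime.coprime_iff_not_dvd (Fact.out : p.Prime)).mp hc.symm)
      rw [hv, pow_zero, mul_one] at hcard
      rw [hfac0, tcount_step_p' p H hH P N hc, ih', hcard]
      ring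
    · have h00 := hfac 0
      rw [Fin.castSucc_zero, Fin.succ_zero_eq_one, h0, relIndex_bot_left] at h00
      obtain ⟨m, hm⟩ := h00.resolve_right hc
      have hfac0 : fac p H ⊥ N = 1 := by
        unfold fac
        rw [relIndex_bot_left, if_neg hc]
      have hNp : IsPGroup p N := IsPGroup.of_card hm
      have hv : (Nat.card N).factorization p = m := by
        rw [hm, Nat.Prime.factorization_pow (Fact.out : p.Prime), Finsupp.single_eq_same]
      rw [hv, ← hm] at hcard
      rw [hfac0, tcount_step_p p H P N hNp, ih', hcard]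
      ring

end induction

end


/-- Let G be a finite p-solvable group, H a p-subgroup of G and P a Sylow p-subgroup, and fix a chain of normal subgroups 1 = M₀ ≤ M₁ ≤ ⋯ ≤ Mₙ = G of G each of whose factors is a p-group or a p'-group. Then the number of elements g of G such that H is subnormal in the subgroup generated by H and g equals the order of P times the product, over the factors Mᵢ₊₁/Mᵢ of order prime to p, of the order of the centralizer of H in Mᵢ₊₁/Mᵢ (counted as the number of u ∈ Mᵢ₊₁ with [h, u] ∈ Mᵢ for all h ∈ H, divided by the order of Mᵢ). -/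
theorem result {G : Type*} [Group G] [Finite G] (p : ℕ) [Fact p.Prime]
    (hG : Cfsg.IsPSolvable p G) (H : Subgroup G) (hH : IsPGroup p H) (P : Sylow p G)
    (n : ℕ) (M : Fin (n + 1) → Subgroup G) (h0 : M 0 = ⊥) (hn : M (Fin.last n) = ⊤) (hmono : Monotone M)
    (hnormal : ∀ i, (M i).Normal)
    (hfac : ∀ i : Fin n, (∃ m : ℕ, (M i.castSucc).relIndex (M i.succ) = p ^ m) ∨ ((M i.castSucc).relIndex (M i.succ)).Coprime p) :
    Nat.card {g : G // ((H).subgroupOf (H ⊔ Subgroup.zpowers g)).IsSubnormal} =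
      Nat.card (P : Subgroup G) *
        ∏ i : Fin n, (if ((M i.castSucc).relIndex (M i.succ)).Coprime p then
          Nat.card {u : G // u ∈ M i.succ ∧ ∀ h ∈ H, h * u * h⁻¹ * u⁻¹ ∈ M i.castSucc} / Nat.card (M i.castSucc)
          else 1) := by
  rw [subnormalizer_card_eq_tcount p H hH P]
  exact main p n G H hH P M h0 hn hmono hnormal hfac

end Cfsg.Agent.S4090
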