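import Cfsg.Statements.S4091
import Mathlib
import Cfsg.Agent.S4090
-- import your own Cfsg.Agent.* helpers here

set_option autoImplicit false
open Cfsg

namespace Cfsg.Agent.S4091

open scoped Pointwise

section

open scoped Pointwise

section

variable {P : Type*} [Group P] {X : Type*} [MulAction P X]

/-- A `p`-group acting on a finite invariant set of size prime to `p` has a fixed point. -/
theorem exists_fixed_of_pgroup {p : ℕ} [Fact p.Prime] (A : Subgroup P) (hA : IsPGroup p A)
    (Ω : Set X) [Finite Ω] (hΩ : ∀ a ∈ A, ∀ ω ∈ Ω, a • ω ∈ Ω) (hcard : ¬ p ∣ Nat.card Ω) :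
    ∃ ω ∈ Ω, ∀ a ∈ A, a • ω = ω := by
  let S : SubMulAction A X :=
    { carrier := Ω
      smul_mem' := fun a ω hω => hΩ a.1 a.2 ω hω }
  haveI : Finite S := ‹Finite Ω›
  have h := hA.card_modEq_card_fixedPoints S
  by_contra hne
  push_neg at hne
  have hempty : IsEmpty (MulAction.fixedPoints A S) := by
    constructor
    rintro ⟨⟨ω, hω⟩, hfix⟩
    obtain ⟨a, ha, hne'⟩ := hne ω hω
    apply hne'
    have := hfix ⟨a, ha⟩
    exact congrArg Subtype.val this
  have h0 : Nat.card (MulAction.fixedPoints A S) = 0 := Nat.card_of_isEmpty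
  rw [h0] at h
  apply hcard
  have h1 : Nat.card S = Nat.card Ω := rfl
  rw [← h1]
  exact (Nat.modEq_zero_iff_dvd).1 h

end

section

variable {P : Type*} [Group P] {N : Type*} [Group N] [MulDistribMulAction P N]

/-- The subgroup of points of `N` fixed by all elements of `A`. -/
def fixSub (A : Subgroup P) : Subgroup N where
  carrier := {n | ∀ a ∈ A, a • n = n}
  one_mem' := fun a _ => smul_one a
  mul_mem' := fun {x y} hx hy a ha => by rw [smul_mul', hx a ha, hy a ha]
  inv_mem' := fun {x} hx a ha => by rw [smul_inv', hx a ha]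

theorem mem_fixSub {A : Subgroup P} {n : N} : n ∈ (fixSub A : Subgroup N) ↔ ∀ a ∈ A, a • n = n :=
  Iff.rfl

theorem mem_fixSub_zpowers {x : P} {n : N} :
    n ∈ (fixSub (Subgroup.zpowers x) : Subgroup N) ↔ x • n = n := by
  constructor
  · intro h
    exact h x (Subgroup.mem_zpowers x)
  · rintro h a ⟨k, rfl⟩
    have : x ^ k ∈ MulAction.stabilizer P n := Subgroup.zpow_mem _ h k
    exact this

theorem mem_fixSub_top {n : N} : n ∈ (fixSub (⊤ : Subgroup P) : Subgroup N) ↔ ∀ a : P, a • n = n := by
  constructor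
  · intro h a
    exact h a (Subgroup.mem_top a)
  · intro h a _
    exact h a

theorem fixSub_mono {A B : Subgroup P} (h : A ≤ B) : (fixSub B : Subgroup N) ≤ fixSub A :=
  fun _ hn a ha => hn a (h ha)

/-- The action of `P` restricted to an invariant subgroup. -/
@[reducible]
def subAct (H : Subgroup N) (hH : ∀ (a : P), ∀ n ∈ H, a • n ∈ H) : MulDistribMulAction P H where
  smul a n := ⟨a • n.1, hH a n.1 n.2⟩
  one_smul n := Subtype.ext (one_smul P n.1)
  mul_smul a b n := Subtype.ext (mul_smul a b n.1)
  smul_mul a n m := Subtype.ext (smul_mul' a n.1 m.1)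
  smul_one a := Subtype.ext (smul_one a)

/-- The action of `P` induced on the quotient by an invariant normal subgroup. -/
@[reducible]
def quotAct (M : Subgroup N) [M.Normal] (hM : ∀ (a : P), ∀ n ∈ M, a • n ∈ M) :
    MulDistribMulAction P (N ⧸ M) where
  smul a := QuotientGroup.map M M (MulDistribMulAction.toMonoidHom N a) (fun n hn => hM a n hn)
  one_smul n := by
    induction n using QuotientGroup.induction_on with
    | H n =>
      show (((1 : P) • n : N) : N ⧸ M) = (n : N ⧸ M)
      rw [one_smul]
  mul_smul a b n := by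
    induction n using QuotientGroup.induction_on with
    | H n =>
      show (((a * b) • n : N) : N ⧸ M) = ((a • (b • n) : N) : N ⧸ M)
      rw [mul_smul]
  smul_mul a n m := map_mul _ n m
  smul_one a := map_one _

theorem subAct_smul_coe (H : Subgroup N) (hH : ∀ (a : P), ∀ n ∈ H, a • n ∈ H) (a : P) (n : H) :
    ((letI := subAct H hH; a • n : H) : N) = a • (n : N) := rfl

theorem quotAct_smul_mk (M : Subgroup N) [M.Normal] (hM : ∀ (a : P), ∀ n ∈ M, a • n ∈ M) (a : P)
    (n : N) : (letI := quotAct M hM; a • (n : N ⧸ M)) = ((a • n : N) : N ⧸ M) := rfl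

end

end

section

open scoped Pointwise

section

variable {P : Type*} [Group P] {X : Type*} [MulAction P X]

end

section

variable {P : Type*} [Group P] {N : Type*} [Group N] [MulDistribMulAction P N]

end

section

variable {P : Type*} [Group P] {N : Type*} [Group N] [MulDistribMulAction P N]

theorem card_fiber_mk (M : Subgroup N) [M.Normal] (c : N ⧸ M) :
    Nat.card {n : N // (n : N ⧸ M) = c} = Nat.card M := by
  obtain ⟨n0, rfl⟩ := QuotientGroup.mk_surjective c
  symm
  apply Nat.card_congr
  refine ⟨fun m => ⟨n0 * m.1, ?_⟩, fun n => ⟨n0⁻¹ * n.1, ?_⟩, ?_, ?_⟩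
  · rw [eq_comm, QuotientGroup.eq]
    simpa using m.2
  · have := n.2
    rw [eq_comm, QuotientGroup.eq] at this
    exact this
  · intro m
    apply Subtype.ext
    simp
  · intro n
    apply Subtype.ext
    simp

theorem card_fixSub_subAct (A : Subgroup P) (H : Subgroup N) (hH : ∀ (a : P), ∀ n ∈ H, a • n ∈ H) :
    Nat.card (@fixSub P _ H _ (subAct H hH) A) = Nat.card (H ⊓ fixSub A : Subgroup N) := by
  apply Nat.card_congr
  refine ⟨fun n => ⟨n.1.1, n.1.2, ?_⟩, fun n => ⟨⟨n.1, n.2.1⟩, ?_⟩, ?_, ?_⟩
  · intro a ha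
    have := n.2 a ha
    exact congrArg Subtype.val this
  · intro a ha
    apply Subtype.ext
    exact n.2.2 a ha
  · intro n; rfl
  · intro n; rfl

/-- Fixed points are multiplicative along an invariant normal subgroup (coprime action of a
`p`-group). -/
theorem card_fixSub_eq_mul [Finite N] {p : ℕ} [Fact p.Prime] (A : Subgroup P) (hA : IsPGroup p A)
    (M : Subgroup N) [M.Normal] (hM : ∀ (a : P), ∀ n ∈ M, a • n ∈ M) (hcop : ¬ p ∣ Nat.card M) :
    Nat.card (fixSub A : Subgroup N) =
      Nat.card (@fixSub P _ M _ (subAct M hM) A) *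
        Nat.card (@fixSub P _ (N ⧸ M) _ (quotAct M hM) A) := by
  let f : (fixSub A : Subgroup N) →* N ⧸ M := (QuotientGroup.mk' M).comp (Subgroup.subtype _)
  have h1 := Subgroup.card_mul_index f.ker
  rw [Subgroup.index_ker] at h1
  rw [← h1]
  congr 1
  · apply Nat.card_congr
    refine ⟨fun n => ⟨⟨n.1.1, ?_⟩, ?_⟩, fun m => ⟨⟨m.1.1, ?_⟩, ?_⟩, ?_, ?_⟩
    · have := n.2
      rw [MonoidHom.mem_ker] at this
      exact (QuotientGroup.eq_one_iff _).1 this
    · intro a ha
      apply Subtype.ext
      exact n.1.2 a ha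
    · intro a ha
      have := m.2 a ha
      exact congrArg Subtype.val this
    · rw [MonoidHom.mem_ker]
      exact (QuotientGroup.eq_one_iff _).2 m.1.2
    · intro n; rfl
    · intro m; rfl
  · have hr : f.range = @fixSub P _ (N ⧸ M) _ (quotAct M hM) A := by
      ext c
      constructor
      · rintro ⟨n, rfl⟩ a ha
        show ((a • (n : N) : N) : N ⧸ M) = ((n : N) : N ⧸ M)
        rw [n.2 a ha]
      · intro hc
        have hfin : Finite ({n : N | (n : N ⧸ M) = c} : Set N) := Set.toFinite _
        obtain ⟨n, hn, hfix⟩ := exists_fixed_of_pgroup (p := p) A hA {n : N | (n : N ⧸ M) = c}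
          (by
            intro a ha n hn
            have hn' : (n : N ⧸ M) = c := hn
            show ((a • n : N) : N ⧸ M) = c
            have := hc a ha
            rw [← hn'] at this
            rw [← hn']
            exact this)
          (by
            have : Nat.card ({n : N | (n : N ⧸ M) = c} : Set N) = Nat.card M := card_fiber_mk M c
            rw [this]
            exact hcop)
        exact ⟨⟨n, hfix⟩, hn⟩
    rw [hr]

end

end

section

open scoped Pointwise

section

variable {P : Type*} [Group P] {X : Type*} [MulAction P X]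

end

section

variable {P : Type*} [Group P] {N : Type*} [Group N] [MulDistribMulAction P N]

end

section

variable {A : Type*} [Group A] {N : Type*} [Group N] [MulDistribMulAction A N]

theorem exists_fixed_of_pgroup' {X : Type*} [MulAction A X] {p : ℕ} [Fact p.Prime] (hA : IsPGroup p A)
    (Ω : Set X) [Finite Ω] (hΩ : ∀ a : A, ∀ ω ∈ Ω, a • ω ∈ Ω) (hcard : ¬ p ∣ Nat.card Ω) :
    ∃ ω ∈ Ω, ∀ a : A, a • ω = ω := by
  obtain ⟨ω, hω, h⟩ := exists_fixed_of_pgroup (p := p) (⊤ : Subgroup A) (hA.to_subgroup ⊤) Ω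
    (fun a _ => hΩ a) hcard
  exact ⟨ω, hω, fun a => h a (Subgroup.mem_top a)⟩

theorem smul_conj_smul (a : A) (n : N) (H : Subgroup N) :
    a • (MulAut.conj n • H) = MulAut.conj (a • n) • (a • H) := by
  ext x
  simp only [Subgroup.mem_pointwise_smul_iff_inv_smul_mem]
  have : a⁻¹ • ((MulAut.conj (a • n))⁻¹ • x) = (MulAut.conj n)⁻¹ • (a⁻¹ • x) := by
    simp only [MulAut.smul_def, MulAut.conj_inv_apply, smul_mul', smul_inv', inv_smul_smul]
  rw [this]

theorem smul_smul_sylow {q : ℕ} [Fact q.Prime] (a : A) (n : N) (S : Sylow q N) :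
    a • (n • S) = (a • n) • (a • S) := by
  apply Sylow.ext
  rw [Sylow.pointwise_smul_def, Sylow.coe_subgroup_smul, Sylow.coe_subgroup_smul,
    Sylow.pointwise_smul_def, smul_conj_smul]

theorem not_dvd_of_dvd_coprime {p a b : ℕ} (hp : p.Prime) (hab : a ∣ b) (hb : b.Coprime p) : ¬ p ∣ a := by
  intro h
  have := (Nat.Prime.coprime_iff_not_dvd hp).1 hb.symm
  exact this (h.trans hab)

/-- Existence of an invariant Sylow subgroup. -/
theorem exists_invariant_sylow [Finite N] {p : ℕ} [hp : Fact p.Prime] (hA : IsPGroup p A)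
    (hcop : (Nat.card N).Coprime p) (q : ℕ) [Fact q.Prime] :
    ∃ S : Sylow q N, ∀ a : A, a • S = S := by
  have hfin : Finite (Set.univ : Set (Sylow q N)) := Set.toFinite _
  obtain ⟨S, -, hS⟩ := exists_fixed_of_pgroup' (p := p) (X := Sylow q N) hA Set.univ
    (fun _ _ _ => Set.mem_univ _)
    (by
      rw [Nat.card_coe_set_eq, Set.ncard_univ]
      obtain ⟨S0⟩ : Nonempty (Sylow q N) := inferInstance
      have h1 : Nat.card (Sylow q N) ∣ Nat.card N :=
        (S0.card_dvd_index).trans (Subgroup.index_dvd_card _)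
      exact not_dvd_of_dvd_coprime hp.out h1 hcop)
  exact ⟨S, hS⟩

/-- Invariant Sylow subgroups are conjugate under the fixed-point subgroup. -/
theorem exists_conj_of_invariant [Finite N] {p : ℕ} [hp : Fact p.Prime] (hA : IsPGroup p A)
    (hcop : (Nat.card N).Coprime p) {q : ℕ} [Fact q.Prime] (S R : Sylow q N)
    (hS : ∀ a : A, a • S = S) (hR : ∀ a : A, a • R = R) :
    ∃ c ∈ (fixSub (⊤ : Subgroup A) : Subgroup N), c • S = R := by
  have hfin : Finite ({n : N | n • S = R} : Set N) := Set.toFinite _
  obtain ⟨c, hc, hfix⟩ := exists_fixed_of_pgroup' (p := p) (X := N) hA {n : N | n • S = R}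
    (by
      intro a n hn
      have hn' : n • S = R := hn
      show (a • n) • S = R
      have h1 := smul_smul_sylow a n S
      rw [hS a, hn', hR a] at h1
      exact h1.symm)
    (by
      obtain ⟨n0, hn0⟩ := MulAction.exists_smul_eq N S R
      have hcard : Nat.card ({n : N | n • S = R} : Set N) = Nat.card (MulAction.stabilizer N S) := by
        symm
        apply Nat.card_congr
        refine ⟨fun g => ⟨n0 * g.1, ?_⟩, fun n => ⟨n0⁻¹ * n.1, ?_⟩, ?_, ?_⟩
        · show (n0 * g.1) • S = R
          rw [mul_smul, g.2, hn0]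
        · rw [MulAction.mem_stabilizer_iff, mul_smul]
          have : n.1 • S = R := n.2
          rw [this, ← hn0, inv_smul_smul]
        · intro g; apply Subtype.ext; simp
        · intro n; apply Subtype.ext; simp
      rw [hcard]
      exact not_dvd_of_dvd_coprime hp.out (Subgroup.card_subgroup_dvd_card _) hcop)
  exact ⟨c, mem_fixSub_top.2 hfix, hc⟩

end

end

section

open scoped Pointwise

section

variable {P : Type*} [Group P] {X : Type*} [MulAction P X]

end

section

variable {P : Type*} [Group P] {N : Type*} [Group N] [MulDistribMulAction P N]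

end

section

variable {A : Type*} [Group A] {N : Type*} [Group N] [MulDistribMulAction A N]

end

section

variable {A : Type*} [Group A] {N : Type*} [Group N] [MulDistribMulAction A N]

theorem smul_subgroup_eq_of_invariant (U : Subgroup N) (hU : ∀ a : A, ∀ n ∈ U, a • n ∈ U) (a : A) :
    a • U = U := by
  ext x
  rw [Subgroup.mem_pointwise_smul_iff_inv_smul_mem]
  constructor
  · intro h
    have := hU a _ h
    rwa [smul_inv_smul] at this
  · intro h
    exact hU a⁻¹ x h

theorem normalizer_invariant (U : Subgroup N) (hU : ∀ a : A, ∀ n ∈ U, a • n ∈ U) (a : A) (h : N)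
    (hh : h ∈ Subgroup.normalizer (U : Set N)) : a • h ∈ Subgroup.normalizer (U : Set N) := by
  rw [Subgroup.mem_normalizer_iff] at hh ⊢
  intro x
  have key : a⁻¹ • ((a • h) * x * (a • h)⁻¹) = h * (a⁻¹ • x) * h⁻¹ := by
    simp only [smul_mul', smul_inv', inv_smul_smul]
  constructor
  · intro hx
    have h1 : a⁻¹ • x ∈ U := hU a⁻¹ x hx
    have h2 := (hh _).1 h1
    have h3 := hU a _ h2
    rw [← key, smul_inv_smul] at h3
    exact h3
  · intro hx
    have h1 := hU a⁻¹ _ hx
    rw [key] at h1
    have h2 := (hh _).2 h1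
    have h3 := hU a _ h2
    rwa [smul_inv_smul] at h3

/-- An invariant `q`-subgroup lies in an invariant Sylow `q`-subgroup. -/
theorem exists_invariant_sylow_ge [Finite N] {p : ℕ} [hp : Fact p.Prime] (hA : IsPGroup p A)
    (hcop : (Nat.card N).Coprime p) {q : ℕ} [hq : Fact q.Prime] :
    ∀ (d : ℕ) (U : Subgroup N), Nat.card N - Nat.card U = d → IsPGroup q U →
      (∀ a : A, ∀ n ∈ U, a • n ∈ U) → ∃ S : Sylow q N, U ≤ S ∧ ∀ a : A, a • S = S := by
  intro d
  induction d using Nat.strong_induction_on with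
  | _ d ih =>
    intro U hd hU hUinv
    obtain ⟨k, hk⟩ := hU.exists_card_eq
    have hNpos : Nat.card N ≠ 0 := Nat.card_pos.ne'
    have hkle : k ≤ (Nat.card N).factorization q := by
      rw [← Nat.Prime.pow_dvd_iff_le_factorization hq.out hNpos, ← hk]
      exact Subgroup.card_subgroup_dvd_card U
    rcases Nat.lt_or_ge k ((Nat.card N).factorization q) with hlt | hge
    · -- not Sylow: enlarge
      have hdvd : q ^ (k + 1) ∣ Nat.card N :=
        (Nat.Prime.pow_dvd_iff_le_factorization hq.out hNpos).2 hlt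
      have hq1 := Sylow.prime_dvd_card_quotient_normalizer hdvd hk
      set H := Subgroup.normalizer (U : Set N) with hH
      have hHinv : ∀ (a : A), ∀ n ∈ H, a • n ∈ H := fun a n hn => normalizer_invariant U hUinv a n hn
      letI : MulDistribMulAction A H := subAct H hHinv
      have hcopH : (Nat.card H).Coprime p :=
        Nat.Coprime.coprime_dvd_left (Subgroup.card_subgroup_dvd_card H) hcop
      obtain ⟨V, hV⟩ := exists_invariant_sylow (A := A) (N := H) hA hcopH q
      have hUH : U ≤ H := Subgroup.le_normalizer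
      have hKcard : Nat.card (U.subgroupOf H) = q ^ k := by
        rw [← hk]
        exact Nat.card_congr (Subgroup.subgroupOfEquivOfLe hUH).toEquiv
      have hHcard : q ^ (k + 1) ∣ Nat.card H := by
        have h1 := Subgroup.card_eq_card_quotient_mul_card_subgroup (U.subgroupOf H)
        rw [h1, hKcard, pow_succ, mul_comm]
        exact Nat.mul_dvd_mul hq1 (dvd_refl _)
      have hVcard : q ^ (k + 1) ≤ Nat.card (V : Subgroup H) := by
        rw [V.card_eq_multiplicity]
        apply Nat.pow_le_pow_right hq.out.pos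
        exact (Nat.Prime.pow_dvd_iff_le_factorization hq.out Nat.card_pos.ne').1 hHcard
      have hKV : U.subgroupOf H ≤ (V : Subgroup H) := by
        have : (U.subgroupOf H).Normal := Subgroup.normal_in_normalizer
        have hK : IsPGroup q (U.subgroupOf H) := hU.comap_subtype
        have hsup : IsPGroup q ((V : Subgroup H) ⊔ U.subgroupOf H : Subgroup H) :=
          IsPGroup.to_sup_of_normal_right V.2 hK
        have := V.is_maximal' hsup le_sup_left
        rw [← this]
        exact le_sup_right
      set V' : Subgroup N := (V : Subgroup H).map H.subtype with hV'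
      have hV'card : Nat.card V' = Nat.card (V : Subgroup H) :=
        Subgroup.card_map_of_injective (Subgroup.subtype_injective H)
      have hUV' : U ≤ V' := by
        intro u hu
        exact ⟨⟨u, hUH hu⟩, hKV (Subgroup.mem_subgroupOf.2 hu), rfl⟩
      have hV'p : IsPGroup q V' := V.2.map _
      have hV'inv : ∀ a : A, ∀ n ∈ V', a • n ∈ V' := by
        rintro a n ⟨v, hv, rfl⟩
        refine ⟨a • v, ?_, rfl⟩
        have h1 : a • v ∈ a • (V : Subgroup H) := Subgroup.smul_mem_pointwise_smul v a _ hv
        have h2 : a • (V : Subgroup H) = ((a • V : Sylow q H) : Subgroup H) :=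
          (Sylow.pointwise_smul_def).symm
        rw [h2, hV a] at h1
        exact h1
      have hlt' : Nat.card N - Nat.card V' < d := by
        have h1 : Nat.card V' ≤ Nat.card N := Subgroup.card_le_card_group V'
        have h2 : Nat.card U < Nat.card V' := by
          rw [hk, hV'card]
          exact lt_of_lt_of_le (Nat.pow_lt_pow_right hq.out.one_lt (Nat.lt_succ_self k)) hVcard
        have h3 : Nat.card U ≤ Nat.card N := Subgroup.card_le_card_group U
        omega
      obtain ⟨S, hS1, hS2⟩ := ih _ hlt' V' rfl hV'p hV'inv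
      exact ⟨S, hUV'.trans hS1, hS2⟩
    · -- U is Sylow
      have hk' : k = (Nat.card N).factorization q := le_antisymm hkle hge
      refine ⟨Sylow.ofCard U (by rw [hk, hk']), le_refl _, ?_⟩
      intro a
      apply Sylow.ext
      rw [Sylow.pointwise_smul_def]
      exact smul_subgroup_eq_of_invariant U hUinv a

theorem mem_smul_sylow_iff' {q : ℕ} [Fact q.Prime] (S : Sylow q N) (h x : N) :
    x ∈ ((h • S : Sylow q N) : Subgroup N) ↔ h⁻¹ * x * h ∈ (S : Subgroup N) := by
  rw [Sylow.coe_subgroup_smul, Subgroup.mem_pointwise_smul_iff_inv_smul_mem, MulAut.smul_def,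
    ← map_inv, MulAut.conj_apply, inv_inv]

/-- The fixed points of an invariant Sylow subgroup form a Sylow subgroup of the fixed points. -/
theorem card_inf_fixSub_sylow [Finite N] {p : ℕ} [hp : Fact p.Prime] (hA : IsPGroup p A)
    (hcop : (Nat.card N).Coprime p) {q : ℕ} [hq : Fact q.Prime] (S : Sylow q N)
    (hS : ∀ a : A, a • S = S) :
    Nat.card ((S : Subgroup N) ⊓ fixSub (⊤ : Subgroup A) : Subgroup N) =
      q ^ (Nat.card (fixSub (⊤ : Subgroup A) : Subgroup N)).factorization q := by
  set C : Subgroup N := fixSub (⊤ : Subgroup A) with hC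
  have hSC : IsPGroup q ((S : Subgroup N) ⊓ C : Subgroup N) := S.2.to_le inf_le_left
  obtain ⟨j, hj⟩ := hSC.exists_card_eq
  have hCpos : Nat.card C ≠ 0 := Nat.card_pos.ne'
  have hjle : j ≤ (Nat.card C).factorization q := by
    rw [← Nat.Prime.pow_dvd_iff_le_factorization hq.out hCpos, ← hj]
    exact Subgroup.card_dvd_of_le inf_le_right
  obtain ⟨T⟩ : Nonempty (Sylow q C) := inferInstance
  set T' : Subgroup N := (T : Subgroup C).map C.subtype with hT'
  have hT'card : Nat.card T' = q ^ (Nat.card C).factorization q := by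
    rw [hT', Subgroup.card_map_of_injective (Subgroup.subtype_injective C), T.card_eq_multiplicity]
  have hT'C : T' ≤ C := by
    rintro t ⟨c, -, rfl⟩
    exact c.2
  have hT'inv : ∀ a : A, ∀ n ∈ T', a • n ∈ T' := by
    intro a n hn
    have : a • n = n := mem_fixSub_top.1 (hT'C hn) a
    rw [this]
    exact hn
  obtain ⟨R, hR1, hR2⟩ := exists_invariant_sylow_ge hA hcop _ T' rfl (T.2.map _) hT'inv
  obtain ⟨c, hcC, hc⟩ := exists_conj_of_invariant hA hcop S R hS hR2
  have hle : Nat.card T' ≤ Nat.card ((S : Subgroup N) ⊓ C : Subgroup N) := by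
    apply Nat.card_le_card_of_injective
      (fun t : T' => (⟨c⁻¹ * t.1 * c, Subgroup.mem_inf.2 ⟨by
          have h1 : t.1 ∈ (R : Subgroup N) := hR1 t.2
          rw [← hc, mem_smul_sylow_iff'] at h1
          exact h1, C.mul_mem (C.mul_mem (C.inv_mem hcC) (hT'C t.2)) hcC⟩⟩ :
            ((S : Subgroup N) ⊓ C : Subgroup N)))
    intro t1 t2 h
    have h1 : c⁻¹ * t1.1 * c = c⁻¹ * t2.1 * c := congrArg Subtype.val h
    apply Subtype.ext
    have h2 := mul_right_cancel h1
    exact mul_left_cancel h2
  rw [hT'card, hj] at hle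
  have : (Nat.card C).factorization q ≤ j := (Nat.pow_le_pow_iff_right hq.out.one_lt).1 hle
  rw [hj, le_antisymm hjle this]

end

section

variable {P : Type*} [Group P] {N : Type*} [Group N] [MulDistribMulAction P N]

theorem fixSub_top_subtype (A : Subgroup P) :
    (fixSub (⊤ : Subgroup A) : Subgroup N) = fixSub A := by
  ext n
  rw [mem_fixSub_top, mem_fixSub]
  constructor
  · intro h a ha
    exact h ⟨a, ha⟩
  · intro h a
    exact h a.1 a.2

theorem card_inf_fixSub_sylow_sub [Finite N] {p : ℕ} [hp : Fact p.Prime] (A : Subgroup P)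
    (hA : IsPGroup p A) (hcop : (Nat.card N).Coprime p) {q : ℕ} [hq : Fact q.Prime] (S : Sylow q N)
    (hS : ∀ a ∈ A, a • S = S) :
    Nat.card ((S : Subgroup N) ⊓ fixSub A : Subgroup N) =
      q ^ (Nat.card (fixSub A : Subgroup N)).factorization q := by
  have h := card_inf_fixSub_sylow (A := A) (N := N) hA hcop S (fun a => hS a.1 a.2)
  rw [fixSub_top_subtype] at h
  exact h

end

end

section

open scoped Pointwise

section

variable {P : Type*} [Group P] {X : Type*} [MulAction P X]

end

section

variable {P : Type*} [Group P] {N : Type*} [Group N] [MulDistribMulAction P N]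

end

section

variable {A : Type*} [Group A] {N : Type*} [Group N] [MulDistribMulAction A N]

end

section

variable {P : Type*} [Group P] {N : Type*} [Group N] [MulDistribMulAction P N]

end

section arith

theorem prod_primeFactors_pow_factorization {m n : ℕ} (hmn : m ∣ n) (hn : n ≠ 0) :
    ∏ q ∈ n.primeFactors, q ^ m.factorization q = m := by
  have hm : m ≠ 0 := fun h => hn (by rw [h] at hmn; exact zero_dvd_iff.1 hmn)
  have h1 := Nat.factorization_prod_pow_eq_self hm
  rw [Finsupp.prod, Nat.support_factorization] at h1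
  rw [← Finset.prod_subset (Nat.primeFactors_mono hmn hn)]
  · exact h1
  · intro q _ hq
    have : m.factorization q = 0 := by
      rw [← Finsupp.notMem_support_iff, Nat.support_factorization]
      exact hq
    rw [this, pow_zero]

theorem ineq_mul {ι : Type*} (s : Finset ι) (a b c : ι → ℕ) (n m k f g h p e e' : ℕ)
    (habc : ∀ x ∈ s, a x = b x * c x) (hn : n = m * k) (hf : f = g * h)
    (h1 : (∏ x ∈ s, b x) ^ p ≤ m ^ e * g ^ e') (h2 : (∏ x ∈ s, c x) ^ p ≤ k ^ e * h ^ e') :
    (∏ x ∈ s, a x) ^ p ≤ n ^ e * f ^ e' := by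
  rw [Finset.prod_congr rfl habc, Finset.prod_mul_distrib, mul_pow, hn, hf, mul_pow, mul_pow]
  calc (∏ x ∈ s, b x) ^ p * (∏ x ∈ s, c x) ^ p ≤ (m ^ e * g ^ e') * (k ^ e * h ^ e') :=
        Nat.mul_le_mul h1 h2
    _ = m ^ e * k ^ e * (g ^ e' * h ^ e') := by ring

theorem ineq_prod {ι κ : Type*} (s : Finset ι) (Q : Finset κ) (a : ι → ℕ) (b : κ → ι → ℕ)
    (m g : κ → ℕ) (n f p e e' : ℕ)
    (hab : ∀ x ∈ s, a x = ∏ q ∈ Q, b q x) (hn : n = ∏ q ∈ Q, m q) (hf : f = ∏ q ∈ Q, g q)
    (h1 : ∀ q ∈ Q, (∏ x ∈ s, b q x) ^ p ≤ m q ^ e * g q ^ e') :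
    (∏ x ∈ s, a x) ^ p ≤ n ^ e * f ^ e' := by
  rw [Finset.prod_congr rfl hab, Finset.prod_comm, ← Finset.prod_pow, hn, hf, ← Finset.prod_pow,
    ← Finset.prod_pow, ← Finset.prod_mul_distrib]
  exact Finset.prod_le_prod' h1

end arith

section

variable {P : Type*} [Group P] [Fintype P] {N : Type*} [Group N] [MulDistribMulAction P N]

/-- The per-factor inequality. -/
def Ineq (p : ℕ) (P : Type*) [Group P] [Fintype P] (N : Type*) [Group N] [MulDistribMulAction P N] :
    Prop :=
  (∏ x : P, Nat.card (fixSub (Subgroup.zpowers x) : Subgroup N)) ^ p ≤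
    Nat.card N ^ Fintype.card P *
      Nat.card (fixSub (⊤ : Subgroup P) : Subgroup N) ^ ((p - 1) * Fintype.card P)

/-- Case A: an invariant normal subgroup. -/
theorem ineq_of_normal [Finite N] {p : ℕ} [Fact p.Prime] (hP : IsPGroup p P)
    (hcop : (Nat.card N).Coprime p) (M : Subgroup N) [M.Normal]
    (hM : ∀ (a : P), ∀ n ∈ M, a • n ∈ M)
    (h1 : @Ineq p P _ _ M _ (subAct M hM)) (h2 : @Ineq p P _ _ (N ⧸ M) _ (quotAct M hM)) :
    Ineq p P N := by
  have hp : p.Prime := Fact.out
  have hMcop : ¬ p ∣ Nat.card M :=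
    not_dvd_of_dvd_coprime hp (Subgroup.card_subgroup_dvd_card M) hcop
  unfold Ineq at h1 h2 ⊢
  refine ineq_mul Finset.univ _ _ _ _ _ _ _ _ _ p _ _ ?_ ?_ ?_ h1 h2
  · intro x _
    exact card_fixSub_eq_mul (Subgroup.zpowers x) (hP.to_subgroup _) M hM hMcop
  · rw [mul_comm]; exact Subgroup.card_eq_card_quotient_mul_card_subgroup M
  · exact card_fixSub_eq_mul ⊤ (hP.to_subgroup _) M hM hMcop

/-- Case B2: reduction to invariant Sylow subgroups. -/
theorem ineq_of_sylow [Finite N] {p : ℕ} [Fact p.Prime] (hP : IsPGroup p P)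
    (hcop : (Nat.card N).Coprime p) (T : ℕ → Subgroup N)
    (hT : ∀ q : ℕ, q.Prime → ∃ S : Sylow q N, (S : Subgroup N) = T q ∧ ∀ a : P, a • S = S)
    (hTinv : ∀ q : ℕ, ∀ (a : P), ∀ n ∈ T q, a • n ∈ T q)
    (h1 : ∀ q ∈ (Nat.card N).primeFactors, @Ineq p P _ _ (T q) _ (subAct (T q) (hTinv q))) :
    Ineq p P N := by
  have hNpos : Nat.card N ≠ 0 := Nat.card_pos.ne'
  have key : ∀ A : Subgroup P, Nat.card (fixSub A : Subgroup N) =
      ∏ q ∈ (Nat.card N).primeFactors, Nat.card (@fixSub P _ (T q) _ (subAct (T q) (hTinv q)) A) := by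
    intro A
    rw [← prod_primeFactors_pow_factorization (Subgroup.card_subgroup_dvd_card (fixSub A : Subgroup N))
      hNpos]
    apply Finset.prod_congr rfl
    intro q hq
    have hqp : q.Prime := Nat.prime_of_mem_primeFactors hq
    haveI : Fact q.Prime := ⟨hqp⟩
    obtain ⟨S, hS1, hS2⟩ := hT q hqp
    rw [card_fixSub_subAct, ← hS1]
    exact (card_inf_fixSub_sylow_sub A (hP.to_subgroup A) hcop S (fun a _ => hS2 a)).symm
  unfold Ineq at h1 ⊢
  refine ineq_prod Finset.univ (Nat.card N).primeFactors _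
    (fun q x => Nat.card (@fixSub P _ (T q) _ (subAct (T q) (hTinv q)) (Subgroup.zpowers x)))
    (fun q => Nat.card (T q))
    (fun q => Nat.card (@fixSub P _ (T q) _ (subAct (T q) (hTinv q)) ⊤)) _ _ p _ _ ?_ ?_ ?_ h1
  · intro x _
    exact key _
  · refine (prod_primeFactors_pow_factorization (dvd_refl (Nat.card N)) hNpos).symm.trans
      (Finset.prod_congr rfl ?_)
    intro q hq
    have hqp : q.Prime := Nat.prime_of_mem_primeFactors hq
    haveI : Fact q.Prime := ⟨hqp⟩
    obtain ⟨S, hS1, -⟩ := hT q hqp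
    rw [← hS1, S.card_eq_multiplicity]
  · exact key _

end

end

section

open scoped Pointwise

section direct

variable {N : Type*} [CommGroup N]

theorem norm_eq_one (ρ : MulAut N) (p : ℕ) (hρp : ρ ^ p = 1) (hfix : ∀ n : N, ρ n = n → n = 1)
    (n : N) : ∏ k ∈ Finset.range p, (ρ ^ k) n = 1 := by
  apply hfix
  rw [map_prod]
  have h1 : ∀ k, ρ ((ρ ^ k) n) = (ρ ^ (k + 1)) n := fun k => by rw [pow_succ']; rfl
  simp_rw [h1]
  have h2 := Finset.prod_range_succ (fun k => (ρ ^ k) n) p
  have h3 := Finset.prod_range_succ' (fun k => (ρ ^ k) n) p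
  rw [h2] at h3
  simp only [hρp, pow_zero, MulAut.one_apply] at h3
  exact (mul_right_cancel h3).symm

theorem pow_apply_eq_of_apply_eq (ρ : MulAut N) (n : N) (h : ρ n = n) (k : ℕ) : (ρ ^ k) n = n := by
  induction k with
  | zero => simp
  | succ k ih => rw [pow_succ, MulAut.mul_apply, h, ih]

theorem eq_one_of_prod_eq_one [Finite N] (σ τ : MulAut N) (p : ℕ) [hp : Fact p.Prime]
    (hcomm : Commute σ τ) (hσp : σ ^ p = 1)
    (hfix : ∀ m : ℕ, ¬ p ∣ m → ∀ n : N, (σ ^ m) n = n → n = 1)
    (hcop : (Nat.card N).Coprime p)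
    (d : ℕ → N) (hd : ∀ j < p, (τ * σ ^ j) (d j) = d j) (hprod : ∏ j ∈ Finset.range p, d j = 1)
    (i : ℕ) (hi : i < p) : d i = 1 := by
  -- the key identity
  have key : ∀ j < p, ∀ k : ℕ, (σ ^ (i * k) * τ ^ k) (d j) = (σ ^ ((i + (p - j)) * k)) (d j) := by
    intro j hj k
    have h1 : (τ ^ k * σ ^ (j * k)) (d j) = d j := by
      have h2 : (τ * σ ^ j) ^ k = τ ^ k * σ ^ (j * k) := by
        rw [(hcomm.symm.pow_right j).mul_pow, ← pow_mul]
      rw [← h2]
      exact pow_apply_eq_of_apply_eq _ _ (hd j hj) k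
    have h3 : σ ^ (i * k) * τ ^ k = σ ^ ((i + (p - j)) * k) * (τ ^ k * σ ^ (j * k)) := by
      have hc : Commute (τ ^ k) (σ ^ (j * k)) := (hcomm.symm.pow_pow k (j * k))
      rw [hc.eq, ← mul_assoc, ← pow_add]
      have : (i + (p - j)) * k + j * k = i * k + p * k := by
        have : p - j + j = p := Nat.sub_add_cancel hj.le
        calc (i + (p - j)) * k + j * k = (i + (p - j + j)) * k := by ring
          _ = i * k + p * k := by rw [this]; ring
      rw [this, pow_add, pow_mul σ p k, hσp, one_pow, mul_one]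
    rw [h3, MulAut.mul_apply, h1]
  -- define Ψ
  have hΨ : ∀ j < p, ∏ k ∈ Finset.range p, (σ ^ (i * k) * τ ^ k) (d j) =
      if j = i then (d i) ^ p else 1 := by
    intro j hj
    rw [Finset.prod_congr rfl (fun k _ => key j hj k)]
    split_ifs with hji
    · subst hji
      have : ∀ k ∈ Finset.range p, (σ ^ ((j + (p - j)) * k)) (d j) = d j := by
        intro k _
        have : j + (p - j) = p := by omega
        rw [this, pow_mul, hσp, one_pow, MulAut.one_apply]
      rw [Finset.prod_congr rfl this, Finset.prod_const, Finset.card_range]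
    · have hm : ¬ p ∣ (i + (p - j)) := by
        rintro ⟨c, hc⟩
        have hc1 : c = 1 := by
          rcases c with _ | _ | c
          · omega
          · rfl
          · exfalso
            have : p * (c + 1 + 1) ≥ 2 * p := by nlinarith
            omega
        subst hc1
        omega
      have hn := norm_eq_one (σ ^ (i + (p - j))) p (by rw [← pow_mul, mul_comm, pow_mul, hσp, one_pow])
        (hfix _ hm) (d j)
      rw [← hn]
      apply Finset.prod_congr rfl
      intro k _
      rw [pow_mul]
  have h1 : ∏ k ∈ Finset.range p, (σ ^ (i * k) * τ ^ k) (∏ j ∈ Finset.range p, d j) =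
      ∏ j ∈ Finset.range p, ∏ k ∈ Finset.range p, (σ ^ (i * k) * τ ^ k) (d j) := by
    rw [Finset.prod_comm]
    apply Finset.prod_congr rfl
    intro k _
    rw [map_prod]
  rw [hprod] at h1
  simp only [map_one, Finset.prod_const_one] at h1
  rw [Finset.prod_congr rfl (fun j hj => hΨ j (Finset.mem_range.1 hj))] at h1
  rw [Finset.prod_ite_eq' (Finset.range p) i, if_pos (Finset.mem_range.2 hi)] at h1
  -- (d i)^p = 1 and coprime
  have hord : orderOf (d i) ∣ p := orderOf_dvd_of_pow_eq_one h1.symm
  have hord2 : orderOf (d i) ∣ Nat.card N := orderOf_dvd_natCard (d i)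
  have : orderOf (d i) = 1 := Nat.eq_one_of_dvd_coprimes hcop hord2 hord
  exact orderOf_eq_one_iff.1 this

theorem prod_card_le [Finite N] (σ τ : MulAut N) (p : ℕ) [hp : Fact p.Prime]
    (hcomm : Commute σ τ) (hσp : σ ^ p = 1)
    (hfix : ∀ m : ℕ, ¬ p ∣ m → ∀ n : N, (σ ^ m) n = n → n = 1)
    (hcop : (Nat.card N).Coprime p) :
    ∏ j ∈ Finset.range p, Nat.card {n : N // (τ * σ ^ j) n = n} ≤ Nat.card N := by
  rw [← Fin.prod_univ_eq_prod_range (fun j => Nat.card {n : N // (τ * σ ^ j) n = n}) p, ← Nat.card_pi]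
  apply Nat.card_le_card_of_injective
    (fun t : (∀ j : Fin p, {n : N // (τ * σ ^ (j : ℕ)) n = n}) => ∏ j : Fin p, (t j).1)
  intro t t' h
  have h' : ∏ j : Fin p, (t j).1 = ∏ j : Fin p, (t' j).1 := h
  set d : ℕ → N := fun j => if hj : j < p then (t ⟨j, hj⟩).1 / (t' ⟨j, hj⟩).1 else 1 with hd
  have hd1 : ∀ j < p, (τ * σ ^ j) (d j) = d j := by
    intro j hj
    simp only [hd, dif_pos hj]
    rw [map_div, (t ⟨j, hj⟩).2, (t' ⟨j, hj⟩).2]
  have hd2 : ∏ j ∈ Finset.range p, d j = 1 := by
    rw [← Fin.prod_univ_eq_prod_range d p]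
    have : ∀ j : Fin p, d j = (t j).1 / (t' j).1 := by
      intro j
      simp only [hd, dif_pos j.2]
    rw [Finset.prod_congr rfl (fun j _ => this j), Finset.prod_div_distrib, h', div_self']
  funext j
  apply Subtype.ext
  have := eq_one_of_prod_eq_one σ τ p hcomm hσp hfix hcop d hd1 hd2 j j.2
  simp only [hd, dif_pos j.2] at this
  exact div_eq_one.1 this

end direct

end

section

open scoped Pointwise

section

variable {P : Type*} [Group P] {X : Type*} [MulAction P X]

end

section

variable {P : Type*} [Group P] {N : Type*} [Group N] [MulDistribMulAction P N]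

end

section

variable {A : Type*} [Group A] {N : Type*} [Group N] [MulDistribMulAction A N]

end

section

variable {P : Type*} [Group P] {N : Type*} [Group N] [MulDistribMulAction P N]

end

section

variable {P : Type*} [Group P] [Fintype P] {N : Type*} [Group N] [MulDistribMulAction P N]

end

section direct

variable {N : Type*} [CommGroup N]

end direct

section

variable {P : Type*} [Group P] [Fintype P] {N : Type*} [Group N] [MulDistribMulAction P N]

theorem ineq_of_trivial [Finite N] {p : ℕ} [hp : Fact p.Prime] (htriv : ∀ (x : P) (n : N), x • n = n) :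
    Ineq p P N := by
  have h1 : ∀ A : Subgroup P, (fixSub A : Subgroup N) = ⊤ := by
    intro A
    rw [eq_top_iff]
    intro n _ a _
    exact htriv a n
  unfold Ineq
  simp only [h1, Subgroup.card_top, Finset.prod_const, Finset.card_univ]
  rw [← pow_mul, ← pow_add]
  apply Nat.pow_le_pow_right Nat.card_pos
  have : 1 ≤ p := hp.out.one_lt.le
  have h2 : p = 1 + (p - 1) := by omega
  calc Fintype.card P * p = Fintype.card P * (1 + (p - 1)) := by rw [← h2]
    _ = Fintype.card P + (p - 1) * Fintype.card P := by ring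
    _ ≤ _ := le_refl _

/-- Case B1: an abelian group with no proper invariant subgroups. -/
theorem ineq_of_abelian_simple [Finite N] {p : ℕ} [hp : Fact p.Prime] (hP : IsPGroup p P)
    (hcop : (Nat.card N).Coprime p) (hcomm : ∀ a b : N, a * b = b * a)
    (hsimple : ∀ M : Subgroup N, (∀ a : P, ∀ n ∈ M, a • n ∈ M) → M = ⊥ ∨ M = ⊤) : Ineq p P N := by
  by_cases htriv : ∀ (x : P) (n : N), x • n = n
  · exact ineq_of_trivial htriv
  push_neg at htriv
  obtain ⟨x0, n0, hx0⟩ := htriv
  letI : CommGroup N := { (inferInstance : Group N) with mul_comm := hcomm }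
  set φ : P →* MulAut N := MulDistribMulAction.toMulAut P N with hφ
  have hφapp : ∀ (g : P) (n : N), φ g n = g • n := fun g n => rfl
  have hR : IsPGroup p φ.range := hP.of_surjective φ.rangeRestrict φ.rangeRestrict_surjective
  haveI : Finite φ.range := Finite.of_surjective φ.rangeRestrict φ.rangeRestrict_surjective
  haveI : Nontrivial φ.range := by
    refine ⟨⟨⟨φ x0, x0, rfl⟩, 1, ?_⟩⟩
    intro h
    have h1 : φ x0 = 1 := congrArg Subtype.val h
    apply hx0
    rw [← hφapp, h1]
    rfl
  haveI := hR.center_nontrivial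
  have hZ : IsPGroup p (Subgroup.center φ.range) := hR.to_subgroup _
  obtain ⟨k, hk⟩ := hZ.exists_card_eq
  have hk0 : k ≠ 0 := by
    intro h
    rw [h, pow_zero] at hk
    have := Finite.one_lt_card (α := Subgroup.center φ.range)
    omega
  have hdvd : p ∣ Nat.card (Subgroup.center φ.range) := by
    rw [hk]; exact dvd_pow_self p hk0
  obtain ⟨c, hc⟩ := exists_prime_orderOf_dvd_card' p hdvd
  set σ : MulAut N := ((c : φ.range) : MulAut N) with hσ
  have hσord : orderOf σ = p := by
    rw [hσ, Subgroup.orderOf_coe, Subgroup.orderOf_coe]; exact hc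
  obtain ⟨z, hz⟩ : ∃ z : P, φ z = σ := (c : φ.range).2
  have hσcomm : ∀ y : P, Commute σ (φ y) := by
    intro y
    have h1 := Subgroup.mem_center_iff.1 c.2 ⟨φ y, y, rfl⟩
    have h2 : φ y * σ = σ * φ y := congrArg Subtype.val h1
    exact h2.symm
  have hσp : σ ^ p = 1 := by rw [← hσord]; exact pow_orderOf_eq_one σ
  have hfix : ∀ m : ℕ, ¬ p ∣ m → ∀ n : N, (σ ^ m) n = n → n = 1 := by
    intro m hm n hn
    let M : Subgroup N := fixSub (Subgroup.zpowers (z ^ m))
    have hMmem : ∀ n : N, n ∈ M ↔ (σ ^ m) n = n := by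
      intro n
      rw [mem_fixSub_zpowers, ← hφapp, map_pow, hz]
    have hMinv : ∀ a : P, ∀ n ∈ M, a • n ∈ M := by
      intro a n hn
      rw [hMmem] at hn ⊢
      rw [← hφapp, ← MulAut.mul_apply, ((hσcomm a).pow_left m).eq, MulAut.mul_apply, hn]
    rcases hsimple M hMinv with h | h
    · have : n ∈ M := (hMmem n).2 hn
      rw [h] at this
      exact Subgroup.mem_bot.1 this
    · exfalso
      apply hm
      rw [← hσord]
      apply orderOf_dvd_of_pow_eq_one
      ext n
      have : n ∈ M := by rw [h]; exact Subgroup.mem_top n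
      exact (hMmem n).1 this
  have hx : ∀ x : P, ∏ j ∈ Finset.range p,
      Nat.card (fixSub (Subgroup.zpowers (x * z ^ j)) : Subgroup N) ≤ Nat.card N := by
    intro x
    have h1 := prod_card_le σ (φ x) p (hσcomm x) hσp hfix hcop
    refine le_trans (le_of_eq ?_) h1
    apply Finset.prod_congr rfl
    intro j _
    apply Nat.card_congr
    apply Equiv.subtypeEquivRight
    intro n
    rw [mem_fixSub_zpowers, ← hφapp, map_mul, map_pow, hz]
  unfold Ineq
  have h2 : (∏ x : P, Nat.card (fixSub (Subgroup.zpowers x) : Subgroup N)) ^ p =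
      ∏ x : P, ∏ j ∈ Finset.range p, Nat.card (fixSub (Subgroup.zpowers (x * z ^ j)) : Subgroup N) := by
    rw [Finset.prod_comm]
    have : ∀ j ∈ Finset.range p, ∏ x : P, Nat.card (fixSub (Subgroup.zpowers (x * z ^ j)) : Subgroup N) =
        ∏ x : P, Nat.card (fixSub (Subgroup.zpowers x) : Subgroup N) := by
      intro j _
      exact Equiv.prod_comp (Equiv.mulRight (z ^ j))
        (fun x => Nat.card (fixSub (Subgroup.zpowers x) : Subgroup N))
    rw [Finset.prod_congr rfl this, Finset.prod_const, Finset.card_range]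
  rw [h2]
  calc ∏ x : P, ∏ j ∈ Finset.range p, Nat.card (fixSub (Subgroup.zpowers (x * z ^ j)) : Subgroup N)
      ≤ ∏ _x : P, Nat.card N := Finset.prod_le_prod' (fun x _ => hx x)
    _ = Nat.card N ^ Fintype.card P := by rw [Finset.prod_const, Finset.card_univ]
    _ ≤ _ := Nat.le_mul_of_pos_right _ (Nat.pow_pos Nat.card_pos)

end

end

section

open scoped Pointwise

section

variable {P : Type*} [Group P] {X : Type*} [MulAction P X]

end

section

variable {P : Type*} [Group P] {N : Type*} [Group N] [MulDistribMulAction P N]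

end

section

variable {A : Type*} [Group A] {N : Type*} [Group N] [MulDistribMulAction A N]

end

section

variable {P : Type*} [Group P] {N : Type*} [Group N] [MulDistribMulAction P N]

end

section

variable {P : Type*} [Group P] [Fintype P] {N : Type*} [Group N] [MulDistribMulAction P N]

end

section

variable {P : Type*} [Group P] [Fintype P] {N : Type*} [Group N] [MulDistribMulAction P N]

end

section

universe u

variable {P : Type*} [Group P] [Fintype P]

theorem center_invariant {N : Type*} [Group N] [MulDistribMulAction P N] (a : P) (z : N)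
    (hz : z ∈ Subgroup.center N) : a • z ∈ Subgroup.center N := by
  rw [Subgroup.mem_center_iff] at hz ⊢
  intro g
  have h1 := hz (a⁻¹ • g)
  have h2 := congrArg (fun t => a • t) h1
  simp only [smul_mul', smul_inv_smul] at h2
  exact h2

/-- The per-factor inequality for all coprime actions of a `p`-group. -/
theorem ineq_all {p : ℕ} [hp : Fact p.Prime] (hP : IsPGroup p P) :
    ∀ (k : ℕ) (N : Type u) [Group N] [Finite N] [MulDistribMulAction P N],
      Nat.card N = k → (Nat.card N).Coprime p → Ineq p P N := by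
  intro k
  induction k using Nat.strong_induction_on with
  | _ k ih =>
    intro N _ _ _ hk hcop
    by_cases hA : ∃ M : Subgroup N, M.Normal ∧ (∀ a : P, ∀ n ∈ M, a • n ∈ M) ∧ M ≠ ⊥ ∧ M ≠ ⊤
    · obtain ⟨M, hMn, hMinv, hMbot, hMtop⟩ := hA
      haveI := hMn
      have hMdvd : Nat.card M ∣ Nat.card N := Subgroup.card_subgroup_dvd_card M
      have hcardM : Nat.card M < k := by
        rw [← hk]
        apply lt_of_le_of_ne (Nat.le_of_dvd Nat.card_pos hMdvd)
        intro h
        exact hMtop ((Subgroup.card_eq_iff_eq_top M).1 h)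
      have hM1 : 1 < Nat.card M := (Subgroup.one_lt_card_iff_ne_bot M).2 hMbot
      have hQ := Subgroup.card_eq_card_quotient_mul_card_subgroup M
      have hcardQ : Nat.card (N ⧸ M) < k := by
        rw [← hk, hQ]
        have : 0 < Nat.card (N ⧸ M) := Nat.card_pos
        nlinarith
      have hcopM : (Nat.card M).Coprime p := Nat.Coprime.coprime_dvd_left hMdvd hcop
      have hcopQ : (Nat.card (N ⧸ M)).Coprime p :=
        Nat.Coprime.coprime_dvd_left (Dvd.intro _ hQ.symm) hcop
      have h1 := @ih (Nat.card M) hcardM M _ _ (subAct M hMinv) rfl hcopM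
      have h2 := @ih (Nat.card (N ⧸ M)) hcardQ (N ⧸ M) _ _ (quotAct M hMinv) rfl hcopQ
      exact ineq_of_normal hP hcop M hMinv h1 h2
    · push_neg at hA
      by_cases hcomm : ∀ a b : N, a * b = b * a
      · apply ineq_of_abelian_simple hP hcop hcomm
        intro M hMinv
        by_contra h
        push_neg at h
        have hMn : M.Normal := by
          constructor
          intro n hn g
          rw [hcomm g n, mul_assoc, mul_inv_cancel, mul_one]
          exact hn
        exact h.2 (hA M hMn hMinv h.1)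
      · have hex : ∀ q : ℕ, ∃ U : Subgroup N,
            (q.Prime → ∃ S : Sylow q N, (S : Subgroup N) = U ∧ ∀ a : P, a • S = S) ∧
            (∀ a : P, ∀ n ∈ U, a • n ∈ U) := by
          intro q
          by_cases hq : q.Prime
          · haveI : Fact q.Prime := ⟨hq⟩
            obtain ⟨S, hS⟩ := exists_invariant_sylow (A := P) (N := N) hP hcop q
            refine ⟨S, fun _ => ⟨S, rfl, hS⟩, ?_⟩
            intro a n hn
            have h1 : a • n ∈ a • (S : Subgroup N) := Subgroup.smul_mem_pointwise_smul n a _ hn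
            have h2 : a • (S : Subgroup N) = ((a • S : Sylow q N) : Subgroup N) :=
              (Sylow.pointwise_smul_def).symm
            rw [h2, hS a] at h1
            exact h1
          · refine ⟨⊥, fun h => absurd h hq, ?_⟩
            intro a n hn
            rw [Subgroup.mem_bot] at hn ⊢
            rw [hn, smul_one]
        choose T hT1 hT2 using hex
        apply ineq_of_sylow hP hcop T hT1 hT2
        intro q hq
        have hqp : q.Prime := Nat.prime_of_mem_primeFactors hq
        haveI : Fact q.Prime := ⟨hqp⟩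
        obtain ⟨S, hS1, hS2⟩ := hT1 q hqp
        have hTdvd : Nat.card (T q) ∣ Nat.card N := Subgroup.card_subgroup_dvd_card _
        have hTne : T q ≠ ⊤ := by
          intro htop
          apply hcomm
          have hNq : IsPGroup q N := by
            have h1 : IsPGroup q (S : Subgroup N) := S.2
            rw [hS1, htop] at h1
            exact IsPGroup.of_equiv h1 Subgroup.topEquiv
          haveI : Nontrivial N := by
            rw [← Finite.one_lt_card_iff_nontrivial]
            have h1 : q ∣ Nat.card N := Nat.dvd_of_mem_primeFactors hq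
            have h2 := Nat.le_of_dvd Nat.card_pos h1
            have h3 := hqp.one_lt
            omega
          haveI := hNq.center_nontrivial
          have hZbot : Subgroup.center N ≠ ⊥ := by
            intro h
            have h1 : Nat.card (Subgroup.center N) = 1 := by rw [h]; exact Subgroup.card_bot
            have h2 := Finite.one_lt_card (α := Subgroup.center N)
            omega
          have hZtop := hA (Subgroup.center N) inferInstance
            (fun a z hz => center_invariant a z hz) hZbot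
          intro a b
          have : a ∈ Subgroup.center N := by rw [hZtop]; exact Subgroup.mem_top a
          exact (Subgroup.mem_center_iff.1 this b).symm
        have hcardT : Nat.card (T q) < k := by
          rw [← hk]
          apply lt_of_le_of_ne (Nat.le_of_dvd Nat.card_pos hTdvd)
          intro h
          exact hTne ((Subgroup.card_eq_iff_eq_top _).1 h)
        have hcopT : (Nat.card (T q)).Coprime p := Nat.Coprime.coprime_dvd_left hTdvd hcop
        exact @ih (Nat.card (T q)) hcardT (T q) _ _ (subAct (T q) (hT2 q)) rfl hcopT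

end

end

section

open scoped Pointwise

section

variable {P : Type*} [Group P] {X : Type*} [MulAction P X]

end

section

variable {P : Type*} [Group P] {N : Type*} [Group N] [MulDistribMulAction P N]

end

section glue

variable {G : Type*} [Group G]

/-- The conjugation action of a subgroup `P` on the normal section `B/A` realised inside `G ⧸ A`. -/
@[reducible]
noncomputable def secAct (P A B : Subgroup G) [A.Normal] [B.Normal] :
    MulDistribMulAction P (B.map (QuotientGroup.mk' A)) :=
  haveI : (B.map (QuotientGroup.mk' A)).Normal :=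
    Subgroup.Normal.map inferInstance _ (QuotientGroup.mk'_surjective A)
  MulDistribMulAction.compHom _
    ((MulAut.conjNormal (H := B.map (QuotientGroup.mk' A))).comp
      ((QuotientGroup.mk' A).comp P.subtype))

theorem secAct_smul_coe (P A B : Subgroup G) [A.Normal] [B.Normal] (x : P)
    (n : B.map (QuotientGroup.mk' A)) :
    ((letI := secAct P A B; x • n : B.map (QuotientGroup.mk' A)) : G ⧸ A) =
      ((x : G) : G ⧸ A) * (n : G ⧸ A) * ((x : G) : G ⧸ A)⁻¹ := rfl

theorem fac_eq_card_fixSub [Finite G] (p : ℕ) [Fact p.Prime] (P A B : Subgroup G) [A.Normal] [B.Normal]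
    (hAB : A ≤ B) (hcop : (A.relIndex B).Coprime p) (K : Subgroup P) :
    Cfsg.Agent.S4090.fac p (K.map P.subtype) A B =
      Nat.card (@fixSub P _ (B.map (QuotientGroup.mk' A)) _ (secAct P A B) K) := by
  unfold Cfsg.Agent.S4090.fac
  rw [if_pos hcop, Cfsg.Agent.S4090.card_cent_map_mk A (K.map P.subtype) A B le_rfl hAB,
    Nat.mul_div_cancel _ Nat.card_pos]
  have hbot : A.map (QuotientGroup.mk' A) = ⊥ := QuotientGroup.map_mk'_self A
  rw [hbot]
  apply Nat.card_congr
  refine ⟨fun u => ⟨⟨u.1, u.2.1⟩, ?_⟩, fun n => ⟨n.1.1, n.1.2, ?_⟩, ?_, ?_⟩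
  · intro a ha
    apply Subtype.ext
    rw [secAct_smul_coe]
    have h1 : ((a : G) : G ⧸ A) ∈ (K.map P.subtype).map (QuotientGroup.mk' A) :=
      ⟨(a : G), ⟨a, ha, rfl⟩, rfl⟩
    have h2 := u.2.2 _ h1
    rw [Subgroup.mem_bot] at h2
    exact mul_inv_eq_one.1 h2
  · rintro h ⟨g, ⟨a, ha, rfl⟩, rfl⟩
    rw [Subgroup.mem_bot]
    have h1 := n.2 a ha
    have h2 := congrArg Subtype.val h1
    rw [secAct_smul_coe] at h2
    rw [mul_inv_eq_one]
    exact h2
  · intro u; rfl
  · intro n; rfl

theorem card_map_mk_eq_relIndex [Finite G] (A B : Subgroup G) [A.Normal] (hAB : A ≤ B) :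
    Nat.card (B.map (QuotientGroup.mk' A)) = A.relIndex B := by
  have h1 := Cfsg.Agent.S4090.card_map_mk A B hAB
  have h2 : A.relIndex B * Nat.card A = Nat.card B := by
    have := Subgroup.relIndex_mul_relIndex (⊥ : Subgroup G) A B bot_le hAB
    rw [Subgroup.relIndex_bot_left, Subgroup.relIndex_bot_left] at this
    rw [mul_comm]; exact this
  have hpos : 0 < Nat.card A := Nat.card_pos
  apply Nat.eq_of_mul_eq_mul_right hpos
  rw [← h1, h2]

end glue

end

section

open scoped Pointwise

section chain

variable {G : Type*} [Group G]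

theorem prod_relIndex_chain : ∀ (n : ℕ) (M : Fin (n + 1) → Subgroup G), Monotone M →
    ∏ i : Fin n, (M i.castSucc).relIndex (M i.succ) = (M 0).relIndex (M (Fin.last n)) := by
  intro n
  induction n with
  | zero =>
    intro M _
    simp
  | succ n ih =>
    intro M hM
    rw [Fin.prod_univ_castSucc]
    have h1 := ih (fun i => M i.castSucc) (fun a b hab => hM (Fin.castSucc_le_castSucc_iff.2 hab))
    have h2 : ∀ i : Fin n, (M i.castSucc.castSucc).relIndex (M i.castSucc.succ) =
        (M i.castSucc.castSucc).relIndex (M i.succ.castSucc) := by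
      intro i
      rfl
    rw [Finset.prod_congr rfl (fun i _ => h2 i), h1, Fin.succ_last]
    exact Subgroup.relIndex_mul_relIndex _ _ _ (hM (Fin.zero_le _)) (hM (Fin.le_last _))

theorem card_eq_prod_relIndex [Finite G] (n : ℕ) (M : Fin (n + 1) → Subgroup G) (hM : Monotone M)
    (h0 : M 0 = ⊥) (hn : M (Fin.last n) = ⊤) :
    ∏ i : Fin n, (M i.castSucc).relIndex (M i.succ) = Nat.card G := by
  rw [prod_relIndex_chain n M hM, h0, hn, Subgroup.relIndex_bot_left, Subgroup.card_top]

theorem card_eq_card_sylow_mul_prod [Finite G] (p : ℕ) [hp : Fact p.Prime] (P : Sylow p G) (n : ℕ)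
    (M : Fin (n + 1) → Subgroup G) (hM : Monotone M) (h0 : M 0 = ⊥) (hn : M (Fin.last n) = ⊤)
    (hfac : ∀ i : Fin n, (∃ m : ℕ, (M i.castSucc).relIndex (M i.succ) = p ^ m) ∨
      ((M i.castSucc).relIndex (M i.succ)).Coprime p) :
    Nat.card G = Nat.card (P : Subgroup G) *
      ∏ i : Fin n, (if ((M i.castSucc).relIndex (M i.succ)).Coprime p then
        (M i.castSucc).relIndex (M i.succ) else 1) := by
  set r : Fin n → ℕ := fun i => (M i.castSucc).relIndex (M i.succ) with hr
  have h1 := card_eq_prod_relIndex n M hM h0 hn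
  have hsplit : ∀ i : Fin n, r i = (if (r i).Coprime p then 1 else r i) *
      (if (r i).Coprime p then r i else 1) := by
    intro i
    split_ifs <;> simp
  have h2 : ∏ i : Fin n, r i = (∏ i : Fin n, (if (r i).Coprime p then 1 else r i)) *
      ∏ i : Fin n, (if (r i).Coprime p then r i else 1) := by
    rw [← Finset.prod_mul_distrib]
    exact Finset.prod_congr rfl (fun i _ => hsplit i)
  -- the first product is a power of p
  have h3 : ∃ e : ℕ, ∏ i : Fin n, (if (r i).Coprime p then 1 else r i) = p ^ e := by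
    have : ∀ i : Fin n, ∃ e : ℕ, (if (r i).Coprime p then 1 else r i) = p ^ e := by
      intro i
      split_ifs with hc
      · exact ⟨0, (pow_zero p).symm⟩
      · rcases hfac i with ⟨m, hm⟩ | hc'
        · exact ⟨m, hm⟩
        · exact absurd hc' hc
    choose e he using this
    refine ⟨∑ i : Fin n, e i, ?_⟩
    rw [← Finset.prod_pow_eq_pow_sum]
    exact Finset.prod_congr rfl (fun i _ => he i)
  obtain ⟨e, he⟩ := h3
  have h4 : (∏ i : Fin n, (if (r i).Coprime p then r i else 1)).Coprime p := by
    apply Nat.Coprime.prod_left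
    intro i _
    split_ifs with hc
    · exact hc
    · exact Nat.coprime_one_left p
  rw [P.card_eq_multiplicity, ← h1, h2, he]
  congr 1
  have hpos : (∏ i : Fin n, (if (r i).Coprime p then r i else 1)) ≠ 0 := by
    intro h
    rw [h] at h4
    have := Nat.Coprime.eq_one_of_dvd h4.symm (dvd_zero p)
    exact hp.out.one_lt.ne' this
  rw [Nat.factorization_mul (pow_ne_zero _ hp.out.ne_zero) hpos, Finsupp.add_apply,
    hp.out.factorization_pow, Finsupp.single_eq_same,
    Nat.factorization_eq_zero_of_not_dvd ((Nat.Prime.coprime_iff_not_dvd hp.out).1 h4.symm),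
    add_zero]

end chain

end

section

open scoped Pointwise

section

variable {P : Type*} [Group P] {X : Type*} [MulAction P X]

end

section

variable {P : Type*} [Group P] {N : Type*} [Group N] [MulDistribMulAction P N]

end

section

variable {P : Type*} [Group P] [Fintype P] {N : Type*} [Group N] [MulDistribMulAction P N]

end

section arith

end arith

section

universe u

variable {P : Type*} [Group P] [Fintype P]

end

section glue

variable {G : Type*} [Group G]

end glue

section chain

variable {G : Type*} [Group G]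

end chain

section key

universe u

variable {G : Type u} [Group G] [Finite G]

theorem card_sylow_mul_card_normalizer' {q : ℕ} [Fact q.Prime] (S : Sylow q G) :
    Nat.card (Sylow q G) * Nat.card (Subgroup.normalizer ((S : Subgroup G) : Set G)) = Nat.card G := by
  have h1 : Nat.card (Sylow q G) = (Subgroup.normalizer ((S : Subgroup G) : Set G)).index :=
    S.card_eq_index_normalizer
  rw [h1, mul_comm]
  exact Subgroup.card_mul_index _

theorem card_sylow_ge_eq_one {p : ℕ} [Fact p.Prime] (P : Sylow p G) :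
    Nat.card {Q : Sylow p G // (P : Subgroup G) ≤ (Q : Subgroup G)} = 1 := by
  rw [Nat.card_eq_one_iff_unique]
  refine ⟨⟨?_⟩, ⟨⟨P, le_refl _⟩⟩⟩
  rintro ⟨Q, hQ⟩ ⟨Q', hQ'⟩
  apply Subtype.ext
  have h1 : (Q : Subgroup G) = P := P.3 Q.2 hQ
  have h2 : (Q' : Subgroup G) = P := P.3 Q'.2 hQ'
  exact Sylow.ext (h1.trans h2.symm)

theorem map_subtype_top (H : Subgroup G) : (⊤ : Subgroup H).map H.subtype = H := by
  ext x
  constructor
  · rintro ⟨y, -, rfl⟩
    exact y.2
  · intro hx
    exact ⟨⟨x, hx⟩, Subgroup.mem_top _, rfl⟩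

theorem key_ineq (p : ℕ) [hp : Fact p.Prime] (hG : Cfsg.IsPSolvable p G) (P : Sylow p G)
    [Fintype (P : Subgroup G)] :
    (∏ x : (P : Subgroup G),
        Nat.card {Q : Sylow p G // Subgroup.zpowers (x : G) ≤ (Q : Subgroup G)}) ^ p ≤
      Nat.card (Sylow p G) ^ Fintype.card (P : Subgroup G) := by
  have hG' := hG
  obtain ⟨n, M, h0, hn, hmono, hnormal, hfac⟩ := hG'
  haveI : ∀ i, (M i).Normal := hnormal
  have hPt : IsPGroup p (P : Subgroup G) := P.2
  -- the basic identity
  have hbasic : ∀ H : Subgroup G, IsPGroup p H →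
      Nat.card {Q : Sylow p G // H ≤ (Q : Subgroup G)} *
        Nat.card (Subgroup.normalizer ((P : Subgroup G) : Set G)) =
      Nat.card (P : Subgroup G) *
        ∏ i : Fin n, Cfsg.Agent.S4090.fac p H (M i.castSucc) (M i.succ) := by
    intro H hH
    rw [← Cfsg.Agent.S4088.first_eq p H hH P,
      Cfsg.Agent.S4090.result p hG H hH P n M h0 hn hmono hnormal hfac]
    rfl
  set C : ℕ := ∏ i : Fin n, Cfsg.Agent.S4090.fac p (P : Subgroup G) (M i.castSucc) (M i.succ) with hC
  have hPpos : 0 < Nat.card (P : Subgroup G) := Nat.card_pos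
  have hNP : Nat.card (Subgroup.normalizer ((P : Subgroup G) : Set G)) =
      Nat.card (P : Subgroup G) * C := by
    have := hbasic (P : Subgroup G) hPt
    rw [card_sylow_ge_eq_one, one_mul] at this
    exact this
  have hCpos : 0 < C := by
    rcases Nat.eq_zero_or_pos C with h | h
    · rw [h, mul_zero] at hNP
      have : 0 < Nat.card (Subgroup.normalizer ((P : Subgroup G) : Set G)) := Nat.card_pos
      omega
    · exact h
  have hlam : ∀ x : (P : Subgroup G),
      Nat.card {Q : Sylow p G // Subgroup.zpowers (x : G) ≤ (Q : Subgroup G)} * C =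
        ∏ i : Fin n, Cfsg.Agent.S4090.fac p (Subgroup.zpowers (x : G)) (M i.castSucc) (M i.succ) := by
    intro x
    have hx : IsPGroup p (Subgroup.zpowers (x : G)) :=
      hPt.to_le (Subgroup.zpowers_le.2 x.2)
    have := hbasic (Subgroup.zpowers (x : G)) hx
    rw [hNP, ← mul_assoc, mul_comm _ (Nat.card (P : Subgroup G)), mul_assoc] at this
    exact Nat.eq_of_mul_eq_mul_left hPpos this
  set g : Fin n → ℕ := fun i => if ((M i.castSucc).relIndex (M i.succ)).Coprime p then
        (M i.castSucc).relIndex (M i.succ) else 1 with hg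
  have hnp : Nat.card (Sylow p G) * C = ∏ i : Fin n, g i := by
    have h1 := card_sylow_mul_card_normalizer' P
    have h2 := card_eq_card_sylow_mul_prod p P n M hmono h0 hn hfac
    rw [hNP, h2, ← mul_assoc, mul_comm _ (Nat.card (P : Subgroup G)), mul_assoc] at h1
    exact Nat.eq_of_mul_eq_mul_left hPpos h1
  -- per-step inequality
  have hstep : ∀ i ∈ (Finset.univ : Finset (Fin n)),
      (∏ x ∈ (Finset.univ : Finset (P : Subgroup G)),
        Cfsg.Agent.S4090.fac p (Subgroup.zpowers (x : G)) (M i.castSucc) (M i.succ)) ^ p ≤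
      g i ^ Fintype.card (P : Subgroup G) *
        Cfsg.Agent.S4090.fac p (P : Subgroup G) (M i.castSucc) (M i.succ) ^
          ((p - 1) * Fintype.card (P : Subgroup G)) := by
    intro i _
    by_cases hc : ((M i.castSucc).relIndex (M i.succ)).Coprime p
    · have hAB : M i.castSucc ≤ M i.succ := hmono (Fin.castSucc_le_succ i)
      letI := secAct (P : Subgroup G) (M i.castSucc) (M i.succ)
      have hcard := card_map_mk_eq_relIndex (M i.castSucc) (M i.succ) hAB
      have hcopN : (Nat.card ((M i.succ).map (QuotientGroup.mk' (M i.castSucc)))).Coprime p := by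
        rw [hcard]; exact hc
      have h1 := ineq_all (P := (P : Subgroup G)) hPt _
        ((M i.succ).map (QuotientGroup.mk' (M i.castSucc))) rfl hcopN
      unfold Ineq at h1
      have h2 : ∀ x : (P : Subgroup G),
          Cfsg.Agent.S4090.fac p (Subgroup.zpowers (x : G)) (M i.castSucc) (M i.succ) =
            Nat.card (fixSub (Subgroup.zpowers x) :
              Subgroup ((M i.succ).map (QuotientGroup.mk' (M i.castSucc)))) := by
        intro x
        rw [← fac_eq_card_fixSub p (P : Subgroup G) (M i.castSucc) (M i.succ) hAB hc,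
          MonoidHom.map_zpowers]
        rfl
      have h3 : Cfsg.Agent.S4090.fac p (P : Subgroup G) (M i.castSucc) (M i.succ) =
            Nat.card (fixSub (⊤ : Subgroup (P : Subgroup G)) :
              Subgroup ((M i.succ).map (QuotientGroup.mk' (M i.castSucc)))) := by
        rw [← fac_eq_card_fixSub p (P : Subgroup G) (M i.castSucc) (M i.succ) hAB hc,
          map_subtype_top]
      rw [Finset.prod_congr rfl (fun x _ => h2 x), h3]
      simp only [hg, if_pos hc]
      rw [← hcard]
      exact h1
    · have h2 : ∀ H : Subgroup G, Cfsg.Agent.S4090.fac p H (M i.castSucc) (M i.succ) = 1 := by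
        intro H
        unfold Cfsg.Agent.S4090.fac
        rw [if_neg hc]
      simp only [h2, hg, if_neg hc, Finset.prod_const_one, one_pow, mul_one, le_refl]
  have hprod := ineq_prod (Finset.univ : Finset (P : Subgroup G)) (Finset.univ : Finset (Fin n))
    (fun x => ∏ i : Fin n, Cfsg.Agent.S4090.fac p (Subgroup.zpowers (x : G)) (M i.castSucc) (M i.succ))
    (fun i x => Cfsg.Agent.S4090.fac p (Subgroup.zpowers (x : G)) (M i.castSucc) (M i.succ))
    g (fun i => Cfsg.Agent.S4090.fac p (P : Subgroup G) (M i.castSucc) (M i.succ))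
    (∏ i : Fin n, g i) C p (Fintype.card (P : Subgroup G)) ((p - 1) * Fintype.card (P : Subgroup G))
    (fun x _ => rfl) rfl rfl hstep
  rw [Finset.prod_congr rfl (fun x _ => (hlam x).symm), ← hnp, Finset.prod_mul_distrib,
    Finset.prod_const, Finset.card_univ] at hprod
  -- cancel powers of C
  have hp1 : 1 ≤ p := hp.out.one_lt.le
  set m := Fintype.card (P : Subgroup G) with hm
  set L := ∏ x : (P : Subgroup G),
    Nat.card {Q : Sylow p G // Subgroup.zpowers (x : G) ≤ (Q : Subgroup G)} with hL
  have e1 : (L * C ^ m) ^ p = L ^ p * C ^ (m * p) := by rw [mul_pow, ← pow_mul]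
  have e2 : (Nat.card (Sylow p G) * C) ^ m * C ^ ((p - 1) * m) =
      Nat.card (Sylow p G) ^ m * C ^ (m * p) := by
    rw [mul_pow, mul_assoc, ← pow_add]
    congr 2
    have : p = 1 + (p - 1) := by omega
    calc m + (p - 1) * m = m * (1 + (p - 1)) := by ring
      _ = m * p := by rw [← this]
  rw [e1, e2] at hprod
  exact Nat.le_of_mul_le_mul_right hprod (Nat.pow_pos hCpos)

end key

end

section

section analysis

theorem amgm_aux {ι : Type*} [Fintype ι] [Nonempty ι] (lam : ι → ℕ) (hlam : ∀ i, 0 < lam i) :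
    (Fintype.card ι : ℝ) ^ Fintype.card ι ≤
      (∏ i, (lam i : ℝ)) * (∑ i, 1 / (lam i : ℝ)) ^ Fintype.card ι := by
  set m := Fintype.card ι with hm
  have hmpos : 0 < m := Fintype.card_pos
  have hmR : (0 : ℝ) < m := by exact_mod_cast hmpos
  have hz : ∀ i ∈ (Finset.univ : Finset ι), (0 : ℝ) ≤ 1 / (lam i : ℝ) := by
    intro i _
    positivity
  have hw : ∀ i ∈ (Finset.univ : Finset ι), (0 : ℝ) ≤ 1 / (m : ℝ) := by
    intro i _
    positivity
  have hw' : ∑ _i ∈ (Finset.univ : Finset ι), (1 / (m : ℝ)) = 1 := by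
    rw [Finset.sum_const, Finset.card_univ, nsmul_eq_mul, ← hm]
    field_simp
  have h := Real.geom_mean_le_arith_mean_weighted Finset.univ (fun _ => 1 / (m : ℝ))
    (fun i => 1 / (lam i : ℝ)) hw hw' hz
  rw [Real.finset_prod_rpow _ _ hz, ← Finset.mul_sum] at h
  set L : ℝ := ∏ i, (lam i : ℝ) with hL
  set s : ℝ := ∑ i, 1 / (lam i : ℝ) with hs
  have hLpos : 0 < L := Finset.prod_pos (fun i _ => by exact_mod_cast hlam i)
  have hprod : ∏ i, (1 / (lam i : ℝ)) = 1 / L := by
    rw [hL]
    simp only [one_div, Finset.prod_inv_distrib]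
  rw [hprod] at h
  have h0 : (0 : ℝ) ≤ (1 / L) ^ (1 / (m : ℝ)) := by positivity
  have h2 := pow_le_pow_left₀ h0 h m
  rw [← Real.rpow_natCast, ← Real.rpow_mul (by positivity), one_div_mul_cancel hmR.ne',
    Real.rpow_one, mul_pow, div_pow, one_pow] at h2
  -- 1 / L ≤ 1 / m^m * s^m
  have hmm : (0 : ℝ) < (m : ℝ) ^ m := by positivity
  rw [div_le_iff₀ hLpos, div_mul_eq_mul_div, one_mul, mul_comm, ← mul_div_assoc, le_div_iff₀ hmm,
    one_mul] at h2
  exact h2

theorem final_arith (m n p L : ℕ) (s : ℝ) (hm : 0 < m) (hn : 0 < n) (hp : 0 < p) (hs : 0 < s)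
    (h1 : (m : ℝ) ^ m ≤ L * s ^ m) (h2 : L ^ p ≤ n ^ m) :
    (m : ℝ) ^ p * (n : ℝ) ^ (p - 1) ≤ ((n : ℝ) * s) ^ p := by
  have hmR : (0 : ℝ) < m := by exact_mod_cast hm
  have hnR : (0 : ℝ) < n := by exact_mod_cast hn
  have h2R : (L : ℝ) ^ p ≤ (n : ℝ) ^ m := by exact_mod_cast h2
  have h3 : ((m : ℝ) / s) ^ m ≤ L := by
    rw [div_pow, div_le_iff₀ (by positivity)]
    exact h1
  have h4 : (((m : ℝ) / s) ^ p) ^ m ≤ (n : ℝ) ^ m := by
    rw [← pow_mul, mul_comm, pow_mul]
    exact le_trans (pow_le_pow_left₀ (by positivity) h3 p) h2R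
  have h5 : ((m : ℝ) / s) ^ p ≤ n :=
    (pow_le_pow_iff_left₀ (by positivity) hnR.le hm.ne').1 h4
  rw [div_pow, div_le_iff₀ (by positivity)] at h5
  have hpp : p = (p - 1) + 1 := by omega
  calc (m : ℝ) ^ p * (n : ℝ) ^ (p - 1) ≤ ((n : ℝ) * s ^ p) * (n : ℝ) ^ (p - 1) :=
        mul_le_mul_of_nonneg_right h5 (by positivity)
    _ = ((n : ℝ) * s) ^ p := by
        rw [mul_pow]
        have hnp : (n : ℝ) ^ p = (n : ℝ) ^ (p - 1) * n := by
          conv_lhs => rw [hpp, pow_succ]
        rw [hnp]
        ring

end analysis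

end

section

open scoped Pointwise

section analysis

end analysis

section key

universe u

variable {G : Type u} [Group G] [Finite G]

end key

section count

variable {G : Type*} [Group G] [Finite G] (p : ℕ) [Fact p.Prime]

/-- The number of Sylow `p`-subgroups containing `y`. -/
noncomputable def lam (y : G) : ℕ := Nat.card {Q : Sylow p G // y ∈ (Q : Subgroup G)}

omit [Finite G] in
theorem lam_eq (y : G) :
    lam p y = Nat.card {Q : Sylow p G // Subgroup.zpowers y ≤ (Q : Subgroup G)} := by
  unfold lam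
  apply Nat.card_congr
  apply Equiv.subtypeEquivRight
  intro Q
  rw [Subgroup.zpowers_le]

theorem lam_pos_iff (y : G) : 0 < lam p y ↔ ∃ k : ℕ, orderOf y = p ^ k := by
  unfold lam
  rw [Nat.card_pos_iff]
  constructor
  · rintro ⟨⟨Q, hQ⟩, -⟩
    obtain ⟨k, hk⟩ := Q.2 ⟨y, hQ⟩
    have h1 : y ^ p ^ k = 1 := by
      have := congrArg Subtype.val hk
      simpa using this
    have h2 := orderOf_dvd_of_pow_eq_one h1
    obtain ⟨j, -, hj⟩ := (Nat.dvd_prime_pow Fact.out).1 h2
    exact ⟨j, hj⟩
  · rintro ⟨k, hk⟩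
    have hpg : IsPGroup p (Subgroup.zpowers y) := by
      apply IsPGroup.of_card (n := k)
      rw [Nat.card_zpowers, hk]
    obtain ⟨Q, hQ⟩ := hpg.exists_le_sylow
    exact ⟨⟨⟨Q, hQ (Subgroup.mem_zpowers y)⟩⟩, inferInstance⟩

omit [Finite G] in
theorem mem_smul_sylow_iff'' (S : Sylow p G) (h x : G) :
    x ∈ ((h • S : Sylow p G) : Subgroup G) ↔ h⁻¹ * x * h ∈ (S : Subgroup G) := by
  rw [Sylow.coe_subgroup_smul, Subgroup.mem_pointwise_smul_iff_inv_smul_mem, MulAut.smul_def,
    ← map_inv, MulAut.conj_apply, inv_inv]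

omit [Finite G] in
theorem lam_conj (g y : G) : lam p (g * y * g⁻¹) = lam p y := by
  unfold lam
  symm
  apply Nat.card_congr
  refine Equiv.subtypeEquiv (MulAction.toPerm g) ?_
  intro Q
  rw [MulAction.toPerm_apply, mem_smul_sylow_iff'']
  have : g⁻¹ * (g * y * g⁻¹) * g = y := by group
  rw [this]

open Classical in
theorem card_pelements_eq [Fintype G] [Fintype (Sylow p G)] :
    (Nat.card {g : G // ∃ k : ℕ, orderOf g = p ^ k} : ℝ) =
      ∑ Q : Sylow p G, ∑ y : G, if y ∈ (Q : Subgroup G) then 1 / (lam p y : ℝ) else 0 := by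
  rw [Finset.sum_comm]
  have h1 : ∀ y : G, (∑ Q : Sylow p G, if y ∈ (Q : Subgroup G) then 1 / (lam p y : ℝ) else 0) =
      if 0 < lam p y then 1 else 0 := by
    intro y
    rw [Finset.sum_ite, Finset.sum_const, Finset.sum_const_zero, add_zero, nsmul_eq_mul]
    have h2 : ((Finset.univ.filter (fun Q : Sylow p G => y ∈ (Q : Subgroup G))).card : ℝ) = lam p y := by
      unfold lam
      rw [Nat.card_eq_fintype_card, Fintype.card_subtype]
    rw [h2]
    split_ifs with h
    · have : (lam p y : ℝ) ≠ 0 := by exact_mod_cast h.ne'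
      field_simp
    · have : lam p y = 0 := by omega
      rw [this]; simp
  rw [Finset.sum_congr rfl (fun y _ => h1 y), Finset.sum_boole, Nat.card_eq_fintype_card,
    Fintype.card_subtype]
  congr 2
  ext y
  simp only [Finset.mem_filter, Finset.mem_univ, true_and]
  exact (lam_pos_iff p y).symm

open Classical in
theorem sum_sylow_conj [Fintype G] (P : Sylow p G) (g : G) :
    (∑ y : G, if y ∈ ((g • P : Sylow p G) : Subgroup G) then 1 / (lam p y : ℝ) else 0) =
      ∑ y : G, if y ∈ (P : Subgroup G) then 1 / (lam p y : ℝ) else 0 := by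
  rw [← Equiv.sum_comp (MulAut.conj g).toEquiv]
  apply Finset.sum_congr rfl
  intro y _
  have h1 : (MulAut.conj g).toEquiv y = g * y * g⁻¹ := rfl
  rw [h1, lam_conj, mem_smul_sylow_iff'']
  have : g⁻¹ * (g * y * g⁻¹) * g = y := by group
  rw [this]

open Classical in
theorem card_pelements_eq' [Fintype G] [Fintype (Sylow p G)] (P : Sylow p G)
    [Fintype (P : Subgroup G)] :
    (Nat.card {g : G // ∃ k : ℕ, orderOf g = p ^ k} : ℝ) =
      (Nat.card (Sylow p G) : ℝ) * ∑ x : (P : Subgroup G), 1 / (lam p (x : G) : ℝ) := by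
  rw [card_pelements_eq]
  have h1 : ∀ Q : Sylow p G, (∑ y : G, if y ∈ (Q : Subgroup G) then 1 / (lam p y : ℝ) else 0) =
      ∑ y : G, if y ∈ (P : Subgroup G) then 1 / (lam p y : ℝ) else 0 := by
    intro Q
    obtain ⟨g, rfl⟩ := MulAction.exists_smul_eq G P Q
    exact sum_sylow_conj p P g
  rw [Finset.sum_congr rfl (fun Q _ => h1 Q), Finset.sum_const, Finset.card_univ, nsmul_eq_mul,
    Nat.card_eq_fintype_card]
  congr 1
  rw [← Finset.sum_filter]
  exact Finset.sum_subtype (Finset.univ.filter (fun y : G => y ∈ (P : Subgroup G)))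
    (fun x => by simp) (fun y => 1 / (lam p y : ℝ))

end count

end

/-- Let G be a finite p-solvable group, P a Sylow p-subgroup of G, u the number of p-elements of G (elements of p-power order, the identity included) and n the number of Sylow p-subgroups of G. Then u/#P ≥ n^((p−1)/p), stated as u^p ≥ #P^p · n^(p−1). -/
theorem result {G : Type*} [Group G] [Finite G] (p : ℕ) [Fact p.Prime]
    (hG : Cfsg.IsPSolvable p G) (P : Sylow p G) :
    Nat.card (P : Subgroup G) ^ p * Nat.card (Sylow p G) ^ (p - 1) ≤ Nat.card {g : G // ∃ k : ℕ, orderOf g = p ^ k} ^ p := by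
  classical
  haveI : Fintype G := Fintype.ofFinite G
  haveI : Fintype (Sylow p G) := Fintype.ofFinite _
  haveI : Fintype (P : Subgroup G) := Fintype.ofFinite _
  have hp : p.Prime := Fact.out
  have hkey := key_ineq p hG P
  have hlampos : ∀ x : (P : Subgroup G), 0 < lam p (x : G) := by
    intro x
    unfold lam
    rw [Nat.card_pos_iff]
    exact ⟨⟨⟨P, x.2⟩⟩, inferInstance⟩
  have hamgm := amgm_aux (fun x : (P : Subgroup G) => lam p (x : G)) hlampos
  have hu := card_pelements_eq' p P
  set s : ℝ := ∑ x : (P : Subgroup G), 1 / (lam p (x : G) : ℝ) with hs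
  have hspos : 0 < s := by
    apply Finset.sum_pos
    · intro x _
      have : (0 : ℝ) < lam p (x : G) := by exact_mod_cast hlampos x
      positivity
    · exact Finset.univ_nonempty
  have hL : (∏ x : (P : Subgroup G), (lam p (x : G) : ℝ)) =
      ((∏ x : (P : Subgroup G), lam p (x : G) : ℕ) : ℝ) := by
    rw [Nat.cast_prod]
  rw [hL] at hamgm
  have hkey' : (∏ x : (P : Subgroup G), lam p (x : G)) ^ p ≤
      Nat.card (Sylow p G) ^ Fintype.card (P : Subgroup G) := by
    have h1 : (∏ x : (P : Subgroup G), lam p (x : G)) = ∏ x : (P : Subgroup G),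
        Nat.card {Q : Sylow p G // Subgroup.zpowers (x : G) ≤ (Q : Subgroup G)} :=
      Finset.prod_congr rfl (fun x _ => lam_eq p (x : G))
    rw [h1]
    exact hkey
  have hfin := final_arith (Fintype.card (P : Subgroup G)) (Nat.card (Sylow p G)) p
    (∏ x : (P : Subgroup G), lam p (x : G)) s Fintype.card_pos Nat.card_pos hp.pos hspos hamgm hkey'
  rw [← hu, ← Nat.card_eq_fintype_card] at hfin
  exact_mod_cast hfin

end Cfsg.Agent.S4091
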