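import Cfsg.Statements.S4092
import Mathlib
-- import your own Cfsg.Agent.* helpers here

set_option autoImplicit false
open Cfsg

namespace Cfsg.Agent.S4092

variable {G : Type*} [Group G]

theorem exists_normalizer_elt [Finite G] (p : ℕ) [Fact p.Prime] (R : Subgroup G)
    (hR : IsPGroup p R) (D : Subgroup G) (hDR : D < R) :
    ∃ y ∈ R, y ∉ D ∧ y ∈ Subgroup.normalizer (D : Set G) := by
  have : Group.IsNilpotent R := hR.isNilpotent
  have hlt : D.subgroupOf R < ⊤ := by
    rw [lt_top_iff_ne_top, Ne, Subgroup.subgroupOf_eq_top]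
    exact not_le_of_gt hDR
  have h1 := Group.normalizerCondition_of_isNilpotent (G := R) (D.subgroupOf R) hlt
  obtain ⟨y, hyN, hyD⟩ := SetLike.exists_of_lt h1
  refine ⟨y.1, y.2, fun h => hyD (Subgroup.mem_subgroupOf.mpr h), ?_⟩
  rw [Subgroup.mem_set_normalizer_iff]
  rw [Subgroup.mem_set_normalizer_iff] at hyN
  intro h
  constructor
  · intro hh
    have hhR : h ∈ R := hDR.le hh
    have := (hyN ⟨h, hhR⟩).mp (Subgroup.mem_subgroupOf.mpr hh)
    exact Subgroup.mem_subgroupOf.mp this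
  · intro hh
    have hhR : h ∈ R := by
      have h2 : (y : G) * h * (y : G)⁻¹ ∈ R := hDR.le hh
      have h3 := R.mul_mem (R.mul_mem (R.inv_mem y.2) h2) y.2
      have e : (y : G)⁻¹ * ((y : G) * h * (y : G)⁻¹) * (y : G) = h := by group
      rwa [e] at h3
    have := (hyN ⟨h, hhR⟩).mpr (Subgroup.mem_subgroupOf.mpr hh)
    exact Subgroup.mem_subgroupOf.mp this

/-- Let G be a finite group, p a prime and P a Sylow p-subgroup of G that is not normal in G. Then G has at least p·#P elements of p-power order (the identity included). -/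
theorem result {G : Type*} [Group G] [Finite G] (p : ℕ) [Fact p.Prime]
    (P : Sylow p G) (hP : ¬ (P : Subgroup G).Normal) :
    p * Nat.card (P : Subgroup G) ≤ Nat.card {g : G // ∃ k : ℕ, orderOf g = p ^ k} := by
  classical
  have := Fintype.ofFinite G
  -- two distinct Sylow subgroups
  have hex : ∃ Q : Sylow p G, Q ≠ P := by
    by_contra hcon
    push Not at hcon
    have : Subsingleton (Sylow p G) := ⟨fun a b => (hcon a).trans (hcon b).symm⟩
    exact hP (Sylow.normal_of_subsingleton P)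
  obtain ⟨Q0, hQ0⟩ := hex
  have hne : Nonempty {pr : Sylow p G × Sylow p G // pr.1 ≠ pr.2} := ⟨⟨(Q0, P), hQ0⟩⟩
  obtain ⟨⟨⟨P1, P2⟩, hP12⟩, hmax⟩ := Finite.exists_max
    (fun pr : {pr : Sylow p G × Sylow p G // pr.1 ≠ pr.2} =>
      Nat.card ↥((pr.1.1 : Subgroup G) ⊓ (pr.1.2 : Subgroup G)))
  simp only at hP12 hmax
  set D : Subgroup G := (P1 : Subgroup G) ⊓ (P2 : Subgroup G) with hD
  have hmax' : ∀ R R' : Sylow p G, R ≠ R' →
      Nat.card ↥((R : Subgroup G) ⊓ (R' : Subgroup G)) ≤ Nat.card D := by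
    intro R R' h
    exact hmax ⟨(R, R'), h⟩
  -- (K1)
  have K1 : ∀ R R' : Sylow p G, R ≠ R' → D ≤ (R : Subgroup G) ⊓ (R' : Subgroup G) →
      (R : Subgroup G) ⊓ (R' : Subgroup G) = D := by
    intro R R' h hle
    exact (Subgroup.eq_of_le_of_card_ge hle (hmax' R R' h)).symm
  have hD1 : D < (P1 : Subgroup G) := by
    refine lt_of_le_of_ne inf_le_left ?_
    intro h
    have hle : (P1 : Subgroup G) ≤ P2 := by rw [← h]; exact inf_le_right
    exact hP12 (Sylow.ext (P1.3 P2.2 hle)).symm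
  have hD2 : D < (P2 : Subgroup G) := by
    refine lt_of_le_of_ne inf_le_right ?_
    intro h
    have hle : (P2 : Subgroup G) ≤ P1 := by rw [← h]; exact inf_le_left
    exact hP12 (Sylow.ext (P2.3 P1.2 hle))
  obtain ⟨y1, hy1P, hy1D, hy1N⟩ := exists_normalizer_elt p _ P1.2 D hD1
  obtain ⟨y2, hy2P, hy2D, hy2N⟩ := exists_normalizer_elt p _ P2.2 D hD2
  set N := Subgroup.normalizer (D : Set G) with hN
  have hDN : D ≤ N := Subgroup.le_normalizer
  -- (K2)
  have hDn : (D.subgroupOf N).Normal := Subgroup.normal_in_normalizer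
  have hDp : IsPGroup p D := P1.2.to_le inf_le_left
  have hDp' : IsPGroup p (D.subgroupOf N) := hDp.comap_subtype
  have K2 : ∀ S : Sylow p N, D.subgroupOf N ≤ S := fun S => hDp'.le_sylow_of_normal S
  -- (K3)
  have hex3 : ∀ S : Sylow p N, ∃ R : Sylow p G, (S : Subgroup N).map N.subtype ≤ R :=
    fun S => (S.2.map N.subtype).exists_le_sylow
  choose ι hι using hex3
  have hmemι : ∀ (S : Sylow p N) (x : N), x ∈ S → (x : G) ∈ (ι S : Subgroup G) :=
    fun S x hx => hι S (Subgroup.mem_map_of_mem _ hx)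
  have hDι : ∀ S : Sylow p N, D ≤ ι S := by
    intro S x hx
    exact hmemι S ⟨x, hDN hx⟩ (K2 S (Subgroup.mem_subgroupOf.mpr hx))
  -- (K4)
  have K4 : Function.Injective ι := by
    intro S S' h
    have hT : IsPGroup p ((ι S : Subgroup G).subgroupOf N) := (ι S).2.comap_subtype
    have h1 : (S : Subgroup N) ≤ (ι S : Subgroup G).subgroupOf N := fun x hx =>
      Subgroup.mem_subgroupOf.mpr (hmemι S x hx)
    have h2 : (S' : Subgroup N) ≤ (ι S : Subgroup G).subgroupOf N := fun x hx =>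
      Subgroup.mem_subgroupOf.mpr (h ▸ hmemι S' x hx)
    have e1 := S.3 hT h1
    have e2 := S'.3 hT h2
    exact Sylow.ext (e1.symm.trans e2)
  -- (K5)
  have K5 : 2 ≤ Nat.card (Sylow p N) := by
    by_contra hlt
    push Not at hlt
    have hsub : Subsingleton (Sylow p N) := by
      have : Nat.card (Sylow p N) ≤ 1 := by omega
      exact (Finite.card_le_one_iff_subsingleton).mp this
    obtain ⟨S1, hS1⟩ := (P1.2.comap_subtype (K := N)).exists_le_sylow
    obtain ⟨S2, hS2⟩ := (P2.2.comap_subtype (K := N)).exists_le_sylow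
    have hS : S1 = S2 := Subsingleton.elim _ _
    have hy1R : y1 ∈ (ι S1 : Subgroup G) :=
      hmemι S1 ⟨y1, hy1N⟩ (hS1 (Subgroup.mem_subgroupOf.mpr hy1P))
    have hy2R : y2 ∈ (ι S1 : Subgroup G) := by
      rw [hS]
      exact hmemι S2 ⟨y2, hy2N⟩ (hS2 (Subgroup.mem_subgroupOf.mpr hy2P))
    have e1 : ι S1 = P1 := by
      by_contra hne1
      have := K1 (ι S1) P1 hne1 (le_inf (hDι S1) hD1.le)
      exact hy1D (this ▸ ⟨hy1R, hy1P⟩)
    have e2 : ι S1 = P2 := by
      by_contra hne2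
      have := K1 (ι S1) P2 hne2 (le_inf (hDι S1) hD2.le)
      exact hy2D (this ▸ ⟨hy2R, hy2P⟩)
    exact hP12 (e1.symm.trans e2)
  have K5' : p + 1 ≤ Nat.card (Sylow p N) := by
    have h1 := card_sylow_modEq_one p N
    have h2 : p ∣ Nat.card (Sylow p N) - 1 := (Nat.modEq_iff_dvd' (by omega)).mp h1.symm
    have h3 : p ≤ Nat.card (Sylow p N) - 1 := Nat.le_of_dvd (by omega) h2
    omega
  -- (K6)
  have := Fintype.ofFinite (Sylow p N)
  obtain ⟨T, -, hT⟩ := Finset.exists_subset_card_eq (s := (Finset.univ : Finset (Sylow p N)))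
    (n := p + 1) (by rw [Finset.card_univ, ← Nat.card_eq_fintype_card]; exact K5')
  -- (K7) counting
  set Dfin : Finset G := Finset.univ.filter (fun g => g ∈ D) with hDfin
  set F : Sylow p N → Finset G :=
    fun S => (Finset.univ.filter (fun g => g ∈ (ι S : Subgroup G))) \ Dfin with hF
  set Ufin : Finset G := Finset.univ.filter (fun g => ∃ k : ℕ, orderOf g = p ^ k) with hUfin
  have hDcard : Dfin.card = Nat.card D := by
    rw [Nat.card_eq_fintype_card, Fintype.card_subtype]
  have hFcard : ∀ S : Sylow p N, (F S).card = Nat.card P - Nat.card D := by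
    intro S
    rw [hF]
    simp only
    rw [Finset.card_sdiff_of_subset, hDcard]
    · congr 1
      rw [Sylow.card_eq_multiplicity P, ← Sylow.card_eq_multiplicity (ι S),
        Nat.card_eq_fintype_card, Fintype.card_subtype]
    · intro g hg
      rw [hDfin, Finset.mem_filter] at hg
      rw [Finset.mem_filter]
      exact ⟨Finset.mem_univ _, hDι S hg.2⟩
  have hdisjF : ∀ S ∈ T, ∀ S' ∈ T, S ≠ S' → Disjoint (F S) (F S') := by
    intro S _ S' _ hSS'
    rw [Finset.disjoint_left]
    intro g hg hg'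
    rw [hF] at hg hg'
    simp only [Finset.mem_sdiff, Finset.mem_filter, Finset.mem_univ, true_and] at hg hg'
    have hne' : ι S ≠ ι S' := fun h => hSS' (K4 h)
    have := K1 (ι S) (ι S') hne' (le_inf (hDι S) (hDι S'))
    apply hg.2
    rw [hDfin, Finset.mem_filter]
    exact ⟨Finset.mem_univ _, this ▸ ⟨hg.1, hg'.1⟩⟩
  have hdisjD : Disjoint Dfin (T.biUnion F) := by
    rw [Finset.disjoint_left]
    intro g hg hg'
    rw [Finset.mem_biUnion] at hg'
    obtain ⟨S, _, hgS⟩ := hg'
    rw [hF] at hgS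
    simp only [Finset.mem_sdiff] at hgS
    exact hgS.2 hg
  have hsub : Dfin ∪ T.biUnion F ⊆ Ufin := by
    intro g hg
    rw [hUfin, Finset.mem_filter]
    refine ⟨Finset.mem_univ _, ?_⟩
    rw [Finset.mem_union] at hg
    rcases hg with hg | hg
    · rw [hDfin, Finset.mem_filter] at hg
      obtain ⟨k, hk⟩ := (IsPGroup.iff_orderOf.mp hDp) ⟨g, hg.2⟩
      exact ⟨k, by rw [← hk, Subgroup.orderOf_mk]⟩
    · rw [Finset.mem_biUnion] at hg
      obtain ⟨S, _, hgS⟩ := hg
      rw [hF] at hgS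
      simp only [Finset.mem_sdiff, Finset.mem_filter, Finset.mem_univ, true_and] at hgS
      obtain ⟨k, hk⟩ := (IsPGroup.iff_orderOf.mp (ι S).2) ⟨g, hgS.1⟩
      exact ⟨k, by rw [← hk, Subgroup.orderOf_mk]⟩
  have hUcard : Nat.card {g : G // ∃ k : ℕ, orderOf g = p ^ k} = Ufin.card := by
    rw [Nat.card_eq_fintype_card, Fintype.card_subtype]
  have hcount : Nat.card D + (p + 1) * (Nat.card P - Nat.card D) ≤ Ufin.card := by
    have h1 := Finset.card_le_card hsub
    rw [Finset.card_union_of_disjoint hdisjD, Finset.card_biUnion hdisjF, hDcard] at h1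
    rw [Finset.sum_congr rfl (fun S _ => hFcard S), Finset.sum_const, hT, smul_eq_mul] at h1
    exact h1
  -- p * |D| ≤ |P|
  have hpD : p * Nat.card D ≤ Nat.card P := by
    obtain ⟨a, ha⟩ := IsPGroup.iff_card.mp hDp
    have hb : Nat.card P = Nat.card (P1 : Subgroup G) := by
      rw [Sylow.card_eq_multiplicity, Sylow.card_eq_multiplicity]
    obtain ⟨b, hb'⟩ := IsPGroup.iff_card.mp P1.2
    have hlt : Nat.card D < Nat.card (P1 : Subgroup G) := by
      by_contra hge
      push Not at hge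
      exact hD1.ne (Subgroup.eq_of_le_of_card_ge hD1.le hge)
    rw [hb, ha, hb'] at *
    have hp1 : 1 < p := (Fact.out : p.Prime).one_lt
    have hab : a < b := (Nat.pow_lt_pow_iff_right hp1).mp hlt
    calc p * p ^ a = p ^ (a + 1) := by rw [pow_succ]; ring
      _ ≤ p ^ b := Nat.pow_le_pow_right (by omega) hab
  rw [hUcard]
  refine le_trans ?_ hcount
  have hle : Nat.card D ≤ Nat.card P := by
    have hp1 : 1 ≤ p := (Fact.out : p.Prime).one_lt.le
    nlinarith
  obtain ⟨c, hc⟩ : ∃ c, Nat.card P = Nat.card D + c := ⟨Nat.card P - Nat.card D, by omega⟩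
  rw [hc] at hpD ⊢
  have e : Nat.card D + c - Nat.card D = c := by omega
  rw [e]
  nlinarith

end Cfsg.Agent.S4092
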