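import Cfsg.Statements.S4093
import Mathlib
-- import your own Cfsg.Agent.* helpers here

set_option autoImplicit false
open scoped BigOperators
open Cfsg

namespace Cfsg.Agent.S4093

open scoped BigOperators

variable {G : Type*} [Group G]

/-- the `N`-class of `x` -/
abbrev O (N : Subgroup G) (x : G) : Type _ := {y : G // ∃ n ∈ N, n * x * n⁻¹ = y}

theorem card_O [Finite G] (N : Subgroup G) (x : G) :
    Nat.card (O N x) * Nat.card ↥(N ⊓ Subgroup.centralizer ({x} : Set G)) = Nat.card N := by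
  have hex : ∀ y : O N x, ∃ n : N, (n : G) * x * (n : G)⁻¹ = y.1 := by
    rintro ⟨y, n, hn, rfl⟩
    exact ⟨⟨n, hn⟩, rfl⟩
  choose ny hny using hex
  rw [← Nat.card_prod]
  let φ : O N x × ↥(N ⊓ Subgroup.centralizer ({x} : Set G)) → N :=
    fun w => ny w.1 * ⟨w.2.1, w.2.2.1⟩
  have hcomm : ∀ c : ↥(N ⊓ Subgroup.centralizer ({x} : Set G)), (c : G) * x * (c : G)⁻¹ = x := by
    intro c
    have := (Subgroup.mem_centralizer_iff.mp c.2.2) x (Set.mem_singleton _)
    rw [← this]; group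
  have key : ∀ w, ((φ w : N) : G) * x * ((φ w : N) : G)⁻¹ = w.1.1 := by
    intro w
    have e : ((φ w : N) : G) = (ny w.1 : G) * (w.2 : G) := rfl
    rw [e]
    have e2 : (ny w.1 : G) * (w.2 : G) * x * ((ny w.1 : G) * (w.2 : G))⁻¹ =
        (ny w.1 : G) * ((w.2 : G) * x * (w.2 : G)⁻¹) * (ny w.1 : G)⁻¹ := by group
    rw [e2, hcomm, hny]
  apply Nat.card_congr
  apply Equiv.ofBijective φ
  constructor
  · rintro ⟨y, c⟩ ⟨y', c'⟩ h
    have h1 : y = y' := by
      apply Subtype.ext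
      rw [← key (y, c), ← key (y', c'), h]
    subst h1
    have h2 : c = c' := by
      have : (ny y : N) * ⟨c.1, c.2.1⟩ = (ny y : N) * ⟨c'.1, c'.2.1⟩ := h
      have := mul_left_cancel this
      apply Subtype.ext
      exact congrArg (fun z : N => (z : G)) this
    rw [h2]
  · intro n
    let y : O N x := ⟨(n : G) * x * (n : G)⁻¹, n, n.2, rfl⟩
    have hc : ((ny y)⁻¹ * n : N).1 ∈ N ⊓ Subgroup.centralizer ({x} : Set G) := by
      refine ⟨((ny y)⁻¹ * n).2, ?_⟩
      apply Subgroup.mem_centralizer_iff.mpr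
      intro z hz
      rw [Set.mem_singleton_iff] at hz
      subst hz
      have h1 := hny y
      have h2 : (ny y : G) * z * (ny y : G)⁻¹ = (n : G) * z * (n : G)⁻¹ := h1
      have e : (((ny y)⁻¹ * n : N) : G) = (ny y : G)⁻¹ * (n : G) := rfl
      rw [e]
      have h3 : z = (ny y : G)⁻¹ * ((n : G) * z * (n : G)⁻¹) * (ny y : G) := by
        rw [← h2]; group
      calc z * ((ny y : G)⁻¹ * (n : G))
          = ((ny y : G)⁻¹ * ((n : G) * z * (n : G)⁻¹) * (ny y : G)) * ((ny y : G)⁻¹ * (n : G)) := by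
            rw [← h3]
        _ = (ny y : G)⁻¹ * (n : G) * z := by group
    refine ⟨(y, ⟨_, hc⟩), ?_⟩
    apply Subtype.ext
    show (ny y : G) * ((ny y : G)⁻¹ * (n : G)) = (n : G)
    group

/-- Let G be a finite group with a normal subgroup N complementing a Sylow p-subgroup P (a normal p-complement). Then the number of elements of G of p-power order equals the sum over x ∈ P of the index of C_N(x) in N. -/
theorem result {G : Type*} [Group G] [Finite G] (p : ℕ) [Fact p.Prime]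
    (P : Sylow p G) (N : Subgroup G) [N.Normal] (hNP : N.IsComplement' (P : Subgroup G)) :
    Nat.card {g : G // ∃ k : ℕ, orderOf g = p ^ k} =
      ∑ᶠ x : (P : Subgroup G), Nat.card N / Nat.card ↥(N ⊓ Subgroup.centralizer ({(x : G)} : Set G)) := by
  classical
  have hNn : N.Normal := inferInstance
  have hdisj : ∀ y : G, y ∈ N → y ∈ (P : Subgroup G) → y = 1 := by
    intro y hyN hyP
    have := hNP.disjoint
    rw [Subgroup.disjoint_def] at this
    exact this hyN hyP
  have huniq : ∀ (x x' : (P : Subgroup G)) (n n' : G), n ∈ N → n' ∈ N →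
      n * (x : G) * n⁻¹ = n' * (x' : G) * n'⁻¹ → x = x' := by
    intro x x' n n' hn hn' h
    have h1 : n * (x : G) * n⁻¹ * (x : G)⁻¹ ∈ N := by
      have : (x : G) * n⁻¹ * (x : G)⁻¹ ∈ N := hNn.conj_mem _ (N.inv_mem hn) _
      have h2 := N.mul_mem hn this
      have e : n * ((x : G) * n⁻¹ * (x : G)⁻¹) = n * (x : G) * n⁻¹ * (x : G)⁻¹ := by group
      rwa [e] at h2
    have h1' : n' * (x' : G) * n'⁻¹ * (x' : G)⁻¹ ∈ N := by
      have : (x' : G) * n'⁻¹ * (x' : G)⁻¹ ∈ N := hNn.conj_mem _ (N.inv_mem hn') _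
      have h2 := N.mul_mem hn' this
      have e : n' * ((x' : G) * n'⁻¹ * (x' : G)⁻¹) = n' * (x' : G) * n'⁻¹ * (x' : G)⁻¹ := by group
      rwa [e] at h2
    rw [h] at h1
    have h3 : (x' : G) * (x : G)⁻¹ ∈ N := by
      have := N.mul_mem (N.inv_mem h1') h1
      have e : (n' * (x' : G) * n'⁻¹ * (x' : G)⁻¹)⁻¹ * (n' * (x' : G) * n'⁻¹ * (x : G)⁻¹) =
          (x' : G) * (x : G)⁻¹ := by group
      rwa [e] at this
    have h4 : (x' : G) * (x : G)⁻¹ ∈ (P : Subgroup G) :=
      (P : Subgroup G).mul_mem x'.2 ((P : Subgroup G).inv_mem x.2)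
    have h5 := hdisj _ h3 h4
    apply Subtype.ext
    have := mul_inv_eq_one.mp h5
    exact this.symm
  have hexists : ∀ g : {g : G // ∃ k : ℕ, orderOf g = p ^ k},
      ∃ x : (P : Subgroup G), ∃ n ∈ N, n * (x : G) * n⁻¹ = g.1 := by
    rintro ⟨g, k, hk⟩
    have hpg : IsPGroup p (Subgroup.zpowers g) := by
      apply IsPGroup.of_card (n := k)
      rw [Nat.card_zpowers, hk]
    obtain ⟨Q, hQ⟩ := hpg.exists_le_sylow
    obtain ⟨c, hc⟩ := MulAction.exists_smul_eq G P Q
    have hx : g ∈ (Q : Subgroup G) := hQ (Subgroup.mem_zpowers g)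
    rw [← hc, Sylow.coe_subgroup_smul, Subgroup.mem_pointwise_smul_iff_inv_smul_mem] at hx
    have h3 : (MulAut.conj c)⁻¹ • g = c⁻¹ * g * c := by
      simp [MulAut.smul_def]
    rw [h3] at hx
    obtain ⟨⟨n, x0⟩, hnx, _⟩ := (Subgroup.isComplement'_def.mp hNP).existsUnique c
    simp only at hnx
    refine ⟨⟨(x0 : G) * (c⁻¹ * g * c) * (x0 : G)⁻¹,
      (P : Subgroup G).mul_mem ((P : Subgroup G).mul_mem x0.2 hx) ((P : Subgroup G).inv_mem x0.2)⟩,
      n.1, n.2, ?_⟩
    simp only
    rw [← hnx]; group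
  have hpel : ∀ (x : (P : Subgroup G)) (y : O N (x : G)), ∃ k : ℕ, orderOf y.1 = p ^ k := by
    rintro x ⟨y, n, hn, rfl⟩
    obtain ⟨k, hk⟩ := (IsPGroup.iff_orderOf.mp P.2) x
    refine ⟨k, ?_⟩
    have e : orderOf (n * (x : G) * n⁻¹) = orderOf (x : G) := by
      have := orderOf_injective (MulAut.conj n).toMonoidHom (MulAut.conj n).injective (x : G)
      simpa using this
    simp only
    rw [e, ← hk, Subgroup.orderOf_coe]
  have hcard : Nat.card {g : G // ∃ k : ℕ, orderOf g = p ^ k} =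
      Nat.card (Σ x : (P : Subgroup G), O N (x : G)) := by
    apply le_antisymm
    · choose xg hxg using hexists
      let φ : {g : G // ∃ k : ℕ, orderOf g = p ^ k} → (Σ x : (P : Subgroup G), O N (x : G)) :=
        fun g => ⟨xg g, ⟨g.1, hxg g⟩⟩
      apply Nat.card_le_card_of_injective φ
      intro g g' h
      apply Subtype.ext
      have : (φ g).2.1 = (φ g').2.1 := by rw [h]
      exact this
    · let ψ : (Σ x : (P : Subgroup G), O N (x : G)) → {g : G // ∃ k : ℕ, orderOf g = p ^ k} :=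
        fun w => ⟨w.2.1, hpel w.1 w.2⟩
      apply Nat.card_le_card_of_injective ψ
      rintro ⟨x, y, n, hn, hy⟩ ⟨x', y', n', hn', hy'⟩ h
      have hyy : y = y' := congrArg Subtype.val h
      subst hyy
      have hxx : x = x' := huniq x x' n n' hn hn' (hy.trans hy'.symm)
      subst hxx
      rfl
  have := Fintype.ofFinite (P : Subgroup G)
  rw [hcard, Nat.card_sigma, finsum_eq_sum_of_fintype]
  apply Finset.sum_congr rfl
  intro x _
  have h1 := card_O N (x : G)
  rw [← h1, Nat.mul_div_cancel _ Nat.card_pos]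

end Cfsg.Agent.S4093
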