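import Cfsg.Statements.S4097
import Cfsg.Agent.S0042
import Cfsg.Agent.Lib.Helper96.Frobenius
import Cfsg.Agent.Lib.Helper29.SolvSup

set_option autoImplicit false
open Cfsg

namespace Cfsg.Agent.S4097

open Subgroup
open scoped Pointwise

universe u

/-- Membership in a conjugate. -/
theorem mem_conj_smul {G : Type*} [Group G] (H : Subgroup G) (g x : G) :
    x ∈ MulAut.conj g • H ↔ g⁻¹ * x * g ∈ H := by
  rw [Subgroup.mem_pointwise_smul_iff_inv_smul_mem, MulAut.smul_def, ← map_inv,
    MulAut.conj_apply, inv_inv]

theorem card_conj_smul {G : Type*} [Group G] (H : Subgroup G) (g : G) :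
    Nat.card (MulAut.conj g • H : Subgroup G) = Nat.card H := by
  rw [Subgroup.pointwise_smul_def]
  apply Subgroup.card_map_of_injective
  intro x y hxy
  exact (MulAut.conj g).injective hxy

theorem main_aux : ∀ (n : ℕ) (G : Type u) [Group G] [Finite G], Nat.card G = n →
    ∀ (A : Subgroup G), Group.IsSolvable A →
    (∀ S : Subgroup G, A ≤ S → Group.IsSolvable S → ∀ a ∈ A, ∀ s ∈ S, a * s = s * a) →
    A ≤ Subgroup.center G := by
  intro n
  induction n using Nat.strong_induction_on with
  | _ n ih =>
  intro G _ _ hcard A hA hc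
  by_contra hnc
  -- F0: A is commutative
  have hAcomm : ∀ a ∈ A, ∀ b ∈ A, a * b = b * a := fun a ha b hb => hc A le_rfl hA a ha b hb
  obtain ⟨C, hC⟩ : ∃ C : Subgroup G, C = centralizer (A : Set G) := ⟨_, rfl⟩
  have hmemC : ∀ x : G, x ∈ C ↔ ∀ a ∈ A, a * x = x * a := by
    intro x
    rw [hC, Subgroup.mem_centralizer_iff]
    rfl
  have hAC : A ≤ C := fun a ha => (hmemC a).mpr fun b hb => hAcomm b hb a ha
  -- F1: normal solvable subgroups centralize A
  have hF1 : ∀ N : Subgroup G, N.Normal → Group.IsSolvable N → N ≤ C := by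
    intro N hNn hNs x hx
    rw [hmemC]
    intro a ha
    have hsol : Group.IsSolvable (N ⊔ A : Subgroup G) :=
      Cfsg.Agent.Helper29.isSolvable_sup_of_normal N A hNs hA
    exact hc (N ⊔ A) le_sup_right hsol a ha x (le_sup_left (a := N) hx)
  -- F2: proper overgroups of A centralize A
  have hF2 : ∀ H : Subgroup G, A ≤ H → H ≠ ⊤ → H ≤ C := by
    intro H hAH hHtop
    have hlt : Nat.card H < n := by
      rw [← hcard]
      apply lt_of_le_of_ne (Subgroup.card_le_card_group H)
      intro h
      exact hHtop (Subgroup.eq_top_of_card_eq H h)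
    have hA' : Group.IsSolvable (A.subgroupOf H) := by
      have := hA
      exact Group.isSolvable_of_isSolvable_injective
        (f := (Subgroup.subgroupOfEquivOfLe hAH).toMonoidHom)
        (Subgroup.subgroupOfEquivOfLe hAH).injective
    have hc' : ∀ S : Subgroup H, A.subgroupOf H ≤ S → Group.IsSolvable S →
        ∀ a ∈ A.subgroupOf H, ∀ s ∈ S, a * s = s * a := by
      intro S hAS hS a ha s hs
      have hS' : Group.IsSolvable (S.map H.subtype) := by
        have := hS
        exact Group.isSolvable_of_surjective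
          (f := (S.equivMapOfInjective H.subtype H.subtype_injective).toMonoidHom)
          (S.equivMapOfInjective H.subtype H.subtype_injective).surjective
      have hAS' : A ≤ S.map H.subtype := by
        intro b hb
        refine ⟨⟨b, hAH hb⟩, hAS ?_, rfl⟩
        rw [Subgroup.mem_subgroupOf]
        exact hb
      have h1 := hc (S.map H.subtype) hAS' hS' (a : G) (Subgroup.mem_subgroupOf.mp ha) (s : G)
        ⟨s, hs, rfl⟩
      exact Subtype.ext h1
    have h2 := ih (Nat.card H) hlt H rfl (A.subgroupOf H) hA' hc'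
    intro h hh
    rw [hmemC]
    intro a ha
    have h3 : (⟨a, hAH ha⟩ : H) ∈ Subgroup.center H := h2 (Subgroup.mem_subgroupOf.mpr ha)
    have h4 := (Subgroup.mem_center_iff.mp h3) ⟨h, hh⟩
    exact (congrArg Subtype.val h4).symm
  -- F4: C ≠ ⊤
  have hCtop : C ≠ ⊤ := by
    intro h
    apply hnc
    intro a ha
    rw [Subgroup.mem_center_iff]
    intro g
    have : g ∈ C := h ▸ Subgroup.mem_top g
    exact ((hmemC g).mp this a ha).symm
  -- helper: if a solvable subgroup contains A and g then g ∈ C
  have hkey : ∀ (S : Subgroup G), A ≤ S → Group.IsSolvable S → S ≤ C := by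
    intro S hAS hS s hs
    rw [hmemC]
    intro a ha
    exact hc S hAS hS a ha s hs
  -- F3: the centre is trivial
  have hZ : Subgroup.center G = ⊥ := by
    by_contra hZne
    obtain ⟨Z, hZdef⟩ : ∃ Z : Subgroup G, Z = Subgroup.center G := ⟨_, rfl⟩
    have hZn : Z.Normal := hZdef ▸ inferInstance
    have hZs : Group.IsSolvable Z := by
      apply Cfsg.Agent.Helper29.isSolvable_of_forall_comm
      intro x hx y hy
      rw [hZdef, Subgroup.mem_center_iff] at hx
      exact (hx y).symm
    have hlt : Nat.card (G ⧸ Z) < n := by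
      rw [← hcard, ← Subgroup.index_eq_card, ← Subgroup.card_mul_index Z]
      have h1 : 1 < Nat.card Z := by
        rw [Subgroup.one_lt_card_iff_ne_bot, hZdef]
        exact hZne
      have h2 : 0 < Z.index := Nat.pos_of_ne_zero Subgroup.index_ne_zero_of_finite
      nlinarith
    obtain ⟨Ab, hAb⟩ : ∃ Ab : Subgroup (G ⧸ Z), Ab = A.map (QuotientGroup.mk' Z) := ⟨_, rfl⟩
    have hAbs : Group.IsSolvable Ab := by
      rw [hAb]
      have := hA
      exact Group.isSolvable_of_surjective
        (MonoidHom.subgroupMap_surjective (QuotientGroup.mk' Z) A)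
    have hcb : ∀ S : Subgroup (G ⧸ Z), Ab ≤ S → Group.IsSolvable S →
        ∀ a ∈ Ab, ∀ s ∈ S, a * s = s * a := by
      intro S hAS hS a ha s hs
      rw [hAb] at ha
      obtain ⟨a0, ha0, rfl⟩ := ha
      obtain ⟨s0, rfl⟩ := QuotientGroup.mk'_surjective Z s
      have hsol := Cfsg.Agent.Helper29.isSolvable_comap_mk' Z hZs S hS
      have hAle : A ≤ S.comap (QuotientGroup.mk' Z) := by
        intro b hb
        rw [Subgroup.mem_comap]
        exact hAS (hAb ▸ Subgroup.mem_map_of_mem _ hb)
      have h1 := hc _ hAle hsol a0 ha0 s0 (Subgroup.mem_comap.mpr hs)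
      rw [← map_mul, ← map_mul, h1]
    have h2 := ih (Nat.card (G ⧸ Z)) hlt (G ⧸ Z) rfl Ab hAbs hcb
    -- now every g lies in C
    apply hCtop
    rw [eq_top_iff]
    intro g _
    obtain ⟨T, hT⟩ : ∃ T : Subgroup (G ⧸ Z), T = Ab ⊔ zpowers ((QuotientGroup.mk' Z) g) :=
      ⟨_, rfl⟩
    have hAbn : Ab.Normal := by
      constructor
      intro x hx y
      have hxc : x ∈ Subgroup.center (G ⧸ Z) := h2 hx
      rw [Subgroup.mem_center_iff] at hxc
      have : y * x * y⁻¹ = x := by
        rw [hxc y, mul_inv_cancel_right]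
      rw [this]
      exact hx
    have hTs : Group.IsSolvable T := by
      rw [hT]
      exact Cfsg.Agent.Helper29.isSolvable_sup_of_normal Ab _ hAbs
        (Cfsg.Agent.Helper29.isSolvable_zpowers _)
    have hsol := Cfsg.Agent.Helper29.isSolvable_comap_mk' Z hZs T hTs
    have hAle : A ≤ T.comap (QuotientGroup.mk' Z) := by
      intro b hb
      rw [Subgroup.mem_comap, hT]
      exact le_sup_left (a := Ab) (hAb ▸ Subgroup.mem_map_of_mem _ hb)
    have hg : g ∈ T.comap (QuotientGroup.mk' Z) := by
      rw [Subgroup.mem_comap, hT]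
      exact le_sup_right (a := Ab) (Subgroup.mem_zpowers _)
    exact hkey _ hAle hsol hg
  -- F5: C is not normal, hence self-normalizing
  have hCnn : ¬ C.Normal := by
    intro hCn
    obtain ⟨B, hB⟩ : ∃ B : Subgroup G, B = C ⊓ centralizer (C : Set G) := ⟨_, rfl⟩
    have hBn : B.Normal := by
      rw [hB]
      exact Subgroup.normal_inf_normal _ _
    have hBs : Group.IsSolvable B := by
      apply Cfsg.Agent.Helper29.isSolvable_of_forall_comm
      intro x hx y hy
      rw [hB] at hx hy
      have h1 := (Subgroup.mem_centralizer_iff.mp (Subgroup.mem_inf.mp hy).2) x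
        (Subgroup.mem_inf.mp hx).1
      exact h1
    have hAB : A ≤ B := by
      intro a ha
      rw [hB]
      refine Subgroup.mem_inf.mpr ⟨hAC ha, ?_⟩
      rw [Subgroup.mem_centralizer_iff]
      intro c hc'
      exact ((hmemC c).mp hc' a ha).symm
    apply hCtop
    rw [eq_top_iff]
    intro g _
    have hsol : Group.IsSolvable (B ⊔ zpowers g : Subgroup G) :=
      Cfsg.Agent.Helper29.isSolvable_sup_of_normal B _ hBs
        (Cfsg.Agent.Helper29.isSolvable_zpowers g)
    exact hkey _ (hAB.trans le_sup_left) hsol (le_sup_right (a := B) (Subgroup.mem_zpowers g))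
  have hNC : normalizer (C : Set G) ≤ C := by
    apply hF2 _ (hAC.trans Subgroup.le_normalizer)
    intro h
    exact hCnn (Subgroup.normalizer_eq_top_iff.mp h)
  -- F6: two distinct conjugates of A generate G
  have hF6 : ∀ g : G, g ∉ C → A ⊔ MulAut.conj g • A = ⊤ := by
    intro g hg
    by_contra hne
    have h1 : A ⊔ MulAut.conj g • A ≤ C := hF2 _ le_sup_left hne
    have h2 : MulAut.conj g • A ≤ C := le_sup_right.trans h1
    have h3 : A ≤ MulAut.conj g • C := by
      intro a ha
      rw [mem_conj_smul, hmemC]
      intro b hb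
      have hb' : g * b * g⁻¹ ∈ MulAut.conj g • A := by
        rw [mem_conj_smul]
        have : g⁻¹ * (g * b * g⁻¹) * g = b := by group
        rw [this]
        exact hb
      have h4 := (hmemC _).mp (h2 hb') a ha
      -- h4 : a * (g b g⁻¹) = (g b g⁻¹) * a
      calc b * (g⁻¹ * a * g) = g⁻¹ * ((g * b * g⁻¹) * a) * g := by group
        _ = g⁻¹ * (a * (g * b * g⁻¹)) * g := by rw [h4]
        _ = g⁻¹ * a * g * b := by group
    have h5 : MulAut.conj g • C ≠ ⊤ := by
      intro h
      apply hCtop
      apply Subgroup.eq_top_of_card_eq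
      rw [← card_conj_smul C g, h, Subgroup.card_top]
    have h6 : MulAut.conj g • C ≤ C := hF2 _ h3 h5
    have h7 : MulAut.conj g • C = C :=
      Subgroup.eq_of_le_of_card_ge h6 (card_conj_smul C g).ge
    apply hg
    apply hNC
    rw [Subgroup.mem_normalizer_iff]
    intro h
    constructor
    · intro hh
      rw [← h7, mem_conj_smul]
      have : g⁻¹ * (g * h * g⁻¹) * g = h := by group
      rw [this]
      exact hh
    · intro hh
      rw [← h7, mem_conj_smul] at hh
      have : g⁻¹ * (g * h * g⁻¹) * g = h := by group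
      rwa [this] at hh
  -- F7: C is a Frobenius complement
  have hFrob : Cfsg.IsFrobeniusComplement C := by
    refine ⟨?_, hCtop, ?_⟩
    · intro h
      apply hnc
      have : A = ⊥ := le_bot_iff.mp (h ▸ hAC)
      rw [this]
      exact bot_le
    · intro g hg
      rw [eq_bot_iff]
      intro x hx
      obtain ⟨hx1, hx2⟩ := Subgroup.mem_inf.mp hx
      rw [Subgroup.mem_bot]
      have hxc : x ∈ Subgroup.center G := by
        have h1 : A ≤ centralizer ({x} : Set G) := by
          intro a ha
          rw [Subgroup.mem_centralizer_iff]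
          intro y hy
          rw [Set.mem_singleton_iff.mp hy]
          exact ((hmemC x).mp hx1 a ha).symm
        have h2 : MulAut.conj g • A ≤ centralizer ({x} : Set G) := by
          intro a ha
          rw [mem_conj_smul] at ha
          rw [mem_conj_smul, hmemC] at hx2
          rw [Subgroup.mem_centralizer_iff]
          intro y hy
          rw [Set.mem_singleton_iff.mp hy]
          have h3 := hx2 _ ha
          -- h3 : (g⁻¹ a g) * (g⁻¹ x g) = (g⁻¹ x g) * (g⁻¹ a g)
          calc x * a = g * ((g⁻¹ * x * g) * (g⁻¹ * a * g)) * g⁻¹ := by group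
            _ = g * ((g⁻¹ * a * g) * (g⁻¹ * x * g)) * g⁻¹ := by rw [h3]
            _ = a * x := by group
        have h3 : (⊤ : Subgroup G) ≤ centralizer ({x} : Set G) := by
          rw [← hF6 g hg]
          exact sup_le h1 h2
        rw [Subgroup.mem_center_iff]
        intro y
        have := Subgroup.mem_centralizer_iff.mp (h3 (Subgroup.mem_top y)) x rfl
        exact this.symm
      rw [hZ] at hxc
      exact Subgroup.mem_bot.mp hxc
  -- F8: contradiction from the Frobenius kernel
  obtain ⟨K, hKset, hKn, hKnil⟩ := Cfsg.Agent.S0042.result C hFrob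
  have hKs : Group.IsSolvable K := by
    have := hKnil
    infer_instance
  have hKC : K ≤ C := hF1 K hKn hKs
  have hKbot : ∀ x ∈ K, x = 1 := by
    intro x hx
    have hx' : x ∈ Cfsg.frobeniusKernel C := by
      rw [← hKset]
      exact hx
    rcases hx' with h | h
    · exact h
    · exfalso
      apply h 1
      rw [mem_conj_smul]
      simpa using hKC hx
  have hcardK : Nat.card (Cfsg.frobeniusKernel C) = 1 := by
    rw [← hKset]
    have : K = ⊥ := by
      rw [eq_bot_iff]
      intro x hx
      exact Subgroup.mem_bot.mpr (hKbot x hx)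
    rw [this]
    simp
  rw [Cfsg.Agent.Helper96.card_frobeniusKernel hFrob] at hcardK
  exact hCtop (Subgroup.index_eq_one.mp hcardK)

/-- Let A be a solvable subgroup of a finite group G such that A lies in the centre of every solvable subgroup of G containing A. Then A lies in the centre of G. -/
theorem result {G : Type*} [Group G] [Finite G]
    (A : Subgroup G) (hA : Group.IsSolvable A)
    (hc : ∀ S : Subgroup G, A ≤ S → Group.IsSolvable S → ∀ a ∈ A, ∀ s ∈ S, a * s = s * a) : A ≤ Subgroup.center G :=
  main_aux (Nat.card G) G rfl A hA hc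

end Cfsg.Agent.S4097
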