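import Cfsg.Statements.S4107

set_option autoImplicit false
open Cfsg

namespace Cfsg.Agent.S4107

variable {G : Type*} [Group G] [Finite G]

/-- If a normal `p`-subgroup `T` is not inside `N`, then `N` is a `p`-group. -/
theorem isPGroup_of_not_le (N : Subgroup G) [N.Normal]
    (heq : ∀ x : G, x ∉ N → ∀ n ∈ N, orderOf (x * n) = orderOf x)
    (p : ℕ) [Fact p.Prime] (T : Subgroup G) [T.Normal] (hT : IsPGroup p T) (hTN : ¬ T ≤ N) :
    IsPGroup p N := by
  obtain ⟨x, hxT, hxN⟩ := SetLike.not_le_iff_exists.mp hTN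
  obtain ⟨a, ha⟩ := hT ⟨x, hxT⟩
  have ha' : x ^ (p ^ a) = 1 := by
    have := congrArg Subtype.val ha
    simpa using this
  intro n
  have h1 : orderOf (x * (n : G)) = orderOf x := heq x hxN n n.2
  have h2 : (x * (n : G)) ^ (p ^ a) = 1 := by
    rw [← orderOf_dvd_iff_pow_eq_one, h1, orderOf_dvd_iff_pow_eq_one]; exact ha'
  have h3 : ((n : G)) ^ (p ^ a) ∈ T := by
    have hq : ((QuotientGroup.mk (x * (n : G)) : G ⧸ T)) ^ (p ^ a) = 1 := by
      rw [← QuotientGroup.mk_pow, h2]; rfl
    have hx1 : (QuotientGroup.mk x : G ⧸ T) = 1 := (QuotientGroup.eq_one_iff x).mpr hxT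
    rw [QuotientGroup.mk_mul, hx1, one_mul, ← QuotientGroup.mk_pow] at hq
    exact (QuotientGroup.eq_one_iff _).mp hq
  obtain ⟨b, hb⟩ := hT ⟨_, h3⟩
  have hb' : ((n : G) ^ (p ^ a)) ^ (p ^ b) = 1 := by
    have := congrArg Subtype.val hb
    simpa using this
  refine ⟨a + b, ?_⟩
  apply Subtype.ext
  rw [pow_add, pow_mul]
  simpa using hb'

/-- A subgroup containing all Sylow subgroups is everything. -/
theorem eq_top_of_sylow_le {K : Type*} [Group K] [Finite K] (M : Subgroup K)
    (h : ∀ (q : ℕ) [Fact q.Prime] (Q : Sylow q K), (Q : Subgroup K) ≤ M) : M = ⊤ := by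
  apply Subgroup.eq_top_of_card_eq
  apply Nat.dvd_antisymm (Subgroup.card_subgroup_dvd_card M)
  rw [← Nat.factorization_prime_le_iff_dvd Nat.card_pos.ne' Nat.card_pos.ne']
  intro q hq
  have : Fact q.Prime := ⟨hq⟩
  obtain ⟨Q⟩ : Nonempty (Sylow q K) := inferInstance
  have h1 : Nat.card Q ∣ Nat.card M := Subgroup.card_dvd_of_le (h q Q)
  rw [Sylow.card_eq_multiplicity] at h1
  exact (hq.pow_dvd_iff_le_factorization Nat.card_pos.ne').mp h1

/-- If the Fitting subgroup is not inside `N`, there is a prime `p` and a normal `p`-subgroup not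
inside `N`. -/
theorem exists_normal_pgroup_not_le (N : Subgroup G) (hF : ¬ Cfsg.fittingSubgroup G ≤ N) :
    ∃ (p : ℕ) (_ : Fact p.Prime) (T : Subgroup G), T.Normal ∧ IsPGroup p T ∧ ¬ T ≤ N := by
  have : ∃ K ∈ {K : Subgroup G | K.Normal ∧ Group.IsNilpotent K}, ¬ K ≤ N := by
    by_contra hcon
    push Not at hcon
    exact hF (sSup_le hcon)
  obtain ⟨K, ⟨hKn, hKnil⟩, hKN⟩ := this
  have := hKn
  have := hKnil
  by_contra hcon
  push Not at hcon
  apply hKN
  have hM : N.subgroupOf K = ⊤ := by
    apply eq_top_of_sylow_le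
    intro q _ Q
    have : (Q : Subgroup K).Characteristic := Sylow.characteristic_of_normal Q inferInstance
    have hnorm : ((Q : Subgroup K).map K.subtype).Normal := inferInstance
    have hpg : IsPGroup q ((Q : Subgroup K).map K.subtype) := Q.2.map K.subtype
    have := hcon q inferInstance _ hnorm hpg
    intro y hy
    rw [Subgroup.mem_subgroupOf]
    exact this (Subgroup.mem_map_of_mem _ hy)
  exact Subgroup.subgroupOf_eq_top.mp hM

theorem normal_pgroup_le_sylow (p : ℕ) [Fact p.Prime] (P : Sylow p G) (K : Subgroup G)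
    [hKn : K.Normal] (hK : IsPGroup p K) : K ≤ P := by
  obtain ⟨Q, hQ⟩ := hK.exists_le_sylow
  obtain ⟨g, rfl⟩ := MulAction.exists_smul_eq G Q P
  intro x hx
  rw [Sylow.coe_subgroup_smul, Subgroup.mem_pointwise_smul_iff_inv_smul_mem]
  apply hQ
  have := hKn.conj_mem x hx g⁻¹
  simpa [MulAut.smul_def] using this

theorem result {G : Type*} [Group G] [Finite G] (N : Subgroup G) [N.Normal] (hN1 : N ≠ ⊥) (hN2 : N ≠ ⊤)
    (heq : ∀ x : G, x ∉ N → ∀ n ∈ N, orderOf (x * n) = orderOf x) :
    (N ≤ Cfsg.fittingSubgroup G ∨ Cfsg.fittingSubgroup G ≤ N) ∧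
    (N < Cfsg.fittingSubgroup G → IsPrimePow (Nat.card (Cfsg.fittingSubgroup G))) := by
  have key : ¬ Cfsg.fittingSubgroup G ≤ N → ∃ (p : ℕ) (_ : Fact p.Prime), IsPGroup p N := by
    intro hF
    obtain ⟨p, hp, T, hTn, hTp, hTN⟩ := exists_normal_pgroup_not_le N hF
    exact ⟨p, hp, isPGroup_of_not_le N heq p T hTp hTN⟩
  constructor
  · by_cases hF : Cfsg.fittingSubgroup G ≤ N
    · exact Or.inr hF
    · left
      obtain ⟨p, hp, hNp⟩ := key hF
      have : Group.IsNilpotent N := hNp.isNilpotent
      exact le_sSup (show N ∈ {K : Subgroup G | K.Normal ∧ Group.IsNilpotent K} from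
        ⟨inferInstance, this⟩)
  · intro hlt
    have hF : ¬ Cfsg.fittingSubgroup G ≤ N := not_le_of_gt hlt
    obtain ⟨p, hp, hNp⟩ := key hF
    obtain ⟨P⟩ : Nonempty (Sylow p G) := inferInstance
    have hFP : Cfsg.fittingSubgroup G ≤ P := by
      apply sSup_le
      rintro K ⟨hKn, hKnil⟩
      have hKp : IsPGroup p K := by
        obtain ⟨k, hk⟩ : ∃ k, Nat.card K = p ^ k := by
          refine ⟨_, Nat.eq_prime_pow_of_unique_prime_dvd Nat.card_pos.ne' ?_⟩
          intro q hq hqK
          by_contra hqp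
          have hqf : Fact q.Prime := ⟨hq⟩
          obtain ⟨Q⟩ : Nonempty (Sylow q K) := inferInstance
          have hchar : (Q : Subgroup K).Characteristic :=
            Sylow.characteristic_of_normal Q inferInstance
          have hnorm : ((Q : Subgroup K).map K.subtype).Normal := inferInstance
          have hpg : IsPGroup q ((Q : Subgroup K).map K.subtype) := Q.2.map K.subtype
          have hQne : (Q : Subgroup K) ≠ ⊥ := Sylow.ne_bot_of_dvd_card Q hqK
          by_cases hle : (Q : Subgroup K).map K.subtype ≤ N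
          · -- a q-group inside a p-group is trivial
            have h1 : IsPGroup p ((Q : Subgroup K).map K.subtype) := hNp.to_le hle
            have h2 : (Q : Subgroup K).map K.subtype = ⊥ := by
              rw [← Subgroup.card_eq_one]
              obtain ⟨a, ha⟩ := IsPGroup.iff_card.mp h1
              obtain ⟨b, hb⟩ := IsPGroup.iff_card.mp hpg
              have hcop : Nat.Coprime (p ^ a) (q ^ b) :=
                Nat.Coprime.pow _ _ ((Nat.coprime_primes hp.out hq).mpr (Ne.symm hqp))
              rw [← ha, ← hb] at hcop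
              exact (Nat.coprime_self _).mp hcop
            apply hQne
            exact (Subgroup.map_eq_bot_iff_of_injective _ K.subtype_injective).mp h2
          · have hNq : IsPGroup q N := isPGroup_of_not_le N heq q _ hpg hle
            apply hN1
            rw [← Subgroup.card_eq_one]
            obtain ⟨a, ha⟩ := IsPGroup.iff_card.mp hNp
            obtain ⟨b, hb⟩ := IsPGroup.iff_card.mp hNq
            have hcop : Nat.Coprime (p ^ a) (q ^ b) :=
              Nat.Coprime.pow _ _ ((Nat.coprime_primes hp.out hq).mpr (Ne.symm hqp))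
            rw [← ha, ← hb] at hcop
            exact (Nat.coprime_self _).mp hcop
        exact IsPGroup.of_card hk
      exact normal_pgroup_le_sylow p P K hKp
    have hFp : IsPGroup p (Cfsg.fittingSubgroup G) := P.2.to_le hFP
    obtain ⟨k, hk⟩ := IsPGroup.iff_card.mp hFp
    rw [hk]
    have hk0 : k ≠ 0 := by
      rintro rfl
      rw [pow_zero, Subgroup.card_eq_one] at hk
      rw [hk] at hlt
      exact not_lt_bot hlt
    exact hp.out.isPrimePow.pow hk0

end Cfsg.Agent.S4107
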