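import Cfsg.Statements.S4112
import Mathlib
-- import your own Cfsg.Agent.* helpers here

set_option autoImplicit false
open Cfsg

namespace Cfsg.Agent.S4112

universe u

/-- Case B: no proper supplement of `N` forces `M = ⊥`. -/
theorem eq_bot_of_no_supplement {G : Type u} [Group G] [Finite G] (N M : Subgroup G) [N.Normal]
    (hcop : N.index.Coprime (Nat.card M))
    (hB : ∀ H : Subgroup G, H ⊔ N = ⊤ → H = ⊤) : M = ⊥ := by
  rw [← Subgroup.card_eq_one]
  by_contra hne
  obtain ⟨q, hq, hqM⟩ := Nat.exists_prime_and_dvd hne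
  have : Fact q.Prime := ⟨hq⟩
  have hqidx : ¬ q ∣ N.index := by
    intro h
    have := Nat.dvd_gcd h hqM
    rw [hcop] at this
    exact hq.one_lt.ne' (Nat.dvd_one.mp this)
  -- a Sylow q-subgroup of G inside N
  obtain ⟨R⟩ : Nonempty (Sylow q N) := inferInstance
  have hfac : (Nat.card G).factorization q = (Nat.card N).factorization q := by
    rw [← Subgroup.card_mul_index N, Nat.factorization_mul Nat.card_pos.ne'
      (Subgroup.index_ne_zero_of_finite), Finsupp.add_apply,
      Nat.factorization_eq_zero_of_not_dvd hqidx, add_zero]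
  have hRcard : Nat.card ((R : Subgroup N).map N.subtype) = q ^ (Nat.card G).factorization q := by
    rw [Subgroup.card_map_of_injective N.subtype_injective, Sylow.card_eq_multiplicity, hfac]
  set Q : Sylow q G := Sylow.ofCard _ hRcard with hQ
  have hQN : (Q : Subgroup G) ≤ N := by
    rintro x ⟨y, _, rfl⟩
    exact y.2
  have h1 : Subgroup.normalizer ((Q : Subgroup G) : Set G) = ⊤ :=
    hB _ (Sylow.normalizer_sup_eq_top' Q hQN)
  have hQn : (Q : Subgroup G).Normal := Subgroup.normalizer_eq_top_iff.mp h1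
  have hQcop : Nat.Coprime (Nat.card (Q : Subgroup G)) (Q : Subgroup G).index := by
    obtain ⟨k, hk⟩ := IsPGroup.iff_card.mp Q.2
    rw [hk]
    apply Nat.Coprime.pow_left
    rw [Nat.Prime.coprime_iff_not_dvd hq]
    exact Q.not_dvd_index
  obtain ⟨L, hL⟩ := Subgroup.exists_right_complement'_of_coprime hQcop
  have hLtop : L = ⊤ := by
    apply hB
    rw [eq_top_iff, ← hL.sup_eq_top]
    rw [sup_comm]
    exact sup_le_sup_left hQN L
  have hQbot : (Q : Subgroup G) = ⊥ := by
    have := hL.disjoint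
    rw [hLtop, disjoint_top] at this
    exact this
  have hqG : q ∣ Nat.card G := hqM.trans (Subgroup.card_subgroup_dvd_card M)
  exact Sylow.ne_bot_of_dvd_card Q hqG hQbot

theorem exists_supplement : ∀ (n : ℕ) (G : Type u) [Group G] [Finite G], Nat.card G = n →
    ∀ (N M : Subgroup G) [N.Normal] [M.Normal], N.index.Coprime (Nat.card M) →
    ∃ H : Subgroup G, H ⊔ N = ⊤ ∧ H ⊓ M = ⊥ := by
  intro n
  induction n using Nat.strong_induction_on with
  | _ n ih =>
    intro G _ _ hn N M _ _ hcop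
    by_cases hB : ∀ H : Subgroup G, H ⊔ N = ⊤ → H = ⊤
    · refine ⟨⊤, top_sup_eq _, ?_⟩
      rw [eq_bot_of_no_supplement N M hcop hB, inf_bot_eq]
    · push Not at hB
      obtain ⟨H1, hH1N, hH1top⟩ := hB
      have hlt : Nat.card H1 < n := by
        rw [← hn]
        by_contra hge
        push Not at hge
        exact hH1top (Subgroup.eq_top_of_le_card _ hge)
      have hidx : (N.subgroupOf H1).index = N.index := by
        have h1 : (N.subgroupOf H1).index = N.relIndex H1 := rfl
        rw [h1, ← Subgroup.relIndex_sup_right, hH1N, Subgroup.relIndex_top_right]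
      have hcard : Nat.card (M.subgroupOf H1) ∣ Nat.card M := by
        have : Nat.card (M.subgroupOf H1) = Nat.card ↥(M ⊓ H1) := by
          rw [← Subgroup.inf_subgroupOf_right]
          exact Nat.card_congr (Subgroup.subgroupOfEquivOfLe inf_le_right).toEquiv
        rw [this]
        exact Subgroup.card_dvd_of_le inf_le_left
      have hcop1 : (N.subgroupOf H1).index.Coprime (Nat.card (M.subgroupOf H1)) := by
        rw [hidx]
        exact Nat.Coprime.coprime_dvd_right hcard hcop
      obtain ⟨H, hHN, hHM⟩ := ih (Nat.card H1) hlt H1 rfl (N.subgroupOf H1) (M.subgroupOf H1) hcop1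
      refine ⟨H.map H1.subtype, ?_, ?_⟩
      · -- H.map ⊔ N ≥ H1 ⊔ N = ⊤
        rw [eq_top_iff, ← hH1N]
        apply sup_le _ le_sup_right
        intro x hx
        have hx' : (⟨x, hx⟩ : H1) ∈ H ⊔ N.subgroupOf H1 := by rw [hHN]; trivial
        have hmap : (H ⊔ N.subgroupOf H1).map H1.subtype ≤ H.map H1.subtype ⊔ N := by
          rw [Subgroup.map_sup]
          apply sup_le_sup_left
          rintro y ⟨z, hz, rfl⟩
          exact Subgroup.mem_subgroupOf.mp hz
        exact hmap ⟨⟨x, hx⟩, hx', rfl⟩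
      · rw [eq_bot_iff]
        rintro x ⟨⟨y, hy, rfl⟩, hxM⟩
        have : y ∈ H ⊓ M.subgroupOf H1 := ⟨hy, Subgroup.mem_subgroupOf.mpr hxM⟩
        rw [hHM, Subgroup.mem_bot] at this
        rw [Subgroup.mem_bot, this]
        rfl

/-- (1) → (2) -/
theorem coprime_of_fpf {G : Type u} [Group G] [Finite G] (N M : Subgroup G) [N.Normal]
    [hMn : M.Normal]
    (h1 : ∀ x ∈ M, x ≠ 1 → Subgroup.centralizer ({x} : Set G) ≤ N) :
    N.index.Coprime (Nat.card M) := by
  by_contra hnc
  obtain ⟨q, hq, hqN, hqM⟩ := Nat.Prime.not_coprime_iff_dvd.mp hnc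
  have : Fact q.Prime := ⟨hq⟩
  obtain ⟨P⟩ : Nonempty (Sylow q G) := inferInstance
  letI act : MulAction ↥(P : Subgroup G) ↥M :=
    MulAction.compHom ↥M ((MulAut.conjNormal (H := M)).comp (P : Subgroup G).subtype)
  have hsmul : ∀ (u : ↥(P : Subgroup G)) (m : ↥M), ((u • m : ↥M) : G) = (u : G) * m * (u : G)⁻¹ := by
    intro u m
    rfl
  have hfix := P.2.card_modEq_card_fixedPoints ↥M
  have hdvd : q ∣ Nat.card (MulAction.fixedPoints ↥(P : Subgroup G) ↥M) :=
    (Nat.modEq_zero_iff_dvd.mp (hfix.symm.trans (Nat.modEq_zero_iff_dvd.mpr hqM)))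
  have hone : (1 : ↥M) ∈ MulAction.fixedPoints ↥(P : Subgroup G) ↥M := by
    intro u
    apply Subtype.ext
    rw [hsmul]
    simp
  have hcard2 : 1 < Nat.card (MulAction.fixedPoints ↥(P : Subgroup G) ↥M) := by
    have hpos : 0 < Nat.card (MulAction.fixedPoints ↥(P : Subgroup G) ↥M) :=
      Nat.card_pos_iff.mpr ⟨⟨⟨1, hone⟩⟩, inferInstance⟩
    exact lt_of_lt_of_le hq.one_lt (Nat.le_of_dvd hpos hdvd)
  obtain ⟨a, b, hab⟩ := Finite.one_lt_card_iff_nontrivial.mp hcard2
  -- one of a, b is not 1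
  obtain ⟨x, hxne⟩ : ∃ x : MulAction.fixedPoints ↥(P : Subgroup G) ↥M, (x : ↥M) ≠ 1 := by
    by_cases ha : (a : ↥M) = 1
    · refine ⟨b, fun hb => hab ?_⟩
      apply Subtype.ext
      rw [ha, hb]
    · exact ⟨a, ha⟩
  have hxG : ((x : ↥M) : G) ≠ 1 := fun h => hxne (Subtype.ext h)
  have hPle : (P : Subgroup G) ≤ N := by
    intro u hu
    apply h1 _ (x : ↥M).2 hxG
    rw [Subgroup.mem_centralizer_iff]
    intro z hz
    rw [Set.mem_singleton_iff] at hz
    subst hz
    have := x.2 ⟨u, hu⟩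
    have h2 := congrArg (fun m : ↥M => (m : G)) this
    simp only [hsmul] at h2
    -- u x u⁻¹ = x
    calc ((x : ↥M) : G) * u = (u * ((x : ↥M) : G) * u⁻¹) * u := by rw [h2]
      _ = u * ((x : ↥M) : G) := by group
  exact P.not_dvd_index (hqN.trans (Subgroup.index_dvd_of_le hPle))

/-- (2) → (1) -/
theorem fpf_of_coprime {G : Type u} [Group G] [Finite G] (N M : Subgroup G) [N.Normal]
    (hcam : ∀ g : G, g ∉ N → ∀ m ∈ M, ∃ x : G, x * g * x⁻¹ = g * m)
    (hcop : N.index.Coprime (Nat.card M)) :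
    ∀ x ∈ M, x ≠ 1 → Subgroup.centralizer ({x} : Set G) ≤ N := by
  intro x hxM hx1
  by_contra hcon
  have hS : {g : G | g ∈ Subgroup.centralizer ({x} : Set G) ∧ g ∉ N}.Nonempty := by
    obtain ⟨g, hg, hgN⟩ := SetLike.not_le_iff_exists.mp hcon
    exact ⟨g, hg, hgN⟩
  obtain ⟨g, ⟨hgC, hgN⟩, hmin⟩ := (measure (orderOf : G → ℕ)).wf.has_min _ hS
  have hmin' : ∀ g' : G, g' ∈ Subgroup.centralizer ({x} : Set G) → orderOf g' < orderOf g →
      g' ∈ N := by
    intro g' hg'C hlt
    by_contra hg'N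
    exact hmin g' ⟨hg'C, hg'N⟩ hlt
  have hg1 : orderOf g ≠ 1 := by
    intro h
    rw [orderOf_eq_one_iff] at h
    exact hgN (h ▸ N.one_mem)
  obtain ⟨q, hq, hqg⟩ := Nat.exists_prime_and_dvd hg1
  have hpowN : ∀ q' : ℕ, q'.Prime → q' ∣ orderOf g → g ^ q' ∈ N := by
    intro q' hq' hq'g
    apply hmin' _ (Subgroup.pow_mem _ hgC q')
    rw [orderOf_pow_of_dvd hq'.ne_zero hq'g]
    exact Nat.div_lt_self (orderOf_pos g) hq'.one_lt
  have hquot : ∀ q' : ℕ, q'.Prime → q' ∣ orderOf g →
      orderOf (QuotientGroup.mk g : G ⧸ N) ∣ q' := by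
    intro q' hq' hq'g
    apply orderOf_dvd_of_pow_eq_one
    rw [← QuotientGroup.mk_pow]
    exact (QuotientGroup.eq_one_iff _).mpr (hpowN q' hq' hq'g)
  have hquot1 : orderOf (QuotientGroup.mk g : G ⧸ N) ≠ 1 := by
    intro h
    rw [orderOf_eq_one_iff] at h
    exact hgN ((QuotientGroup.eq_one_iff _).mp h)
  have hquotq : orderOf (QuotientGroup.mk g : G ⧸ N) = q :=
    ((Nat.dvd_prime hq).mp (hquot q hq hqg)).resolve_left hquot1
  have hqidx : q ∣ N.index := by
    rw [← hquotq]
    exact orderOf_dvd_natCard _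
  have hpp : orderOf g = q ^ (orderOf g).primeFactorsList.length := by
    apply Nat.eq_prime_pow_of_unique_prime_dvd (orderOf_pos g).ne'
    intro q' hq' hq'g
    have := hquot q' hq' hq'g
    rw [hquotq] at this
    exact ((Nat.prime_dvd_prime_iff_eq hq hq').mp this).symm
  have hcop' : (orderOf g).Coprime (orderOf x) := by
    rw [hpp]
    apply Nat.Coprime.pow_left
    have h1 : q.Coprime (Nat.card M) := Nat.Coprime.coprime_dvd_left hqidx hcop
    have h2 : orderOf x ∣ Nat.card M := by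
      have := orderOf_dvd_natCard (⟨x, hxM⟩ : M)
      rwa [Subgroup.orderOf_mk] at this
    exact Nat.Coprime.coprime_dvd_right h2 h1
  have hcomm : Commute g x := by
    have := (Subgroup.mem_centralizer_iff.mp hgC) x (Set.mem_singleton _)
    exact this.symm
  have h3 := hcomm.orderOf_mul_eq_mul_orderOf_of_coprime hcop'
  obtain ⟨y, hy⟩ := hcam g hgN x hxM
  have h4 : orderOf (g * x) = orderOf g := by
    rw [← hy]
    have := orderOf_injective (MulAut.conj y).toMonoidHom (MulAut.conj y).injective g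
    simpa using this
  rw [h4] at h3
  have h5 : orderOf x = 1 := by
    have hpos := orderOf_pos g
    have : orderOf g * 1 = orderOf g * orderOf x := by rw [mul_one]; exact h3
    exact (Nat.eq_of_mul_eq_mul_left hpos this).symm
  exact hx1 (orderOf_eq_one_iff.mp h5)

/-- Let G be a finite group and M ≤ N non-trivial proper normal subgroups such that for every g outside N the conjugacy class of g is a union of cosets of M (equivalently gm is conjugate to g for every m ∈ M). Then (1) and (2) below are equivalent, and they imply (3): (1) every g outside N acts fixed-point-freely on M, that is C_G(x) ≤ N for every x ∈ M, x ≠ 1; (2) the index of N in G is coprime to the order of M; (3) there is a subgroup H of G with HN = G and H ∩ M = 1. -/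
theorem result {G : Type*} [Group G] [Finite G] (N M : Subgroup G) [N.Normal] [M.Normal] (hMN : M ≤ N) (hM1 : M ≠ ⊥) (hN2 : N ≠ ⊤)
    (hcam : ∀ g : G, g ∉ N → ∀ m ∈ M, ∃ x : G, x * g * x⁻¹ = g * m) :
    ((∀ x ∈ M, x ≠ 1 → Subgroup.centralizer ({x} : Set G) ≤ N) ↔ N.index.Coprime (Nat.card M)) ∧
    ((∀ x ∈ M, x ≠ 1 → Subgroup.centralizer ({x} : Set G) ≤ N) → ∃ H : Subgroup G, H ⊔ N = ⊤ ∧ H ⊓ M = ⊥) := by
  refine ⟨⟨coprime_of_fpf N M, fpf_of_coprime N M hcam⟩, ?_⟩
  intro h1
  exact exists_supplement _ G rfl N M (coprime_of_fpf N M h1)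

end Cfsg.Agent.S4112
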