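import Cfsg.Statements.S4113
-- import your own Cfsg.Agent.* helpers here

set_option autoImplicit false
open Cfsg

namespace Cfsg.Agent.S4113

theorem exists_mul_of_sup_eq_top {G : Type*} [Group G] (H M : Subgroup G) [M.Normal]
    (hHM : H ⊔ M = ⊤) (g : G) : ∃ m ∈ M, ∃ h ∈ H, g = m * h := by
  have hg : g ∈ H ⊔ M := by rw [hHM]; trivial
  rw [sup_comm] at hg
  have : g ∈ ((M ⊔ H : Subgroup G) : Set G) := hg
  rw [Subgroup.normal_mul] at this
  obtain ⟨m, hm, h, hh, rfl⟩ := this
  exact ⟨m, hm, h, hh, rfl⟩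

theorem eq_one_of_mem_of_mem {G : Type*} [Group G] (H M : Subgroup G) (hHM' : H ⊓ M = ⊥)
    {y : G} (hyH : y ∈ H) (hyM : y ∈ M) : y = 1 := by
  have : y ∈ H ⊓ M := ⟨hyH, hyM⟩
  rw [hHM'] at this
  exact Subgroup.mem_bot.mp this

/-- Let G be a finite group, M ≤ N non-trivial proper normal subgroups, and H a subgroup with HM = G and H ∩ M = 1. Then every element of G outside N acts fixed-point-freely on M (C_G(x) ≤ N for every x ∈ M, x ≠ 1) if and only if H ∩ gHg⁻¹ ≤ H ∩ N for every g outside H, with H proper and non-trivial and H ∩ N proper in H. -/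
theorem result {G : Type*} [Group G] [Finite G] (N M : Subgroup G) [N.Normal] [M.Normal] (hMN : M ≤ N) (hM1 : M ≠ ⊥) (hN2 : N ≠ ⊤)
    (H : Subgroup G) (hHM : H ⊔ M = ⊤) (hHM' : H ⊓ M = ⊥) :
    (∀ x ∈ M, x ≠ 1 → Subgroup.centralizer ({x} : Set G) ≤ N) ↔
      (H ≠ ⊥ ∧ H ≠ ⊤ ∧ H ⊓ N < H ∧ ∀ g : G, g ∉ H → H ⊓ H.map (MulAut.conj g).toMonoidHom ≤ N) := by
  have hdec := exists_mul_of_sup_eq_top H M hHM
  have hint : ∀ {y : G}, y ∈ H → y ∈ M → y = 1 := fun hy hy' =>
    eq_one_of_mem_of_mem H M hHM' hy hy'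
  constructor
  · intro hC
    refine ⟨?_, ?_, ?_, ?_⟩
    · rintro rfl
      apply hN2
      rw [bot_sup_eq] at hHM
      rw [hHM] at hMN
      exact top_le_iff.mp hMN
    · rintro rfl
      apply hM1
      rw [top_inf_eq] at hHM'
      exact hHM'
    · refine lt_of_le_of_ne inf_le_left ?_
      intro h
      have hHN : H ≤ N := inf_eq_left.mp h
      apply hN2
      rw [eq_top_iff, ← hHM]
      exact sup_le hHN hMN
    · intro g hg y hy
      obtain ⟨hyH, hyg⟩ := hy
      obtain ⟨m, hm, h, hh, rfl⟩ := hdec g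
      have hm1 : m ≠ 1 := by
        rintro rfl
        apply hg
        simpa using hh
      obtain ⟨h1, hh1, rfl⟩ := hyg
      simp only [MulEquiv.coe_toMonoidHom, MulAut.conj_apply] at hyH ⊢
      -- y = m * (h * h1 * h⁻¹) * m⁻¹
      set h2 := h * h1 * h⁻¹ with hh2
      have hh2H : h2 ∈ H := H.mul_mem (H.mul_mem hh hh1) (H.inv_mem hh)
      have hy_eq : m * h * h1 * (m * h)⁻¹ = m * h2 * m⁻¹ := by
        rw [hh2]; group
      rw [hy_eq] at hyH ⊢
      have hdiff : m * h2 * m⁻¹ * h2⁻¹ = 1 := by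
        apply hint
        · exact H.mul_mem hyH (H.inv_mem hh2H)
        · have : h2 * m⁻¹ * h2⁻¹ ∈ M := ‹M.Normal›.conj_mem _ (M.inv_mem hm) h2
          have h3 : m * (h2 * m⁻¹ * h2⁻¹) ∈ M := M.mul_mem hm this
          have h4 : m * h2 * m⁻¹ * h2⁻¹ = m * (h2 * m⁻¹ * h2⁻¹) := by group
          rw [h4]; exact h3
      have hcomm : m * h2 * m⁻¹ = h2 := by
        have := mul_inv_eq_one.mp hdiff
        exact this
      rw [hcomm]
      have : h2 ∈ Subgroup.centralizer ({m} : Set G) := by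
        rw [Subgroup.mem_centralizer_iff]
        intro z hz
        rw [Set.mem_singleton_iff] at hz
        subst hz
        -- z * h2 = h2 * z
        have : z * h2 * z⁻¹ * z = h2 * z := by rw [hcomm]
        simpa using this
      exact hC m hm hm1 this
  · rintro ⟨hH1, hH2, hHN, hTI⟩ x hxM hx1 c hc
    obtain ⟨m, hm, h, hh, rfl⟩ := hdec c
    by_contra hcN
    have hhN : h ∉ N := by
      intro hhN
      exact hcN (N.mul_mem (hMN hm) hhN)
    -- Claim 1
    have claim1 : ∀ u ∈ M, u * h = h * u → u = 1 := by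
      intro u hu hcomm
      by_contra hu1
      have huH : u ∉ H := fun huH => hu1 (hint huH hu)
      apply hhN
      apply hTI u huH
      refine ⟨hh, h, hh, ?_⟩
      simp only [MulEquiv.coe_toMonoidHom, MulAut.conj_apply]
      rw [hcomm]; group
    -- the map u ↦ u h u⁻¹ h⁻¹
    let f : M → M := fun u => ⟨(u : G) * h * (u : G)⁻¹ * h⁻¹, by
      have : h * (u : G)⁻¹ * h⁻¹ ∈ M := ‹M.Normal›.conj_mem _ (M.inv_mem u.2) h
      have h3 : (u : G) * (h * (u : G)⁻¹ * h⁻¹) ∈ M := M.mul_mem u.2 this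
      have h4 : (u : G) * h * (u : G)⁻¹ * h⁻¹ = (u : G) * (h * (u : G)⁻¹ * h⁻¹) := by group
      rw [h4]; exact h3⟩
    have finj : Function.Injective f := by
      intro u v huv
      have h1 : (u : G) * h * (u : G)⁻¹ * h⁻¹ = (v : G) * h * (v : G)⁻¹ * h⁻¹ :=
        congrArg Subtype.val huv
      have h2 : (u : G) * h * (u : G)⁻¹ = (v : G) * h * (v : G)⁻¹ := mul_right_cancel h1
      have h3 : ((v : G)⁻¹ * (u : G)) * h = h * ((v : G)⁻¹ * (u : G)) := by
        have : (v : G)⁻¹ * ((u : G) * h * (u : G)⁻¹) * (u : G) =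
            (v : G)⁻¹ * ((v : G) * h * (v : G)⁻¹) * (u : G) := by rw [h2]
        have e1 : (v : G)⁻¹ * ((u : G) * h * (u : G)⁻¹) * (u : G) = ((v : G)⁻¹ * (u : G)) * h := by
          group
        have e2 : (v : G)⁻¹ * ((v : G) * h * (v : G)⁻¹) * (u : G) = h * ((v : G)⁻¹ * (u : G)) := by
          group
        rw [e1, e2] at this
        exact this
      have h4 := claim1 _ (M.mul_mem (M.inv_mem v.2) u.2) h3
      apply Subtype.ext
      have : (u : G) = (v : G) := by
        have := inv_mul_eq_one.mp h4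
        exact this.symm
      exact this
    have fsurj : Function.Surjective f := Finite.injective_iff_surjective.mp finj
    obtain ⟨u, hu⟩ := fsurj ⟨m, hm⟩
    have hu' : (u : G) * h * (u : G)⁻¹ * h⁻¹ = m := congrArg Subtype.val hu
    have hc_eq : m * h = (u : G) * h * (u : G)⁻¹ := by
      rw [← hu']; group
    rw [hc_eq] at hc
    rw [Subgroup.mem_centralizer_iff] at hc
    have hcx := hc x (Set.mem_singleton x)
    -- x * (u h u⁻¹) = (u h u⁻¹) * x
    have hconj : ((u : G)⁻¹ * x * (u : G)) * h = h * ((u : G)⁻¹ * x * (u : G)) := by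
      have : (u : G)⁻¹ * (x * ((u : G) * h * (u : G)⁻¹)) * (u : G) =
          (u : G)⁻¹ * (((u : G) * h * (u : G)⁻¹) * x) * (u : G) := by rw [hcx]
      have e1 : (u : G)⁻¹ * (x * ((u : G) * h * (u : G)⁻¹)) * (u : G) =
          ((u : G)⁻¹ * x * (u : G)) * h := by group
      have e2 : (u : G)⁻¹ * (((u : G) * h * (u : G)⁻¹) * x) * (u : G) =
          h * ((u : G)⁻¹ * x * (u : G)) := by group
      rw [e1, e2] at this
      exact this
    have hxu : (u : G)⁻¹ * x * (u : G) ∈ M := by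
      have := ‹M.Normal›.conj_mem x hxM (u : G)⁻¹
      simpa using this
    have := claim1 _ hxu hconj
    apply hx1
    have h5 : x = (u : G) * ((u : G)⁻¹ * x * (u : G)) * (u : G)⁻¹ := by group
    rw [h5, this]; group

end Cfsg.Agent.S4113
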