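import Cfsg.Statements.S4115
import Cfsg.Agent.S0877
import Cfsg.Agent.Lib.Helper29.TIFrob

set_option autoImplicit false
universe u
open Cfsg

namespace Cfsg.Agent.S4115

open Subgroup Cfsg.Agent.Helper29.TIHall

/-- from a normal complement in the normalizer to a normal complement in the whole group
(Brauer–Suzuki, S0877) -/
theorem exists_normal_complement {G : Type u} [Group G] [Finite G] (H : Subgroup G)
    (hTI : Cfsg.IsTISubset (H : Set G))
    (hHall : (Nat.card H).Coprime (H.subgroupOf (Subgroup.normalizer (H : Set G))).index)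
    (h : ∃ K : Subgroup (Subgroup.normalizer (H : Set G)), K.Normal ∧
      K.IsComplement' (H.subgroupOf (Subgroup.normalizer (H : Set G)))) :
    ∃ K : Subgroup G, K.Normal ∧ K ⊔ H = ⊤ ∧ K ⊓ H = ⊥ := by
  obtain ⟨M, hMn, hMc⟩ := h
  have hHallG : (Nat.card H).Coprime H.index := coprime_index H hTI hHall
  -- decomposition of the normalizer
  have hdec : ∀ n ∈ normalizer (H : Set G), ∃ m ∈ M.map (normalizer (H : Set G)).subtype,
      ∃ h ∈ H, n = m * h ∧ ∀ y ∈ H, m * y = y * m := by
    intro n hn
    obtain ⟨⟨m, h⟩, hmh⟩ := hMc.2 ⟨n, hn⟩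
    refine ⟨(m : normalizer (H : Set G)), Subgroup.mem_map_of_mem _ m.2,
      ((h : normalizer (H : Set G)) : G), Subgroup.mem_subgroupOf.mp h.2, ?_, ?_⟩
    · have := congrArg Subtype.val hmh
      simpa using this.symm
    · intro y hy
      have hyN : y ∈ normalizer (H : Set G) := le_normalizer hy
      have hc := Subgroup.commute_of_normal_of_disjoint M
        (H.subgroupOf (normalizer (H : Set G))) hMn inferInstance hMc.disjoint
        (m : normalizer (H : Set G)) ⟨y, hyN⟩ m.2 (Subgroup.mem_subgroupOf.mpr hy)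
      have := congrArg Subtype.val hc.eq
      simpa using this
  apply Cfsg.Agent.S0877.result H hHallG
  · -- fusion
    intro x hx y hy hxy
    by_cases hx1 : x = 1
    · refine ⟨1, H.one_mem, ?_⟩
      rw [hx1] at hxy ⊢
      have : y = 1 := isConj_one_right.mp hxy
      rw [this]
      group
    · obtain ⟨c, hc⟩ := isConj_iff.mp hxy
      have hcN : c ∈ normalizer (H : Set G) :=
        mem_normalizer_of_conj_mem H hTI hx hx1 (by rw [hc]; exact hy)
      obtain ⟨m, _, h, hh, hcmh, hmc⟩ := hdec c hcN
      refine ⟨h, hh, ?_⟩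
      rw [← hc, hcmh]
      have h1 : h * x * h⁻¹ ∈ H := H.mul_mem (H.mul_mem hh hx) (H.inv_mem hh)
      have h2 := hmc _ h1
      calc h * x * h⁻¹ = (h * x * h⁻¹ * m) * m⁻¹ := by group
        _ = (m * (h * x * h⁻¹)) * m⁻¹ := by rw [h2]
        _ = m * h * x * (m * h)⁻¹ := by group
  · -- elementary subgroups
    intro E p _ _ hE
    obtain ⟨d, hd⟩ := exists_conj_le H hTI E (Nat.Coprime.coprime_dvd_left hE hHallG)
    refine ⟨d, ?_⟩
    rintro _ ⟨x, hx, rfl⟩
    simpa [MulAut.conj_apply] using hd x hx

/-- Let G be a finite group and H a subgroup that meets each of its conjugates by elements outside N_G(H) trivially and whose order is coprime to its index in N_G(H). Then H has a normal complement in N_G(H) if and only if H has a normal complement in G. Moreover, if H is not normal in G and has a normal complement in N_G(H), then H is isomorphic to a Frobenius complement of some finite Frobenius group. -/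
theorem result {G : Type u} [Group G] [Finite G] (H : Subgroup G)
    (hTI : Cfsg.IsTISubset (H : Set G)) (hHall : (Nat.card H).Coprime (H.subgroupOf (Subgroup.normalizer (H : Set G))).index) :
    ((∃ K : Subgroup (Subgroup.normalizer (H : Set G)), K.Normal ∧ K.IsComplement' (H.subgroupOf (Subgroup.normalizer (H : Set G)))) ↔
      (∃ N : Subgroup G, N.Normal ∧ N.IsComplement' H)) ∧
    (¬ H.Normal → (∃ K : Subgroup (Subgroup.normalizer (H : Set G)), K.Normal ∧ K.IsComplement' (H.subgroupOf (Subgroup.normalizer (H : Set G)))) →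
      ∃ (F : Type u) (_ : Group F) (_ : Finite F) (C : Subgroup F), Cfsg.IsFrobeniusComplement C ∧ Nonempty (H ≃* C)) := by
  refine ⟨⟨fun h => ?_, fun h => ?_⟩, fun hnn h => ?_⟩
  · obtain ⟨K, hKn, hsup, hinf⟩ := exists_normal_complement H hTI hHall h
    refine ⟨K, hKn, ?_⟩
    apply isComplement'_of_disjoint_and_mul_eq_univ (disjoint_iff.mpr hinf)
    rw [← Subgroup.normal_mul, hsup]
    rfl
  · obtain ⟨K, hKn, hKc⟩ := h
    refine ⟨K.subgroupOf (normalizer (H : Set G)), hKn.subgroupOf _, ?_⟩
    apply isComplement'_of_disjoint_and_mul_eq_univ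
    · rw [disjoint_iff, Subgroup.eq_bot_iff_forall]
      rintro ⟨x, hx⟩ ⟨h1, h2⟩
      have h3 : x ∈ K ⊓ H := ⟨Subgroup.mem_subgroupOf.mp h1, Subgroup.mem_subgroupOf.mp h2⟩
      rw [disjoint_iff.mp hKc.disjoint, Subgroup.mem_bot] at h3
      exact Subtype.ext h3
    · rw [Set.eq_univ_iff_forall]
      rintro ⟨n, hn⟩
      obtain ⟨⟨k, h⟩, hkh⟩ := hKc.2 n
      have hkh' : (k : G) * (h : G) = n := hkh
      have hkN : (k : G) ∈ normalizer (H : Set G) := by
        have : (k : G) = n * (h : G)⁻¹ := by rw [← hkh']; group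
        rw [this]
        exact (normalizer (H : Set G)).mul_mem hn
          ((normalizer (H : Set G)).inv_mem (le_normalizer h.2))
      refine ⟨⟨(k : G), hkN⟩, Subgroup.mem_subgroupOf.mpr k.2,
        ⟨(h : G), le_normalizer h.2⟩, Subgroup.mem_subgroupOf.mpr h.2, ?_⟩
      exact Subtype.ext hkh'
  · obtain ⟨K, hKn, hsup, hinf⟩ := exists_normal_complement H hTI hHall h
    exact exists_frobenius_of_normal_complement H hTI (coprime_index H hTI hHall) hnn K hsup hinf

end Cfsg.Agent.S4115
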