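import Cfsg.Statements.S4116
import Mathlib
-- import your own Cfsg.Agent.* helpers here

set_option autoImplicit false
open Cfsg

namespace Cfsg.Agent.S4116

variable {G : Type*} [Group G]

theorem mem_cj (H : Subgroup G) (a x : G) :
    x ∈ H.map (MulAut.conj a).toMonoidHom ↔ a⁻¹ * x * a ∈ H := by
  constructor
  · rintro ⟨h, hh, rfl⟩
    have e : a⁻¹ * ((MulAut.conj a).toMonoidHom h) * a = h := by
      simp only [MulEquiv.coe_toMonoidHom, MulAut.conj_apply]; group
    rw [e]; exact hh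
  · intro h
    refine ⟨a⁻¹ * x * a, h, ?_⟩
    simp only [MulEquiv.coe_toMonoidHom, MulAut.conj_apply]; group

/-- F2-basic: an element normalizing the Hall subgroup `H`, all of whose prime divisors of the
order divide `|H|`, lies in `H`. -/
theorem mem_of_mem_normalizer [Finite G] (H : Subgroup G) (hHall : (Nat.card H).Coprime H.index)
    (k : G) (hk : k ∈ Subgroup.normalizer (H : Set G))
    (hord : ∀ q : ℕ, q.Prime → q ∣ orderOf k → q ∣ Nat.card H) : k ∈ H := by
  set Nm := Subgroup.normalizer (H : Set G) with hNm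
  set H' := H.subgroupOf Nm with hH'
  have hn : H'.Normal := Subgroup.normal_in_normalizer
  let k' : Nm := ⟨k, hk⟩
  set m := orderOf (QuotientGroup.mk k' : Nm ⧸ H') with hm
  have h1 : m ∣ orderOf k := by
    have : orderOf k' = orderOf k := Subgroup.orderOf_mk k hk
    rw [← this]
    exact orderOf_map_dvd (QuotientGroup.mk' H') k'
  have h2 : m ∣ H.index := by
    have h3 : m ∣ Nat.card (Nm ⧸ H') := orderOf_dvd_natCard _
    have h4 : Nat.card (Nm ⧸ H') = H.relIndex Nm := rfl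
    rw [h4] at h3
    exact h3.trans (Subgroup.relIndex_dvd_index_of_le Subgroup.le_normalizer)
  have h5 : m = 1 := by
    by_contra hne
    obtain ⟨q, hq, hqm⟩ := Nat.exists_prime_and_dvd hne
    have h6 : q ∣ Nat.card H := hord q hq (hqm.trans h1)
    have h7 : q ∣ H.index := hqm.trans h2
    have := Nat.dvd_gcd h6 h7
    rw [hHall] at this
    exact hq.one_lt.ne' (Nat.dvd_one.mp this)
  have h8 : (QuotientGroup.mk k' : Nm ⧸ H') = 1 := orderOf_eq_one_iff.mp h5
  have h9 : k' ∈ H' := (QuotientGroup.eq_one_iff k').mp h8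
  exact Subgroup.mem_subgroupOf.mp h9

/-- F1: two conjugates of the TI-subgroup `H` sharing a nonidentity element coincide. -/
theorem cj_eq_of_common (H : Subgroup G) (hTI : Cfsg.IsTISubset (H : Set G))
    (a b x : G) (hx1 : x ≠ 1) (hxa : a⁻¹ * x * a ∈ H) (hxb : b⁻¹ * x * b ∈ H) (y : G) :
    a⁻¹ * y * a ∈ H ↔ b⁻¹ * y * b ∈ H := by
  have hg : b⁻¹ * a ∈ Subgroup.normalizer (H : Set G) := by
    by_contra hg
    have := hTI (b⁻¹ * a) hg (a⁻¹ * x * a) hxa (by
      have e : b⁻¹ * a * (a⁻¹ * x * a) * (b⁻¹ * a)⁻¹ = b⁻¹ * x * b := by group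
      rw [e]; exact hxb)
    apply hx1
    have e : x = a * (a⁻¹ * x * a) * a⁻¹ := by group
    rw [e, this]; group
  rw [Subgroup.mem_set_normalizer_iff] at hg
  have := hg (a⁻¹ * y * a)
  have e : b⁻¹ * a * (a⁻¹ * y * a) * (b⁻¹ * a)⁻¹ = b⁻¹ * y * b := by group
  rw [e] at this
  exact this

/-- F2: an element of `K` normalizing a conjugate of `H` lies in it. -/
theorem mem_cj_of_normalizes [Finite G] (H : Subgroup G) (hHall : (Nat.card H).Coprime H.index)
    (K : Subgroup G) (hK : ∀ q : ℕ, q.Prime → q ∣ Nat.card K → q ∣ Nat.card H)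
    (a k : G) (hkK : k ∈ K)
    (hnorm : ∀ y : G, a⁻¹ * y * a ∈ H ↔ a⁻¹ * (k⁻¹ * y * k) * a ∈ H) :
    a⁻¹ * k * a ∈ H := by
  apply mem_of_mem_normalizer H hHall
  · rw [Subgroup.mem_set_normalizer_iff]
    intro n
    have := hnorm (k * a * n * a⁻¹ * k⁻¹)
    have e1 : a⁻¹ * (k * a * n * a⁻¹ * k⁻¹) * a = a⁻¹ * k * a * n * (a⁻¹ * k * a)⁻¹ := by group
    have e2 : a⁻¹ * (k⁻¹ * (k * a * n * a⁻¹ * k⁻¹) * k) * a = n := by group
    rw [e1, e2] at this
    exact this.symm
  · intro q hq hqk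
    apply hK q hq
    have e : orderOf (a⁻¹ * k * a) = orderOf k := by
      have := orderOf_injective (MulAut.conj a⁻¹).toMonoidHom (MulAut.conj a⁻¹).injective k
      simpa using this
    rw [e] at hqk
    have : orderOf k ∣ Nat.card K := by
      have := orderOf_dvd_natCard (⟨k, hkK⟩ : K)
      rwa [Subgroup.orderOf_mk] at this
    exact hqk.trans this

/-- Claim S: some conjugate of `H` contains a Sylow `p`-subgroup of `K`. -/
theorem exists_cj_sylow [Finite G] (H : Subgroup G) (hHall : (Nat.card H).Coprime H.index)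
    (K : Subgroup G) (p : ℕ) [hp : Fact p.Prime] (hpH : p ∣ Nat.card H) :
    ∃ a : G, p ^ (Nat.card K).factorization p ∣
      Nat.card ↥(K ⊓ H.map (MulAut.conj a).toMonoidHom) := by
  obtain ⟨Q⟩ : Nonempty (Sylow p K) := inferInstance
  set Q' := (Q : Subgroup K).map K.subtype with hQ'
  have hQ'p : IsPGroup p Q' := Q.2.map K.subtype
  have hQ'card : Nat.card Q' = p ^ (Nat.card K).factorization p := by
    rw [hQ', Subgroup.card_map_of_injective K.subtype_injective, Sylow.card_eq_multiplicity]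
  obtain ⟨P, hP⟩ := hQ'p.exists_le_sylow
  obtain ⟨R⟩ : Nonempty (Sylow p H) := inferInstance
  set R' := (R : Subgroup H).map H.subtype with hR'
  have hpidx : ¬ p ∣ H.index := by
    intro h
    have := Nat.dvd_gcd hpH h
    rw [hHall] at this
    exact hp.out.one_lt.ne' (Nat.dvd_one.mp this)
  have hfac : (Nat.card G).factorization p = (Nat.card H).factorization p := by
    rw [← Subgroup.card_mul_index H, Nat.factorization_mul Nat.card_pos.ne'
      (Subgroup.index_ne_zero_of_finite), Finsupp.add_apply,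
      Nat.factorization_eq_zero_of_not_dvd hpidx, add_zero]
  have hR'card : Nat.card R' = p ^ (Nat.card G).factorization p := by
    rw [hR', Subgroup.card_map_of_injective H.subtype_injective, Sylow.card_eq_multiplicity, hfac]
  set P0 : Sylow p G := Sylow.ofCard R' hR'card with hP0
  obtain ⟨g, hg⟩ := MulAction.exists_smul_eq G P0 P
  refine ⟨g, ?_⟩
  rw [← hQ'card]
  apply Subgroup.card_dvd_of_le
  intro x hx
  refine ⟨?_, ?_⟩
  · obtain ⟨y, _, rfl⟩ := hx
    exact y.2
  · have h1 : x ∈ (P : Subgroup G) := hP hx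
    rw [← hg, Sylow.coe_subgroup_smul, Subgroup.mem_pointwise_smul_iff_inv_smul_mem] at h1
    apply (mem_cj H g x).mpr
    have h2 : (MulAut.conj g)⁻¹ • x ∈ R' := h1
    obtain ⟨y, _, hy⟩ := h2
    have h3 : (MulAut.conj g)⁻¹ • x = g⁻¹ * x * g := by
      simp [MulAut.smul_def]
    rw [← h3, ← hy]
    exact y.2

open Classical in
/-- Counting lemma for a malnormal subgroup. -/
theorem count_lemma [Fintype G] (K D : Subgroup G)
    (hmal : ∀ k ∈ K, ∀ d ∈ D, d ≠ 1 → k * d * k⁻¹ ∈ D → k ∈ D) :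
    Nat.card K * (Nat.card D - 1) ≤ Nat.card D *
      (Finset.univ.filter (fun x : G => x ≠ 1 ∧ ∃ k ∈ K, ∃ d ∈ D, x = k * d * k⁻¹)).card := by
  set KF : Finset G := Finset.univ.filter (fun k => k ∈ K) with hKF
  set DF : Finset G := Finset.univ.filter (fun d => d ∈ D) with hDF
  set T : Finset (G × G) := KF ×ˢ (DF.erase 1) with hT
  set f : G × G → G := fun x => x.1 * x.2 * x.1⁻¹ with hf
  have hKFcard : KF.card = Nat.card K := by
    rw [Nat.card_eq_fintype_card, Fintype.card_subtype]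
  have hDFcard : DF.card = Nat.card D := by
    rw [Nat.card_eq_fintype_card, Fintype.card_subtype]
  have hTcard : T.card = Nat.card K * (Nat.card D - 1) := by
    rw [hT, Finset.card_product, hKFcard, Finset.card_erase_of_mem, hDFcard]
    simp [hDF, D.one_mem]
  have himg : T.image f ⊆
      Finset.univ.filter (fun x : G => x ≠ 1 ∧ ∃ k ∈ K, ∃ d ∈ D, x = k * d * k⁻¹) := by
    intro x hx
    obtain ⟨⟨k, d⟩, hkd, rfl⟩ := Finset.mem_image.mp hx
    simp only [hT, hKF, hDF, Finset.mem_product, Finset.mem_filter, Finset.mem_univ, true_and,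
      Finset.mem_erase] at hkd
    simp only [Finset.mem_filter, Finset.mem_univ, true_and]
    refine ⟨?_, k, hkd.1, d, hkd.2.2, rfl⟩
    intro h
    apply hkd.2.1
    have h' : k * d * k⁻¹ = 1 := h
    have e : d = k⁻¹ * (k * d * k⁻¹) * k := by group
    rw [e, h']; group
  have hfib : ∀ b ∈ T.image f, (T.filter (fun a => f a = b)).card ≤ DF.card := by
    intro b hb
    obtain ⟨⟨k0, d0⟩, hkd0, rfl⟩ := Finset.mem_image.mp hb
    simp only [hT, hKF, hDF, Finset.mem_product, Finset.mem_filter, Finset.mem_univ, true_and,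
      Finset.mem_erase] at hkd0
    apply Finset.card_le_card_of_injOn (fun x => k0⁻¹ * x.1)
    · intro x hx
      simp only [Finset.coe_filter, hT, hKF, hDF, Finset.mem_product, Finset.mem_filter,
        Finset.mem_univ, true_and, Finset.mem_erase, Set.mem_ofPred_eq] at hx
      obtain ⟨⟨hk, hd1, hd⟩, hfx⟩ := hx
      simp only [hDF, Finset.coe_filter, Finset.mem_univ, true_and, Set.mem_ofPred_eq]
      apply hmal (k0⁻¹ * x.1) (K.mul_mem (K.inv_mem hkd0.1) hk) x.2 hd hd1
      have e : k0⁻¹ * x.1 * x.2 * (k0⁻¹ * x.1)⁻¹ = k0⁻¹ * (x.1 * x.2 * x.1⁻¹) * k0 := by group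
      rw [e]
      have hfx' : x.1 * x.2 * x.1⁻¹ = k0 * d0 * k0⁻¹ := hfx
      rw [hfx']
      have e2 : k0⁻¹ * (k0 * d0 * k0⁻¹) * k0 = d0 := by group
      rw [e2]; exact hkd0.2.2
    · intro x hx y hy hxy
      simp only [Finset.coe_filter, Set.mem_ofPred_eq] at hx hy
      have h1 : x.1 = y.1 := mul_left_cancel hxy
      have hfx : x.1 * x.2 * x.1⁻¹ = k0 * d0 * k0⁻¹ := hx.2
      have hfy : y.1 * y.2 * y.1⁻¹ = k0 * d0 * k0⁻¹ := hy.2
      have h2 : x.2 = y.2 := by
        rw [← hfy, h1] at hfx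
        exact mul_left_cancel (mul_right_cancel hfx)
      exact Prod.ext h1 h2
  have := Finset.card_le_mul_card_image T DF.card hfib
  rw [hTcard, hDFcard] at this
  exact this.trans (Nat.mul_le_mul_left _ (Finset.card_le_card himg))

theorem malnormal [Finite G] (H : Subgroup G) (hHall : (Nat.card H).Coprime H.index)
    (hTI : Cfsg.IsTISubset (H : Set G))
    (K : Subgroup G) (hK : ∀ q : ℕ, q.Prime → q ∣ Nat.card K → q ∣ Nat.card H) (a : G) :
    ∀ k ∈ K, ∀ d ∈ K ⊓ H.map (MulAut.conj a).toMonoidHom, d ≠ 1 →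
      k * d * k⁻¹ ∈ K ⊓ H.map (MulAut.conj a).toMonoidHom →
      k ∈ K ⊓ H.map (MulAut.conj a).toMonoidHom := by
  intro k hk d hd hd1 hkd
  refine ⟨hk, (mem_cj H a k).mpr ?_⟩
  have h1 : a⁻¹ * d * a ∈ H := (mem_cj H a d).mp hd.2
  have h2 : a⁻¹ * (k * d * k⁻¹) * a ∈ H := (mem_cj H a _).mp hkd.2
  have h2' : (k⁻¹ * a)⁻¹ * d * (k⁻¹ * a) ∈ H := by
    have e : (k⁻¹ * a)⁻¹ * d * (k⁻¹ * a) = a⁻¹ * (k * d * k⁻¹) * a := by group
    rw [e]; exact h2
  have hF1 := cj_eq_of_common H hTI a (k⁻¹ * a) d hd1 h1 h2'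
  have h3 := mem_cj_of_normalizes H hHall K hK a k⁻¹ (K.inv_mem hk) (fun y => by
    rw [hF1 y]
    have e : (k⁻¹ * a)⁻¹ * y * (k⁻¹ * a) = a⁻¹ * (k⁻¹⁻¹ * y * k⁻¹) * a := by group
    rw [e])
  have h4 := H.inv_mem h3
  have e : (a⁻¹ * k⁻¹ * a)⁻¹ = a⁻¹ * k * a := by group
  rw [e] at h4
  exact h4

theorem card_eq_of_common [Finite G] (H : Subgroup G) (hTI : Cfsg.IsTISubset (H : Set G))
    (K : Subgroup G) (a b k k' d d' : G) (hk : k ∈ K) (hk' : k' ∈ K)
    (hd : d ∈ K ⊓ H.map (MulAut.conj a).toMonoidHom)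
    (hd' : d' ∈ K ⊓ H.map (MulAut.conj b).toMonoidHom) (hd1 : d ≠ 1)
    (hx : k * d * k⁻¹ = k' * d' * k'⁻¹) :
    Nat.card ↥(K ⊓ H.map (MulAut.conj a).toMonoidHom) =
      Nat.card ↥(K ⊓ H.map (MulAut.conj b).toMonoidHom) := by
  have hx1 : k * d * k⁻¹ ≠ 1 := by
    intro h
    apply hd1
    have e : d = k⁻¹ * (k * d * k⁻¹) * k := by group
    rw [e, h]; group
  have h1 : (k * a)⁻¹ * (k * d * k⁻¹) * (k * a) ∈ H := by
    have e : (k * a)⁻¹ * (k * d * k⁻¹) * (k * a) = a⁻¹ * d * a := by group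
    rw [e]; exact (mem_cj H a d).mp hd.2
  have h2 : (k' * b)⁻¹ * (k * d * k⁻¹) * (k' * b) ∈ H := by
    rw [hx]
    have e : (k' * b)⁻¹ * (k' * d' * k'⁻¹) * (k' * b) = b⁻¹ * d' * b := by group
    rw [e]; exact (mem_cj H b d').mp hd'.2
  have hF1 := cj_eq_of_common H hTI (k * a) (k' * b) (k * d * k⁻¹) hx1 h1 h2
  set c := k'⁻¹ * k with hc
  have hcK : c ∈ K := K.mul_mem (K.inv_mem hk') hk
  have hmap : (K ⊓ H.map (MulAut.conj a).toMonoidHom).map (MulAut.conj c).toMonoidHom =
      K ⊓ H.map (MulAut.conj b).toMonoidHom := by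
    ext y
    rw [mem_cj]
    constructor
    · rintro ⟨h3, h4⟩
      refine ⟨?_, (mem_cj H b y).mpr ?_⟩
      · have := K.mul_mem (K.mul_mem hcK h3) (K.inv_mem hcK)
        have e : c * (c⁻¹ * y * c) * c⁻¹ = y := by group
        rwa [e] at this
      · have h5 := (mem_cj H a _).mp h4
        have h6 := (hF1 (k' * y * k'⁻¹)).mp (by
          have e : (k * a)⁻¹ * (k' * y * k'⁻¹) * (k * a) = a⁻¹ * (c⁻¹ * y * c) * a := by
            rw [hc]; group
          rw [e]; exact h5)
        have e : (k' * b)⁻¹ * (k' * y * k'⁻¹) * (k' * b) = b⁻¹ * y * b := by group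
        rwa [e] at h6
    · rintro ⟨h3, h4⟩
      refine ⟨K.mul_mem (K.mul_mem (K.inv_mem hcK) h3) hcK, (mem_cj H a _).mpr ?_⟩
      have h5 := (mem_cj H b y).mp h4
      have h6 := (hF1 (k' * y * k'⁻¹)).mpr (by
        have e : (k' * b)⁻¹ * (k' * y * k'⁻¹) * (k' * b) = b⁻¹ * y * b := by group
        rw [e]; exact h5)
      have e : (k * a)⁻¹ * (k' * y * k'⁻¹) * (k * a) = a⁻¹ * (c⁻¹ * y * c) * a := by
        rw [hc]; group
      rwa [e] at h6
  rw [← hmap, Subgroup.card_map_of_injective (MulAut.conj c).injective]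

/-- Let G be a finite group with a subgroup H whose order is coprime to its index (a Hall subgroup) and which meets each of its conjugates by elements outside N_G(H) trivially. Then every subgroup of G whose order is divisible only by primes dividing the order of H lies in a conjugate of H. -/
theorem result {G : Type*} [Group G] [Finite G] (H : Subgroup G)
    (hHall : (Nat.card H).Coprime H.index) (hTI : Cfsg.IsTISubset (H : Set G))
    (K : Subgroup G) (hK : ∀ q : ℕ, q.Prime → q ∣ Nat.card K → q ∣ Nat.card H) :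
    ∃ g : G, K ≤ H.map (MulAut.conj g).toMonoidHom := by
  classical
  have := Fintype.ofFinite G
  by_cases hK1 : K = ⊥
  · exact ⟨1, by rw [hK1]; exact bot_le⟩
  have hKcard : Nat.card K ≠ 1 := fun h => hK1 (Subgroup.card_eq_one.mp h)
  obtain ⟨p0, hp0, hp0K⟩ := Nat.exists_prime_and_dvd hKcard
  have : Fact p0.Prime := ⟨hp0⟩
  obtain ⟨a0, ha0⟩ := exists_cj_sylow H hHall K p0 (hK p0 hp0 hp0K)
  by_contra hcon
  push Not at hcon
  set D0 := K ⊓ H.map (MulAut.conj a0).toMonoidHom with hD0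
  have hD0K : D0 ≤ K := inf_le_left
  have hrel : D0.relIndex K ≠ 1 := by
    rw [Ne, Subgroup.relIndex_eq_one]
    intro h
    exact hcon a0 (fun x hx => (h hx).2)
  obtain ⟨q, hq, hqrel⟩ := Nat.exists_prime_and_dvd hrel
  have hmul : Nat.card D0 * D0.relIndex K = Nat.card K := by
    have := Subgroup.relIndex_mul_relIndex ⊥ D0 K bot_le hD0K
    simpa [Subgroup.relIndex_bot_left] using this
  have hqK : q ∣ Nat.card K := by rw [← hmul]; exact hqrel.mul_left _
  have : Fact q.Prime := ⟨hq⟩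
  obtain ⟨b, hb⟩ := exists_cj_sylow H hHall K q (hK q hq hqK)
  set Db := K ⊓ H.map (MulAut.conj b).toMonoidHom with hDb
  have hD0two : 2 ≤ Nat.card D0 := by
    have hv : (Nat.card K).factorization p0 ≠ 0 :=
      (hp0.factorization_pos_of_dvd Nat.card_pos.ne' hp0K).ne'
    have : p0 ∣ Nat.card D0 := (dvd_pow_self p0 hv).trans ha0
    exact hp0.two_le.trans (Nat.le_of_dvd Nat.card_pos this)
  have hDbtwo : 2 ≤ Nat.card Db := by
    have hv : (Nat.card K).factorization q ≠ 0 :=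
      (hq.factorization_pos_of_dvd Nat.card_pos.ne' hqK).ne'
    have : q ∣ Nat.card Db := (dvd_pow_self q hv).trans hb
    exact hq.two_le.trans (Nat.le_of_dvd Nat.card_pos this)
  have hne : Nat.card D0 ≠ Nat.card Db := by
    intro h
    rw [← h] at hb
    have h1 : q ^ ((Nat.card K).factorization q + 1) ∣ Nat.card K := by
      have h2 := Nat.mul_dvd_mul hb hqrel
      rw [hmul] at h2
      rw [pow_succ]
      exact h2
    exact Nat.pow_succ_factorization_not_dvd Nat.card_pos.ne' hq h1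
  have c1 := count_lemma K D0 (malnormal H hHall hTI K hK a0)
  have c2 := count_lemma K Db (malnormal H hHall hTI K hK b)
  set U1 := Finset.univ.filter (fun x : G => x ≠ 1 ∧ ∃ k ∈ K, ∃ d ∈ D0, x = k * d * k⁻¹) with hU1
  set U2 := Finset.univ.filter (fun x : G => x ≠ 1 ∧ ∃ k ∈ K, ∃ d ∈ Db, x = k * d * k⁻¹) with hU2
  have hdisj : Disjoint U1 U2 := by
    rw [Finset.disjoint_left]
    intro x hx1 hx2
    simp only [hU1, hU2, Finset.mem_filter, Finset.mem_univ, true_and] at hx1 hx2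
    obtain ⟨hxne, k, hk, d, hd, hxd⟩ := hx1
    obtain ⟨_, k', hk', d', hd', hxd'⟩ := hx2
    have hd1 : d ≠ 1 := by
      rintro rfl
      apply hxne
      rw [hxd]; group
    exact hne (card_eq_of_common H hTI K a0 b k k' d d' hk hk' hd hd' hd1 (hxd ▸ hxd'))
  have hsub : U1 ∪ U2 ⊆ (Finset.univ.filter (fun k : G => k ∈ K)).erase 1 := by
    intro x hx
    rw [Finset.mem_union] at hx
    rw [Finset.mem_erase, Finset.mem_filter]
    rcases hx with hx | hx
    · simp only [hU1, Finset.mem_filter, Finset.mem_univ, true_and] at hx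
      obtain ⟨hxne, k, hk, d, hd, rfl⟩ := hx
      exact ⟨hxne, Finset.mem_univ _, K.mul_mem (K.mul_mem hk hd.1) (K.inv_mem hk)⟩
    · simp only [hU2, Finset.mem_filter, Finset.mem_univ, true_and] at hx
      obtain ⟨hxne, k, hk, d, hd, rfl⟩ := hx
      exact ⟨hxne, Finset.mem_univ _, K.mul_mem (K.mul_mem hk hd.1) (K.inv_mem hk)⟩
  have hcardsum : U1.card + U2.card ≤ Nat.card K - 1 := by
    rw [← Finset.card_union_of_disjoint hdisj]
    refine (Finset.card_le_card hsub).trans ?_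
    rw [Finset.card_erase_of_mem (by simp [K.one_mem])]
    rw [Nat.card_eq_fintype_card, Fintype.card_subtype]
  have hKpos : 1 ≤ Nat.card K := Nat.card_pos
  obtain ⟨m1, hm1⟩ : ∃ m, Nat.card D0 = m + 2 := ⟨Nat.card D0 - 2, by omega⟩
  obtain ⟨m2, hm2⟩ : ∃ m, Nat.card Db = m + 2 := ⟨Nat.card Db - 2, by omega⟩
  rw [hm1] at c1
  rw [hm2] at c2
  have e1 : m1 + 2 - 1 = m1 + 1 := by omega
  have e2 : m2 + 2 - 1 = m2 + 1 := by omega
  rw [e1] at c1
  rw [e2] at c2
  have k1 : Nat.card K ≤ 2 * U1.card := by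
    by_contra hlt
    push Not at hlt
    nlinarith
  have k2 : Nat.card K ≤ 2 * U2.card := by
    by_contra hlt
    push Not at hlt
    nlinarith
  omega

end Cfsg.Agent.S4116
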