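import Cfsg.Statements.S4117
import Mathlib
import Cfsg.Agent.Lib.Helper1.ExtAction
import Cfsg.Agent.Lib.Helper1.ZCoprime

set_option autoImplicit false
open Cfsg

namespace Cfsg.Agent.S4117

open Cfsg.Agent.Helper1 Cfsg.Agent.Helper1.ExtAction Cfsg.Agent.Helper1.ZCoprime

/-- Let A be a finite group acting on the finite group G by automorphisms with the orders of A and G coprime, and suppose every Sylow subgroup of G is cyclic. Then the fixed-point subgroup C_G(A) is a Hall subgroup of G (its order is coprime to its index), the subgroup [G, A] generated by the elements g⁻¹·a(g) is cyclic and normal with [G, A] ∩ C_G(A) = 1 and [G, A]·C_G(A) = G. -/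
theorem result {G A : Type*} [Group G] [Finite G] [Group A] [Finite A]
    [MulDistribMulAction A G] (hcop : (Nat.card A).Coprime (Nat.card G))
    (hcyc : ∀ (p : ℕ) [Fact p.Prime] (P : Sylow p G), IsCyclic (P : Subgroup G)) :
    (Nat.card (MulAction.fixedPoints A G : Set G)).Coprime (Nat.card G / Nat.card (MulAction.fixedPoints A G : Set G)) ∧
    IsCyclic (Subgroup.closure {y : G | ∃ (a : A) (g : G), y = g⁻¹ * a • g}) ∧
    (Subgroup.closure {y : G | ∃ (a : A) (g : G), y = g⁻¹ * a • g}).Normal ∧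
    (Subgroup.closure {y : G | ∃ (a : A) (g : G), y = g⁻¹ * a • g} : Set G) ∩ MulAction.fixedPoints A G = {1} ∧
    Subgroup.closure {y : G | ∃ (a : A) (g : G), y = g⁻¹ * a • g} ⊔ Subgroup.closure (MulAction.fixedPoints A G) = ⊤ := by
  classical
  have hι : Function.Injective (SemidirectProduct.inl : G →* Sd G A) := SemidirectProduct.inl_injective
  have hZG : IsZGroup G := ⟨fun p hp P => by
    have : Fact p.Prime := ⟨hp⟩
    exact hcyc p P⟩
  have hZK : IsZGroup (Kr G A) :=
    IsZGroup.of_injective (f := (equivKr (G := G) (A := A)).symm.toMonoidHom)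
      (equivKr (G := G) (A := A)).symm.injective
  have hcop' : (Nat.card (Ar G A)).Coprime (Nat.card (Kr G A)) := by
    rw [card_Ar, card_Kr]; exact hcop
  have hfin : Finite (Sd G A) := Finite.of_equiv _ SemidirectProduct.equivProd.symm
  obtain ⟨h1, h2, h3, h4, h5, h6⟩ := zgroup_coprime (Ar G A) (Kr G A) Ar_le_normalizer hcop'
  rw [← map_closure_eq_commutator] at h1 h2 h3 h4 h5 h6
  set N : Subgroup G := Subgroup.closure {y : G | ∃ (a : A) (g : G), y = g⁻¹ * a • g} with hN
  have hFix : ∀ g : G, (SemidirectProduct.inl g : Sd G A) ∈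
      Kr G A ⊓ Subgroup.centralizer ((Ar G A : Subgroup (Sd G A)) : Set (Sd G A)) ↔
      g ∈ MulAction.fixedPoints A G := by
    intro g
    rw [Subgroup.mem_inf, inl_mem_centralizer_iff]
    exact ⟨fun h => h.2, fun h => ⟨⟨g, rfl⟩, h⟩⟩
  have hcardFix : Nat.card (MulAction.fixedPoints A G : Set G) =
      Nat.card (Kr G A ⊓ Subgroup.centralizer ((Ar G A : Subgroup (Sd G A)) : Set (Sd G A)) :
        Subgroup (Sd G A)) := by
    apply Nat.card_congr
    refine Equiv.ofBijective (fun x => ⟨SemidirectProduct.inl x.1, (hFix x.1).mpr x.2⟩) ⟨?_, ?_⟩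
    · intro x y hxy
      apply Subtype.ext
      exact hι (congrArg Subtype.val hxy)
    · rintro ⟨y, hy⟩
      obtain ⟨g, rfl⟩ := (Subgroup.mem_inf.mp hy).1
      exact ⟨⟨g, (hFix g).mp hy⟩, rfl⟩
  refine ⟨?_, ?_, ?_, ?_, ?_⟩
  · rw [hcardFix, ← card_Kr (G := G) (A := A), ← h5, Nat.mul_div_cancel _ Nat.card_pos]
    exact h6
  · exact (N.equivMapOfInjective _ hι).isCyclic.mpr h1
  · constructor
    intro n hn g
    have h7 : (SemidirectProduct.inl (g * n * g⁻¹) : Sd G A) ∈ N.map SemidirectProduct.inl := by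
      rw [map_mul, map_mul, map_inv]
      exact (Subgroup.mem_normalizer_iff.mp (h4 ⟨g, rfl⟩) _).mp ⟨n, hn, rfl⟩
    obtain ⟨n', hn', hnn'⟩ := h7
    rw [← hι hnn']; exact hn'
  · ext x
    constructor
    · rintro ⟨hx1, hx2⟩
      have h7 : (SemidirectProduct.inl x : Sd G A) ∈ N.map SemidirectProduct.inl ⊓
          (Kr G A ⊓ Subgroup.centralizer ((Ar G A : Subgroup (Sd G A)) : Set (Sd G A))) :=
        Subgroup.mem_inf.mpr ⟨⟨x, hx1, rfl⟩, (hFix x).mpr hx2⟩
      rw [h2, Subgroup.mem_bot] at h7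
      exact hι (h7.trans (map_one _).symm)
    · intro hx
      rw [Set.mem_singleton_iff] at hx
      rw [hx]
      exact ⟨N.one_mem, fun a => smul_one a⟩
  · rw [eq_top_iff]
    intro g _
    have h7 : (SemidirectProduct.inl g : Sd G A) ∈ Kr G A := ⟨g, rfl⟩
    rw [← h3] at h7
    have h8 : N.map SemidirectProduct.inl ⊔
        (Kr G A ⊓ Subgroup.centralizer ((Ar G A : Subgroup (Sd G A)) : Set (Sd G A))) ≤
        (N ⊔ Subgroup.closure (MulAction.fixedPoints A G)).map
          (SemidirectProduct.inl : G →* Sd G A) := by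
      rw [Subgroup.map_sup]
      apply sup_le_sup_left
      intro y hy
      obtain ⟨g0, rfl⟩ := (Subgroup.mem_inf.mp hy).1
      exact ⟨g0, Subgroup.subset_closure ((hFix g0).mp hy), rfl⟩
    obtain ⟨g', hg', hgg'⟩ := h8 h7
    rw [← hι hgg']; exact hg'

end Cfsg.Agent.S4117
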