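import Cfsg.Statements.S4126
import Cfsg.Agent.S1946
import Cfsg.Agent.Lib.Helper66.CoprimeIndex

set_option autoImplicit false
open Cfsg

namespace Cfsg.Agent.S4126

/-- Let G be a finite group and p a prime. Suppose every element of order p, and when p = 2 also every element of order 4, has a conjugacy class of p-power size. Then G has a normal p-complement. -/
theorem result {G : Type*} [Group G] [Finite G] (p : ℕ) [Fact p.Prime]
    (h : ∀ x : G, (orderOf x = p ∨ (p = 2 ∧ orderOf x = 4)) → ∃ a : ℕ, (Subgroup.centralizer ({x} : Set G)).index = p ^ a) :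
    Cfsg.HasNormalPComplement p G := by
  have hp : p.Prime := Fact.out
  obtain ⟨P⟩ : Nonempty (Sylow p G) := inferInstance
  rw [Cfsg.Agent.S1946.result P]
  intro a haP ha g _
  by_cases ha1 : a = 1
  · refine ⟨1, Subgroup.one_mem _, ?_⟩
    rw [ha1]
    group
  -- the order of `a`
  have hord : orderOf a = p ∨ (p = 2 ∧ orderOf a = 4) := by
    rcases ha with ha | ⟨hp2, ha4⟩
    · exact Or.inl (orderOf_eq_prime ha ha1)
    · have h1 : orderOf a ∣ 2 ^ 2 := orderOf_dvd_of_pow_eq_one (by norm_num; exact ha4)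
      obtain ⟨k, hk, hk'⟩ := (Nat.dvd_prime_pow Nat.prime_two).mp h1
      interval_cases k
      · exfalso
        exact ha1 (orderOf_eq_one_iff.mp (by simpa using hk'))
      · left
        rw [hk', hp2]
        norm_num
      · right
        exact ⟨hp2, by rw [hk']; norm_num⟩
  obtain ⟨k, hk⟩ := h a hord
  have hco : Nat.Coprime (P : Subgroup G).index (Subgroup.centralizer ({a} : Set G)).index := by
    rw [hk]
    apply Nat.Coprime.pow_right
    exact ((Nat.Prime.coprime_iff_not_dvd hp).mpr P.not_dvd_index).symm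
  obtain ⟨u, hu, c, hc, hg⟩ := Cfsg.Agent.Helper66.exists_mul_of_coprime_index _ _ hco g
  refine ⟨u, hu, ?_⟩
  have hca : c * a = a * c := Subgroup.mem_centralizer_singleton_iff.mp hc
  rw [hg]
  calc u * c * a * (u * c)⁻¹ = u * (c * a) * c⁻¹ * u⁻¹ := by group
    _ = u * (a * c) * c⁻¹ * u⁻¹ := by rw [hca]
    _ = u * a * u⁻¹ := by group

end Cfsg.Agent.S4126
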