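import Cfsg.Statements.S4134
import Mathlib
import Cfsg.Agent.Lib.Helper69.Ito
import Cfsg.Agent.S4163
import Cfsg.Agent.S4365

set_option autoImplicit false
open Cfsg

namespace Cfsg.Agent.S4134

open Cfsg.Agent.Helper69.Ito
open scoped Pointwise

section aux

variable {G : Type*} [Group G] [Finite G]

/-- class sizes of elements of `P` computed in `P` and in `G` agree when `G = P Z(G)` -/
theorem index_centralizer_eq (P : Subgroup G) (hPZ : P ⊔ Subgroup.center G = ⊤) (x : ↥P) :
    (Subgroup.centralizer ({x} : Set ↥P)).index = (cen (x : G)).index := by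
  have e1 : Subgroup.centralizer ({x} : Set ↥P) = (cen (x : G)).subgroupOf P := by
    ext g
    rw [Subgroup.mem_subgroupOf, mem_cen, mem_cen]
    constructor
    · intro h
      exact congrArg Subtype.val h
    · intro h
      exact Subtype.ext h
  rw [e1]
  change (cen (x : G)).relIndex P = _
  rw [← Cfsg.Agent.S4163.card_conj_eq_relIndex P (x : G), ← Subgroup.relIndex_top_right,
    ← Cfsg.Agent.S4163.card_conj_eq_relIndex ⊤ (x : G)]
  congr 1
  apply congrArg
  ext c
  constructor
  · rintro ⟨d, rfl⟩
    exact ⟨⟨(d : G), Subgroup.mem_top _⟩, rfl⟩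
  · rintro ⟨d, rfl⟩
    have hd : (d : G) ∈ ((P ⊔ Subgroup.center G : Subgroup G) : Set G) := by
      rw [hPZ]; trivial
    rw [Subgroup.mul_normal] at hd
    obtain ⟨u, hu, z, hz, hd'⟩ := Set.mem_mul.mp hd
    refine ⟨⟨u, hu⟩, ?_⟩
    have hzc : ∀ g : G, g * z = z * g := Subgroup.mem_center_iff.mp hz
    show u⁻¹ * (x : G) * u = (d : G)⁻¹ * (x : G) * (d : G)
    rw [← hd']
    calc u⁻¹ * (x : G) * u = z⁻¹ * (z * (u⁻¹ * (x : G) * u)) := by group
      _ = z⁻¹ * ((u⁻¹ * (x : G) * u) * z) := by rw [hzc]
      _ = (u * z)⁻¹ * (x : G) * (u * z) := by group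

end aux

/-- Let G be a finite group whose conjugacy classes have exactly two sizes, 1 and n > 1. Then n is a power of a prime p and G is the direct product of a p-group and an abelian group of order prime to p: its Sylow p-subgroup P is normal with an abelian normal complement centralizing it; moreover P has an abelian normal subgroup A with P/A of exponent dividing p. -/
theorem result {G : Type*} [Group G] [Finite G] (n : ℕ) (hn : 1 < n)
    (h : ∀ x : G, (Subgroup.centralizer ({x} : Set G)).index = 1 ∨ (Subgroup.centralizer ({x} : Set G)).index = n) (hex : ∃ x : G, (Subgroup.centralizer ({x} : Set G)).index = n) :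
    ∃ (p : ℕ) (_ : Fact p.Prime) (a : ℕ), n = p ^ a ∧ ∀ P : Sylow p G, (P : Subgroup G).Normal ∧
      (∃ N : Subgroup G, N.Normal ∧ N.IsComplement' (P : Subgroup G) ∧ IsMulCommutative N ∧
        ∀ x ∈ N, ∀ y ∈ (P : Subgroup G), x * y = y * x) ∧
      ∃ A : Subgroup (P : Subgroup G), A.Normal ∧ IsMulCommutative A ∧ ∀ y : (P : Subgroup G), y ^ p ∈ A := by
  have hT : TwoCS G n := h
  obtain ⟨x₀, hx₀⟩ := hex
  have hx₀z : x₀ ∉ Subgroup.center G := by
    intro hc
    have : cen x₀ = ⊤ := cen_eq_top_iff.mpr hc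
    have h1 : (cen x₀).index = 1 := Subgroup.index_eq_one.mpr this
    have h2 : (cen x₀).index = n := hx₀
    omega
  obtain ⟨p, k, hp, hZ⟩ := index_center_eq_prime_pow hT ⟨x₀, hx₀z⟩
  have hpf : Fact p.Prime := ⟨hp⟩
  -- n is a power of p
  have hnd : n ∣ p ^ k := by
    rw [← hZ]
    have := Subgroup.index_dvd_of_le (center_le_cen x₀)
    have h2 : (cen x₀).index = n := hx₀
    rwa [h2] at this
  obtain ⟨a, -, hna⟩ := (Nat.dvd_prime_pow hp).mp hnd
  have ha : 1 ≤ a := by
    by_contra h0
    have : a = 0 := by omega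
    rw [this, pow_zero] at hna
    omega
  refine ⟨p, hpf, a, hna, ?_⟩
  intro P
  -- G = P Z
  have hPZ : (P : Subgroup G) ⊔ Subgroup.center G = ⊤ := by
    rw [← Subgroup.index_eq_one]
    have d1 : ((P : Subgroup G) ⊔ Subgroup.center G).index ∣ (P : Subgroup G).index :=
      Subgroup.index_dvd_of_le le_sup_left
    have d2 : ((P : Subgroup G) ⊔ Subgroup.center G).index ∣ p ^ k := by
      rw [← hZ]; exact Subgroup.index_dvd_of_le le_sup_right
    have hco : Nat.Coprime (P : Subgroup G).index (p ^ k) :=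
      Nat.Coprime.pow_right _ ((Nat.Prime.coprime_iff_not_dvd hp).mpr P.not_dvd_index).symm
    exact Nat.eq_one_of_dvd_coprimes hco d1 d2
  have hPn : (P : Subgroup G).Normal := by
    rw [← Subgroup.normalizer_eq_top_iff, eq_top_iff, ← hPZ, sup_le_iff]
    refine ⟨Subgroup.le_normalizer, ?_⟩
    intro z hz
    rw [Subgroup.mem_normalizer_iff]
    intro g
    have : z * g * z⁻¹ = g := by
      rw [← Subgroup.mem_center_iff.mp hz g]; group
    rw [this]
  refine ⟨hPn, ?_, ?_⟩
  · -- the complement
    have := hPn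
    have hcop : Nat.Coprime (Nat.card (P : Subgroup G)) (P : Subgroup G).index := by
      obtain ⟨m, hm⟩ := IsPGroup.iff_card.mp P.isPGroup'
      rw [hm]
      exact Nat.Coprime.pow_left _ ((Nat.Prime.coprime_iff_not_dvd hp).mpr P.not_dvd_index)
    obtain ⟨H, hH⟩ := Subgroup.exists_left_complement'_of_coprime hcop
    have hHcard : (P : Subgroup G).index = Nat.card H := hH.index_eq_card
    have hHZ : H ≤ Subgroup.center G := by
      intro x hx
      rw [← QuotientGroup.eq_one_iff, ← orderOf_eq_one_iff]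
      have d1 : orderOf ((x : G) : G ⧸ Subgroup.center G) ∣ p ^ k := by
        rw [← hZ, Subgroup.index_eq_card]
        exact orderOf_dvd_natCard _
      have d2 : orderOf ((x : G) : G ⧸ Subgroup.center G) ∣ Nat.card H := by
        have h1 : orderOf ((x : G) : G ⧸ Subgroup.center G) ∣ orderOf x :=
          orderOf_map_dvd (QuotientGroup.mk' (Subgroup.center G)) x
        have h2 : orderOf x ∣ Nat.card H := by
          have := orderOf_dvd_natCard (⟨x, hx⟩ : ↥H)
          rwa [Subgroup.orderOf_mk] at this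
        exact h1.trans h2
      have hco : Nat.Coprime (p ^ k) (Nat.card H) := by
        rw [← hHcard]
        exact Nat.Coprime.pow_left _ ((Nat.Prime.coprime_iff_not_dvd hp).mpr P.not_dvd_index)
      exact Nat.eq_one_of_dvd_coprimes hco d1 d2
    refine ⟨H, ?_, hH, ?_, ?_⟩
    · refine ⟨fun x hx g => ?_⟩
      have : g * x * g⁻¹ = x := by
        rw [Subgroup.mem_center_iff.mp (hHZ hx) g]; group
      rw [this]; exact hx
    · refine ⟨⟨fun a b => ?_⟩⟩
      apply Subtype.ext
      exact (Subgroup.mem_center_iff.mp (hHZ a.2) b).symm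
    · intro x hx y _
      exact (Subgroup.mem_center_iff.mp (hHZ hx) y).symm
  · -- the abelian normal subgroup
    refine ⟨Subgroup.center ↥(P : Subgroup G), inferInstance, inferInstance, ?_⟩
    intro y
    apply Cfsg.Agent.S4365.result p P.isPGroup' a ha
    ext m
    simp only [Set.mem_ofPred_eq, Set.mem_insert_iff, Set.mem_singleton_iff]
    constructor
    · rintro ⟨x, rfl⟩
      rw [index_centralizer_eq _ hPZ x, ← hna]
      exact hT (x : G)
    · rintro (rfl | rfl)
      · refine ⟨1, ?_⟩
        rw [index_centralizer_eq _ hPZ 1, Subgroup.index_eq_one, cen_eq_top_iff]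
        exact Subgroup.one_mem _
      · -- x₀ = u z
        have hd : x₀ ∈ (((P : Subgroup G) ⊔ Subgroup.center G : Subgroup G) : Set G) := by
          rw [hPZ]; trivial
        rw [Subgroup.mul_normal] at hd
        obtain ⟨u, hu, z, hz, hd'⟩ := Set.mem_mul.mp hd
        refine ⟨⟨u, hu⟩, ?_⟩
        rw [index_centralizer_eq _ hPZ ⟨u, hu⟩, ← hna]
        have : cen x₀ = cen u := by rw [← hd']; exact cen_mul_central hz
        rw [← this]
        exact hx₀

end Cfsg.Agent.S4134
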