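import Cfsg.Statements.S4135
import Cfsg.Agent.Lib.Helper66.TwoGCSC

set_option autoImplicit false
open Cfsg

namespace Cfsg.Agent.S4135

open Cfsg.Agent.Helper69 Cfsg.Agent.Helper69.Ito Cfsg.Agent.Helper66.TwoGCS

/-- Let G be a finite group, r a prime and R a Sylow r-subgroup of G that is not central, N a normal subgroup of G containing R, and m a natural number such that every element of N has a conjugacy class in G of size 1 or m. Then N is nilpotent. -/
theorem result {G : Type*} [Group G] [Finite G] (r : ℕ) [Fact r.Prime]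
    (R : Sylow r G) (hR : ¬ (R : Subgroup G) ≤ Subgroup.center G) (N : Subgroup G) [N.Normal] (hRN : (R : Subgroup G) ≤ N)
    (m : ℕ) (h : ∀ x ∈ N, (Subgroup.centralizer ({x} : Set G)).index = 1 ∨ (Subgroup.centralizer ({x} : Set G)).index = m) : Group.IsNilpotent N := by
  have hrp : r.Prime := Fact.out
  have hG : GCS N m := h
  by_cases hex : ∃ u ∈ N, u ∉ Subgroup.center G ∧ (orderOf u).Coprime r
  · obtain ⟨u, huN, huc, huo⟩ := hex
    obtain ⟨t, ht, y, hyz, hyc, k, hyo⟩ := exists_primePow_part u huc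
    have hyN : y ∈ N := by
      have : Subgroup.zpowers u ≤ N := by
        rw [Subgroup.zpowers_le]; exact huN
      exact this hyz
    have htr : t ≠ r := by
      intro htr
      have hk : k ≠ 0 := by
        intro hk
        rw [hk, pow_zero, orderOf_eq_one_iff] at hyo
        exact hyc (hyo ▸ Subgroup.one_mem _)
      have h1 : t ∣ orderOf u :=
        (dvd_pow_self t hk).trans (hyo ▸ orderOf_dvd_of_mem_zpowers hyz)
      rw [htr] at h1
      exact (Nat.Prime.coprime_iff_not_dvd hrp).mp huo.symm h1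
    have hD : TIC N (cen y) :=
      ⟨fun c hc => cen_le_cen_of_mem hG r R hR hRN hyN hyc ht htr hyo hc,
       fun w hw hwc => cen_eq_of_mem hG r R hR hRN hyN hyc ht htr hyo hw hwc⟩
    by_cases hcov : ∃ v ∈ N, v ∉ Subgroup.center G ∧ ∀ g : G, g⁻¹ * v * g ∉ cen y ⊓ N
    · exfalso
      obtain ⟨v, hvN, hvc, hvC⟩ := hcov
      obtain ⟨x, hxC, hxc, j, hxo⟩ := exists_r_elt hG r R hR hRN hyN hyc
      have hyC : y ∈ cen y ⊓ N := Subgroup.mem_inf.mpr ⟨self_mem_cen y, hyN⟩
      have hx1 : x ^ r ^ j = 1 := by rw [← hxo]; exact pow_orderOf_eq_one x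
      have hy1 : y ^ t ^ k = 1 := by rw [← hyo]; exact pow_orderOf_eq_one y
      exact caseII_false hG hD hrp ht (Ne.symm htr) hxC hxc hx1 hyC hyc hy1 hvN hvc hvC
    · apply nilpotent_of_cover hD
      intro v hvN hvc
      by_contra hno
      apply hcov
      exact ⟨v, hvN, hvc, fun g hg => hno ⟨g, hg⟩⟩
  · apply nilpotent_of_coprime_central N r
    intro u huN huo
    by_contra huc
    exact hex ⟨u, huN, huc, huo⟩

end Cfsg.Agent.S4135
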