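import Cfsg.Statements.S4140
import Mathlib
import Cfsg.Agent.Lib.Helper69.Camina
import Cfsg.Agent.S0033
-- import your own Cfsg.Agent.* helpers here

set_option autoImplicit false
open Cfsg

namespace Cfsg.Agent.S4140

open Cfsg.Agent.Helper69.Camina in
/-- Let G be a finite group and N a proper non-trivial normal subgroup such that for every g outside N the conjugacy class of g is a union of cosets of N (equivalently gn is conjugate to g for every n ∈ N). Then either every element of G outside N acts fixed-point-freely on N (C_G(x) ≤ N for all x ∈ N, x ≠ 1, so G is a Frobenius group with kernel N), or N has prime-power order, or G/N has prime-power order. -/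
theorem result {G : Type*} [Group G] [Finite G] (N : Subgroup G) [N.Normal] (hN1 : N ≠ ⊥) (hN2 : N ≠ ⊤)
    (hcam : ∀ g : G, g ∉ N → ∀ n ∈ N, ∃ x : G, x * g * x⁻¹ = g * n) :
    (∀ x ∈ N, x ≠ 1 → Subgroup.centralizer ({x} : Set G) ≤ N) ∨ IsPrimePow (Nat.card N) ∨ IsPrimePow N.index := by
  classical
  have hc : IsCam N := hcam
  by_contra hcon
  push_neg at hcon
  obtain ⟨⟨x, hxN, hx1, hxC⟩, hNpp, hIpp⟩ := hcon
  obtain ⟨g₀, hg₀C, hg₀N⟩ := SetLike.not_le_iff_exists.mp hxC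
  have hcomm₀ : Commute g₀ x := Subgroup.mem_centralizer_singleton_iff.mp hg₀C
  obtain ⟨p, hp, g, hgN, ⟨a, hga⟩, x', hx'N, hx'1, hcomm⟩ := hc.exists_pelem hg₀N hxN hx1 hcomm₀
  haveI : Fact p.Prime := ⟨hp⟩
  obtain ⟨hNC, P₁, hP₁, hgP, hT, hA, hconj⟩ := hc.tate_step hgN hga hx'N hx'1 hcomm
  by_cases hII : ∃ q : ℕ, q.Prime ∧ q ≠ p ∧ ∃ y : G, y ∉ N ∧ (∃ b, orderOf y = q ^ b) ∧
      ∃ n ∈ N, n ≠ 1 ∧ Commute y n
  · -- two bad primes
    obtain ⟨q, hq, hqp, y, hyN, ⟨b, hyb⟩, n, hnN, hn1, hyn⟩ := hII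
    haveI : Fact q.Prime := ⟨hq⟩
    obtain ⟨hNCq, Q₁, hQ₁, hyQ, hTq, hAq, hconjq⟩ := hc.tate_step hyN hyb hnN hn1 hyn
    obtain ⟨Kq, hKqn, hKqN, hKqmem, ⟨kq, hKqpow⟩, hKqcop⟩ := exists_normal_compl hNCq
    obtain ⟨Kp, hKpn, hKpN, hKpmem, ⟨kp, hKppow⟩, hKpcop⟩ := exists_normal_compl hNC
    haveI := hKqn
    haveI := hKpn
    have key : ∀ (r s : ℕ) [Fact r.Prime] [Fact s.Prime], r ≠ s → ∀ (u : G), u ∉ N →
        (∃ c, orderOf u = s ^ c) → ∀ m ∈ N, m ≠ 1 → Commute u m →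
        ∀ (Ks : Subgroup G) [Ks.Normal], Ks ≤ N → (∀ n ∈ N, (orderOf n).Coprime s → n ∈ Ks) →
        (∃ k : ℕ, ∀ n ∈ N, n ^ (s ^ k) ∈ Ks) → (Nat.card Ks).Coprime s →
        ∀ (R₁ : Subgroup G) (w : G), IsPGroup r R₁ → w ∈ R₁ → N ⊓ R₁ ≠ ⊥ →
        (∀ a ∈ N ⊓ R₁, ∃ y ∈ R₁, y * w * y⁻¹ = w * a) → r = 2 := by
      intro r s hr hs hrs u huN ⟨c, huc⟩ m hmN hm1 hum Ks hKsn hKsN hKsmem ⟨k, hKspow⟩ hKscop R₁ w
        hR₁ hwR hAR hconjR
      refine (hc.quat_of_good R₁ hR₁ hwR hAR hconjR Ks hKsN ?_ ?_ ?_).1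
      · rintro m' hm' ⟨j, hj⟩
        apply hKsmem m' hm'
        rw [hj]
        exact Nat.Coprime.pow_left j ((Nat.coprime_primes hr.out hs.out).mpr hrs)
      · exact coprime_card_map_of_pow_mem hr.out
          (Nat.Coprime.pow_left k ((Nat.coprime_primes hs.out hr.out).mpr hrs.symm)) hKspow
      · intro hbot
        have hle : N ≤ Ks := by
          rw [Subgroup.map_eq_bot_iff, QuotientGroup.ker_mk'] at hbot
          exact hbot
        obtain ⟨j, hj⟩ := hc.orderOf_of_commute hs.out huN huc hmN hum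
        have hj0 : j ≠ 0 := by
          rintro rfl
          rw [pow_zero, orderOf_eq_one_iff] at hj
          exact hm1 hj
        have h1 : orderOf m ∣ Nat.card Ks := by
          have := orderOf_dvd_natCard (⟨m, hle hmN⟩ : Ks)
          rwa [Subgroup.orderOf_mk] at this
        rw [hj] at h1
        have h2 : s ∣ Nat.card Ks := (dvd_pow_self s hj0).trans h1
        exact (Nat.Prime.coprime_iff_not_dvd hs.out).mp hKscop.symm h2
    have h2p : p = 2 := key p q hqp.symm y hyN ⟨b, hyb⟩ n hnN hn1 hyn Kq hKqN hKqmem ⟨kq, hKqpow⟩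
      hKqcop P₁ g hP₁ hgP hA hconj
    have h2q : q = 2 := key q p hqp g hgN ⟨a, hga⟩ x' hx'N hx'1 hcomm Kp hKpN hKpmem ⟨kp, hKppow⟩
      hKpcop Q₁ y hQ₁ hyQ hAq hconjq
    exact hqp (h2q.trans h2p.symm)
  · -- only one bad prime: Thompson
    push_neg at hII
    have hidx0 : N.index ≠ 0 := Subgroup.index_ne_zero_of_finite
    have hidx1 : N.index ≠ 1 := by rwa [Ne, Subgroup.index_eq_one]
    obtain ⟨q, hq, hqd, hqp⟩ : ∃ q : ℕ, q.Prime ∧ q ∣ N.index ∧ q ≠ p := by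
      by_contra hno
      push_neg at hno
      apply hIpp
      have h1 := Nat.eq_prime_pow_of_unique_prime_dvd hidx0 (fun {d} hd hdd => hno d hd hdd)
      rw [h1]
      refine hp.isPrimePow.pow ?_
      intro hk
      rw [hk, pow_zero] at h1
      exact hidx1 h1
    haveI : Fact q.Prime := ⟨hq⟩
    obtain ⟨yq, hyq⟩ := exists_prime_orderOf_dvd_card' (G := G ⧸ N) q
      (by rw [← Subgroup.index_eq_card]; exact hqd)
    obtain ⟨y₀, rfl⟩ := QuotientGroup.mk_surjective yq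
    obtain ⟨b, hb⟩ : ∃ b, b = (orderOf y₀).factorization q := ⟨_, rfl⟩
    obtain ⟨m, hm⟩ : ∃ m, m = orderOf y₀ / q ^ b := ⟨_, rfl⟩
    have hy₀0 : orderOf y₀ ≠ 0 := (orderOf_pos y₀).ne'
    have hmul : q ^ b * m = orderOf y₀ := by
      rw [hm, hb]; exact Nat.ordProj_mul_ordCompl_eq_self _ _
    have hmcop : m.Coprime q := by
      rw [hm, hb]; exact (Nat.coprime_ordCompl hq hy₀0).symm
    have hm0 : m ≠ 0 := by
      rintro rfl
      rw [mul_zero] at hmul; exact hy₀0 hmul.symm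
    have hyo : orderOf (y₀ ^ m) = q ^ b := by
      rw [orderOf_pow_of_dvd hm0 (Dvd.intro_left _ hmul), ← hmul]
      exact Nat.mul_div_cancel _ (Nat.pos_of_ne_zero hm0)
    have hyN : y₀ ^ m ∉ N := by
      intro h
      have h1 : (QuotientGroup.mk y₀ : G ⧸ N) ^ m = 1 := by
        rw [← QuotientGroup.mk_pow]; exact (QuotientGroup.eq_one_iff _).mpr h
      have h2 : q ∣ m := hyq ▸ orderOf_dvd_of_pow_eq_one h1
      exact (Nat.Prime.coprime_iff_not_dvd hq).mp hmcop.symm h2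
    have hyq' : (y₀ ^ m) ^ q ∈ N := by
      rw [← QuotientGroup.eq_one_iff, QuotientGroup.mk_pow, QuotientGroup.mk_pow, pow_right_comm,
        ← hyq, pow_orderOf_eq_one, one_pow]
    obtain ⟨y, hy⟩ : ∃ y, y = y₀ ^ m := ⟨_, rfl⟩
    rw [← hy] at hyo hyN hyq'
    have hfree : ∀ n ∈ N, n ≠ 1 → ¬ Commute y n := hII q hq hqp y hyN ⟨b, hyo⟩
    have hyq1 : y ^ q = 1 := by
      by_contra h
      exact hfree _ hyq' h (Commute.pow_right (Commute.refl y) q)
    have hφ : MonoidHom.FixedPointFree ((MulAut.conjNormal y : N ≃* N) : N →* N) := by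
      intro n hn
      by_contra hn1
      apply hfree (n : G) n.2 (fun h => hn1 (Subtype.ext h))
      have h1 : y * (n : G) * y⁻¹ = n := by
        have := congrArg Subtype.val hn
        simpa [MulAut.conjNormal_apply] using this
      show y * (n : G) = n * y
      calc y * (n : G) = y * n * y⁻¹ * y := by group
        _ = n * y := by rw [h1]
    have hord : orderOf (MulAut.conjNormal y : N ≃* N) = q := by
      apply orderOf_eq_prime
      · rw [← map_pow, hyq1, map_one]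
      · intro h
        obtain ⟨n, hn, hn1⟩ := (Subgroup.bot_or_exists_ne_one N).resolve_left hN1
        apply hn1
        have h2 := hφ ⟨n, hn⟩ (by rw [h]; rfl)
        exact congrArg Subtype.val h2
    have hnil : Group.IsNilpotent N := Cfsg.Agent.S0033.result (MulAut.conjNormal y : N ≃* N) hφ q hq hord
    obtain ⟨K, hKn, hKN, hKpg, hKp, e, hecop, hKpow⟩ := exists_normal_sylow_image hnil p
    haveI := hKn
    have hVcop : (Nat.card ↥(N.map (QuotientGroup.mk' K))).Coprime p :=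
      coprime_card_map_of_pow_mem hp hecop hKpow
    have hV : N.map (QuotientGroup.mk' K) ≠ ⊥ := by
      intro hbot
      have hle : N ≤ K := by
        rw [Subgroup.map_eq_bot_iff, QuotientGroup.ker_mk'] at hbot
        exact hbot
      have hNK : N = K := le_antisymm hle hKN
      apply hNpp
      obtain ⟨k, hk⟩ := IsPGroup.iff_card.mp hKpg
      rw [hNK, hk]
      refine hp.isPrimePow.pow ?_
      intro hk0
      rw [hk0, pow_zero] at hk
      apply hN1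
      rw [hNK]
      exact (Subgroup.card_eq_one).mp hk
    obtain ⟨h2, hncB, nB, ⟨eB⟩⟩ := hc.quat_of_good P₁ hP₁ hgP hA hconj K hKN hKp hVcop hV
    subst h2
    -- an element of order 4 in the quaternion image
    have ho4 : orderOf (eB.symm (QuaternionGroup.xa 0)) = 4 := by
      rw [MulEquiv.orderOf_eq]; exact QuaternionGroup.orderOf_xa 0
    obtain ⟨b', hb'⟩ : ∃ b' : ↥(P₁.map (QuotientGroup.mk' K)),
        b' = eB.symm (QuaternionGroup.xa 0) := ⟨_, rfl⟩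
    have ho4' : orderOf (b' : G ⧸ K) = 4 := by
      rw [Subgroup.orderOf_coe, hb']; exact ho4
    obtain ⟨x₁, hx₁P, hx₁b⟩ := b'.2
    rw [← hx₁b] at ho4'
    clear ho4
    have ho4 : orderOf (QuotientGroup.mk' K x₁) = 4 := ho4'
    have hx₁N : x₁ ∉ N := by
      intro h
      obtain ⟨j, hj⟩ := orderOf_of_mem_pgroup hp hP₁ hx₁P
      have : x₁ ∈ K := hKp x₁ h ⟨j, hj⟩
      have h1 : QuotientGroup.mk' K x₁ = 1 := (QuotientGroup.eq_one_iff x₁).mpr this
      rw [h1, orderOf_one] at ho4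
      omega
    obtain ⟨c₁, hc₁⟩ := orderOf_of_mem_pgroup hp hP₁ hx₁P
    -- a nontrivial element of N commuting with x₁
    haveI : Group.IsNilpotent ↥P₁ := hP₁.isNilpotent
    haveI hAn : (N.subgroupOf P₁).Normal := Subgroup.normal_subgroupOf
    have hA' : N.subgroupOf P₁ ≠ ⊥ := by
      intro h
      apply hA
      rw [eq_bot_iff]
      intro a' ha'
      have h1 : (⟨a', ha'.2⟩ : P₁) ∈ N.subgroupOf P₁ := ha'.1
      rw [h, Subgroup.mem_bot] at h1
      exact congrArg Subtype.val h1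
    obtain ⟨z, hzA, hz1, hzc⟩ := exists_central_of_normal _ (N.subgroupOf P₁) hAn rfl hA'
    have hzN : (z : G) ∈ N := hzA
    have hz1' : (z : G) ≠ 1 := fun h => hz1 (Subtype.ext h)
    have hxz : Commute x₁ (z : G) := by
      have h1 := (Subgroup.mem_center_iff.mp hzc) ⟨x₁, hx₁P⟩
      have h2 := congrArg Subtype.val h1
      exact h2
    obtain ⟨-, Pₓ, hPₓ, hxPₓ, hTₓ, hAₓ, hconjₓ⟩ := hc.tate_step hx₁N hc₁ hzN hz1' hxz
    obtain ⟨-, hncBₓ, nₓ, ⟨eₓ⟩⟩ := hc.quat_of_good Pₓ hPₓ hxPₓ hAₓ hconjₓ K hKN hKp hVcop hV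
    refine no_central_order_four hncBₓ eₓ
      ⟨QuotientGroup.mk' K x₁, ⟨x₁, hxPₓ, rfl⟩⟩ ?_ (by rw [← Subgroup.orderOf_coe]; exact ho4)
    rintro ⟨w, y', hy'P, rfl⟩
    apply Subtype.ext
    show QuotientGroup.mk' K x₁ * QuotientGroup.mk' K y' = QuotientGroup.mk' K y' * QuotientGroup.mk' K x₁
    rw [← map_mul, ← map_mul, QuotientGroup.mk'_apply, QuotientGroup.mk'_apply, eq_comm, QuotientGroup.eq]
    have h1 : y' * x₁ * y'⁻¹ * x₁⁻¹ ∈ N := hTₓ y' hy'P
    have h2 : y' * x₁ * y'⁻¹ * x₁⁻¹ ∈ Pₓ :=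
      Pₓ.mul_mem (Pₓ.mul_mem (Pₓ.mul_mem hy'P hxPₓ) (Pₓ.inv_mem hy'P)) (Pₓ.inv_mem hxPₓ)
    have h3 : y' * x₁ * y'⁻¹ * x₁⁻¹ ∈ K := hKp _ h1 (orderOf_of_mem_pgroup hp hPₓ h2)
    have h4 := hKn.conj_mem _ (K.inv_mem h3) (x₁ * y')⁻¹
    have e4 : (x₁ * y')⁻¹ * (y' * x₁ * y'⁻¹ * x₁⁻¹)⁻¹ * (x₁ * y')⁻¹⁻¹ = (y' * x₁)⁻¹ * (x₁ * y') := by
      group
    rwa [e4] at h4

end Cfsg.Agent.S4140
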