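import Cfsg.Statements.S4142
-- import your own Cfsg.Agent.* helpers here

set_option autoImplicit false
open Cfsg

namespace Cfsg.Agent.S4142

/-- The conjugacy class of `g` as a set. -/
def cls {G : Type*} [Group G] (g : G) : Set G := {y : G | ∃ x : G, x * g * x⁻¹ = y}

theorem index_centralizer_eq {G : Type*} [Group G] (g : G) :
    (Subgroup.centralizer ({g} : Set G)).index = (cls g).ncard := by
  have h1 := Subgroup.centralizer_eq_comap_stabilizer g
  have h2 := Subgroup.index_comap_of_surjective (MulAction.stabilizer (ConjAct G) g)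
    (f := (ConjAct.toConjAct (G := G)).toMonoidHom) (ConjAct.toConjAct (G := G)).surjective
  have h3 := MulAction.index_stabilizer (ConjAct G) g
  have h4 : MulAction.orbit (ConjAct G) g = cls g := by
    ext y
    simp only [cls, MulAction.mem_orbit_iff, Set.mem_ofPred_eq]
    constructor
    · rintro ⟨c, rfl⟩
      exact ⟨ConjAct.ofConjAct c, by rw [ConjAct.smul_def]⟩
    · rintro ⟨x, rfl⟩
      exact ⟨ConjAct.toConjAct x, by rw [ConjAct.smul_def]; simp⟩
  rw [h4] at h3
  exact (congrArg Subgroup.index h1).trans (h2.trans h3)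

theorem card_centralizer_mul {G : Type*} [Group G] (g : G) :
    Nat.card (Subgroup.centralizer ({g} : Set G)) * (cls g).ncard = Nat.card G := by
  rw [← index_centralizer_eq, Subgroup.card_mul_index]

theorem arith {c k c' k' n q : ℕ} (h1 : c * k = q * n) (h2 : c' * k' = q) (hc : 0 < c)
    (hq : 0 < q) (hn : 0 < n) (hle : k ≤ n * k') : n * k' ≤ k ↔ c = c' := by
  have hk : 0 < k := by
    rcases Nat.eq_zero_or_pos k with h | h
    · rw [h, mul_zero] at h1
      have := Nat.mul_pos hq hn
      omega
    · exact h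
  constructor
  · intro h
    have hk' : k = n * k' := le_antisymm hle h
    have : c * k = c' * k := by
      rw [h1, ← h2, hk']; ring
    exact Nat.eq_of_mul_eq_mul_right hk this
  · intro h
    subst h
    have : c * k = c * (n * k') := by
      rw [h1, ← h2]; ring
    exact (Nat.eq_of_mul_eq_mul_left hc this).ge

theorem camina_iff {G : Type*} [Group G] [Finite G] (N : Subgroup G) [hNn : N.Normal] (g : G) :
    (∀ n ∈ N, ∃ x : G, x * g * x⁻¹ = g * n) ↔
      Nat.card (Subgroup.centralizer ({g} : Set G)) =
        Nat.card (Subgroup.centralizer ({(QuotientGroup.mk g : G ⧸ N)} : Set (G ⧸ N))) := by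
  set Pre : Set G := (QuotientGroup.mk : G → G ⧸ N) ⁻¹' (cls (QuotientGroup.mk g : G ⧸ N)) with hPre
  have hsub : cls g ⊆ Pre := by
    rintro y ⟨x, rfl⟩
    exact ⟨(QuotientGroup.mk x : G ⧸ N), by simp⟩
  have hPrecard : Pre.ncard = Nat.card N * (cls (QuotientGroup.mk g : G ⧸ N)).ncard := by
    rw [← Nat.card_coe_set_eq, ← Nat.card_coe_set_eq, ← Nat.card_prod]
    exact Nat.card_congr (QuotientGroup.preimageMkEquivSubgroupProdSet N _)
  have step1 : (∀ n ∈ N, ∃ x : G, x * g * x⁻¹ = g * n) ↔ Pre ⊆ cls g := by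
    constructor
    · intro h y hy
      obtain ⟨xq, hxq⟩ := hy
      obtain ⟨x, rfl⟩ := QuotientGroup.mk_surjective xq
      -- mk (x g x⁻¹) = mk y
      have h1 : (x * g * x⁻¹)⁻¹ * y ∈ N := by
        rw [← QuotientGroup.eq]
        simpa using hxq
      -- y = x g x⁻¹ n' ; n = x⁻¹ n' x
      have h2 : x⁻¹ * ((x * g * x⁻¹)⁻¹ * y) * x⁻¹⁻¹ ∈ N := hNn.conj_mem _ h1 x⁻¹
      obtain ⟨z, hz⟩ := h _ h2
      refine ⟨x * z, ?_⟩
      have e : x * z * g * (x * z)⁻¹ = x * (z * g * z⁻¹) * x⁻¹ := by group
      rw [e, hz]; group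
    · intro h n hn
      have : g * n ∈ Pre := by
        refine ⟨1, ?_⟩
        have : (QuotientGroup.mk (g * n) : G ⧸ N) = QuotientGroup.mk g := by
          rw [QuotientGroup.mk_mul, (QuotientGroup.eq_one_iff n).mpr hn, mul_one]
        rw [this]; simp
      exact h this
  have step2 : Pre ⊆ cls g ↔ Pre.ncard ≤ (cls g).ncard := by
    constructor
    · intro h
      exact Set.ncard_le_ncard h (Set.toFinite _)
    · intro h
      exact (Set.eq_of_subset_of_ncard_le hsub h (Set.toFinite _)).ge
  rw [step1, step2, hPrecard]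
  apply arith (q := Nat.card (G ⧸ N)) _ (card_centralizer_mul (QuotientGroup.mk g : G ⧸ N))
    Nat.card_pos Nat.card_pos Nat.card_pos
  · rw [← hPrecard]
    exact Set.ncard_le_ncard hsub (Set.toFinite _)
  · rw [card_centralizer_mul, ← Subgroup.card_eq_card_quotient_mul_card_subgroup]

/-- Let G be a finite group and N a normal subgroup. Then the conjugacy class of every element g outside N is a union of cosets of N (gn is conjugate to g for all n ∈ N) if and only if for every g outside N the centralizer of g in G has the same order as the centralizer of gN in G/N. -/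
theorem result {G : Type*} [Group G] [Finite G] (N : Subgroup G) [N.Normal] :
    (∀ g : G, g ∉ N → ∀ n ∈ N, ∃ x : G, x * g * x⁻¹ = g * n) ↔
      ∀ g : G, g ∉ N → Nat.card (Subgroup.centralizer ({g} : Set G)) =
        Nat.card (Subgroup.centralizer ({(QuotientGroup.mk g : G ⧸ N)} : Set (G ⧸ N))) := by
  constructor
  · intro h g hg
    exact (camina_iff N g).mp (h g hg)
  · intro h g hg
    exact (camina_iff N g).mpr (h g hg)

end Cfsg.Agent.S4142
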