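import Cfsg.Statements.S4150
import Cfsg.Agent.Lib.Helper35.JPCEngine
import Cfsg.Agent.Lib.Helper75.JPCN1

set_option autoImplicit false
open Cfsg

namespace Cfsg.Agent.S4150

/-- Let m ≥ 5. Then there are primes p < q with m/2 ≤ p and q ≤ m such that any two elements x, y of the alternating group of degree m with x of order p and y of order q generate a subgroup isomorphic to an alternating group of some degree d ≥ 5. -/
theorem result (m : ℕ) (hm : 5 ≤ m) :
    ∃ p q : ℕ, p.Prime ∧ q.Prime ∧ m ≤ 2 * p ∧ p < q ∧ q ≤ m ∧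
      ∀ x y : alternatingGroup (Fin m), orderOf x = p → orderOf y = q →
        ∃ d : ℕ, 5 ≤ d ∧ Nonempty (Subgroup.closure ({x, y} : Set (alternatingGroup (Fin m))) ≃* alternatingGroup (Fin d)) := by
  rcases Nat.lt_or_ge m 7 with h7 | h7
  · exact ⟨3, 5, by norm_num, by norm_num, by omega, by norm_num, by omega, fun x y hx hy =>
      Cfsg.Agent.Helper35.JPC.engine m 3 5 hm (by norm_num) (by norm_num) (by omega) (by norm_num)
        (by omega) (Or.inl rfl) (fun h => Or.inr (by omega)) x y hx hy⟩
  rcases Nat.lt_or_ge m 11 with h11 | h11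
  · exact ⟨5, 7, by norm_num, by norm_num, by omega, by norm_num, by omega, fun x y hx hy =>
      Cfsg.Agent.Helper35.JPC.engine m 5 7 hm (by norm_num) (by norm_num) (by omega) (by norm_num)
        (by omega) (Or.inr (Or.inr (Or.inl ⟨rfl, rfl⟩))) (fun h => Or.inl (by omega)) x y hx hy⟩
  rcases Nat.lt_or_ge m 15 with h15 | h15
  · exact ⟨7, 11, by norm_num, by norm_num, by omega, by norm_num, by omega, fun x y hx hy =>
      Cfsg.Agent.Helper35.JPC.engine m 7 11 hm (by norm_num) (by norm_num) (by omega) (by norm_num)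
        (by omega) (Or.inr (Or.inl (by norm_num))) (fun h => Or.inl (by omega)) x y hx hy⟩
  rcases Nat.lt_or_ge m 17 with h17 | h17
  · exact ⟨11, 13, by norm_num, by norm_num, by omega, by norm_num, by omega, fun x y hx hy =>
      Cfsg.Agent.Helper35.JPC.engine m 11 13 hm (by norm_num) (by norm_num) (by omega) (by norm_num)
        (by omega) (Or.inr (Or.inr (Or.inr ⟨rfl, rfl⟩))) (fun h => Or.inl (by omega)) x y hx hy⟩
  obtain ⟨p, q, hp, hq, hmp, hpq, hqm⟩ := Cfsg.Agent.Helper75.JPC.exists_primes_gap m h17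
  exact ⟨p, q, hp, hq, by omega, by omega, hqm, fun x y hx hy =>
    Cfsg.Agent.Helper35.JPC.engine m p q hm hp hq (by omega) (by omega) hqm (Or.inr (Or.inl hpq))
      (fun h => by omega) x y hx hy⟩

end Cfsg.Agent.S4150
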