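import Cfsg.Statements.S4152
import Mathlib
import Cfsg.Agent.Lib.Helper69.CommPairs
import Cfsg.Agent.Lib.Helper69.PiParts
import Cfsg.Agent.Lib.Helper69.PiBurnside

set_option autoImplicit false
open Cfsg

namespace Cfsg.Agent.S4152

open Cfsg.Agent.Helper69

section swap

variable {X : Type*} [Group X] (N : Subgroup X) (π : Set ℕ)

/-- exchange the `π'`-part of the second entry -/
noncomputable def swapM (m : Mixed N) : Mixed N :=
  ⟨(m.1.1 * piPart' π (m.1.2 : X),
    ⟨piPart π (m.1.2 : X), by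
      have h1 : piPart π (m.1.2 : X) ∈ Subgroup.zpowers (m.1.2 : X) := piPart_mem_zpowers π _
      have h2 : Subgroup.zpowers (m.1.2 : X) ≤ N := by
        rw [Subgroup.zpowers_le]; exact m.1.2.2
      exact h2 h1⟩), by
    show Commute (m.1.1 * piPart' π (m.1.2 : X)) (piPart π (m.1.2 : X))
    have hc : Commute m.1.1 (m.1.2 : X) := m.2
    exact (hc.zpow_right _).mul_left (commute_piPart_piPart' π _).symm⟩

theorem swapM_fst (m : Mixed N) : (swapM N π m).1.1 = m.1.1 * piPart' π (m.1.2 : X) := rfl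

theorem swapM_snd (m : Mixed N) : ((swapM N π m).1.2 : X) = piPart π (m.1.2 : X) := rfl

theorem swapM_mk [N.Normal] (m : Mixed N) :
    (QuotientGroup.mk (swapM N π m).1.1 : X ⧸ N) = QuotientGroup.mk m.1.1 := by
  rw [swapM_fst, QuotientGroup.mk_mul]
  have h1 : piPart' π (m.1.2 : X) ∈ Subgroup.zpowers (m.1.2 : X) := piPart'_mem_zpowers π _
  have h2 : Subgroup.zpowers (m.1.2 : X) ≤ N := by
    rw [Subgroup.zpowers_le]; exact m.1.2.2
  rw [(QuotientGroup.eq_one_iff _).mpr (h2 h1), mul_one]

theorem swapM_inj [Finite X] {m m' : Mixed N} (hm : IsPiElt π m.1.1) (hm' : IsPiElt π m'.1.1)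
    (e : swapM N π m = swapM N π m') : m = m' := by
  have e1 : m.1.1 * piPart' π (m.1.2 : X) = m'.1.1 * piPart' π (m'.1.2 : X) :=
    congrArg (fun z => z.1.1) e
  have e2 : piPart π (m.1.2 : X) = piPart π (m'.1.2 : X) :=
    congrArg (fun z => ((z.1.2 : N) : X)) e
  have o : ∀ x : X, orderOf x ≠ 0 := fun x => (orderOf_pos x).ne'
  have hc : Commute m.1.1 (m.1.2 : X) := m.2
  have hc' : Commute m'.1.1 (m'.1.2 : X) := m'.2
  have hcz : Commute m.1.1 (piPart' π (m.1.2 : X)) := hc.zpow_right _
  have hcz' : Commute m'.1.1 (piPart' π (m'.1.2 : X)) := hc'.zpow_right _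
  have p1 := parts_unique π hcz hm (isPiElt_piPart' π _ (o _)) (o _) (o _)
  have p2 := parts_unique π hcz' hm' (isPiElt_piPart' π _ (o _)) (o _) (o _)
  rw [e1] at p1
  have ea : m.1.1 = m'.1.1 := p1.1.symm.trans p2.1
  have eb : piPart' π (m.1.2 : X) = piPart' π (m'.1.2 : X) := p1.2.symm.trans p2.2
  have en : (m.1.2 : X) = (m'.1.2 : X) := by
    rw [← piPart_mul_piPart' π (m.1.2 : X), ← piPart_mul_piPart' π (m'.1.2 : X), e2, eb]
  apply Subtype.ext
  apply Prod.ext
  · exact ea
  · exact Subtype.ext en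

end swap

section phi

variable {X : Type*} [Group X] (N : Subgroup X) [N.Normal] (π : Set ℕ)

/-- forget the `π`-condition -/
def toCP (p : CPpi X π) : CP X := ⟨p.1, p.2.2⟩

/-- the mixed pair attached to a commuting pair -/
noncomputable def mixOf (p : CPpi X π) : Mixed N := (iota1 N (toCP π p)).2

theorem mixOf_fst (p : CPpi X π) : (mixOf N π p).1.1 = p.1.1 := rfl

/-- the commuting pair of `N` attached to a commuting pair -/
noncomputable def cpN (p : CPpi X π) : CP N := (iota2 N (swapM N π (mixOf N π p))).2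

theorem cpN_fst [Finite X] (p : CPpi X π) : IsPiElt π (cpN N π p).1.1 := by
  have h : (((cpN N π p).1.1 : N) : X) = piPart π ((mixOf N π p).1.2 : X) := rfl
  rw [← isPiElt_coe_iff, h]
  exact isPiElt_piPart π _ (orderOf_pos _).ne'

/-- the injection -/
noncomputable def phi [Finite X] (p : CPpi X π) : CPpi (X ⧸ N) π × CPpi N π :=
  (⟨((p.1.1 : X ⧸ N), (p.1.2 : X ⧸ N)), p.2.1.map (QuotientGroup.mk' N), by
      have h : p.1.1 * p.1.2 = p.1.2 * p.1.1 := p.2.2
      change ((p.1.1 : X ⧸ N)) * (p.1.2 : X ⧸ N) = (p.1.2 : X ⧸ N) * (p.1.1 : X ⧸ N)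
      rw [← QuotientGroup.mk_mul, ← QuotientGroup.mk_mul, h]⟩,
    ⟨(cpN N π p).1, cpN_fst N π p, (cpN N π p).2⟩)

theorem phi_injective [Finite X] : Function.Injective (phi N π) := by
  intro p p' e
  have e1 : (QuotientGroup.mk p.1.1 : X ⧸ N) = QuotientGroup.mk p'.1.1 :=
    congrArg (fun z => z.1.1.1) e
  have e2 : (QuotientGroup.mk p.1.2 : X ⧸ N) = QuotientGroup.mk p'.1.2 :=
    congrArg (fun z => z.1.1.2) e
  have e3' : (cpN N π p).1 = (cpN N π p').1 := congrArg (fun z => z.2.1) e
  have e3 : cpN N π p = cpN N π p' := Subtype.ext e3'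
  have e4 : iota2 N (swapM N π (mixOf N π p)) = iota2 N (swapM N π (mixOf N π p')) := by
    apply Prod.ext
    · rw [iota2_fst, iota2_fst, swapM_mk, swapM_mk, mixOf_fst, mixOf_fst]; exact e1
    · exact e3
  have e5 := iota2_injective N e4
  have e6 : mixOf N π p = mixOf N π p' :=
    swapM_inj N π (by rw [mixOf_fst]; exact p.2.1) (by rw [mixOf_fst]; exact p'.2.1) e5
  have e7 : toCP π p = toCP π p' := by
    apply iota1_injective N
    apply Prod.ext
    · rw [iota1_fst, iota1_fst]; exact e2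
    · exact e6
  have e8 : (toCP π p).1 = (toCP π p').1 := congrArg Subtype.val e7
  exact Subtype.ext e8

end phi

/-- Let G be a finite group, N a normal subgroup and π a set of primes. Then the number of conjugacy classes of π-elements of G (elements whose order is divisible only by primes in π) is at most the number of conjugacy classes of π-elements of N (under conjugation by N) times the number of conjugacy classes of π-elements of G/N. -/
theorem result {G : Type*} [Group G] [Finite G] (N : Subgroup G) [N.Normal] (π : Set ℕ) :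
    Nat.card {C : ConjClasses G // ∀ q : ℕ, q.Prime → (∃ g : G, ConjClasses.mk g = C ∧ q ∣ orderOf g) → q ∈ π} ≤ Nat.card {C : ConjClasses N // ∀ q : ℕ, q.Prime → (∃ g : N, ConjClasses.mk g = C ∧ q ∣ orderOf g) → q ∈ π} * Nat.card {C : ConjClasses (G ⧸ N) // ∀ q : ℕ, q.Prime → (∃ g : (G ⧸ N), ConjClasses.mk g = C ∧ q ∣ orderOf g) → q ∈ π} := by
  change Nat.card {C : ConjClasses G // IsPiClass π C} ≤
    Nat.card {C : ConjClasses N // IsPiClass π C} *
      Nat.card {C : ConjClasses (G ⧸ N) // IsPiClass π C}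
  have hX := card_cpPi (X := G) π
  have hN := card_cpPi (X := N) π
  have hQ := card_cpPi (X := G ⧸ N) π
  have hidx : Nat.card (G ⧸ N) * Nat.card N = Nat.card G := N.index_mul_card
  have hpos : 0 < Nat.card (G ⧸ N) * Nat.card N := Nat.mul_pos Nat.card_pos Nat.card_pos
  have h1 := Nat.card_le_card_of_injective _ (phi_injective N π)
  rw [Nat.card_prod, hX, hN, hQ, ← hidx] at h1
  have h2 : Nat.card {C : ConjClasses G // IsPiClass π C} * (Nat.card (G ⧸ N) * Nat.card N)
      ≤ (Nat.card {C : ConjClasses N // IsPiClass π C} *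
          Nat.card {C : ConjClasses (G ⧸ N) // IsPiClass π C})
        * (Nat.card (G ⧸ N) * Nat.card N) := by
    calc Nat.card {C : ConjClasses G // IsPiClass π C} * (Nat.card (G ⧸ N) * Nat.card N)
        ≤ Nat.card {C : ConjClasses (G ⧸ N) // IsPiClass π C} * Nat.card (G ⧸ N)
          * (Nat.card {C : ConjClasses N // IsPiClass π C} * Nat.card N) := h1
      _ = _ := by ring
  exact Nat.le_of_mul_le_mul_right h2 hpos

end Cfsg.Agent.S4152
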