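import Cfsg.Statements.S4182
import Mathlib

set_option autoImplicit false
open Cfsg

namespace Cfsg.Agent.S4182

section basics

variable {G : Type*} [Group G]

/-- the set of elements of `p`-power order -/
def pE (p : ℕ) : Set G := {g | ∃ k : ℕ, orderOf g = p ^ k}

/-- `L` is generated by its `p`-elements -/
def PGen (p : ℕ) (L : Subgroup G) : Prop := Subgroup.closure ((L : Set G) ∩ pE p) = L

theorem one_mem_pE (p : ℕ) : (1 : G) ∈ pE p := ⟨0, by simp⟩

theorem pGen_closure (p : ℕ) (S : Set G) (hS : S ⊆ pE p) : PGen p (Subgroup.closure S) := by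
  apply le_antisymm
  · rw [Subgroup.closure_le]
    exact Set.inter_subset_left
  · apply Subgroup.closure_mono
    intro x hx
    exact ⟨Subgroup.subset_closure hx, hS hx⟩

theorem pGen_of_subset (p : ℕ) (P : Subgroup G) (hP : (P : Set G) ⊆ pE p) : PGen p P := by
  unfold PGen
  rw [Set.inter_eq_left.mpr hP, Subgroup.closure_eq]

theorem conj_mem_pE (p : ℕ) (x g : G) : x * g * x⁻¹ ∈ pE p ↔ g ∈ pE p := by
  unfold pE
  simp only [Set.mem_ofPred_eq]
  have : orderOf (x * g * x⁻¹) = orderOf g := by
    have := (MulAut.conj x).orderOf_eq g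
    simpa using this
  rw [this]

/-- conjugation of a subgroup -/
def cj (x : G) (M : Subgroup G) : Subgroup G := M.map (MulAut.conj x).toMonoidHom

theorem mem_cj (x g : G) (M : Subgroup G) : g ∈ cj x M ↔ x⁻¹ * g * x ∈ M := by
  unfold cj
  rw [Subgroup.mem_map]
  constructor
  · rintro ⟨h, hh, rfl⟩
    simpa [mul_assoc] using hh
  · intro h
    exact ⟨x⁻¹ * g * x, h, by simp [mul_assoc]⟩

theorem cj_cj (x y : G) (M : Subgroup G) : cj x (cj y M) = cj (x * y) M := by
  ext g
  rw [mem_cj, mem_cj, mem_cj]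
  simp [mul_assoc]

theorem cj_one (M : Subgroup G) : cj 1 M = M := by
  ext g
  rw [mem_cj]
  simp

theorem cj_mono (x : G) {M N : Subgroup G} (h : M ≤ N) : cj x M ≤ cj x N :=
  Subgroup.map_mono h

theorem cj_inv_cj (x : G) (M : Subgroup G) : cj x⁻¹ (cj x M) = M := by
  rw [cj_cj, inv_mul_cancel, cj_one]

theorem cj_cj_inv (x : G) (M : Subgroup G) : cj x (cj x⁻¹ M) = M := by
  rw [cj_cj, mul_inv_cancel, cj_one]

theorem cj_self_of_mem (x : G) (M : Subgroup G) (hx : x ∈ M) : cj x M = M := by
  ext g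
  rw [mem_cj]
  constructor
  · intro h
    have := M.mul_mem (M.mul_mem hx h) (M.inv_mem hx)
    simpa [mul_assoc] using this
  · intro h
    exact M.mul_mem (M.mul_mem (M.inv_mem hx) h) hx

theorem cj_lt (x : G) {M N : Subgroup G} (h : M < N) : cj x M < cj x N := by
  refine lt_of_le_of_ne (cj_mono x h.le) ?_
  intro e
  have := congrArg (cj x⁻¹) e
  rw [cj_inv_cj, cj_inv_cj] at this
  exact h.ne this

theorem pGen_cj (p : ℕ) (x : G) (M : Subgroup G) (hM : PGen p M) : PGen p (cj x M) := by
  unfold PGen at hM ⊢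
  have hset : ((cj x M : Subgroup G) : Set G) ∩ pE p = (MulAut.conj x) '' ((M : Set G) ∩ pE p) := by
    ext g
    constructor
    · rintro ⟨h1, h2⟩
      have h1' : g ∈ cj x M := h1
      rw [mem_cj] at h1'
      refine ⟨x⁻¹ * g * x, ⟨h1', ?_⟩, ?_⟩
      · have := (conj_mem_pE p x⁻¹ g).mpr h2
        simpa using this
      · simp [mul_assoc]
    · rintro ⟨h, ⟨h1, h2⟩, rfl⟩
      refine ⟨?_, ?_⟩
      · show (MulAut.conj x) h ∈ cj x M
        rw [mem_cj]
        simpa [mul_assoc] using h1
      · simpa using (conj_mem_pE p x h).mpr h2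
  rw [hset]
  have := MonoidHom.map_closure (MulAut.conj x).toMonoidHom ((M : Set G) ∩ pE p)
  rw [hM] at this
  exact this.symm

end basics

section counting

variable {G : Type*} [Group G] [Finite G]

theorem card_filter_mem (M : Subgroup G) [Fintype G] [DecidablePred (· ∈ M)] :
    (Finset.univ.filter (· ∈ M)).card = Nat.card M := by
  rw [Nat.card_eq_fintype_card, Fintype.card_subtype]

/-- a `p`-group is not covered by at most `p` proper subgroups -/
theorem pgroup_cover (p : ℕ) [Fact p.Prime] (L : Subgroup G) (hL : (L : Set G) ⊆ pE p)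
    {ι : Type*} [Fintype ι] (K : ι → Subgroup G) (hn : Fintype.card ι ≤ p)
    (hcov : ∀ g ∈ L, ∃ i, g ∈ K i) : ∃ i, L ≤ K i := by
  classical
  by_contra hno
  push Not at hno
  have hp : p.Prime := Fact.out
  haveI : Fintype G := Fintype.ofFinite G
  have hLp : IsPGroup p L := by
    intro g
    obtain ⟨k, hk⟩ := hL g.2
    refine ⟨k, ?_⟩
    have : (g : G) ^ p ^ k = 1 := by rw [← hk]; exact pow_orderOf_eq_one _
    exact Subtype.ext (by simpa using this)
  obtain ⟨a, ha⟩ := IsPGroup.iff_card.mp hLp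
  have hD : ∀ i, p * Nat.card ↥(L ⊓ K i) ≤ Nat.card L := by
    intro i
    have hlt : L ⊓ K i < L := lt_of_le_of_ne inf_le_left (fun e => hno i (e ▸ inf_le_right))
    have hdvd : Nat.card ↥(L ⊓ K i) ∣ Nat.card L := Subgroup.card_dvd_of_le inf_le_left
    have hne : Nat.card ↥(L ⊓ K i) ≠ Nat.card L := by
      intro e
      exact hlt.ne (Subgroup.eq_of_le_of_card_ge inf_le_left (le_of_eq e.symm))
    rw [ha] at hdvd hne ⊢
    obtain ⟨b, hb, hb'⟩ := (Nat.dvd_prime_pow hp).mp hdvd
    have hba : b < a := by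
      rcases lt_or_eq_of_le hb with h | h
      · exact h
      · exact absurd (by rw [hb', h]) hne
    rw [hb', ← pow_succ']
    exact Nat.pow_le_pow_right hp.pos hba
  obtain ⟨i₀, -⟩ := hcov 1 L.one_mem
  have hNp : p ≤ Nat.card L := by
    have h1 : 1 ≤ Nat.card ↥(L ⊓ K i₀) := Nat.card_pos
    calc p = p * 1 := (mul_one p).symm
      _ ≤ p * Nat.card ↥(L ⊓ K i₀) := Nat.mul_le_mul_left p h1
      _ ≤ Nat.card L := hD i₀
  let S : Finset G := Finset.univ.filter (· ∈ L)
  let T : ι → Finset G := fun i => Finset.univ.filter (· ∈ L ⊓ K i)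
  have hsub : S.erase 1 ⊆ Finset.univ.biUnion (fun i => (T i).erase 1) := by
    intro g hg
    rw [Finset.mem_erase] at hg
    obtain ⟨hg1, hgS⟩ := hg
    have hgL : g ∈ L := by simpa [S] using hgS
    obtain ⟨i, hi⟩ := hcov g hgL
    rw [Finset.mem_biUnion]
    refine ⟨i, Finset.mem_univ i, ?_⟩
    rw [Finset.mem_erase]
    refine ⟨hg1, ?_⟩
    simp only [T, Finset.mem_filter, Finset.mem_univ, true_and]
    exact ⟨hgL, hi⟩
  have hS : (S.erase 1).card = Nat.card L - 1 := by
    rw [Finset.card_erase_of_mem (by simp [S, L.one_mem]), card_filter_mem]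
  have hT : ∀ i, ((T i).erase 1).card ≤ Nat.card L / p - 1 := by
    intro i
    rw [Finset.card_erase_of_mem (by simp [T, (L ⊓ K i).one_mem]), card_filter_mem]
    apply Nat.sub_le_sub_right
    rw [Nat.le_div_iff_mul_le hp.pos, mul_comm]
    exact hD i
  have h1 : Nat.card L - 1 ≤ Fintype.card ι * (Nat.card L / p - 1) := by
    rw [← hS]
    calc (S.erase 1).card ≤ (Finset.univ.biUnion (fun i => (T i).erase 1)).card :=
          Finset.card_le_card hsub
      _ ≤ ∑ i, ((T i).erase 1).card := Finset.card_biUnion_le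
      _ ≤ ∑ _i : ι, (Nat.card L / p - 1) := Finset.sum_le_sum (fun i _ => hT i)
      _ = Fintype.card ι * (Nat.card L / p - 1) := by
          rw [Finset.sum_const, Finset.card_univ, smul_eq_mul]
  have h2 : Fintype.card ι * (Nat.card L / p - 1) ≤ p * (Nat.card L / p - 1) :=
    Nat.mul_le_mul_right _ hn
  have h3 : p * (Nat.card L / p - 1) ≤ Nat.card L - p := by
    rw [Nat.mul_sub, mul_one]
    exact Nat.sub_le_sub_right (Nat.mul_div_le _ _) p
  have h4 : 2 ≤ p := hp.two_le
  omega

end counting

section sylow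

variable {G : Type*} [Group G] [Finite G]

/-- a "Sylow `p`-subgroup of `L`" as a subgroup of `G` -/
theorem exists_sylow_in (p : ℕ) [Fact p.Prime] (L : Subgroup G) :
    ∃ P : Subgroup G, P ≤ L ∧ (P : Set G) ⊆ pE p ∧
      ∀ g ∈ L, g ∈ pE p → ∃ x ∈ L, x * g * x⁻¹ ∈ P := by
  obtain ⟨P₀⟩ : Nonempty (Sylow p ↥L) := inferInstance
  refine ⟨(P₀ : Subgroup ↥L).map L.subtype, Subgroup.map_subtype_le _, ?_, ?_⟩
  · rintro g ⟨h, hh, rfl⟩
    obtain ⟨k, hk⟩ := (IsPGroup.iff_orderOf.mp P₀.isPGroup') ⟨h, hh⟩
    refine ⟨k, ?_⟩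
    rw [← hk]
    simp
  · rintro g hg ⟨k, hk⟩
    have hz : IsPGroup p (Subgroup.zpowers (⟨g, hg⟩ : ↥L)) := by
      apply IsPGroup.of_card (n := k)
      rw [Nat.card_zpowers, ← hk]
      exact Subgroup.orderOf_mk g hg
    obtain ⟨Q, hQ⟩ := hz.exists_le_sylow
    obtain ⟨x, hx⟩ := MulAction.exists_smul_eq ↥L Q P₀
    refine ⟨x, x.2, ?_⟩
    have h1 : x * ⟨g, hg⟩ * x⁻¹ ∈ ((x • Q : Sylow p ↥L) : Subgroup ↥L) := by
      rw [Sylow.coe_subgroup_smul]
      exact ⟨⟨g, hg⟩, hQ (Subgroup.mem_zpowers _), rfl⟩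
    rw [hx] at h1
    exact ⟨_, h1, by simp⟩

end sylow

section main

variable {G : Type*} [Group G] [Finite G]

theorem card_lt_of_lt {M L : Subgroup G} (h : M < L) : Nat.card M < Nat.card L := by
  refine lt_of_le_of_ne (Subgroup.card_le_of_le h.le) ?_
  intro e
  exact h.ne (Subgroup.eq_of_le_of_card_ge h.le (le_of_eq e.symm))

theorem main_aux (p : ℕ) [Fact p.Prime] {ι : Type*} [Fintype ι] (K : ι → Subgroup G)
    (hn : Fintype.card ι ≤ p) (hcov : ∀ g : G, g ∈ pE p → ∃ i, g ∈ K i) :
    ∀ (n : ℕ) (L : Subgroup G), Nat.card L ≤ n → PGen p L → ∃ i, L ≤ K i := by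
  classical
  have hp : p.Prime := Fact.out
  intro n
  induction n with
  | zero =>
    intro L hL
    have := Nat.card_pos (α := L)
    omega
  | succ n ih =>
    intro L hLn hLgen
    by_contra hno
    push Not at hno
    have IH : ∀ M : Subgroup G, M < L → PGen p M → ∃ i, M ≤ K i := by
      intro M hM hMgen
      apply ih M _ hMgen
      have := card_lt_of_lt hM
      omega
    by_cases hall : (L : Set G) ⊆ pE p
    · obtain ⟨i, hi⟩ := pgroup_cover p L hall K hn (fun g hg => hcov g (hall hg))
      exact hno i hi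
    · rw [Set.not_subset] at hall
      obtain ⟨g₀, hg₀L, hg₀⟩ := hall
      obtain ⟨P, hPL, hPp, hPconj⟩ := exists_sylow_in p L
      have hPlt : P < L := lt_of_le_of_ne hPL (fun e => hg₀ (hPp (e ▸ hg₀L)))
      let 𝓢 : Subgroup G → Prop := fun M => M < L ∧ PGen p M
      have hP𝓢 : 𝓢 P := ⟨hPlt, pGen_of_subset p P hPp⟩
      obtain ⟨M₀, hPM₀, hM₀⟩ := Finite.exists_le_maximal hP𝓢
      have h𝓢cj : ∀ x ∈ L, ∀ M, 𝓢 M → 𝓢 (cj x M) := by
        intro x hx M hM
        refine ⟨?_, pGen_cj p x M hM.2⟩
        have := cj_lt x hM.1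
        rwa [cj_self_of_mem x L hx] at this
      have hmaxcj : ∀ x ∈ L, ∀ M, Maximal 𝓢 M → Maximal 𝓢 (cj x M) := by
        intro x hx M hM
        refine ⟨h𝓢cj x hx M hM.1, ?_⟩
        intro N hN hle
        have h1 : M ≤ cj x⁻¹ N := by
          have := cj_mono x⁻¹ hle
          rwa [cj_inv_cj] at this
        have h2 : cj x⁻¹ N ≤ M := hM.2 (h𝓢cj x⁻¹ (L.inv_mem hx) N hN) h1
        have := cj_mono x h2
        rwa [cj_cj_inv] at this
      let 𝓜 := {M : Subgroup G // Maximal 𝓢 M}
      haveI : Fintype 𝓜 := Fintype.ofFinite _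
      have hcard : Fintype.card 𝓜 ≤ p := by
        have hex : ∀ M : 𝓜, ∃ i, M.1 ≤ K i := fun M => IH M.1 M.2.1.1 M.2.1.2
        choose f hf using hex
        have hinj : Function.Injective f := by
          intro M M' e
          let T := Subgroup.closure (((L ⊓ K (f M) : Subgroup G) : Set G) ∩ pE p)
          have hTgen : PGen p T := pGen_closure p _ Set.inter_subset_right
          have hTle : T ≤ L ⊓ K (f M) := by
            rw [Subgroup.closure_le]; exact Set.inter_subset_left
          have hTlt : T < L := by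
            refine lt_of_le_of_ne (hTle.trans inf_le_left) ?_
            intro e'
            apply hno (f M)
            have := hTle.trans inf_le_right
            rwa [e'] at this
          have hsub : ∀ M'' : 𝓜, M''.1 ≤ K (f M) → M''.1 ≤ T := by
            intro M'' hle
            have h1 : Subgroup.closure ((M''.1 : Set G) ∩ pE p) = M''.1 := M''.2.1.2
            have h2 : Subgroup.closure ((M''.1 : Set G) ∩ pE p) ≤ T := by
              apply Subgroup.closure_mono
              rintro g ⟨hg1, hg2⟩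
              exact ⟨⟨M''.2.1.1.le hg1, hle hg1⟩, hg2⟩
            rwa [h1] at h2
          have e1 : M.1 = T := M.2.eq_of_le ⟨hTlt, hTgen⟩ (hsub M (hf M))
          have e2 : M'.1 = T := M'.2.eq_of_le ⟨hTlt, hTgen⟩ (hsub M' (e ▸ hf M'))
          exact Subtype.ext (e1.trans e2.symm)
        exact (Fintype.card_le_of_injective f hinj).trans hn
      have hnorm : ∀ g ∈ L, g ∈ pE p → ∀ M : 𝓜, cj g M.1 = M.1 := by
        intro g hgL hgp M
        obtain ⟨k, hk⟩ := hgp
        let φ : Function.End 𝓜 := fun M => ⟨cj g M.1, hmaxcj g hgL M.1 M.2⟩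
        have hφpow : ∀ m : ℕ, ∀ M : 𝓜, ((φ ^ m) M).1 = cj (g ^ m) M.1 := by
          intro m
          induction m with
          | zero =>
            intro M
            rw [pow_zero, pow_zero, cj_one]
            rfl
          | succ m ihm =>
            intro M
            rw [pow_succ', pow_succ', ← cj_cj, ← ihm M]
            rfl
        have hφ : φ ^ p ^ k = 1 := by
          funext M
          apply Subtype.ext
          rw [hφpow, ← hk, pow_orderOf_eq_one, cj_one]
          rfl
        have hmod := Equiv.Perm.card_fixedPoints_modEq (p := p) hφ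
        have hzS : 𝓢 (Subgroup.zpowers g) := by
          refine ⟨lt_of_le_of_ne ((Subgroup.zpowers_le).mpr hgL) ?_, ?_⟩
          · intro e
            apply hg₀
            have hmem : g₀ ∈ Subgroup.zpowers g := e ▸ hg₀L
            have hd : orderOf g₀ ∣ p ^ k := by
              rw [← hk]; exact orderOf_dvd_of_mem_zpowers hmem
            obtain ⟨b, _, hb⟩ := (Nat.dvd_prime_pow hp).mp hd
            exact ⟨b, hb⟩
          · rw [Subgroup.zpowers_eq_closure]
            apply pGen_closure p {g}
            rw [Set.singleton_subset_iff]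
            exact ⟨k, hk⟩
        obtain ⟨Mg, hgMg, hMg⟩ := Finite.exists_le_maximal hzS
        have hfix : (⟨Mg, hMg⟩ : 𝓜) ∈ Function.fixedPoints φ := by
          show φ ⟨Mg, hMg⟩ = ⟨Mg, hMg⟩
          apply Subtype.ext
          exact cj_self_of_mem g Mg (hgMg (Subgroup.mem_zpowers g))
        have hpos : 0 < Fintype.card (Function.fixedPoints φ) :=
          Fintype.card_pos_iff.mpr ⟨⟨_, hfix⟩⟩
        have hle : Fintype.card (Function.fixedPoints φ) ≤ Fintype.card 𝓜 :=
          Fintype.card_subtype_le _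
        have heq : Fintype.card (Function.fixedPoints φ) = Fintype.card 𝓜 := by
          have hd := (Nat.modEq_iff_dvd' hle).mp hmod.symm
          have hlt : Fintype.card 𝓜 - Fintype.card (Function.fixedPoints φ) < p := by omega
          have := Nat.eq_zero_of_dvd_of_lt hd hlt
          omega
        have huniv : Function.fixedPoints φ = Set.univ := by
          rw [Set.eq_univ_iff_ncard, ← Nat.card_coe_set_eq, Nat.card_eq_fintype_card, heq,
            Nat.card_eq_fintype_card]
        have hM : M ∈ Function.fixedPoints φ := by rw [huniv]; trivial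
        exact congrArg Subtype.val hM
      have hLnorm : ∀ x ∈ L, cj x M₀ = M₀ := by
        let Nn : Subgroup G :=
          { carrier := {x | cj x M₀ = M₀}
            one_mem' := cj_one M₀
            mul_mem' := by
              intro a b ha hb
              show cj (a * b) M₀ = M₀
              rw [← cj_cj, hb, ha]
            inv_mem' := by
              intro a ha
              show cj a⁻¹ M₀ = M₀
              have := cj_inv_cj a M₀
              rwa [ha] at this }
        have hle : Subgroup.closure ((L : Set G) ∩ pE p) ≤ Nn := by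
          rw [Subgroup.closure_le]
          rintro g ⟨hg1, hg2⟩
          exact hnorm g hg1 hg2 ⟨M₀, hM₀⟩
        rw [hLgen] at hle
        exact fun x hx => hle hx
      have hall' : (L : Set G) ∩ pE p ⊆ M₀ := by
        rintro g ⟨hg1, hg2⟩
        obtain ⟨x, hxL, hx⟩ := hPconj g hg1 hg2
        have h1 : x * g * x⁻¹ ∈ M₀ := hPM₀ hx
        have h2 : g ∈ cj x⁻¹ M₀ := by
          rw [mem_cj]; simpa using h1
        rwa [hLnorm x⁻¹ (L.inv_mem hxL)] at h2
      have hLM : L ≤ M₀ := by
        have := (Subgroup.closure_le M₀).mpr hall'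
        rwa [hLgen] at this
      exact lt_irrefl _ (lt_of_le_of_lt hLM hM₀.1.1)

end main

/-- Let p be a prime and G a finite group generated by its p-elements. If a finite family of proper subgroups of G covers the set of p-elements of G (every element of p-power order lies in one of them), then the family has at least p + 1 members. -/
theorem result {G : Type*} [Group G] [Finite G] (p : ℕ) [Fact p.Prime] (hgen : Subgroup.closure {g : G | ∃ k : ℕ, orderOf g = p ^ k} = ⊤)
    {ι : Type*} [Fintype ι] (K : ι → Subgroup G) (hK : ∀ i, K i ≠ ⊤)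
    (hcov : ∀ g : G, (∃ k : ℕ, orderOf g = p ^ k) → ∃ i, g ∈ K i) :
    p + 1 ≤ Fintype.card ι := by
  by_contra hlt
  have hn : Fintype.card ι ≤ p := by omega
  have htop : PGen p (⊤ : Subgroup G) := by
    unfold PGen
    rw [Subgroup.coe_top, Set.univ_inter]
    exact hgen
  obtain ⟨i, hi⟩ := main_aux p K hn hcov (Nat.card (⊤ : Subgroup G)) ⊤ le_rfl htop
  exact hK i (top_le_iff.mp hi)

end Cfsg.Agent.S4182
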