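import Cfsg.Statements.S4153
import Mathlib
import Cfsg.Agent.S4182

set_option autoImplicit false
open Cfsg

namespace Cfsg.Agent.S4153

open Cfsg.Agent.S4182 (pE conj_mem_pE)

section basics

variable {G : Type*} [Group G]

theorem mem_pE_iff_pow (p : ℕ) [Fact p.Prime] (g : G) : g ∈ pE p ↔ ∃ k : ℕ, g ^ p ^ k = 1 := by
  constructor
  · rintro ⟨k, hk⟩
    exact ⟨k, by rw [← hk]; exact pow_orderOf_eq_one g⟩
  · rintro ⟨k, hk⟩
    have := orderOf_dvd_of_pow_eq_one hk
    obtain ⟨b, _, hb⟩ := (Nat.dvd_prime_pow Fact.out).mp this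
    exact ⟨b, hb⟩

theorem mul_mem_pE (p : ℕ) [Fact p.Prime] {a b : G} (hab : Commute a b) (ha : a ∈ pE p)
    (hb : b ∈ pE p) : a * b ∈ pE p := by
  rw [mem_pE_iff_pow] at *
  obtain ⟨k, hk⟩ := ha
  obtain ⟨l, hl⟩ := hb
  refine ⟨k + l, ?_⟩
  rw [hab.mul_pow, pow_add, pow_mul, hk, one_pow, mul_comm (p ^ k), pow_mul, hl, one_pow, one_mul]

theorem inv_mem_pE (p : ℕ) {a : G} (ha : a ∈ pE p) : a⁻¹ ∈ pE p := by
  obtain ⟨k, hk⟩ := ha
  exact ⟨k, by rw [orderOf_inv, hk]⟩

theorem map_mem_pE (p : ℕ) [Fact p.Prime] {H : Type*} [Group H] (f : G →* H) {a : G}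
    (ha : a ∈ pE p) : f a ∈ pE p := by
  rw [mem_pE_iff_pow] at *
  obtain ⟨k, hk⟩ := ha
  exact ⟨k, by rw [← map_pow, hk, map_one]⟩

theorem mem_pE_of_mem_sylow (p : ℕ) [Fact p.Prime] (P : Sylow p G) {a : G} (ha : a ∈ P) :
    a ∈ pE p := by
  rw [mem_pE_iff_pow]
  obtain ⟨k, hk⟩ := P.isPGroup' ⟨a, ha⟩
  exact ⟨k, by simpa using congrArg Subtype.val hk⟩

theorem exists_conj_mem_sylow [Finite G] (p : ℕ) [Fact p.Prime] (P : Sylow p G) {g : G}
    (hg : g ∈ pE p) : ∃ x : G, x * g * x⁻¹ ∈ P := by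
  obtain ⟨k, hk⟩ := hg
  have hz : IsPGroup p (Subgroup.zpowers g) := by
    apply IsPGroup.of_card (n := k)
    rw [Nat.card_zpowers, hk]
  obtain ⟨Q, hQ⟩ := hz.exists_le_sylow
  obtain ⟨x, hx⟩ := MulAction.exists_smul_eq G Q P
  refine ⟨x, ?_⟩
  have h1 : x * g * x⁻¹ ∈ ((x • Q : Sylow p G) : Subgroup G) := by
    rw [Sylow.coe_subgroup_smul]
    exact ⟨g, hQ (Subgroup.mem_zpowers _), rfl⟩
  rwa [hx] at h1

end basics

/-- Let G be a finite group, p a prime, N a normal subgroup, P a Sylow p-subgroup of G and P̄ a Sylow p-subgroup of G/N. Count the elements of p-power order, the identity included. Then (number of such elements of G/N)/#P̄ ≤ (number of such elements of G)/#P, stated as a cross-multiplied inequality, with equality when N is central. -/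
theorem result {G : Type*} [Group G] [Finite G] (p : ℕ) [Fact p.Prime] (N : Subgroup G) [N.Normal]
    (P : Sylow p G) (Pbar : Sylow p (G ⧸ N)) :
    Nat.card {g : (G ⧸ N) // ∃ k : ℕ, orderOf g = p ^ k} * Nat.card (P : Subgroup G) ≤ Nat.card {g : G // ∃ k : ℕ, orderOf g = p ^ k} * Nat.card (Pbar : Subgroup (G ⧸ N)) ∧
    (N ≤ Subgroup.center G → Nat.card {g : (G ⧸ N) // ∃ k : ℕ, orderOf g = p ^ k} * Nat.card (P : Subgroup G) = Nat.card {g : G // ∃ k : ℕ, orderOf g = p ^ k} * Nat.card (Pbar : Subgroup (G ⧸ N))) := by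
  classical
  have hp : p.Prime := Fact.out
  have hπ : Function.Surjective (QuotientGroup.mk' N) := QuotientGroup.mk'_surjective N
  let P' : Sylow p (G ⧸ N) := P.mapSurjective hπ
  let C : Subgroup G := N ⊓ (P : Subgroup G)
  have hcard1 : Nat.card C * Nat.card (Pbar : Subgroup (G ⧸ N)) = Nat.card (P : Subgroup G) := by
    have h1 : Nat.card (Pbar : Subgroup (G ⧸ N)) = Nat.card (P' : Subgroup (G ⧸ N)) := by
      rw [Sylow.card_eq_multiplicity, Sylow.card_eq_multiplicity]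
    have h2 : Nat.card ((P : Subgroup G).map (QuotientGroup.mk' N)) = N.relIndex P := by
      rw [← Subgroup.relIndex_ker (K := (P : Subgroup G)) (QuotientGroup.mk' N),
        QuotientGroup.ker_mk']
    have h3 : Nat.card C * C.relIndex P = Nat.card (P : Subgroup G) := by
      rw [← Subgroup.relIndex_bot_left, ← Subgroup.relIndex_bot_left,
        Subgroup.relIndex_mul_relIndex ⊥ C P bot_le inf_le_right]
    have h4 : C.relIndex P = N.relIndex P := Subgroup.inf_relIndex_right N P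
    rw [h1]
    show Nat.card C * Nat.card ((P : Subgroup G).map (QuotientGroup.mk' N)) = _
    rw [h2, ← h4, h3]
  have hex : ∀ xb : {g : G ⧸ N // ∃ k : ℕ, orderOf g = p ^ k}, ∃ y : G,
      (QuotientGroup.mk' N) y = xb.1 ∧ ∃ x : G, x * y * x⁻¹ ∈ P := by
    intro xb
    obtain ⟨gb, hgb⟩ := exists_conj_mem_sylow p P' (g := xb.1) xb.2
    obtain ⟨z, hz, hzeq⟩ := hgb
    obtain ⟨g, rfl⟩ := hπ gb
    refine ⟨g⁻¹ * z * g, ?_, g, ?_⟩
    · rw [map_mul, map_mul, hzeq, map_inv]
      group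
    · have : g * (g⁻¹ * z * g) * g⁻¹ = z := by group
      rw [this]
      exact hz
  choose y hy1 hy3 using hex
  choose x hx using hy3
  have hFmem : ∀ (a : {g : G ⧸ N // ∃ k : ℕ, orderOf g = p ^ k}) (n : ↥C),
      y a * ((x a)⁻¹ * (n : G) * x a) ∈ pE p := by
    intro a n
    have h1 : x a * y a * (x a)⁻¹ * (n : G) ∈ P := P.mul_mem (hx a) n.2.2
    have h2 := mem_pE_of_mem_sylow p P h1
    have h3 : y a * ((x a)⁻¹ * (n : G) * x a) =
        (x a)⁻¹ * (x a * y a * (x a)⁻¹ * (n : G)) * (x a)⁻¹⁻¹ := by group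
    rw [h3, conj_mem_pE]
    exact h2
  let F : {g : G ⧸ N // ∃ k : ℕ, orderOf g = p ^ k} × ↥C → {g : G // ∃ k : ℕ, orderOf g = p ^ k} :=
    fun ab => ⟨y ab.1 * ((x ab.1)⁻¹ * (ab.2 : G) * x ab.1), hFmem ab.1 ab.2⟩
  have hπF : ∀ ab, (QuotientGroup.mk' N) (F ab).1 = ab.1.1 := by
    intro ab
    show (QuotientGroup.mk' N) (y ab.1 * ((x ab.1)⁻¹ * (ab.2 : G) * x ab.1)) = ab.1.1
    have hn : (QuotientGroup.mk' N) (ab.2 : G) = 1 := by
      rw [← MonoidHom.mem_ker, QuotientGroup.ker_mk']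
      exact ab.2.2.1
    rw [map_mul, map_mul, map_mul, hn, hy1, map_inv]
    group
  have hFinj : Function.Injective F := by
    intro ab ab' e
    have e1 : ab.1 = ab'.1 := by
      apply Subtype.ext
      rw [← hπF ab, ← hπF ab', e]
    have e2 : (F ab).1 = (F ab').1 := congrArg Subtype.val e
    simp only [F] at e2
    rw [← e1] at e2
    have e3 : (ab.2 : G) = (ab'.2 : G) := by
      have := mul_left_cancel e2
      have := mul_right_cancel this
      exact mul_left_cancel this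
    exact Prod.ext e1 (Subtype.ext e3)
  have hle : Nat.card {g : (G ⧸ N) // ∃ k : ℕ, orderOf g = p ^ k} * Nat.card C ≤
      Nat.card {g : G // ∃ k : ℕ, orderOf g = p ^ k} := by
    rw [← Nat.card_prod]
    exact Nat.card_le_card_of_injective F hFinj
  constructor
  · rw [← hcard1, ← mul_assoc]
    exact Nat.mul_le_mul_right _ hle
  · intro hcen
    have hFsurj : Function.Surjective F := by
      rintro ⟨g, hg⟩
      let a : {g : G ⧸ N // ∃ k : ℕ, orderOf g = p ^ k} :=
        ⟨(QuotientGroup.mk' N) g, map_mem_pE p _ hg⟩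
      have hnN : (y a)⁻¹ * g ∈ N := by
        rw [← QuotientGroup.eq]
        exact hy1 a
      have hcentral : ∀ w : G, w * ((y a)⁻¹ * g) = (y a)⁻¹ * g * w :=
        Subgroup.mem_center_iff.mp (hcen hnN)
      have hya : y a ∈ pE p := by
        have := mem_pE_of_mem_sylow p P (hx a)
        rwa [conj_mem_pE] at this
      have hcomm : Commute (y a)⁻¹ g := by
        have h1 : Commute (y a) g := by
          show y a * g = g * y a
          have := hcentral (y a)
          calc y a * g = y a * (y a * ((y a)⁻¹ * g)) := by group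
            _ = y a * ((y a)⁻¹ * g * y a) := by rw [this]
            _ = g * y a := by group
        exact h1.inv_left
      have hnp : (y a)⁻¹ * g ∈ pE p := mul_mem_pE p hcomm (inv_mem_pE p hya) hg
      obtain ⟨w, hw⟩ := exists_conj_mem_sylow p P hnp
      have hnP : (y a)⁻¹ * g ∈ P := by
        have : w * ((y a)⁻¹ * g) * w⁻¹ = (y a)⁻¹ * g := by
          rw [hcentral w]; group
        rwa [this] at hw
      refine ⟨(a, ⟨(y a)⁻¹ * g, hnN, hnP⟩), ?_⟩
      apply Subtype.ext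
      show y a * ((x a)⁻¹ * ((y a)⁻¹ * g) * x a) = g
      have : (x a)⁻¹ * ((y a)⁻¹ * g) * x a = (y a)⁻¹ * g := by
        rw [mul_assoc, ← hcentral (x a)]; group
      rw [this]
      group
    have heq : Nat.card {g : (G ⧸ N) // ∃ k : ℕ, orderOf g = p ^ k} * Nat.card C =
        Nat.card {g : G // ∃ k : ℕ, orderOf g = p ^ k} := by
      rw [← Nat.card_prod]
      exact Nat.card_congr (Equiv.ofBijective F ⟨hFinj, hFsurj⟩)
    rw [← hcard1, ← mul_assoc, heq]

end Cfsg.Agent.S4153
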