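import Cfsg.Statements.S4154
import Mathlib

set_option autoImplicit false
open Cfsg

namespace Cfsg.Agent.S4154

/-- a function whose fibres are the right cosets of `D` has `D.index` values -/
theorem card_range_eq_index {G X : Type*} [Group G] (f : G → X) (D : Subgroup G)
    (hf : ∀ g h : G, f g = f h ↔ h * g⁻¹ ∈ D) : Nat.card (Set.range f) = D.index := by
  have hker : Setoid.ker f = QuotientGroup.rightRel D := by
    ext g h
    rw [Setoid.ker_def, QuotientGroup.rightRel_apply]
    exact hf g h
  rw [← Nat.card_congr (Setoid.quotientKerEquivRange f), hker,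
    Nat.card_congr (QuotientGroup.quotientRightRelEquivQuotientLeftRel D)]
  rfl

/-- Let G be a finite group and α an automorphism of G such that every element of G is the product of an element fixed by α and an element of the form g⁻¹α(g). If N is a normal α-invariant subgroup, then the automorphism ᾱ induced on G/N has the same property, and every coset fixed by ᾱ contains an element fixed by α (so the fixed points of ᾱ are the images of the fixed points of α). -/
theorem result {G : Type*} [Group G] [Finite G] (α : MulAut G)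
    (hccp : ∀ x : G, ∃ c g : G, α c = c ∧ x = c * (g⁻¹ * α g))
    (N : Subgroup G) [N.Normal] (hN : ∀ n ∈ N, α n ∈ N) :
    (∀ x : G, ∃ c g : G, c⁻¹ * α c ∈ N ∧ x⁻¹ * (c * (g⁻¹ * α g)) ∈ N) ∧
    (∀ x : G, x⁻¹ * α x ∈ N → ∃ c : G, α c = c ∧ c⁻¹ * x ∈ N) := by
  constructor
  · intro x
    obtain ⟨c, g, hc, hx⟩ := hccp x
    refine ⟨c, g, ?_, ?_⟩
    · rw [hc, inv_mul_cancel]; exact N.one_mem
    · rw [← hx, inv_mul_cancel]; exact N.one_mem
  · -- the quotient map
    obtain ⟨π, hπ⟩ : ∃ π : G →* G ⧸ N, π = QuotientGroup.mk' N := ⟨_, rfl⟩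
    have hπsurj : Function.Surjective π := by rw [hπ]; exact QuotientGroup.mk'_surjective N
    have hπker : π.ker = N := by rw [hπ]; exact QuotientGroup.ker_mk' N
    have hπ1 : ∀ x : G, π x = 1 ↔ x ∈ N := by
      intro x
      have : x ∈ π.ker ↔ x ∈ N := by rw [hπker]
      rw [← this, MonoidHom.mem_ker]
    obtain ⟨C, hC⟩ : ∃ C : Subgroup G, C = MonoidHom.eqLocus α.toMonoidHom (MonoidHom.id G) := ⟨_, rfl⟩
    obtain ⟨D, hD⟩ : ∃ D : Subgroup G, D = MonoidHom.eqLocus (π.comp α.toMonoidHom) π := ⟨_, rfl⟩
    have hmemC : ∀ c : G, c ∈ C ↔ α c = c := by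
      intro c; rw [hC]; rfl
    have hmemD : ∀ x : G, x ∈ D ↔ π (α x) = π x := by
      intro x; rw [hD]; rfl
    have hmemD' : ∀ x : G, x ∈ D ↔ x⁻¹ * α x ∈ N := by
      intro x
      rw [hmemD, ← hπ1, map_mul, map_inv, inv_mul_eq_one, eq_comm]
    have hND : N ≤ D := by
      intro n hn
      rw [hmemD']
      exact N.mul_mem (N.inv_mem hn) (hN n hn)
    have hCD : C ≤ D := by
      intro c hc
      rw [hmemD, (hmemC c).mp hc]
    -- ψ
    let ψ : G → G ⧸ N := fun g => π (g⁻¹ * α g)
    have hψ : ∀ g h : G, ψ g = ψ h ↔ h * g⁻¹ ∈ D := by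
      intro g h
      rw [hmemD]
      simp only [ψ, map_mul, map_inv]
      constructor
      · intro e
        have : π (α h) = π h * ((π g)⁻¹ * π (α g)) := by
          rw [e]; group
        rw [this]; group
      · intro e
        have : π (α h) = π h * (π g)⁻¹ * π (α g) := by
          rw [← e]; group
        rw [this]; group
    have hcardψ := card_range_eq_index ψ D hψ
    -- surjection
    have hsurj : Function.Surjective
        (fun ab : ↥(C.map π) × ↥(Set.range ψ) => (ab.1 : G ⧸ N) * (ab.2 : G ⧸ N)) := by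
      intro q
      obtain ⟨x, rfl⟩ := hπsurj q
      obtain ⟨c, g, hc, hx⟩ := hccp x
      refine ⟨(⟨π c, Subgroup.mem_map_of_mem π ((hmemC c).mpr hc)⟩, ⟨ψ g, ⟨g, rfl⟩⟩), ?_⟩
      simp only [ψ]
      rw [← map_mul, ← hx]
    have hle : Nat.card (G ⧸ N) ≤ Nat.card ↥(C.map π) * D.index := by
      have := Nat.card_le_card_of_surjective _ hsurj
      rwa [Nat.card_prod, hcardψ] at this
    have h1 : Nat.card ↥(C.map π) * (C.map π).index = Nat.card (G ⧸ N) :=
      Subgroup.card_mul_index _
    have hpos : 0 < Nat.card ↥(C.map π) := Nat.card_pos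
    have h2 : (C.map π).index ≤ D.index := by
      rw [← h1] at hle
      exact Nat.le_of_mul_le_mul_left hle hpos
    have h3 : (D.map π).index = D.index :=
      Subgroup.index_map_eq D hπsurj (by rw [hπker]; exact hND)
    have h4 : C.map π ≤ D.map π := Subgroup.map_mono hCD
    have h5 : (C.map π).relIndex (D.map π) * (D.map π).index = (C.map π).index :=
      Subgroup.relIndex_mul_index h4
    have h6 : (D.map π).index ≠ 0 := Subgroup.index_ne_zero_of_finite
    have h7 : (C.map π).relIndex (D.map π) = 1 := by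
      rw [h3] at h5 h6
      have h8 : (C.map π).relIndex (D.map π) * D.index ≤ 1 * D.index := by
        rw [h5, one_mul]; exact h2
      have h9 := Nat.le_of_mul_le_mul_right h8 (Nat.pos_of_ne_zero h6)
      have h10 : (C.map π).relIndex (D.map π) ≠ 0 := by
        intro h0
        rw [h0, zero_mul] at h5
        have : (C.map π).index ≠ 0 := Subgroup.index_ne_zero_of_finite
        exact this h5.symm
      omega
    have h8 : D.map π ≤ C.map π := Subgroup.relIndex_eq_one.mp h7
    intro x hx
    have hxD : x ∈ D := (hmemD' x).mpr hx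
    obtain ⟨c, hc, hcx⟩ := h8 (Subgroup.mem_map_of_mem π hxD)
    refine ⟨c, (hmemC c).mp hc, ?_⟩
    rw [← hπ1, map_mul, map_inv, hcx, inv_mul_cancel]

end Cfsg.Agent.S4154
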