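import Cfsg.Statements.S4155
import Mathlib
import Cfsg.Agent.S0016
import Cfsg.Agent.Lib.Helper71.FpfPGroup
import Cfsg.Agent.Lib.Helper70.Fitting
import Cfsg.Agent.Lib.Helper10.Nilp

set_option autoImplicit false
open Cfsg

namespace Cfsg.Agent.S4155

section general

/-- A `p`-group acting fixed-point-freely on a nontrivial finite group has at most one
subgroup of order `p` (copied from `Cfsg.Agent.Helper71.unique_subgroup_order_p_of_fpf` to keep
imports light). -/
theorem unique_subgroup_order_p_of_fpf' {P₀ N : Type*} [Group P₀] [Finite P₀] [Group N] [Finite N]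
    [Nontrivial N] (p : ℕ) [hp : Fact p.Prime] (hP : IsPGroup p P₀)
    (hcop : (Nat.card N).Coprime p)
    (ρ : P₀ →* MulAut N) (hfpf : ∀ g : P₀, g ≠ 1 → ∀ x : N, ρ g x = x → x = 1)
    (A B : Subgroup P₀) (hA : Nat.card A = p) (hB : Nat.card B = p) : A = B := by
  have hnt : Nontrivial P₀ := by
    rw [← Finite.one_lt_card_iff_nontrivial]
    have := Nat.le_of_dvd Nat.card_pos (Subgroup.card_subgroup_dvd_card A)
    have := hp.out.one_lt
    omega
  have hcnt := hP.center_nontrivial
  have hdvd : p ∣ Nat.card (Subgroup.center P₀) := by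
    rcases (hP.to_subgroup (Subgroup.center P₀)).card_eq_or_dvd with h | h
    · have := Finite.one_lt_card_iff_nontrivial.2 hcnt
      omega
    · exact h
  obtain ⟨z₀, hz₀⟩ := exists_prime_orderOf_dvd_card' p hdvd
  have hzord : orderOf (z₀ : P₀) = p := by rw [Subgroup.orderOf_coe, hz₀]
  have hzp : (z₀ : P₀) ^ p = 1 := by rw [← hzord, pow_orderOf_eq_one]
  have hz1 : (z₀ : P₀) ≠ 1 := by
    intro h
    rw [h, orderOf_one] at hzord
    exact hp.out.one_lt.ne hzord
  have key : ∀ C : Subgroup P₀, Nat.card C = p → C = Subgroup.zpowers (z₀ : P₀) := by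
    intro C hC
    have hle : C ≤ Subgroup.zpowers (z₀ : P₀) := by
      intro y hy
      have hyp : y ^ p = 1 := by
        have := pow_card_eq_one' (G := C) (x := ⟨y, hy⟩)
        rw [hC] at this
        exact congrArg Subtype.val this
      have hcomm : Commute y (z₀ : P₀) := Subgroup.mem_center_iff.1 z₀.2 y
      exact Cfsg.Agent.Helper71.mem_zpowers_of_fpf p hP hcop ρ hfpf y z₀ hcomm hyp hzp hz1
    apply Subgroup.eq_of_le_of_card_ge hle
    rw [Nat.card_zpowers, hzord, hC]
  rw [key A hA, key B hB]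

/-- in a finite nilpotent group, a `q`-element and an `r`-element commute (`q ≠ r`) -/
theorem commute_of_nilpotent' {H : Type*} [Group H] [Finite H] [Group.IsNilpotent H]
    {q r : ℕ} [Fact q.Prime] [Fact r.Prime] (hqr : q ≠ r) (x v : H)
    (hx : ∃ a : ℕ, x ^ q ^ a = 1) (hv : ∃ b : ℕ, v ^ r ^ b = 1) : Commute x v := by
  obtain ⟨P⟩ : Nonempty (Sylow q H) := inferInstance
  obtain ⟨R⟩ : Nonempty (Sylow r H) := inferInstance
  have hPn : (P : Subgroup H).Normal := inferInstance
  have hRn : (R : Subgroup H).Normal := inferInstance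
  have hmem : ∀ (p : ℕ) [Fact p.Prime] (S : Sylow p H) (_ : (S : Subgroup H).Normal) (y : H),
      (∃ a : ℕ, y ^ p ^ a = 1) → y ∈ (S : Subgroup H) := by
    intro p _ S hS y ⟨a, ha⟩
    have hz : IsPGroup p (Subgroup.zpowers y) := by
      apply IsPGroup.of_card (n := (Nat.factorization (orderOf y)) p)
      rw [Nat.card_zpowers]
      have hd : orderOf y ∣ p ^ a := orderOf_dvd_of_pow_eq_one ha
      obtain ⟨b, _, hb⟩ := (Nat.dvd_prime_pow Fact.out).mp hd
      rw [hb, Nat.Prime.factorization_pow Fact.out]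
      simp
    obtain ⟨S', hS'⟩ := hz.exists_le_sylow
    letI := Sylow.unique_of_normal S hS
    have : S' = S := Subsingleton.elim _ _
    rw [← this]
    exact hS' (Subgroup.mem_zpowers y)
  have hxP := hmem q P hPn x hx
  have hvR := hmem r R hRn v hv
  have hdisj : Disjoint (P : Subgroup H) (R : Subgroup H) :=
    IsPGroup.disjoint_of_ne q r hqr _ _ P.isPGroup' R.isPGroup'
  exact Subgroup.commute_of_normal_of_disjoint _ _ hPn hRn hdisj x v hxP hvR

theorem exists_prime_ne {n : ℕ} (hn : 1 < n) (hnpp : ¬ IsPrimePow n) (q : ℕ) :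
    ∃ r : ℕ, r.Prime ∧ r ∣ n ∧ r ≠ q := by
  by_contra hno
  push Not at hno
  apply hnpp
  rw [isPrimePow_iff_unique_prime_dvd]
  have h1 : n.minFac.Prime := Nat.minFac_prime (by omega)
  have h2 : n.minFac ∣ n := Nat.minFac_dvd n
  have h3 : n.minFac = q := hno _ h1 h2
  refine ⟨q, ⟨h3 ▸ h1, h3 ▸ h2⟩, ?_⟩
  rintro y ⟨hy1, hy2⟩
  exact hno y hy1 hy2

end general

section setup

variable {G : Type*} [Group G]

/-- key: an element outside `N` cannot commute with a nontrivial element of `N` of coprime order -/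
theorem eq_one_of_commute [Finite G] (N : Subgroup G)
    (heq : ∀ x : G, x ∉ N → ∀ n ∈ N, orderOf (x * n) = orderOf x)
    (x v : G) (hx : x ∉ N) (hv : v ∈ N) (hc : Commute x v)
    (hco : (orderOf x).Coprime (orderOf v)) : v = 1 := by
  have h1 := hc.orderOf_mul_eq_mul_orderOf_of_coprime hco
  rw [heq x hx v hv] at h1
  have hpos : 0 < orderOf x := orderOf_pos x
  have : orderOf v = 1 := by
    have h2 : orderOf x * 1 = orderOf x * orderOf v := by rw [mul_one]; exact h1
    exact (Nat.eq_of_mul_eq_mul_left hpos h2).symm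
  exact orderOf_eq_one_iff.mp this

/-- the `r`-torsion of the centre of `N`, as a subgroup of `G` -/
def Vsub (N : Subgroup G) (r : ℕ) : Subgroup G where
  carrier := {v | v ∈ N ∧ (∀ n ∈ N, n * v = v * n) ∧ ∃ k : ℕ, v ^ r ^ k = 1}
  one_mem' := ⟨N.one_mem, by simp, 0, by simp⟩
  mul_mem' := by
    rintro a b ⟨ha1, ha2, ka, hka⟩ ⟨hb1, hb2, kb, hkb⟩
    refine ⟨N.mul_mem ha1 hb1, ?_, ka + kb, ?_⟩
    · intro n hn
      rw [← mul_assoc, ha2 n hn, mul_assoc, hb2 n hn, mul_assoc]
    · have hab : Commute a b := hb2 a ha1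
      rw [hab.mul_pow, pow_add, pow_mul, hka, one_pow, mul_comm (r ^ ka), pow_mul, hkb, one_pow,
        one_mul]
  inv_mem' := by
    rintro a ⟨ha1, ha2, ka, hka⟩
    refine ⟨N.inv_mem ha1, ?_, ka, by rw [inv_pow, hka, inv_one]⟩
    intro n hn
    have := ha2 n hn
    calc n * a⁻¹ = a⁻¹ * (a * n) * a⁻¹ := by group
      _ = a⁻¹ * (n * a) * a⁻¹ := by rw [this]
      _ = a⁻¹ * n := by group

theorem mem_Vsub (N : Subgroup G) (r : ℕ) (v : G) :
    v ∈ Vsub N r ↔ v ∈ N ∧ (∀ n ∈ N, n * v = v * n) ∧ ∃ k : ℕ, v ^ r ^ k = 1 := Iff.rfl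

instance Vsub_normal (N : Subgroup G) [N.Normal] (r : ℕ) : (Vsub N r).Normal := by
  constructor
  rintro v ⟨hv1, hv2, k, hk⟩ g
  refine ⟨Subgroup.Normal.conj_mem inferInstance v hv1 g, ?_, k, ?_⟩
  · intro n hn
    have hn' : g⁻¹ * n * g ∈ N := by
      have := Subgroup.Normal.conj_mem (inferInstance : N.Normal) n hn g⁻¹
      simpa using this
    have := hv2 _ hn'
    calc n * (g * v * g⁻¹) = g * ((g⁻¹ * n * g) * v) * g⁻¹ := by group
      _ = g * (v * (g⁻¹ * n * g)) * g⁻¹ := by rw [this]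
      _ = g * v * g⁻¹ * n := by group
  · rw [conj_pow, hk]; group

end setup

section main

variable {G : Type*} [Group G] [Finite G]

theorem Vsub_ne_bot (N : Subgroup G) (hnil : Group.IsNilpotent N) (r : ℕ) [Fact r.Prime]
    (hr : r ∣ Nat.card N) : ∃ v ∈ Vsub N r, v ≠ 1 := by
  obtain ⟨S⟩ : Nonempty (Sylow r ↥N) := inferInstance
  haveI : (S : Subgroup ↥N).Normal := inferInstance
  have hS : (S : Subgroup ↥N) ≠ ⊥ := Sylow.ne_bot_of_dvd_card S hr
  have hne := Cfsg.Agent.Helper10.normal_inf_center_ne_bot (S : Subgroup ↥N) hS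
  rcases Subgroup.bot_or_exists_ne_one ((S : Subgroup ↥N) ⊓ Subgroup.center ↥N) with h | ⟨w, hw, hw1⟩
  · exact absurd h hne
  refine ⟨(w : G), ⟨w.2, ?_, ?_⟩, ?_⟩
  · intro n hn
    have := Subgroup.mem_center_iff.mp hw.2 ⟨n, hn⟩
    exact congrArg Subtype.val this
  · obtain ⟨k, hk⟩ := S.isPGroup' ⟨w, hw.1⟩
    refine ⟨k, ?_⟩
    have := congrArg (fun z : (S : Subgroup ↥N) => ((z : ↥N) : G)) hk
    simpa using this
  · intro h
    apply hw1
    exact Subtype.ext h

/-- the action of `G ⧸ N` on `Vsub N r` -/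
noncomputable def actV (N : Subgroup G) [N.Normal] (r : ℕ) : G ⧸ N →* MulAut ↥(Vsub N r) :=
  QuotientGroup.lift N (MulAut.conjNormal (H := Vsub N r)) (by
    intro n hn
    rw [MonoidHom.mem_ker]
    ext v
    rw [MulAut.conjNormal_apply, MulAut.one_apply]
    have := v.2.2.1 n hn
    rw [this]; group)

theorem actV_mk (N : Subgroup G) [N.Normal] (r : ℕ) (g : G) (v : ↥(Vsub N r)) :
    ((actV N r (QuotientGroup.mk g) v : ↥(Vsub N r)) : G) = g * v * g⁻¹ := by
  unfold actV
  rw [QuotientGroup.lift_mk, MulAut.conjNormal_apply]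

end main

section part1

variable {G : Type*} [Group G] [Finite G]

/-- the Fitting subgroup is contained in `N` -/
theorem fitting_le (N : Subgroup G) [N.Normal] (hN1 : N ≠ ⊥)
    (heq : ∀ x : G, x ∉ N → ∀ n ∈ N, orderOf (x * n) = orderOf x)
    (hnpp : ¬ IsPrimePow (Nat.card N)) (hNF : N ≤ Cfsg.fittingSubgroup G) :
    Cfsg.fittingSubgroup G ≤ N := by
  haveI hFnil : Group.IsNilpotent ↥(Cfsg.fittingSubgroup G) :=
    Cfsg.Agent.Helper70.fittingSubgroup_isNilpotent G
  have hcard : 1 < Nat.card N := by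
    rw [Finite.one_lt_card_iff_nontrivial]
    exact (Subgroup.nontrivial_iff_ne_bot N).mpr hN1
  -- strong induction on the order of the element
  have key : ∀ (k : ℕ) (x : G), orderOf x = k → x ∈ Cfsg.fittingSubgroup G → x ∈ N := by
    intro k
    induction k using Nat.strong_induction_on with
    | _ k ih =>
      intro x hxk hxF
      by_contra hxN
      have hk1 : k ≠ 1 := by
        intro h
        rw [h] at hxk
        rw [orderOf_eq_one_iff] at hxk
        exact hxN (hxk ▸ N.one_mem)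
      have hkpos : 0 < k := hxk ▸ orderOf_pos x
      set q := k.minFac with hq
      have hqp : q.Prime := Nat.minFac_prime hk1
      haveI : Fact q.Prime := ⟨hqp⟩
      set a := k.factorization q with ha
      set m := k / q ^ a with hm
      have hkm : q ^ a * m = k := Nat.ordProj_mul_ordCompl_eq_self k q
      have hcop : (q ^ a).Coprime m := by
        apply Nat.Coprime.pow_left
        exact Nat.coprime_ordCompl hqp hkpos.ne'
      by_cases hm1 : m = 1
      · -- x is a q-element
        have hxq : x ^ q ^ a = 1 := by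
          have : q ^ a = k := by rw [← hkm, hm1, mul_one]
          rw [this, ← hxk]
          exact pow_orderOf_eq_one x
        obtain ⟨r, hrp, hrN, hrq⟩ := exists_prime_ne hcard hnpp q
        haveI : Fact r.Prime := ⟨hrp⟩
        obtain ⟨v, hv⟩ := exists_prime_orderOf_dvd_card' (G := ↥N) r hrN
        have hvF : (v : G) ∈ Cfsg.fittingSubgroup G := hNF v.2
        have hcomm : Commute (⟨x, hxF⟩ : ↥(Cfsg.fittingSubgroup G)) ⟨(v : G), hvF⟩ := by
          apply commute_of_nilpotent' (Ne.symm hrq)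
          · exact ⟨a, Subtype.ext (by simpa using hxq)⟩
          · refine ⟨1, Subtype.ext ?_⟩
            have : (v : G) ^ r = 1 := by
              have h := pow_orderOf_eq_one v
              rw [hv] at h
              exact_mod_cast congrArg Subtype.val h
            simpa using this
        have hcomm' : Commute x (v : G) := congrArg Subtype.val hcomm
        have hov : orderOf (v : G) = r := by rw [Subgroup.orderOf_coe, hv]
        have hco : (orderOf x).Coprime (orderOf (v : G)) := by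
          rw [hov, hxk, ← hkm, hm1, mul_one]
          apply Nat.Coprime.pow_left
          exact (Nat.coprime_primes hqp hrp).mpr (Ne.symm hrq)
        have := eq_one_of_commute N heq x v hxN v.2 hcomm' hco
        rw [this, orderOf_one] at hov
        exact hrp.one_lt.ne hov
      · -- split x into two powers of smaller order
        have ha0 : a ≠ 0 := by
          intro h
          have : q ∣ k := Nat.minFac_dvd k
          have := (hqp.factorization_pos_of_dvd hkpos.ne' this)
          omega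
        have hmpos : 0 < m := Nat.pos_of_ne_zero (by
          intro h; rw [h, mul_zero] at hkm; omega)
        have hqa : 1 < q ^ a := Nat.one_lt_pow ha0 hqp.one_lt
        have hm2 : 1 < m := by omega
        have hmk : m ∣ k := ⟨q ^ a, by rw [← hkm, mul_comm]⟩
        have hqk : q ^ a ∣ k := ⟨m, hkm.symm⟩
        have ho1 : orderOf (x ^ m) = q ^ a := by
          rw [orderOf_pow_of_dvd hmpos.ne' (hxk ▸ hmk), hxk, ← hkm, Nat.mul_div_cancel _ hmpos]
        have ho2 : orderOf (x ^ q ^ a) = m := by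
          rw [orderOf_pow_of_dvd (by positivity) (hxk ▸ hqk), hxk, ← hkm,
            Nat.mul_div_cancel_left _ (by positivity)]
        have hy : x ^ m ∈ N := by
          apply ih (q ^ a) _ (x ^ m) ho1 (Subgroup.pow_mem _ hxF m)
          rw [← hkm]
          nlinarith
        have hz : x ^ q ^ a ∈ N := by
          apply ih m _ (x ^ q ^ a) ho2 (Subgroup.pow_mem _ hxF _)
          rw [← hkm]
          nlinarith
        have hic : IsCoprime ((q ^ a : ℕ) : ℤ) (m : ℤ) := Nat.isCoprime_iff_coprime.mpr hcop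
        obtain ⟨u, w, huw⟩ := hic
        apply hxN
        have hx1 : x = (x ^ q ^ a) ^ u * (x ^ m) ^ w := by
          rw [← zpow_natCast x (q ^ a), ← zpow_natCast x m, ← zpow_mul, ← zpow_mul, ← zpow_add,
            mul_comm _ u, mul_comm _ w, huw, zpow_one]
        rw [hx1]
        exact N.mul_mem (N.zpow_mem hz u) (N.zpow_mem hy w)
  intro x hx
  exact key _ x rfl hx

end part1

/-- Let G be a finite group and N a proper non-trivial normal nilpotent subgroup whose order is not a prime power, such that for every x outside N all elements of the coset xN have the same order as x. Then N is the Fitting subgroup of G, and for every prime q every Sylow q-subgroup of G/N is cyclic or generalized quaternion. -/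
theorem result {G : Type*} [Group G] [Finite G] (N : Subgroup G) [N.Normal] (hN1 : N ≠ ⊥) (hN2 : N ≠ ⊤)
    (heq : ∀ x : G, x ∉ N → ∀ n ∈ N, orderOf (x * n) = orderOf x)
    (hnil : Group.IsNilpotent N) (hnpp : ¬ IsPrimePow (Nat.card N)) :
    N = Cfsg.fittingSubgroup G ∧
    ∀ (q : ℕ) [Fact q.Prime] (Q : Sylow q (G ⧸ N)), IsCyclic (Q : Subgroup (G ⧸ N)) ∨ ∃ n : ℕ, Nonempty ((Q : Subgroup (G ⧸ N)) ≃* QuaternionGroup (2 ^ n)) := by
  have hcard : 1 < Nat.card N := by
    rw [Finite.one_lt_card_iff_nontrivial]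
    exact (Subgroup.nontrivial_iff_ne_bot N).mpr hN1
  have hNF : N ≤ Cfsg.fittingSubgroup G := by
    apply le_sSup
    exact ⟨inferInstance, hnil⟩
  refine ⟨le_antisymm hNF (fitting_le N hN1 heq hnpp hNF), ?_⟩
  intro q _ Q
  have hqp : q.Prime := Fact.out
  obtain ⟨r, hrp, hrN, hrq⟩ := exists_prime_ne hcard hnpp q
  haveI : Fact r.Prime := ⟨hrp⟩
  obtain ⟨v₀, hv₀V, hv₀1⟩ := Vsub_ne_bot N hnil r hrN
  haveI : Nontrivial ↥(Vsub N r) := ⟨⟨⟨v₀, hv₀V⟩, 1, fun h => hv₀1 (congrArg Subtype.val h)⟩⟩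
  have hVp : IsPGroup r ↥(Vsub N r) := by
    intro v
    obtain ⟨k, hk⟩ := v.2.2.2
    exact ⟨k, Subtype.ext (by simpa using hk)⟩
  have hcopV : (Nat.card ↥(Vsub N r)).Coprime q := by
    obtain ⟨k, hk⟩ := IsPGroup.iff_card.mp hVp
    rw [hk]
    apply Nat.Coprime.pow_left
    exact (Nat.coprime_primes hrp hqp).mpr hrq
  let ρ : ↥(Q : Subgroup (G ⧸ N)) →* MulAut ↥(Vsub N r) :=
    (actV N r).comp (Q : Subgroup (G ⧸ N)).subtype
  have hfpf : ∀ g : ↥(Q : Subgroup (G ⧸ N)), g ≠ 1 → ∀ x : ↥(Vsub N r), ρ g x = x → x = 1 := by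
    intro g hg x hx
    obtain ⟨g₀, hg₀⟩ := QuotientGroup.mk_surjective (g : G ⧸ N)
    have hx' : g₀ * (x : G) * g₀⁻¹ = x := by
      have := congrArg Subtype.val hx
      simp only [ρ, MonoidHom.comp_apply, Subgroup.coe_subtype] at this
      rw [← hg₀, actV_mk] at this
      exact this
    have hcomm : Commute g₀ (x : G) := by
      show g₀ * (x : G) = (x : G) * g₀
      calc g₀ * (x : G) = (g₀ * (x : G) * g₀⁻¹) * g₀ := by group
        _ = (x : G) * g₀ := by rw [hx']
    -- the order of the image is a power of q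
    obtain ⟨j, hj⟩ := (IsPGroup.iff_orderOf.mp Q.isPGroup') g
    have hgne : (g : G ⧸ N) ≠ 1 := fun h => hg (Subtype.ext h)
    set a := (orderOf g₀).factorization r with ha
    set m := orderOf g₀ / r ^ a with hm
    have hopos : 0 < orderOf g₀ := orderOf_pos g₀
    have hkm : r ^ a * m = orderOf g₀ := Nat.ordProj_mul_ordCompl_eq_self _ r
    have hcop : r.Coprime m := Nat.coprime_ordCompl hrp hopos.ne'
    have ho : orderOf (g₀ ^ r ^ a) = m := by
      rw [orderOf_pow_of_dvd (pow_pos hrp.pos a).ne' ⟨m, hkm.symm⟩, ← hkm,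
        Nat.mul_div_cancel_left _ (pow_pos hrp.pos a)]
    have hnotN : g₀ ^ r ^ a ∉ N := by
      intro hmem
      apply hgne
      have h1 : (g : G ⧸ N) ^ r ^ a = 1 := by
        rw [← hg₀, ← QuotientGroup.mk_pow]
        exact (QuotientGroup.eq_one_iff _).mpr hmem
      have h2 : orderOf (g : G ⧸ N) ∣ r ^ a := orderOf_dvd_of_pow_eq_one h1
      have h3 : orderOf (g : G ⧸ N) = q ^ j := by rw [Subgroup.orderOf_coe, hj]
      rw [h3] at h2
      have h4 : (q ^ j).Coprime (r ^ a) :=
        Nat.Coprime.pow _ _ ((Nat.coprime_primes hqp hrp).mpr (Ne.symm hrq))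
      have h5 : q ^ j = 1 := Nat.Coprime.eq_one_of_dvd h4 h2
      rw [h5] at h3
      exact orderOf_eq_one_iff.mp h3
    have hcomm' : Commute (g₀ ^ r ^ a) (x : G) := hcomm.pow_left _
    have hxr : ∃ b : ℕ, orderOf (x : G) = r ^ b := by
      obtain ⟨k, hk⟩ := x.2.2.2
      have := orderOf_dvd_of_pow_eq_one hk
      obtain ⟨b, _, hb⟩ := (Nat.dvd_prime_pow hrp).mp this
      exact ⟨b, hb⟩
    obtain ⟨b, hb⟩ := hxr
    have hco : (orderOf (g₀ ^ r ^ a)).Coprime (orderOf (x : G)) := by
      rw [ho, hb]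
      exact (Nat.Coprime.pow_left b hcop).symm
    have := eq_one_of_commute N heq (g₀ ^ r ^ a) (x : G) hnotN x.2.1 hcomm' hco
    exact Subtype.ext this
  have huniq : ∀ H K : Subgroup ↥(Q : Subgroup (G ⧸ N)), Nat.card H = q → Nat.card K = q → H = K :=
    fun H K hH hK => unique_subgroup_order_p_of_fpf' q Q.isPGroup' hcopV ρ hfpf H K hH hK
  rcases Cfsg.Agent.S0016.result q Q.isPGroup' huniq with h | ⟨-, n, hn⟩
  · exact Or.inl h
  · exact Or.inr ⟨n, hn⟩

end Cfsg.Agent.S4155
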