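import Cfsg.Statements.S4156
import Mathlib

set_option autoImplicit false
open Cfsg

namespace Cfsg.Agent.S4156

section matrices

variable (n : ℕ) (F : Type*) [Field F]

/-- permutation matrix sending `e_j` to `e_{σ j}` -/
def Pm (σ : Equiv.Perm (Fin (n + 1))) : Matrix (Fin (n + 1)) (Fin (n + 1)) F :=
  fun i j => if σ j = i then 1 else 0

/-- projection to the first `n` coordinates -/
def Am : Matrix (Fin n) (Fin (n + 1)) F :=
  fun i j => if j = i.castSucc then 1 else 0

/-- inclusion of the sum-zero subspace, in the basis `e_j - e_last` -/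
def Bm : Matrix (Fin (n + 1)) (Fin n) F :=
  fun i j => (if i = j.castSucc then 1 else 0) - (if i = Fin.last n then 1 else 0)

/-- the matrix `e_last * 1ᵀ` -/
def Em : Matrix (Fin (n + 1)) (Fin (n + 1)) F :=
  fun i _ => if i = Fin.last n then 1 else 0

theorem Pm_mul (σ τ : Equiv.Perm (Fin (n + 1))) : Pm n F (σ * τ) = Pm n F σ * Pm n F τ := by
  ext i k
  simp only [Pm, Matrix.mul_apply, Equiv.Perm.coe_mul, Function.comp_apply]
  rw [Finset.sum_eq_single (τ k)]
  · rw [if_pos rfl, mul_one]
    rfl
  · intro j _ hj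
    have : ¬ τ k = j := fun h => hj h.symm
    simp [this]
  · intro h; exact absurd (Finset.mem_univ _) h

theorem Pm_one : Pm n F 1 = 1 := by
  ext i k
  simp [Pm, Matrix.one_apply, eq_comm]

theorem Am_mul_Bm : Am n F * Bm n F = 1 := by
  ext i k
  simp only [Am, Bm, Matrix.mul_apply, Matrix.one_apply]
  rw [Finset.sum_eq_single i.castSucc]
  · have h1 : i.castSucc ≠ Fin.last n := (Fin.castSucc_lt_last i).ne
    simp [h1, Fin.castSucc_inj]
  · intro j _ hj
    simp [hj]
  · intro h; exact absurd (Finset.mem_univ _) h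

theorem Bm_mul_Am : Bm n F * Am n F = 1 - Em n F := by
  ext i j
  simp only [Am, Bm, Em, Matrix.mul_apply, Matrix.sub_apply, Matrix.one_apply]
  induction j using Fin.lastCases with
  | last =>
    have h1 : ∀ k : Fin n, ¬ Fin.last n = k.castSucc := fun k h => (Fin.castSucc_lt_last k).ne h.symm
    simp [h1]
  | cast j =>
    rw [Finset.sum_eq_single j]
    · simp
    · intro k _ hk
      have : ¬ j.castSucc = k.castSucc := fun h => hk (Fin.castSucc_inj.mp h).symm
      simp [this]
    · intro h; exact absurd (Finset.mem_univ _) h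

theorem Em_mul_Pm (τ : Equiv.Perm (Fin (n + 1))) : Em n F * Pm n F τ = Em n F := by
  ext i k
  simp only [Em, Pm, Matrix.mul_apply]
  rw [Finset.sum_eq_single (τ k)]
  · simp
  · intro j _ hj
    have : ¬ τ k = j := fun h => hj h.symm
    simp [this]
  · intro h; exact absurd (Finset.mem_univ _) h

theorem Em_mul_Bm : Em n F * Bm n F = 0 := by
  ext i k
  simp only [Em, Bm, Matrix.mul_apply, Matrix.zero_apply]
  rw [← Finset.mul_sum]
  have : ∑ j : Fin (n + 1), ((if j = k.castSucc then (1 : F) else 0) - (if j = Fin.last n then 1 else 0)) = 0 := by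
    rw [Finset.sum_sub_distrib]
    simp
  rw [this, mul_zero]

/-- the deleted permutation representation -/
def Mm (σ : Equiv.Perm (Fin (n + 1))) : Matrix (Fin n) (Fin n) F :=
  Am n F * Pm n F σ * Bm n F

theorem Mm_one : Mm n F 1 = 1 := by
  unfold Mm
  rw [Pm_one, Matrix.mul_one, Am_mul_Bm]

theorem Mm_mul (σ τ : Equiv.Perm (Fin (n + 1))) : Mm n F (σ * τ) = Mm n F σ * Mm n F τ := by
  unfold Mm
  have h : Am n F * Pm n F σ * Bm n F * (Am n F * Pm n F τ * Bm n F) =
      Am n F * Pm n F σ * (Bm n F * Am n F) * Pm n F τ * Bm n F := by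
    simp only [Matrix.mul_assoc]
  rw [h, Bm_mul_Am, Matrix.mul_sub, Matrix.mul_one, Matrix.sub_mul, Matrix.sub_mul]
  have h2 : Am n F * Pm n F σ * Em n F * Pm n F τ * Bm n F = 0 := by
    rw [Matrix.mul_assoc (Am n F * Pm n F σ), Em_mul_Pm, Matrix.mul_assoc, Em_mul_Bm, Matrix.mul_zero]
  rw [h2, sub_zero, Pm_mul]
  simp only [Matrix.mul_assoc]

theorem Mm_apply (σ : Equiv.Perm (Fin (n + 1))) (i k : Fin n) :
    Mm n F σ i k = (if σ k.castSucc = i.castSucc then 1 else 0) -
      (if σ (Fin.last n) = i.castSucc then 1 else 0) := by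
  unfold Mm
  rw [Matrix.mul_assoc, Matrix.mul_apply]
  simp only [Am]
  rw [Finset.sum_eq_single i.castSucc]
  · simp only [if_true, one_mul, Matrix.mul_apply, Pm, Bm]
    simp only [mul_sub, Finset.sum_sub_distrib]
    simp
  · intro j _ hj
    simp [hj]
  · intro h; exact absurd (Finset.mem_univ _) h

end matrices

section main

variable (n : ℕ) (F : Type*) [Field F]

/-- the deleted permutation representation as a monoid homomorphism -/
def Mhom : Equiv.Perm (Fin (n + 1)) →* Matrix (Fin n) (Fin n) F where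
  toFun := Mm n F
  map_one' := Mm_one n F
  map_mul' := Mm_mul n F

theorem not_comm_alt (hn : 5 ≤ n) :
    ¬ (∀ a b : alternatingGroup (Fin (n + 1)), a * b = b * a) := by
  intro h
  have : IsSimpleGroup (alternatingGroup (Fin (n + 1))) :=
    alternatingGroup.isSimpleGroup (by simp; omega)
  let _ : CommGroup (alternatingGroup (Fin (n + 1))) :=
    { (inferInstance : Group (alternatingGroup (Fin (n + 1)))) with mul_comm := h }
  have hprime : (Nat.card (alternatingGroup (Fin (n + 1)))).Prime := IsSimpleGroup.prime_card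
  haveI : Nontrivial (Fin (n + 1)) := Fin.nontrivial_iff_two_le.mpr (by omega)
  have h2 : 2 * Nat.card (alternatingGroup (Fin (n + 1))) = (n + 1).factorial := by
    rw [Nat.card_eq_fintype_card, two_mul_card_alternatingGroup, Fintype.card_perm,
      Fintype.card_fin]
  have h24 : 24 ∣ (n + 1).factorial := by
    have : (4).factorial ∣ (n + 1).factorial := Nat.factorial_dvd_factorial (by omega)
    simpa [Nat.factorial] using this
  have h12 : 12 ∣ Nat.card (alternatingGroup (Fin (n + 1))) := by
    obtain ⟨k, hk⟩ := h24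
    exact ⟨k, by omega⟩
  have e2 := (Nat.prime_dvd_prime_iff_eq Nat.prime_two hprime).mp (dvd_trans (by norm_num) h12)
  have e3 := (Nat.prime_dvd_prime_iff_eq Nat.prime_three hprime).mp (dvd_trans (by norm_num) h12)
  omega

theorem det_eq_one (hn : 5 ≤ n) (σ : alternatingGroup (Fin (n + 1))) :
    (Mm n F σ.1).det = 1 := by
  have : IsSimpleGroup (alternatingGroup (Fin (n + 1))) :=
    alternatingGroup.isSimpleGroup (by simp; omega)
  let d : alternatingGroup (Fin (n + 1)) →* Fˣ :=
    ((Matrix.detMonoidHom).comp (Mhom n F)).toHomUnits.comp (alternatingGroup (Fin (n + 1))).subtype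
  have hd : ∀ τ : alternatingGroup (Fin (n + 1)), ((d τ : Fˣ) : F) = (Mm n F τ.1).det := by
    intro τ
    rfl
  rcases (MonoidHom.normal_ker d).eq_bot_or_eq_top with h | h
  · exfalso
    apply not_comm_alt n hn
    intro a b
    have hinj : Function.Injective d := (MonoidHom.ker_eq_bot_iff d).mp h
    apply hinj
    rw [map_mul, map_mul, mul_comm]
  · have : σ ∈ d.ker := by rw [h]; trivial
    rw [MonoidHom.mem_ker] at this
    rw [← hd σ, this]
    rfl

/-- the representation of the alternating group in `SL_n(F)` -/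
def gHom (hn : 5 ≤ n) :
    alternatingGroup (Fin (n + 1)) →* Matrix.SpecialLinearGroup (Fin n) F where
  toFun σ := ⟨Mm n F σ.1, det_eq_one n F hn σ⟩
  map_one' := by
    apply Subtype.ext
    exact Mm_one n F
  map_mul' := by
    intro a b
    apply Subtype.ext
    exact Mm_mul n F a.1 b.1

end main

/-- Let n ≥ 5 and F a finite field. Then the projective special linear group PSL_n(F) contains a subgroup isomorphic to the alternating group of degree n + 1. -/
theorem result (n : ℕ) (hn : 5 ≤ n) (F : Type*) [Field F] [Finite F] :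
    ∃ f : alternatingGroup (Fin (n + 1)) →* Matrix.ProjectiveSpecialLinearGroup (Fin n) F, Function.Injective f := by
  have : IsSimpleGroup (alternatingGroup (Fin (n + 1))) :=
    alternatingGroup.isSimpleGroup (by simp; omega)
  let f : alternatingGroup (Fin (n + 1)) →* Matrix.ProjectiveSpecialLinearGroup (Fin n) F :=
    (QuotientGroup.mk' (Subgroup.center (Matrix.SpecialLinearGroup (Fin n) F))).comp (gHom n F hn)
  refine ⟨f, ?_⟩
  rcases (MonoidHom.normal_ker f).eq_bot_or_eq_top with h | h
  · exact (MonoidHom.ker_eq_bot_iff f).mp h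
  · exfalso
    let i0 : Fin n := ⟨0, by omega⟩
    let i1 : Fin n := ⟨1, by omega⟩
    let i2 : Fin n := ⟨2, by omega⟩
    let i3 : Fin n := ⟨3, by omega⟩
    have h01 : i0.castSucc ≠ i1.castSucc := by
      intro e; have := congrArg Fin.val e; simp [i0, i1] at this
    have h02 : i0.castSucc ≠ i2.castSucc := by
      intro e; have := congrArg Fin.val e; simp [i0, i2] at this
    have h03 : i0.castSucc ≠ i3.castSucc := by
      intro e; have := congrArg Fin.val e; simp [i0, i3] at this
    have h23 : i2.castSucc ≠ i3.castSucc := by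
      intro e; have := congrArg Fin.val e; simp [i2, i3] at this
    have hl : ∀ i : Fin n, Fin.last n ≠ i.castSucc := fun i e => (Fin.castSucc_lt_last i).ne e.symm
    let σ₀ : Equiv.Perm (Fin (n + 1)) :=
      Equiv.swap i0.castSucc i1.castSucc * Equiv.swap i2.castSucc i3.castSucc
    have hσ₀ : σ₀ ∈ alternatingGroup (Fin (n + 1)) := by
      rw [Equiv.Perm.mem_alternatingGroup]
      simp only [σ₀]
      rw [map_mul, Equiv.Perm.sign_swap h01, Equiv.Perm.sign_swap h23]
      rfl
    have hmem : (⟨σ₀, hσ₀⟩ : alternatingGroup (Fin (n + 1))) ∈ f.ker := by rw [h]; trivial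
    rw [MonoidHom.mem_ker] at hmem
    have hc : gHom n F hn ⟨σ₀, hσ₀⟩ ∈ Subgroup.center (Matrix.SpecialLinearGroup (Fin n) F) := by
      rw [← QuotientGroup.eq_one_iff]
      exact hmem
    obtain ⟨r, -, hr⟩ := Matrix.SpecialLinearGroup.mem_center_iff.mp hc
    have hentry : Mm n F σ₀ i1 i0 = 0 := by
      have : (gHom n F hn ⟨σ₀, hσ₀⟩ : Matrix (Fin n) (Fin n) F) = Mm n F σ₀ := rfl
      rw [← this, ← hr]
      have hne : i1 ≠ i0 := by
        intro e; have := congrArg Fin.val e; simp [i0, i1] at this
      simp [Matrix.scalar_apply, Matrix.diagonal_apply_ne _ hne]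
    rw [Mm_apply] at hentry
    have e1 : σ₀ i0.castSucc = i1.castSucc := by
      simp only [σ₀, Equiv.Perm.coe_mul, Function.comp_apply]
      rw [Equiv.swap_apply_of_ne_of_ne h02 h03, Equiv.swap_apply_left]
    have e2 : σ₀ (Fin.last n) = Fin.last n := by
      simp only [σ₀, Equiv.Perm.coe_mul, Function.comp_apply]
      rw [Equiv.swap_apply_of_ne_of_ne (hl i2) (hl i3), Equiv.swap_apply_of_ne_of_ne (hl i0) (hl i1)]
    rw [e1, e2, if_pos rfl, if_neg (hl i1)] at hentry
    simp at hentry

end Cfsg.Agent.S4156
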