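import Cfsg.Statements.S4160
import Cfsg.Agent.Lib.Helper2.PComplement

set_option autoImplicit false
open Cfsg
open scoped Pointwise

namespace Cfsg.Agent.S4160

/-- A subgroup of index prime to `p` contains a Sylow `p`-subgroup. -/
theorem exists_sylow_le_of_not_dvd_index {G : Type*} [Group G] [Finite G] {p : ℕ} [hp : Fact p.Prime]
    (H : Subgroup G) (h : ¬ p ∣ H.index) : ∃ P : Sylow p G, (P : Subgroup G) ≤ H := by
  obtain ⟨Q⟩ : Nonempty (Sylow p H) := inferInstance
  have hQp : IsPGroup p ((Q : Subgroup H).map H.subtype) := Q.isPGroup'.map H.subtype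
  obtain ⟨P, hP⟩ := hQp.exists_le_sylow
  refine ⟨P, ?_⟩
  have hcard : Nat.card (P : Subgroup G) = Nat.card ((Q : Subgroup H).map H.subtype) := by
    rw [Subgroup.card_subtype, P.card_eq_multiplicity, Q.card_eq_multiplicity]
    congr 1
    have hG : Nat.card G = Nat.card H * H.index := (H.card_mul_index).symm
    have hidx : H.index ≠ 0 := Subgroup.index_ne_zero_of_finite
    rw [hG, Nat.factorization_mul Nat.card_pos.ne' hidx]
    simp [Nat.factorization_eq_zero_of_not_dvd h]
  have heq : (Q : Subgroup H).map H.subtype = (P : Subgroup G) :=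
    Subgroup.eq_of_le_of_card_ge hP hcard.le
  rw [← heq]
  rintro _ ⟨x, -, rfl⟩
  exact x.2

/-- Conjugate subgroups have centralizers of the same order. -/
theorem card_centralizer_conj {G : Type*} [Group G] (K : Subgroup G) (g : G) :
    Nat.card (Subgroup.centralizer ((MulAut.conj g • K : Subgroup G) : Set G)) =
      Nat.card (Subgroup.centralizer (K : Set G)) := by
  have h : Subgroup.centralizer ((MulAut.conj g • K : Subgroup G) : Set G) =
      (Subgroup.centralizer (K : Set G)).map (MulAut.conj g).toMonoidHom := by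
    ext y
    rw [Subgroup.mem_centralizer_iff, Subgroup.mem_map]
    constructor
    · intro hy
      refine ⟨g⁻¹ * y * g, ?_, by simp [MulAut.conj_apply, mul_assoc]⟩
      rw [Subgroup.mem_centralizer_iff]
      intro k hk
      have hk' : g * k * g⁻¹ ∈ ((MulAut.conj g • K : Subgroup G) : Set G) := by
        rw [SetLike.mem_coe, Subgroup.mem_pointwise_smul_iff_inv_smul_mem]
        simpa [MulAut.smul_def, MulAut.conj_apply, mul_assoc] using hk
      have := hy _ hk'
      calc k * (g⁻¹ * y * g) = g⁻¹ * ((g * k * g⁻¹) * y) * g := by group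
        _ = g⁻¹ * (y * (g * k * g⁻¹)) * g := by rw [this]
        _ = (g⁻¹ * y * g) * k := by group
    · rintro ⟨c, hc, rfl⟩
      rw [Subgroup.mem_centralizer_iff] at hc
      intro k hk
      rw [SetLike.mem_coe, Subgroup.mem_pointwise_smul_iff_inv_smul_mem] at hk
      have hk' : g⁻¹ * k * g ∈ K := by
        simpa [MulAut.smul_def, MulAut.conj_apply, mul_assoc] using hk
      have := hc _ hk'
      simp only [MulEquiv.coe_toMonoidHom, MulAut.conj_apply]
      calc k * (g * c * g⁻¹) = g * ((g⁻¹ * k * g) * c) * g⁻¹ := by group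
        _ = g * (c * (g⁻¹ * k * g)) * g⁻¹ := by rw [this]
        _ = (g * c * g⁻¹) * k := by group
  rw [h]
  exact Subgroup.card_map_of_injective (MulAut.conj g).injective

theorem card_centralizer_sylow_eq {G : Type*} [Group G] [Finite G] {p : ℕ} [Fact p.Prime]
    (P P' : Sylow p G) :
    Nat.card (Subgroup.centralizer ((P' : Subgroup G) : Set G)) =
      Nat.card (Subgroup.centralizer ((P : Subgroup G) : Set G)) := by
  obtain ⟨g, rfl⟩ := MulAction.exists_smul_eq G P P'
  rw [Sylow.coe_subgroup_smul]
  exact card_centralizer_conj (P : Subgroup G) g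

open Classical in
/-- The non-identity elements centralizing some Sylow `p`-subgroup. -/
theorem card_cover_le {G : Type*} [Group G] [Finite G] [Fintype G] {p : ℕ} [Fact p.Prime]
    [Fintype (Sylow p G)] (P : Sylow p G) :
    ((Finset.univ : Finset G).filter
      (fun x => x ≠ 1 ∧ ∃ P' : Sylow p G, x ∈ Subgroup.centralizer ((P' : Subgroup G) : Set G))).card ≤
      Nat.card (Sylow p G) * (Nat.card (Subgroup.centralizer ((P : Subgroup G) : Set G)) - 1) := by
  have hsub : (Finset.univ : Finset G).filter
      (fun x => x ≠ 1 ∧ ∃ P' : Sylow p G, x ∈ Subgroup.centralizer ((P' : Subgroup G) : Set G)) ⊆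
      (Finset.univ : Finset (Sylow p G)).biUnion (fun P' =>
        ((Finset.univ : Finset G).filter
          (fun x => x ∈ Subgroup.centralizer ((P' : Subgroup G) : Set G))).erase 1) := by
    intro x hx
    rw [Finset.mem_filter] at hx
    obtain ⟨-, hx1, P', hP'⟩ := hx
    rw [Finset.mem_biUnion]
    exact ⟨P', Finset.mem_univ _, Finset.mem_erase.mpr ⟨hx1, Finset.mem_filter.mpr ⟨Finset.mem_univ _, hP'⟩⟩⟩
  refine (Finset.card_le_card hsub).trans ?_
  refine Finset.card_biUnion_le.trans ?_
  have hterm : ∀ P' : Sylow p G,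
      (((Finset.univ : Finset G).filter
          (fun x => x ∈ Subgroup.centralizer ((P' : Subgroup G) : Set G))).erase 1).card =
        Nat.card (Subgroup.centralizer ((P : Subgroup G) : Set G)) - 1 := by
    intro P'
    rw [Finset.card_erase_of_mem (Finset.mem_filter.mpr ⟨Finset.mem_univ _, Subgroup.one_mem _⟩)]
    congr 1
    rw [← card_centralizer_sylow_eq P P', Nat.card_eq_fintype_card, Fintype.card_subtype]
  rw [Finset.sum_congr rfl (fun P' _ => hterm P'), Finset.sum_const, Finset.card_univ,
    smul_eq_mul, ← Nat.card_eq_fintype_card]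

/-- Let G be a finite group and p ≠ q primes each dividing the size of some conjugacy class of G, such that no conjugacy class size is divisible by pq. Then G has a normal p-complement or a normal q-complement. -/
theorem result {G : Type*} [Group G] [Finite G] (p q : ℕ) (hp : p.Prime) (hq : q.Prime) (hpq : p ≠ q)
    (hp' : ∃ x : G, p ∣ (Subgroup.centralizer ({x} : Set G)).index) (hq' : ∃ x : G, q ∣ (Subgroup.centralizer ({x} : Set G)).index) (h : ∀ x : G, ¬ p * q ∣ (Subgroup.centralizer ({x} : Set G)).index) :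
    Cfsg.HasNormalPComplement p G ∨ Cfsg.HasNormalPComplement q G := by
  classical
  haveI : Fact p.Prime := ⟨hp⟩
  haveI : Fact q.Prime := ⟨hq⟩
  haveI : Fintype G := Fintype.ofFinite G
  haveI : Fintype (Sylow p G) := Fintype.ofFinite _
  haveI : Fintype (Sylow q G) := Fintype.ofFinite _
  obtain ⟨P⟩ : Nonempty (Sylow p G) := inferInstance
  obtain ⟨Q⟩ : Nonempty (Sylow q G) := inferInstance
  -- every element centralizes a Sylow `p`- or a Sylow `q`-subgroup
  have hcov : ∀ x : G, (∃ P' : Sylow p G, x ∈ Subgroup.centralizer ((P' : Subgroup G) : Set G)) ∨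
      (∃ Q' : Sylow q G, x ∈ Subgroup.centralizer ((Q' : Subgroup G) : Set G)) := by
    intro x
    have hx := h x
    have hor : ¬ p ∣ (Subgroup.centralizer ({x} : Set G)).index ∨
        ¬ q ∣ (Subgroup.centralizer ({x} : Set G)).index := by
      by_contra hcon
      push Not at hcon
      exact hx ((Nat.coprime_primes hp hq).mpr hpq |>.mul_dvd_of_dvd_of_dvd hcon.1 hcon.2)
    have key : ∀ (r : ℕ) [Fact r.Prime], ¬ r ∣ (Subgroup.centralizer ({x} : Set G)).index →
        ∃ R' : Sylow r G, x ∈ Subgroup.centralizer ((R' : Subgroup G) : Set G) := by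
      intro r _ hr
      obtain ⟨R', hR'⟩ := exists_sylow_le_of_not_dvd_index _ hr
      refine ⟨R', ?_⟩
      rw [Subgroup.mem_centralizer_iff]
      intro y hy
      have := hR' hy
      rw [Subgroup.mem_centralizer_iff] at this
      exact (this x rfl).symm
    rcases hor with hr | hr
    · exact Or.inl (key p hr)
    · exact Or.inr (key q hr)
  -- counting
  obtain ⟨cp, hcp⟩ : ∃ c, c = Nat.card (Subgroup.centralizer ((P : Subgroup G) : Set G)) := ⟨_, rfl⟩
  obtain ⟨cq, hcq⟩ : ∃ c, c = Nat.card (Subgroup.centralizer ((Q : Subgroup G) : Set G)) := ⟨_, rfl⟩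
  obtain ⟨np, hnp⟩ : ∃ n, n = Nat.card (Sylow p G) := ⟨_, rfl⟩
  obtain ⟨nq, hnq⟩ : ∃ n, n = Nat.card (Sylow q G) := ⟨_, rfl⟩
  have hcount : Nat.card G ≤ 1 + np * (cp - 1) + nq * (cq - 1) := by
    have h1 := card_cover_le P
    have h2 := card_cover_le Q
    rw [← hcp, ← hnp] at h1
    rw [← hcq, ← hnq] at h2
    have hsub : (Finset.univ : Finset G) ⊆ insert 1
        ((Finset.univ.filter (fun x => x ≠ 1 ∧
            ∃ P' : Sylow p G, x ∈ Subgroup.centralizer ((P' : Subgroup G) : Set G))) ∪
         (Finset.univ.filter (fun x => x ≠ 1 ∧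
            ∃ Q' : Sylow q G, x ∈ Subgroup.centralizer ((Q' : Subgroup G) : Set G)))) := by
      intro x _
      by_cases hx1 : x = 1
      · rw [hx1]; exact Finset.mem_insert_self _ _
      · apply Finset.mem_insert_of_mem
        rcases hcov x with hP' | hQ'
        · exact Finset.mem_union_left _ (Finset.mem_filter.mpr ⟨Finset.mem_univ _, hx1, hP'⟩)
        · exact Finset.mem_union_right _ (Finset.mem_filter.mpr ⟨Finset.mem_univ _, hx1, hQ'⟩)
    have h3 := Finset.card_le_card hsub
    rw [Finset.card_univ, ← Nat.card_eq_fintype_card] at h3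
    have h4 := Finset.card_insert_le (1 : G)
        ((Finset.univ.filter (fun x => x ≠ 1 ∧
            ∃ P' : Sylow p G, x ∈ Subgroup.centralizer ((P' : Subgroup G) : Set G))) ∪
         (Finset.univ.filter (fun x => x ≠ 1 ∧
            ∃ Q' : Sylow q G, x ∈ Subgroup.centralizer ((Q' : Subgroup G) : Set G))))
    have h5 := Finset.card_union_le
        (Finset.univ.filter (fun x : G => x ≠ 1 ∧
            ∃ P' : Sylow p G, x ∈ Subgroup.centralizer ((P' : Subgroup G) : Set G)))
        (Finset.univ.filter (fun x : G => x ≠ 1 ∧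
            ∃ Q' : Sylow q G, x ∈ Subgroup.centralizer ((Q' : Subgroup G) : Set G)))
    omega
  -- orders
  have hGp : Nat.card G = np * ((Subgroup.centralizer ((P : Subgroup G) : Set G)).relIndex
      (Subgroup.normalizer ((P : Subgroup G) : Set G)) * cp) := by
    have hn : Nat.card (Sylow p G) = (Subgroup.normalizer ((P : Subgroup G) : Set G)).index :=
      Sylow.card_eq_index_normalizer P
    rw [hnp, hn, hcp]
    have e1 := Subgroup.relIndex_mul_index (Subgroup.centralizer_le_normalizer ((P : Subgroup G) : Set G))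
    have e2 := (Subgroup.centralizer ((P : Subgroup G) : Set G)).card_mul_index
    rw [← e2, ← e1]; ring
  have hGq : Nat.card G = nq * ((Subgroup.centralizer ((Q : Subgroup G) : Set G)).relIndex
      (Subgroup.normalizer ((Q : Subgroup G) : Set G)) * cq) := by
    have hn : Nat.card (Sylow q G) = (Subgroup.normalizer ((Q : Subgroup G) : Set G)).index :=
      Sylow.card_eq_index_normalizer Q
    rw [hnq, hn, hcq]
    have e1 := Subgroup.relIndex_mul_index (Subgroup.centralizer_le_normalizer ((Q : Subgroup G) : Set G))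
    have e2 := (Subgroup.centralizer ((Q : Subgroup G) : Set G)).card_mul_index
    rw [← e2, ← e1]; ring
  obtain ⟨a, ha⟩ : ∃ a, a = (Subgroup.centralizer ((P : Subgroup G) : Set G)).relIndex
      (Subgroup.normalizer ((P : Subgroup G) : Set G)) := ⟨_, rfl⟩
  obtain ⟨b, hb⟩ : ∃ b, b = (Subgroup.centralizer ((Q : Subgroup G) : Set G)).relIndex
      (Subgroup.normalizer ((Q : Subgroup G) : Set G)) := ⟨_, rfl⟩
  rw [← ha] at hGp
  rw [← hb] at hGq
  have hcp1 : 1 ≤ cp := hcp ▸ Nat.card_pos
  have hcq1 : 1 ≤ cq := hcq ▸ Nat.card_pos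
  have hnp1 : 1 ≤ np := hnp ▸ Nat.card_pos
  have hnq1 : 1 ≤ nq := hnq ▸ Nat.card_pos
  have hab : a = 1 ∨ b = 1 := by
    by_contra hcon
    push Not at hcon
    have ha0 : a ≠ 0 := by
      rw [ha]; unfold Subgroup.relIndex; exact Subgroup.index_ne_zero_of_finite
    have hb0 : b ≠ 0 := by
      rw [hb]; unfold Subgroup.relIndex; exact Subgroup.index_ne_zero_of_finite
    have ha2 : 2 ≤ a := by omega
    have hb2 : 2 ≤ b := by omega
    have h1 : 2 * (np * cp) ≤ Nat.card G := by
      rw [hGp]
      calc 2 * (np * cp) = np * (2 * cp) := by ring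
        _ ≤ np * (a * cp) := Nat.mul_le_mul_left _ (Nat.mul_le_mul_right _ ha2)
    have h2 : 2 * (nq * cq) ≤ Nat.card G := by
      rw [hGq]
      calc 2 * (nq * cq) = nq * (2 * cq) := by ring
        _ ≤ nq * (b * cq) := Nat.mul_le_mul_left _ (Nat.mul_le_mul_right _ hb2)
    have e1 : np * (cp - 1) + np = np * cp := by
      rw [← Nat.mul_succ]; congr 1; omega
    have e2 : nq * (cq - 1) + nq = nq * cq := by
      rw [← Nat.mul_succ]; congr 1; omega
    omega
  rcases hab with h1 | h1
  · left
    apply Cfsg.Agent.Helper2.hasNormalPComplement_of_normalizer_le_centralizer P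
    rw [ha] at h1
    exact Subgroup.relIndex_eq_one.mp h1
  · right
    apply Cfsg.Agent.Helper2.hasNormalPComplement_of_normalizer_le_centralizer Q
    rw [hb] at h1
    exact Subgroup.relIndex_eq_one.mp h1

end Cfsg.Agent.S4160
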