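import Cfsg.Statements.S4168
import Mathlib
import Cfsg.Agent.S4184

set_option autoImplicit false
open Cfsg
open scoped commutatorElement

namespace Cfsg.Agent.S4168

/-- Let L be a finite quasisimple group (perfect with L/Z(L) simple). Then every prime dividing the order of the centre Z(L) also divides the order of L/Z(L). -/
theorem result {L : Type*} [Group L] [Finite L] (hL : Cfsg.IsQuasisimple L)
    (p : ℕ) (hp : p.Prime) (hdiv : p ∣ Nat.card (Subgroup.center L)) : p ∣ (Subgroup.center L).index := by
  by_contra hnd
  have hf : Fact p.Prime := ⟨hp⟩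
  obtain ⟨hperf, _⟩ := hL
  let P : Sylow p L := default
  have hPZ : (P : Subgroup L) ≤ Subgroup.center L := by
    obtain ⟨x, hx⟩ := Cfsg.Agent.S4184.exists_conj_le p P (Subgroup.center L) hnd
    intro y hy
    have h1 := hx y hy
    have h2 : y = x⁻¹ * (x * y * x⁻¹) * x⁻¹⁻¹ := by group
    rw [h2]
    exact (inferInstance : (Subgroup.center L).Normal).conj_mem _ h1 _
  have hcomm : ∀ y ∈ (P : Subgroup L), ∀ g : L, g * y = y * g := by
    intro y hy g
    exact Subgroup.mem_center_iff.mp (hPZ hy) g
  have hP : Subgroup.normalizer ((P : Subgroup L) : Set L) ≤ Subgroup.centralizer ((P : Subgroup L) : Set L) := by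
    intro g _
    rw [Subgroup.mem_centralizer_iff]
    intro y hy
    exact (hcomm y hy g).symm
  have hcompl := MonoidHom.ker_transferSylow_isComplement' P hP
  have hker : (MonoidHom.transferSylow P hP).ker = ⊤ := by
    rw [eq_top_iff, ← hperf.commutator_eq_top, commutator_eq_closure, Subgroup.closure_le]
    rintro _ ⟨a, b, rfl⟩
    rw [SetLike.mem_coe, MonoidHom.mem_ker, map_commutatorElement,
      commutatorElement_eq_one_iff_mul_comm]
    apply Subtype.ext
    exact hcomm _ (MonoidHom.transferSylow P hP b).2 _
  rw [hker, Subgroup.isComplement'_top_left] at hcompl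
  have hpL : p ∣ Nat.card L := dvd_trans hdiv (Subgroup.card_subgroup_dvd_card _)
  exact P.ne_bot_of_dvd_card hpL hcompl

end Cfsg.Agent.S4168
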