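import Cfsg.Statements.S4172
import Cfsg.Agent.Lib.Helper22.TwoGen
import Cfsg.Agent.Lib.Helper22.Bender

set_option autoImplicit false
open Cfsg

namespace Cfsg.Agent.S4172

open Cfsg.Agent.Helper22 Cfsg.Agent.Helper22.TwoGen in
/-- Let p be a prime and G a finite group with a non-commutative Sylow p-subgroup P whose Frattini subgroup has index p² in P (P is generated by two elements). Suppose G has no nontrivial normal subgroup of order prime to p and the Frattini subgroup of P contains no nontrivial normal subgroup of G. Then the generalized Fitting subgroup F*(G) is the unique minimal normal subgroup of G, the image of P in G/F*(G) is cyclic, and if F*(G) is not commutative then P permutes the components of G transitively by conjugation. -/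
theorem result {G : Type*} [Group G] [Finite G] (p : ℕ) [Fact p.Prime] (P : Sylow p G) (hna : ¬ IsMulCommutative (P : Subgroup G)) (hgen : (frattini ↥(P : Subgroup G)).index = p ^ 2) (hcore : Cfsg.pPrimeCore p G = ⊥) (hfrat : ((frattini ↥(P : Subgroup G)).map (P : Subgroup G).subtype).normalCore = ⊥) [hFn : (Cfsg.generalizedFittingSubgroup G).Normal] :
    (Cfsg.generalizedFittingSubgroup G ≠ ⊥ ∧ ∀ K : Subgroup G, K.Normal → K ≠ ⊥ → Cfsg.generalizedFittingSubgroup G ≤ K) ∧
      IsCyclic ↥((P : Subgroup G).map (QuotientGroup.mk' (Cfsg.generalizedFittingSubgroup G))) ∧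
      (¬ IsMulCommutative (Cfsg.generalizedFittingSubgroup G) → ∀ K L : Subgroup G, Cfsg.IsComponent K → Cfsg.IsComponent L → ∃ x ∈ (P : Subgroup G), L = K.map (MulAut.conj x).toMonoidHom) := by
  classical
  obtain ⟨N₀, hN₀n, hN₀, hmin⟩ := exists_least_normal P hna hgen hcore hfrat
  have hFne : Cfsg.generalizedFittingSubgroup G ≠ ⊥ := by
    intro h
    have h1 := centralizer_generalizedFittingSubgroup_le (G := G)
    rw [h] at h1
    have h2 : N₀ ≤ ⊥ := by
      intro n _
      apply h1
      rw [Subgroup.mem_centralizer_iff]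
      intro g hg
      have : g = 1 := by simpa using hg
      rw [this, one_mul, mul_one]
    exact hN₀ (le_bot_iff.mp h2)
  have hQn : (Cfsg.pCore p G).Normal := Cfsg.Agent.Helper11.ZJ.pCore_normal' p G
  have hfitQ : Cfsg.fittingSubgroup G ≤ Cfsg.pCore p G := fittingSubgroup_le_pCore hcore
  have hQfit : Cfsg.pCore p G ≤ Cfsg.fittingSubgroup G := pCore_le_fittingSubgroup p
  have hFN : Cfsg.generalizedFittingSubgroup G ≤ N₀ := by
    by_cases hQ : Cfsg.pCore p G = ⊥
    · have hF0 : Cfsg.fittingSubgroup G = ⊥ := by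
        rw [hQ] at hfitQ
        exact le_bot_iff.mp hfitQ
      unfold Cfsg.generalizedFittingSubgroup
      rw [hF0, sup_bot_eq]
      exact layer_le_of_pCore_eq_bot hcore N₀ hN₀n hN₀ hmin hQ
    · have hN₀Q : N₀ ≤ Cfsg.pCore p G := hmin _ hQn hQ
      have hE : Cfsg.layer G = ⊥ :=
        layer_eq_bot_of_le_pCore P hcore hfrat N₀ hN₀n hN₀ hmin hN₀Q
      have hFQ : Cfsg.generalizedFittingSubgroup G = Cfsg.pCore p G := by
        unfold Cfsg.generalizedFittingSubgroup
        rw [hE, bot_sup_eq]
        exact le_antisymm hfitQ hQfit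
      have hcent : Subgroup.centralizer (Cfsg.pCore p G : Set G) ≤ Cfsg.pCore p G := by
        have := centralizer_generalizedFittingSubgroup_le (G := G)
        rwa [hFQ] at this
      rw [hFQ]
      exact pCore_le_of_least P hna hgen hcore hfrat N₀ hN₀n hN₀ hmin hN₀Q hcent
  refine ⟨⟨hFne, fun K hK hKne => hFN.trans (hmin K hK hKne)⟩, ?_, ?_⟩
  · exact isCyclic_map_of_normal P hgen hcore hfrat _ hFne
  · intro hnc K L hK hL
    have hQ : Cfsg.pCore p G = ⊥ := by
      by_contra hQ
      apply hnc
      have hN₀Q : N₀ ≤ Cfsg.pCore p G := hmin _ hQn hQ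
      obtain ⟨hQc, _⟩ := pCore_elementary P hfrat
      exact ⟨⟨fun a b => Subtype.ext (hQc a (hN₀Q (hFN a.2)) b (hN₀Q (hFN b.2)))⟩⟩
    exact exists_conj_of_components P hna hgen hcore hQ hK hL

end Cfsg.Agent.S4172
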