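import Cfsg.Statements.S4176
import Mathlib
import Cfsg.Agent.Lib.Helper69.Averaging
import Cfsg.Agent.Lib.Helper69.PSolvSub
import Cfsg.Agent.S3744

set_option autoImplicit false
open Cfsg

namespace Cfsg.Agent.S4176

open Cfsg.Agent.Helper69

/-- Let k be a field of prime characteristic p, H a finite p-soluble group and ρ a k-linear representation of H on V. Let a be a vector that is fixed by some Sylow p-subgroup of H and whose H-orbit spans V. Then the space of H-fixed vectors has dimension at most 1, and every vector b whose H-orbit has size coprime to the size of the orbit of a is fixed by H. -/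
theorem result {k V H : Type*} [Field k] (p : ℕ) [Fact p.Prime] [CharP k p] [AddCommGroup V] [Module k V]
    [Group H] [Finite H] (hsol : Cfsg.IsPSolvable p H) (ρ : Representation k H V) (a : V)
    (hfix : ∃ P : Sylow p H, ∀ x : H, x ∈ (P : Subgroup H) → ρ x a = a)
    (hspan : Submodule.span k {u : V | ∃ h : H, ρ h a = u} = ⊤) :
    Module.finrank k ρ.invariants ≤ 1 ∧
    ∀ b : V, (Nat.card {u : V | ∃ h : H, ρ h a = u}).Coprime (Nat.card {u : V | ∃ h : H, ρ h b = u}) → ∀ h : H, ρ h b = b := by
  have hp : p.Prime := Fact.out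
  have hne : ∀ n : ℕ, ¬ p ∣ n → (n : k) ≠ 0 := by
    intro n hn h0
    exact hn ((CharP.cast_eq_zero_iff k p n).mp h0)
  obtain ⟨P, hP⟩ := hfix
  have hPA : (P : Subgroup H) ≤ fixer ρ a := fun x hx => (mem_fixer ρ a x).mpr (hP x hx)
  have hAp : ¬ p ∣ (fixer ρ a).index := by
    intro h
    exact P.not_dvd_index (dvd_trans h (Subgroup.index_dvd_of_le hPA))
  have hAcop : (fixer ρ a).index.Coprime p := by
    rw [Nat.coprime_comm]
    exact (Nat.Prime.coprime_iff_not_dvd hp).mpr hAp
  have hm : (Nat.card {u : V | ∃ h : H, ρ h a = u} : k) ≠ 0 := by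
    apply hne
    rw [card_orbit_eq_index]
    exact hAp
  have hcopne : ∀ n : ℕ, n.Coprime p → (n : k) ≠ 0 := by
    intro n hn
    apply hne
    intro hdvd
    have := Nat.Coprime.eq_one_of_dvd hn.symm hdvd
    exact hp.one_lt.ne' this
  constructor
  · obtain ⟨⟨Q, hQc, n, hQi⟩, -, -⟩ := Cfsg.Agent.S3744.result hsol
    refine (fixed_of_transitive' ρ a hspan hm Q (hcopne _ hQc) ?_).1
    intro h
    have hco : (fixer ρ a).index.Coprime Q.index := by
      rw [hQi]; exact Nat.Coprime.pow_right n hAcop
    obtain ⟨y, hy, x, hx, rfl⟩ := exists_mul_of_coprime_index (fixer ρ a) Q hco h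
    refine ⟨y, hy, ?_⟩
    rw [map_mul, Module.End.mul_apply, (mem_fixer ρ a x).mp hx]
  · intro b hco h
    rw [card_orbit_eq_index, card_orbit_eq_index] at hco
    set A := fixer ρ a with hA
    set B := fixer ρ b with hB
    have hrel : A.relIndex B = A.index := relIndex_eq_index_of_coprime A B hco
    have hsolB : IsPSolvable p ↥B := IsPSolvable.subgroup' hsol B
    obtain ⟨⟨Q', hQc, n, hQi⟩, -, -⟩ := Cfsg.Agent.S3744.result hsolB
    have hco' : (A.subgroupOf B).index.Coprime Q'.index := by
      have : (A.subgroupOf B).index = A.index := hrel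
      rw [this, hQi]; exact Nat.Coprime.pow_right n hAcop
    have hcardQ : Nat.card (Q'.map B.subtype) = Nat.card Q' :=
      Subgroup.card_map_of_injective B.subtype_injective
    refine (fixed_of_transitive' ρ a hspan hm (Q'.map B.subtype) ?_ ?_).2 b ?_ h
    · rw [hcardQ]; exact hcopne _ hQc
    · intro g
      obtain ⟨y, hy, x, hx, rfl⟩ := exists_mul_of_coprime_index A B hco g
      obtain ⟨q, hq, x', hx', hyq⟩ := exists_mul_of_coprime_index (A.subgroupOf B) Q' hco' ⟨y, hy⟩
      refine ⟨(q : H), ⟨q, hq, rfl⟩, ?_⟩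
      have hy' : y = (q : H) * (x' : H) := by
        have := congrArg (fun z : ↥B => (z : H)) hyq
        simpa using this
      rw [Subgroup.mem_subgroupOf] at hx'
      rw [map_mul, Module.End.mul_apply, (mem_fixer ρ a x).mp hx, hy', map_mul,
        Module.End.mul_apply, (mem_fixer ρ a _).mp hx']
    · intro y hy
      obtain ⟨q, _, rfl⟩ := hy
      exact (mem_fixer ρ b _).mp q.2

end Cfsg.Agent.S4176
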