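import Cfsg.Statements.S4177
import Mathlib
import Cfsg.Agent.Lib.Helper69.Averaging

set_option autoImplicit false
open Cfsg

namespace Cfsg.Agent.S4177

open Cfsg.Agent.Helper69

/-- Let k be a field whose characteristic does not divide the order of the finite group H (for instance a field of characteristic zero), and ρ a k-linear representation of H on V. Let a be a vector whose H-orbit spans V. Then the space of H-fixed vectors has dimension at most 1, and every vector b whose H-orbit has size coprime to the size of the orbit of a is fixed by H. -/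
theorem result {k V H : Type*} [Field k] [AddCommGroup V] [Module k V] [Group H] [Finite H]
    (hchar : ¬ ringChar k ∣ Nat.card H) (ρ : Representation k H V) (a : V)
    (hspan : Submodule.span k {u : V | ∃ h : H, ρ h a = u} = ⊤) :
    Module.finrank k ρ.invariants ≤ 1 ∧
    ∀ b : V, (Nat.card {u : V | ∃ h : H, ρ h a = u}).Coprime (Nat.card {u : V | ∃ h : H, ρ h b = u}) → ∀ h : H, ρ h b = b := by
  have hne : ∀ n : ℕ, n ∣ Nat.card H → (n : k) ≠ 0 := by
    intro n hn h0
    rw [ringChar.spec] at h0
    exact hchar (dvd_trans h0 hn)
  have hm : (Nat.card {u : V | ∃ h : H, ρ h a = u} : k) ≠ 0 := by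
    apply hne
    rw [card_orbit_eq_index]
    exact Subgroup.index_dvd_card _
  constructor
  · refine (fixed_of_transitive' ρ a hspan hm ⊤ ?_ ?_).1
    · apply hne
      rw [Subgroup.card_top]
    · intro h
      exact ⟨h, Subgroup.mem_top h, rfl⟩
  · intro b hco h
    rw [card_orbit_eq_index, card_orbit_eq_index] at hco
    refine (fixed_of_transitive' ρ a hspan hm (fixer ρ b) ?_ ?_).2 b ?_ h
    · apply hne
      exact Subgroup.card_subgroup_dvd_card _
    · intro g
      obtain ⟨y, hy, x, hx, rfl⟩ := exists_mul_of_coprime_index (fixer ρ a) (fixer ρ b) hco g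
      refine ⟨y, hy, ?_⟩
      rw [map_mul, Module.End.mul_apply, (mem_fixer ρ a x).mp hx]
    · intro y hy
      exact (mem_fixer ρ b y).mp hy

end Cfsg.Agent.S4177
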