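import Cfsg.Statements.S4178
import Mathlib
import Cfsg.Agent.S4154

set_option autoImplicit false
set_option linter.unusedSectionVars false
open Cfsg

namespace Cfsg.Agent.S4178

section

variable {F V : Type*} [Field F] [Fintype F] [AddCommGroup V] [Module F V] [FiniteDimensional F V]

/-- generic bound for the index of a subgroup via a map with prescribed fibres -/
theorem index_le_ncard {K T : Type*} [Group K] [Finite T] (S : Subgroup K) (f : K → T)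
    (hf : ∀ g h : K, f g = f h ↔ h * g⁻¹ ∈ S) (A : Set T) (hfA : ∀ h, f h ∈ A) :
    S.index ≤ A.ncard ∧ 0 < S.index := by
  have h1 := Cfsg.Agent.S4154.card_range_eq_index f S hf
  have h2 : (Set.range f).ncard ≤ A.ncard :=
    Set.ncard_le_ncard (by rintro _ ⟨h, rfl⟩; exact hfA h) (Set.toFinite A)
  rw [← h1, Nat.card_coe_set_eq]
  refine ⟨h2, ?_⟩
  rw [Set.ncard_pos (Set.toFinite _)]
  exact ⟨f 1, ⟨1, rfl⟩⟩

theorem ncard_ne_zero (U : Submodule F V) :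
    {x : V | x ∈ U ∧ x ≠ 0}.ncard = Fintype.card F ^ Module.finrank F U - 1 := by
  haveI : Finite V := Module.finite_of_finite F
  have h1 : {x : V | x ∈ U ∧ x ≠ 0} = (U : Set V) \ {0} := by
    ext x; simp
  rw [h1, Set.ncard_sdiff_singleton_of_mem (U.zero_mem)]
  congr 1
  rw [← Nat.card_coe_set_eq]
  have := Module.natCard_eq_pow_finrank (K := F) (V := U)
  rw [Nat.card_eq_fintype_card (α := F)] at this
  exact this

theorem ncard_quot_ne_zero (W : Submodule F V) :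
    {x : V ⧸ W | x ≠ 0}.ncard = Fintype.card F ^ Module.finrank F (V ⧸ W) - 1 := by
  haveI : Finite V := Module.finite_of_finite F
  have h1 : {x : V ⧸ W | x ≠ 0} = (Set.univ : Set (V ⧸ W)) \ {0} := by
    ext x; simp
  rw [h1, Set.ncard_sdiff_singleton_of_mem (Set.mem_univ _), Set.ncard_univ]
  congr 1
  have := Module.natCard_eq_pow_finrank (K := F) (V := V ⧸ W)
  rw [Nat.card_eq_fintype_card (α := F)] at this
  exact this

variable (H : Subgroup (V ≃ₗ[F] V))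

/-- the subgroup generated by elements with eigenvalue one -/
abbrev R : Subgroup ↥H :=
  Subgroup.closure {h : ↥H | ∃ v : V, v ≠ 0 ∧ (h : V ≃ₗ[F] V) v = v}

/-- orbit bound inside an invariant subspace -/
theorem index_le_of_mem (U : Submodule F V) (hU : ∀ h ∈ H, ∀ w ∈ U, h w ∈ U) (v : V) (hv : v ∈ U)
    (hv0 : v ≠ 0) : (R H).index ≤ Fintype.card F ^ Module.finrank F U - 1 := by
  haveI : Finite V := Module.finite_of_finite F
  let S : Subgroup ↥H := (MulAction.stabilizer (V ≃ₗ[F] V) v).subgroupOf H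
  have hmemS : ∀ h : ↥H, h ∈ S ↔ (h : V ≃ₗ[F] V) v = v := by
    intro h
    rw [Subgroup.mem_subgroupOf, MulAction.mem_stabilizer_iff, LinearEquiv.smul_def]
  have hSR : S ≤ R H := by
    intro h hh
    exact Subgroup.subset_closure ⟨v, hv0, (hmemS h).mp hh⟩
  let f : ↥H → V := fun h => ((h⁻¹ : ↥H) : V ≃ₗ[F] V) v
  have hf : ∀ g h : ↥H, f g = f h ↔ h * g⁻¹ ∈ S := by
    intro g h
    rw [hmemS]
    simp only [f]
    constructor
    · intro e
      have : ((h * g⁻¹ : ↥H) : V ≃ₗ[F] V) v = (h : V ≃ₗ[F] V) (((g⁻¹ : ↥H) : V ≃ₗ[F] V) v) := rfl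
      rw [this, e]
      have : (h : V ≃ₗ[F] V) (((h⁻¹ : ↥H) : V ≃ₗ[F] V) v) = ((h * h⁻¹ : ↥H) : V ≃ₗ[F] V) v := rfl
      rw [this, mul_inv_cancel]; rfl
    · intro e
      have h1 : ((h * g⁻¹ : ↥H) : V ≃ₗ[F] V) v = (h : V ≃ₗ[F] V) (((g⁻¹ : ↥H) : V ≃ₗ[F] V) v) := rfl
      rw [h1] at e
      have h2 : ((h⁻¹ : ↥H) : V ≃ₗ[F] V) ((h : V ≃ₗ[F] V) (((g⁻¹ : ↥H) : V ≃ₗ[F] V) v))
          = ((h⁻¹ * h : ↥H) : V ≃ₗ[F] V) (((g⁻¹ : ↥H) : V ≃ₗ[F] V) v) := rfl
      have h3 := congrArg (((h⁻¹ : ↥H) : V ≃ₗ[F] V)) e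
      rw [h2, inv_mul_cancel] at h3
      exact h3
  have hfA : ∀ h, f h ∈ {x : V | x ∈ U ∧ x ≠ 0} := by
    intro h
    refine ⟨hU _ (h⁻¹ : ↥H).2 v hv, ?_⟩
    simp only [f]
    intro h0
    apply hv0
    exact (LinearEquiv.map_eq_zero_iff _).mp h0
  obtain ⟨h1, h2⟩ := index_le_ncard S f hf _ hfA
  rw [ncard_ne_zero] at h1
  exact (Nat.le_of_dvd h2 (Subgroup.index_dvd_of_le hSR)).trans h1


/-- the stabilizer of the coset `v + W` -/
def cosetStab (W : Submodule F V) (hW : ∀ h ∈ H, ∀ w ∈ W, h w ∈ W) (v : V) : Subgroup ↥H where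
  carrier := {h | (h : V ≃ₗ[F] V) v - v ∈ W}
  one_mem' := by
    show ((1 : ↥H) : V ≃ₗ[F] V) v - v ∈ W
    have : ((1 : ↥H) : V ≃ₗ[F] V) v = v := rfl
    rw [this, sub_self]; exact W.zero_mem
  mul_mem' := by
    intro a b ha hb
    show ((a * b : ↥H) : V ≃ₗ[F] V) v - v ∈ W
    have h1 : ((a * b : ↥H) : V ≃ₗ[F] V) v = (a : V ≃ₗ[F] V) ((b : V ≃ₗ[F] V) v) := rfl
    have h2 : (a : V ≃ₗ[F] V) ((b : V ≃ₗ[F] V) v) - v
        = (a : V ≃ₗ[F] V) ((b : V ≃ₗ[F] V) v - v) + ((a : V ≃ₗ[F] V) v - v) := by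
      rw [map_sub]; abel
    rw [h1, h2]
    exact W.add_mem (hW _ a.2 _ hb) ha
  inv_mem' := by
    intro a ha
    show ((a⁻¹ : ↥H) : V ≃ₗ[F] V) v - v ∈ W
    have h1 : ((a⁻¹ : ↥H) : V ≃ₗ[F] V) ((a : V ≃ₗ[F] V) v) = ((a⁻¹ * a : ↥H) : V ≃ₗ[F] V) v := rfl
    have h2 : ((a⁻¹ : ↥H) : V ≃ₗ[F] V) v - v
        = - (((a⁻¹ : ↥H) : V ≃ₗ[F] V) ((a : V ≃ₗ[F] V) v - v)) := by
      rw [map_sub, h1, inv_mul_cancel]
      have : ((1 : ↥H) : V ≃ₗ[F] V) v = v := rfl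
      rw [this]; abel
    rw [h2]
    exact W.neg_mem (hW _ (a⁻¹ : ↥H).2 _ ha)

theorem mem_cosetStab (W : Submodule F V) (hW : ∀ h ∈ H, ∀ w ∈ W, h w ∈ W) (v : V) (h : ↥H) :
    h ∈ cosetStab H W hW v ↔ (h : V ≃ₗ[F] V) v - v ∈ W := Iff.rfl

theorem cosetStab_le (W : Submodule F V) (hW : ∀ h ∈ H, ∀ w ∈ W, h w ∈ W) (v : V) (hv : v ∉ W) :
    cosetStab H W hW v ≤ R H := by
  intro h hh
  rw [mem_cosetStab] at hh
  by_contra hR
  have hfix : ∀ x : V, (h : V ≃ₗ[F] V) x = x → x = 0 := by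
    intro x hx
    by_contra hx0
    exact hR (Subgroup.subset_closure ⟨x, hx0, hx⟩)
  let T : V →ₗ[F] V := ((h : V ≃ₗ[F] V) : V →ₗ[F] V) - LinearMap.id
  have hT : ∀ x, T x = (h : V ≃ₗ[F] V) x - x := fun x => rfl
  have hTinj : Function.Injective T := by
    rw [← LinearMap.ker_eq_bot, LinearMap.ker_eq_bot']
    intro x hx
    rw [hT, sub_eq_zero] at hx
    exact hfix x hx
  have hTW : ∀ w ∈ W, T w ∈ W := by
    intro w hw
    rw [hT]
    exact W.sub_mem (hW _ h.2 w hw) hw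
  have hTr_inj : Function.Injective (T.restrict hTW) := by
    intro a b hab
    apply Subtype.ext
    apply hTinj
    exact congrArg Subtype.val hab
  have hTr_surj : Function.Surjective (T.restrict hTW) :=
    LinearMap.injective_iff_surjective.mp hTr_inj
  obtain ⟨w, hw⟩ := hTr_surj ⟨T v, by rw [hT]; exact hh⟩
  have h1 : T (w : V) = T v := congrArg Subtype.val hw
  have h2 : (w : V) = v := hTinj h1
  exact hv (h2 ▸ w.2)

/-- orbit bound on the quotient by an invariant subspace -/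
theorem index_le_of_notMem (W : Submodule F V) (hW : ∀ h ∈ H, ∀ w ∈ W, h w ∈ W) (v : V)
    (hv : v ∉ W) : (R H).index ≤ Fintype.card F ^ Module.finrank F (V ⧸ W) - 1 := by
  haveI : Finite V := Module.finite_of_finite F
  let f : ↥H → V ⧸ W := fun h => Submodule.Quotient.mk (((h⁻¹ : ↥H) : V ≃ₗ[F] V) v)
  have hf : ∀ g h : ↥H, f g = f h ↔ h * g⁻¹ ∈ cosetStab H W hW v := by
    intro g h
    rw [mem_cosetStab]
    simp only [f]
    rw [Submodule.Quotient.eq]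
    have h1 : ((h * g⁻¹ : ↥H) : V ≃ₗ[F] V) v - v
        = (h : V ≃ₗ[F] V) (((g⁻¹ : ↥H) : V ≃ₗ[F] V) v - ((h⁻¹ : ↥H) : V ≃ₗ[F] V) v) := by
      rw [map_sub]
      have e1 : (h : V ≃ₗ[F] V) (((h⁻¹ : ↥H) : V ≃ₗ[F] V) v) = ((h * h⁻¹ : ↥H) : V ≃ₗ[F] V) v := rfl
      have e2 : ((1 : ↥H) : V ≃ₗ[F] V) v = v := rfl
      rw [e1, mul_inv_cancel, e2]
      rfl
    constructor
    · intro e
      rw [h1]
      exact hW _ h.2 _ e
    · intro e
      rw [h1] at e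
      have h2 := hW _ (h⁻¹ : ↥H).2 _ e
      have e3 : ∀ y : V, ((h⁻¹ : ↥H) : V ≃ₗ[F] V) ((h : V ≃ₗ[F] V) y) = y := by
        intro y
        have : ((h⁻¹ : ↥H) : V ≃ₗ[F] V) ((h : V ≃ₗ[F] V) y) = ((h⁻¹ * h : ↥H) : V ≃ₗ[F] V) y := rfl
        rw [this, inv_mul_cancel]; rfl
      rwa [e3] at h2
  have hfA : ∀ h, f h ∈ {x : V ⧸ W | x ≠ 0} := by
    intro h
    simp only [f, Set.mem_setOf_eq, ne_eq, Submodule.Quotient.mk_eq_zero]
    intro h0
    apply hv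
    have h2 := hW _ h.2 _ h0
    have : (h : V ≃ₗ[F] V) (((h⁻¹ : ↥H) : V ≃ₗ[F] V) v) = ((h * h⁻¹ : ↥H) : V ≃ₗ[F] V) v := rfl
    rw [this, mul_inv_cancel] at h2
    exact h2
  haveI : Finite (V ⧸ W) := Module.finite_of_finite F
  obtain ⟨h1, h2⟩ := index_le_ncard (cosetStab H W hW v) f hf _ hfA
  rw [ncard_quot_ne_zero] at h1
  exact (Nat.le_of_dvd h2 (Subgroup.index_dvd_of_le (cosetStab_le H W hW v hv))).trans h1


end

theorem real_bound (q d n k : ℕ) (hq : 1 ≤ q) (hk : 2 * k ≤ d) (hn : n ≤ q ^ k - 1) :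
    (n : ℝ) ≤ Real.sqrt ((q : ℝ) ^ d) - 1 := by
  have h1 : 1 ≤ q ^ k := Nat.one_le_pow _ _ hq
  have h2 : (n : ℝ) ≤ (q : ℝ) ^ k - 1 := by
    have : ((q ^ k - 1 : ℕ) : ℝ) = (q : ℝ) ^ k - 1 := by
      rw [Nat.cast_sub h1, Nat.cast_pow, Nat.cast_one]
    rw [← this]
    exact_mod_cast hn
  have hq' : (1 : ℝ) ≤ (q : ℝ) := by exact_mod_cast hq
  have h3 : (q : ℝ) ^ k ≤ Real.sqrt ((q : ℝ) ^ d) := by
    apply Real.le_sqrt_of_sq_le
    rw [← pow_mul]
    exact pow_le_pow_right₀ hq' (by omega)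
  linarith

/-- Let F be a finite field with q elements, V a non-zero finite-dimensional F-space of dimension d, H a group of invertible linear maps of V, and R the subgroup of H generated by the elements of H that fix some non-zero vector (have eigenvalue 1). Then the index of R in H is at most q^d − 1; and if H leaves invariant some proper non-zero subspace, the index is at most q^(d/2) − 1. -/
theorem result {F V : Type*} [Field F] [Fintype F] [AddCommGroup V] [Module F V] [FiniteDimensional F V] [Nontrivial V]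
    (H : Subgroup (V ≃ₗ[F] V)) :
    (Subgroup.closure {h : ↥H | ∃ v : V, v ≠ 0 ∧ (h : V ≃ₗ[F] V) v = v}).index ≤ Fintype.card F ^ Module.finrank F V - 1 ∧
    ((∃ W : Submodule F V, W ≠ ⊥ ∧ W ≠ ⊤ ∧ ∀ h ∈ H, ∀ w ∈ W, h w ∈ W) →
      ((Subgroup.closure {h : ↥H | ∃ v : V, v ≠ 0 ∧ (h : V ≃ₗ[F] V) v = v}).index : ℝ) ≤ Real.sqrt ((Fintype.card F : ℝ) ^ Module.finrank F V) - 1) := by
  constructor
  · obtain ⟨v, hv0⟩ := exists_ne (0 : V)
    have := index_le_of_mem H ⊤ (fun _ _ _ _ => Submodule.mem_top) v Submodule.mem_top hv0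
    rwa [finrank_top] at this
  · rintro ⟨W, hW0, hW1, hW⟩
    have hq : 1 ≤ Fintype.card F := Fintype.card_pos
    have hsum := Submodule.finrank_quotient_add_finrank W
    by_cases hcase : 2 * Module.finrank F W ≤ Module.finrank F V
    · obtain ⟨v, hvW, hv0⟩ := Submodule.exists_mem_ne_zero_of_ne_bot hW0
      exact real_bound _ _ _ _ hq hcase (index_le_of_mem H W hW v hvW hv0)
    · have : ∃ v : V, v ∉ W := by
        by_contra hall
        push Not at hall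
        exact hW1 (eq_top_iff.mpr fun x _ => hall x)
      obtain ⟨v, hv⟩ := this
      exact real_bound _ _ _ _ hq (by omega) (index_le_of_notMem H W hW v hv)

end Cfsg.Agent.S4178
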