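import Cfsg.Statements.S4186
import Mathlib

set_option autoImplicit false
open Cfsg

namespace Cfsg.Agent.S4186

/-- Let T and X be subgroups of a group with T a finite 2-group normalizing X but not centralizing it. Then some element of T inverts some non-identity element of X under conjugation. -/
theorem result {G : Type*} [Group G] (T X : Subgroup G) [Finite ↥T] (hT : IsPGroup 2 ↥T) (hTN : T ≤ Subgroup.normalizer (X : Set G)) (hTC : ¬ T ≤ Subgroup.centralizer (X : Set G)) : ∃ t ∈ T, ∃ x ∈ X, x ≠ 1 ∧ t * x * t⁻¹ = x⁻¹ := by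
  classical
  obtain ⟨t, htT, htC⟩ := SetLike.not_le_iff_exists.mp hTC
  obtain ⟨k, hk⟩ := hT ⟨t, htT⟩
  have hk' : t ^ (2 ^ k) = 1 := by
    have := congrArg Subtype.val hk
    simpa using this
  have hex : ∃ j : ℕ, t ^ (2 ^ j) ∈ Subgroup.centralizer (X : Set G) :=
    ⟨k, by rw [hk']; exact one_mem _⟩
  have hj0 : Nat.find hex ≠ 0 := by
    intro h0
    have := Nat.find_spec hex
    rw [h0] at this
    simp at this
    exact htC this
  obtain ⟨j, hj⟩ := Nat.exists_eq_succ_of_ne_zero hj0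
  obtain ⟨s, hs⟩ : ∃ s : G, s = t ^ (2 ^ j) := ⟨_, rfl⟩
  have hsT : s ∈ T := hs ▸ pow_mem htT _
  have hsC : s ∉ Subgroup.centralizer (X : Set G) := by
    have := Nat.find_min hex (m := j) (by omega)
    rw [hs]; exact this
  have hs2 : s ^ 2 ∈ Subgroup.centralizer (X : Set G) := by
    have := Nat.find_spec hex
    rw [hj, Nat.succ_eq_add_one, pow_succ, pow_mul] at this
    rw [hs]; exact this
  rw [Subgroup.mem_centralizer_iff] at hsC
  push Not at hsC
  obtain ⟨y, hyX, hy⟩ := hsC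
  have hsN := hTN hsT
  rw [Subgroup.mem_normalizer_iff] at hsN
  have hy' : s * y * s⁻¹ ∈ X := (hsN y).mp hyX
  refine ⟨s, hsT, y⁻¹ * (s * y * s⁻¹), X.mul_mem (X.inv_mem hyX) hy', ?_, ?_⟩
  · intro h
    apply hy
    have h1 : s * y * s⁻¹ = y := by
      have := congrArg (fun z => y * z) h
      simpa using this
    calc y * s = (s * y * s⁻¹) * s := by rw [h1]
      _ = s * y := by group
  · rw [Subgroup.mem_centralizer_iff] at hs2
    have h2 := hs2 y hyX
    -- y * s^2 = s^2 * y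
    rw [pow_two] at h2
    have h3 : s * (s * y * s⁻¹) * s⁻¹ = y := by
      have : s * (s * y * s⁻¹) * s⁻¹ = (s * s * y) * (s * s)⁻¹ := by group
      rw [this, ← h2]
      group
    calc s * (y⁻¹ * (s * y * s⁻¹)) * s⁻¹
        = (s * y * s⁻¹)⁻¹ * (s * (s * y * s⁻¹) * s⁻¹) := by group
      _ = (s * y * s⁻¹)⁻¹ * y := by rw [h3]
      _ = (y⁻¹ * (s * y * s⁻¹))⁻¹ := by group

end Cfsg.Agent.S4186
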