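import Cfsg.Statements.S4188
import Mathlib
import Cfsg.Agent.Lib.Helper62.TwoRankF

set_option autoImplicit false
open Cfsg

namespace Cfsg.Agent.S4188

open Cfsg.Agent.Helper62.TwoRank

/-- The abstract form: a faithful conjugation action gives the bound. -/
theorem bound_of_action {N P : Type*} [CommGroup N] [Finite N] [Group P] [Finite P] (q n : ℕ)
    [hq : Fact q.Prime] (hq2 : q ≠ 2) (hn : 1 ≤ n) (φ : P →* MulAut N)
    (hexp : ∀ v : N, v ^ q = 1) (hcard : Nat.card N = q ^ n) (hinj : Function.Injective φ)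
    (hP : IsPGroup 2 P) : (frattini P).index ≤ Nat.card N - 1 := by
  have h1 := boundAt_all q hq2 n N P φ hexp hcard hinj hP
  have h2 := two_pow_bnd_lt q n hq.out hq2 hn
  unfold fidx at h1
  rw [hcard]
  omega

/-- Let G be a finite group that is the semidirect product of a normal abelian subgroup N of odd order by a 2-subgroup P, and suppose N is the unique minimal normal subgroup of G. Then the index of the Frattini subgroup of P in P is at most #N − 1. -/
theorem result {G : Type*} [Group G] [Finite G] (N P : Subgroup G) (hN : N.Normal) (hNab : IsMulCommutative ↥N) (hNodd : Odd (Nat.card ↥N)) (hP : IsPGroup 2 ↥P) (hdisj : N ⊓ P = ⊥) (hprod : N ⊔ P = ⊤) (hmin : N ≠ ⊥ ∧ ∀ M : Subgroup G, M.Normal → M ≠ ⊥ → N ≤ M) : (frattini ↥P).index ≤ Nat.card ↥N - 1 := by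
  obtain ⟨hN1, hmin⟩ := hmin
  have hcomm : ∀ a ∈ N, ∀ b ∈ N, a * b = b * a := fun a ha b hb => by
    have := hNab.is_comm.comm (⟨a, ha⟩ : N) ⟨b, hb⟩
    exact congrArg Subtype.val this
  have hNcard : Nat.card N ≠ 1 := fun h => hN1 (Subgroup.card_eq_one.mp h)
  obtain ⟨q, hq, hqN⟩ := Nat.exists_prime_and_dvd hNcard
  have hqf : Fact q.Prime := ⟨hq⟩
  have hq2 : q ≠ 2 := by
    rintro rfl
    exact (Nat.not_even_iff_odd.mpr hNodd) (even_iff_two_dvd.mpr hqN)
  -- the elements of order dividing `q`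
  let Ω : Subgroup G :=
    { carrier := {a | a ∈ N ∧ a ^ q = 1}
      mul_mem' := by
        rintro a b ⟨ha, ha2⟩ ⟨hb, hb2⟩
        refine ⟨N.mul_mem ha hb, ?_⟩
        rw [(show Commute a b from hcomm a ha b hb).mul_pow, ha2, hb2, one_mul]
      one_mem' := ⟨N.one_mem, one_pow q⟩
      inv_mem' := by
        rintro a ⟨ha, ha2⟩
        exact ⟨N.inv_mem ha, by rw [inv_pow, ha2, inv_one]⟩ }
  have hmemΩ : ∀ a : G, a ∈ Ω ↔ a ∈ N ∧ a ^ q = 1 := fun a => Iff.rfl
  have hΩn : Ω.Normal := by
    refine ⟨fun a ha g => ?_⟩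
    rw [hmemΩ] at ha ⊢
    refine ⟨hN.conj_mem a ha.1 g, ?_⟩
    rw [conj_pow, ha.2]; group
  have hΩne : Ω ≠ ⊥ := by
    obtain ⟨x, hx⟩ := exists_prime_orderOf_dvd_card' (G := N) q hqN
    intro h
    have hxΩ : (x : G) ∈ Ω := by
      rw [hmemΩ]
      refine ⟨x.2, ?_⟩
      have : x ^ q = 1 := by rw [← hx]; exact pow_orderOf_eq_one x
      have := congrArg Subtype.val this
      simpa using this
    rw [h, Subgroup.mem_bot] at hxΩ
    have : x = 1 := Subtype.ext hxΩ
    rw [this, orderOf_one] at hx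
    exact hq.one_lt.ne hx
  have hNΩ : N ≤ Ω := hmin Ω hΩn hΩne
  have hexp : ∀ a ∈ N, a ^ q = 1 := fun a ha => (hNΩ ha).2
  have hNp : IsPGroup q N := fun x => ⟨1, by
    rw [pow_one]
    exact Subtype.ext (by simpa using hexp x x.2)⟩
  obtain ⟨n, hn⟩ := IsPGroup.iff_card.mp hNp
  have hn0 : 1 ≤ n := by
    rcases Nat.eq_zero_or_pos n with h | h
    · exfalso
      rw [h, pow_zero] at hn
      exact hNcard hn
    · exact h
  -- the action
  have hinj : Function.Injective ((MulAut.conjNormal (H := N)).comp P.subtype) := by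
    rw [injective_iff_map_eq_one]
    intro x hx
    have hxc : ∀ a ∈ N, a * (x : G) = x * a := by
      intro a ha
      have := congrArg (fun f : MulAut N => ((f ⟨a, ha⟩ : N) : G)) hx
      simp only [MonoidHom.comp_apply, Subgroup.coe_subtype, MulAut.conjNormal_apply,
        MulAut.one_apply] at this
      calc a * (x : G) = ((x : G) * a * (x : G)⁻¹) * x := by rw [this]
        _ = x * a := by group
    by_contra hx1
    have hCn : (Subgroup.centralizer (N : Set G)).Normal := Subgroup.normal_centralizer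
    have hKn : (P ⊓ Subgroup.centralizer (N : Set G)).Normal := by
      refine ⟨fun k hk g => ?_⟩
      have hg : g ∈ N ⊔ P := by rw [hprod]; exact Subgroup.mem_top g
      obtain ⟨a, ha, p, hp, rfl⟩ := Subgroup.mem_sup_of_normal_left.mp hg
      have hk' : p * k * p⁻¹ ∈ P ⊓ Subgroup.centralizer (N : Set G) :=
        ⟨P.mul_mem (P.mul_mem hp hk.1) (P.inv_mem hp), hCn.conj_mem k hk.2 p⟩
      have hcen : a * (p * k * p⁻¹) = (p * k * p⁻¹) * a :=
        (Subgroup.mem_centralizer_iff.mp hk'.2) a ha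
      have : a * p * k * (a * p)⁻¹ = p * k * p⁻¹ := by
        calc a * p * k * (a * p)⁻¹ = (a * (p * k * p⁻¹)) * a⁻¹ := by group
          _ = p * k * p⁻¹ := by rw [hcen]; group
      rw [this]
      exact hk'
    have hKne : P ⊓ Subgroup.centralizer (N : Set G) ≠ ⊥ := by
      intro h
      have hxK : (x : G) ∈ P ⊓ Subgroup.centralizer (N : Set G) :=
        ⟨x.2, Subgroup.mem_centralizer_iff.mpr (fun a ha => hxc a ha)⟩
      rw [h, Subgroup.mem_bot] at hxK
      exact hx1 (Subtype.ext hxK)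
    have hNK : N ≤ P ⊓ Subgroup.centralizer (N : Set G) := hmin _ hKn hKne
    have hNle : N ≤ N ⊓ P := le_inf le_rfl (hNK.trans inf_le_left)
    rw [hdisj] at hNle
    exact hN1 (le_bot_iff.mp hNle)
  let instN : CommGroup ↥N :=
    { (inferInstance : Group ↥N) with
      mul_comm := fun a b => Subtype.ext (hcomm a a.2 b b.2) }
  exact bound_of_action q n hq2 hn0 ((MulAut.conjNormal (H := N)).comp P.subtype)
    (fun v => Subtype.ext (by simpa using hexp v v.2)) hn hinj hP

end Cfsg.Agent.S4188
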