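import Cfsg.Statements.S4194
import Cfsg.Agent.Lib.Helper70.CamHerC

set_option autoImplicit false
open Cfsg

namespace Cfsg.Agent.S4194

/-- A finite group G has commutative Sylow 2-subgroups if and only if every 2-element of G (element of order a power of 2) is 2-central, that is, its centralizer contains a Sylow 2-subgroup of G. -/
theorem result {G : Type*} [Group G] [Finite G] (P : Sylow 2 G) :
    IsMulCommutative (P : Subgroup G) ↔ ∀ x : G, (∃ k : ℕ, orderOf x = 2 ^ k) → (∃ Q : Sylow 2 G, (Q : Subgroup G) ≤ Subgroup.centralizer ({x} : Set G)) := by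
  classical
  haveI : Fact (Nat.Prime 2) := ⟨Nat.prime_two⟩
  constructor
  · intro hcomm x hx
    obtain ⟨k, hk⟩ := hx
    have hp : IsPGroup 2 (Subgroup.zpowers x) := by
      apply IsPGroup.of_card (n := k)
      rw [Nat.card_zpowers, hk]
    obtain ⟨Q, hQ⟩ := hp.exists_le_sylow
    refine ⟨Q, ?_⟩
    obtain ⟨g, hg⟩ := MulAction.exists_smul_eq G P Q
    have hxQ : x ∈ (Q : Subgroup G) := hQ (Subgroup.mem_zpowers x)
    have hmem : ∀ {q : G}, q ∈ (Q : Subgroup G) → g⁻¹ * q * g ∈ (P : Subgroup G) := by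
      intro q hq
      rw [← hg, Sylow.coe_subgroup_smul, Subgroup.mem_pointwise_smul_iff_inv_smul_mem] at hq
      have e : (MulAut.conj g)⁻¹ • q = g⁻¹ * q * g := by
        rw [← map_inv]; simp [MulAut.smul_def, MulAut.conj_apply]
      rwa [e] at hq
    intro q hq
    rw [Cfsg.Agent.Helper70.CamHer.mem_cent_singleton]
    have h1 := hmem hxQ
    have h2 := hmem hq
    have h3 : (⟨g⁻¹ * x * g, h1⟩ : (P : Subgroup G)) * ⟨g⁻¹ * q * g, h2⟩
        = ⟨g⁻¹ * q * g, h2⟩ * ⟨g⁻¹ * x * g, h1⟩ := hcomm.is_comm.comm _ _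
    have h4 : (g⁻¹ * x * g) * (g⁻¹ * q * g) = (g⁻¹ * q * g) * (g⁻¹ * x * g) :=
      congrArg Subtype.val h3
    calc x * q = g * ((g⁻¹ * x * g) * (g⁻¹ * q * g)) * g⁻¹ := by group
      _ = g * ((g⁻¹ * q * g) * (g⁻¹ * x * g)) * g⁻¹ := by rw [h4]
      _ = q * x := by group
  · intro h
    have hH : Cfsg.Agent.Helper70.CamHer.HH G := by
      intro x hx
      obtain ⟨Q, hQ⟩ := h x hx
      intro hdvd
      exact Q.not_dvd_index (dvd_trans hdvd (Subgroup.index_dvd_of_le hQ))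
    have hm := Cfsg.Agent.Helper70.CamHer.main hH P
    exact ⟨⟨fun a b => Subtype.ext (hm a.1 a.2 b.1 b.2)⟩⟩

end Cfsg.Agent.S4194
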