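import Cfsg.Statements.S4195
import Mathlib

set_option autoImplicit false
open Cfsg

namespace Cfsg.Agent.S4195

/-- If `x ≠ x⁻¹` is conjugate to its inverse then its class size is even. -/
theorem two_dvd_index_of_isConj_inv {G : Type*} [Group G] (x : G) (hxx : x ≠ x⁻¹)
    (hreal : IsConj x x⁻¹) : 2 ∣ (Subgroup.centralizer ({x} : Set G)).index := by
  obtain ⟨c, hc⟩ := isConj_iff.mp hreal
  obtain ⟨C, hC⟩ : ∃ C : Subgroup G, C = Subgroup.centralizer ({x} : Set G) := ⟨_, rfl⟩
  obtain ⟨N, hN⟩ : ∃ N : Subgroup G, N = Subgroup.normalizer ({x, x⁻¹} : Set G) := ⟨_, rfl⟩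
  have hmemC : ∀ g : G, g ∈ C ↔ g * x * g⁻¹ = x := by
    intro g
    rw [hC, Subgroup.mem_centralizer_iff]
    constructor
    · intro h
      rw [← h x rfl]; group
    · intro h y hy
      rw [Set.mem_singleton_iff] at hy
      rw [hy]
      nth_rewrite 1 [← h]
      group
  have hmemN : ∀ g : G, g ∈ N → g * x * g⁻¹ = x ∨ g * x * g⁻¹ = x⁻¹ := by
    intro g hg
    rw [hN, Subgroup.mem_set_normalizer_iff] at hg
    have := (hg x).mp (by simp)
    simpa using this
  have hconjinv : ∀ g : G, g * x⁻¹ * g⁻¹ = (g * x * g⁻¹)⁻¹ := by intro g; group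
  have hCN : C ≤ N := by
    intro g hg
    rw [hN, Subgroup.mem_normalizer_iff_conj_image_eq, Set.image_pair]
    simp only [MulAut.conj_apply]
    rw [hconjinv, (hmemC g).mp hg]
  have hcN : c ∈ N := by
    rw [hN, Subgroup.mem_normalizer_iff_conj_image_eq, Set.image_pair]
    simp only [MulAut.conj_apply]
    rw [hconjinv, hc, inv_inv, Set.pair_comm]
  have hidx : (C.subgroupOf N).index = 2 := by
    rw [Subgroup.index_eq_two_iff]
    refine ⟨⟨c, hcN⟩, fun b => ?_⟩
    rw [Subgroup.mem_subgroupOf, Subgroup.mem_subgroupOf, hmemC, hmemC]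
    have hb := hmemN b b.2
    have hbc : ((b * ⟨c, hcN⟩ : ↥N) : G) * x * ((b * ⟨c, hcN⟩ : ↥N) : G)⁻¹
        = ((b : G) * x * (b : G)⁻¹)⁻¹ := by
      have : ((b * ⟨c, hcN⟩ : ↥N) : G) = (b : G) * c := rfl
      rw [this]
      calc (b : G) * c * x * ((b : G) * c)⁻¹ = (b : G) * (c * x * c⁻¹) * (b : G)⁻¹ := by group
        _ = (b : G) * x⁻¹ * (b : G)⁻¹ := by rw [hc]
        _ = _ := hconjinv _
    rw [hbc]
    rcases hb with hb | hb
    · rw [hb]
      right
      exact ⟨rfl, fun h => hxx h.symm⟩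
    · rw [hb, inv_inv]
      left
      exact ⟨rfl, fun h => hxx h.symm⟩
  have h1 : C.relIndex N * N.index = C.index := Subgroup.relIndex_mul_index hCN
  have h2 : C.relIndex N = 2 := hidx
  rw [← hC, ← h1, h2]
  exact dvd_mul_right 2 _

/-- Let x be a non-identity element of a finite group G whose centralizer contains a Sylow 2-subgroup of G. If x is conjugate to its inverse, then x has order 2. -/
theorem result {G : Type*} [Group G] [Finite G] (x : G) (hx : x ≠ 1) (P : Sylow 2 G) (hP : (P : Subgroup G) ≤ Subgroup.centralizer ({x} : Set G)) (hreal : IsConj x x⁻¹) : orderOf x = 2 := by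
  have hf : Fact (Nat.Prime 2) := ⟨Nat.prime_two⟩
  by_contra hne
  have hxx : x ≠ x⁻¹ := by
    intro h
    apply hne
    have h2 : x ^ 2 = 1 := by
      rw [pow_two]
      nth_rewrite 2 [h]
      exact mul_inv_cancel x
    exact orderOf_eq_prime h2 hx
  have h2 := two_dvd_index_of_isConj_inv x hxx hreal
  exact P.not_dvd_index (dvd_trans h2 (Subgroup.index_dvd_of_le hP))

end Cfsg.Agent.S4195
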