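import Cfsg.Statements.S4196
import Mathlib
import Cfsg.Agent.S4195

set_option autoImplicit false
open Cfsg

namespace Cfsg.Agent.S4196

/-- A finite group G has elementary abelian Sylow 2-subgroups (commutative with every element squaring to the identity) if and only if every 2-element of G has a Sylow 2-subgroup in its centralizer and is conjugate to its inverse. -/
theorem result {G : Type*} [Group G] [Finite G] (P : Sylow 2 G) :
    (IsMulCommutative (P : Subgroup G) ∧ ∀ x ∈ (P : Subgroup G), x ^ 2 = 1) ↔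
      ∀ x : G, (∃ k : ℕ, orderOf x = 2 ^ k) → (∃ Q : Sylow 2 G, (Q : Subgroup G) ≤ Subgroup.centralizer ({x} : Set G)) ∧ IsConj x x⁻¹ := by
  have hf : Fact (Nat.Prime 2) := ⟨Nat.prime_two⟩
  constructor
  · rintro ⟨hcomm, hexp⟩ x ⟨k, hk⟩
    have hcomm' := isMulCommutative_iff.mp hcomm
    have hxp : IsPGroup 2 ↥(Subgroup.zpowers x) := by
      apply IsPGroup.of_card (n := k)
      rw [Nat.card_zpowers, hk]
    obtain ⟨Q', hQ'⟩ := hxp.exists_le_sylow
    obtain ⟨g, hg⟩ := MulAction.exists_smul_eq G P Q'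
    have hxQ : x ∈ ((g • P : Sylow 2 G) : Subgroup G) := by
      rw [hg]; exact hQ' (Subgroup.mem_zpowers x)
    rw [Sylow.coe_subgroup_smul] at hxQ
    obtain ⟨y, hy, hyx⟩ := hxQ
    have hyx' : g * y * g⁻¹ = x := hyx
    refine ⟨⟨g • P, ?_⟩, ?_⟩
    · intro z hz
      rw [Sylow.coe_subgroup_smul] at hz
      obtain ⟨u, hu, huz⟩ := hz
      have huz' : g * u * g⁻¹ = z := huz
      rw [Subgroup.mem_centralizer_iff]
      intro w hw
      rw [Set.mem_singleton_iff] at hw
      rw [hw, ← hyx', ← huz']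
      have h1 : y * u = u * y := by
        have := hcomm' ⟨y, hy⟩ ⟨u, hu⟩
        exact congrArg Subtype.val this
      calc g * y * g⁻¹ * (g * u * g⁻¹) = g * (y * u) * g⁻¹ := by group
        _ = g * (u * y) * g⁻¹ := by rw [h1]
        _ = g * u * g⁻¹ * (g * y * g⁻¹) := by group
    · have hy2 : y ^ 2 = 1 := hexp y hy
      have hx2 : x ^ 2 = 1 := by
        rw [← hyx']
        calc (g * y * g⁻¹) ^ 2 = g * (y ^ 2) * g⁻¹ := by
              rw [pow_two, pow_two]; group
          _ = 1 := by rw [hy2]; group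
      have : x⁻¹ = x := by
        rw [inv_eq_iff_mul_eq_one, ← pow_two, hx2]
      rw [this]
  · intro h
    have hexp : ∀ x ∈ (P : Subgroup G), x ^ 2 = 1 := by
      intro x hx
      by_cases hx1 : x = 1
      · rw [hx1, one_pow]
      · obtain ⟨k, hk⟩ := (IsPGroup.iff_orderOf.mp P.isPGroup') ⟨x, hx⟩
        have hk' : orderOf x = 2 ^ k := by
          rw [← hk, ← Subgroup.orderOf_coe]
        obtain ⟨⟨Q, hQ⟩, hreal⟩ := h x ⟨k, hk'⟩
        have := Cfsg.Agent.S4195.result x hx1 Q hQ hreal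
        rw [← this, pow_orderOf_eq_one]
    refine ⟨?_, hexp⟩
    rw [isMulCommutative_iff]
    intro a b
    apply Subtype.ext
    have ha := hexp a a.2
    have hb := hexp b b.2
    have hab := hexp (a * b : G) ((P : Subgroup G).mul_mem a.2 b.2)
    have ha' : (a : G)⁻¹ = a := by rw [inv_eq_iff_mul_eq_one, ← pow_two, ha]
    have hb' : (b : G)⁻¹ = b := by rw [inv_eq_iff_mul_eq_one, ← pow_two, hb]
    have hab' : ((a : G) * b)⁻¹ = a * b := by rw [inv_eq_iff_mul_eq_one, ← pow_two, hab]
    change (a : G) * b = b * a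
    rw [← hab', mul_inv_rev, ha', hb']

end Cfsg.Agent.S4196
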