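import Cfsg.Statements.S4200
import Mathlib

set_option autoImplicit false
set_option linter.style.haveILetI false
open Cfsg

namespace Cfsg.Agent.S4200

open Classical in
/-- a chosen element of the coset `q` commuting with `s`, if any -/
noncomputable def rep {X : Type*} [Group X] (Y : Subgroup X) (s : X) (q : X ⧸ Y) : X :=
  if h : ∃ c : X, Commute s c ∧ (c : X ⧸ Y) = q then Classical.choose h else 1

theorem rep_spec {X : Type*} [Group X] (Y : Subgroup X) (s : X) (q : X ⧸ Y)
    (h : ∃ c : X, Commute s c ∧ (c : X ⧸ Y) = q) :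
    Commute s (rep Y s q) ∧ ((rep Y s q : X) : X ⧸ Y) = q := by
  unfold rep
  rw [dif_pos h]
  exact Classical.choose_spec h

/-- the basic injection -/
noncomputable def inj {X : Type*} [Group X] (Y : Subgroup X) (S : X → Prop) :
    {p : X × X // Commute p.1 p.2 ∧ S p.1} →
      (X ⧸ Y) × {p : X × X // Commute p.1 p.2 ∧ S p.1 ∧ p.2 ∈ Y} :=
  fun p =>
    have hex : ∃ c : X, Commute p.1.1 c ∧ (c : X ⧸ Y) = ((p.1.2 : X) : X ⧸ Y) :=
      ⟨p.1.2, p.2.1, rfl⟩
    ((p.1.2 : X ⧸ Y),
      ⟨(p.1.1, (rep Y p.1.1 (p.1.2 : X ⧸ Y))⁻¹ * p.1.2),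
        ((rep_spec Y _ _ hex).1.inv_right).mul_right p.2.1, p.2.2,
        QuotientGroup.eq.mp (rep_spec Y _ _ hex).2⟩)

theorem inj_injective {X : Type*} [Group X] (Y : Subgroup X) (S : X → Prop) :
    Function.Injective (inj Y S) := by
  rintro ⟨⟨x, y⟩, h1, h2⟩ ⟨⟨x', y'⟩, h1', h2'⟩ h
  simp only [inj, Prod.mk.injEq, Subtype.mk.injEq] at h
  obtain ⟨hq, hx, hy⟩ := h
  subst hx
  rw [hq] at hy
  have := mul_left_cancel hy
  subst this
  rfl

theorem card_le {X : Type*} [Group X] [Finite X] (Y : Subgroup X) (S : X → Prop) :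
    Nat.card {p : X × X // Commute p.1 p.2 ∧ S p.1} ≤
      Y.index * Nat.card {p : X × X // Commute p.1 p.2 ∧ S p.1 ∧ p.2 ∈ Y} := by
  have := Nat.card_le_card_of_injective _ (inj_injective Y S)
  rwa [Nat.card_prod] at this

theorem card_swap {X : Type*} [Group X] (Y : Subgroup X) :
    Nat.card {p : X × X // Commute p.1 p.2 ∧ (fun _ => True) p.1 ∧ p.2 ∈ Y} =
      Nat.card {p : X × X // Commute p.1 p.2 ∧ (fun s => s ∈ Y) p.1} := by
  apply Nat.card_congr
  refine ⟨fun p => ⟨(p.1.2, p.1.1), p.2.1.symm, p.2.2.2⟩,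
    fun p => ⟨(p.1.2, p.1.1), p.2.1.symm, trivial, p.2.2⟩, ?_, ?_⟩
  · intro p; rfl
  · intro p; rfl

theorem card_sub {X : Type*} [Group X] (Y : Subgroup X) :
    Nat.card {p : X × X // Commute p.1 p.2 ∧ (fun s => s ∈ Y) p.1 ∧ p.2 ∈ Y} =
      Nat.card {p : Y × Y // Commute p.1 p.2} := by
  apply Nat.card_congr
  refine ⟨fun p => ⟨(⟨p.1.1, p.2.2.1⟩, ⟨p.1.2, p.2.2.2⟩), Subtype.ext p.2.1⟩,
    fun p => ⟨(p.1.1, p.1.2), congrArg Subtype.val p.2, p.1.1.2, p.1.2.2⟩, ?_, ?_⟩
  · intro p; rfl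
  · intro p; rfl

theorem card_all {X : Type*} [Group X] :
    Nat.card {p : X × X // Commute p.1 p.2 ∧ (fun _ => True) p.1} =
      Nat.card {p : X × X // Commute p.1 p.2} := by
  apply Nat.card_congr
  refine ⟨fun p => ⟨p.1, p.2.1⟩, fun p => ⟨p.1, p.2, trivial⟩, ?_, ?_⟩
  · intro p; rfl
  · intro p; rfl

theorem not_surj {X : Type*} [Group X] (Y : Subgroup X) (hY : ¬ Y.Normal) :
    ¬ Function.Surjective (inj Y (fun s => s ∈ Y)) := by
  intro hsurj
  apply hY
  constructor
  intro y hy g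
  -- the target element (g⁻¹ Y, (y, 1))
  obtain ⟨⟨⟨a, b⟩, hab, haY⟩, hp⟩ := hsurj ((g⁻¹ : X), ⟨(y, 1), Commute.one_right y, hy, Y.one_mem⟩)
  simp only [inj, Prod.mk.injEq, Subtype.mk.injEq] at hp
  obtain ⟨hq, rfl, -⟩ := hp
  -- b commutes with a = y and b Y = g⁻¹ Y
  have h1 : b⁻¹ * g⁻¹ ∈ Y := QuotientGroup.eq.mp hq
  have h2 : g * b ∈ Y := by
    have := Y.inv_mem h1
    simpa using this
  have e : g * a * g⁻¹ = (g * b) * a * (g * b)⁻¹ := by
    have hc : b * a = a * b := hab.eq.symm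
    calc g * a * g⁻¹ = g * (a * b) * b⁻¹ * g⁻¹ := by group
      _ = g * (b * a) * b⁻¹ * g⁻¹ := by rw [hc]
      _ = (g * b) * a * (g * b)⁻¹ := by group
  rw [e]
  exact Y.mul_mem (Y.mul_mem h2 hy) (Y.inv_mem h2)

/-- Let Y be a subgroup of the finite group X, of index m. Then the numbers of conjugacy classes satisfy k(Y) ≤ m·k(X) and k(X) ≤ m·k(Y), and the second inequality is strict unless Y is normal in X. -/
theorem result {X : Type*} [Group X] [Finite X] (Y : Subgroup X) : Nat.card (ConjClasses Y) ≤ Y.index * Nat.card (ConjClasses X) ∧ Nat.card (ConjClasses X) ≤ Y.index * Nat.card (ConjClasses Y) ∧ (¬ Y.Normal → Nat.card (ConjClasses X) < Y.index * Nat.card (ConjClasses Y)) := by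
  have hXpos : 0 < Nat.card X := Nat.card_pos
  have hYpos : 0 < Nat.card Y := Nat.card_pos
  have hidx : Nat.card Y * Y.index = Nat.card X := Y.card_mul_index
  have hmpos : 0 < Y.index := Nat.pos_of_ne_zero Subgroup.index_ne_zero_of_finite
  have eA := card_comm_eq_card_conjClasses_mul_card X
  have eC := card_comm_eq_card_conjClasses_mul_card Y
  have h1 := card_le Y (fun _ => True)
  rw [card_all, card_swap, eA] at h1
  have h2 := card_le Y (fun s => s ∈ Y)
  rw [card_sub, eC] at h2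
  refine ⟨?_, ?_, ?_⟩
  · -- k(Y) |Y| ≤ k(X) |X| = k(X) m |Y|
    have h3 : Nat.card {p : Y × Y // Commute p.1 p.2} ≤ Nat.card {p : X × X // Commute p.1 p.2} := by
      refine Nat.card_le_card_of_injective
        (fun p => ⟨(p.1.1, p.1.2), congrArg Subtype.val p.2⟩) ?_
      exact fun p q h ↦ by simpa only [Subtype.ext_iff, Prod.ext_iff] using h
    rw [eA, eC, ← hidx] at h3
    have : Nat.card (ConjClasses Y) * Nat.card Y ≤
        (Y.index * Nat.card (ConjClasses X)) * Nat.card Y := by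
      calc Nat.card (ConjClasses Y) * Nat.card Y
          ≤ Nat.card (ConjClasses X) * (Nat.card Y * Y.index) := h3
        _ = (Y.index * Nat.card (ConjClasses X)) * Nat.card Y := by ring
    exact Nat.le_of_mul_le_mul_right this hYpos
  · have h3 : Nat.card (ConjClasses X) * Nat.card X ≤
        Y.index * (Y.index * (Nat.card (ConjClasses Y) * Nat.card Y)) :=
      h1.trans (Nat.mul_le_mul_left _ h2)
    rw [← hidx] at h3
    have : Nat.card (ConjClasses X) * (Nat.card Y * Y.index) ≤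
        (Y.index * Nat.card (ConjClasses Y)) * (Nat.card Y * Y.index) := by
      calc Nat.card (ConjClasses X) * (Nat.card Y * Y.index)
          ≤ Y.index * (Y.index * (Nat.card (ConjClasses Y) * Nat.card Y)) := h3
        _ = (Y.index * Nat.card (ConjClasses Y)) * (Nat.card Y * Y.index) := by ring
    exact Nat.le_of_mul_le_mul_right this (Nat.mul_pos hYpos hmpos)
  · intro hY
    have h2' : Nat.card {p : X × X // Commute p.1 p.2 ∧ (fun s => s ∈ Y) p.1} <
        Y.index * Nat.card {p : X × X // Commute p.1 p.2 ∧ (fun s => s ∈ Y) p.1 ∧ p.2 ∈ Y} := by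
      classical
      haveI : Fintype X := Fintype.ofFinite X
      haveI : Fintype (X ⧸ Y) := Fintype.ofFinite _
      have := Fintype.card_lt_of_injective_not_surjective _ (inj_injective Y (fun s => s ∈ Y))
        (not_surj Y hY)
      rw [Fintype.card_prod] at this
      simpa only [Nat.card_eq_fintype_card, Subgroup.index] using this
    have h3 : Nat.card (ConjClasses X) * Nat.card X <
        Y.index * (Y.index * (Nat.card (ConjClasses Y) * Nat.card Y)) := by
      rw [card_sub, eC] at h2'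
      exact lt_of_le_of_lt h1 (Nat.mul_lt_mul_of_pos_left h2' hmpos)
    rw [← hidx] at h3
    have : Nat.card (ConjClasses X) * (Nat.card Y * Y.index) <
        (Y.index * Nat.card (ConjClasses Y)) * (Nat.card Y * Y.index) := by
      calc Nat.card (ConjClasses X) * (Nat.card Y * Y.index)
          < Y.index * (Y.index * (Nat.card (ConjClasses Y) * Nat.card Y)) := h3
        _ = (Y.index * Nat.card (ConjClasses Y)) * (Nat.card Y * Y.index) := by ring
    exact Nat.lt_of_mul_lt_mul_right this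

end Cfsg.Agent.S4200
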