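import Cfsg.Statements.S4201
import Mathlib
import Cfsg.Agent.Lib.Helper69.CommPairs

set_option autoImplicit false
open Cfsg

namespace Cfsg.Agent.S4201

open Cfsg.Agent.Helper69

/-- the injection of commuting pairs -/
noncomputable def phi {X : Type*} [Group X] (N : Subgroup X) [N.Normal] (p : CP X) :
    CP (X ⧸ N) × CP N :=
  (⟨((p.1.1 : X ⧸ N), (p.1.2 : X ⧸ N)), by
      have h : p.1.1 * p.1.2 = p.1.2 * p.1.1 := p.2
      change ((p.1.1 : X ⧸ N)) * (p.1.2 : X ⧸ N) = (p.1.2 : X ⧸ N) * (p.1.1 : X ⧸ N)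
      rw [← QuotientGroup.mk_mul, ← QuotientGroup.mk_mul, h]⟩,
    (iota2 N (iota1 N p).2).2)

theorem phi_injective {X : Type*} [Group X] (N : Subgroup X) [N.Normal] :
    Function.Injective (phi N) := by
  intro p p' e
  have e1 : (QuotientGroup.mk p.1.1 : X ⧸ N) = QuotientGroup.mk p'.1.1 :=
    congrArg (fun z => z.1.1.1) e
  have e2 : (QuotientGroup.mk p.1.2 : X ⧸ N) = QuotientGroup.mk p'.1.2 :=
    congrArg (fun z => z.1.1.2) e
  have e3' : (phi N p).2 = (phi N p').2 := congrArg Prod.snd e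
  have e3 : (iota2 N (iota1 N p).2).2 = (iota2 N (iota1 N p').2).2 := e3'
  have e4 : iota2 N (iota1 N p).2 = iota2 N (iota1 N p').2 := by
    apply Prod.ext
    · rw [iota2_fst, iota2_fst, iota1_snd_fst, iota1_snd_fst]; exact e1
    · exact e3
  have e5 := iota2_injective N e4
  apply iota1_injective N
  apply Prod.ext
  · rw [iota1_fst, iota1_fst]; exact e2
  · exact e5

/-- If N is a normal subgroup of the finite group X then k(X) ≤ k(N)·k(X ⧸ N), where k denotes the number of conjugacy classes. -/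
theorem result {X : Type*} [Group X] [Finite X] (N : Subgroup X) [N.Normal] : Nat.card (ConjClasses X) ≤ Nat.card (ConjClasses N) * Nat.card (ConjClasses (X ⧸ N)) := by
  have hX : Nat.card (CP X) = Nat.card (ConjClasses X) * Nat.card X :=
    card_comm_eq_card_conjClasses_mul_card X
  have hN : Nat.card (CP N) = Nat.card (ConjClasses N) * Nat.card N :=
    card_comm_eq_card_conjClasses_mul_card N
  have hQ : Nat.card (CP (X ⧸ N)) = Nat.card (ConjClasses (X ⧸ N)) * Nat.card (X ⧸ N) :=
    card_comm_eq_card_conjClasses_mul_card (X ⧸ N)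
  have hidx : Nat.card (X ⧸ N) * Nat.card N = Nat.card X := N.index_mul_card
  have hpos : 0 < Nat.card (X ⧸ N) * Nat.card N := Nat.mul_pos Nat.card_pos Nat.card_pos
  have h1 := Nat.card_le_card_of_injective _ (phi_injective N)
  rw [Nat.card_prod, hX, hN, hQ, ← hidx] at h1
  have h2 : Nat.card (ConjClasses X) * (Nat.card (X ⧸ N) * Nat.card N)
      ≤ (Nat.card (ConjClasses N) * Nat.card (ConjClasses (X ⧸ N)))
        * (Nat.card (X ⧸ N) * Nat.card N) := by
    calc Nat.card (ConjClasses X) * (Nat.card (X ⧸ N) * Nat.card N)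
        ≤ Nat.card (ConjClasses (X ⧸ N)) * Nat.card (X ⧸ N)
          * (Nat.card (ConjClasses N) * Nat.card N) := h1
      _ = _ := by ring
  exact Nat.le_of_mul_le_mul_right h2 hpos

end Cfsg.Agent.S4201
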