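import Cfsg.Statements.S4203
import Mathlib

set_option autoImplicit false
open Cfsg

namespace Cfsg.Agent.S4203


theorem alt_four_solvable (Ω : Type*) [Fintype Ω] [DecidableEq Ω] (h : Fintype.card Ω = 4) :
    Group.IsSolvable (alternatingGroup Ω) := by
  have h4 : Nat.card Ω = 4 := by rw [Nat.card_eq_fintype_card, h]
  refine ⟨⟨2, ?_⟩⟩
  rw [derivedSeries_succ, derivedSeries_one, ← alternatingGroup.kleinFour_eq_commutator h4,
    Subgroup.commutator_self_eq_bot_iff]
  have := alternatingGroup.kleinFour_isKleinFour (α := Ω) h4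
  constructor
  constructor
  intro a b
  exact mul_comm_of_exponent_two (this.exponent_two) a b

theorem perm_four_solvable (Ω : Type*) [Fintype Ω] [DecidableEq Ω] (h : Fintype.card Ω = 4) :
    Group.IsSolvable (Equiv.Perm Ω) := by
  haveI := alt_four_solvable Ω h
  refine Group.isSolvable_of_ker_le_range (alternatingGroup Ω).subtype
    (Equiv.Perm.sign : Equiv.Perm Ω →* ℤˣ) ?_
  rw [Subgroup.range_subtype]
  exact le_of_eq rfl



open MulAction in
theorem index_modEq_one {H : Type*} [Group H] [Finite H] {p : ℕ} [Fact p.Prime] (P : Sylow p H)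
    (L : Subgroup H) (hL : Subgroup.normalizer ((P : Subgroup H) : Set H) ≤ L) :
    L.index ≡ 1 [MOD p] := by
  have hPL : (P : Subgroup H) ≤ L := Subgroup.le_normalizer.trans hL
  have h1 := P.2.card_modEq_card_fixedPoints (H ⧸ L)
  have hfix : fixedPoints (P : Subgroup H) (H ⧸ L) = {(QuotientGroup.mk 1 : H ⧸ L)} := by
    ext x
    rw [mem_fixedPoints, Set.mem_singleton_iff]
    constructor
    · intro hx
      induction x using QuotientGroup.induction_on with | _ g => ?_
      -- g⁻¹ • P ≤ L
      have h2 : ((g⁻¹ • P : Sylow p H) : Subgroup H) ≤ L := by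
        intro y hy
        rw [Sylow.coe_subgroup_smul, Subgroup.mem_pointwise_smul_iff_inv_smul_mem] at hy
        rw [MulAut.smul_def, ← map_inv, inv_inv, MulAut.conj_apply] at hy
        -- hy : g * y * g⁻¹ ∈ P
        have := hx ⟨g * y * g⁻¹, hy⟩
        have h3 : ((g * y * g⁻¹ * g : H) : H ⧸ L) = (g : H ⧸ L) := this
        rw [QuotientGroup.eq] at h3
        have h4 : (g * y * g⁻¹ * g)⁻¹ * g = y⁻¹ := by group
        rw [h4] at h3
        exact (Subgroup.inv_mem_iff L).mp h3
      obtain ⟨l, hl⟩ := exists_smul_eq L (P.subtype hPL) ((g⁻¹ • P).subtype h2)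
      rw [Sylow.smul_subtype] at hl
      have hl' : (l : H) • P = g⁻¹ • P := Sylow.subtype_injective hl
      have h5 : (g * (l : H)) • P = P := by
        rw [mul_smul, hl', smul_inv_smul]
      have h6 : g * (l : H) ∈ L := hL (Sylow.smul_eq_iff_mem_normalizer.mp h5)
      have h7 : g ∈ L := by
        have := L.mul_mem h6 (L.inv_mem l.2)
        simpa using this
      rw [QuotientGroup.eq]
      simpa using h7
    · rintro rfl q
      have h8 : (((q : H) * 1 : H) : H ⧸ L) = ((1 : H) : H ⧸ L) := by
        rw [QuotientGroup.eq]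
        simpa using hPL q.2
      exact h8
  rw [hfix] at h1
  simpa [Subgroup.index] using h1



/-- index of `M` equals the relative index in a normal supplement -/
theorem index_eq_relIndex_of_sup_eq_top {G : Type*} [Group G] [Finite G] (M N : Subgroup G)
    [N.Normal] (h : M ⊔ N = ⊤) : M.index = M.relIndex N := by
  have h1 : N.relIndex M = N.index := by
    rw [← Subgroup.relIndex_sup_right, h, Subgroup.relIndex_top_right]
  -- |M| = |M ⊓ N| * N.index ; |N| = |M ⊓ N| * M.relIndex N
  have e1 := Subgroup.card_mul_index M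
  have e2 := Subgroup.card_mul_index N
  have e3 : Nat.card ↥(M ⊓ N) * N.relIndex M = Nat.card M := by
    have := Subgroup.card_mul_index (N.subgroupOf M)
    rw [← Subgroup.relIndex] at this
    rw [← this]
    congr 1
    rw [← Subgroup.inf_subgroupOf_right N M, inf_comm M N]
    exact Nat.card_congr (Subgroup.subgroupOfEquivOfLe inf_le_right).toEquiv.symm
  have e4 : Nat.card ↥(M ⊓ N) * M.relIndex N = Nat.card N := by
    have := Subgroup.card_mul_index (M.subgroupOf N)
    rw [← Subgroup.relIndex] at this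
    rw [← this]
    congr 1
    rw [← Subgroup.inf_subgroupOf_right M N]
    exact Nat.card_congr (Subgroup.subgroupOfEquivOfLe inf_le_right).toEquiv.symm
  have hpos : 0 < Nat.card ↥(M ⊓ N) := Nat.card_pos
  have hNpos : 0 < N.index := Nat.pos_of_ne_zero Subgroup.index_ne_zero_of_finite
  rw [h1] at e3
  -- |G| = |M⊓N| * N.index * M.index = |M ⊓ N| * M.relIndex N * N.index
  have : Nat.card ↥(M ⊓ N) * N.index * M.index = Nat.card ↥(M ⊓ N) * N.index * M.relIndex N := by
    calc Nat.card ↥(M ⊓ N) * N.index * M.index = Nat.card M * M.index := by rw [e3]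
      _ = Nat.card G := e1
      _ = Nat.card N * N.index := e2.symm
      _ = Nat.card ↥(M ⊓ N) * M.relIndex N * N.index := by rw [e4]
      _ = Nat.card ↥(M ⊓ N) * N.index * M.relIndex N := by ring
  exact Nat.eq_of_mul_eq_mul_left (Nat.mul_pos hpos hNpos) this

theorem arith {p q idx : ℕ} (hp : p.Prime) (hq : q.Prime) (hqp : q ≤ p)
    (hidx : idx = q ∨ idx = q ^ 2) (hmod : idx ≡ 1 [MOD p]) : idx = 4 := by
  have hq2 : 2 ≤ q := hq.two_le
  have hne : q ≠ p := by
    intro heq
    rw [← heq] at hmod
    rcases hidx with rfl | rfl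
    · have : idx ∣ idx - 1 := (Nat.modEq_iff_dvd' hq.one_lt.le).mp hmod.symm
      have := Nat.le_of_dvd (by omega) this
      omega
    · have h1 : q ∣ q ^ 2 - 1 := (Nat.modEq_iff_dvd' (by nlinarith)).mp hmod.symm
      have h2 : q ∣ q ^ 2 := dvd_pow_self q (by norm_num)
      have h3 : q ∣ 1 := by
        have := (Nat.dvd_sub h2 h1)
        rwa [Nat.sub_sub_self (by nlinarith)] at this
      exact hq.one_lt.ne' (Nat.dvd_one.mp h3)
  have hlt : q < p := lt_of_le_of_ne hqp hne
  rcases hidx with rfl | rfl
  · exfalso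
    have : p ∣ idx - 1 := (Nat.modEq_iff_dvd' hq.one_lt.le).mp hmod.symm
    have := Nat.le_of_dvd (by omega) this
    omega
  · have h1 : p ∣ q ^ 2 - 1 := (Nat.modEq_iff_dvd' (by nlinarith)).mp hmod.symm
    have h2 : q ^ 2 - 1 = (q - 1) * (q + 1) := by
      obtain ⟨k, rfl⟩ : ∃ k, q = k + 1 := ⟨q - 1, by omega⟩
      rw [Nat.add_sub_cancel]
      apply Nat.sub_eq_of_eq_add
      ring
    rw [h2] at h1
    rcases (Nat.Prime.dvd_mul hp).mp h1 with h3 | h3
    · exfalso
      have := Nat.le_of_dvd (by omega) h3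
      omega
    · have h4 := Nat.le_of_dvd (by omega) h3
      have hpq : p = q + 1 := by omega
      -- q and q+1 both prime => q = 2
      have : q = 2 := by
        rcases Nat.even_or_odd q with he | ho
        · exact (Nat.Prime.even_iff hq).mp he
        · exfalso
          have hpe : Even p := by rw [hpq]; exact Odd.add_one ho
          have := (Nat.Prime.even_iff hp).mp hpe
          omega
      subst this
      norm_num



/-- a perfect normal subgroup lies in every subgroup of index 4 -/
theorem perfect_le_of_index_four {G : Type*} [Group G] [Finite G] (N M : Subgroup G)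
    (hperf : ⁅N, N⁆ = N) (hM : M.index = 4) : N ≤ M := by
  classical
  haveI : Group.IsPerfect N := Subgroup.isPerfect_iff.mpr hperf
  let φ : N →* Equiv.Perm (G ⧸ M) := (MulAction.toPermHom G (G ⧸ M)).comp N.subtype
  haveI : Fintype (G ⧸ M) := Fintype.ofFinite _
  have hcard : Fintype.card (G ⧸ M) = 4 := by
    rw [← Nat.card_eq_fintype_card, ← Subgroup.index_eq_card, hM]
  haveI := perm_four_solvable (G ⧸ M) hcard
  haveI : Group.IsPerfect φ.range := Group.IsPerfect.range φ
  have hsub : Subsingleton φ.range := by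
    by_contra hns
    haveI : Nontrivial φ.range := not_subsingleton_iff_nontrivial.mp hns
    exact Group.IsPerfect.not_isSolvable φ.range inferInstance
  intro n hn
  have h1 : φ ⟨n, hn⟩ = 1 := by
    have : (⟨φ ⟨n, hn⟩, ⟨_, rfl⟩⟩ : φ.range) = 1 := Subsingleton.elim _ _
    exact congrArg Subtype.val this
  have h2 : φ ⟨n, hn⟩ ((1 : G) : G ⧸ M) = ((1 : G) : G ⧸ M) := by rw [h1]; rfl
  have h3 : ((n * 1 : G) : G ⧸ M) = ((1 : G) : G ⧸ M) := h2
  rw [QuotientGroup.eq] at h3
  simpa using h3

theorem exists_max_prime {m : ℕ} (hm : 1 < m) :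
    ∃ p, p.Prime ∧ p ∣ m ∧ ∀ q, q.Prime → q ∣ m → q ≤ p := by
  have hne : m.primeFactors.Nonempty := by
    rw [Nat.nonempty_primeFactors]; exact hm
  refine ⟨m.primeFactors.max' hne, ?_, ?_, ?_⟩
  · exact Nat.prime_of_mem_primeFactors (Finset.max'_mem _ hne)
  · exact Nat.dvd_of_mem_primeFactors (Finset.max'_mem _ hne)
  · intro q hq hqm
    apply Finset.le_max'
    rw [Nat.mem_primeFactors]
    exact ⟨hq, hqm, by omega⟩

/-- Key step: a minimal normal subgroup is solvable. -/
theorem minimal_normal_solvable {G : Type*} [Group G] [Finite G]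
    (h : ∀ M : Subgroup G, IsCoatom M → ∃ p : ℕ, p.Prime ∧ (M.index = p ∨ M.index = p ^ 2))
    (N : Subgroup G) [hNn : N.Normal] (hNbot : N ≠ ⊥)
    (hNmin : ∀ K : Subgroup G, K.Normal → K ≤ N → K = ⊥ ∨ K = N) :
    Group.IsSolvable N := by
  by_contra hns
  -- N is perfect
  have hperf : ⁅N, N⁆ = N := by
    rcases hNmin ⁅N, N⁆ inferInstance (Subgroup.commutator_le_left N N) with h0 | h0
    · exfalso
      apply hns
      rw [Subgroup.commutator_self_eq_bot_iff] at h0
      exact Group.isSolvable_of_comm (fun a b => h0.is_comm.comm a b)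
    · exact h0
  have hcard : 1 < Nat.card N := by
    rw [Finite.one_lt_card_iff_nontrivial, Subgroup.nontrivial_iff_ne_bot]; exact hNbot
  obtain ⟨p, hp, hpdvd, hpmax⟩ := exists_max_prime hcard
  haveI : Fact p.Prime := ⟨hp⟩
  obtain ⟨P⟩ : Nonempty (Sylow p N) := inferInstance
  set Q : Subgroup G := (P : Subgroup N).map N.subtype with hQ
  have hQN : Q ≤ N := by
    rw [hQ]; exact Subgroup.map_subtype_le _
  have hPne : (P : Subgroup N) ≠ ⊥ := P.ne_bot_of_dvd_card hpdvd
  have hQne : Q ≠ ⊥ := by
    rw [hQ, Ne, Subgroup.map_eq_bot_iff_of_injective _ N.subtype_injective]; exact hPne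
  have hnorm : Subgroup.normalizer (Q : Set G) ≠ ⊤ := by
    intro htop
    have hQnormal : Q.Normal := Subgroup.normalizer_eq_top_iff.mp htop
    rcases hNmin Q hQnormal hQN with h0 | h0
    · exact hQne h0
    · -- N is a p-group
      apply hns
      have hPtop : (P : Subgroup N) = ⊤ := by
        apply Subgroup.map_injective N.subtype_injective
        rw [← hQ, h0, ← MonoidHom.range_eq_map, Subgroup.range_subtype]
      have hpg : IsPGroup p N := by
        intro g
        have hg : g ∈ (P : Subgroup N) := hPtop ▸ Subgroup.mem_top g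
        obtain ⟨k, hk⟩ := P.isPGroup' ⟨g, hg⟩
        exact ⟨k, by simpa using congrArg Subtype.val hk⟩
      haveI := hpg.isNilpotent
      infer_instance
  obtain ⟨M, hMco, hNM⟩ := (eq_top_or_exists_le_coatom _).resolve_left hnorm
  have hfrat := Sylow.normalizer_sup_eq_top P
  have hsup : M ⊔ N = ⊤ := by
    rw [eq_top_iff, ← hfrat]
    exact sup_le_sup_right hNM N
  have hidx := index_eq_relIndex_of_sup_eq_top M N hsup
  -- congruence
  have hL : Subgroup.normalizer ((P : Subgroup N) : Set N) ≤ M.subgroupOf N := by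
    have h1 := Subgroup.le_normalizer_map (H := (P : Subgroup N)) N.subtype
    have h2 := h1.trans hNM
    rw [Subgroup.map_le_iff_le_comap] at h2
    exact h2
  have hmod : M.index ≡ 1 [MOD p] := by
    rw [hidx]; exact index_modEq_one P _ hL
  obtain ⟨q, hq, hqidx⟩ := h M hMco
  have hdvd : M.index ∣ Nat.card N := by rw [hidx]; exact Subgroup.relIndex_dvd_card M N
  have hqdvd : q ∣ Nat.card N := by
    rcases hqidx with h0 | h0
    · rw [h0] at hdvd; exact hdvd
    · rw [h0] at hdvd; exact (dvd_pow_self q (by norm_num)).trans hdvd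
  have h4 : M.index = 4 := arith hp hq (hpmax q hq hqdvd) hqidx hmod
  have hle := perfect_le_of_index_four N M hperf h4
  have : M = ⊤ := by rw [← hsup]; exact (sup_eq_left.mpr hle).symm
  exact hMco.1 this


universe u

theorem main (n : ℕ) : ∀ (G : Type u) [Group G] [Finite G], Nat.card G = n →
    (∀ M : Subgroup G, IsCoatom M → ∃ p : ℕ, p.Prime ∧ (M.index = p ∨ M.index = p ^ 2)) →
    Group.IsSolvable G := by
  induction n using Nat.strong_induction_on with
  | _ n ih =>
  intro G _ _ hn h
  by_cases htriv : Subsingleton G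
  · infer_instance
  have hnt : Nontrivial G := not_subsingleton_iff_nontrivial.mp htriv
  -- a minimal normal subgroup
  have hfin : {K : Subgroup G | K.Normal ∧ K ≠ ⊥}.Finite := Set.toFinite _
  have htop : (⊤ : Subgroup G) ∈ {K : Subgroup G | K.Normal ∧ K ≠ ⊥} :=
    ⟨inferInstance, top_ne_bot⟩
  obtain ⟨N, hNmem, hNminimal⟩ := hfin.exists_minimal ⟨⊤, htop⟩
  obtain ⟨hNnormal, hNbot⟩ := hNmem
  haveI := hNnormal
  have hNmin : ∀ K : Subgroup G, K.Normal → K ≤ N → K = ⊥ ∨ K = N := by
    intro K hK hKN
    by_cases hKbot : K = ⊥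
    · exact Or.inl hKbot
    · right
      exact le_antisymm hKN (hNminimal ⟨hK, hKbot⟩ hKN)
  have hquot : Group.IsSolvable (G ⧸ N) := by
    have hlt : Nat.card (G ⧸ N) < n := by
      rw [← hn, ← Subgroup.index_eq_card, ← Subgroup.card_mul_index N]
      have h1 : 1 < Nat.card N := by
        rw [Finite.one_lt_card_iff_nontrivial, Subgroup.nontrivial_iff_ne_bot]; exact hNbot
      have h2 : 0 < N.index := Nat.pos_of_ne_zero Subgroup.index_ne_zero_of_finite
      nlinarith
    apply ih (Nat.card (G ⧸ N)) hlt (G ⧸ N) rfl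
    intro Mbar hMbar
    have hcoatom := Subgroup.isCoatom_comap_of_surjective (QuotientGroup.mk'_surjective N) hMbar
    obtain ⟨p, hp, hidx⟩ := h _ hcoatom
    rw [Subgroup.index_comap_of_surjective _ (QuotientGroup.mk'_surjective N)] at hidx
    exact ⟨p, hp, hidx⟩
  haveI hNsolv : Group.IsSolvable N := minimal_normal_solvable h N hNbot hNmin
  exact Group.isSolvable_of_ker_le_range N.subtype (QuotientGroup.mk' N) (by simp)

/-- A finite group in which every maximal subgroup has index a prime or the square of a prime is solvable. -/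
theorem result {G : Type*} [Group G] [Finite G] (h : ∀ M : Subgroup G, IsCoatom M → ∃ p : ℕ, p.Prime ∧ (M.index = p ∨ M.index = p ^ 2)) : Group.IsSolvable G :=
  main (Nat.card G) G rfl h

end Cfsg.Agent.S4203
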