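import Cfsg.Statements.S4204
import Mathlib

set_option autoImplicit false
open Cfsg

namespace Cfsg.Agent.S4204

theorem le_normal_iff_map_mk_eq_bot {G : Type*} [Group G] (N : Subgroup G) [N.Normal]
    (X : Subgroup G) : X ≤ N ↔ X.map (QuotientGroup.mk' N) = ⊥ := by
  rw [Subgroup.map_eq_bot_iff, QuotientGroup.ker_mk']

theorem comm_le_iff {G : Type*} [Group G] (N : Subgroup G) [N.Normal] (A B : Subgroup G) :
    ⁅A, B⁆ ≤ N ↔ A.map (QuotientGroup.mk' N) ≤
      Subgroup.centralizer (B.map (QuotientGroup.mk' N) : Set (G ⧸ N)) := by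
  rw [le_normal_iff_map_mk_eq_bot, Subgroup.map_commutator,
    Subgroup.commutator_eq_bot_iff_le_centralizer]

theorem iSup_comm_le {G : Type*} [Group G] (N : Subgroup G) [N.Normal] {ι : Sort*}
    (X : ι → Subgroup G) (B : Subgroup G) (h : ∀ i, ⁅X i, B⁆ ≤ N) : ⁅⨆ i, X i, B⁆ ≤ N := by
  rw [comm_le_iff, Subgroup.map_iSup, iSup_le_iff]
  intro i
  rw [← comm_le_iff]
  exact h i

theorem comm_sup_le {G : Type*} [Group G] (N : Subgroup G) [N.Normal]
    (A Y Z : Subgroup G) (h1 : ⁅A, Y⁆ ≤ N) (h2 : ⁅A, Z⁆ ≤ N) : ⁅A, Y ⊔ Z⁆ ≤ N := by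
  rw [Subgroup.commutator_comm] at h1 h2 ⊢
  rw [comm_le_iff] at h1 h2 ⊢
  rw [Subgroup.map_sup]
  exact sup_le h1 h2

/-- Shifted lower central series: `sh S 0 = ⊤`, `sh S (a+1) = S.lowerCentralSeries a`. -/
def sh {G : Type*} [Group G] (S : Subgroup G) : ℕ → Subgroup G
  | 0 => ⊤
  | a + 1 => S.lowerCentralSeries a

instance sh_normal {G : Type*} [Group G] (S : Subgroup G) [S.Normal] (a : ℕ) :
    (sh S a).Normal := by
  cases a with
  | zero => exact Subgroup.normal_of_characteristic ⊤
  | succ a => exact Subgroup.lowerCentralSeries_normal S a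

theorem comm_sh_le {G : Type*} [Group G] (S : Subgroup G) [S.Normal] (a : ℕ) :
    ⁅sh S a, S⁆ ≤ sh S (a + 1) := by
  cases a with
  | zero => exact Subgroup.commutator_le_right ⊤ S
  | succ a => exact le_of_eq (Subgroup.lowerCentralSeries_succ S a).symm

/-- The mixed term. -/
def mix {G : Type*} [Group G] (H K : Subgroup G) (n : ℕ) : Subgroup G :=
  ⨆ (a : ℕ) (b : ℕ) (_ : a + b = n + 1), sh H a ⊓ sh K b

instance mix_normal {G : Type*} [Group G] (H K : Subgroup G) [H.Normal] [K.Normal] (n : ℕ) :
    (mix H K n).Normal := by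
  unfold mix
  infer_instance

theorem le_mix {G : Type*} [Group G] (H K : Subgroup G) (n a b : ℕ) (h : a + b = n + 1) :
    sh H a ⊓ sh K b ≤ mix H K n := by
  unfold mix
  exact le_iSup_of_le a (le_iSup_of_le b (le_iSup_of_le h le_rfl))

theorem lcs_le_mix {G : Type*} [Group G] (H K : Subgroup G) [H.Normal] [K.Normal] (n : ℕ) :
    (H ⊔ K).lowerCentralSeries n ≤ mix H K n := by
  induction n with
  | zero =>
    rw [Subgroup.lowerCentralSeries_zero]
    apply sup_le
    · have := le_mix H K 0 1 0 rfl
      simpa [sh] using this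
    · have := le_mix H K 0 0 1 rfl
      simpa [sh] using this
  | succ n ih =>
    rw [Subgroup.lowerCentralSeries_succ]
    refine (Subgroup.commutator_mono ih le_rfl).trans ?_
    unfold mix
    apply iSup_comm_le
    intro a
    apply iSup_comm_le
    intro b
    apply iSup_comm_le
    intro hab
    change ⁅sh H a ⊓ sh K b, H ⊔ K⁆ ≤ mix H K (n + 1)
    apply comm_sup_le
    · refine le_trans ?_ (le_mix H K (n + 1) (a + 1) b (by omega))
      apply le_inf
      · exact (Subgroup.commutator_mono inf_le_left le_rfl).trans (comm_sh_le H a)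
      · exact (Subgroup.commutator_mono inf_le_right le_rfl).trans
          (Subgroup.commutator_le_left (sh K b) H)
    · refine le_trans ?_ (le_mix H K (n + 1) a (b + 1) (by omega))
      apply le_inf
      · exact (Subgroup.commutator_mono inf_le_left le_rfl).trans
          (Subgroup.commutator_le_left (sh H a) K)
      · exact (Subgroup.commutator_mono inf_le_right le_rfl).trans (comm_sh_le K b)

theorem sh_eq_bot {G : Type*} [Group G] (S : Subgroup G) (c a : ℕ)
    (hS : S.lowerCentralSeries c = ⊥) (ha : c + 1 ≤ a) : sh S a = ⊥ := by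
  obtain ⟨a', rfl⟩ : ∃ a', a = a' + 1 := ⟨a - 1, by omega⟩
  have : S.lowerCentralSeries a' ≤ S.lowerCentralSeries c :=
    S.lowerCentralSeries_antitone (by omega)
  rw [hS] at this
  exact le_bot_iff.mp this

/-- If `H` and `K` are normal subgroups of a finite group with `H` nilpotent of class at most `c` and `K` nilpotent of class at most `d` (the terms with index `c`, respectively `d`, of their lower central series are trivial, indices starting at `0`), then `HK` is nilpotent of class at most `c + d`. -/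
theorem result {G : Type*} [Group G] [Finite G] (H K : Subgroup G) [H.Normal] [K.Normal] (c d : ℕ) (hH : H.lowerCentralSeries c = ⊥) (hK : K.lowerCentralSeries d = ⊥) : (H ⊔ K).lowerCentralSeries (c + d) = ⊥ := by
  rw [eq_bot_iff]
  refine (lcs_le_mix H K (c + d)).trans ?_
  unfold mix
  refine iSup_le fun a => iSup_le fun b => iSup_le fun hab => ?_
  by_cases ha : c + 1 ≤ a
  · rw [sh_eq_bot H c a hH ha]; exact inf_le_left
  · have hb : d + 1 ≤ b := by omega
    rw [sh_eq_bot K d b hK hb]; exact inf_le_right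

end Cfsg.Agent.S4204
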