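import Cfsg.Statements.S4205
import Mathlib

set_option autoImplicit false
open Cfsg
open scoped commutatorElement

namespace Cfsg.Agent.S4205

theorem upper_le_normalizer {G : Type*} [Group G] (K : Subgroup G) (n : ℕ)
    (h : Subgroup.upperCentralSeries G n ≤ K) :
    Subgroup.upperCentralSeries G (n + 1) ≤ Subgroup.normalizer (K : Set G) := by
  have key : ∀ x ∈ Subgroup.upperCentralSeries G (n + 1), ∀ k ∈ K, x * k * x⁻¹ ∈ K := by
    intro x hx k hk
    have h1 : ⁅x, k⁆ ∈ K := h (Subgroup.mem_upperCentralSeries_succ_iff.mp hx k)
    have h2 : x * k * x⁻¹ = ⁅x, k⁆ * k := by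
      rw [commutatorElement_def]; group
    rw [h2]
    exact K.mul_mem h1 hk
  intro x hx
  rw [Subgroup.mem_normalizer_iff]
  intro k
  constructor
  · exact key x hx k
  · intro hk
    have := key x⁻¹ (Subgroup.inv_mem _ hx) _ hk
    have h3 : x⁻¹ * (x * k * x⁻¹) * x⁻¹⁻¹ = k := by group
    rwa [h3] at this

/-- In a finite group whose upper central series reaches the whole group at step `c` (nilpotent of class at most `c`), starting from any subgroup and taking normalizers `c` times reaches the whole group. -/
theorem result {G : Type*} [Group G] [Finite G] (c : ℕ) (hG : Subgroup.upperCentralSeries G c = ⊤) (H : Subgroup G) : (fun K : Subgroup G => Subgroup.normalizer (K : Set G))^[c] H = ⊤ := by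
  have key : ∀ n : ℕ, Subgroup.upperCentralSeries G n ≤
      (fun K : Subgroup G => Subgroup.normalizer (K : Set G))^[n] H := by
    intro n
    induction n with
    | zero => simp
    | succ n ih =>
      rw [Function.iterate_succ_apply']
      exact upper_le_normalizer _ n ih
  rw [eq_top_iff, ← hG]
  exact key c

end Cfsg.Agent.S4205
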