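import Cfsg.Statements.S4211
import Cfsg.Agent.Lib.Helper55.Hamiltonian
import Cfsg.Agent.Lib.Helper73.QuatRecog

set_option autoImplicit false
open Cfsg

namespace Cfsg.Agent.S4211

open Cfsg.Agent.Helper55.Dedekind Cfsg.Agent.Helper55.Hamiltonian

/-- A finite non-abelian group in which every subgroup is normal is the internal direct product of a subgroup isomorphic to the quaternion group of order `8`, an elementary abelian `2`-subgroup and an abelian subgroup of odd order. -/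
theorem result {G : Type*} [Group G] [Finite G] (hna : ¬ IsMulCommutative G) (hn : ∀ H : Subgroup G, H.Normal) : ∃ Q E A : Subgroup G, Nonempty (Q ≃* QuaternionGroup 2) ∧ Cfsg.IsElementaryAbelian 2 E ∧ IsMulCommutative A ∧ Odd (Nat.card A) ∧ E ⊓ A = ⊥ ∧ Q ⊓ (E ⊔ A) = ⊥ ∧ Q ⊔ (E ⊔ A) = ⊤ := by
  have hex : ∃ x y : G, x * y ≠ y * x := by
    by_contra h
    push Not at h
    exact hna ⟨⟨h⟩⟩
  obtain ⟨x, y, hx, hy, hxy, hconj⟩ := exists_quaternion_pair hn hex
  have hx4 := pow_four_of_order hx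
  have hx' : orderOf x = 2 * 2 := hx
  have hnc := not_comm hx hconj
  have hynot : y ∉ Subgroup.zpowers x := fun h => hnc ((commute_of_mem_zpowers h).eq).symm
  have hinj := Cfsg.Agent.Helper73.quatHom_injective hx' hxy hconj hynot
  -- membership facts for `Q`
  have hxQ : x ∈ (Cfsg.Agent.Helper73.quatHom hx' hxy hconj).range :=
    ⟨QuaternionGroup.a ((1 : ℕ) : ZMod (2 * 2)), by
      show Cfsg.Agent.Helper73.zq x (2 * 2) _ = x
      rw [Cfsg.Agent.Helper73.zq_natCast x (2 * 2) hx' 1, pow_one]⟩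
  have hyQ : y ∈ (Cfsg.Agent.Helper73.quatHom hx' hxy hconj).range :=
    ⟨QuaternionGroup.xa ((0 : ℕ) : ZMod (2 * 2)), by
      show y * Cfsg.Agent.Helper73.zq x (2 * 2) _ = y
      rw [Cfsg.Agent.Helper73.zq_natCast x (2 * 2) hx' 0, pow_zero, mul_one]⟩
  have hQcases : ∀ q ∈ (Cfsg.Agent.Helper73.quatHom hx' hxy hconj).range,
      (∃ k : ℤ, q = x ^ k) ∨ (∃ k : ℤ, q = y * x ^ k) := by
    rintro _ ⟨g, rfl⟩
    cases g with
    | a i => left; exact ⟨_, rfl⟩
    | xa i => right; exact ⟨_, rfl⟩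
  -- the centraliser
  have hC := cent_comm hn hx hconj
  have hF : ∀ g ∈ Subgroup.centralizer ({x, y} : Set G), g ^ 4 = 1 → g ^ 2 = 1 :=
    fun g hg h4 => sq_eq_one_of_pow_four hn hx hconj hg h4
  have hcC : x ^ 2 ∈ Subgroup.centralizer ({x, y} : Set G) := by
    rw [mem_cent_pair]
    refine ⟨by rw [← pow_succ', ← pow_succ], ?_⟩
    rw [← hxy, ← pow_succ', ← pow_succ]
  set C := Subgroup.centralizer ({x, y} : Set G) with hCdef
  have hc1 : x ^ 2 ≠ 1 := sq_ne_one hx
  have hc2 : (x ^ 2) ^ 2 = 1 := by rw [← pow_mul]; exact hx4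
  have h22 : x ^ 2 * x ^ 2 = 1 := by rw [← pow_add]; exact hx4
  obtain ⟨E, hEC, hE2, hcE, hEmax⟩ := exists_E hn C hC (x ^ 2) hc1
  have hAC : sqSubgroup C hC ≤ C := sqSubgroup_le C hC
  have hAodd : Odd (Nat.card (sqSubgroup C hC)) := by
    apply odd_card_of_no_involution
    rintro _ ⟨g, hg, rfl⟩ h
    apply hF g hg
    rw [← h, ← pow_mul]
  have hEcomm : IsMulCommutative E := ⟨⟨fun a b => Subtype.ext (hC _ (hEC a.2) _ (hEC b.2))⟩⟩
  have hAcomm : IsMulCommutative (sqSubgroup C hC) :=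
    ⟨⟨fun a b => Subtype.ext (hC _ (hAC a.2) _ (hAC b.2))⟩⟩
  haveI := hn (sqSubgroup C hC)
  have hEA_le : E ⊔ sqSubgroup C hC ≤ C := sup_le hEC hAC
  have hcEA : x ^ 2 ∉ E ⊔ sqSubgroup C hC := by
    intro hmem
    obtain ⟨e, he, a, ha, hea⟩ := Subgroup.mem_sup_of_normal_right.mp hmem
    have ha2 : a ^ 2 = 1 := by
      have h1 : a = e⁻¹ * x ^ 2 := by rw [← hea]; group
      rw [h1, Commute.mul_pow (show Commute e⁻¹ (x ^ 2) from hC _ (C.inv_mem (hEC he)) _ hcC),
        inv_pow, hE2 e he, hc2, inv_one, one_mul]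
    have ha1 := eq_one_of_sq_of_mem_odd hAodd ha ha2
    rw [ha1, mul_one] at hea
    exact hcE (hea ▸ he)
  refine ⟨(Cfsg.Agent.Helper73.quatHom hx' hxy hconj).range, E, sqSubgroup C hC,
    ⟨(MonoidHom.ofInjective hinj).symm⟩, ⟨hEcomm, hE2⟩, hAcomm, hAodd, ?_, ?_, ?_⟩
  · rw [eq_bot_iff]
    rintro g ⟨hgE, hgA⟩
    rw [Subgroup.mem_bot]
    exact eq_one_of_sq_of_mem_odd hAodd hgA (hE2 g hgE)
  · rw [eq_bot_iff]
    rintro g ⟨hgQ, hgEA⟩
    rw [Subgroup.mem_bot]
    have hgC : g ∈ C := hEA_le hgEA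
    obtain ⟨hgx, hgy⟩ := mem_cent_pair.mp hgC
    rcases hQcases g hgQ with ⟨k, rfl⟩ | ⟨k, rfl⟩
    · have h1 : y * x ^ k * y⁻¹ = (x ^ k)⁻¹ := by
        rw [← conj_zpow, hconj, inv_zpow]
      have h2 : y * x ^ k * y⁻¹ = x ^ k := by rw [hgy]; group
      have h3 : (x ^ k)⁻¹ = x ^ k := h1.symm.trans h2
      have h4 : (x ^ k) ^ 2 = 1 := by
        calc (x ^ k) ^ 2 = x ^ k * x ^ k := pow_two _
          _ = (x ^ k)⁻¹ * x ^ k := by rw [h3]
          _ = 1 := inv_mul_cancel _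
      have hx2 : orderOf (x ^ 2) = 2 := by
        rw [orderOf_pow_of_dvd two_ne_zero (by rw [hx]; norm_num), hx]
      by_contra hne
      have h5 := eq_of_mem_zpowers_of_orderOf_two hx2
        (mem_zpowers_of_mem_zpowers two_pos x (x ^ k) (x ^ 2) (Subgroup.zpow_mem_zpowers x k)
          (Subgroup.pow_mem _ (Subgroup.mem_zpowers x) 2) hx2 h4) hne
      rw [h5] at hgEA
      exact hcEA hgEA
    · exfalso
      apply hnc
      have h1 : x * y * x ^ k = y * x * x ^ k := by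
        calc x * y * x ^ k = x * (y * x ^ k) := by group
          _ = y * x ^ k * x := hgx
          _ = y * x * x ^ k := by group
      exact mul_right_cancel h1
  · rw [eq_top_iff]
    intro g _
    obtain ⟨q, hq, hqg⟩ := exists_coset_rep hn hx hy hxy hconj g
    have hqQ : q ∈ (Cfsg.Agent.Helper73.quatHom hx' hxy hconj).range := by
      rcases hq with rfl | rfl | rfl | rfl
      · exact Subgroup.one_mem _
      · exact hxQ
      · exact hyQ
      · exact Subgroup.mul_mem _ hyQ hxQ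
    obtain ⟨e, heC, he2, a, ha, hz⟩ := exists_decomp C hC hF hqg
    have hg : g = q * (e * a) := by rw [← hz]; group
    rcases hEmax e heC he2 with heE | heE
    · rw [hg]
      exact Subgroup.mul_mem_sup hqQ (Subgroup.mul_mem_sup heE ha)
    · have h1 : x ^ 2 * e = e * x ^ 2 := hC _ hcC _ heC
      have hg' : g = (q * x ^ 2) * ((e * x ^ 2) * a) := by
        rw [hg]
        symm
        calc (q * x ^ 2) * ((e * x ^ 2) * a) = q * (x ^ 2 * e) * x ^ 2 * a := by group
          _ = q * (e * x ^ 2) * x ^ 2 * a := by rw [h1]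
          _ = q * e * (x ^ 2 * x ^ 2) * a := by group
          _ = q * (e * a) := by rw [h22]; group
      rw [hg']
      exact Subgroup.mul_mem_sup (Subgroup.mul_mem _ hqQ (Subgroup.pow_mem _ hxQ 2))
        (Subgroup.mul_mem_sup heE ha)

end Cfsg.Agent.S4211
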