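import Cfsg.Statements.S4212
import Mathlib
-- import your own Cfsg.Agent.* helpers here

set_option autoImplicit false
open Cfsg

namespace Cfsg.Agent.S4212

/-- number of `x` with `x ^ n` conjugate to `c` -/
noncomputable def NN {G : Type*} [Group G] (c : G) (n : ℕ) : ℕ :=
  Nat.card {x : G // IsConj c (x ^ n)}

/-- class size -/
noncomputable def HH {G : Type*} [Group G] (c : G) : ℕ := Nat.card {y : G // IsConj c y}

/-- number of `n`-th roots of `c` -/
noncomputable def MM {G : Type*} [Group G] (c : G) (n : ℕ) : ℕ := Nat.card {x : G // x ^ n = c}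

/-- If all fibres of a map have cardinality divisible by `k`, so has the domain. -/
theorem dvd_card_of_fibers {X Y : Type*} [Finite X] [Finite Y] (f : X → Y) (k : ℕ)
    (h : ∀ y, k ∣ Nat.card {x // f x = y}) : k ∣ Nat.card X := by
  classical
  haveI := Fintype.ofFinite Y
  rw [← Nat.card_congr (Equiv.sigmaFiberEquiv f), Nat.card_sigma]
  exact Finset.dvd_sum (fun y _ => h y)

/-- If all fibres of a map have cardinality `m`, the domain has cardinality `|Y| * m`. -/
theorem card_eq_of_fibers {X Y : Type*} [Finite X] [Finite Y] (f : X → Y) (m : ℕ)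
    (h : ∀ y, Nat.card {x // f x = y} = m) : Nat.card X = Nat.card Y * m := by
  classical
  haveI := Fintype.ofFinite Y
  rw [← Nat.card_congr (Equiv.sigmaFiberEquiv f), Nat.card_sigma]
  simp [h, Nat.card_eq_fintype_card]

theorem NN_eq {G : Type*} [Group G] [Finite G] (c : G) (n : ℕ) : NN c n = HH c * MM c n := by
  classical
  unfold NN HH MM
  rw [← Nat.card_prod]
  have hex : ∀ y : {y : G // IsConj c y}, ∃ g : G, g * c * g⁻¹ = y := fun y => isConj_iff.mp y.2
  choose γ hγ using hex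
  have hmem : ∀ (y : {y : G // IsConj c y}) (x : {x : G // x ^ n = c}),
      IsConj c ((γ y * (x : G) * (γ y)⁻¹) ^ n) := by
    intro y x
    rw [conj_pow, x.2, hγ]
    exact y.2
  symm
  refine Nat.card_congr (Equiv.ofBijective
    (fun yx : {y : G // IsConj c y} × {x : G // x ^ n = c} =>
      (⟨γ yx.1 * (yx.2 : G) * (γ yx.1)⁻¹, hmem yx.1 yx.2⟩ : {x : G // IsConj c (x ^ n)}))
    ⟨?_, ?_⟩)
  · rintro ⟨y, x⟩ ⟨y', x'⟩ h
    have h1 : γ y * (x : G) * (γ y)⁻¹ = γ y' * (x' : G) * (γ y')⁻¹ := congrArg Subtype.val h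
    have h2 : (y : G) = y' := by
      have h3 := congrArg (fun t => t ^ n) h1
      simp only [conj_pow, x.2, x'.2, hγ] at h3
      exact h3
    have hy : y = y' := Subtype.ext h2
    subst hy
    have h4 : (x : G) = x' := mul_left_cancel (mul_right_cancel h1)
    rw [Subtype.ext h4]
  · rintro ⟨x, hx⟩
    have h5 := hγ ⟨x ^ n, hx⟩
    refine ⟨(⟨x ^ n, hx⟩, ⟨(γ ⟨x ^ n, hx⟩)⁻¹ * x * γ ⟨x ^ n, hx⟩, ?_⟩), ?_⟩
    · have h6 : ((γ ⟨x ^ n, hx⟩)⁻¹ * x * γ ⟨x ^ n, hx⟩) ^ n =
          (γ ⟨x ^ n, hx⟩)⁻¹ * x ^ n * γ ⟨x ^ n, hx⟩ := by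
        have := @conj_pow G _ n (γ ⟨x ^ n, hx⟩)⁻¹ x
        rw [inv_inv] at this
        exact this
      rw [h6]
      change γ ⟨x ^ n, hx⟩ * c * (γ ⟨x ^ n, hx⟩)⁻¹ = x ^ n at h5
      obtain ⟨t, ht⟩ : ∃ t, t = γ ⟨x ^ n, hx⟩ := ⟨_, rfl⟩
      rw [← ht] at h5 ⊢
      calc t⁻¹ * x ^ n * t = t⁻¹ * (t * c * t⁻¹) * t := by rw [h5]
        _ = c := by group
    · apply Subtype.ext
      change γ ⟨x ^ n, hx⟩ * ((γ ⟨x ^ n, hx⟩)⁻¹ * x * γ ⟨x ^ n, hx⟩) * (γ ⟨x ^ n, hx⟩)⁻¹ = x
      group

theorem HH_mul_card_centralizer {G : Type*} [Group G] [Finite G] (c : G) :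
    HH c * Nat.card (Subgroup.centralizer ({c} : Set G)) = Nat.card G := by
  unfold HH
  rw [← Nat.card_prod]
  have hex : ∀ y : {y : G // IsConj c y}, ∃ g : G, g * c * g⁻¹ = y := fun y => isConj_iff.mp y.2
  choose γ hγ using hex
  have key : ∀ (y : {y : G // IsConj c y}) (z : Subgroup.centralizer ({c} : Set G)),
      (γ y * (z : G)) * c * (γ y * (z : G))⁻¹ = y := by
    intro y z
    have hz : (z : G) * c = c * z := Subgroup.mem_centralizer_singleton_iff.mp z.2
    calc (γ y * (z : G)) * c * (γ y * (z : G))⁻¹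
        = γ y * ((z : G) * c * (z : G)⁻¹) * (γ y)⁻¹ := by group
      _ = γ y * c * (γ y)⁻¹ := by rw [hz, mul_inv_cancel_right]
      _ = y := hγ y
  refine Nat.card_congr (Equiv.ofBijective
    (fun yz : {y : G // IsConj c y} × Subgroup.centralizer ({c} : Set G) =>
      γ yz.1 * (yz.2 : G)) ⟨?_, ?_⟩)
  · rintro ⟨y, z⟩ ⟨y', z'⟩ h
    change γ y * (z : G) = γ y' * (z' : G) at h
    have h2 : (y : G) = y' := by
      rw [← key y z, ← key y' z', h]
    have hy : y = y' := Subtype.ext h2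
    subst hy
    have h4 : (z : G) = z' := mul_left_cancel h
    rw [Subtype.ext h4]
  · intro g
    have hy : IsConj c (g * c * g⁻¹) := isConj_iff.mpr ⟨g, rfl⟩
    have h5 : γ ⟨g * c * g⁻¹, hy⟩ * c * (γ ⟨g * c * g⁻¹, hy⟩)⁻¹ = g * c * g⁻¹ := hγ ⟨_, hy⟩
    refine ⟨(⟨g * c * g⁻¹, hy⟩, ⟨(γ ⟨g * c * g⁻¹, hy⟩)⁻¹ * g, ?_⟩), ?_⟩
    · rw [Subgroup.mem_centralizer_singleton_iff]
      have h6 : g * c = γ ⟨g * c * g⁻¹, hy⟩ * c * (γ ⟨g * c * g⁻¹, hy⟩)⁻¹ * g := by
        rw [h5]
        group
      calc (γ ⟨g * c * g⁻¹, hy⟩)⁻¹ * g * c = (γ ⟨g * c * g⁻¹, hy⟩)⁻¹ * (g * c) := by group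
        _ = (γ ⟨g * c * g⁻¹, hy⟩)⁻¹ *
            (γ ⟨g * c * g⁻¹, hy⟩ * c * (γ ⟨g * c * g⁻¹, hy⟩)⁻¹ * g) := by rw [← h6]
        _ = c * ((γ ⟨g * c * g⁻¹, hy⟩)⁻¹ * g) := by group
    · change γ ⟨g * c * g⁻¹, hy⟩ * ((γ ⟨g * c * g⁻¹, hy⟩)⁻¹ * g) = g
      group

theorem HH_of_central {G : Type*} [Group G] (c : G) (hc : c ∈ Subgroup.center G) : HH c = 1 := by
  unfold HH
  haveI : Unique {y : G // IsConj c y} :=
    { default := ⟨c, IsConj.refl c⟩
      uniq := fun y => by
        obtain ⟨g, hg⟩ := isConj_iff.mp y.2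
        apply Subtype.ext
        rw [← hg]
        have := Subgroup.mem_center_iff.mp hc g
        change g * c * g⁻¹ = c
        rw [this, mul_inv_cancel_right] }
  exact Nat.card_unique

theorem MM_centralizer {G : Type*} [Group G] [Finite G] (c : G) (n : ℕ) :
    MM c n = MM (⟨c, Subgroup.mem_centralizer_singleton_iff.mpr rfl⟩ :
      Subgroup.centralizer ({c} : Set G)) n := by
  unfold MM
  have hmem : ∀ x : {x : G // x ^ n = c}, (x : G) ∈ Subgroup.centralizer ({c} : Set G) := by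
    intro x
    rw [Subgroup.mem_centralizer_singleton_iff]
    have h := (pow_mul_comm' (x : G) n).symm
    rw [x.2] at h
    exact h
  refine Nat.card_congr (Equiv.ofBijective
    (fun x : {x : G // x ^ n = c} =>
      (⟨⟨(x : G), hmem x⟩, Subtype.ext x.2⟩ :
        {x : Subgroup.centralizer ({c} : Set G) // x ^ n = ⟨c, _⟩})) ⟨?_, ?_⟩)
  · intro x x' h
    have h1 := congrArg (fun t : {x : Subgroup.centralizer ({c} : Set G) // x ^ n = ⟨c, _⟩} =>
      ((t : Subgroup.centralizer ({c} : Set G)) : G)) h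
    exact Subtype.ext h1
  · rintro ⟨⟨x, hx⟩, hxn⟩
    refine ⟨⟨x, ?_⟩, ?_⟩
    · have := congrArg Subtype.val hxn
      exact this
    · rfl

/-- The reduction to the centralizer for a noncentral element. -/
theorem noncentral_step {G : Type*} [Group G] [Finite G] (c : G) (n : ℕ)
    (IH : ∀ c' : Subgroup.centralizer ({c} : Set G),
      Nat.gcd (HH c' * n) (Nat.card (Subgroup.centralizer ({c} : Set G))) ∣ NN c' n) :
    Nat.gcd (HH c * n) (Nat.card G) ∣ NN c n := by
  have h1 := IH ⟨c, Subgroup.mem_centralizer_singleton_iff.mpr rfl⟩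
  have hcen : (⟨c, Subgroup.mem_centralizer_singleton_iff.mpr rfl⟩ :
      Subgroup.centralizer ({c} : Set G)) ∈
      Subgroup.center (Subgroup.centralizer ({c} : Set G)) := by
    rw [Subgroup.mem_center_iff]
    intro z
    apply Subtype.ext
    exact Subgroup.mem_centralizer_singleton_iff.mp z.2
  rw [NN_eq, HH_of_central _ hcen, one_mul, one_mul, ← MM_centralizer] at h1
  rw [NN_eq, ← HH_mul_card_centralizer c, Nat.gcd_mul_left]
  exact Nat.mul_dvd_mul_left _ h1

/-- Splitting off a factor of the exponent. -/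
theorem dvd_NN_mul {G : Type*} [Group G] [Finite G] (n1 n2 k : ℕ)
    (H1 : ∀ d : G, k ∣ NN d n1) (c : G) : k ∣ NN c (n1 * n2) := by
  unfold NN
  refine dvd_card_of_fibers
    (fun x : {x : G // IsConj c (x ^ (n1 * n2))} => ConjClasses.mk ((x : G) ^ n1)) k ?_
  intro D
  obtain ⟨d, rfl⟩ := ConjClasses.mk_surjective D
  by_cases hd : IsConj c (d ^ n2)
  · have e : {x : {x : G // IsConj c (x ^ (n1 * n2))} //
        ConjClasses.mk ((x : G) ^ n1) = ConjClasses.mk d} ≃ {x : G // IsConj d (x ^ n1)} :=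
      (Equiv.subtypeSubtypeEquivSubtypeInter (fun x : G => IsConj c (x ^ (n1 * n2)))
        (fun x : G => ConjClasses.mk (x ^ n1) = ConjClasses.mk d)).trans
      (Equiv.subtypeEquivRight (fun x => by
        constructor
        · rintro ⟨_, h2⟩
          exact (ConjClasses.mk_eq_mk_iff_isConj.mp h2).symm
        · intro h
          refine ⟨?_, ConjClasses.mk_eq_mk_iff_isConj.mpr h.symm⟩
          rw [pow_mul]
          exact hd.trans (h.pow n2)))
    rw [Nat.card_congr e]
    exact H1 d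
  · haveI : IsEmpty {x : {x : G // IsConj c (x ^ (n1 * n2))} //
        ConjClasses.mk ((x : G) ^ n1) = ConjClasses.mk d} := by
      refine ⟨fun x => hd ?_⟩
      have h1 := x.1.2
      have h2 := ConjClasses.mk_eq_mk_iff_isConj.mp x.2
      rw [pow_mul] at h1
      exact h1.trans (h2.pow n2)
    rw [Nat.card_of_isEmpty]
    exact dvd_zero k

theorem orderOf_root {G : Type*} [Group G] [Finite G] (c : G) (p e : ℕ) (hp : p.Prime)
    (hpc : p ∣ orderOf c) (x : G) (hx : x ^ (p ^ e) = c) : orderOf x = p ^ e * orderOf c := by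
  have hn0 : p ^ e ≠ 0 := pow_ne_zero e hp.pos.ne'
  have h1 : orderOf c = orderOf x / Nat.gcd (orderOf x) (p ^ e) := by
    rw [← hx]
    exact orderOf_pow' x hn0
  obtain ⟨i, hie, hi⟩ := (Nat.dvd_prime_pow hp).mp (Nat.gcd_dvd_right (orderOf x) (p ^ e))
  have h2 : orderOf c * p ^ i = orderOf x := by
    rw [h1, hi]
    exact Nat.div_mul_cancel (hi ▸ Nat.gcd_dvd_left _ _)
  have hi2 : i = e := by
    by_contra hne
    have hlt : i + 1 ≤ e := by omega
    have d1 : p ^ (i + 1) ∣ p ^ e := pow_dvd_pow p hlt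
    have d2 : p ^ (i + 1) ∣ orderOf x := by
      rw [← h2, pow_succ, mul_comm (p ^ i) p]
      exact Nat.mul_dvd_mul hpc dvd_rfl
    have d3 : p ^ (i + 1) ∣ p ^ i := by
      rw [← hi]
      exact Nat.dvd_gcd d2 d1
    have := (Nat.pow_dvd_pow_iff_le_right hp.one_lt).mp d3
    omega
  rw [← h2, hi2, mul_comm]

/-- If `p` divides the order of `c`, the number of `p ^ e`-th roots of `c` is divisible by
`p ^ e`. -/
theorem dvd_MM_of_dvd_order {G : Type*} [Group G] [Finite G] (c : G) (p e : ℕ) (hp : p.Prime)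
    (hpc : p ∣ orderOf c) : p ^ e ∣ MM c (p ^ e) := by
  unfold MM
  obtain ⟨n, hn⟩ : ∃ n, n = p ^ e := ⟨_, rfl⟩
  obtain ⟨m, hm⟩ : ∃ m, m = orderOf c := ⟨_, rfl⟩
  rw [← hn]
  have hm0 : m ≠ 0 := hm ▸ (orderOf_pos c).ne'
  have hord : ∀ x : G, x ^ n = c → orderOf x = n * m := by
    intro x hx
    rw [hn, hm]
    exact orderOf_root c p e hp hpc x (hn ▸ hx)
  have hc1 : c ≠ 1 := by
    intro h
    rw [h, orderOf_one] at hpc
    exact hp.one_lt.ne' (Nat.dvd_one.mp hpc)
  refine dvd_card_of_fibers (fun x : {x : G // x ^ n = c} => Subgroup.zpowers (x : G)) n ?_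
  intro Z
  by_cases hZ : Nonempty {x : {x : G // x ^ n = c} // Subgroup.zpowers (x : G) = Z}
  · obtain ⟨⟨⟨x0, h0⟩, hx0Z⟩⟩ := hZ
    change Subgroup.zpowers x0 = Z at hx0Z
    subst hx0Z
    have hcard : Nat.card (Subgroup.zpowers (x0 ^ m)) = n := by
      rw [Nat.card_zpowers, orderOf_pow' x0 hm0, hord x0 h0,
        Nat.gcd_eq_right (Dvd.intro_left n rfl), Nat.mul_div_cancel _ (Nat.pos_of_ne_zero hm0)]
    have hmem : ∀ k : Subgroup.zpowers (x0 ^ m), ∃ j : ℕ, (k : G) = (x0 ^ m) ^ j := by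
      intro k
      have := (mem_powers_iff_mem_zpowers).mpr k.2
      obtain ⟨j, hj⟩ := (Submonoid.mem_powers_iff _ _).mp this
      exact ⟨j, hj.symm⟩
    have hsol : ∀ j : ℕ, (x0 * (x0 ^ m) ^ j) ^ n = c := by
      intro j
      have h1 : x0 * (x0 ^ m) ^ j = x0 ^ (1 + m * j) := by rw [pow_add, pow_one, pow_mul]
      rw [h1, ← pow_mul, mul_comm, pow_mul, h0, pow_add, pow_one, pow_mul, hm,
        pow_orderOf_eq_one, one_pow, mul_one]
    have hgen : ∀ j : ℕ, Subgroup.zpowers (x0 * (x0 ^ m) ^ j) = Subgroup.zpowers x0 := by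
      intro j
      apply Subgroup.eq_of_le_of_card_ge
      · rw [Subgroup.zpowers_le]
        exact Subgroup.mul_mem _ (Subgroup.mem_zpowers x0)
          (Subgroup.pow_mem _ (Subgroup.pow_mem _ (Subgroup.mem_zpowers x0) m) j)
      · rw [Nat.card_zpowers, Nat.card_zpowers, hord _ (hsol j), hord x0 h0]
    have hsol' : ∀ k : Subgroup.zpowers (x0 ^ m), (x0 * (k : G)) ^ n = c := by
      intro k
      obtain ⟨j, hj⟩ := hmem k
      rw [hj]
      exact hsol j
    have hgen' : ∀ k : Subgroup.zpowers (x0 ^ m),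
        Subgroup.zpowers (x0 * (k : G)) = Subgroup.zpowers x0 := by
      intro k
      obtain ⟨j, hj⟩ := hmem k
      rw [hj]
      exact hgen j
    have hfib : Nat.card (Subgroup.zpowers (x0 ^ m)) =
        Nat.card {x : {x : G // x ^ n = c} // Subgroup.zpowers (x : G) = Subgroup.zpowers x0} := by
      refine Nat.card_congr (Equiv.ofBijective
        (fun k : Subgroup.zpowers (x0 ^ m) =>
          (⟨⟨x0 * (k : G), hsol' k⟩, hgen' k⟩ :
            {x : {x : G // x ^ n = c} // Subgroup.zpowers (x : G) = Subgroup.zpowers x0}))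
        ⟨?_, ?_⟩)
      · intro k k' h
        have h1 := congrArg
          (fun t : {x : {x : G // x ^ n = c} // Subgroup.zpowers (x : G) = Subgroup.zpowers x0} =>
            ((t : {x : G // x ^ n = c}) : G)) h
        exact Subtype.ext (mul_left_cancel h1)
      · rintro ⟨⟨y, hy⟩, hyZ⟩
        change Subgroup.zpowers y = Subgroup.zpowers x0 at hyZ
        have hy0 : y ∈ Subgroup.zpowers x0 := hyZ ▸ Subgroup.mem_zpowers y
        obtain ⟨j, hj⟩ := (Submonoid.mem_powers_iff _ _).mp ((mem_powers_iff_mem_zpowers).mpr hy0)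
        have hcj : c ^ j = c ^ 1 := by
          rw [pow_one]
          calc c ^ j = (x0 ^ n) ^ j := by rw [h0]
            _ = (x0 ^ j) ^ n := by rw [← pow_mul, mul_comm, pow_mul]
            _ = c := by rw [hj, hy]
        have hj0 : 1 ≤ j := by
          rcases Nat.eq_zero_or_pos j with h | h
          · exfalso
            rw [h, pow_zero, pow_one] at hcj
            exact hc1 hcj.symm
          · exact h
        have hmod := (pow_eq_pow_iff_modEq.mp hcj).symm
        rw [← hm] at hmod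
        obtain ⟨t, ht⟩ := (Nat.modEq_iff_dvd' hj0).mp hmod
        have hj' : j = 1 + m * t := by omega
        refine ⟨⟨(x0 ^ m) ^ t, Subgroup.pow_mem _ (Subgroup.mem_zpowers _) t⟩, ?_⟩
        apply Subtype.ext
        apply Subtype.ext
        change x0 * (x0 ^ m) ^ t = y
        rw [← hj, hj', pow_add, pow_one, pow_mul]
    rw [← hfib, hcard]
  · haveI : IsEmpty {x : {x : G // x ^ n = c} // Subgroup.zpowers (x : G) = Z} :=
      not_nonempty_iff.mp hZ
    rw [Nat.card_of_isEmpty]
    exact dvd_zero n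

/-- The case of a central element of order prime to `p`. -/
theorem central_p'_case {G : Type*} [Group G] [Finite G] (p e : ℕ) (hp : p.Prime)
    (Hnc : ∀ d : G, d ∉ Subgroup.center G → Nat.gcd (p ^ e) (Nat.card G) ∣ NN d (p ^ e))
    (c : G) (hc : c ∈ Subgroup.center G) (hpc : ¬ p ∣ orderOf c) :
    Nat.gcd (p ^ e) (Nat.card G) ∣ MM c (p ^ e) := by
  classical
  obtain ⟨n, hn⟩ : ∃ n, n = p ^ e := ⟨_, rfl⟩
  rw [← hn] at Hnc ⊢
  let K : Subgroup G :=
    { carrier := {z | z ∈ Subgroup.center G ∧ ¬ p ∣ orderOf z}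
      one_mem' := ⟨Subgroup.one_mem _, by
        rw [orderOf_one]
        intro h
        exact hp.one_lt.ne' (Nat.dvd_one.mp h)⟩
      mul_mem' := by
        rintro a b ⟨ha, hpa⟩ ⟨hb, hpb⟩
        refine ⟨Subgroup.mul_mem _ ha hb, ?_⟩
        intro h
        have hcomm : Commute a b := Subgroup.mem_center_iff.mp hb a
        have h1 := dvd_trans h hcomm.orderOf_mul_dvd_lcm
        have h2 := dvd_trans h1 (Nat.lcm_dvd_mul _ _)
        rcases (Nat.Prime.dvd_mul hp).mp h2 with h' | h'
        · exact hpa h'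
        · exact hpb h'
      inv_mem' := by
        rintro a ⟨ha, hpa⟩
        exact ⟨Subgroup.inv_mem _ ha, by rw [orderOf_inv]; exact hpa⟩ }
  have hKmem : ∀ z, z ∈ K ↔ (z ∈ Subgroup.center G ∧ ¬ p ∣ orderOf z) := fun z => Iff.rfl
  have hcK : c ∈ K := ⟨hc, hpc⟩
  have hpK : ¬ p ∣ Nat.card K := by
    intro h
    haveI : Fact p.Prime := ⟨hp⟩
    obtain ⟨x, hx⟩ := exists_prime_orderOf_dvd_card' p h
    have hx2 := ((hKmem x.1).mp x.2).2
    rw [← Subgroup.orderOf_coe] at hx
    rw [hx] at hx2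
    exact hx2 dvd_rfl
  have hcop : (Nat.card K).Coprime n := by
    rw [hn]
    exact Nat.Coprime.pow_right e ((Nat.Prime.coprime_iff_not_dvd hp).mpr hpK).symm
  have hroot : ∀ c' : G, c' ∈ K → ∃ d ∈ K, d ^ n = c' := by
    intro c' hc'
    obtain ⟨d, hd⟩ := (powCoprime hcop).surjective ⟨c', hc'⟩
    refine ⟨d, d.2, ?_⟩
    have := congrArg Subtype.val hd
    simpa using this
  have hT : ∀ c' : G, c' ∈ K → MM c' n = MM (1 : G) n := by
    intro c' hc'
    obtain ⟨d, hdK, hd⟩ := hroot c' hc'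
    unfold MM
    refine Nat.card_congr (Equiv.subtypeEquiv (Equiv.mulRight d⁻¹) ?_)
    intro x
    have hcomm : Commute x d⁻¹ :=
      Subgroup.mem_center_iff.mp (Subgroup.inv_mem _ ((hKmem d).mp hdK).1) x
    change x ^ n = c' ↔ (x * d⁻¹) ^ n = 1
    rw [hcomm.mul_pow, inv_pow, hd, mul_inv_eq_one]
  have hX : Nat.card {x : G // x ^ n ∈ K} = Nat.card K * MM (1 : G) n := by
    refine card_eq_of_fibers (fun x : {x : G // x ^ n ∈ K} => (⟨(x : G) ^ n, x.2⟩ : K)) _ ?_
    intro k
    rw [← hT k.1 k.2]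
    unfold MM
    refine Nat.card_congr ⟨fun x => ⟨x.1.1, congrArg Subtype.val x.2⟩,
      fun x => ⟨⟨x.1, by rw [x.2]; exact k.2⟩, Subtype.ext x.2⟩, ?_, ?_⟩
    · intro x
      rfl
    · intro x
      rfl
  have hXc : Nat.gcd n (Nat.card G) ∣ Nat.card {x : G // ¬ x ^ n ∈ K} := by
    refine dvd_card_of_fibers
      (fun x : {x : G // ¬ x ^ n ∈ K} => ConjClasses.mk ((x : G) ^ n)) _ ?_
    intro D
    obtain ⟨d, rfl⟩ := ConjClasses.mk_surjective D
    by_cases hd : d ∈ K
    · haveI : IsEmpty {x : {x : G // ¬ x ^ n ∈ K} //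
          ConjClasses.mk ((x : G) ^ n) = ConjClasses.mk d} := by
        refine ⟨fun x => x.1.2 ?_⟩
        have h2 := ConjClasses.mk_eq_mk_iff_isConj.mp x.2
        obtain ⟨g, hg⟩ := isConj_iff.mp h2.symm
        have h3 := Subgroup.mem_center_iff.mp ((hKmem d).mp hd).1 g
        rw [h3, mul_inv_cancel_right] at hg
        rw [← hg]
        exact hd
      have h0 : Nat.card {x : {x : G // ¬ x ^ n ∈ K} //
          ConjClasses.mk ((x : G) ^ n) = ConjClasses.mk d} = 0 := Nat.card_of_isEmpty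
      rw [h0]
      exact dvd_zero _
    · have e1 : {x : {x : G // ¬ x ^ n ∈ K} //
          ConjClasses.mk ((x : G) ^ n) = ConjClasses.mk d} ≃ {x : G // IsConj d (x ^ n)} :=
        (Equiv.subtypeSubtypeEquivSubtypeInter (fun x : G => ¬ x ^ n ∈ K)
          (fun x : G => ConjClasses.mk (x ^ n) = ConjClasses.mk d)).trans
        (Equiv.subtypeEquivRight (fun x => by
          constructor
          · rintro ⟨_, h2⟩
            exact (ConjClasses.mk_eq_mk_iff_isConj.mp h2).symm
          · intro h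
            refine ⟨?_, ConjClasses.mk_eq_mk_iff_isConj.mpr h.symm⟩
            intro hxK
            obtain ⟨g, hg⟩ := isConj_iff.mp h.symm
            have h3 := Subgroup.mem_center_iff.mp ((hKmem _).mp hxK).1 g
            rw [h3, mul_inv_cancel_right] at hg
            exact hd (hg ▸ hxK)))
      rw [Nat.card_congr e1]
      change Nat.gcd n (Nat.card G) ∣ NN d n
      by_cases hdc : d ∈ Subgroup.center G
      · have hpd : p ∣ orderOf d := by
          by_contra h
          exact hd ⟨hdc, h⟩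
        rw [NN_eq, HH_of_central d hdc, one_mul]
        exact dvd_trans (Nat.gcd_dvd_left _ _) (hn ▸ dvd_MM_of_dvd_order d p e hp hpd)
      · exact Hnc d hdc
  have hsum : Nat.card {x : G // x ^ n ∈ K} + Nat.card {x : G // ¬ x ^ n ∈ K} = Nat.card G := by
    rw [← Nat.card_sum]
    exact Nat.card_congr (Equiv.sumCompl (fun x : G => x ^ n ∈ K))
  have h1 : Nat.gcd n (Nat.card G) ∣ Nat.card K * MM (1 : G) n := by
    rw [← hX]
    have h2 : Nat.gcd n (Nat.card G) ∣
        Nat.card {x : G // x ^ n ∈ K} + Nat.card {x : G // ¬ x ^ n ∈ K} := by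
      rw [hsum]
      exact Nat.gcd_dvd_right _ _
    exact (Nat.dvd_add_left hXc).mp h2
  have hcop2 : (Nat.gcd n (Nat.card G)).Coprime (Nat.card K) :=
    Nat.Coprime.coprime_dvd_left (Nat.gcd_dvd_left _ _) hcop.symm
  rw [hT c hcK]
  exact hcop2.dvd_of_dvd_mul_left h1

universe u

/-- The theorem of Frobenius and P. Hall, by induction on the group order and the exponent. -/
theorem main_aux : ∀ (g : ℕ) (G : Type u) [Group G] [Finite G], Nat.card G = g →
    ∀ (n : ℕ) (c : G), Nat.gcd (HH c * n) (Nat.card G) ∣ NN c n := by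
  intro g
  induction g using Nat.strong_induction_on with
  | _ g IHg =>
  intro G _ _ hg n
  induction n using Nat.strong_induction_on with
  | _ n IHn =>
  intro c
  -- the noncentral case, for every exponent
  have hnonc : ∀ (n' : ℕ) (d : G), d ∉ Subgroup.center G →
      Nat.gcd (HH d * n') (Nat.card G) ∣ NN d n' := by
    intro n' d hd
    refine noncentral_step d n' (fun c' => ?_)
    have hlt : Nat.card (Subgroup.centralizer ({d} : Set G)) < g := by
      rw [← hg]
      refine lt_of_le_of_ne (Subgroup.card_le_card_group _) ?_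
      intro h
      apply hd
      have htop := (Subgroup.card_eq_iff_eq_top _).mp h
      rw [Subgroup.mem_center_iff]
      intro x
      have hx : x ∈ Subgroup.centralizer ({d} : Set G) := htop ▸ Subgroup.mem_top x
      exact Subgroup.mem_centralizer_singleton_iff.mp hx
    exact IHg _ hlt (Subgroup.centralizer ({d} : Set G)) rfl n' c'
  by_cases hc : c ∈ Subgroup.center G
  · have hH : HH c = 1 := HH_of_central c hc
    rw [hH, one_mul, NN_eq, hH, one_mul]
    rcases Nat.lt_or_ge n 2 with hn | hn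
    · have hn' : n = 0 ∨ n = 1 := by omega
      rcases hn' with rfl | rfl
      · rw [Nat.gcd_zero_left]
        by_cases h1 : c = 1
        · subst h1
          unfold MM
          simp
        · haveI : IsEmpty {x : G // x ^ 0 = c} := ⟨fun x => h1 (by rw [← x.2, pow_zero])⟩
          unfold MM
          have h0 : Nat.card {x : G // x ^ 0 = c} = 0 := Nat.card_of_isEmpty
          rw [h0]
          exact dvd_zero _
      · rw [Nat.gcd_one_left]
        exact one_dvd _
    · obtain ⟨p, hp, hpn⟩ := Nat.exists_prime_and_dvd (by omega : n ≠ 1)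
      obtain ⟨e, m, hpm, hnm⟩ := Nat.exists_eq_pow_mul_and_not_dvd (by omega : n ≠ 0) p hp.ne_one
      by_cases hm1 : m = 1
      · rw [hm1, mul_one] at hnm
        rw [hnm]
        by_cases hpc : p ∣ orderOf c
        · exact dvd_trans (Nat.gcd_dvd_left _ _) (dvd_MM_of_dvd_order c p e hp hpc)
        · refine central_p'_case p e hp (fun d hd => ?_) c hc hpc
          exact dvd_trans (Nat.gcd_dvd_gcd_of_dvd_left _ (Dvd.intro_left (HH d) rfl))
            (hnonc (p ^ e) d hd)
      · have he : e ≠ 0 := by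
          intro h
          rw [h, pow_zero, one_mul] at hnm
          rw [hnm] at hpn
          exact hpm hpn
        have hm0 : m ≠ 0 := by
          intro h
          rw [h, mul_zero] at hnm
          omega
        have hpe : 1 < p ^ e := Nat.one_lt_pow he hp.one_lt
        have hcop : Nat.Coprime (p ^ e) m :=
          Nat.Coprime.pow_left e ((Nat.Prime.coprime_iff_not_dvd hp).mpr hpm)
        have hlt1 : p ^ e < n := by
          rw [hnm]
          have : 2 ≤ m := by omega
          nlinarith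
        have hlt2 : m < n := by
          rw [hnm]
          have : 1 ≤ m := by omega
          nlinarith
        have d1 : Nat.gcd (p ^ e) (Nat.card G) ∣ NN c (p ^ e * m) :=
          dvd_NN_mul (p ^ e) m _ (fun d =>
            dvd_trans (Nat.gcd_dvd_gcd_of_dvd_left _ (Dvd.intro_left (HH d) rfl))
              (IHn (p ^ e) hlt1 d)) c
        have d2 : Nat.gcd m (Nat.card G) ∣ NN c (m * p ^ e) :=
          dvd_NN_mul m (p ^ e) _ (fun d =>
            dvd_trans (Nat.gcd_dvd_gcd_of_dvd_left _ (Dvd.intro_left (HH d) rfl))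
              (IHn m hlt2 d)) c
        rw [mul_comm m (p ^ e)] at d2
        rw [NN_eq, hH, one_mul] at d1 d2
        rw [hnm]
        have hgcd : Nat.gcd (p ^ e * m) (Nat.card G) =
            Nat.gcd (p ^ e) (Nat.card G) * Nat.gcd m (Nat.card G) := by
          rw [Nat.gcd_comm, Nat.Coprime.gcd_mul _ hcop, Nat.gcd_comm (Nat.card G) (p ^ e),
            Nat.gcd_comm (Nat.card G) m]
        rw [hgcd]
        refine Nat.Coprime.mul_dvd_of_dvd_of_dvd ?_ d1 d2
        exact Nat.Coprime.coprime_dvd_left (Nat.gcd_dvd_left _ _)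
          (Nat.Coprime.coprime_dvd_right (Nat.gcd_dvd_left _ _) hcop)
  · exact hnonc n c hc

/-- Let `G` be a finite group of order `g`, `c` an element whose conjugacy class has `h` elements, and `n` a natural number. Then the number of elements `x` of `G` with `x^n` conjugate to `c` is a multiple of `gcd(hn, g)`. -/
theorem result {G : Type*} [Group G] [Finite G] (c : G) (n : ℕ) : Nat.gcd (Nat.card {y : G // IsConj c y} * n) (Nat.card G) ∣ Nat.card {x : G // IsConj c (x ^ n)} := by
  exact main_aux _ G rfl n c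

end Cfsg.Agent.S4212
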