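import Cfsg.Statements.S4213
import Cfsg.Agent.S3993

set_option autoImplicit false
open Cfsg

namespace Cfsg.Agent.S4213

/-- A nontrivial finite solvable group has a nontrivial normal `p`-subgroup of exponent `p`. -/
theorem exists_normal_exponent_p {G : Type*} [Group G] [Finite G] [Group.IsSolvable G] [Nontrivial G] :
    ∃ (K : Subgroup G) (p i : ℕ), K.Normal ∧ p.Prime ∧ 1 ≤ i ∧ Nat.card K = p ^ i ∧
      ∀ k ∈ K, k ^ p = 1 := by
  classical
  let P : Subgroup G → Prop := fun H => H.Normal ∧ H ≠ ⊥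
  have htop : P ⊤ := ⟨inferInstance, top_ne_bot⟩
  obtain ⟨K, -, hK⟩ := Finite.exists_le_minimal htop
  obtain ⟨hKn, hK1⟩ := hK.prop
  haveI := hKn
  have hcomm : ⁅K, K⁆ = ⊥ := by
    by_contra hne
    have hP : P ⁅K, K⁆ := ⟨inferInstance, hne⟩
    have hle : ⁅K, K⁆ ≤ K := Subgroup.commutator_le_left K K
    have h1 := hK.le_of_le hP hle
    exact not_le_of_gt (Group.IsSolvable.commutator_lt_of_ne_bot hK1) h1
  have hab : ∀ a ∈ K, ∀ b ∈ K, a * b = b * a := by
    intro a ha b hb
    have h1 := Subgroup.commutator_eq_bot_iff_le_centralizer.mp hcomm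
    exact ((Subgroup.mem_centralizer_iff.mp (h1 ha)) b hb).symm
  have hcard1 : Nat.card K ≠ 1 := fun h => hK1 (Subgroup.card_eq_one.mp h)
  obtain ⟨p, hp, hpdvd⟩ := Nat.exists_prime_and_dvd hcard1
  haveI : Fact p.Prime := ⟨hp⟩
  obtain ⟨x, hx⟩ := exists_prime_orderOf_dvd_card' (G := ↥K) p hpdvd
  let Kp : Subgroup G :=
    { carrier := {k | k ∈ K ∧ k ^ p = 1}
      mul_mem' := by
        rintro a b ⟨ha, ha'⟩ ⟨hb, hb'⟩
        exact ⟨K.mul_mem ha hb, by
          rw [Commute.mul_pow (show Commute a b from hab a ha b hb), ha', hb', one_mul]⟩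
      one_mem' := ⟨K.one_mem, one_pow p⟩
      inv_mem' := by
        rintro a ⟨ha, ha'⟩
        exact ⟨K.inv_mem ha, by rw [inv_pow, ha', inv_one]⟩ }
  have hKpn : Kp.Normal := ⟨fun k hk g => ⟨hKn.conj_mem k hk.1 g, by
    rw [conj_pow, hk.2, mul_one, mul_inv_cancel]⟩⟩
  have hKp1 : Kp ≠ ⊥ := by
    intro h
    have hxm : (x : G) ∈ Kp := ⟨x.2, by
      have h1 := pow_orderOf_eq_one x
      rw [hx] at h1
      exact_mod_cast congrArg Subtype.val h1⟩
    rw [h, Subgroup.mem_bot] at hxm
    have hx1 : x = 1 := Subtype.ext hxm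
    rw [hx1, orderOf_one] at hx
    exact hp.one_lt.ne hx
  have hle : K ≤ Kp := hK.le_of_le ⟨hKpn, hKp1⟩ (fun k hk => hk.1)
  have hexp : ∀ k ∈ K, k ^ p = 1 := fun k hk => (hle hk).2
  have hpg : IsPGroup p K := fun k => ⟨1, by
    rw [pow_one]
    exact Subtype.ext (by simpa using hexp k k.2)⟩
  obtain ⟨i, hi⟩ := IsPGroup.iff_card.mp hpg
  refine ⟨K, p, i, hKn, hp, ?_, hi, hexp⟩
  by_contra h0
  have h00 : i = 0 := by omega
  rw [h00, pow_zero] at hi
  exact hcard1 hi

/-- Counting preimages of solutions in the quotient. -/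
theorem card_mul_le {G : Type*} [Group G] [Finite G] (K : Subgroup G) [K.Normal] (m n : ℕ)
    (hpre : ∀ x : G, ((x : G ⧸ K)) ^ m = 1 → x ^ n = 1) :
    Nat.card K * Nat.card {y : G ⧸ K // y ^ m = 1} ≤ Nat.card {x : G // x ^ n = 1} := by
  have h1 := QuotientGroup.card_preimage_mk K {y : G ⧸ K | y ^ m = 1}
  have h2 : (QuotientGroup.mk ⁻¹' {y : G ⧸ K | y ^ m = 1} : Set G) ⊆ {x : G | x ^ n = 1} := by
    intro x hx
    exact hpre x hx
  have h3 := Nat.card_mono (Set.toFinite {x : G | x ^ n = 1}) h2
  calc Nat.card K * Nat.card {y : G ⧸ K // y ^ m = 1}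
      = Nat.card (QuotientGroup.mk ⁻¹' {y : G ⧸ K | y ^ m = 1} : Set G) := h1.symm
    _ ≤ Nat.card {x : G // x ^ n = 1} := h3

/-- Frobenius lower bound. -/
theorem le_card_solutions {G : Type*} [Group G] [Finite G] (m : ℕ) (hm : m ∣ Nat.card G) :
    m ≤ Nat.card {y : G // y ^ m = 1} := by
  have h1 := Cfsg.Agent.S3993.result (G := G) m hm
  have h2 : 0 < Nat.card {y : G // y ^ m = 1} := by
    haveI : Nonempty {y : G // y ^ m = 1} := ⟨⟨1, one_pow m⟩⟩
    exact Nat.card_pos
  exact Nat.le_of_dvd h2 h1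

/-- A subgroup contained in the solution set and of the right order is the solution set. -/
theorem mem_iff_of_card {G : Type*} [Group G] [Finite G] (H : Subgroup G) (n : ℕ)
    (hsub : ∀ x ∈ H, x ^ n = 1) (hcard : Nat.card {x : G // x ^ n = 1} ≤ Nat.card H) :
    ∀ x : G, x ∈ H ↔ x ^ n = 1 := by
  have hsub' : (H : Set G) ⊆ {x : G | x ^ n = 1} := fun x hx => hsub x hx
  have heq : (H : Set G) = {x : G | x ^ n = 1} := by
    apply Set.eq_of_subset_of_ncard_le hsub' _ (Set.toFinite _)
    rw [← Nat.card_coe_set_eq, ← Nat.card_coe_set_eq]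
    exact hcard
  intro x
  have := Set.ext_iff.mp heq x
  simpa using this

theorem main.{u} (N : ℕ) : ∀ (G : Type u) [Group G] [Finite G] [Group.IsSolvable G], Nat.card G = N →
    ∀ n : ℕ, n ∣ Nat.card G → Nat.card {x : G // x ^ n = 1} = n →
      ∃ H : Subgroup G, ∀ x : G, x ∈ H ↔ x ^ n = 1 := by
  induction N using Nat.strong_induction_on with
  | _ N ih =>
  intro G _ _ _ hN n hn hcount
  by_cases hG : Nontrivial G
  swap
  · rw [not_nontrivial_iff_subsingleton] at hG
    refine ⟨⊤, fun x => ⟨fun _ => ?_, fun _ => Subgroup.mem_top x⟩⟩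
    rw [Subsingleton.elim x 1, one_pow]
  obtain ⟨K, p, i, hKn, hp, hi1, hKcard, hexp⟩ := exists_normal_exponent_p (G := G)
  haveI := hKn
  have hnpos : 0 < n := by
    rw [← hcount]
    haveI : Nonempty {x : G // x ^ n = 1} := ⟨⟨1, one_pow n⟩⟩
    exact Nat.card_pos
  have hGK : Nat.card G = Nat.card (G ⧸ K) * p ^ i := by
    rw [← hKcard]; exact Subgroup.card_eq_card_quotient_mul_card_subgroup K
  have hppos : 0 < p ^ i := pow_pos hp.pos i
  have hlt : Nat.card (G ⧸ K) < N := by
    rw [← hN, hGK]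
    have hq : 0 < Nat.card (G ⧸ K) := Nat.card_pos
    have h2 : 2 ≤ p ^ i := by
      calc 2 ≤ p := hp.two_le
        _ = p ^ 1 := (pow_one p).symm
        _ ≤ p ^ i := Nat.pow_le_pow_right hp.pos hi1
    nlinarith
  -- membership in `K` from the quotient
  have hquot : ∀ (x : G) (m : ℕ), ((x : G ⧸ K)) ^ m = 1 → x ^ (m * p) = 1 := by
    intro x m hx
    have h1 : ((x ^ m : G) : G ⧸ K) = 1 := by rw [QuotientGroup.mk_pow]; exact hx
    rw [QuotientGroup.eq_one_iff] at h1
    rw [pow_mul]
    exact hexp _ h1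
  by_cases hpn : p ∣ n
  · by_cases hin : p ^ i ∣ n
    · -- pass to the quotient with `n / p^i`
      obtain ⟨nb, hnb⟩ := hin
      have hnbpos : 0 < nb := by
        rcases Nat.eq_zero_or_pos nb with h | h
        · rw [h, mul_zero] at hnb; omega
        · exact h
      have hnbdvd : nb ∣ Nat.card (G ⧸ K) := by
        rw [hGK, hnb, mul_comm] at hn
        exact Nat.dvd_of_mul_dvd_mul_right hppos hn
      have hpre : ∀ x : G, ((x : G ⧸ K)) ^ nb = 1 → x ^ n = 1 := by
        intro x hx
        have h1 := hquot x nb hx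
        have h2 : n = nb * p * p ^ (i - 1) := by
          rw [hnb, mul_assoc, ← pow_succ']
          have : i - 1 + 1 = i := by omega
          rw [this, mul_comm]
        rw [h2, pow_mul, h1, one_pow]
      have hle := card_mul_le K nb n hpre
      rw [hcount, hKcard, hnb] at hle
      have hle' : Nat.card {y : G ⧸ K // y ^ nb = 1} ≤ nb := Nat.le_of_mul_le_mul_left hle hppos
      have hge := le_card_solutions (G := G ⧸ K) nb hnbdvd
      have hcnt : Nat.card {y : G ⧸ K // y ^ nb = 1} = nb := le_antisymm hle' hge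
      obtain ⟨Hb, hHb⟩ := ih _ hlt (G ⧸ K) rfl nb hnbdvd hcnt
      refine ⟨Hb.comap (QuotientGroup.mk' K), ?_⟩
      apply mem_iff_of_card
      · intro x hx
        rw [Subgroup.mem_comap] at hx
        exact hpre x ((hHb _).mp hx)
      · have h1 := QuotientGroup.card_preimage_mk K (Hb : Set (G ⧸ K))
        have h2 : Nat.card (Hb : Set (G ⧸ K)) = nb := by
          rw [← hcnt]
          apply Nat.card_congr
          exact Equiv.subtypeEquivRight (fun y => hHb y)
        have h3 : Nat.card (Hb.comap (QuotientGroup.mk' K)) = p ^ i * nb := by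
          rw [← hKcard, ← h2, ← h1]
          rfl
        rw [hcount, h3, hnb]
    · -- impossible
      exfalso
      obtain ⟨a, m, hm, hnam⟩ := Nat.exists_eq_pow_mul_and_not_dvd hnpos.ne' p hp.ne_one
      have ha1 : 1 ≤ a := by
        by_contra h0
        have : a = 0 := by omega
        rw [this, pow_zero, one_mul] at hnam
        rw [hnam] at hpn
        exact hm hpn
      have hai : a < i := by
        by_contra hge
        apply hin
        rw [hnam]
        exact Dvd.dvd.mul_right (pow_dvd_pow p (by omega)) m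
      have hmpos : 0 < m := by
        rcases Nat.eq_zero_or_pos m with h | h
        · rw [h, mul_zero] at hnam; omega
        · exact h
      have hcop : Nat.Coprime m (p ^ i) :=
        Nat.Coprime.pow_right i ((Nat.Prime.coprime_iff_not_dvd hp).mpr hm).symm
      have hmdvd : m ∣ Nat.card (G ⧸ K) := by
        have h1 : m ∣ Nat.card (G ⧸ K) * p ^ i := by
          rw [← hGK]
          exact Dvd.dvd.trans (Dvd.intro_left _ hnam.symm) hn
        exact hcop.dvd_of_dvd_mul_right h1
      have hpre : ∀ x : G, ((x : G ⧸ K)) ^ m = 1 → x ^ n = 1 := by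
        intro x hx
        have h1 := hquot x m hx
        have h2 : n = m * p * p ^ (a - 1) := by
          rw [hnam, mul_assoc, ← pow_succ']
          have : a - 1 + 1 = a := by omega
          rw [this, mul_comm]
        rw [h2, pow_mul, h1, one_pow]
      have hle := card_mul_le K m n hpre
      rw [hcount, hKcard] at hle
      have hge := le_card_solutions (G := G ⧸ K) m hmdvd
      have h3 : p ^ i * m ≤ p ^ a * m := by
        calc p ^ i * m ≤ p ^ i * Nat.card {y : G ⧸ K // y ^ m = 1} :=
              Nat.mul_le_mul_left _ hge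
          _ ≤ n := hle
          _ = p ^ a * m := hnam
      have h4 : p ^ i ≤ p ^ a := Nat.le_of_mul_le_mul_right h3 hmpos
      have h5 := (Nat.pow_le_pow_iff_right hp.one_lt).mp h4
      omega
  · -- `p ∤ n`
    have hcopnp : Nat.Coprime p n := (Nat.Prime.coprime_iff_not_dvd hp).mpr hpn
    have hcop : Nat.Coprime n (p ^ i) := Nat.Coprime.pow_right i hcopnp.symm
    have hndvd : n ∣ Nat.card (G ⧸ K) := by
      rw [hGK] at hn
      exact hcop.dvd_of_dvd_mul_right hn
    -- surjectivity of solutions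
    have hsurj : ∀ y : G ⧸ K, y ^ n = 1 → ∃ x : G, x ^ n = 1 ∧ (x : G ⧸ K) = y := by
      intro y hy
      obtain ⟨x0, rfl⟩ := QuotientGroup.mk_surjective y
      have h1 := hquot x0 n hy
      have htot := Nat.ModEq.pow_totient hcopnp
      have hphi : 0 < Nat.totient n := Nat.totient_pos.mpr hnpos
      refine ⟨x0 ^ (p ^ Nat.totient n), ?_, ?_⟩
      · have h2 : p ^ Nat.totient n = p * p ^ (Nat.totient n - 1) := by
          rw [← pow_succ']
          congr 1; omega
        have h3 : p ^ Nat.totient n * n = (n * p) * p ^ (Nat.totient n - 1) := by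
          rw [h2]; ring
        rw [← pow_mul, h3, pow_mul, h1, one_pow]
      · rw [QuotientGroup.mk_pow, pow_eq_pow_mod _ hy, htot, ← pow_eq_pow_mod _ hy, pow_one]
    have hle' : Nat.card {y : G ⧸ K // y ^ n = 1} ≤ n := by
      let f : {x : G // x ^ n = 1} → {y : G ⧸ K // y ^ n = 1} := fun x =>
        ⟨(x.1 : G ⧸ K), by rw [← QuotientGroup.mk_pow, x.2]; rfl⟩
      have hf : Function.Surjective f := by
        rintro ⟨y, hy⟩
        obtain ⟨x, hx, hxy⟩ := hsurj y hy
        exact ⟨⟨x, hx⟩, Subtype.ext hxy⟩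
      have h1 := Nat.card_le_card_of_surjective f hf
      rwa [hcount] at h1
    have hge := le_card_solutions (G := G ⧸ K) n hndvd
    have hcnt : Nat.card {y : G ⧸ K // y ^ n = 1} = n := le_antisymm hle' hge
    obtain ⟨Hb, hHb⟩ := ih _ hlt (G ⧸ K) rfl n hndvd hcnt
    -- the preimage `M` of order `n * p^i`
    set M : Subgroup G := Hb.comap (QuotientGroup.mk' K) with hM
    have hKM : K ≤ M := by
      intro k hk
      rw [hM, Subgroup.mem_comap]
      have : (QuotientGroup.mk' K) k = 1 := (QuotientGroup.eq_one_iff k).mpr hk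
      rw [this]; exact Hb.one_mem
    have hMcard : Nat.card M = p ^ i * n := by
      have h1 := QuotientGroup.card_preimage_mk K (Hb : Set (G ⧸ K))
      have h2 : Nat.card (Hb : Set (G ⧸ K)) = n := by
        rw [← hcnt]
        apply Nat.card_congr
        exact Equiv.subtypeEquivRight (fun y => hHb y)
      rw [← hKcard, ← h2, ← h1]
      rfl
    -- Schur–Zassenhaus inside `M`
    haveI : (K.subgroupOf M).Normal := Subgroup.normal_subgroupOf
    have hK'card : Nat.card (K.subgroupOf M) = p ^ i := by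
      rw [← hKcard]
      exact Nat.card_congr (Subgroup.subgroupOfEquivOfLe hKM).toEquiv
    have hK'idx : (K.subgroupOf M).index = n := by
      have h1 := Subgroup.card_mul_index (K.subgroupOf M)
      rw [hK'card, hMcard] at h1
      exact Nat.eq_of_mul_eq_mul_left hppos h1
    obtain ⟨H1, hH1⟩ := Subgroup.exists_right_complement'_of_coprime (N := K.subgroupOf M)
      (by rw [hK'card, hK'idx]; exact hcop.symm)
    have hH1card : Nat.card H1 = n := by
      rw [← hK'idx]; exact (hH1.symm.index_eq_card).symm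
    refine ⟨H1.map M.subtype, ?_⟩
    have hHcard : Nat.card (H1.map M.subtype) = n := by
      rw [Subgroup.card_map_of_injective M.subtype_injective, hH1card]
    apply mem_iff_of_card
    · intro x hx
      have h1 : x ^ Nat.card (H1.map M.subtype) = 1 := by
        have := pow_card_eq_one' (G := ↥(H1.map M.subtype)) (x := ⟨x, hx⟩)
        simpa using congrArg Subtype.val this
      rw [hHcard] at h1
      exact h1
    · rw [hcount, hHcard]

/-- If `G` is a finite solvable group and `n` divides the order of `G` and exactly `n` elements `x` of `G` satisfy `x^n = 1`, then these elements form a normal subgroup. -/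
theorem result {G : Type*} [Group G] [Finite G] [Group.IsSolvable G] (n : ℕ) (hn : n ∣ Nat.card G) (hcount : Nat.card {x : G // x ^ n = 1} = n) : ∃ H : Subgroup G, H.Normal ∧ (H : Set G) = {x : G | x ^ n = 1} := by
  obtain ⟨H, hH⟩ := main (Nat.card G) G rfl n hn hcount
  refine ⟨H, ⟨fun x hx g => ?_⟩, ?_⟩
  · rw [hH] at hx ⊢
    rw [conj_pow, hx, mul_one, mul_inv_cancel]
  · ext x
    exact hH x

end Cfsg.Agent.S4213
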