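import Cfsg.Statements.S4217
import Cfsg.Agent.Lib.Helper70.Gaschutz

set_option autoImplicit false
open Cfsg
open scoped Pointwise

namespace Cfsg.Agent.S4217

/-- Let `A` be an abelian normal subgroup of the finite group `G`. Then `A` has a complement in `G` if and only if, for every prime `p` dividing the index of `A`, there are a Sylow `p`-subgroup `S` of `G/A` and a subgroup `K` of `G` with `K ∩ A = 1` and `KA` equal to the preimage of `S` (that is, `A` has a complement in the preimage of a Sylow `p`-subgroup of `G/A`). -/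
theorem result {G : Type*} [Group G] [Finite G] (A : Subgroup G) [A.Normal] (hA : IsMulCommutative A) : (∃ K : Subgroup G, K.IsComplement' A) ↔ ∀ p : ℕ, p.Prime → p ∣ A.index → ∃ (S : Sylow p (G ⧸ A)) (K : Subgroup G), K ⊓ A = ⊥ ∧ K ⊔ A = (S : Subgroup (G ⧸ A)).comap (QuotientGroup.mk' A) := by
  constructor
  · rintro ⟨K, hK⟩ p hp _
    have : Fact p.Prime := ⟨hp⟩
    refine ⟨default, K ⊓ (((default : Sylow p (G ⧸ A)) : Subgroup (G ⧸ A)).comap
      (QuotientGroup.mk' A)), ?_, ?_⟩
    · rw [inf_right_comm, hK.disjoint.eq_bot, bot_inf_eq]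
    · set P := ((default : Sylow p (G ⧸ A)) : Subgroup (G ⧸ A)).comap (QuotientGroup.mk' A)
        with hP
      have hAP : A ≤ P := by
        intro a ha
        rw [hP, Subgroup.mem_comap]
        have : QuotientGroup.mk' A a = 1 := (QuotientGroup.eq_one_iff a).mpr ha
        rw [this]; exact Subgroup.one_mem _
      apply le_antisymm
      · exact sup_le inf_le_right hAP
      · intro x hx
        have hx' : x ∈ ((K : Set G) * (A : Set G)) := by
          rw [hK.mul_eq]; trivial
        obtain ⟨k, hk, a, ha, rfl⟩ := hx'
        have hkP : k ∈ P := by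
          have : k = (k * a) * a⁻¹ := by group
          rw [this]
          exact P.mul_mem hx (P.inv_mem (hAP ha))
        exact Subgroup.mul_mem _ (Subgroup.mem_sup_left ⟨hk, hkP⟩) (Subgroup.mem_sup_right ha)
  · intro h
    exact Cfsg.Agent.Helper70.gaschutz A hA h

end Cfsg.Agent.S4217
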