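import Cfsg.Statements.S4218
import Mathlib
import Cfsg.Agent.Lib.Helper24.HH125
import Cfsg.Agent.Lib.Helper2.PGroup

set_option autoImplicit false
open Cfsg

namespace Cfsg.Agent.S4218

open scoped commutatorElement

/-- The Frattini subgroup is invariant under isomorphisms. -/
theorem frattini_comap_mulEquiv {A B : Type*} [Group A] [Group B] (e : A ≃* B) :
    (frattini B).comap e.toMonoidHom = frattini A := by
  apply le_antisymm
  · have h1 := frattini_le_comap_frattini_of_surjective (φ := e.symm.toMonoidHom) e.symm.surjective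
    intro x hx
    have h2 := h1 hx
    rw [Subgroup.mem_comap] at h2
    simpa using h2
  · exact frattini_le_comap_frattini_of_surjective (φ := e.toMonoidHom) e.surjective

theorem mem_frattini_quotient_iff {A B : Type*} [Group A] [Group B] (φ : A →* B)
    (hφ : Function.Surjective φ) (N : Subgroup A) [hNn : N.Normal] (hN : N = φ.ker) (y : A) :
    QuotientGroup.mk' N y ∈ frattini (A ⧸ N) ↔ φ y ∈ frattini B := by
  subst hN
  let e : A ⧸ φ.ker ≃* B := QuotientGroup.quotientKerEquivOfSurjective φ hφ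
  have he : e (QuotientGroup.mk' φ.ker y) = φ y := rfl
  rw [← frattini_comap_mulEquiv e, Subgroup.mem_comap]
  exact Iff.rfl

/-- Let `G` be a finite `p`-solvable group, `N₀ = O_{p'}(G)`, `P₁ = O_{p',p}(G)`, and let `F ≤ P₁` be the preimage of the Frattini subgroup of `P₁/N₀`. Then an element `g` of `G` induces the identity on `P₁/F` by conjugation (that is, `g x g⁻¹ x⁻¹ ∈ F` for all `x ∈ P₁`) if and only if `g ∈ P₁`: the group `G/P₁` acts faithfully on `P₁/F`. -/
theorem result {G : Type*} [Group G] [Finite G] {p : ℕ} [Fact p.Prime] (hG : Cfsg.IsPSolvable p G) (g : G) : (∀ x ∈ Cfsg.pPrimePCore p G, g * x * g⁻¹ * x⁻¹ ∈ ((frattini (↥(Cfsg.pPrimePCore p G) ⧸ (Cfsg.pPrimeCore p G).subgroupOf (Cfsg.pPrimePCore p G))).comap (QuotientGroup.mk' ((Cfsg.pPrimeCore p G).subgroupOf (Cfsg.pPrimePCore p G)))).map (Cfsg.pPrimePCore p G).subtype) ↔ g ∈ Cfsg.pPrimePCore p G := by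
  set N₀ := Cfsg.pPrimeCore p G with hN₀
  set π := QuotientGroup.mk' N₀ with hπ
  set Pbar := Cfsg.pCore p (G ⧸ N₀) with hPbar
  have hP₁ : Cfsg.pPrimePCore p G = Pbar.comap π := rfl
  rw [hP₁]
  set P₁ := Pbar.comap π with hP₁def
  -- the surjection P₁ → Pbar
  let ψ : ↥P₁ →* ↥Pbar := π.subgroupComap Pbar
  have hψ : Function.Surjective ψ :=
    MonoidHom.subgroupComap_surjective_of_surjective π Pbar (QuotientGroup.mk'_surjective N₀)
  have hψval : ∀ y : ↥P₁, ((ψ y : ↥Pbar) : G ⧸ N₀) = π (y : G) := fun _ => rfl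
  have hker : N₀.subgroupOf P₁ = ψ.ker := by
    ext y
    rw [Subgroup.mem_subgroupOf, MonoidHom.mem_ker]
    constructor
    · intro hy
      apply Subtype.ext
      rw [hψval]
      exact (QuotientGroup.eq_one_iff _).mpr hy
    · intro hy
      have := congrArg Subtype.val hy
      rw [hψval] at this
      exact (QuotientGroup.eq_one_iff _).mp this
  have hT : ∀ y : ↥P₁, QuotientGroup.mk' (N₀.subgroupOf P₁) y ∈ frattini (↥P₁ ⧸ N₀.subgroupOf P₁)
      ↔ ψ y ∈ frattini ↥Pbar :=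
    fun y => mem_frattini_quotient_iff ψ hψ (N₀.subgroupOf P₁) hker y
  have hPbarp : IsPGroup p ↥Pbar := Cfsg.Agent.Helper55.isPGroup_pCore
  constructor
  · intro h
    show g ∈ Pbar.comap π
    rw [Subgroup.mem_comap]
    apply Cfsg.Agent.Helper24.mem_pCore_of_commutator_mem_frattini
      (Cfsg.Agent.Helper76.IsPSolvable.quotient hG N₀)
      (Cfsg.Agent.Helper55.pPrimeCore_quotient_eq_bot (G := G) p)
    intro xbar hxbar
    obtain ⟨x, rfl⟩ := QuotientGroup.mk'_surjective N₀ xbar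
    have hx : x ∈ P₁ := hxbar
    obtain ⟨y, hy, hyz⟩ := h x hx
    have h2 := (hT y).mp hy
    refine ⟨ψ y, h2, ?_⟩
    show ((ψ y : ↥Pbar) : G ⧸ N₀) = _
    rw [hψval]
    have : (P₁.subtype y : G) = (y : G) := rfl
    rw [this] at hyz
    rw [hyz]
    simp only [map_mul, map_inv]
    rfl
  · intro hg x hx
    have hz : g * x * g⁻¹ * x⁻¹ ∈ P₁ :=
      P₁.mul_mem (P₁.mul_mem (P₁.mul_mem hg hx) (P₁.inv_mem hg)) (P₁.inv_mem hx)
    refine ⟨⟨_, hz⟩, (hT _).mpr ?_, rfl⟩
    have h3 : ψ ⟨_, hz⟩ = ⁅ψ ⟨g, hg⟩, ψ ⟨x, hx⟩⁆ := by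
      apply Subtype.ext
      rw [commutatorElement_def]
      simp only [Subgroup.coe_mul, Subgroup.coe_inv, hψval]
      simp
    rw [h3]
    exact Cfsg.Agent.Helper2.commutatorElement_mem_frattini hPbarp _ _

end Cfsg.Agent.S4218
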