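import Cfsg.Statements.S4220
import Mathlib
import Cfsg.Agent.Lib.Helper95.OrbKerGlue
import Cfsg.Agent.S0711
import Cfsg.Agent.S0713
import Cfsg.Agent.S0415
import Cfsg.Agent.S0416
import Cfsg.Agent.S0417
-- import your own Cfsg.Agent.* helpers here

set_option autoImplicit false
open Cfsg

namespace Cfsg.Agent.S4220

open MulAction Equiv Cfsg.Agent.Helper95.OrbKer

universe u

section

variable {α : Type u} [Fintype α] [DecidableEq α] (G : Subgroup (Perm α))

/-- a nonidentity element of small support in an `(r + 1)`-transitive group. -/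
theorem of_small_support {r : ℕ} (hr : 3 ≤ r) (hn : r + 1 ≤ Fintype.card α)
    (hG : IsMultiplyPretransitive G α (r + 1)) (g : Perm α) (hg : g ∈ G) (hg1 : g ≠ 1)
    (hs : g.support.card < 2 * r) : alternatingGroup α ≤ G :=
  (Cfsg.Agent.S0711.result G (k := r + 1) (by omega) hn hG g hg hg1 (by omega)).2

/-- an element of `G` moving a point and fixing everything outside a small set. -/
theorem of_small_set {r m : ℕ} (hr : 3 ≤ r) (hm : m < 2 * r) (hn : r + 1 ≤ Fintype.card α)
    (hG : IsMultiplyPretransitive G α (r + 1))
    (h : ∃ g : G, (∃ ω : α, g • ω ≠ ω) ∧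
      ∃ S : Set α, S.ncard ≤ m ∧ ∀ ω : α, ω ∉ S → g • ω = ω) :
    alternatingGroup α ≤ G := by
  classical
  obtain ⟨g, ⟨ω, hω⟩, S, hS, hgS⟩ := h
  refine of_small_support G hr hn hG (g : Perm α) g.2 ?_ ?_
  · intro h1
    apply hω
    show (g : Perm α) ω = ω
    rw [h1]
    rfl
  · have hsub : (g : Perm α).support ⊆ S.toFinset := by
      intro y hy
      rw [Set.mem_toFinset]
      by_contra hyS
      rw [Perm.mem_support] at hy
      exact hy (hgS y hyS)
    have h2 := Finset.card_le_card hsub
    rw [← Set.ncard_eq_toFinset_card'] at h2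
    omega

/-- the case `k = 1`: Jordan. -/
theorem case_one {p r : ℕ} (hp : p.Prime) (hn : Fintype.card α = p + r) (hr : 3 ≤ r)
    (hG : IsMultiplyPretransitive G α (r + 1)) : alternatingGroup α ≤ G := by
  haveI : Fact p.Prime := ⟨hp⟩
  have hle : r + 1 ≤ Fintype.card α := by have := hp.two_le; omega
  obtain ⟨x⟩ : Nonempty (Fin (r + 1) ↪ α) :=
    Function.Embedding.nonempty_of_card_le (by rw [Fintype.card_fin]; exact hle)
  have hdvd := sub_dvd_card_stabilizer_init hG x
  rw [Nat.card_eq_fintype_card, hn, Nat.add_sub_cancel] at hdvd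
  obtain ⟨h, hh⟩ := exists_prime_orderOf_dvd_card' p hdvd
  -- as a permutation
  have hord : orderOf ((h : G) : Perm α) = p := by
    rw [Subgroup.orderOf_coe, Subgroup.orderOf_coe]
    exact hh
  have hfix : ∀ i : Fin r, ((h : G) : Perm α) (x i.castSucc) = x i.castSucc := by
    intro i
    have h1 : (h : G) • Fin.Embedding.init x = Fin.Embedding.init x := h.2
    exact congrArg (fun f : Fin r ↪ α => f i) h1
  have hsupp : ((h : G) : Perm α).support.card ≤ p := by
    have hsub : ((h : G) : Perm α).support ⊆
        (Finset.univ.image (fun i : Fin r => x i.castSucc))ᶜ := by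
      intro y hy
      rw [Finset.mem_compl, Finset.mem_image]
      rintro ⟨i, _, rfl⟩
      rw [Perm.mem_support] at hy
      exact hy (hfix i)
    have h2 := Finset.card_le_card hsub
    rw [Finset.card_compl, Finset.card_image_of_injective _
      (fun i j hij => Fin.castSucc_injective _ (x.injective hij)), Finset.card_univ,
      Fintype.card_fin, hn] at h2
    omega
  obtain ⟨m, hm⟩ := Perm.cycleType_prime_order (σ := ((h : G) : Perm α)) (by rw [hord]; exact hp)
  rw [hord] at hm
  have hsum := Perm.sum_cycleType ((h : G) : Perm α)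
  rw [hm, Multiset.sum_replicate, smul_eq_mul] at hsum
  have hm0 : m = 0 := by
    by_contra hne
    have : 2 * p ≤ (m + 1) * p := Nat.mul_le_mul_right p (by omega)
    have := hp.pos
    omega
  subst hm0
  have hcyc : ((h : G) : Perm α).IsCycle := by
    rw [← Perm.card_cycleType_eq_one, hm]
    simp
  have hprim : IsPreprimitive G α := by
    apply isPreprimitive_of_is_two_pretransitive
    exact isMultiplyPretransitive_of_le (n := r + 1) (by omega)
      (by rw [Nat.card_eq_fintype_card]; exact hle)
  refine Cfsg.Agent.S0713.result G hprim hp (by have := hp.two_le; omega) (by omega) hcyc ?_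
    (h : G).2
  omega

/-- the case `p = 3`, `k = 2`. -/
theorem case_three {r : ℕ} (hn : Fintype.card α = 6 + r) (hr : 3 ≤ r)
    (hG : IsMultiplyPretransitive G α (r + 1)) : alternatingGroup α ≤ G := by
  by_cases hsharp : ∀ x : Fin (r + 1) ↪ α, stabilizer G x = ⊥
  · exfalso
    haveI := hG
    rcases (by omega : r + 1 = 4 ∨ r + 1 = 5 ∨ 6 ≤ r + 1) with h4 | h5 | h6
    · have hr3 : r = 3 := by omega
      subst hr3
      have := Cfsg.Agent.S0415.result G (by omega) hsharp
      omega
    · have hr4 : r = 4 := by omega
      subst hr4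
      have := Cfsg.Agent.S0416.result G (by omega) hsharp
      omega
    · have := Cfsg.Agent.S0417.result G (r + 1) h6 (by omega) hsharp
      omega
  · push_neg at hsharp
    obtain ⟨x, hx⟩ := hsharp
    obtain ⟨g, hg⟩ := (Subgroup.ne_bot_iff_exists_ne_one).mp hx
    refine of_small_support G hr (by omega) hG ((g : G) : Perm α) (g : G).2 ?_ ?_
    · intro h1
      apply hg
      exact Subtype.ext (Subtype.ext h1)
    · have hfix : ∀ i : Fin (r + 1), ((g : G) : Perm α) (x i) = x i := by
        intro i
        have h1 : (g : G) • x = x := g.2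
        exact congrArg (fun f : Fin (r + 1) ↪ α => f i) h1
      have hsub : ((g : G) : Perm α).support ⊆ (Finset.univ.image (fun i : Fin (r + 1) => x i))ᶜ := by
        intro y hy
        rw [Finset.mem_compl, Finset.mem_image]
        rintro ⟨i, _, rfl⟩
        rw [Perm.mem_support] at hy
        exact hy (hfix i)
      have h2 := Finset.card_le_card hsub
      rw [Finset.card_compl, Finset.card_image_of_injective _ x.injective, Finset.card_univ,
        Fintype.card_fin, hn] at h2
      omega

end

/-- the induction. -/
theorem main (p : ℕ) (hp : p.Prime) : ∀ (k : ℕ) (α : Type u) [Fintype α] [DecidableEq α]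
    (G : Subgroup (Perm α)) (r : ℕ), Fintype.card α = k * p + r → 1 ≤ k → k < p → k < r →
    ¬ (k = 1 ∧ r = 2) → IsMultiplyPretransitive G α (r + 1) → alternatingGroup α ≤ G := by
  intro k
  induction k using Nat.strong_induction_on with
  | _ k ih =>
    intro α _ _ G r hn hk hkp hkr hex hG
    by_cases hk1 : k = 1
    · subst hk1
      rw [one_mul] at hn
      exact case_one G hp hn (by omega) hG
    · have hk2 : 2 ≤ k := by omega
      have hr : 3 ≤ r := by omega
      by_cases hp3 : p = 3
      · subst hp3
        have hk' : k = 2 := by omega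
        subst hk'
        exact case_three G (by omega) hr hG
      · have hp5 : 5 ≤ p := by
          by_contra hcon
          have h4 : p = 4 := by omega
          subst h4
          exact absurd hp (by norm_num)
        haveI : Fact p.Prime := ⟨hp⟩
        have hkp' : 0 < k * p := Nat.mul_pos (by omega) hp.pos
        have hle : r + 1 ≤ Fintype.card α := by omega
        obtain ⟨x⟩ : Nonempty (Fin (r + 1) ↪ α) :=
          Function.Embedding.nonempty_of_card_le (by rw [Fintype.card_fin]; exact hle)
        by_cases hdvd : p ∣ Nat.card (stabilizer G x)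
        · have h := glueA (𝔾 := G) (by omega) hn hk2 hkp hkr hG x hdvd
            (fun β _ _ G' j hj1 hjk hc hG' =>
              ih j hjk β G' r hc hj1 (by omega) (by omega) (by omega) hG')
          exact of_small_set G hr (by omega : 4 < 2 * r) hle hG h
        · have h := glueB (𝔾 := G) hp5 hn hk2 hkp hkr hG x hdvd
          exact of_small_set G hr (by omega : r < 2 * r) hle hG h

/-- Let `n = kp + r` with `p` prime, `1 ≤ k < p` and `r > k`, excluding the case `k = 1, r = 2`. Then a permutation group of degree `n` that is `(r + 1)`-fold transitive contains the alternating group. -/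
theorem result {α : Type*} [Fintype α] [DecidableEq α] (G : Subgroup (Equiv.Perm α)) {k p r : ℕ} (hp : p.Prime) (hn : Fintype.card α = k * p + r) (hk : 1 ≤ k) (hpk : k < p) (hrk : k < r) (hex : ¬ (k = 1 ∧ r = 2)) (hG : MulAction.IsMultiplyPretransitive G α (r + 1)) : alternatingGroup α ≤ G := by
  exact main p hp k α G r hn hk hpk hrk hex hG

end Cfsg.Agent.S4220
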