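import Cfsg.Statements.S4230
import Mathlib

set_option autoImplicit false
open Cfsg

namespace Cfsg.Agent.S4230

open Polynomial

/-- Let p be an odd prime, q a natural number not divisible by p, and e the multiplicative order of q modulo p. For a natural number f, p divides the value at q of the f-th cyclotomic polynomial if and only if f = e·p^j for some j ≥ 0. -/
theorem result (p q f : ℕ) (hp : p.Prime) (hp2 : p ≠ 2) (hpq : ¬ p ∣ q) :
    ((p : ℤ) ∣ (Polynomial.cyclotomic f ℤ).eval (q : ℤ)) ↔ ∃ j : ℕ, f = orderOf (q : ZMod p) * p ^ j := by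
  have : Fact p.Prime := ⟨hp⟩
  have hroot : ((p : ℤ) ∣ (Polynomial.cyclotomic f ℤ).eval (q : ℤ)) ↔
      (Polynomial.cyclotomic f (ZMod p)).IsRoot (q : ZMod p) := by
    rw [← ZMod.intCast_zmod_eq_zero_iff_dvd, Polynomial.IsRoot.def,
      ← Polynomial.map_cyclotomic_int f (ZMod p)]
    have := Polynomial.eval_intCast_map (Int.castRingHom (ZMod p)) (cyclotomic f ℤ) (q : ℤ)
    simp only [Int.cast_natCast, eq_intCast] at this
    rw [this]
  rw [hroot]
  have hq0 : (q : ZMod p) ≠ 0 := by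
    rw [Ne, ZMod.natCast_eq_zero_iff]; exact hpq
  have hordpos : 0 < orderOf (q : ZMod p) := by
    apply orderOf_pos_iff.mpr
    rw [isOfFinOrder_iff_pow_eq_one]
    exact ⟨p - 1, by have := hp.two_le; omega, ZMod.pow_card_sub_one_eq_one hq0⟩
  have hordcop : ¬ p ∣ orderOf (q : ZMod p) := by
    intro hdiv
    have h1 : orderOf (q : ZMod p) ∣ p - 1 := by
      apply orderOf_dvd_of_pow_eq_one
      exact ZMod.pow_card_sub_one_eq_one hq0
    have h2 : p ∣ p - 1 := hdiv.trans h1
    have h3 : p ≤ p - 1 := Nat.le_of_dvd (by have := hp.two_le; omega) h2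
    have := hp.two_le
    omega
  rcases Nat.eq_zero_or_pos f with hf | hf
  · subst hf
    simp only [cyclotomic_zero, IsRoot.def, eval_one, one_ne_zero, false_iff]
    rintro ⟨j, hj⟩
    have : 0 < orderOf (q : ZMod p) * p ^ j := Nat.mul_pos hordpos (pow_pos hp.pos j)
    omega
  · obtain ⟨e, m, hm, hfm⟩ := Nat.exists_eq_pow_mul_and_not_dvd hf.ne' p hp.ne_one
    have hmne : NeZero ((m : ℕ) : ZMod p) := ⟨by rw [Ne, ZMod.natCast_eq_zero_iff]; exact hm⟩
    rw [hfm, isRoot_cyclotomic_prime_pow_mul_iff_of_charP, IsPrimitiveRoot.iff_orderOf]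
    constructor
    · intro h
      exact ⟨e, by rw [h, mul_comm]⟩
    · rintro ⟨j, hj⟩
      -- p ^ e * m = ord * p ^ j with p ∤ m, p ∤ ord
      have hcop1 : Nat.Coprime (p ^ e) (orderOf (q : ZMod p)) :=
        Nat.Coprime.pow_left _ ((Nat.Prime.coprime_iff_not_dvd hp).mpr hordcop)
      have hcop2 : Nat.Coprime (p ^ j) m :=
        Nat.Coprime.pow_left _ ((Nat.Prime.coprime_iff_not_dvd hp).mpr hm)
      have h1 : orderOf (q : ZMod p) ∣ m := by
        have : orderOf (q : ZMod p) ∣ p ^ e * m := ⟨p ^ j, hj⟩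
        exact (Nat.Coprime.dvd_mul_left hcop1.symm).mp this
      have h2 : m ∣ orderOf (q : ZMod p) := by
        have : m ∣ orderOf (q : ZMod p) * p ^ j := ⟨p ^ e, by rw [← hj, mul_comm]⟩
        exact (Nat.Coprime.dvd_mul_right hcop2.symm).mp this
      exact Nat.dvd_antisymm h1 h2

end Cfsg.Agent.S4230
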