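import Cfsg.Statements.S4231
import Mathlib
import Cfsg.Agent.Lib.Helper71.AutAlt
import Cfsg.Agent.Lib.Helper71.PermPGroup

set_option autoImplicit false
open Cfsg

namespace Cfsg.Agent.S4231

open Equiv Equiv.Perm Cfsg.Agent.Helper71.AutAlt Cfsg.Agent.Helper71.PermPGroup

/-- A non-abelian Sylow `r`-subgroup (for the larger prime `r`) forces an element of order
`r * s`. -/
theorem core (n : ℕ) (hn : 5 ≤ n) (G : Subgroup (MulAut (alternatingGroup (Fin n))))
    (hG : (MulAut.conj : alternatingGroup (Fin n) →* MulAut (alternatingGroup (Fin n))).range ≤ G)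
    (r s : ℕ) [hr : Fact r.Prime] [hs : Fact s.Prime] (hsr : s < r) (R : Sylow r G)
    (hR : ¬ IsMulCommutative (R : Subgroup G)) : ∃ g : G, orderOf g = r * s := by
  have h4 : 4 ≤ Fintype.card (Fin n) := by rw [Fintype.card_fin]; omega
  have hinj := conjNormal_injective (α := Fin n) h4
  have hr3 : 3 ≤ r := by have := hs.1.two_le; omega
  have hrodd : Odd r := hr.1.odd_of_ne_two (by omega)
  -- elements of `R` are induced by permutations
  have hK : ∀ z : G, z ∈ (R : Subgroup G) →
      (z : MulAut (alternatingGroup (Fin n))) ∈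
        (MulAut.conjNormal : Perm (Fin n) →* MulAut (alternatingGroup (Fin n))).range := by
    intro z hz
    apply mem_range_of_odd_order n hn
    obtain ⟨k, hk⟩ := (IsPGroup.iff_orderOf.1 R.isPGroup') ⟨z, hz⟩
    rw [Subgroup.orderOf_mk] at hk
    rw [Subgroup.orderOf_coe, hk]
    exact hrodd.pow
  -- two non-commuting elements
  have hnc : ∃ x y : G, x ∈ (R : Subgroup G) ∧ y ∈ (R : Subgroup G) ∧ x * y ≠ y * x := by
    by_contra hcon
    push Not at hcon
    exact hR ⟨⟨fun a b => Subtype.ext (hcon a.1 b.1 a.2 b.2)⟩⟩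
  obtain ⟨x, y, hx, hy, hxy⟩ := hnc
  obtain ⟨σx, hσx⟩ := hK x hx
  obtain ⟨σy, hσy⟩ := hK y hy
  set P' : Subgroup (Perm (Fin n)) :=
    ((R : Subgroup G).map G.subtype).comap
      (MulAut.conjNormal : Perm (Fin n) →* MulAut (alternatingGroup (Fin n))) with hP'
  have hP'pg : IsPGroup r P' := by
    intro σ
    obtain ⟨z, hz, hzσ⟩ := σ.2
    obtain ⟨k, hk⟩ := R.isPGroup' ⟨z, hz⟩
    refine ⟨k, Subtype.ext ?_⟩
    apply hinj
    rw [Subgroup.coe_pow, map_pow, ← hzσ, Subgroup.coe_one, map_one]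
    have := congrArg (fun w : (R : Subgroup G) => ((w : G) : MulAut (alternatingGroup (Fin n)))) hk
    simpa using this
  have hσxP : σx ∈ P' := ⟨x, hx, hσx.symm⟩
  have hσyP : σy ∈ P' := ⟨y, hy, hσy.symm⟩
  have hn2 : r ^ 2 ≤ n := by
    by_contra hlt
    push Not at hlt
    have hc := comm_of_pgroup_small P' hP'pg (by rw [Fintype.card_fin]; exact hlt) σx σy hσxP hσyP
    apply hxy
    apply Subtype.ext
    rw [Subgroup.coe_mul, Subgroup.coe_mul, ← hσx, ← hσy, ← map_mul, ← map_mul, hc]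
  obtain ⟨g, hg⟩ := exists_orderOf_mul n r s hr.1 hs.1 hsr hn2
  have hmem : MulAut.conj g ∈ G := hG ⟨g, rfl⟩
  refine ⟨⟨MulAut.conj g, hmem⟩, ?_⟩
  rw [Subgroup.orderOf_mk, ← hg]
  have hconj : (MulAut.conj g : MulAut (alternatingGroup (Fin n))) =
      MulAut.conjNormal (g : Perm (Fin n)) := (MulAut.conjNormal_val (h := g)).symm
  rw [hconj, orderOf_injective _ hinj, Subgroup.orderOf_coe]

/-- Let n ≥ 5 and let G be a group of automorphisms of the alternating group of degree n containing all inner automorphisms. If p ≠ q are primes and G has no element of order pq, then every Sylow p-subgroup of G is abelian or every Sylow q-subgroup of G is abelian. -/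
theorem result (n : ℕ) (hn : 5 ≤ n) (G : Subgroup (MulAut (alternatingGroup (Fin n))))
    (hG : (MulAut.conj : alternatingGroup (Fin n) →* MulAut (alternatingGroup (Fin n))).range ≤ G)
    (p q : ℕ) [Fact p.Prime] [Fact q.Prime] (hpq : p ≠ q) (h : ∀ g : G, orderOf g ≠ p * q) :
    (∀ P : Sylow p G, IsMulCommutative (P : Subgroup G)) ∨ (∀ Q : Sylow q G, IsMulCommutative (Q : Subgroup G)) := by
  by_contra hcon
  rw [not_or] at hcon
  obtain ⟨hP, hQ⟩ := hcon
  push Not at hP hQ
  obtain ⟨P, hP⟩ := hP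
  obtain ⟨Q, hQ⟩ := hQ
  rcases lt_or_gt_of_ne hpq with h1 | h1
  · obtain ⟨g, hg⟩ := core n hn G hG q p h1 Q hQ
    exact h g (by rw [hg, mul_comm])
  · obtain ⟨g, hg⟩ := core n hn G hG p q h1 P hP
    exact h g hg

end Cfsg.Agent.S4231
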