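import Cfsg.Statements.S4238
import Cfsg.Agent.Lib.Helper70.PSection
import Cfsg.Agent.Lib.Helper2.Frobenius

set_option autoImplicit false
open Cfsg

namespace Cfsg.Agent.S4238

universe u

/-- A finite `p`-group has an element whose order is the exponent. -/
theorem exists_orderOf_eq_exponent_of_isPGroup {K : Type*} [Group K] [Finite K] {p : ℕ}
    [hp : Fact p.Prime] (hK : IsPGroup p K) : ∃ k : K, orderOf k = Monoid.exponent K := by
  obtain ⟨k, hk⟩ := Finite.exists_max (fun x : K => orderOf x)
  refine ⟨k, Nat.dvd_antisymm (Monoid.order_dvd_exponent k) ?_⟩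
  apply Monoid.exponent_dvd_of_forall_pow_eq_one
  intro x
  obtain ⟨a, ha⟩ := (IsPGroup.iff_orderOf.mp hK) x
  obtain ⟨b, hb⟩ := (IsPGroup.iff_orderOf.mp hK) k
  have hle : orderOf x ≤ orderOf k := hk x
  rw [ha, hb] at hle
  have hab : a ≤ b := (Nat.pow_le_pow_iff_right hp.out.one_lt).mp hle
  have hdvd : orderOf x ∣ orderOf k := by
    rw [ha, hb]; exact pow_dvd_pow p hab
  exact orderOf_dvd_iff_pow_eq_one.mp hdvd

/-- Normal `p`-complements pass to homomorphic images. -/
theorem hasNormalPComplement_of_surjective {G Q : Type*} [Group G] [Finite G] [Group Q] [Finite Q]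
    {p : ℕ} [hp : Fact p.Prime] (f : G →* Q) (hf : Function.Surjective f)
    (h : Cfsg.HasNormalPComplement p G) : Cfsg.HasNormalPComplement p Q := by
  obtain ⟨P, M, hMn, hMc⟩ := h
  have hMcop : Nat.Coprime (Nat.card M) p := by
    rw [← hMc.index_eq_card]
    exact ((Nat.Prime.coprime_iff_not_dvd hp.out).mpr P.not_dvd_index).symm
  obtain ⟨a, ha⟩ := IsPGroup.iff_card.mp P.isPGroup'
  have hMidx : M.index = p ^ a := by rw [hMc.symm.index_eq_card, ha]
  have h1 : (M.map f).index ∣ p ^ a := by
    rw [← hMidx]; exact Subgroup.index_map_dvd M hf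
  obtain ⟨b, -, hb⟩ := (Nat.dvd_prime_pow hp.out).mp h1
  have h2 : Nat.card (M.map f) ∣ Nat.card M := Subgroup.card_map_dvd M f
  exact Cfsg.Agent.Helper2.hasNormalPComplement_of_card_coprime_of_index_pow (M.map f)
    (hMn.map f hf) (Nat.Coprime.coprime_dvd_left h2 hMcop) b hb

theorem frobCond_of_sections {G : Type u} [Group G] [Finite G] (p : ℕ) [Fact p.Prime]
    (hsec : ∀ (H : Subgroup G) (N : Subgroup H) [N.Normal], Cfsg.pPrimeCore p (H ⧸ N) = ⊥ →
        ∃ k : H ⧸ N, orderOf k = Monoid.exponent (H ⧸ N)) :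
    Cfsg.Agent.Helper2.FrobCond p G := by
  have key : ∀ n : ℕ, ∀ X : Subgroup G, Nat.card X = n → IsPGroup p X →
      ∀ g ∈ Subgroup.normalizer (X : Set G), Nat.Coprime (orderOf g) p →
        g ∈ Subgroup.centralizer (X : Set G) := by
    intro n
    induction n using Nat.strong_induction_on with
    | _ n IH =>
      intro X hcard hX g hgN hgo
      by_contra hnc
      obtain ⟨H, hH⟩ : ∃ H : Subgroup G, H = X ⊔ Subgroup.zpowers g := ⟨_, rfl⟩
      have hXH : X ≤ H := hH ▸ le_sup_left
      have hgH : g ∈ H := hH ▸ Subgroup.mem_sup_right (Subgroup.mem_zpowers g)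
      have hHN : H ≤ Subgroup.normalizer (X : Set G) := by
        rw [hH]
        exact sup_le Subgroup.le_normalizer (by rw [Subgroup.zpowers_le]; exact hgN)
      haveI hXn : (X.subgroupOf H).Normal :=
        (Subgroup.normal_subgroupOf_iff_le_normalizer hXH).mpr hHN
      have hX' : IsPGroup p (X.subgroupOf H) := hX.comap_subtype
      have hg' : (orderOf (⟨g, hgH⟩ : H)).Coprime p := by
        rw [Subgroup.orderOf_mk]; exact hgo
      have htop : X.subgroupOf H ⊔ Subgroup.zpowers (⟨g, hgH⟩ : H) = ⊤ := by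
        apply Subgroup.map_injective H.subtype_injective
        rw [Subgroup.map_sup, Subgroup.subgroupOf_map_subtype, MonoidHom.map_zpowers,
          ← MonoidHom.range_eq_map, Subgroup.range_subtype, inf_eq_left.mpr hXH]
        exact hH.symm
      have hnc' : ∃ x ∈ X.subgroupOf H, (⟨g, hgH⟩ : H) * x ≠ x * ⟨g, hgH⟩ := by
        rw [Subgroup.mem_centralizer_iff] at hnc
        push Not at hnc
        obtain ⟨x, hx, hne⟩ := hnc
        refine ⟨⟨x, hXH hx⟩, Subgroup.mem_subgroupOf.mpr hx, ?_⟩
        intro h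
        apply hne
        have := congrArg Subtype.val h
        exact this.symm
      have hmin : ∀ Q : Subgroup H, Q ≤ X.subgroupOf H → Q ≠ X.subgroupOf H →
          (∀ q ∈ Q, (⟨g, hgH⟩ : H) * q * (⟨g, hgH⟩ : H)⁻¹ ∈ Q) →
          ∀ q ∈ Q, (⟨g, hgH⟩ : H) * q = q * ⟨g, hgH⟩ := by
        intro Q hQX hQne hQinv q hq
        obtain ⟨Q₀, hQ₀⟩ : ∃ Q₀ : Subgroup G, Q₀ = Q.map H.subtype := ⟨_, rfl⟩
        have hQ₀X : Q₀ ≤ X := by
          rw [hQ₀]
          rintro _ ⟨q, hq, rfl⟩
          exact Subgroup.mem_subgroupOf.mp (hQX hq)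
        have hlt : Nat.card Q₀ < n := by
          rw [hQ₀, Subgroup.card_subtype, ← hcard]
          have e : Nat.card X = Nat.card (X.subgroupOf H) :=
            Nat.card_congr (Subgroup.subgroupOfEquivOfLe hXH).symm.toEquiv
          rw [e]
          exact lt_of_le_of_ne (Subgroup.card_le_of_le hQX)
            (fun h => hQne (Subgroup.eq_of_le_of_card_ge hQX h.ge))
        have hQ₀p : IsPGroup p Q₀ := hX.to_le hQ₀X
        have hgQ₀ : g ∈ Subgroup.normalizer (Q₀ : Set G) := by
          apply Subgroup.mem_normalizer_fintype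
          intro x hx
          rw [SetLike.mem_coe, hQ₀] at hx ⊢
          obtain ⟨q, hq, rfl⟩ := hx
          exact ⟨_, hQinv q hq, by simp⟩
        have hcent := IH _ hlt Q₀ rfl hQ₀p g hgQ₀ hgo
        rw [Subgroup.mem_centralizer_iff] at hcent
        have := hcent (q : G) (by rw [SetLike.mem_coe, hQ₀]; exact ⟨q, hq, rfl⟩)
        apply Subtype.ext
        simpa using this.symm
      obtain ⟨N, hNn, hcore, hbad⟩ := Cfsg.Agent.Helper70.exists_bad_section
        (X.subgroupOf H) hX' ⟨g, hgH⟩ hg' htop hnc' hmin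
      haveI := hNn
      obtain ⟨k, hk⟩ := hsec H N hcore
      exact hbad k hk
  intro X hX g hg hgo
  exact key _ X rfl hX g hg hgo

/-- Let G be a finite group and p a prime. Then G has a normal p-complement if and only if every section K = H/N of G (N a normal subgroup of a subgroup H) whose largest normal subgroup of order prime to p is trivial contains an element whose order equals the exponent of K. -/
theorem result {G : Type*} [Group G] [Finite G] (p : ℕ) [Fact p.Prime] :
    Cfsg.HasNormalPComplement p G ↔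
      ∀ (H : Subgroup G) (N : Subgroup H) [N.Normal], Cfsg.pPrimeCore p (H ⧸ N) = ⊥ →
        ∃ k : H ⧸ N, orderOf k = Monoid.exponent (H ⧸ N) := by
  constructor
  · intro hG H N _ hcore
    have hH := Cfsg.Agent.Helper2.hasNormalPComplement_subgroup hG H
    have hK := hasNormalPComplement_of_surjective (QuotientGroup.mk' N)
      (QuotientGroup.mk'_surjective N) hH
    obtain ⟨P, M, hMn, hMc⟩ := hK
    have hp : p.Prime := Fact.out
    have hMcop : Nat.Coprime (Nat.card M) p := by
      rw [← hMc.index_eq_card]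
      exact ((Nat.Prime.coprime_iff_not_dvd hp).mpr P.not_dvd_index).symm
    have hMbot : M = ⊥ := by
      rw [eq_bot_iff, ← hcore]
      exact le_sSup ⟨hMn, hMcop⟩
    rw [hMbot, Subgroup.isComplement'_bot_left] at hMc
    apply exists_orderOf_eq_exponent_of_isPGroup (p := p)
    intro k
    obtain ⟨j, hj⟩ := P.isPGroup' ⟨k, hMc ▸ Subgroup.mem_top k⟩
    refine ⟨j, ?_⟩
    have := congrArg Subtype.val hj
    simpa using this
  · intro hsec
    exact Cfsg.Agent.Helper2.frobenius p (frobCond_of_sections p hsec)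

end Cfsg.Agent.S4238
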