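import Cfsg.Statements.S4244
import Mathlib

set_option autoImplicit false
open Cfsg

namespace Cfsg.Agent.S4244

open Subgroup

theorem relIndex_dvd_index_of_normal_right {G : Type*} [Group G] [Finite G] (H N : Subgroup G)
    [N.Normal] : H.relIndex N ∣ H.index := by
  have e1 : (H ⊓ N).relIndex H * H.relIndex (H ⊔ N) = (H ⊓ N).relIndex (H ⊔ N) :=
    relIndex_mul_relIndex _ _ _ inf_le_left le_sup_left
  have e2 : (H ⊓ N).relIndex N * N.relIndex (H ⊔ N) = (H ⊓ N).relIndex (H ⊔ N) :=
    relIndex_mul_relIndex _ _ _ inf_le_right le_sup_right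
  rw [inf_relIndex_left] at e1
  rw [inf_relIndex_right, relIndex_sup_right] at e2
  have hne : N.relIndex H ≠ 0 := by
    show (N.subgroupOf H).index ≠ 0
    exact Subgroup.index_ne_zero_of_finite
  have e3 : H.relIndex (H ⊔ N) = H.relIndex N := by
    have : N.relIndex H * H.relIndex (H ⊔ N) = N.relIndex H * H.relIndex N := by
      rw [e1, ← e2, mul_comm]
    exact Nat.eq_of_mul_eq_mul_left (Nat.pos_of_ne_zero hne) this
  rw [← e3]
  exact relIndex_dvd_index_of_le le_sup_left

/-- Let H be a subnormal subgroup of a finite group G. Then for every subgroup K of G the index of H ∩ K in H divides the index of K in G. -/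
theorem result {G : Type*} [Group G] [Finite G] (H : Subgroup G) (hH : H.IsSubnormal) (K : Subgroup G) :
    (H ⊓ K).relIndex H ∣ K.index := by
  induction hH with
  | top => simp
  | step H L hle hL hN ih =>
    rw [inf_relIndex_left] at ih ⊢
    have h1 := relIndex_dvd_index_of_normal_right (K.subgroupOf L) (H.subgroupOf L)
    rw [relIndex_subgroupOf hle] at h1
    exact h1.trans ih

end Cfsg.Agent.S4244
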