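import Cfsg.Statements.S4245
import Mathlib
import Cfsg.Agent.Lib.Helper69.PrimePowIndexA
import Cfsg.Agent.Lib.Helper69.PrimePowIndexB
import Cfsg.Agent.Lib.Helper3.CharBurnside

set_option autoImplicit false
open Cfsg

namespace Cfsg.Agent.S4245

open Cfsg.Agent.Helper69.PPI

universe u

theorem isSolvable_of_isCyclic {X : Type u} [Group X] (hX : IsCyclic X) : Group.IsSolvable X := by
  haveI := isNilpotent_of_isCyclic hX
  infer_instance

/-- The simple case. -/
theorem simple_case {G : Type u} [Group G] [Finite G] [IsSimpleGroup G] (A : Subgroup G)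
    (p s : ℕ) (hp : p.Prime) (hA : A.index ∣ p ^ s) (hMC : MC A) : Group.IsSolvable G := by
  classical
  obtain ⟨B, hBn, hBc, hQc, r, hr⟩ := hMC
  obtain ⟨k, -, hk⟩ := (Nat.dvd_prime_pow hp).1 hA
  let C : Subgroup G := B.map A.subtype
  have hCcyc : IsCyclic C :=
    isCyclic_of_surjective (A.subtype.subgroupMap B) (A.subtype.subgroupMap_surjective B)
  have hCidx : C.index = 2 ^ r * p ^ k := by
    rw [Subgroup.index_map_subtype, hk, Subgroup.index_eq_card, hr]
  by_cases hp2 : p = 2
  · subst hp2
    exact isSolvable_of_cyclic_primePow_index C hCcyc 2 (r + k) Nat.prime_two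
      (by rw [hCidx, pow_add])
  haveI := Fact.mk Nat.prime_two
  by_cases hBeven : 2 ∣ Nat.card B
  · -- an involution of `B`, central in `A`
    obtain ⟨z, hz⟩ := exists_prime_orderOf_dvd_card' 2 hBeven
    have hz1 : z ≠ 1 := by
      intro h; rw [h, orderOf_one] at hz; norm_num at hz
    have hz2 : z ^ 2 = 1 := by rw [← hz]; exact pow_orderOf_eq_one z
    haveI : Fintype B := Fintype.ofFinite B
    have hle2 := IsCyclic.card_pow_eq_one_le (α := B) (n := 2) (by norm_num)
    have huniq : ∀ w : B, w ^ 2 = 1 → w ≠ 1 → w = z := by
      intro w hw2 hw1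
      by_contra hwz
      have : 2 < (Finset.univ.filter fun a : B => a ^ 2 = 1).card := by
        rw [Finset.two_lt_card_iff]
        refine ⟨1, z, w, by simp, by simp [hz2], by simp [hw2], Ne.symm hz1, Ne.symm hw1,
          Ne.symm hwz⟩
      omega
    let zG : G := ((z : A) : G)
    have hcent : A ≤ Subgroup.centralizer ({zG} : Set G) := by
      intro a ha
      rw [Subgroup.mem_centralizer_iff]
      intro h hh
      rw [Set.mem_singleton_iff] at hh
      subst hh
      have hconj : (⟨a, ha⟩ : A) * (z : A) * (⟨a, ha⟩ : A)⁻¹ ∈ B := hBn.conj_mem z.1 z.2 ⟨a, ha⟩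
      let w : B := ⟨(⟨a, ha⟩ : A) * (z : A) * (⟨a, ha⟩ : A)⁻¹, hconj⟩
      have hw2 : w ^ 2 = 1 := by
        apply Subtype.ext
        show ((⟨a, ha⟩ : A) * (z : A) * (⟨a, ha⟩ : A)⁻¹) ^ 2 = 1
        have hzA : (z : A) ^ 2 = 1 := by
          have := congrArg (fun b : B => (b : A)) hz2
          simpa using this
        rw [conj_pow, hzA]; group
      have hw1 : w ≠ 1 := by
        intro h
        have h' : (⟨a, ha⟩ : A) * (z : A) * (⟨a, ha⟩ : A)⁻¹ = 1 := congrArg (fun b : B => (b : A)) h
        have : (z : A) = 1 := by
          have := conj_eq_one_iff.mp h'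
          exact this
        exact hz1 (Subtype.ext this)
      have hwz : w = z := huniq w hw2 hw1
      have h1 : (⟨a, ha⟩ : A) * (z : A) * (⟨a, ha⟩ : A)⁻¹ = (z : A) :=
        congrArg (fun b : B => (b : A)) hwz
      have h2 : a * zG * a⁻¹ = zG := congrArg (fun b : A => (b : G)) h1
      calc zG * a = (a * zG * a⁻¹) * a := by rw [h2]
        _ = a * zG := by group
    have hzG1 : zG ≠ 1 := by
      intro h
      apply hz1
      apply Subtype.ext
      apply Subtype.ext
      exact h
    have hdvd : (Subgroup.centralizer ({zG} : Set G)).index ∣ p ^ s :=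
      (Subgroup.index_dvd_of_le hcent).trans hA
    obtain ⟨j, -, hj⟩ := (Nat.dvd_prime_pow hp).1 hdvd
    haveI : Fintype G := Fintype.ofFinite G
    have hprime := Cfsg.Agent.Helper3.prime_card_of_simple_of_prime_power_class p j hp zG hzG1 hj
    haveI := Fact.mk hprime
    exact isSolvable_of_isCyclic (isCyclic_of_prime_card (α := G) rfl)
  · -- `|B|` odd
    by_cases hGeven : 2 ∣ Nat.card G
    · -- cyclic Sylow 2-subgroup
      let T : Sylow 2 A := default
      have hTcyc : IsCyclic T := by
        let ψ : T →* A ⧸ B := (QuotientGroup.mk' B).comp (T : Subgroup A).subtype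
        have hψ : Function.Injective ψ := by
          rw [injective_iff_map_eq_one]
          intro x hx
          have hxB : (x : A) ∈ B := by
            have : (QuotientGroup.mk' B) (x : A) = 1 := hx
            rwa [QuotientGroup.mk'_apply, QuotientGroup.eq_one_iff] at this
          obtain ⟨e, he⟩ := (IsPGroup.iff_orderOf.mp T.2) x
          have h1 : orderOf (x : A) = 2 ^ e := by rw [← he]; exact (Subgroup.orderOf_coe x)
          have h2 : orderOf (x : A) ∣ Nat.card B := by
            have := orderOf_dvd_natCard (⟨(x : A), hxB⟩ : B)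
            rwa [← Subgroup.orderOf_coe] at this
          have h3 : orderOf (x : A) = 1 := by
            rw [h1] at h2 ⊢
            rcases Nat.eq_zero_or_pos e with h0 | h0
            · rw [h0, pow_zero]
            · exfalso
              exact hBeven ((dvd_pow_self 2 h0.ne').trans h2)
          have : (x : A) = 1 := orderOf_eq_one_iff.mp h3
          exact Subtype.ext this
        exact isCyclic_of_injective ψ hψ
      let TG : Subgroup G := (T : Subgroup A).map A.subtype
      have hTGp : IsPGroup 2 TG := IsPGroup.map T.2 A.subtype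
      obtain ⟨S, hS⟩ := IsPGroup.exists_le_sylow hTGp
      have hTGcyc : IsCyclic TG :=
        isCyclic_of_surjective (A.subtype.subgroupMap (T : Subgroup A))
          (A.subtype.subgroupMap_surjective (T : Subgroup A))
      have hTGcard : Nat.card TG = 2 ^ (Nat.card A).factorization 2 := by
        rw [Subgroup.card_map_of_injective A.subtype_injective]
        exact Sylow.card_eq_multiplicity T
      have hfac : (Nat.card G).factorization 2 = (Nat.card A).factorization 2 := by
        rw [← Subgroup.card_mul_index A, hk,
          Nat.factorization_mul Nat.card_pos.ne' (pow_ne_zero _ hp.ne_zero)]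
        have : ¬ 2 ∣ p ^ k := by
          intro h
          have := Nat.prime_two.dvd_of_dvd_pow h
          exact hp2 ((Nat.prime_dvd_prime_iff_eq Nat.prime_two hp).1 this).symm
        rw [Finsupp.add_apply, Nat.factorization_eq_zero_of_not_dvd this, add_zero]
      have hScard : Nat.card S = 2 ^ (Nat.card G).factorization 2 := Sylow.card_eq_multiplicity S
      have hST : TG = (S : Subgroup G) :=
        Subgroup.eq_of_le_of_card_ge hS (by rw [hScard, hTGcard, hfac])
      have hScyc : IsCyclic S := by
        have : IsCyclic (S : Subgroup G) := by rw [← hST]; exact hTGcyc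
        exact this
      have hmin : (Nat.card G).minFac = 2 := (Nat.minFac_eq_two_iff _).2 hGeven
      have hcomp := IsCyclic.isComplement' hmin hScyc
      have hmul := hcomp.card_mul_card
      rcases IsSimpleGroup.eq_bot_or_eq_top_of_normal _
        (MonoidHom.normal_ker (MonoidHom.transferSylow S (hScyc.normalizer_le_centralizer hmin)))
        with hK | hK
      · -- `G` is a 2-group
        rw [hK, Subgroup.card_bot, one_mul] at hmul
        have hG2 : IsPGroup 2 G := IsPGroup.of_card (n := (Nat.card G).factorization 2)
          (by rw [← hScard]; exact hmul.symm)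
        haveI := IsPGroup.isNilpotent hG2
        infer_instance
      · exfalso
        rw [hK, Subgroup.card_top] at hmul
        have hG0 : 0 < Nat.card G := Nat.card_pos
        have hS1 : Nat.card S = 1 := by
          have : Nat.card G * Nat.card S = Nat.card G * 1 := by rw [hmul, mul_one]
          exact Nat.eq_of_mul_eq_mul_left hG0 this
        have hidx := Subgroup.card_mul_index (S : Subgroup G)
        rw [hS1, one_mul] at hidx
        have := S.not_dvd_index
        rw [hidx] at this
        exact this hGeven
    · -- `|G|` odd, so `r = 0`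
      have hr0 : r = 0 := by
        by_contra h
        apply hGeven
        have h1 : 2 ∣ 2 ^ r := dvd_pow_self 2 h
        have h2 : 2 ^ r ∣ Nat.card A := by
          rw [← hr, ← Subgroup.index_eq_card]; exact Subgroup.index_dvd_card B
        exact h1.trans (h2.trans (Subgroup.card_subgroup_dvd_card A))
      exact isSolvable_of_cyclic_primePow_index C hCcyc p k hp (by rw [hCidx, hr0]; simp)

theorem main : ∀ n : ℕ, ∀ (G : Type u) [Group G] [Finite G], Nat.card G = n →
    ∀ (A : Subgroup G) (p s : ℕ), p.Prime → A.index ∣ p ^ s → MC A → Group.IsSolvable G := by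
  intro n
  induction n using Nat.strong_induction_on with
  | _ n ih =>
    intro G _ _ hn A p s hp hA hMC
    by_cases hsimple : ∀ N : Subgroup G, N.Normal → N = ⊥ ∨ N = ⊤
    · by_cases hnt : Nontrivial G
      · haveI : IsSimpleGroup G := ⟨hsimple⟩
        exact simple_case A p s hp hA hMC
      · rw [not_nontrivial_iff_subsingleton] at hnt
        infer_instance
    · push Not at hsimple
      obtain ⟨N, hNn, hNbot, hNtop⟩ := hsimple
      haveI := hNn
      -- `N` is solvable
      have hNlt : Nat.card N < n := by
        rw [← hn]
        exact lt_of_le_of_ne (Subgroup.card_le_card_group N)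
          (fun h => hNtop ((Subgroup.card_eq_iff_eq_top N).1 h))
      have hNsolv : Group.IsSolvable N := by
        refine ih (Nat.card N) hNlt N rfl (A.subgroupOf N) p s hp ?_ ?_
        · exact (relIndex_dvd_index_of_normal_right A N).trans hA
        · let f : ↥(A.subgroupOf N) →* ↥A :=
            { toFun := fun x => ⟨((x : N) : G), Subgroup.mem_subgroupOf.mp x.2⟩
              map_one' := rfl
              map_mul' := fun _ _ => rfl }
          have hf : Function.Injective f := by
            intro x y hxy
            have : ((x : N) : G) = ((y : N) : G) := congrArg (fun a : A => (a : G)) hxy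
            exact Subtype.ext (Subtype.ext this)
          exact MC.of_injective f hf hMC
      -- `G ⧸ N` is solvable
      have hQlt : Nat.card (G ⧸ N) < n := by
        rw [← hn]; exact Cfsg.Agent.Helper58.KW.card_quotient_lt N hNbot
      have hQsolv : Group.IsSolvable (G ⧸ N) := by
        refine ih (Nat.card (G ⧸ N)) hQlt (G ⧸ N) rfl (A.map (QuotientGroup.mk' N)) p s hp ?_ ?_
        · exact (Subgroup.index_map_dvd A (QuotientGroup.mk'_surjective N)).trans hA
        · exact MC.of_surjective ((QuotientGroup.mk' N).subgroupMap A)
            ((QuotientGroup.mk' N).subgroupMap_surjective A) hMC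
      exact solvable_of_ker_le_range N.subtype (QuotientGroup.mk' N) (by simp)

theorem result {G : Type*} [Group G] [Finite G] (A : Subgroup G) (p s : ℕ) (hp : p.Prime) (hA : A.index = p ^ s)
    (B : Subgroup A) [B.Normal] (hB : IsCyclic B) (hAB : IsCyclic (A ⧸ B)) (r : ℕ) (hr : Nat.card (A ⧸ B) = 2 ^ r) :
    Group.IsSolvable G :=
  main (Nat.card G) G rfl A p s hp (by rw [hA]) ⟨B, inferInstance, hB, hAB, r, hr⟩

end Cfsg.Agent.S4245
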