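import Mathlib
import Cfsg.Statements.S4249
import Cfsg.Agent.S3946
import Cfsg.Agent.S0015

set_option autoImplicit false
set_option linter.style.haveILetI false
open Cfsg

namespace Cfsg.Agent.S4249

open scoped IsMulCommutative

/-- The closure of a conjugation-invariant set is normal. -/
lemma closure_normal_of_conj {G : Type*} [Group G] (S : Set G)
    (hS : ∀ g a : G, a ∈ S → g * a * g⁻¹ ∈ S) : (Subgroup.closure S).Normal := by
  constructor
  intro n hn g
  induction hn using Subgroup.closure_induction with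
  | mem a ha => exact Subgroup.subset_closure (hS g a ha)
  | one => simp
  | mul a b _ _ iha ihb =>
    have : g * (a * b) * g⁻¹ = (g * a * g⁻¹) * (g * b * g⁻¹) := by group
    rw [this]; exact Subgroup.mul_mem _ iha ihb
  | inv a _ iha =>
    have : g * a⁻¹ * g⁻¹ = (g * a * g⁻¹)⁻¹ := by group
    rw [this]; exact Subgroup.inv_mem _ iha

lemma list_prod_conj {G : Type*} [Group G] (g v : G) (n : ℕ) :
    ((List.range n).map (fun i : ℕ => g ^ i * v * (g ^ i)⁻¹)).prod = (v * g) ^ n * (g ^ n)⁻¹ := by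
  induction n with
  | zero => simp
  | succ n ih =>
    rw [List.range_succ, List.map_append, List.prod_append, ih]
    simp only [List.map_cons, List.map_nil, List.prod_cons, List.prod_nil, mul_one]
    rw [pow_succ (v * g), pow_succ g]
    group

lemma finset_prod_conj {G : Type*} [Group G] (V : Subgroup G) [V.Normal] [IsMulCommutative V]
    (g : G) (v : V) (n : ℕ) :
    ((∏ k ∈ Finset.range n, ((MulAut.conjNormal g : MulAut V) ^ k) v : V) : G)
      = ((v : G) * g) ^ n * (g ^ n)⁻¹ := by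
  induction n with
  | zero => simp
  | succ n ih =>
    rw [Finset.prod_range_succ, Subgroup.coe_mul, ih]
    have : ((MulAut.conjNormal g : MulAut V) ^ n) = MulAut.conjNormal (g ^ n) := by rw [map_pow]
    rw [this, MulAut.conjNormal_apply, pow_succ ((v : G) * g), pow_succ g]
    group

lemma comm_key {V : Type*} [CommGroup V] (p : ℕ) (hp : 0 < p) (φ ψ : MulAut V)
    (hc : Commute φ ψ)
    (h1 : ∀ j < p, ∀ v : V, ∏ k ∈ Finset.range p, ((ψ * φ ^ j) ^ k) v = 1)
    (h2 : ∀ k, 0 < k → k < p → ∀ v : V, ∏ j ∈ Finset.range p, ((φ ^ k) ^ j) v = 1) (v : V) :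
    v ^ p = 1 := by
  have e1 : ∏ j ∈ Finset.range p, ∏ k ∈ Finset.range p, ((ψ * φ ^ j) ^ k) v = 1 :=
    Finset.prod_eq_one (fun j hj => h1 j (Finset.mem_range.mp hj) v)
  rw [Finset.prod_comm] at e1
  have e2 : ∀ k ∈ Finset.range p, ∏ j ∈ Finset.range p, ((ψ * φ ^ j) ^ k) v
      = (ψ ^ k) (∏ j ∈ Finset.range p, ((φ ^ k) ^ j) v) := by
    intro k _
    rw [map_prod]
    refine Finset.prod_congr rfl (fun j _ => ?_)
    rw [(hc.symm.pow_right j).mul_pow, ← pow_mul, ← pow_mul, mul_comm j k, MulAut.mul_apply]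
  rw [Finset.prod_congr rfl e2] at e1
  obtain ⟨n, rfl⟩ : ∃ n, p = n + 1 := ⟨p - 1, by omega⟩
  rw [Finset.prod_range_succ'] at e1
  have e3 : ∏ k ∈ Finset.range n,
      (ψ ^ (k + 1)) (∏ j ∈ Finset.range (n + 1), ((φ ^ (k + 1)) ^ j) v) = 1 :=
    Finset.prod_eq_one (fun k hk => by
      rw [h2 (k + 1) (by omega) (by have := Finset.mem_range.mp hk; omega), map_one])
  rw [e3, one_mul] at e1
  simpa using e1

theorem hughes_core {G : Type*} [Group G] [Finite G] (p : ℕ) (hp : p.Prime)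
    (hG : ¬ IsPGroup p G) (H : Subgroup G) [hn : H.Normal] (hH : H ≠ ⊤)
    (hout : ∀ g : G, g ∉ H → g ^ p = 1) :
    Group.IsNilpotent H ∧ H.index = p := by
  haveI : Fact p.Prime := ⟨hp⟩
  have hout2 : ∀ g : G, g ∉ H → ∀ h ∈ H, (h * g) ^ p = 1 := fun g hg h hh =>
    hout _ (fun hc => hg (by simpa using H.mul_mem (H.inv_mem hh) hc))
  have hex : ∃ h ∈ H, h ^ p ≠ 1 := by
    by_contra hc
    push Not at hc
    apply hG
    intro g
    refine ⟨1, ?_⟩
    rw [pow_one]
    by_cases hg : g ∈ H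
    · exact hc g hg
    · exact hout g hg
  -- nilpotency
  have hnil : Group.IsNilpotent H := by
    obtain ⟨x, hx⟩ : ∃ x, x ∉ H := by
      by_contra hc
      push Not at hc
      exact hH (eq_top_iff.mpr fun g _ => hc g)
    let α : MulAut H := MulAut.conjNormal x
    have hαpow : ∀ (i : ℕ) (h : H), ((α ^ i) h : G) = x ^ i * (h : G) * (x ^ i)⁻¹ := by
      intro i h
      have : α ^ i = MulAut.conjNormal (x ^ i) := by rw [map_pow]
      rw [this, MulAut.conjNormal_apply]
    have hprod : ∀ (n : ℕ) (h : H),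
        ((((List.range n).map (fun i : ℕ => (α ^ i) h)).prod : H) : G)
          = ((h : G) * x) ^ n * (x ^ n)⁻¹ := by
      intro n h
      rw [← list_prod_conj, SubmonoidClass.coe_list_prod, List.map_map]
      congr 1
      apply List.map_congr_left
      intro i _
      exact hαpow i h
    have hαp : α ^ p = 1 := by
      have : α ^ p = MulAut.conjNormal (x ^ p) := by rw [map_pow]
      rw [this, hout x hx, map_one]
    have hα1 : α ≠ 1 := by
      intro h1
      obtain ⟨h, hh, hhp⟩ := hex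
      apply hhp
      have hc : x * h * x⁻¹ = h := by
        have := congrArg (fun β : MulAut H => ((β ⟨h, hh⟩ : H) : G)) h1
        simpa [α, MulAut.conjNormal_apply] using this
      have hcomm : Commute h x := by
        show h * x = x * h
        calc h * x = (x * h * x⁻¹) * x := by rw [hc]
          _ = x * h := by group
      have := hout2 x hx h hh
      rw [hcomm.mul_pow, hout x hx, mul_one] at this
      exact this
    have hord : orderOf α = p := orderOf_eq_prime hαp hα1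
    apply Cfsg.Agent.S3946.result α (hord ▸ hp)
    intro h
    rw [hord]
    apply Subtype.ext
    rw [hprod p h, hout2 x hx h h.2, one_mul, hout x hx, inv_one]
    rfl
  refine ⟨hnil, ?_⟩
  -- index
  have hPQ : IsPGroup p (G ⧸ H) := by
    intro gb
    obtain ⟨g, rfl⟩ := QuotientGroup.mk_surjective gb
    refine ⟨1, ?_⟩
    rw [pow_one, ← QuotientGroup.mk_pow]
    apply (QuotientGroup.eq_one_iff _).mpr
    by_cases hg : g ∈ H
    · exact H.pow_mem hg p
    · rw [hout g hg]; exact H.one_mem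
  haveI : Nontrivial (G ⧸ H) := QuotientGroup.nontrivial_iff.mpr hH
  haveI := hPQ.center_nontrivial
  obtain ⟨z, hz⟩ := exists_ne (1 : Subgroup.center (G ⧸ H))
  obtain ⟨x₀, hx₀z⟩ := QuotientGroup.mk_surjective (z : G ⧸ H)
  have hxq : (x₀ : G ⧸ H) ≠ 1 := by
    rw [hx₀z]
    intro h
    exact hz (Subtype.ext h)
  have hx0 : x₀ ∉ H := fun h => hxq ((QuotientGroup.eq_one_iff _).mpr h)
  have hcent : ∀ g : G, (g * x₀)⁻¹ * (x₀ * g) ∈ H := by
    intro g
    apply QuotientGroup.eq.mp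
    rw [QuotientGroup.mk_mul, QuotientGroup.mk_mul, hx₀z]
    exact Subgroup.mem_center_iff.mp z.2 (g : G ⧸ H)
  have hxp : (x₀ : G ⧸ H) ^ p = 1 := by
    rw [← QuotientGroup.mk_pow, hout x₀ hx0]; rfl
  have hord : orderOf (x₀ : G ⧸ H) = p := orderOf_eq_prime hxp hxq
  by_cases hA : ∀ gb : G ⧸ H, gb ∈ Subgroup.zpowers (x₀ : G ⧸ H)
  · rw [Subgroup.index_eq_card, ← orderOf_eq_card_of_forall_mem_zpowers hA, hord]
  exfalso
  push Not at hA
  obtain ⟨yb, hyb⟩ := hA
  obtain ⟨y, rfl⟩ := QuotientGroup.mk_surjective yb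
  have hy1 : ∀ j : ℕ, y * x₀ ^ j ∉ H := by
    intro j hmem
    apply hyb
    have h1 : (y : G ⧸ H) * (x₀ : G ⧸ H) ^ j = 1 := by
      rw [← QuotientGroup.mk_pow, ← QuotientGroup.mk_mul]
      exact (QuotientGroup.eq_one_iff _).mpr hmem
    have h2 : (y : G ⧸ H) = ((x₀ : G ⧸ H) ^ j)⁻¹ := eq_inv_of_mul_eq_one_left h1
    rw [h2]
    exact Subgroup.inv_mem _ (Subgroup.pow_mem _ (Subgroup.mem_zpowers _) j)
  have hy2 : ∀ k : ℕ, 0 < k → k < p → x₀ ^ k ∉ H := by
    intro k hk0 hkp hmem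
    have h1 : (x₀ : G ⧸ H) ^ k = 1 := by
      rw [← QuotientGroup.mk_pow]
      exact (QuotientGroup.eq_one_iff _).mpr hmem
    have h2 := orderOf_dvd_of_pow_eq_one h1
    rw [hord] at h2
    have := Nat.le_of_dvd hk0 h2
    omega
  -- an element of the centre of H whose p-th power is non-trivial
  obtain ⟨q, hq, hqG, hqp⟩ : ∃ q : ℕ, q.Prime ∧ q ∣ Nat.card G ∧ q ≠ p := by
    by_contra hc
    push Not at hc
    apply hG
    have := Nat.eq_prime_pow_of_unique_prime_dvd (n := Nat.card G) (p := p)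
      Nat.card_pos.ne' (fun {d} hd hdn => hc d hd hdn)
    exact IsPGroup.of_card this
  haveI : Fact q.Prime := ⟨hq⟩
  obtain ⟨u, hu⟩ := exists_prime_orderOf_dvd_card' q hqG
  have huH : u ∈ H := by
    by_contra huH
    have h1 := orderOf_dvd_of_pow_eq_one (hout u huH)
    rw [hu] at h1
    exact hqp ((Nat.prime_dvd_prime_iff_eq hq hp).mp h1)
  have hqH : q ∣ Nat.card H := by
    have := Subgroup.orderOf_dvd_natCard H huH
    rwa [hu] at this
  let Q : Sylow q H := default
  haveI hQn : (Q : Subgroup H).Normal :=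
    (Group.isNilpotent_of_finite_tfae.out 0 3 rfl rfl).mp hnil q ⟨hq⟩ Q
  have hQne : (Q : Subgroup H) ≠ ⊥ := Q.ne_bot_of_dvd_card hqH
  have hQZ := Cfsg.Agent.S0015.normal_inf_center_ne_bot (hG := hnil) (Q : Subgroup H) hQne
  obtain ⟨⟨w, hw⟩, hw1⟩ := (Subgroup.ne_bot_iff_exists_ne_one).mp hQZ
  have hwQ : w ∈ (Q : Subgroup H) := (Subgroup.mem_inf.mp hw).1
  have hwZ : w ∈ Subgroup.center H := (Subgroup.mem_inf.mp hw).2
  have hw1' : w ≠ 1 := fun h => hw1 (Subtype.ext h)
  have hwp : (w : G) ^ p ≠ 1 := by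
    intro hwp
    apply hw1'
    have hwp' : w ^ p = 1 := Subtype.ext (by simpa using hwp)
    obtain ⟨k, hk⟩ := Q.isPGroup' ⟨w, hwQ⟩
    have hk' : w ^ q ^ k = 1 := by
      have := congrArg Subtype.val hk
      simpa using this
    have h1 := orderOf_dvd_of_pow_eq_one hwp'
    have h2 := orderOf_dvd_of_pow_eq_one hk'
    have hcop : Nat.Coprime p (q ^ k) :=
      Nat.Coprime.pow_right k ((Nat.coprime_primes hp hq).mpr hqp.symm)
    have h3 : orderOf w = 1 := Nat.eq_one_of_dvd_coprimes hcop h1 h2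
    exact orderOf_eq_one_iff.mp h3
  -- the centre of H as a normal commutative subgroup of G
  obtain ⟨V, hVdef⟩ : ∃ V : Subgroup G, V = H ⊓ Subgroup.centralizer (H : Set G) := ⟨_, rfl⟩
  haveI hVn : V.Normal := hVdef ▸ inferInstance
  have hVle : V ≤ H ⊓ Subgroup.centralizer (H : Set G) := hVdef.le
  have hVH : ∀ v : V, (v : G) ∈ H := fun v => (Subgroup.mem_inf.mp (hVle v.2)).1
  have hVC : ∀ v : V, ∀ h ∈ H, h * (v : G) = (v : G) * h := fun v h hh =>
    Subgroup.mem_centralizer_iff.mp (Subgroup.mem_inf.mp (hVle v.2)).2 h hh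
  haveI hVc : IsMulCommutative V :=
    ⟨⟨fun a b => Subtype.ext (by
      show (a : G) * (b : G) = (b : G) * (a : G)
      exact (hVC b a (hVH a)))⟩⟩
  have hwV : (w : G) ∈ V := by
    rw [hVdef]
    refine Subgroup.mem_inf.mpr ⟨w.2, ?_⟩
    rw [Subgroup.mem_centralizer_iff]
    intro h hh
    have := Subgroup.mem_center_iff.mp hwZ ⟨h, hh⟩
    exact congrArg Subtype.val this
  obtain ⟨c, hcdef⟩ : ∃ c : G →* MulAut V, c = MulAut.conjNormal := ⟨_, rfl⟩
  have hcH : ∀ h ∈ H, c h = 1 := by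
    intro h hh
    ext v
    rw [hcdef, MulAut.conjNormal_apply, hVC v h hh]
    simp
  have hcomm : Commute (c x₀) (c y) := by
    have ht : (y * x₀)⁻¹ * (x₀ * y) ∈ H := hcent y
    have e : x₀ * y = (y * x₀) * ((y * x₀)⁻¹ * (x₀ * y)) := by group
    show c x₀ * c y = c y * c x₀
    calc c x₀ * c y = c (x₀ * y) := (map_mul c x₀ y).symm
      _ = c ((y * x₀) * ((y * x₀)⁻¹ * (x₀ * y))) := by rw [← e]
      _ = c (y * x₀) * c ((y * x₀)⁻¹ * (x₀ * y)) := map_mul c _ _
      _ = c (y * x₀) := by rw [hcH _ ht, mul_one]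
      _ = c y * c x₀ := map_mul c y x₀
  have hF1 : ∀ g : G, g ∉ H → ∀ v : V, ∏ k ∈ Finset.range p, ((c g) ^ k) v = 1 := by
    intro g hg v
    apply Subtype.ext
    rw [hcdef, finset_prod_conj V g v p, hout2 g hg v (hVH v), one_mul, hout g hg, inv_one]
    rfl
  have h1 : ∀ j < p, ∀ v : V, ∏ k ∈ Finset.range p, ((c y * (c x₀) ^ j) ^ k) v = 1 := by
    intro j _ v
    have e : c y * (c x₀) ^ j = c (y * x₀ ^ j) := by rw [map_mul, map_pow]
    rw [e]
    exact hF1 _ (hy1 j) v
  have h2 : ∀ k, 0 < k → k < p → ∀ v : V, ∏ j ∈ Finset.range p, (((c x₀) ^ k) ^ j) v = 1 := by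
    intro k hk0 hkp v
    rw [← map_pow]
    exact hF1 _ (hy2 k hk0 hkp) v
  have hfin := comm_key p hp.pos (c x₀) (c y) hcomm h1 h2 ⟨(w : G), hwV⟩
  apply hwp
  have := congrArg Subtype.val hfin
  simpa using this

/-- Let G be a finite group and p a prime such that G is not a p-group, and suppose the Hughes subgroup H_p(G), generated by all elements g with g^p ≠ 1, is a proper subgroup. Then H_p(G) is nilpotent and has index p in G. -/
theorem result {G : Type*} [Group G] [Finite G] (p : ℕ) (hp : p.Prime) (hG : ¬ IsPGroup p G)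
    (hH : Subgroup.closure {g : G | g ^ p ≠ 1} ≠ ⊤) :
    Group.IsNilpotent (Subgroup.closure {g : G | g ^ p ≠ 1}) ∧ (Subgroup.closure {g : G | g ^ p ≠ 1}).index = p := by
  haveI : (Subgroup.closure {g : G | g ^ p ≠ 1}).Normal := by
    apply closure_normal_of_conj
    intro g a ha
    show (g * a * g⁻¹) ^ p ≠ 1
    rw [conj_pow]
    intro h
    apply ha
    have : a ^ p = g⁻¹ * (g * a ^ p * g⁻¹) * g := by group
    rw [this, h]; group
  apply hughes_core p hp hG _ hH
  intro g hg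
  by_contra h
  exact hg (Subgroup.subset_closure h)

end Cfsg.Agent.S4249
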