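import Cfsg.Statements.S4250
import Cfsg.Agent.Lib.Helper70.Alperin

set_option autoImplicit false
set_option linter.style.haveILetI false
open Cfsg

namespace Cfsg.Agent.S4250

open scoped Pointwise commutatorElement
open Cfsg.Agent.Helper70 Cfsg.Agent.Helper33

/-- Commutators along an Alperin chain lie in the subgroup generated by the
`⁅P ⊓ Q, ⟨x⟩⁆`. -/
theorem chain_commutator_mem {G : Type*} [Group G] {p : ℕ} {P : Subgroup G} (D : Subgroup G)
    (hD : ∀ (Q : Sylow p G) (x : G), IsTame p P (Q : Subgroup G) →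
      x ∈ Subgroup.normalizer ((P ⊓ (Q : Subgroup G) : Subgroup G) : Set G) → IsPElt p x →
      ⁅P ⊓ (Q : Subgroup G), Subgroup.zpowers x⁆ ≤ D)
    {K : Subgroup G} {z : G} (h : AlpChain p P K z) :
    ∀ a ∈ K, ⁅z, a⁆ ∈ D := by
  induction h with
  | refl K =>
    intro a _
    rw [commutatorElement_def]
    simp
  | step K Q x g ht hx hp hle _ ih =>
    intro a ha
    have h1 : ⁅g * x, a⁆ = ⁅g, x * a * x⁻¹⁆ * ⁅x, a⁆ := by
      simp only [commutatorElement_def]
      group
    rw [h1]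
    refine mul_mem (ih _ (conj_mem_conj_smul ha)) ?_
    apply hD Q x ht hx hp
    rw [Subgroup.commutator_comm]
    exact Subgroup.commutator_mem_commutator (Subgroup.mem_zpowers x) (hle ha)

/-- Let P be a Sylow p-subgroup of a finite group G. Call an intersection H = P ∩ Q with a Sylow p-subgroup Q tame when N_P(H) and N_Q(H) are Sylow p-subgroups of N_G(H). Then P ∩ G′ is generated by [P, N_G(P)] together with the commutator subgroups [P ∩ Q, ⟨x⟩] for all tame intersections P ∩ Q and all p-elements x of N_G(P ∩ Q). -/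
theorem result {G : Type*} [Group G] [Finite G] (p : ℕ) [Fact p.Prime] (P : Sylow p G) :
    (P : Subgroup G) ⊓ commutator G =
      ⁅(P : Subgroup G), Subgroup.normalizer ((P : Subgroup G) : Set G)⁆ ⊔
        ⨆ (Q : Sylow p G) (_ : (¬ p ∣ ((P : Subgroup G) ⊓ Subgroup.normalizer (((P : Subgroup G) ⊓ (Q : Subgroup G) : Subgroup G) : Set G)).relIndex (Subgroup.normalizer (((P : Subgroup G) ⊓ (Q : Subgroup G) : Subgroup G) : Set G)) ∧ ¬ p ∣ ((Q : Subgroup G) ⊓ Subgroup.normalizer (((P : Subgroup G) ⊓ (Q : Subgroup G) : Subgroup G) : Set G)).relIndex (Subgroup.normalizer (((P : Subgroup G) ⊓ (Q : Subgroup G) : Subgroup G) : Set G))))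
          (x : G) (_ : x ∈ Subgroup.normalizer (((P : Subgroup G) ⊓ (Q : Subgroup G) : Subgroup G) : Set G) ∧ ∃ k : ℕ, orderOf x = p ^ k),
          ⁅(P : Subgroup G) ⊓ (Q : Subgroup G), Subgroup.zpowers x⁆ := by
  obtain ⟨D, hDdef⟩ : ∃ D : Subgroup G, D = ⁅(P : Subgroup G), Subgroup.normalizer ((P : Subgroup G) : Set G)⁆ ⊔
        ⨆ (Q : Sylow p G) (_ : (¬ p ∣ ((P : Subgroup G) ⊓ Subgroup.normalizer (((P : Subgroup G) ⊓ (Q : Subgroup G) : Subgroup G) : Set G)).relIndex (Subgroup.normalizer (((P : Subgroup G) ⊓ (Q : Subgroup G) : Subgroup G) : Set G)) ∧ ¬ p ∣ ((Q : Subgroup G) ⊓ Subgroup.normalizer (((P : Subgroup G) ⊓ (Q : Subgroup G) : Subgroup G) : Set G)).relIndex (Subgroup.normalizer (((P : Subgroup G) ⊓ (Q : Subgroup G) : Subgroup G) : Set G))))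
          (x : G) (_ : x ∈ Subgroup.normalizer (((P : Subgroup G) ⊓ (Q : Subgroup G) : Subgroup G) : Set G) ∧ ∃ k : ℕ, orderOf x = p ^ k),
          ⁅(P : Subgroup G) ⊓ (Q : Subgroup G), Subgroup.zpowers x⁆ := ⟨_, rfl⟩
  rw [← hDdef]
  have hD1 : ⁅(P : Subgroup G), Subgroup.normalizer ((P : Subgroup G) : Set G)⁆ ≤ D := by
    rw [hDdef]; exact le_sup_left
  have hD2 : ∀ (Q : Sylow p G) (x : G), IsTame p (P : Subgroup G) (Q : Subgroup G) →
      x ∈ Subgroup.normalizer (((P : Subgroup G) ⊓ (Q : Subgroup G) : Subgroup G) : Set G) →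
      IsPElt p x → ⁅(P : Subgroup G) ⊓ (Q : Subgroup G), Subgroup.zpowers x⁆ ≤ D := by
    intro Q x ht hx hp
    rw [hDdef]
    exact le_sup_of_le_right (le_iSup_of_le Q (le_iSup_of_le ht (le_iSup_of_le x
      (le_iSup_of_le ⟨hx, hp⟩ le_rfl))))
  apply le_antisymm
  · -- focal subgroup theorem + Alperin
    rw [inf_comm, Subgroup.commutator_inf_eq_focalSubgroup P, Subgroup.focalSubgroup_def,
      Subgroup.closure_le]
    rintro c ⟨hcP, a, haP, u, rfl⟩
    -- `u a u⁻¹ ∈ P`
    have huP : u * a * u⁻¹ ∈ (P : Subgroup G) := by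
      have h1 : u * a * u⁻¹ = (a⁻¹ * ⁅a, u⁆)⁻¹ := by
        rw [commutatorElement_def]; group
      rw [h1]
      exact inv_mem (mul_mem (inv_mem haP) hcP)
    have hK : Subgroup.zpowers a ≤ (P : Subgroup G) := Subgroup.zpowers_le.mpr haP
    have hKu : MulAut.conj u • Subgroup.zpowers a ≤ (P : Subgroup G) := by
      rw [conj_smul_le_iff]
      intro b hb
      obtain ⟨k, rfl⟩ := Subgroup.mem_zpowers_iff.mp hb
      have : u * a ^ k * u⁻¹ = (u * a * u⁻¹) ^ k := by
        rw [conj_zpow]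
      rw [this]
      exact zpow_mem huP k
    obtain ⟨y, z, hy, hz, rfl⟩ := alperin P hK hKu
    have hza : ⁅z, a⁆ ∈ D := chain_commutator_mem D hD2 hz a (Subgroup.mem_zpowers a)
    have hzaP : z * a * z⁻¹ ∈ (P : Subgroup G) :=
      (hz.conj_le hK) (conj_mem_conj_smul (Subgroup.mem_zpowers a))
    have hya : ⁅y, z * a * z⁻¹⁆ ∈ D := by
      apply hD1
      rw [Subgroup.commutator_comm]
      exact Subgroup.commutator_mem_commutator hy hzaP
    have h2 : ⁅a, y * z⁆ = (⁅y, z * a * z⁻¹⁆ * ⁅z, a⁆)⁻¹ := by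
      simp only [commutatorElement_def]
      group
    rw [h2]
    exact inv_mem (mul_mem hya hza)
  · rw [hDdef]
    refine sup_le ?_ (iSup_le fun Q => iSup_le fun _ => iSup_le fun x => iSup_le fun hx => ?_)
    · refine le_inf ?_ ?_
      · rw [Subgroup.commutator_le]
        intro a ha n hn
        have h1 : ⁅a, n⁆ = a * (n * a⁻¹ * n⁻¹) := by
          rw [commutatorElement_def]; group
        rw [h1]
        exact mul_mem ha ((Subgroup.mem_normalizer_iff.mp hn a⁻¹).mp (inv_mem ha))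
      · rw [commutator_def]
        exact Subgroup.commutator_mono le_top le_top
    · refine le_inf ?_ ?_
      · rw [Subgroup.commutator_le]
        intro a ha y hy
        have hyN : y ∈ Subgroup.normalizer
            (((P : Subgroup G) ⊓ (Q : Subgroup G) : Subgroup G) : Set G) :=
          (Subgroup.zpowers_le.mpr hx.1) hy
        have h1 : ⁅a, y⁆ = a * (y * a⁻¹ * y⁻¹) := by
          rw [commutatorElement_def]; group
        rw [h1]
        exact (mul_mem ha ((Subgroup.mem_normalizer_iff.mp hyN a⁻¹).mp (inv_mem ha))).1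
      · rw [commutator_def]
        exact Subgroup.commutator_mono le_top le_top

end Cfsg.Agent.S4250
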