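import Cfsg.Statements.S4251
import Cfsg.Agent.Lib.Helper70.Alperin
import Cfsg.Agent.Lib.Helper2.Frobenius

set_option autoImplicit false
set_option linter.style.haveILetI false
open Cfsg

namespace Cfsg.Agent.S4251

open scoped Pointwise
open Cfsg.Agent.Helper70 Cfsg.Agent.Helper33

section

variable {G : Type*} [Group G]

/-- If `g` and `v` induce the same conjugation on `X`, `g` normalizes `X`, and the orders of
`g` and `v` are coprime, then `g` centralizes `X`. -/
theorem mem_centralizer_of_coprime [Finite G] {X : Subgroup G} {g v : G}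
    (hg : g ∈ Subgroup.normalizer (X : Set G))
    (h : ∀ a ∈ X, g * a * g⁻¹ = v * a * v⁻¹) (hcop : Nat.Coprime (orderOf g) (orderOf v)) :
    g ∈ Subgroup.centralizer (X : Set G) := by
  have hpow : ∀ n : ℕ, ∀ a ∈ X, g ^ n * a * (g ^ n)⁻¹ = v ^ n * a * (v ^ n)⁻¹ := by
    intro n
    induction n with
    | zero => intro a _; simp
    | succ n ih =>
      intro a ha
      have hga : g * a * g⁻¹ ∈ X := (Subgroup.mem_normalizer_iff.mp hg a).mp ha
      have e1 : g ^ (n + 1) * a * (g ^ (n + 1))⁻¹ = g ^ n * (g * a * g⁻¹) * (g ^ n)⁻¹ := by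
        rw [pow_succ]; group
      have e2 : v ^ (n + 1) * a * (v ^ (n + 1))⁻¹ = v ^ n * (v * a * v⁻¹) * (v ^ n)⁻¹ := by
        rw [pow_succ]; group
      rw [e1, e2, ih _ hga, h a ha]
  rw [Subgroup.mem_centralizer_iff]
  intro a ha
  by_cases hg1 : orderOf g = 1
  · rw [orderOf_eq_one_iff] at hg1
    rw [hg1]; simp
  have hgpos : 0 < orderOf g := orderOf_pos g
  have hlt : 1 < orderOf g := by omega
  obtain ⟨k, -, hk⟩ := Nat.exists_mul_mod_eq_one_of_coprime hcop.symm hlt
  have e1 : g ^ (orderOf v * k) = g := by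
    rw [← pow_mod_orderOf, hk, pow_one]
  have e2 : v ^ (orderOf v * k) = 1 := by
    rw [pow_mul, pow_orderOf_eq_one, one_pow]
  have := hpow (orderOf v * k) a ha
  rw [e1, e2] at this
  have h2 : g * a * g⁻¹ = a := by simpa using this
  calc a * g = (g * a * g⁻¹) * g := by rw [h2]
    _ = g * a := by group

variable {p : ℕ} [Fact p.Prime]

/-- `P = P ⊓ P` is a tame intersection. -/
theorem isTame_self [Finite G] (P : Sylow p G) : IsTame p (P : Subgroup G) (P : Subgroup G) := by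
  have h1 : ¬ p ∣ ((P : Subgroup G) ⊓ Subgroup.normalizer
      (((P : Subgroup G) ⊓ (P : Subgroup G) : Subgroup G) : Set G)).relIndex
      (Subgroup.normalizer (((P : Subgroup G) ⊓ (P : Subgroup G) : Subgroup G) : Set G)) := by
    rw [inf_idem, inf_eq_left.mpr Subgroup.le_normalizer]
    intro hdvd
    apply P.not_dvd_index
    rw [← Subgroup.relIndex_mul_index (Subgroup.le_normalizer (H := (P : Subgroup G)))]
    exact Dvd.dvd.mul_right hdvd _
  exact ⟨h1, h1⟩

/-- Under the hypothesis of the statement, elements of `N_G(P ⊓ Q)` act on a tame intersection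
`P ⊓ Q` like elements of `P`. -/
theorem exists_mem_conj_eq [Finite G] (P Q : Sylow p G)
    (h : (P : Subgroup G) ⊓ (Q : Subgroup G) ≠ ⊥ → IsTame p (P : Subgroup G) (Q : Subgroup G) →
      IsPGroup p (Subgroup.normalizer (((P : Subgroup G) ⊓ (Q : Subgroup G) : Subgroup G) : Set G) ⧸
        (Subgroup.centralizer (((P : Subgroup G) ⊓ (Q : Subgroup G) : Subgroup G) : Set G)).subgroupOf
          (Subgroup.normalizer (((P : Subgroup G) ⊓ (Q : Subgroup G) : Subgroup G) : Set G))))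
    (ht : IsTame p (P : Subgroup G) (Q : Subgroup G)) {x : G}
    (hx : x ∈ Subgroup.normalizer (((P : Subgroup G) ⊓ (Q : Subgroup G) : Subgroup G) : Set G)) :
    ∃ w ∈ (P : Subgroup G), ∀ a ∈ (P : Subgroup G) ⊓ (Q : Subgroup G),
      x * a * x⁻¹ = w * a * w⁻¹ := by
  have hp : p.Prime := Fact.out
  by_cases hne : (P : Subgroup G) ⊓ (Q : Subgroup G) = ⊥
  · refine ⟨1, one_mem _, ?_⟩
    intro a ha
    rw [hne, Subgroup.mem_bot] at ha
    rw [ha]; simp
  have hq := h hne ht
  obtain ⟨H, hH⟩ : ∃ H : Subgroup G, H = (P : Subgroup G) ⊓ (Q : Subgroup G) := ⟨_, rfl⟩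
  rw [← hH] at hq hx ⊢
  have ht1 := ht.1
  rw [← hH] at ht1
  obtain ⟨N, hN⟩ : ∃ N : Subgroup G, N = Subgroup.normalizer (H : Set G) := ⟨_, rfl⟩
  -- image of `N_P(H)` in `N/C`
  let π := QuotientGroup.mk' ((Subgroup.centralizer (H : Set G)).subgroupOf
    (Subgroup.normalizer (H : Set G)))
  let NP : Subgroup (Subgroup.normalizer (H : Set G)) :=
    ((P : Subgroup G) ⊓ Subgroup.normalizer (H : Set G)).subgroupOf (Subgroup.normalizer (H : Set G))
  have hidx : (NP.map π).index = 1 := by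
    have hdvd : (NP.map π).index ∣ NP.index :=
      Subgroup.index_map_dvd NP (QuotientGroup.mk'_surjective _)
    obtain ⟨k, hk⟩ := hq.index (NP.map π)
    have hcop : ¬ p ∣ NP.index := ht1
    rcases Nat.eq_zero_or_pos k with h0 | hpos
    · rw [hk, h0, pow_zero]
    · exfalso
      apply hcop
      exact dvd_trans (hk ▸ dvd_pow_self p hpos.ne') hdvd
  have htop : NP.map π = ⊤ := Subgroup.index_eq_one.mp hidx
  have hxm : π ⟨x, hx⟩ ∈ NP.map π := by rw [htop]; exact Subgroup.mem_top _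
  obtain ⟨w, hw, hwx⟩ := hxm
  have hwP : (w : G) ∈ (P : Subgroup G) := (Subgroup.mem_subgroupOf.mp hw).1
  have hc : w⁻¹ * ⟨x, hx⟩ ∈ (Subgroup.centralizer (H : Set G)).subgroupOf
      (Subgroup.normalizer (H : Set G)) := QuotientGroup.eq.mp hwx
  rw [Subgroup.mem_subgroupOf, Subgroup.mem_centralizer_iff] at hc
  refine ⟨(w : G), hwP, ?_⟩
  intro a ha
  have hca := hc a ha
  simp only [Subgroup.coe_mul, Subgroup.coe_inv] at hca
  -- hca : a * (w⁻¹ * x) = w⁻¹ * x * a
  calc x * a * x⁻¹ = (w : G) * ((w : G)⁻¹ * x * a) * x⁻¹ := by group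
    _ = (w : G) * (a * ((w : G)⁻¹ * x)) * x⁻¹ := by rw [hca]
    _ = (w : G) * a * (w : G)⁻¹ := by group

/-- Along an Alperin chain, conjugation agrees with conjugation by an element of `P`. -/
theorem chain_conj_eq [Finite G] (P : Sylow p G)
    (h : ∀ Q : Sylow p G, (P : Subgroup G) ⊓ (Q : Subgroup G) ≠ ⊥ →
      IsTame p (P : Subgroup G) (Q : Subgroup G) →
      IsPGroup p (Subgroup.normalizer (((P : Subgroup G) ⊓ (Q : Subgroup G) : Subgroup G) : Set G) ⧸
        (Subgroup.centralizer (((P : Subgroup G) ⊓ (Q : Subgroup G) : Subgroup G) : Set G)).subgroupOf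
          (Subgroup.normalizer (((P : Subgroup G) ⊓ (Q : Subgroup G) : Subgroup G) : Set G))))
    {K : Subgroup G} {z : G} (hz : AlpChain p (P : Subgroup G) K z) :
    ∃ w ∈ (P : Subgroup G), ∀ a ∈ K, z * a * z⁻¹ = w * a * w⁻¹ := by
  induction hz with
  | refl K => exact ⟨1, one_mem _, fun a _ => by simp⟩
  | step K Q x g ht hx hp hle _ ih =>
    obtain ⟨w', hw', hw'eq⟩ := ih
    obtain ⟨w'', hw'', hw''eq⟩ := exists_mem_conj_eq P Q (h Q) ht hx
    refine ⟨w' * w'', mul_mem hw' hw'', ?_⟩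
    intro a ha
    have e1 : g * x * a * (g * x)⁻¹ = g * (x * a * x⁻¹) * g⁻¹ := by group
    rw [e1, hw'eq _ (conj_mem_conj_smul ha), hw''eq a (hle ha)]
    group

end

/-- Let P be a Sylow p-subgroup of a finite group G. Call an intersection H = P ∩ Q with a Sylow p-subgroup Q tame when N_P(H) and N_Q(H) are Sylow p-subgroups of N_G(H). If N_G(H)/C_G(H) is a p-group for every nontrivial tame intersection H = P ∩ Q, then G has a normal p-complement. -/
theorem result {G : Type*} [Group G] [Finite G] (p : ℕ) [Fact p.Prime] (P : Sylow p G)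
    (h : ∀ Q : Sylow p G, (P : Subgroup G) ⊓ (Q : Subgroup G) ≠ ⊥ → (¬ p ∣ ((P : Subgroup G) ⊓ Subgroup.normalizer (((P : Subgroup G) ⊓ (Q : Subgroup G) : Subgroup G) : Set G)).relIndex (Subgroup.normalizer (((P : Subgroup G) ⊓ (Q : Subgroup G) : Subgroup G) : Set G)) ∧ ¬ p ∣ ((Q : Subgroup G) ⊓ Subgroup.normalizer (((P : Subgroup G) ⊓ (Q : Subgroup G) : Subgroup G) : Set G)).relIndex (Subgroup.normalizer (((P : Subgroup G) ⊓ (Q : Subgroup G) : Subgroup G) : Set G))) →
      IsPGroup p (Subgroup.normalizer (((P : Subgroup G) ⊓ (Q : Subgroup G) : Subgroup G) : Set G) ⧸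
        (Subgroup.centralizer (((P : Subgroup G) ⊓ (Q : Subgroup G) : Subgroup G) : Set G)).subgroupOf
          (Subgroup.normalizer (((P : Subgroup G) ⊓ (Q : Subgroup G) : Subgroup G) : Set G)))) :
    Cfsg.HasNormalPComplement p G := by
  have hp : p.Prime := Fact.out
  apply Cfsg.Agent.Helper2.frobenius p
  apply Cfsg.Agent.Helper2.frobCond_of_sylow P
  intro X hXP g hgN hgo
  have hgX : MulAut.conj g • X ≤ (P : Subgroup G) := by
    rw [smul_eq_of_mem_normalizer hgN]; exact hXP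
  obtain ⟨y, z, hy, hz, rfl⟩ := alperin P hXP hgX
  obtain ⟨w, hw, hweq⟩ := chain_conj_eq P h hz
  have hy' : y ∈ Subgroup.normalizer
      (((P : Subgroup G) ⊓ (P : Subgroup G) : Subgroup G) : Set G) := by
    rw [inf_idem]; exact hy
  obtain ⟨w₂, hw₂, hw₂eq⟩ := exists_mem_conj_eq P P (h P) (isTame_self P) hy'
  have hv : ∀ a ∈ X, y * z * a * (y * z)⁻¹ = (w₂ * w) * a * (w₂ * w)⁻¹ := by
    intro a ha
    have e1 : y * z * a * (y * z)⁻¹ = y * (z * a * z⁻¹) * y⁻¹ := by group
    have hwa : w * a * w⁻¹ ∈ (P : Subgroup G) ⊓ (P : Subgroup G) := by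
      have : w * a * w⁻¹ ∈ (P : Subgroup G) := mul_mem (mul_mem hw (hXP ha)) (inv_mem hw)
      exact ⟨this, this⟩
    rw [e1, hweq a ha, hw₂eq _ hwa]
    group
  apply mem_centralizer_of_coprime hgN hv
  have hvP : w₂ * w ∈ (P : Subgroup G) := mul_mem hw₂ hw
  obtain ⟨k, hk⟩ := (IsPGroup.iff_orderOf.mp P.2) ⟨w₂ * w, hvP⟩
  have hk' : orderOf (w₂ * w) = p ^ k := by
    rw [← hk]; exact (Subgroup.orderOf_mk _ hvP).symm
  rw [hk']
  exact Nat.Coprime.pow_right k hgo

end Cfsg.Agent.S4251
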