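import Cfsg.Statements.S4255
import Cfsg.Agent.Lib.Helper55.ClassGraph

set_option autoImplicit false
open Cfsg

namespace Cfsg.Agent.S4255

open Cfsg.Agent.Helper55.ClassGraph Cfsg.Agent.Helper55.ClassProd

/-- Let G be a finite group. Call a prime a vertex if it divides some conjugacy class size of G, and two distinct vertices adjacent if their product divides some class size. Suppose this graph is disconnected: the vertices split into two nonempty parts with no vertex of one part adjacent to a vertex of the other. Then G/Z(G) is a Frobenius group with abelian Frobenius complement and with a Frobenius kernel all of whose elements commute. -/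
theorem result {G : Type*} [Group G] [Finite G] (S : Set ℕ) (hS : ∃ p ∈ S, (p.Prime ∧ ∃ g : G, p ∣ (Subgroup.centralizer ({g} : Set G)).index)) (hS' : ∃ q ∉ S, (q.Prime ∧ ∃ g : G, q ∣ (Subgroup.centralizer ({g} : Set G)).index))
    (hdisc : ∀ p q : ℕ, (p.Prime ∧ ∃ g : G, p ∣ (Subgroup.centralizer ({g} : Set G)).index) → (q.Prime ∧ ∃ g : G, q ∣ (Subgroup.centralizer ({g} : Set G)).index) → p ∈ S → q ∉ S → ¬ (∃ g : G, p * q ∣ (Subgroup.centralizer ({g} : Set G)).index)) :
    ∃ H : Subgroup (G ⧸ Subgroup.center G), Cfsg.IsFrobeniusComplement H ∧ IsMulCommutative H ∧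
      ∀ x ∈ Cfsg.frobeniusKernel H, ∀ y ∈ Cfsg.frobeniusKernel H, x * y = y * x := by
  classical
  have hd : Dich G S := by
    intro g
    by_contra hcon
    push Not at hcon
    obtain ⟨⟨r, hr, hrd, hrS⟩, ⟨r', hr', hrd', hr'S⟩⟩ := hcon
    have hne : r' ≠ r := by
      rintro rfl
      exact hrS hr'S
    have hcop : Nat.Coprime r' r := (Nat.coprime_primes hr' hr).mpr hne
    have hmul := hcop.mul_dvd_of_dvd_of_dvd hrd' hrd
    exact hdisc r' r ⟨hr', g, hrd'⟩ ⟨hr, g, hrd⟩ hr'S hrS ⟨g, hmul⟩
  have hd' : Dich G Sᶜ := by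
    intro g
    rcases hd g with h | h
    · right
      intro r hr hrd hc
      exact hc (h r hr hrd)
    · left
      intro r hr hrd
      exact h r hr hrd
  obtain ⟨b₀, hmax⟩ : ∃ b₀ : G, ∀ g : G, (Subgroup.centralizer ({g} : Set G)).index ≤
      (Subgroup.centralizer ({b₀} : Set G)).index :=
    Finite.exists_max (fun g : G => (Subgroup.centralizer ({g} : Set G)).index)
  obtain ⟨p, hpS, hpp, gp, hgp⟩ := hS
  obtain ⟨q, hqS, hqp, gq, hgq⟩ := hS'
  have hgp1 : (Subgroup.centralizer ({gp} : Set G)).index ≠ 1 := by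
    intro h
    rw [h] at hgp
    exact hpp.one_lt.ne' (Nat.dvd_one.mp hgp)
  have hgq1 : (Subgroup.centralizer ({gq} : Set G)).index ≠ 1 := by
    intro h
    rw [h] at hgq
    exact hqp.one_lt.ne' (Nat.dvd_one.mp hgq)
  have hT1 : T1 S gp := by
    refine ⟨hgp1, ?_⟩
    rcases hd gp with h | h
    · exact h
    · exact (h p hpp hgp hpS).elim
  have hT2 : T2 S gq := by
    refine ⟨hgq1, ?_⟩
    rcases hd gq with h | h
    · exact (hqS (h q hqp hgq)).elim
    · exact h
  have hb1 : (Subgroup.centralizer ({b₀} : Set G)).index ≠ 1 := by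
    intro h
    have h1 := hmax gp
    rw [h] at h1
    have h0 : (Subgroup.centralizer ({gp} : Set G)).index ≠ 0 := index_centralizer_ne_zero gp
    omega
  rcases hd b₀ with h | h
  · -- the largest class size is an `S`-number: swap the roles
    have hb₀ : T2 Sᶜ b₀ := ⟨hb1, fun r hr hrd hc => hc (h r hr hrd)⟩
    have ha₀ : T1 Sᶜ gq := ⟨hgq1, fun r hr hrd => hT2.2 r hr hrd⟩
    exact core hd' hmax hb₀ ha₀
  · have hb₀ : T2 S b₀ := ⟨hb1, h⟩
    exact core hd hmax hb₀ hT1

end Cfsg.Agent.S4255
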