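import Cfsg.Statements.S4257
import Cfsg.Agent.Lib.Helper55.ClassSys

set_option autoImplicit false
open Cfsg

namespace Cfsg.Agent.S4257

open Cfsg.Agent.Helper55.ClassProd Cfsg.Agent.Helper55.ClassSys

/-- Let G be a finite group. Call a prime a vertex if it divides some conjugacy class size of G, and two distinct vertices adjacent if their product divides some class size. If this graph is connected, then its diameter is at most 3: any two distinct vertices p and q are adjacent, or joined through one or two intermediate vertices. -/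
theorem result {G : Type*} [Group G] [Finite G]
    (hconn : ∀ S : Set ℕ, (∃ p ∈ S, (p.Prime ∧ ∃ g : G, p ∣ (Subgroup.centralizer ({g} : Set G)).index)) → (∃ q ∉ S, (q.Prime ∧ ∃ g : G, q ∣ (Subgroup.centralizer ({g} : Set G)).index)) →
      ∃ p q : ℕ, (p.Prime ∧ ∃ g : G, p ∣ (Subgroup.centralizer ({g} : Set G)).index) ∧ (q.Prime ∧ ∃ g : G, q ∣ (Subgroup.centralizer ({g} : Set G)).index) ∧ p ∈ S ∧ q ∉ S ∧ (∃ g : G, p * q ∣ (Subgroup.centralizer ({g} : Set G)).index))
    (p q : ℕ) (hp : (p.Prime ∧ ∃ g : G, p ∣ (Subgroup.centralizer ({g} : Set G)).index)) (hq : (q.Prime ∧ ∃ g : G, q ∣ (Subgroup.centralizer ({g} : Set G)).index)) (hpq : p ≠ q) :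
    (∃ g : G, p * q ∣ (Subgroup.centralizer ({g} : Set G)).index) ∨ (∃ r : ℕ, (r.Prime ∧ ∃ g : G, r ∣ (Subgroup.centralizer ({g} : Set G)).index) ∧ r ≠ p ∧ r ≠ q ∧ (∃ g : G, p * r ∣ (Subgroup.centralizer ({g} : Set G)).index) ∧ (∃ g : G, r * q ∣ (Subgroup.centralizer ({g} : Set G)).index)) ∨
      (∃ r s : ℕ, (r.Prime ∧ ∃ g : G, r ∣ (Subgroup.centralizer ({g} : Set G)).index) ∧ (s.Prime ∧ ∃ g : G, s ∣ (Subgroup.centralizer ({g} : Set G)).index) ∧ r ≠ p ∧ s ≠ q ∧ r ≠ s ∧ r ≠ q ∧ s ≠ p ∧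
        (∃ g : G, p * r ∣ (Subgroup.centralizer ({g} : Set G)).index) ∧ (∃ g : G, r * s ∣ (Subgroup.centralizer ({g} : Set G)).index) ∧ (∃ g : G, s * q ∣ (Subgroup.centralizer ({g} : Set G)).index)) := by
  classical
  by_contra hcon
  rw [not_or, not_or] at hcon
  obtain ⟨hD1, hD2, hD3⟩ := hcon
  obtain ⟨hpp, gp, hgp⟩ := hp
  obtain ⟨hqp, gq, hgq⟩ := hq
  have hmul : ∀ {u v n : ℕ}, u.Prime → v.Prime → u ≠ v → u ∣ n → v ∣ n → u * v ∣ n :=
    fun hu hv huv h1 h2 => ((Nat.coprime_primes hu hv).mpr huv).mul_dvd_of_dvd_of_dvd h1 h2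
  let SP : Set ℕ := {r | r = p ∨ ∃ g : G, p * r ∣ (Subgroup.centralizer ({g} : Set G)).index}
  let SQ : Set ℕ := {s | s = q ∨ ∃ g : G, s * q ∣ (Subgroup.centralizer ({g} : Set G)).index}
  have hA2p : ∀ g : G, p ∣ (Subgroup.centralizer ({g} : Set G)).index → ∀ r : ℕ, r.Prime →
      r ∣ (Subgroup.centralizer ({g} : Set G)).index → r ∈ SP := by
    intro g hg r hr hrg
    by_cases h : r = p
    · exact Or.inl h
    · exact Or.inr ⟨g, hmul hpp hr (Ne.symm h) hg hrg⟩
  have hA2q : ∀ g : G, q ∣ (Subgroup.centralizer ({g} : Set G)).index → ∀ r : ℕ, r.Prime →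
      r ∣ (Subgroup.centralizer ({g} : Set G)).index → r ∈ SQ := by
    intro g hg r hr hrg
    by_cases h : r = q
    · exact Or.inl h
    · exact Or.inr ⟨g, hmul hr hqp h hrg hg⟩
  have hA4 : ∀ g : G, ∀ r s : ℕ, r.Prime → s.Prime → r ∈ SP → s ∈ SQ →
      r ∣ (Subgroup.centralizer ({g} : Set G)).index →
      s ∣ (Subgroup.centralizer ({g} : Set G)).index → False := by
    intro g r s hr hs hrS hsS hrg hsg
    have hvr : r.Prime ∧ ∃ g : G, r ∣ (Subgroup.centralizer ({g} : Set G)).index := ⟨hr, g, hrg⟩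
    have hvs : s.Prime ∧ ∃ g : G, s ∣ (Subgroup.centralizer ({g} : Set G)).index := ⟨hs, g, hsg⟩
    rcases hrS with hrp | ⟨g₁, hg₁⟩
    · rcases hsS with hsq | ⟨g₂, hg₂⟩
      · apply hD1
        refine ⟨g, ?_⟩
        rw [← hrp, ← hsq]
        exact hmul hr hs (by rw [hrp, hsq]; exact hpq) hrg hsg
      · -- r = p, s adjacent to q
        by_cases hsp : s = p
        · apply hD1
          rw [hsp] at hg₂
          exact ⟨g₂, hg₂⟩
        · by_cases hsq : s = q
          · apply hD1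
            refine ⟨g, ?_⟩
            rw [← hrp, ← hsq]
            exact hmul hr hs (by rw [hrp]; exact Ne.symm hsp) hrg hsg
          · apply hD2
            refine ⟨s, hvs, hsp, hsq, ⟨g, ?_⟩, ⟨g₂, hg₂⟩⟩
            rw [← hrp]
            exact hmul hr hs (by rw [hrp]; exact Ne.symm hsp) hrg hsg
    · rcases hsS with hsq | ⟨g₂, hg₂⟩
      · -- r adjacent to p, s = q
        by_cases hrq : r = q
        · apply hD1
          rw [hrq] at hg₁
          exact ⟨g₁, hg₁⟩
        · by_cases hrp : r = p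
          · apply hD1
            refine ⟨g, ?_⟩
            rw [← hrp, ← hsq]
            exact hmul hr hs (by rw [hsq]; exact hrq) hrg hsg
          · apply hD2
            refine ⟨r, hvr, hrp, hrq, ⟨g₁, hg₁⟩, ⟨g, ?_⟩⟩
            rw [← hsq]
            exact hmul hr hs (by rw [hsq]; exact hrq) hrg hsg
      · -- r adjacent to p, s adjacent to q
        by_cases hrq : r = q
        · apply hD1
          rw [hrq] at hg₁
          exact ⟨g₁, hg₁⟩
        · by_cases hsp : s = p
          · apply hD1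
            rw [hsp] at hg₂
            exact ⟨g₂, hg₂⟩
          · by_cases hrp : r = p
            · -- p = r, s adjacent to q, p * s divides
              by_cases hsq : s = q
              · apply hD1
                refine ⟨g, ?_⟩
                rw [← hrp, ← hsq]
                exact hmul hr hs (by rw [hrp]; exact Ne.symm hsp) hrg hsg
              · apply hD2
                refine ⟨s, hvs, hsp, hsq, ⟨g, ?_⟩, ⟨g₂, hg₂⟩⟩
                rw [← hrp]
                exact hmul hr hs (by rw [hrp]; exact Ne.symm hsp) hrg hsg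
            · by_cases hsq : s = q
              · apply hD2
                refine ⟨r, hvr, hrp, hrq, ⟨g₁, hg₁⟩, ⟨g, ?_⟩⟩
                rw [← hsq]
                exact hmul hr hs (by rw [hsq]; exact hrq) hrg hsg
              · by_cases hrs : r = s
                · apply hD2
                  refine ⟨r, hvr, hrp, hrq, ⟨g₁, hg₁⟩, ⟨g₂, ?_⟩⟩
                  rw [hrs]
                  exact hg₂
                · apply hD3
                  exact ⟨r, s, hvr, hvs, hrp, hsq, hrs, hrq, hsp, ⟨g₁, hg₁⟩,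
                    ⟨g, hmul hr hs hrs hrg hsg⟩, ⟨g₂, hg₂⟩⟩
  have hcopAB : ∀ a b : G, p ∣ (Subgroup.centralizer ({a} : Set G)).index →
      q ∣ (Subgroup.centralizer ({b} : Set G)).index →
      ((Subgroup.centralizer ({a} : Set G)).index).Coprime
        (Subgroup.centralizer ({b} : Set G)).index := by
    intro a b ha hb
    apply Nat.coprime_of_dvd
    intro r hr h1 h2
    exact hA4 a r r hr hr (hA2p a ha r hr h1) (hA2q b hb r hr h2) h1 h1
  -- maximal class sizes divisible by `p`, resp. `q`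
  haveI : Nonempty {g : G // p ∣ (Subgroup.centralizer ({g} : Set G)).index} := ⟨⟨gp, hgp⟩⟩
  haveI : Nonempty {g : G // q ∣ (Subgroup.centralizer ({g} : Set G)).index} := ⟨⟨gq, hgq⟩⟩
  obtain ⟨⟨a₁, ha₁⟩, hamax⟩ := Finite.exists_max
    (fun g : {g : G // p ∣ (Subgroup.centralizer ({g} : Set G)).index} =>
      (Subgroup.centralizer ({(g : G)} : Set G)).index)
  obtain ⟨⟨b₁, hb₁⟩, hbmax⟩ := Finite.exists_max
    (fun g : {g : G // q ∣ (Subgroup.centralizer ({g} : Set G)).index} =>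
      (Subgroup.centralizer ({(g : G)} : Set G)).index)
  have hne : (Subgroup.centralizer ({a₁} : Set G)).index ≠
      (Subgroup.centralizer ({b₁} : Set G)).index := by
    intro h
    have hc := hcopAB a₁ b₁ ha₁ hb₁
    rw [h] at hc
    have h1 := (Nat.coprime_self _).mp hc
    rw [h1] at hb₁
    exact hqp.one_lt.ne' (Nat.dvd_one.mp hb₁)
  have hpSP : p ∈ SP := Or.inl rfl
  have hqSQ : q ∈ SQ := Or.inl rfl
  have hqSP : q ∉ SP := by
    rintro (h | ⟨g, hg⟩)
    · exact hpq h.symm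
    · exact hD1 ⟨g, hg⟩
  have hpSQ : p ∉ SQ := by
    rintro (h | ⟨g, hg⟩)
    · exact hpq h
    · exact hD1 ⟨g, hg⟩
  rcases lt_or_gt_of_ne hne with hlt | hlt
  · -- the largest `q`-class beats all `p`-classes
    haveI : Fact p.Prime := ⟨hpp⟩
    have hcl := key p q SP SQ hA2p hA2q hA4 a₁ ha₁ b₁ hb₁ (fun a ha =>
      lt_of_le_of_lt (hamax ⟨a, ha⟩) hlt)
    obtain ⟨p', q', hp'v, hq'v, hp'S, hq'S, g, hg⟩ := hconn SP ⟨p, hpSP, hpp, gp, hgp⟩
      ⟨q, hqSP, hqp, gq, hgq⟩
    have h1 : p ∣ (Subgroup.centralizer ({g} : Set G)).index :=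
      hcl g p' hp'v.1 hp'S (dvd_of_mul_right_dvd hg)
    exact hq'S (hA2p g h1 q' hq'v.1 (dvd_of_mul_left_dvd hg))
  · -- the largest `p`-class beats all `q`-classes: swap the roles
    haveI : Fact q.Prime := ⟨hqp⟩
    have hcl := key q p SQ SP hA2q hA2p
      (fun g r s hr hs hrS hsS hrg hsg => hA4 g s r hs hr hsS hrS hsg hrg) b₁ hb₁ a₁ ha₁
      (fun b hb => lt_of_le_of_lt (hbmax ⟨b, hb⟩) hlt)
    obtain ⟨p', q', hp'v, hq'v, hp'S, hq'S, g, hg⟩ := hconn SQ ⟨q, hqSQ, hqp, gq, hgq⟩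
      ⟨p, hpSQ, hpp, gp, hgp⟩
    have h1 : q ∣ (Subgroup.centralizer ({g} : Set G)).index :=
      hcl g p' hp'v.1 hp'S (dvd_of_mul_right_dvd hg)
    exact hq'S (hA2q g h1 q' hq'v.1 (dvd_of_mul_left_dvd hg))

end Cfsg.Agent.S4257
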