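import Cfsg.Statements.S4261
import Mathlib

set_option autoImplicit false
set_option linter.style.haveILetI false
open Cfsg
open scoped Pointwise commutatorElement

namespace Cfsg.Agent.S4261

/-- core-free case -/
theorem corefree {G : Type*} [Group G] [Finite G] (hG : Group.IsSolvable G) (M : Subgroup G)
    (hM : IsCoatom M) (hcore : M.normalCore = ⊥) (hexp : ∀ x : G, x ^ M.index ∈ M) :
    M.Normal := by
  classical
  -- a minimal normal subgroup
  have hne : {L : Subgroup G | L.Normal ∧ L ≠ ⊥}.Nonempty := by
    refine ⟨⊤, inferInstance, ?_⟩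
    intro h
    exact hM.1 (le_antisymm le_top (h ▸ bot_le))
  obtain ⟨L, ⟨hLn, hLne⟩, hLmin⟩ := wellFounded_lt.has_min _ hne
  haveI := hLn
  have hmin : ∀ L' : Subgroup G, L'.Normal → L' ≠ ⊥ → L' ≤ L → L' = L := by
    intro L' h1 h2 h3
    by_contra hne'
    exact hLmin L' ⟨h1, h2⟩ (lt_of_le_of_ne h3 hne')
  -- L abelian
  have hLab : ⁅L, L⁆ = ⊥ := by
    by_contra hc
    have hcn : (⁅L, L⁆ : Subgroup G).Normal := inferInstance
    have := hmin _ hcn hc (Subgroup.commutator_le_left L L)
    exact (ne_of_lt (Group.IsSolvable.commutator_lt_of_ne_bot hLne)) this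
  have hLcomm : ∀ a ∈ L, ∀ b ∈ L, a * b = b * a := by
    intro a ha b hb
    have : ⁅a, b⁆ ∈ (⁅L, L⁆ : Subgroup G) := Subgroup.commutator_mem_commutator ha hb
    rw [hLab, Subgroup.mem_bot, commutatorElement_eq_one_iff_mul_comm] at this
    exact this
  -- L not in M
  have hLM : ¬ L ≤ M := by
    intro h
    have := Subgroup.normal_le_normalCore.mpr h
    rw [hcore, le_bot_iff] at this
    exact hLne this
  have hsup : M ⊔ L = ⊤ := by
    by_contra h
    have hlt : M < M ⊔ L := lt_of_le_of_ne le_sup_left (fun h' => hLM (h' ▸ le_sup_right))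
    exact h (hM.2 _ hlt)
  -- L ⊓ M = ⊥
  have hinf : L ⊓ M = ⊥ := by
    have hDn : (L ⊓ M).Normal := by
      rw [← Subgroup.normalizer_eq_top_iff, eq_top_iff, ← hsup, sup_le_iff]
      constructor
      · rw [Subgroup.le_normalizer_iff]
        intro m hm d hd
        exact ⟨hLn.conj_mem d hd.1 m, M.mul_mem (M.mul_mem hm hd.2) (M.inv_mem hm)⟩
      · rw [Subgroup.le_normalizer_iff]
        intro l hl d hd
        rw [hLcomm l hl d hd.1, mul_inv_cancel_right]
        exact hd
    have := Subgroup.normal_le_normalCore.mpr (inf_le_right : L ⊓ M ≤ M)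
    rwa [hcore, le_bot_iff] at this
  have hcompl : Subgroup.IsComplement' L M := by
    apply Subgroup.isComplement'_of_disjoint_and_mul_eq_univ (disjoint_iff.mpr hinf)
    rw [← Subgroup.normal_mul, sup_comm, hsup]; rfl
  have hidx : M.index = Nat.card L := hcompl.index_eq_card
  -- every element of M has n-th power 1
  have hMexp : ∀ m ∈ M, m ^ M.index = 1 := by
    intro m hm
    have : m ^ M.index ∈ M.normalCore := by
      intro g
      rw [← conj_pow]
      exact hexp _
    rwa [hcore, Subgroup.mem_bot] at this
  -- L is a p-group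
  have hLcard : 1 < Nat.card L := by
    rw [Subgroup.one_lt_card_iff_ne_bot]; exact hLne
  obtain ⟨p, hp, hpL⟩ := Nat.exists_prime_and_dvd (ne_of_gt hLcard)
  haveI : Fact p.Prime := ⟨hp⟩
  set P : Sylow p L := default with hP
  have hLcommI : IsMulCommutative L := ⟨⟨fun a b => Subtype.ext (hLcomm a a.2 b b.2)⟩⟩
  have hPn : (P : Subgroup L).Normal := by
    constructor
    intro n hn g
    have : g * n * g⁻¹ = n := by
      have := hLcommI.is_comm.comm g n
      rw [this, mul_inv_cancel_right]
    rw [this]; exact hn
  haveI : (P : Subgroup L).Characteristic := Sylow.characteristic_of_normal P hPn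
  have hTn : ((P : Subgroup L).map L.subtype).Normal := inferInstance
  have hTne : (P : Subgroup L).map L.subtype ≠ ⊥ := by
    intro h
    have h1 : (P : Subgroup L) = ⊥ := by
      rw [eq_bot_iff]
      intro x hx
      have : L.subtype x ∈ (P : Subgroup L).map L.subtype := Subgroup.mem_map_of_mem _ hx
      rw [h, Subgroup.mem_bot] at this
      rw [Subgroup.mem_bot]
      exact Subtype.ext this
    have h2 : p ∣ Nat.card (P : Subgroup L) := P.dvd_card_of_dvd_card hpL
    rw [h1, Subgroup.card_bot] at h2
    exact hp.one_lt.ne' (Nat.dvd_one.mp h2)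
  have hTL : (P : Subgroup L).map L.subtype = L :=
    hmin _ hTn hTne (Subgroup.map_subtype_le _)
  have hLp : IsPGroup p L := by
    have : IsPGroup p ((P : Subgroup L).map L.subtype) := P.isPGroup'.map _
    rwa [hTL] at this
  obtain ⟨k, hk⟩ := IsPGroup.iff_card.mp hLp
  -- G is a p-group
  have hMp : IsPGroup p M := by
    intro m
    refine ⟨k, ?_⟩
    apply Subtype.ext
    have := hMexp m m.2
    rw [hidx, hk] at this
    simpa using this
  obtain ⟨j, hj⟩ := IsPGroup.iff_card.mp hMp
  have hGp : IsPGroup p G := by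
    apply IsPGroup.of_card (n := k + j)
    rw [← hcompl.card_mul_card, hk, hj, pow_add]
  haveI : Group.IsNilpotent G := hGp.isNilpotent
  have hnc : NormalizerCondition G := Group.normalizerCondition_of_isNilpotent
  exact Subgroup.NormalizerCondition.normal_of_coatom M hnc hM

/-- Let M be a maximal subgroup of a finite solvable group G such that x^[G : M] lies in M for every x in G. Then M is normal in G. -/
theorem result {G : Type*} [Group G] [Finite G] (hG : Group.IsSolvable G) (M : Subgroup G) (hM : IsCoatom M)
    (hexp : ∀ x : G, x ^ M.index ∈ M) : M.Normal := by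
  obtain ⟨N, hN⟩ : ∃ N : Subgroup G, N = M.normalCore := ⟨_, rfl⟩
  haveI : N.Normal := hN ▸ inferInstance
  have hNM : N ≤ M := hN ▸ M.normalCore_le
  have hker : (QuotientGroup.mk' N).ker ≤ M := by rw [QuotientGroup.ker_mk']; exact hNM
  have hsurj : Function.Surjective (QuotientGroup.mk' N) := QuotientGroup.mk'_surjective N
  set M' := M.map (QuotientGroup.mk' N) with hM'
  have hcomap : M'.comap (QuotientGroup.mk' N) = M := Subgroup.comap_map_eq_self hker
  haveI := hG
  have hQsolv : Group.IsSolvable (G ⧸ N) := inferInstance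
  have hM'co : IsCoatom M' := by
    constructor
    · intro h
      apply hM.1
      rw [← hcomap, h, Subgroup.comap_top]
    · intro K' hK'
      have h1 : M ≤ K'.comap (QuotientGroup.mk' N) := by
        rw [← hcomap]; exact Subgroup.comap_mono hK'.le
      have h2 : M ≠ K'.comap (QuotientGroup.mk' N) := by
        intro h
        have := congrArg (Subgroup.map (QuotientGroup.mk' N)) h
        rw [Subgroup.map_comap_eq_self_of_surjective hsurj] at this
        exact (ne_of_lt hK') this
      have h3 := hM.2 _ (lt_of_le_of_ne h1 h2)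
      have := congrArg (Subgroup.map (QuotientGroup.mk' N)) h3
      rwa [Subgroup.map_comap_eq_self_of_surjective hsurj, Subgroup.map_top_of_surjective _ hsurj]
        at this
  have hcore : M'.normalCore = ⊥ := by
    rw [eq_bot_iff]
    intro x hx
    obtain ⟨y, rfl⟩ := hsurj x
    rw [Subgroup.mem_bot, QuotientGroup.mk'_apply, QuotientGroup.eq_one_iff, hN]
    intro g
    have := hx (QuotientGroup.mk' N g)
    rw [← map_mul, ← map_inv, ← map_mul, ← Subgroup.mem_comap, hcomap] at this
    exact this
  have hidx : M'.index = M.index := Subgroup.index_map_eq _ hsurj hker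
  have hexp' : ∀ x : G ⧸ N, x ^ M'.index ∈ M' := by
    intro x
    obtain ⟨y, rfl⟩ := hsurj x
    rw [hidx, ← map_pow]
    exact Subgroup.mem_map_of_mem _ (hexp y)
  have hn := corefree hQsolv M' hM'co hcore hexp'
  rw [← hcomap]
  exact hn.comap _

end Cfsg.Agent.S4261
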