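import Mathlib
import Cfsg.Statements.S4262
import Cfsg.Agent.S0556
import Cfsg.Agent.S4040

set_option autoImplicit false
set_option linter.style.haveILetI false
open Cfsg

namespace Cfsg.Agent.S4262

section Aux

variable {G : Type*} [Group G]

/-- membership in the centralizer of a singleton -/
theorem mem_cent {g w : G} : w ∈ Subgroup.centralizer ({g} : Set G) ↔ Commute g w := by
  rw [Subgroup.mem_centralizer_iff]
  constructor
  · intro h
    exact h g rfl
  · intro h k hk
    rw [Set.mem_singleton_iff] at hk
    subst hk
    exact h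

theorem mem_center_comm {z : G} : z ∈ Subgroup.center G ↔ ∀ w : G, Commute z w := by
  rw [Subgroup.mem_center_iff]
  constructor
  · intro h w
    exact (h w).symm
  · intro h w
    exact (h w).symm

theorem cent_ne_top {g : G} (hg : g ∉ Subgroup.center G) :
    Subgroup.centralizer ({g} : Set G) ≠ ⊤ := by
  intro htop
  apply hg
  rw [mem_center_comm]
  intro w
  have : w ∈ Subgroup.centralizer ({g} : Set G) := by rw [htop]; trivial
  exact mem_cent.mp this

theorem cent_pow_le (a : G) (m : ℕ) :
    Subgroup.centralizer ({a} : Set G) ≤ Subgroup.centralizer ({a ^ m} : Set G) := by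
  intro w hw
  rw [mem_cent] at *
  exact hw.pow_left m

theorem cent_mul_center (a : G) {z : G} (hz : z ∈ Subgroup.center G) :
    Subgroup.centralizer ({a * z} : Set G) = Subgroup.centralizer ({a} : Set G) := by
  have hzc := mem_center_comm.mp hz
  ext w
  rw [mem_cent, mem_cent]
  constructor
  · intro hw
    have := hw.mul_left ((hzc w).inv_left)
    rwa [mul_inv_cancel_right] at this
  · intro hw
    exact hw.mul_left (hzc w)

variable (h : ∀ g : G, g ∉ Subgroup.center G → IsCoatom (Subgroup.centralizer ({g} : Set G)))

include h in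
theorem cent_eq_of_le {x y : G} (hx : x ∉ Subgroup.center G) (hy : y ∉ Subgroup.center G)
    (hle : Subgroup.centralizer ({x} : Set G) ≤ Subgroup.centralizer ({y} : Set G)) :
    Subgroup.centralizer ({x} : Set G) = Subgroup.centralizer ({y} : Set G) := by
  rcases (h x hx).le_iff.mp hle with h1 | h1
  · exact absurd h1 (cent_ne_top hy)
  · exact h1.symm

include h in
/-- Key lemma: commuting noncentral elements with different centralizers have the same
order modulo the centre. -/
theorem key {g k : G} (hg : g ∉ Subgroup.center G) (hk : k ∉ Subgroup.center G)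
    (hcomm : Commute g k)
    (hne : Subgroup.centralizer ({g} : Set G) ≠ Subgroup.centralizer ({k} : Set G))
    (m : ℕ) (hm : k ^ m ∈ Subgroup.center G) : g ^ m ∈ Subgroup.center G := by
  by_contra hgm
  -- from `Commute (g*k) w` and `Commute g w` get `Commute k w`
  have hstep : ∀ w : G, Commute (g * k) w → Commute g w → Commute k w := by
    intro w h1 h2
    have := (h2.inv_left).mul_left h1
    rwa [inv_mul_cancel_left] at this
  have hgk : g * k ∉ Subgroup.center G := by
    intro hz
    have hcz := mem_center_comm.mp hz
    apply hne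
    ext w
    rw [mem_cent, mem_cent]
    constructor
    · intro h2
      exact hstep w (hcz w) h2
    · intro h2
      have := (hcz w).mul_left h2.inv_left
      rwa [mul_inv_cancel_right] at this
  have hpow : (g * k) ^ m = g ^ m * k ^ m := hcomm.mul_pow m
  have hgkm : (g * k) ^ m ∉ Subgroup.center G := by
    rw [hpow]
    intro hz
    apply hgm
    have := mul_mem hz (inv_mem hm)
    rwa [mul_inv_cancel_right] at this
  have e1 : Subgroup.centralizer ({g * k} : Set G) = Subgroup.centralizer ({(g * k) ^ m} : Set G) :=
    cent_eq_of_le h hgk hgkm (cent_pow_le _ m)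
  have e2 : Subgroup.centralizer ({g} : Set G) = Subgroup.centralizer ({g ^ m} : Set G) :=
    cent_eq_of_le h hg hgm (cent_pow_le _ m)
  have e3 : Subgroup.centralizer ({(g * k) ^ m} : Set G) = Subgroup.centralizer ({g ^ m} : Set G) := by
    rw [hpow]
    exact cent_mul_center _ hm
  have e4 : Subgroup.centralizer ({g * k} : Set G) = Subgroup.centralizer ({g} : Set G) := by
    rw [e1, e3, ← e2]
  apply hne
  apply cent_eq_of_le h hg hk
  intro w hw
  have hw2 : w ∈ Subgroup.centralizer ({g * k} : Set G) := by rw [e4]; exact hw
  rw [mem_cent] at *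
  exact hstep w hw2 hw

include h in
/-- If the centralizer of a noncentral `x` is nonabelian, then it has prime exponent modulo the
centre. -/
theorem exp_prime [Finite G] {x : G} (hx : x ∉ Subgroup.center G)
    (hna : ∃ a ∈ Subgroup.centralizer ({x} : Set G), ∃ b ∈ Subgroup.centralizer ({x} : Set G),
      a * b ≠ b * a) :
    ∃ p : ℕ, p.Prime ∧ ∀ w ∈ Subgroup.centralizer ({x} : Set G), w ^ p ∈ Subgroup.center G := by
  obtain ⟨u, hu, v, hv, huv⟩ := hna
  have hu' : Commute x u := mem_cent.mp hu
  have hv' : Commute x v := mem_cent.mp hv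
  have huZ : u ∉ Subgroup.center G := by
    intro hz
    exact huv (mem_center_comm.mp hz v)
  have hne : Subgroup.centralizer ({x} : Set G) ≠ Subgroup.centralizer ({u} : Set G) := by
    intro he
    rw [he] at hv
    exact huv (mem_cent.mp hv)
  have iff1 : ∀ m : ℕ, x ^ m ∈ Subgroup.center G ↔ u ^ m ∈ Subgroup.center G := by
    intro m
    exact ⟨key h huZ hx hu'.symm hne.symm m, key h hx huZ hu' hne m⟩
  have hall : ∀ w ∈ Subgroup.centralizer ({x} : Set G), w ∉ Subgroup.center G →
      ∀ m : ℕ, w ^ m ∈ Subgroup.center G ↔ x ^ m ∈ Subgroup.center G := by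
    intro w hw hwZ m
    have hxw : Commute x w := mem_cent.mp hw
    by_cases hwx : Subgroup.centralizer ({w} : Set G) = Subgroup.centralizer ({x} : Set G)
    · have hwu : Commute w u := by
        have : u ∈ Subgroup.centralizer ({w} : Set G) := by rw [hwx]; exact hu
        exact mem_cent.mp this
      have hne' : Subgroup.centralizer ({w} : Set G) ≠ Subgroup.centralizer ({u} : Set G) := by
        rw [hwx]; exact hne
      rw [iff1 m]
      exact ⟨key h huZ hwZ hwu.symm hne'.symm m, key h hwZ huZ hwu hne' m⟩
    · exact ⟨key h hx hwZ hxw (Ne.symm hwx) m, key h hwZ hx hxw.symm hwx m⟩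
  -- the order of x modulo the centre
  classical
  have hex : ∃ n : ℕ, 0 < n ∧ x ^ n ∈ Subgroup.center G := by
    refine ⟨orderOf x, orderOf_pos x, ?_⟩
    rw [pow_orderOf_eq_one]
    exact one_mem _
  obtain ⟨hnpos, hnmem⟩ := Nat.find_spec hex
  have hnmin := fun k (hk : k < Nat.find hex) => Nat.find_min hex hk
  set n := Nat.find hex with hn
  have hn1 : n ≠ 1 := by
    intro h1
    rw [h1, pow_one] at hnmem
    exact hx hnmem
  have hp : (n.minFac).Prime := Nat.minFac_prime hn1
  refine ⟨n.minFac, hp, ?_⟩
  obtain ⟨k, hk⟩ := Nat.minFac_dvd n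
  have hkpos : 0 < k := by
    rcases Nat.eq_zero_or_pos k with h0 | h0
    · rw [h0, mul_zero] at hk
      omega
    · exact h0
  have hklt : k < n := by
    have := hp.two_le
    nlinarith
  have hwk : x ^ k ∉ Subgroup.center G := by
    intro hz
    exact hnmin k hklt ⟨hkpos, hz⟩
  have hwkc : x ^ k ∈ Subgroup.centralizer ({x} : Set G) := by
    rw [mem_cent]
    exact (Commute.refl x).pow_right k
  have hxp : x ^ n.minFac ∈ Subgroup.center G := by
    rw [← hall (x ^ k) hwkc hwk n.minFac]
    rw [← pow_mul, mul_comm, ← hk]
    exact hnmem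
  intro w hw
  by_cases hwZ : w ∈ Subgroup.center G
  · exact pow_mem hwZ _
  · rw [hall w hw hwZ]
    exact hxp

end Aux

/-- Let G be a finite group in which the centralizer of every non-central element is a maximal subgroup of G. Then G is solvable. -/
theorem result {G : Type*} [Group G] [Finite G]
    (h : ∀ g : G, g ∉ Subgroup.center G → IsCoatom (Subgroup.centralizer ({g} : Set G))) :
    Group.IsSolvable G := by
  classical
  by_cases hab : ∃ x, x ∉ Subgroup.center G ∧
      ∀ a ∈ Subgroup.centralizer ({x} : Set G), ∀ b ∈ Subgroup.centralizer ({x} : Set G),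
        a * b = b * a
  · obtain ⟨x, hx, hc⟩ := hab
    haveI : IsMulCommutative (Subgroup.centralizer ({x} : Set G)) :=
      ⟨⟨fun a b => Subtype.ext (hc a a.2 b b.2)⟩⟩
    have h3 := Cfsg.Agent.S0556.result (Subgroup.centralizer ({x} : Set G)) (h x hx)
    exact (Group.isSolvable_def G).mpr ⟨3, h3⟩
  · push Not at hab
    have hexp : ∀ x, x ∉ Subgroup.center G → ∃ p : ℕ, p.Prime ∧
        ∀ w ∈ Subgroup.centralizer ({x} : Set G), w ^ p ∈ Subgroup.center G := by
      intro x hx
      obtain ⟨a, ha, b, hb, hab'⟩ := hab x hx
      exact exp_prime h hx ⟨a, ha, b, hb, hab'⟩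
    suffices hq : Group.IsSolvable (G ⧸ Subgroup.center G) by
      haveI : Group.IsSolvable (Subgroup.center G) :=
        Group.isSolvable_of_comm (fun a b => Subtype.ext (a.2.comm b.1))
      exact Group.isSolvable_of_ker_le_range (Subgroup.center G).subtype
        (QuotientGroup.mk' (Subgroup.center G)) (by simp)
    by_cases hodd : ∃ x, x ∉ Subgroup.center G ∧ ∃ p : ℕ, p.Prime ∧ p ≠ 2 ∧
        ∀ w ∈ Subgroup.centralizer ({x} : Set G), w ^ p ∈ Subgroup.center G
    · obtain ⟨x, hx, p, hp, hp2, hw⟩ := hodd
      haveI : Fact p.Prime := ⟨hp⟩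
      obtain ⟨M, hMdef⟩ : ∃ M : Subgroup G, M = Subgroup.centralizer ({x} : Set G) := ⟨_, rfl⟩
      have hMco : IsCoatom M := by rw [hMdef]; exact h x hx
      have hZM : Subgroup.center G ≤ M := by
        rw [hMdef]; exact Subgroup.center_le_centralizer _
      have hMp : ∀ w ∈ M, w ^ p ∈ Subgroup.center G := by
        intro w hw'; rw [hMdef] at hw'; exact hw w hw'
      set π := QuotientGroup.mk' (Subgroup.center G) with hπ
      have hπsurj : Function.Surjective π := QuotientGroup.mk'_surjective _
      have hcomap : (M.map π).comap π = M := by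
        rw [Subgroup.comap_map_eq, QuotientGroup.ker_mk']
        exact sup_eq_left.mpr hZM
      have hco : IsCoatom (M.map π) := by
        constructor
        · intro htop
          apply hMco.1
          rw [← hcomap, htop, Subgroup.comap_top]
        · intro K hK
          have h1 : M < K.comap π := by
            rw [← hcomap]
            refine lt_of_le_of_ne (Subgroup.comap_mono hK.le) ?_
            intro heq
            have := congrArg (Subgroup.map π) heq
            rw [Subgroup.map_comap_eq_self_of_surjective hπsurj,
              Subgroup.map_comap_eq_self_of_surjective hπsurj] at this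
            exact hK.ne this
          have h2 := hMco.2 _ h1
          have := congrArg (Subgroup.map π) h2
          rw [Subgroup.map_comap_eq_self_of_surjective hπsurj] at this
          rw [this, ← MonoidHom.range_eq_map, MonoidHom.range_eq_top.mpr hπsurj]
      have hpg : IsPGroup p (M.map π) := by
        intro g
        obtain ⟨g, hg⟩ := g
        obtain ⟨w, hwM, rfl⟩ := Subgroup.mem_map.mp hg
        refine ⟨1, ?_⟩
        apply Subtype.ext
        rw [pow_one]
        simp only [Subgroup.coe_pow, Subgroup.coe_one]
        rw [← map_pow, hπ, QuotientGroup.mk'_apply, QuotientGroup.eq_one_iff]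
        exact hMp w hwM
      have hnil : Group.IsNilpotent (M.map π) := hpg.isNilpotent
      have hoddc : Odd (Nat.card (M.map π)) := by
        obtain ⟨n, hn⟩ := IsPGroup.iff_card.mp hpg
        rw [hn]
        exact (hp.odd_of_ne_two hp2).pow
      exact Cfsg.Agent.S4040.result (M.map π) hco hnil hoddc
    · push Not at hodd
      have hsq : ∀ g : G, g ^ 2 ∈ Subgroup.center G := by
        intro g
        by_cases hg : g ∈ Subgroup.center G
        · exact pow_mem hg 2
        · obtain ⟨p, hp, hw⟩ := hexp g hg
          have hp2 : p = 2 := by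
            by_contra hne
            obtain ⟨w, hwc, hwp⟩ := hodd g hg p hp hne
            exact hwp (hw w hwc)
          have := hw g (by rw [mem_cent])
          rwa [hp2] at this
      have hsq' : ∀ a : G ⧸ Subgroup.center G, a * a = 1 := by
        intro a
        induction a using QuotientGroup.induction_on with
        | H g =>
          rw [← QuotientGroup.mk_mul, QuotientGroup.eq_one_iff, ← pow_two]
          exact hsq g
      apply Group.isSolvable_of_comm
      intro a b
      have ha := hsq' a
      have hb := hsq' b
      have hab2 := hsq' (a * b)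
      have ha' : a⁻¹ = a := inv_eq_of_mul_eq_one_left ha
      have hb' : b⁻¹ = b := inv_eq_of_mul_eq_one_left hb
      have : (a * b)⁻¹ = a * b := inv_eq_of_mul_eq_one_left hab2
      rw [mul_inv_rev, ha', hb'] at this
      exact this.symm

end Cfsg.Agent.S4262
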