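import Cfsg.Statements.S4263
import Mathlib
import Cfsg.Agent.Lib.Helper70.Fitting

set_option autoImplicit false
set_option linter.style.haveILetI false
open Cfsg

namespace Cfsg.Agent.S4263

open Cfsg.Agent.Helper70

theorem pow_gcd_mem {G : Type*} [Group G] (F : Subgroup G) (x : G) {a b : ℕ}
    (ha : x ^ a ∈ F) (hb : x ^ b ∈ F) : x ^ Nat.gcd a b ∈ F := by
  have h := Nat.gcd_eq_gcd_ab a b
  have h2 : x ^ ((Nat.gcd a b : ℕ) : ℤ) ∈ F := by
    rw [h, zpow_add, zpow_mul, zpow_mul]
    apply F.mul_mem
    · apply F.zpow_mem; simpa using ha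
    · apply F.zpow_mem; simpa using hb
  simpa using h2

theorem mem_of_forall_prime {G : Type*} [Group G] [Finite G] (F : Subgroup G) (x : G)
    (h : ∀ p : ℕ, p.Prime → ∃ n : ℕ, ¬ p ∣ n ∧ x ^ n ∈ F) : x ∈ F := by
  suffices hk : ∀ k : ℕ, 0 < k → x ^ k ∈ F → x ∈ F by
    refine hk (Nat.card G) Nat.card_pos ?_
    rw [pow_card_eq_one']; exact F.one_mem
  intro k
  induction k using Nat.strong_induction_on with
  | _ k ih =>
    intro hk hx
    by_cases h1 : k = 1
    · subst h1; simpa using hx
    · obtain ⟨n, hpn, hn⟩ := h k.minFac (Nat.minFac_prime h1)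
      have hg := pow_gcd_mem F x hx hn
      have hgpos : 0 < Nat.gcd k n := Nat.gcd_pos_of_pos_left _ hk
      have hglt : Nat.gcd k n < k := by
        have hle : Nat.gcd k n ≤ k := Nat.le_of_dvd hk (Nat.gcd_dvd_left k n)
        rcases Nat.lt_or_ge (Nat.gcd k n) k with hlt | hge
        · exact hlt
        · exfalso
          have heq : Nat.gcd k n = k := le_antisymm hle hge
          apply hpn
          exact (Nat.minFac_dvd k).trans (heq ▸ Nat.gcd_dvd_right k n)
      exact ih _ hglt hgpos hg

/-- Let G be a finite group. An element x lies in the Fitting subgroup F(G) if and only if, for every subgroup H of G, the power x^[G : H] lies in H. -/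
theorem result {G : Type*} [Group G] [Finite G] (x : G) :
    x ∈ Cfsg.fittingSubgroup G ↔ ∀ H : Subgroup G, x ^ H.index ∈ H := by
  constructor
  · intro hx H
    haveI := fittingSubgroup_normal G
    haveI := fittingSubgroup_isNilpotent G
    exact pow_index_mem_of_mem_normal_nilpotent (Cfsg.fittingSubgroup G) H hx
  · intro h
    apply mem_of_forall_prime
    intro p hp
    haveI : Fact p.Prime := ⟨hp⟩
    set P : Sylow p G := default with hP
    refine ⟨(P : Subgroup G).index, P.not_dvd_index, ?_⟩
    apply pCore_le_fittingSubgroup (p := p)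
    have hcore : (P : Subgroup G).normalCore ≤ Cfsg.pCore p G :=
      le_pCore _ (P.isPGroup'.to_le (Subgroup.normalCore_le _))
    apply hcore
    intro g
    have h1 := h ((g⁻¹ • P : Sylow p G) : Subgroup G)
    have hidx : ((g⁻¹ • P : Sylow p G) : Subgroup G).index = (P : Subgroup G).index := by
      have e1 := Subgroup.card_mul_index ((g⁻¹ • P : Sylow p G) : Subgroup G)
      have e2 := Subgroup.card_mul_index (P : Subgroup G)
      rw [Sylow.card_eq_multiplicity] at e1 e2
      have hpos : 0 < p ^ (Nat.card G).factorization p := pow_pos hp.pos _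
      exact Nat.eq_of_mul_eq_mul_left hpos (e1.trans e2.symm)
    rw [hidx, Sylow.coe_subgroup_smul, Subgroup.mem_pointwise_smul_iff_inv_smul_mem] at h1
    simpa using h1

end Cfsg.Agent.S4263
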