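import Cfsg.Statements.S4269
import Mathlib

set_option autoImplicit false
open Cfsg
open scoped Pointwise commutatorElement

namespace Cfsg.Agent.S4269

theorem mem_map_conj {G : Type*} [Group G] (H : Subgroup G) (g y : G) :
    y ∈ H.map (MulAut.conj g).toMonoidHom ↔ g⁻¹ * y * g ∈ H := by
  rw [Subgroup.mem_map]
  constructor
  · rintro ⟨x, hx, rfl⟩
    simpa [MulAut.conj_apply, mul_assoc] using hx
  · intro h
    exact ⟨g⁻¹ * y * g, h, by simp [MulAut.conj_apply, mul_assoc]⟩

theorem conj_mem_map_conj {G : Type*} [Group G] (H : Subgroup G) (g : G) {h : G} (hh : h ∈ H) :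
    g * h * g⁻¹ ∈ H.map (MulAut.conj g).toMonoidHom := by
  rw [mem_map_conj]; simpa [mul_assoc] using hh

/-- An `H`-invariant subgroup of the abelian normal `V` is normal in `G = HV`. -/
theorem normal_of_invariant {G : Type*} [Group G] (V : Subgroup G) [V.Normal]
    (hV : IsMulCommutative ↥V) (H : Subgroup G) (hHV : H ⊔ V = ⊤) (U : Subgroup G) (hUV : U ≤ V)
    (hU : ∀ h ∈ H, ∀ u ∈ U, h * u * h⁻¹ ∈ U) : U.Normal := by
  rw [← Subgroup.normalizer_eq_top_iff, eq_top_iff, ← hHV, sup_le_iff]
  constructor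
  · rw [Subgroup.le_normalizer_iff]
    exact hU
  · rw [Subgroup.le_normalizer_iff]
    intro v hv u hu
    have hc : v * u = u * v := by
      have := hV.is_comm.comm (⟨v, hv⟩ : V) ⟨u, hUV hu⟩
      exact congrArg Subtype.val this
    rw [hc, mul_inv_cancel_right]
    exact hu

theorem commutator_normal {G : Type*} [Group G] (V : Subgroup G) [V.Normal]
    (hV : IsMulCommutative ↥V) (H : Subgroup G) (hHV : H ⊔ V = ⊤) (U : Subgroup G) (hUV : U ≤ V)
    (hU : ∀ h ∈ H, ∀ u ∈ U, h * u * h⁻¹ ∈ U) : (⁅H, U⁆ : Subgroup G).Normal ∧ ⁅H, U⁆ ≤ U := by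
  have hle : ⁅H, U⁆ ≤ U := by
    rw [Subgroup.commutator_le]
    intro h hh u hu
    rw [commutatorElement_def]
    exact U.mul_mem (hU h hh u hu) (U.inv_mem hu)
  refine ⟨?_, hle⟩
  apply normal_of_invariant V hV H hHV _ (hle.trans hUV)
  intro h hh w hw
  -- conjugation by h ∈ H preserves ⁅H, U⁆
  have : ∀ w ∈ (⁅H, U⁆ : Subgroup G), h * w * h⁻¹ ∈ (⁅H, U⁆ : Subgroup G) := by
    intro w hw
    rw [Subgroup.commutator_def] at hw
    induction hw using Subgroup.closure_induction with
    | mem x hx =>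
      obtain ⟨a, ha, b, hb, rfl⟩ := hx
      have e : h * ⁅a, b⁆ * h⁻¹ = ⁅h * a * h⁻¹, h * b * h⁻¹⁆ := by
        simp only [commutatorElement_def]; group
      rw [e]
      exact Subgroup.commutator_mem_commutator (H.mul_mem (H.mul_mem hh ha) (H.inv_mem hh))
        (hU h hh b hb)
    | one => simp
    | mul x y _ _ ihx ihy =>
      have e : h * (x * y) * h⁻¹ = (h * x * h⁻¹) * (h * y * h⁻¹) := by group
      rw [e]; exact Subgroup.mul_mem _ ihx ihy
    | inv x _ ih =>
      have e : h * x⁻¹ * h⁻¹ = (h * x * h⁻¹)⁻¹ := by group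
      rw [e]; exact Subgroup.inv_mem _ ih
  exact this w hw

/-- Let G be a finite group, V an abelian normal subgroup and H a subgroup with HV = G. Then H is pronormal in G (H and gHg⁻¹ are conjugate inside the subgroup they generate, for every g) if and only if every H-invariant subgroup U of V satisfies U = N_U(H)·[H, U], that is, U is the join of U ∩ N_G(H) and the commutator subgroup [H, U]. -/
theorem result {G : Type*} [Group G] [Finite G]
    (V : Subgroup G) [V.Normal] (hV : IsMulCommutative ↥V) (H : Subgroup G) (hHV : H ⊔ V = ⊤) :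
    Cfsg.IsPronormal H ↔
      ∀ U : Subgroup G, U ≤ V → (∀ h ∈ H, U.map (MulAut.conj h).toMonoidHom = U) →
        U = (U ⊓ Subgroup.normalizer (H : Set G)) ⊔ ⁅H, U⁆ := by
  constructor
  · intro hpro U hUV hUinv
    have hU : ∀ h ∈ H, ∀ u ∈ U, h * u * h⁻¹ ∈ U := by
      intro h hh u hu
      have := conj_mem_map_conj U h hu
      rwa [hUinv h hh] at this
    obtain ⟨hWn, hWU⟩ := commutator_normal V hV H hHV U hUV hU
    apply le_antisymm
    · intro u hu
      obtain ⟨x, hx, hxeq⟩ := hpro u
      -- H ⊔ uHu⁻¹ ≤ ⁅H,U⁆ ⊔ H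
      have hle : H ⊔ H.map (MulAut.conj u).toMonoidHom ≤ ⁅H, U⁆ ⊔ H := by
        rw [sup_le_iff]
        refine ⟨le_sup_right, ?_⟩
        intro y hy
        rw [mem_map_conj] at hy
        have e : y = ⁅u⁻¹ * y * u, u⁆⁻¹ * (u⁻¹ * y * u) := by
          rw [commutatorElement_def]; group
        rw [e]
        apply Subgroup.mul_mem
        · exact Subgroup.mem_sup_left (Subgroup.inv_mem _
            (Subgroup.commutator_mem_commutator hy hu))
        · exact Subgroup.mem_sup_right hy
      have hx' : x ∈ ((⁅H, U⁆ ⊔ H : Subgroup G) : Set G) := hle hx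
      rw [Subgroup.normal_mul] at hx'
      obtain ⟨w, hw, h, hh, rfl⟩ := hx'
      -- u H u⁻¹ = w H w⁻¹
      have hn : w⁻¹ * u ∈ Subgroup.normalizer (H : Set G) := by
        apply Subgroup.mem_normalizer_fintype
        intro n hn
        have h1 : u * n * u⁻¹ ∈ H.map (MulAut.conj u).toMonoidHom := conj_mem_map_conj H u hn
        rw [hxeq, mem_map_conj] at h1
        have h2 : h * ((w * h)⁻¹ * (u * n * u⁻¹) * (w * h)) * h⁻¹ ∈ H :=
          H.mul_mem (H.mul_mem hh h1) (H.inv_mem hh)
        have e : w⁻¹ * u * n * (w⁻¹ * u)⁻¹ = h * ((w * h)⁻¹ * (u * n * u⁻¹) * (w * h)) * h⁻¹ := by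
          group
        rw [SetLike.mem_coe, e]
        exact h2
      have e : u = w * (w⁻¹ * u) := by group
      rw [e]
      apply Subgroup.mul_mem
      · exact Subgroup.mem_sup_right hw
      · apply Subgroup.mem_sup_left
        exact ⟨U.mul_mem (U.inv_mem (hWU hw)) hu, hn⟩
    · rw [sup_le_iff]
      exact ⟨inf_le_left, hWU⟩
  · intro hcrit g
    -- g = v * h
    have hg : g ∈ ((V ⊔ H : Subgroup G) : Set G) := by
      rw [sup_comm, hHV]; trivial
    rw [Subgroup.normal_mul] at hg
    obtain ⟨v, hv, h0, hh0, rfl⟩ := hg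
    have hmapeq : H.map (MulAut.conj (v * h0)).toMonoidHom = H.map (MulAut.conj v).toMonoidHom := by
      ext y
      rw [mem_map_conj, mem_map_conj]
      constructor
      · intro hy
        have := H.mul_mem (H.mul_mem hh0 hy) (H.inv_mem hh0)
        have e : h0 * ((v * h0)⁻¹ * y * (v * h0)) * h0⁻¹ = v⁻¹ * y * v := by group
        rwa [e] at this
      · intro hy
        have := H.mul_mem (H.mul_mem (H.inv_mem hh0) hy) hh0
        have e : h0⁻¹ * (v⁻¹ * y * v) * h0 = (v * h0)⁻¹ * y * (v * h0) := by group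
        rwa [e] at this
    rw [hmapeq]
    -- U = H-invariant closure of v
    set S : Set G := {y | ∃ h ∈ H, y = h * v * h⁻¹} with hS
    set U := Subgroup.closure S with hUdef
    have hSV : S ⊆ V := by
      rintro y ⟨h, hh, rfl⟩
      exact (inferInstance : V.Normal).conj_mem v hv h
    have hUV : U ≤ V := (Subgroup.closure_le V).mpr hSV
    have hvU : v ∈ U := Subgroup.subset_closure ⟨1, H.one_mem, by simp⟩
    have hUconj : ∀ h ∈ H, ∀ u ∈ U, h * u * h⁻¹ ∈ U := by
      intro h hh u hu
      induction hu using Subgroup.closure_induction with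
      | mem x hx =>
        obtain ⟨h', hh', rfl⟩ := hx
        apply Subgroup.subset_closure
        exact ⟨h * h', H.mul_mem hh hh', by group⟩
      | one => simp
      | mul x y _ _ ihx ihy =>
        have e : h * (x * y) * h⁻¹ = (h * x * h⁻¹) * (h * y * h⁻¹) := by group
        rw [e]; exact Subgroup.mul_mem _ ihx ihy
      | inv x _ ih =>
        have e : h * x⁻¹ * h⁻¹ = (h * x * h⁻¹)⁻¹ := by group
        rw [e]; exact Subgroup.inv_mem _ ih
    have hUinv : ∀ h ∈ H, U.map (MulAut.conj h).toMonoidHom = U := by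
      intro h hh
      ext y
      rw [mem_map_conj]
      constructor
      · intro hy
        have := hUconj h hh _ hy
        have e : h * (h⁻¹ * y * h) * h⁻¹ = y := by group
        rwa [e] at this
      · intro hy
        have := hUconj h⁻¹ (H.inv_mem hh) y hy
        simpa using this
    have hUeq := hcrit U hUV hUinv
    obtain ⟨hWn, hWU⟩ := commutator_normal V hV H hHV U hUV hUconj
    -- v = w * n
    have hv' : v ∈ ((⁅H, U⁆ ⊔ (U ⊓ Subgroup.normalizer (H : Set G)) : Subgroup G) : Set G) := by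
      rw [sup_comm, ← hUeq]; exact hvU
    rw [Subgroup.normal_mul] at hv'
    obtain ⟨w, hw, n, hn, rfl⟩ := hv'
    have hnN : n ∈ Subgroup.normalizer (H : Set G) := hn.2
    -- the subgroup L
    set L := H ⊔ H.map (MulAut.conj (w * n)).toMonoidHom with hL
    have hcommL : ∀ u ∈ U, ∀ h ∈ H, ⁅h, u⁆ ∈ L := by
      intro u hu
      induction hu using Subgroup.closure_induction with
      | mem x hx =>
        obtain ⟨h', hh', rfl⟩ := hx
        intro h hh
        have e : ⁅h, h' * (w * n) * h'⁻¹⁆ =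
            (h * h') * ((w * n) * (h'⁻¹ * h⁻¹ * h') * (w * n)⁻¹) * h'⁻¹ := by
          rw [commutatorElement_def]; group
        rw [e]
        apply Subgroup.mul_mem
        · apply Subgroup.mul_mem
          · exact Subgroup.mem_sup_left (H.mul_mem hh hh')
          · apply Subgroup.mem_sup_right
            exact conj_mem_map_conj H (w * n)
              (H.mul_mem (H.mul_mem (H.inv_mem hh') (H.inv_mem hh)) hh')
        · exact Subgroup.mem_sup_left (H.inv_mem hh')
      | one => intro h hh; simp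
      | mul x y hx hy ihx ihy =>
        intro h hh
        have hxV : x ∈ V := hUV hx
        have hyV : y ∈ V := hUV hy
        have hcV : ⁅h, y⁆ ∈ V := by
          rw [commutatorElement_def]
          exact V.mul_mem ((inferInstance : V.Normal).conj_mem y hyV h) (V.inv_mem hyV)
        have hc : x * ⁅h, y⁆ = ⁅h, y⁆ * x := by
          have := hV.is_comm.comm (⟨x, hxV⟩ : V) ⟨⁅h, y⁆, hcV⟩
          exact congrArg Subtype.val this
        have e : ⁅h, x * y⁆ = ⁅h, x⁆ * (x * ⁅h, y⁆ * x⁻¹) := by
          simp only [commutatorElement_def]; group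
        rw [e, hc, mul_inv_cancel_right]
        exact Subgroup.mul_mem _ (ihx h hh) (ihy h hh)
      | inv x hx ih =>
        intro h hh
        have hxV : x ∈ V := hUV hx
        have hcV : ⁅h, x⁆⁻¹ ∈ V := by
          rw [commutatorElement_def]
          exact V.inv_mem (V.mul_mem ((inferInstance : V.Normal).conj_mem x hxV h) (V.inv_mem hxV))
        have hc : x⁻¹ * ⁅h, x⁆⁻¹ = ⁅h, x⁆⁻¹ * x⁻¹ := by
          have := hV.is_comm.comm (⟨x⁻¹, V.inv_mem hxV⟩ : V) ⟨⁅h, x⁆⁻¹, hcV⟩
          exact congrArg Subtype.val this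
        have e : ⁅h, x⁻¹⁆ = x⁻¹ * ⁅h, x⁆⁻¹ * x := by
          simp only [commutatorElement_def]; group
        rw [e, hc, inv_mul_cancel_right]
        exact Subgroup.inv_mem _ (ih h hh)
    have hWL : ⁅H, U⁆ ≤ L := by
      rw [Subgroup.commutator_le]
      intro h hh u hu
      exact hcommL u hu h hh
    refine ⟨w, hWL hw, ?_⟩
    ext y
    rw [mem_map_conj, mem_map_conj]
    have hnorm : ∀ z : G, z ∈ H ↔ n * z * n⁻¹ ∈ H := fun z => hnN z
    constructor
    · intro hy
      have := (hnorm _).mp hy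
      have e : n * ((w * n)⁻¹ * y * (w * n)) * n⁻¹ = w⁻¹ * y * w := by group
      rwa [e] at this
    · intro hy
      apply (hnorm _).mpr
      have e : n * ((w * n)⁻¹ * y * (w * n)) * n⁻¹ = w⁻¹ * y * w := by group
      rwa [e]

end Cfsg.Agent.S4269
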