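import Cfsg.Statements.S4271
import Cfsg.Agent.Lib.Helper70.Pronormal

set_option autoImplicit false
set_option linter.style.haveILetI false
set_option linter.unusedSectionVars false
open Cfsg

namespace Cfsg.Agent.S4271

open scoped Pointwise
open Cfsg.Agent.Helper70 Cfsg.Agent.Helper33

section

variable {G : Type*} [Group G] [Finite G] {p : ℕ} [Fact p.Prime]

/-- Self-normalizing Sylow subgroups of `G ⧸ A`, internal form. -/
theorem normalizer_sup_eq_of_self_normalizing (A : Subgroup G) [A.Normal]
    (hQ : ∀ P : Sylow p (G ⧸ A), Subgroup.normalizer ((P : Subgroup (G ⧸ A)) : Set (G ⧸ A)) = P)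
    (S : Sylow p G) :
    Subgroup.normalizer (((S : Subgroup G) ⊔ A : Subgroup G) : Set G) = (S : Subgroup G) ⊔ A := by
  have hsurj := QuotientGroup.mk'_surjective A
  have h1 := hQ (S.mapSurjective hsurj)
  rw [Sylow.coe_mapSurjective] at h1
  have h2 := congrArg (Subgroup.comap (QuotientGroup.mk' A)) h1
  rwa [Subgroup.comap_normalizer_eq_of_surjective _ hsurj, Subgroup.comap_map_eq,
    QuotientGroup.ker_mk'] at h2

/-- If `g S g⁻¹ ≤ J` and `S ≤ J` then `g ∈ J N_G(S)`. -/
theorem exists_mem_inv_mul_mem_normalizer (S : Sylow p G) {J : Subgroup G} {g : G}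
    (hSJ : (S : Subgroup G) ≤ J) (hgSJ : MulAut.conj g • (S : Subgroup G) ≤ J) :
    ∃ y ∈ J, y⁻¹ * g ∈ Subgroup.normalizer ((S : Subgroup G) : Set G) := by
  have h1 : IsSylIn p (S : Subgroup G) J := (isSylIn_top S).of_le hSJ le_top
  have h2 : IsSylIn p (MulAut.conj g • (S : Subgroup G)) J := by
    have h0 : ((g • S : Sylow p G) : Subgroup G) ≤ J := by
      rw [Sylow.coe_subgroup_smul]; exact hgSJ
    have := (isSylIn_top (g • S)).of_le h0 le_top
    rwa [Sylow.coe_subgroup_smul] at this
  obtain ⟨y, hy, hyS⟩ := h2.exists_conj_eq h1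
  refine ⟨y, hy, ?_⟩
  rw [mem_normalizer_iff_smul_eq, conj_mul_smul, ← hyS, conj_inv_smul_smul]

theorem normalizer_le_normalizer_sup_normal (A K : Subgroup G) [A.Normal] :
    Subgroup.normalizer (K : Set G) ≤ Subgroup.normalizer ((K ⊔ A : Subgroup G) : Set G) := by
  intro n hn
  rw [mem_normalizer_iff_smul_eq, Subgroup.smul_sup, smul_eq_of_mem_normalizer hn,
    conj_smul_normal A n]

theorem isPronormal_of_self_normalizing (A : Subgroup G) [A.Normal]
    (hself : ∀ S : Sylow p G,
      Subgroup.normalizer (((S : Subgroup G) ⊔ A : Subgroup G) : Set G) = (S : Subgroup G) ⊔ A)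
    (K : Subgroup G) (hAK : A ≤ K) (hK : ∃ S : Sylow p G, (S : Subgroup G) ≤ K) :
    Cfsg.IsPronormal K := by
  obtain ⟨S, hSK⟩ := hK
  rw [isPronormal_iff_cj]
  intro g
  obtain ⟨y, hy, hyg⟩ := exists_mem_inv_mul_mem_normalizer S
    (J := K ⊔ MulAut.conj g • K) (hSK.trans le_sup_left)
    ((conj_smul_le_conj_smul hSK).trans le_sup_right)
  have h1 : y⁻¹ * g ∈ K := by
    have := normalizer_le_normalizer_sup_normal A (S : Subgroup G) hyg
    rw [hself S] at this
    exact (sup_le hSK hAK) this
  refine ⟨y, hy, ?_⟩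
  have h2 : MulAut.conj (y⁻¹ * g) • K = K := conj_smul_eq_self_of_mem h1
  rw [conj_mul_smul] at h2
  calc MulAut.conj g • K = MulAut.conj y • MulAut.conj y⁻¹ • MulAut.conj g • K :=
        (conj_smul_inv_smul y _).symm
    _ = MulAut.conj y • K := by rw [h2]

theorem normalizer_sup_of_self_normalizing (A : Subgroup G) [A.Normal]
    (hself : ∀ S : Sylow p G,
      Subgroup.normalizer (((S : Subgroup G) ⊔ A : Subgroup G) : Set G) = (S : Subgroup G) ⊔ A)
    (K : Subgroup G) (hK : ∃ S : Sylow p G, (S : Subgroup G) ≤ K) :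
    Subgroup.normalizer ((K ⊔ A : Subgroup G) : Set G) = Subgroup.normalizer (K : Set G) ⊔ A := by
  obtain ⟨S, hSK⟩ := hK
  apply le_antisymm
  · intro g hg
    have hgKA : MulAut.conj g • (K ⊔ A) = K ⊔ A := smul_eq_of_mem_normalizer hg
    obtain ⟨y, hy, hyg⟩ := exists_mem_inv_mul_mem_normalizer S
      (J := K ⊔ A) (hSK.trans le_sup_left)
      (by rw [← hgKA]; exact conj_smul_le_conj_smul (hSK.trans le_sup_left))
    have h1 : y⁻¹ * g ∈ K ⊔ A := by
      have := normalizer_le_normalizer_sup_normal A (S : Subgroup G) hyg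
      rw [hself S] at this
      exact (sup_le_sup_right hSK A) this
    have h2 : g ∈ K ⊔ A := by
      have : g = y * (y⁻¹ * g) := by group
      rw [this]; exact mul_mem hy h1
    exact (sup_le_sup_right Subgroup.le_normalizer A) h2
  · exact sup_le (normalizer_le_normalizer_sup_normal A K)
      (le_sup_right.trans Subgroup.le_normalizer)

end

/-- Let p be a prime and G a finite group with a normal subgroup A such that every subgroup of A containing a Sylow p-subgroup of A is pronormal in A, and the Sylow p-subgroups of G/A are self-normalizing. Let T be a Sylow p-subgroup of A. Then every subgroup of G containing a Sylow p-subgroup of G is pronormal in G if and only if every subgroup of N_G(T)/T containing a Sylow p-subgroup of N_G(T)/T is pronormal in N_G(T)/T. (Pronormal: H and gHg⁻¹ are conjugate inside the subgroup they generate, for every g.) -/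
theorem result {G : Type*} [Group G] [Finite G] {p : ℕ} [Fact p.Prime]
    (A : Subgroup G) [A.Normal] (hA : (∀ K : Subgroup ↥A, (∃ P : Sylow p ↥A, (P : Subgroup ↥A) ≤ K) → Cfsg.IsPronormal K))
    (hQ : ∀ P : Sylow p (G ⧸ A), Subgroup.normalizer ((P : Subgroup (G ⧸ A)) : Set (G ⧸ A)) = P)
    (T : Subgroup G) (hT : ∃ P : Sylow p ↥A, (P : Subgroup ↥A).map A.subtype = T) [(T.subgroupOf (Subgroup.normalizer (T : Set G))).Normal] :
    (∀ K : Subgroup G, (∃ P : Sylow p G, (P : Subgroup G) ≤ K) → Cfsg.IsPronormal K) ↔ (∀ K : Subgroup (↥(Subgroup.normalizer (T : Set G)) ⧸ T.subgroupOf (Subgroup.normalizer (T : Set G))), (∃ P : Sylow p (↥(Subgroup.normalizer (T : Set G)) ⧸ T.subgroupOf (Subgroup.normalizer (T : Set G))), (P : Subgroup (↥(Subgroup.normalizer (T : Set G)) ⧸ T.subgroupOf (Subgroup.normalizer (T : Set G)))) ≤ K) → Cfsg.IsPronormal K) := by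
  obtain ⟨P₀, hP₀⟩ := hT
  have hT' : IsSylIn p T A := hP₀ ▸ isSylIn_of_sylow A P₀
  have hA' := pronIn_of_forall_subtype A hA
  have hself := normalizer_sup_eq_of_self_normalizing A hQ
  rw [forall_quotient_subgroupOf_iff (Subgroup.normalizer (T : Set G)) T Subgroup.le_normalizer]
  constructor
  · intro h K _ _ hK
    exact pronIn_normalizer_of_forall_isPronormal A T hT' h K hK
  · intro h1 K hK
    exact isPronormal_of_extension A hA' (isPronormal_of_self_normalizing A hself) T hT' h1
      (normalizer_sup_of_self_normalizing A hself) K hK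

end Cfsg.Agent.S4271
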