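import Cfsg.Statements.S4274
import Cfsg.Agent.Lib.Helper24.O175560Main
import Cfsg.Agent.Lib.Helper30.O175560N7980
import Cfsg.Agent.Lib.Helper78.O175560N11704
import Cfsg.Agent.Lib.Helper3.O175560N15960
import Cfsg.Agent.Lib.Helper95.O175560N17556
import Cfsg.Agent.Lib.Helper48.O175560N29260
import Cfsg.Agent.Lib.Helper95.O175560N35112
import Cfsg.Agent.Lib.Helper11.O175560N58520
import Cfsg.Agent.Lib.Helper30.O175560N87780

/-!
S4274 via the O175560 lemma server (helper24): the reduction `h24_main` (induction over the divisors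
of `9240`, Helper17's sieve table, helper75's 5852) and the eight orders
7980 (helper30), 11704 (helper78), 15960 (helper3), 17556 (helper95), 29260 (helper48),
35112 (helper95), 58520 (helper11), 87780 (helper30).
-/

set_option autoImplicit false
open Cfsg

namespace Cfsg.Agent.S4274

/-- A finite group of order 175560 = 2³·3·5·7·11·19 is either simple or has a normal Sylow 19-subgroup. -/
theorem result {G : Type*} [Group G] [Finite G] (hG : Nat.card G = 175560) : IsSimpleGroup G ∨ ∀ P : Sylow 19 G, (P : Subgroup G).Normal := by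
  exact Cfsg.Agent.Helper24.O175560.h24_main
    (fun _ _ _ _ => Cfsg.Agent.Helper30.O175560.no_7980)
    (fun _ _ _ _ => Cfsg.Agent.Helper78.O175560.no_11704)
    (fun _ _ _ _ => Cfsg.Agent.Helper3.O175560.no_15960)
    (fun _ _ _ _ => Cfsg.Agent.Helper95.O175560.no_17556)
    (fun _ _ _ _ => Cfsg.Agent.Helper48.O175560.no_29260)
    (fun _ _ _ _ => Cfsg.Agent.Helper95.O175560.no_35112)
    (fun _ _ _ _ => Cfsg.Agent.Helper11.O175560.no_58520)
    (fun _ _ _ _ => Cfsg.Agent.Helper30.O175560.no_87780)
    hG

end Cfsg.Agent.S4274
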