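import Cfsg.Statements.S4277
import Cfsg.Agent.S0675
import Cfsg.Agent.Lib.Helper71.OutPrimeDegree
import Mathlib

set_option autoImplicit false
open Cfsg

namespace Cfsg.Agent.S4277

open Cfsg.Agent.Lib.Helper71.OutPrimeDegree in
theorem result {G : Type*} [Group G] [Finite G] [IsSimpleGroup G] (H : Subgroup G) (hH : H.index.Prime) : Group.IsSolvable (Cfsg.Out G) := by
  classical
  have hfact : Fact H.index.Prime := ⟨hH⟩
  have hfin : Fintype (G ⧸ H) := Fintype.ofFinite _
  have hΩ : Fintype.card (G ⧸ H) = H.index := by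
    rw [← Nat.card_eq_fintype_card]
    rfl
  set φ : G →* Equiv.Perm (G ⧸ H) := MulAction.toPermHom G (G ⧸ H) with hφ
  have hker : φ.ker = ⊥ := by
    rcases (inferInstance : φ.ker.Normal).eq_bot_or_eq_top with h | h
    · exact h
    · exfalso
      have hc : H.normalCore = ⊤ := by
        rw [Subgroup.normalCore_eq_ker]
        exact h
      have : H = ⊤ := top_le_iff.mp (hc ▸ Subgroup.normalCore_le H)
      rw [this, Subgroup.index_top] at hH
      exact Nat.not_prime_one hH
  have hinj : Function.Injective φ := (MonoidHom.ker_eq_bot_iff φ).mp hker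
  set G' : Subgroup (Equiv.Perm (G ⧸ H)) := φ.range with hG'
  have e : G ≃* G' := MonoidHom.ofInjective hinj
  have htr : MulAction.IsPretransitive G' (G ⧸ H) := by
    constructor
    intro a b
    obtain ⟨g, hg⟩ := MulAction.exists_smul_eq G a b
    exact ⟨⟨φ g, g, rfl⟩, hg⟩
  rcases Cfsg.Agent.S0675.result (hΩ ▸ hH) G' with hsol | h2
  · have : Group.IsSolvable G :=
      Group.isSolvable_of_isSolvable_injective (f := e.toMonoidHom) e.injective
    exact out_isSolvable_of_simple_solvable this
  · exact out_isSolvable_of_mulEquiv e (out_isSolvable_of_two_transitive hΩ G' h2)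

end Cfsg.Agent.S4277
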