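import Cfsg.Statements.S4283
import Mathlib
import Cfsg.Agent.Lib.Helper96.Frobenius

set_option autoImplicit false
open Cfsg

namespace Cfsg.Agent.S4283

open Cfsg.Agent.Helper96
open scoped Pointwise

theorem result {G : Type*} [Group G] [Finite G] (K H : Subgroup G) (hZK : Subgroup.center G ≤ K) (hZH : Subgroup.center G ≤ H) (hK : IsMulCommutative K) (hH : IsMulCommutative H) (hFrob : Cfsg.IsFrobeniusComplement (H.map (QuotientGroup.mk' (Subgroup.center G)))) (hker : Cfsg.frobeniusKernel (H.map (QuotientGroup.mk' (Subgroup.center G))) = (K.map (QuotientGroup.mk' (Subgroup.center G)) : Set (G ⧸ Subgroup.center G))) : Set.range (fun x : G => (Subgroup.centralizer ({x} : Set G)).index) = ({1, K.index, H.index} : Set ℕ) ∧ K.index.Coprime H.index := by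
  classical
  set Z := Subgroup.center G with hZ
  set q := QuotientGroup.mk' Z with hq
  set Hb := H.map q with hHb
  set Kb := K.map q with hKb
  have hqker : q.ker = Z := QuotientGroup.ker_mk' Z
  have hqsurj : Function.Surjective q := QuotientGroup.mk'_surjective Z
  -- membership lifting
  have memK : ∀ x : G, q x ∈ Kb ↔ x ∈ K := by
    intro x
    constructor
    · rintro ⟨k, hk, hkx⟩
      have h1 : k⁻¹ * x ∈ Z := by
        rw [← hqker, MonoidHom.mem_ker, map_mul, map_inv, hkx, inv_mul_cancel]
      have : x = k * (k⁻¹ * x) := by group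
      rw [this]
      exact K.mul_mem hk (hZK h1)
    · intro hx
      exact ⟨x, hx, rfl⟩
  have memH : ∀ x : G, q x ∈ Hb ↔ x ∈ H := by
    intro x
    constructor
    · rintro ⟨k, hk, hkx⟩
      have h1 : k⁻¹ * x ∈ Z := by
        rw [← hqker, MonoidHom.mem_ker, map_mul, map_inv, hkx, inv_mul_cancel]
      have : x = k * (k⁻¹ * x) := by group
      rw [this]
      exact H.mul_mem hk (hZH h1)
    · intro hx
      exact ⟨x, hx, rfl⟩
  have q_one : ∀ x : G, q x = 1 ↔ x ∈ Z := by
    intro x
    exact QuotientGroup.eq_one_iff x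
  -- (c) every element is in K or conjugate into H
  have hcover : ∀ x : G, x ∈ K ∨ ∃ g : G, g⁻¹ * x * g ∈ H := by
    intro x
    by_cases hx : q x ∈ Cfsg.frobeniusKernel Hb
    · left
      rw [hker] at hx
      exact (memK x).1 hx
    · right
      rw [not_mem_frobeniusKernel_iff] at hx
      obtain ⟨-, gb, hgb⟩ := hx
      obtain ⟨g, rfl⟩ := hqsurj gb
      refine ⟨g, ?_⟩
      rw [← memH]
      simpa using hgb
  -- (d) Frobenius property lifted
  have hfrob : ∀ h g : G, h ∈ H → h ∉ Z → g⁻¹ * h * g ∈ H → g ∈ H := by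
    intro h g hh hhZ hg
    rw [← memH]
    apply frob_mem_of_conj_mem hFrob (h := q h) ((memH h).2 hh)
    · intro h1
      exact hhZ ((q_one h).1 h1)
    · have := (memH _).2 hg
      simpa using this
  -- (e) noncentral elements of K are not conjugate into H
  have hKH : ∀ x g : G, x ∈ K → x ∉ Z → g⁻¹ * x * g ∉ H := by
    intro x g hx hxZ hg
    have h1 : q x ∈ Cfsg.frobeniusKernel Hb := by
      rw [hker]; exact (memK x).2 hx
    rw [mem_frobeniusKernel_iff] at h1
    rcases h1 with h1 | h1
    · exact hxZ ((q_one x).1 h1)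
    · apply h1 (q g)
      have := (memH _).2 hg
      simpa using this
  have conj_notZ : ∀ x g : G, x ∉ Z → g⁻¹ * x * g ∉ Z := by
    intro x g hx hgx
    apply hx
    have := (inferInstance : Z.Normal).conj_mem _ hgx g
    simpa [mul_assoc] using this
  -- centralizer computations
  have cent_Z : ∀ x : G, x ∈ Z → (Subgroup.centralizer ({x} : Set G)).index = 1 := by
    intro x hx
    rw [Subgroup.index_eq_one, eq_top_iff]
    intro y _
    rw [Subgroup.mem_centralizer_singleton_iff]
    exact (Subgroup.mem_center_iff.1 hx y)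
  have cent_K : ∀ x : G, x ∈ K → x ∉ Z → Subgroup.centralizer ({x} : Set G) = K := by
    intro x hx hxZ
    apply le_antisymm
    · intro y hy
      rw [Subgroup.mem_centralizer_singleton_iff] at hy
      by_contra hyK
      rcases hcover y with h1 | ⟨g, hg⟩
      · exact hyK h1
      · have hyZ : y ∉ Z := fun h => hyK (hZK h)
        have h2 : (g⁻¹ * x * g)⁻¹ * (g⁻¹ * y * g) * (g⁻¹ * x * g) ∈ H := by
          have : (g⁻¹ * x * g)⁻¹ * (g⁻¹ * y * g) * (g⁻¹ * x * g) = g⁻¹ * (x⁻¹ * (y * x)) * g := by
            group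
          rw [this, hy]
          have : g⁻¹ * (x⁻¹ * (x * y)) * g = g⁻¹ * y * g := by group
          rw [this]; exact hg
        have h3 := hfrob _ _ hg (conj_notZ y g hyZ) h2
        exact hKH x g hx hxZ h3
    · intro y hy
      rw [Subgroup.mem_centralizer_singleton_iff]
      exact setLike_mul_comm hy hx
  have cent_H : ∀ x g : G, x ∉ Z → g⁻¹ * x * g ∈ H →
      (Subgroup.centralizer ({x} : Set G)).index = H.index := by
    intro x g hxZ hg
    have : Subgroup.centralizer ({x} : Set G) = H.map ((MulAut.conj g : G ≃* G) : G →* G) := by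
      apply le_antisymm
      · intro y hy
        rw [Subgroup.mem_centralizer_singleton_iff] at hy
        have h2 : (g⁻¹ * y * g)⁻¹ * (g⁻¹ * x * g) * (g⁻¹ * y * g) ∈ H := by
          have : (g⁻¹ * y * g)⁻¹ * (g⁻¹ * x * g) * (g⁻¹ * y * g) = g⁻¹ * (y⁻¹ * (x * y)) * g := by
            group
          rw [this, ← hy]
          have : g⁻¹ * (y⁻¹ * (y * x)) * g = g⁻¹ * x * g := by group
          rw [this]; exact hg
        have h3 := hfrob _ _ hg (conj_notZ x g hxZ) h2
        refine ⟨g⁻¹ * y * g, h3, ?_⟩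
        show g * (g⁻¹ * y * g) * g⁻¹ = y
        group
      · rintro _ ⟨h', hh', rfl⟩
        rw [Subgroup.mem_centralizer_singleton_iff]
        have hcomm : h' * (g⁻¹ * x * g) = (g⁻¹ * x * g) * h' := setLike_mul_comm hh' hg
        show g * h' * g⁻¹ * x = x * (g * h' * g⁻¹)
        calc g * h' * g⁻¹ * x = g * (h' * (g⁻¹ * x * g)) * g⁻¹ := by group
          _ = g * ((g⁻¹ * x * g) * h') * g⁻¹ := by rw [hcomm]
          _ = x * (g * h' * g⁻¹) := by group
    rw [this, Subgroup.index_map_equiv]
  -- cardinalities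
  have hcardK : Nat.card Kb = Hb.index := by
    rw [← card_frobeniusKernel hFrob, hker]
    rfl
  have hHb_top : Hb ≠ ⊤ := hFrob.2.1
  have hHb_bot : Hb ≠ ⊥ := hFrob.1
  have hidx_ne : Hb.index ≠ 1 := fun h => hHb_top (Subgroup.index_eq_one.1 h)
  have hKidx : Kb.index = K.index := Subgroup.index_map_eq K hqsurj (by rw [hqker]; exact hZK)
  have hHidx : Hb.index = H.index := Subgroup.index_map_eq H hqsurj (by rw [hqker]; exact hZH)
  constructor
  · ext n
    simp only [Set.mem_range, Set.mem_insert_iff, Set.mem_singleton_iff]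
    constructor
    · rintro ⟨x, rfl⟩
      by_cases hxZ : x ∈ Z
      · left; exact cent_Z x hxZ
      · rcases hcover x with hx | ⟨g, hg⟩
        · right; left; rw [cent_K x hx hxZ]
        · right; right; exact cent_H x g hxZ hg
    · rintro (rfl | rfl | rfl)
      · exact ⟨1, cent_Z 1 (Subgroup.one_mem _)⟩
      · -- an element of K outside Z
        have : Kb ≠ ⊥ := by
          intro h
          rw [h, Subgroup.card_bot] at hcardK
          exact hidx_ne hcardK.symm
        obtain ⟨⟨kb, hkb⟩, hkb1⟩ := (Subgroup.ne_bot_iff_exists_ne_one).1 this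
        obtain ⟨k, rfl⟩ := hqsurj kb
        have hk : k ∈ K := (memK k).1 hkb
        have hkZ : k ∉ Z := fun h => hkb1 (Subtype.ext ((q_one k).2 h))
        exact ⟨k, by rw [cent_K k hk hkZ]⟩
      · obtain ⟨⟨hb, hhb⟩, hhb1⟩ := (Subgroup.ne_bot_iff_exists_ne_one).1 hHb_bot
        obtain ⟨h, rfl⟩ := hqsurj hb
        have hh : h ∈ H := (memH h).1 hhb
        have hhZ : h ∉ Z := fun h' => hhb1 (Subtype.ext ((q_one h).2 h'))
        exact ⟨h, cent_H h 1 hhZ (by simpa using hh)⟩
  · rw [← hKidx, ← hHidx]
    have h1 : Kb.index * Nat.card Kb = Hb.index * Nat.card Hb := by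
      rw [Subgroup.index_mul_card, Subgroup.index_mul_card]
    rw [hcardK] at h1
    have hpos : 0 < Hb.index := Nat.pos_of_ne_zero Subgroup.index_ne_zero_of_finite
    have h2 : Kb.index = Nat.card Hb := by
      have : Kb.index * Hb.index = Nat.card Hb * Hb.index := by rw [h1, mul_comm]
      exact Nat.eq_of_mul_eq_mul_right hpos this
    rw [h2]
    have h3 := index_mod_card hFrob
    have h4 : Nat.gcd Hb.index (Nat.card Hb) = Nat.gcd 1 (Nat.card Hb) :=
      Nat.ModEq.gcd_eq h3
    rw [Nat.gcd_one_left] at h4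
    exact (Nat.coprime_comm).1 h4

end Cfsg.Agent.S4283
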