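import Cfsg.Statements.S4292
import Cfsg.Agent.Lib.Helper88.FrobChar
import Cfsg.Agent.Lib.Helper71.FrobeniusSmall
import Cfsg.Agent.Lib.Helper71.NoCpCp
import Cfsg.Agent.Lib.Helper56.FrobComplA
import Cfsg.Agent.Lib.Helper56.FrobComplB

set_option autoImplicit false
set_option linter.unusedVariables false
set_option linter.unusedSectionVars false
set_option linter.style.haveILetI false
set_option maxHeartbeats 800000
open Cfsg

namespace Cfsg.Agent.S4292

universe u v

section hom

variable {A : Type*} {B : Type*} [Group A] [Group B] {MA : Type*} {MB : Type*}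
  [AddCommGroup MA] [AddCommGroup MB] [DistribMulAction A MA] [DistribMulAction B MB]

/-- the action of `A × B` on `Hom(MA, MB)`: `((a,b) • f) x = b • f (a⁻¹ • x)` -/
def homSmul (p : A × B) (f : MA →+ MB) : MA →+ MB where
  toFun x := p.2 • f (p.1⁻¹ • x)
  map_zero' := by simp
  map_add' x y := by simp [smul_add]

@[simp] lemma homSmul_apply (p : A × B) (f : MA →+ MB) (x : MA) :
    homSmul p f x = p.2 • f (p.1⁻¹ • x) := rfl

/-- `Hom(MA, MB)` as an `A × B`-module -/
@[instance_reducible]
def homDMA : DistribMulAction (A × B) (MA →+ MB) where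
  smul p f := homSmul p f
  one_smul f := by
    ext x
    show homSmul 1 f x = f x
    simp
  mul_smul p p' f := by
    ext x
    show homSmul (p * p') f x = homSmul p (homSmul p' f) x
    simp [mul_smul]
  smul_zero p := by
    ext x
    show homSmul p 0 x = 0
    simp
  smul_add p f g := by
    ext x
    show homSmul p (f + g) x = homSmul p f x + homSmul p g x
    simp [smul_add]

/-- fixed-point-freeness of the `Hom` module -/
theorem hom_fpf [Finite A] [Finite B] [Finite MA]
    (hcop : (Nat.card A).Coprime (Nat.card B))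
    (hfA : ∀ a : A, a ≠ 1 → ∀ m : MA, a • m = m → m = 0)
    (hfB : ∀ b : B, b ≠ 1 → ∀ m : MB, b • m = m → m = 0)
    (p : A × B) (hp : p ≠ 1) (f : MA →+ MB) (hf : homSmul p f = f) : f = 0 := by
  have key : ∀ x, p.2 • f (p.1⁻¹ • x) = f x := fun x => DFunLike.congr_fun hf x
  have step : ∀ k : ℕ, ∀ x, p.2 ^ k • f ((p.1⁻¹) ^ k • x) = f x := by
    intro k
    induction k with
    | zero => intro x; simp
    | succ k ih =>
      intro x
      rw [pow_succ, pow_succ', mul_smul, mul_smul, key, ih]
  have hk : ∀ x, p.2 ^ Nat.card A • f x = f x := by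
    intro x
    have := step (Nat.card A) x
    rwa [pow_card_eq_one', one_smul] at this
  by_cases hb : p.2 ^ Nat.card A = 1
  · -- then `p.2 = 1`
    have h1 : orderOf p.2 ∣ Nat.card A := orderOf_dvd_of_pow_eq_one hb
    have h2 : orderOf p.2 ∣ Nat.card B := orderOf_dvd_natCard p.2
    have h3 : orderOf p.2 = 1 := Nat.eq_one_of_dvd_coprimes hcop h1 h2
    have hp2 : p.2 = 1 := orderOf_eq_one_iff.mp h3
    have hp1 : p.1 ≠ 1 := by
      intro h
      apply hp
      exact Prod.ext h hp2
    have key' : ∀ x, f (p.1⁻¹ • x) = f x := by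
      intro x
      have := key x
      rwa [hp2, one_smul] at this
    let δ : MA →+ MA :=
      { toFun := fun x => p.1⁻¹ • x - x
        map_zero' := by simp
        map_add' := fun x y => by simp only [smul_add]; abel }
    have hδinj : Function.Injective δ := by
      rw [injective_iff_map_eq_zero]
      intro x hx
      have hx' : p.1⁻¹ • x = x := sub_eq_zero.mp hx
      exact hfA p.1⁻¹ (inv_ne_one.mpr hp1) x hx'
    have hδsurj : Function.Surjective δ := Finite.injective_iff_surjective.mp hδinj
    ext y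
    obtain ⟨x, rfl⟩ := hδsurj y
    show f (p.1⁻¹ • x - x) = 0
    rw [map_sub, key', sub_self]
  · ext x
    exact hfB _ hb (f x) (hk x)

/-- nontriviality of the `Hom` module (vector space version) -/
theorem hom_nontrivial_aux (r : ℕ) [Fact r.Prime] [Nontrivial MA] [Nontrivial MB]
    [Module (ZMod r) MA] [Module (ZMod r) MB] : Nontrivial (MA →+ MB) := by
  obtain ⟨x0, hx0⟩ := exists_ne (0 : MA)
  obtain ⟨w, hw⟩ := exists_ne (0 : MB)
  have hker : LinearMap.ker (LinearMap.toSpanSingleton (ZMod r) MA x0) = ⊥ := by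
    rw [LinearMap.ker_eq_bot]
    intro c d hcd
    simp only [LinearMap.toSpanSingleton_apply] at hcd
    have : (c - d) • x0 = 0 := by rw [sub_smul, hcd, sub_self]
    rcases smul_eq_zero.mp this with h | h
    · exact sub_eq_zero.mp h
    · exact absurd h hx0
  obtain ⟨g, hg⟩ := LinearMap.exists_leftInverse_of_injective _ hker
  have hg1 : g x0 = 1 := by
    have := LinearMap.congr_fun hg 1
    simpa using this
  let h : MA →ₗ[ZMod r] MB := (LinearMap.toSpanSingleton (ZMod r) MB w).comp g
  have hh : h x0 = w := by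
    show (LinearMap.toSpanSingleton (ZMod r) MB w) (g x0) = w
    rw [hg1, LinearMap.toSpanSingleton_apply, one_smul]
  refine ⟨⟨h.toAddMonoidHom, 0, ?_⟩⟩
  intro h0
  apply hw
  have := DFunLike.congr_fun h0 x0
  rw [← hh]
  exact this

/-- nontriviality of the `Hom` module -/
theorem hom_nontrivial (r : ℕ) [Fact r.Prime] [Nontrivial MA] [Nontrivial MB]
    (hrA : ∀ m : MA, r • m = 0) (hrB : ∀ m : MB, r • m = 0) : Nontrivial (MA →+ MB) :=
  @hom_nontrivial_aux MA MB _ _ r _ _ _ (AddCommGroup.zmodModule hrA)
    (AddCommGroup.zmodModule hrB)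

end hom

/-- `(⇐)`: a direct product of Frobenius complements of coprime orders is a Frobenius
complement. -/
theorem prod_isFC {A : Type u} {B : Type v} [Group A] [Finite A] [Nontrivial A] [Group B]
    [Finite B] [Nontrivial B]
    (hA : ∃ (L : Type) (_ : Group L) (_ : Finite L) (H : Subgroup L),
      Cfsg.IsFrobeniusComplement H ∧ Nonempty (A ≃* H))
    (hB : ∃ (L : Type) (_ : Group L) (_ : Finite L) (H : Subgroup L),
      Cfsg.IsFrobeniusComplement H ∧ Nonempty (B ≃* H))
    (hcop : (Nat.card A).Coprime (Nat.card B)) :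
    ∃ (L : Type) (_ : Group L) (_ : Finite L) (H : Subgroup L),
      Cfsg.IsFrobeniusComplement H ∧ Nonempty ((A × B) ≃* H) := by
  obtain ⟨r, hrge, hr⟩ := Nat.exists_infinite_primes (Nat.card A * Nat.card B + 1)
  haveI : Fact r.Prime := ⟨hr⟩
  have hApos : 0 < Nat.card A := Nat.card_pos
  have hBpos : 0 < Nat.card B := Nat.card_pos
  have hrA : ¬ r ∣ Nat.card A := by
    apply Nat.not_dvd_of_pos_of_lt hApos
    calc Nat.card A ≤ Nat.card A * Nat.card B := Nat.le_mul_of_pos_right _ hBpos
      _ < r := by omega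
  have hrB : ¬ r ∣ Nat.card B := by
    apply Nat.not_dvd_of_pos_of_lt hBpos
    calc Nat.card B ≤ Nat.card A * Nat.card B := Nat.le_mul_of_pos_left _ hApos
      _ < r := by omega
  obtain ⟨MA, iA1, iA2, iA3, iA4, hMA, hfA⟩ :=
    Cfsg.Agent.Helper88.FrobChar.exists_fpf_module_of_frobenius hA r hr hrA
  obtain ⟨MB, iB1, iB2, iB3, iB4, hMB, hfB⟩ :=
    Cfsg.Agent.Helper88.FrobChar.exists_fpf_module_of_frobenius hB r hr hrB
  letI : DistribMulAction (A × B) (MA →+ MB) := homDMA
  haveI : Finite (MA →+ MB) := DFunLike.finite (MA →+ MB)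
  haveI : Nontrivial (MA →+ MB) := hom_nontrivial r hMA hMB
  apply Cfsg.Agent.Helper71.exists_frobenius_of_distribMulAction' (V := MA →+ MB) (H := A × B)
  intro p hp f hf
  exact hom_fpf hcop hfA hfB p hp f hf

/-- `(⇒)`: the factors of a direct product which is a Frobenius complement are Frobenius
complements of coprime orders. -/
theorem factors_isFC {A : Type u} {B : Type v} [Group A] [Finite A] [Nontrivial A] [Group B]
    [Finite B] [Nontrivial B]
    (hAB : ∃ (L : Type) (_ : Group L) (_ : Finite L) (H : Subgroup L),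
      Cfsg.IsFrobeniusComplement H ∧ Nonempty ((A × B) ≃* H)) :
    (∃ (L : Type) (_ : Group L) (_ : Finite L) (H : Subgroup L),
      Cfsg.IsFrobeniusComplement H ∧ Nonempty (A ≃* H)) ∧
    (∃ (L : Type) (_ : Group L) (_ : Finite L) (H : Subgroup L),
      Cfsg.IsFrobeniusComplement H ∧ Nonempty (B ≃* H)) ∧
    (Nat.card A).Coprime (Nat.card B) := by
  obtain ⟨L, _, _, H, hH, ⟨e⟩⟩ := hAB
  obtain ⟨q, hq, V, i1, i2, i3, i4, ρ, hsr⟩ := Cfsg.Agent.Helper56.FC.exists_sr_of_frobenius H hH
  -- the action of `A × B` on `V`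
  let F : A × B →* (V ≃ₗ[ZMod q] V) := ρ.comp e.toMonoidHom
  have hF : ∀ g : A × B, g ≠ 1 → ∀ v : V, F g v = v → v = 0 := by
    intro g hg v hv
    by_contra hv0
    have h1 : e g = 1 := hsr v hv0 (e g) hv
    exact hg (e.injective (by rw [h1, map_one]))
  refine ⟨?_, ?_, ?_⟩
  · letI : DistribMulAction A V := DistribMulAction.compHom V (F.comp (MonoidHom.inl A B))
    apply Cfsg.Agent.Helper71.exists_frobenius_of_distribMulAction' (V := V) (H := A)
    intro a ha v hv
    have hne : (MonoidHom.inl A B a) ≠ 1 := by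
      intro h
      apply ha
      have := congrArg Prod.fst h
      simpa using this
    exact hF _ hne v hv
  · letI : DistribMulAction B V := DistribMulAction.compHom V (F.comp (MonoidHom.inr A B))
    apply Cfsg.Agent.Helper71.exists_frobenius_of_distribMulAction' (V := V) (H := B)
    intro b hb v hv
    have hne : (MonoidHom.inr A B b) ≠ 1 := by
      intro h
      apply hb
      have := congrArg Prod.snd h
      simpa using this
    exact hF _ hne v hv
  · by_contra hnc
    obtain ⟨p, hp, hpA, hpB⟩ := Nat.Prime.not_coprime_iff_dvd.mp hnc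
    haveI : Fact p.Prime := ⟨hp⟩
    obtain ⟨a, ha⟩ := exists_prime_orderOf_dvd_card' p hpA
    obtain ⟨b, hb⟩ := exists_prime_orderOf_dvd_card' p hpB
    -- `q ≠ p`
    have hqH : ¬ q ∣ Nat.card H := Cfsg.Agent.Helper56.FC.sr_not_dvd ρ hsr
    have hcardH : Nat.card H = Nat.card A * Nat.card B := by
      rw [← Nat.card_congr e.toEquiv, Nat.card_prod]
    have hpq : p ≠ q := by
      rintro rfl
      apply hqH
      rw [hcardH]
      exact hpA.mul_right _
    have hcardV : (Nat.card V).Coprime p := by
      have h1 : Nat.card V = Nat.card (ZMod q) ^ Module.finrank (ZMod q) V :=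
        Module.natCard_eq_pow_finrank
      rw [h1, Nat.card_zmod]
      exact ((Nat.coprime_primes hq.out hp).mpr (Ne.symm hpq)).pow_left _
    letI : DistribMulAction (A × B) V := DistribMulAction.compHom V F
    have ha1 : a ≠ 1 := by
      intro h
      rw [h, orderOf_one] at ha
      exact hp.one_lt.ne ha
    have hb1 : b ≠ 1 := by
      intro h
      rw [h, orderOf_one] at hb
      exact hp.one_lt.ne hb
    refine Cfsg.Agent.Helper71.no_cp_cp_of_fpf (G₀ := A × B) (A := V)
      (DistribMulAction.toAddMonoidEnd (A × B) V) p hcardV ?_ ((a, 1) : A × B) ((1, b) : A × B)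
      ?_ ?_ ?_ ?_ ?_
    · intro g hg v hv
      exact hF g hg v hv
    · show ((a, 1) : A × B) * (1, b) = (1, b) * (a, 1)
      simp
    · rw [Prod.pow_mk, one_pow, ← ha, pow_orderOf_eq_one]
      rfl
    · rw [Prod.pow_mk, one_pow, ← hb, pow_orderOf_eq_one]
      rfl
    · intro h
      apply hb1
      have := congrArg Prod.snd h
      simpa using this
    · intro j h
      apply ha1
      have := congrArg Prod.fst h
      simpa using this

/-- Let A and B be nontrivial finite groups. Then the direct product A × B occurs as a Frobenius complement if and only if A and B both occur as Frobenius complements and the orders of A and B are coprime. -/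
theorem result {A B : Type*} [Group A] [Finite A] [Nontrivial A] [Group B] [Finite B] [Nontrivial B] :
    (∃ (L : Type) (_ : Group L) (_ : Finite L) (H : Subgroup L), Cfsg.IsFrobeniusComplement H ∧ Nonempty ((A × B) ≃* H)) ↔
    ((∃ (L : Type) (_ : Group L) (_ : Finite L) (H : Subgroup L), Cfsg.IsFrobeniusComplement H ∧ Nonempty (A ≃* H)) ∧
     (∃ (L : Type) (_ : Group L) (_ : Finite L) (H : Subgroup L), Cfsg.IsFrobeniusComplement H ∧ Nonempty (B ≃* H)) ∧
     (Nat.card A).Coprime (Nat.card B)) := by
  constructor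
  · intro h
    exact factors_isFC h
  · rintro ⟨hA, hB, hcop⟩
    exact prod_isFC hA hB hcop

end Cfsg.Agent.S4292
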