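import Cfsg.Statements.S4293
import Mathlib
import Cfsg.Agent.Lib.Helper71.FrobeniusSmall

set_option autoImplicit false
open Cfsg

namespace Cfsg.Agent.S4293

/-- the ring-theoretic heart: if `a ^ m = 1`, `a ≠ 1` in a domain, `m` coprime to `q`, then
`(a - 1) * r ∈ A q` implies `r ∈ A q`. -/
theorem key {A : Type*} [Ring A] [NoZeroDivisors A] (a : A) (m : ℕ) (ham : a ^ m = 1)
    (ha : a ≠ 1) (q : ℕ) (hq : Nat.Coprime m q) (r : A)
    (hr : ∃ c, c * (q : A) = (a - 1) * r) : ∃ c', c' * (q : A) = r := by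
  obtain ⟨c, hc⟩ := hr
  have ha1 : a - 1 ≠ 0 := sub_ne_zero.2 ha
  have hG : ∑ i ∈ Finset.range m, a ^ i = 0 := by
    have h := mul_geom_sum a m
    rw [ham, sub_self] at h
    rcases mul_eq_zero.1 h with h' | h'
    · exact absurd h' ha1
    · exact h'
  set Q : A := ∑ i ∈ Finset.range m, ∑ j ∈ Finset.range i, a ^ j with hQ
  have hQ1 : Q * (a - 1) = -(m : A) := by
    rw [hQ, Finset.sum_mul]
    have : ∀ i ∈ Finset.range m, (∑ j ∈ Finset.range i, a ^ j) * (a - 1) = a ^ i - 1 :=
      fun i _ => geom_sum_mul a i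
    rw [Finset.sum_congr rfl this, Finset.sum_sub_distrib, hG]
    simp
  have hm : (m : A) * r = (-(Q * c)) * (q : A) := by
    calc (m : A) * r = -(Q * (a - 1)) * r := by rw [hQ1, neg_neg]
      _ = -(Q * ((a - 1) * r)) := by noncomm_ring
      _ = -(Q * (c * (q : A))) := by rw [hc]
      _ = (-(Q * c)) * (q : A) := by noncomm_ring
  -- Bezout
  have hb : (m : ℤ) * Nat.gcdA m q + (q : ℤ) * Nat.gcdB m q = 1 := by
    have := Nat.gcd_eq_gcd_ab m q
    rw [hq.gcd_eq_one] at this
    exact_mod_cast this.symm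
  have hb' : ((Nat.gcdA m q : ℤ) : A) * (m : A) + ((Nat.gcdB m q : ℤ) : A) * (q : A) = 1 := by
    have := congrArg (fun z : ℤ => (z : A)) hb
    simp only [Int.cast_add, Int.cast_mul, Int.cast_natCast, Int.cast_one] at this
    rw [← this]
    rw [(Nat.cast_commute m ((Nat.gcdA m q : ℤ) : A)).eq, (Nat.cast_commute q ((Nat.gcdB m q : ℤ) : A)).eq]
  refine ⟨((Nat.gcdA m q : ℤ) : A) * (-(Q * c)) + ((Nat.gcdB m q : ℤ) : A) * r, ?_⟩
  have hqr : (q : A) * r = r * (q : A) := (Nat.cast_commute q r).eq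
  calc (((Nat.gcdA m q : ℤ) : A) * (-(Q * c)) + ((Nat.gcdB m q : ℤ) : A) * r) * (q : A)
      = ((Nat.gcdA m q : ℤ) : A) * ((-(Q * c)) * (q : A)) + ((Nat.gcdB m q : ℤ) : A) * (r * (q : A)) := by
        noncomm_ring
    _ = ((Nat.gcdA m q : ℤ) : A) * ((m : A) * r) + ((Nat.gcdB m q : ℤ) : A) * ((q : A) * r) := by
        rw [hm, hqr]
    _ = (((Nat.gcdA m q : ℤ) : A) * (m : A) + ((Nat.gcdB m q : ℤ) : A) * (q : A)) * r := by
        noncomm_ring
    _ = r := by rw [hb', one_mul]

section ring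

variable {D : Type*} [DivisionRing D] (H : Subgroup Dˣ)

/-- the elements of `H`, as a submonoid of `D` -/
def M : Submonoid D := H.toSubmonoid.map (Units.coeHom D)

/-- the subring generated by `H` -/
def R : Subalgebra ℤ D := Algebra.adjoin ℤ (M H : Set D)

theorem mem_R (h : H) : (((h : Dˣ) : D)) ∈ R H :=
  Algebra.subset_adjoin ⟨(h : Dˣ), h.2, rfl⟩

/-- `H` maps into the units of the ring it generates -/
def ι : H →* (R H)ˣ where
  toFun h := ⟨⟨((h : Dˣ) : D), mem_R H h⟩, ⟨(((h⁻¹ : H) : Dˣ) : D), mem_R H h⁻¹⟩,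
    by ext; simp, by ext; simp⟩
  map_one' := by ext; simp
  map_mul' a b := by ext; simp

theorem ι_coe (h : H) : (((ι H h : (R H)ˣ) : R H) : D) = ((h : Dˣ) : D) := rfl

theorem ι_injective : Function.Injective (ι H) := by
  intro a b hab
  have := congrArg (fun u : (R H)ˣ => ((u : R H) : D)) hab
  simp only [ι_coe] at this
  exact Subtype.ext (Units.ext this)

theorem fg [Finite H] : Module.Finite ℤ (R H) := by
  have hfin : (M H : Set D).Finite := by
    have : (M H : Set D) = (Units.coeHom D) '' (H : Set Dˣ) := rfl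
    rw [this]
    exact (Set.toFinite _).image _
  have h1 : (Subalgebra.toSubmodule (R H)).FG := by
    rw [R, Algebra.adjoin_eq_span, Submonoid.closure_eq]
    exact Submodule.fg_span hfin
  exact Module.Finite.iff_fg.2 h1

/-- the left ideal generated by `q` -/
def I (q : ℕ) : Ideal (R H) := Ideal.span {(q : R H)}

theorem mem_I (q : ℕ) (r : R H) : r ∈ I H q ↔ ∃ c, c * (q : R H) = r :=
  Ideal.mem_span_singleton'

abbrev V (q : ℕ) := (R H) ⧸ (I H q)

@[instance_reducible]
def dma (q : ℕ) : DistribMulAction H (V H q) := DistribMulAction.compHom (V H q) (ι H)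

theorem smul_mk (q : ℕ) (h : H) (r : R H) :
    letI := dma H q
    h • (Submodule.Quotient.mk r : V H q) = Submodule.Quotient.mk ((ι H h : R H) * r) := rfl

theorem fpf [Finite H] (q : ℕ) (hq : ∀ h : H, (orderOf h).Coprime q) (h : H) (hh : h ≠ 1)
    (v : V H q) (hv : letI := dma H q; h • v = v) : v = 0 := by
  let _ := dma H q
  obtain ⟨r, rfl⟩ := Submodule.Quotient.mk_surjective _ v
  rw [smul_mk, Submodule.Quotient.eq, mem_I] at hv
  rw [Submodule.Quotient.mk_eq_zero, mem_I]
  set a : R H := (ι H h : R H) with ha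
  have ham : a ^ (orderOf h) = 1 := by
    rw [ha, ← Units.val_pow_eq_pow_val, ← map_pow, pow_orderOf_eq_one, map_one, Units.val_one]
  have ha1 : a ≠ 1 := by
    intro h1
    apply hh
    apply ι_injective H
    rw [map_one]
    exact Units.ext h1
  apply key a (orderOf h) ham ha1 q (hq h) r
  obtain ⟨c, hc⟩ := hv
  exact ⟨c, by rw [hc]; noncomm_ring⟩

theorem finiteV [Finite H] (q : ℕ) (hq0 : q ≠ 0) : Finite (V H q) := by
  have := fg H
  have hfin : Module.Finite ℤ (V H q) := inferInstance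
  apply Module.finite_of_fg_torsion
  intro x
  refine ⟨⟨(q : ℤ), mem_nonZeroDivisors_of_ne_zero (by exact_mod_cast hq0)⟩, ?_⟩
  obtain ⟨r, rfl⟩ := Submodule.Quotient.mk_surjective _ x
  show (q : ℤ) • (Submodule.Quotient.mk r : V H q) = 0
  rw [← Submodule.Quotient.mk_smul, Submodule.Quotient.mk_eq_zero, mem_I]
  refine ⟨r, ?_⟩
  rw [natCast_zsmul, nsmul_eq_mul, (Nat.cast_commute q r).eq]

theorem nontrivialV [Finite H] (q : ℕ)
    (hq : ∀ z : ℤ, (z : D) = 0 → ¬ (q : ℤ) ∣ z - 1) : Nontrivial (V H q) := by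
  have hfg := fg H
  refine ⟨⟨Submodule.Quotient.mk 1, 0, ?_⟩⟩
  rw [Ne, Submodule.Quotient.mk_eq_zero, mem_I]
  rintro ⟨c, hc⟩
  have hle : (⊤ : Submodule ℤ (R H)) ≤ (Ideal.span {(q : ℤ)}) • (⊤ : Submodule ℤ (R H)) := by
    intro r _
    have : r = (q : ℤ) • (r * c) := by
      rw [natCast_zsmul, nsmul_eq_mul, (Nat.cast_commute q (r * c)).eq, mul_assoc, hc, mul_one]
    rw [this]
    exact Submodule.smul_mem_smul (Ideal.mem_span_singleton_self _) trivial
  obtain ⟨z, hz1, hz2⟩ := Submodule.exists_sub_one_mem_and_smul_eq_zero_of_fg_of_le_smul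
    (Ideal.span {(q : ℤ)}) (⊤ : Submodule ℤ (R H)) (Module.finite_def.1 hfg) hle
  have hz3 := hz2 1 trivial
  have hz4 : (z : D) = 0 := by
    have := congrArg (fun x : R H => (x : D)) hz3
    simpa using this
  exact hq z hz4 (Ideal.mem_span_singleton.1 hz1)

end ring

/-- the choice of the prime -/
theorem exists_prime {D : Type*} [DivisionRing D] (H : Subgroup Dˣ) [Finite H] :
    ∃ q : ℕ, q.Prime ∧ (∀ h : H, (orderOf h).Coprime q) ∧
      ∀ z : ℤ, (z : D) = 0 → ¬ (q : ℤ) ∣ z - 1 := by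
  obtain ⟨p, hp⟩ := CharP.exists D
  rcases CharP.char_is_prime_or_zero D p with hpp | hp0
  · have : Fact p.Prime := ⟨hpp⟩
    refine ⟨p, hpp, ?_, ?_⟩
    · intro h
      by_contra hcop
      have hdvd : p ∣ orderOf h := by
        rw [Nat.coprime_comm, hpp.coprime_iff_not_dvd] at hcop
        exact not_not.1 hcop
      have hord : orderOf h ≠ 0 := (orderOf_pos h).ne'
      have hg := orderOf_pow_orderOf_div hord hdvd
      set g := h ^ (orderOf h / p) with hgdef
      have h1 : (((g : Dˣ) : D)) ^ p = 1 := by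
        have : g ^ p = 1 := by rw [← hg]; exact pow_orderOf_eq_one g
        have := congrArg (fun x : H => ((x : Dˣ) : D)) this
        simpa using this
      have h2 : ((((g : Dˣ) : D)) - 1) ^ p = 0 := by
        rw [sub_pow_char_of_commute p (Commute.one_right _), h1, one_pow, sub_self]
      have h3 : (((g : Dˣ) : D)) = 1 := by
        have := pow_eq_zero_iff hpp.ne_zero |>.1 h2
        exact sub_eq_zero.1 this
      have h4 : g = 1 := Subtype.ext (Units.ext h3)
      rw [h4, orderOf_one] at hg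
      exact hpp.one_lt.ne hg
    · intro z hz hdvd
      have h1 : (p : ℤ) ∣ z := (CharP.intCast_eq_zero_iff D p z).1 hz
      have h2 : (p : ℤ) ∣ 1 := by
        have := dvd_sub h1 hdvd
        simpa using this
      have h3 : p ∣ 1 := by exact_mod_cast h2
      exact hpp.one_lt.ne' (Nat.dvd_one.1 h3)
  · subst hp0
    have hcz : CharZero D := CharP.charP_to_charZero D
    obtain ⟨q, hq1, hq2⟩ := Nat.exists_infinite_primes (Nat.card H + 1)
    refine ⟨q, hq2, ?_, ?_⟩
    · intro h
      rw [Nat.coprime_comm, hq2.coprime_iff_not_dvd]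
      intro hdvd
      have h1 := Nat.le_of_dvd (orderOf_pos h) hdvd
      have h2 : orderOf h ≤ Nat.card H := Nat.le_of_dvd Nat.card_pos (orderOf_dvd_natCard h)
      omega
    · intro z hz hdvd
      have : z = 0 := by exact_mod_cast hz
      subst this
      have h2 : (q : ℤ) ∣ 1 := by simpa using hdvd
      have h3 : q ∣ 1 := by exact_mod_cast h2
      exact hq2.one_lt.ne' (Nat.dvd_one.1 h3)

theorem result {D : Type*} [DivisionRing D] (H : Subgroup Dˣ) [Finite H] (hH : H ≠ ⊥) :
    ∃ (L : Type) (_ : Group L) (_ : Finite L) (C : Subgroup L), Cfsg.IsFrobeniusComplement C ∧ Nonempty (H ≃* C) := by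
  obtain ⟨q, hq, hq1, hq2⟩ := exists_prime H
  let _ := dma H q
  have hfin : Finite (V H q) := finiteV H q hq.ne_zero
  have hnt : Nontrivial (V H q) := nontrivialV H q hq2
  have hntH : Nontrivial H := (Subgroup.nontrivial_iff_ne_bot H).2 hH
  exact Cfsg.Agent.Helper71.exists_frobenius_of_distribMulAction' (V := V H q) (H := H)
    (fun h hh v hv => fpf H q hq1 h hh v hv)

end Cfsg.Agent.S4293
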