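import Cfsg.Statements.S4295
import Mathlib
import Cfsg.Agent.Lib.Helper71.Frobenius
import Cfsg.Agent.Lib.Helper71.QuaternionHom
import Cfsg.Agent.Lib.Helper71.SquareOrder
import Cfsg.Agent.Lib.Helper96.Frobenius
import Cfsg.Agent.S0035

set_option autoImplicit false
open Cfsg

namespace Cfsg.Agent.S4295

open QuaternionGroup Matrix

abbrev Q8 := QuaternionGroup 2

/-- every non-identity element of `Q₈` is the central involution or squares to it -/
theorem q8_card : Nat.card Q8 = 8 := by
  rw [Nat.card_eq_fintype_card, QuaternionGroup.card]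

theorem q8_sq : ∀ g : Q8, g ≠ 1 → g = a 2 ∨ g * g = a 2 := by decide

/-- the existence of a fixed-point-free `Q₈`-module of order `n * n` -/
def P (n : ℕ) : Prop :=
  ∃ (V : Type) (_ : AddCommGroup V) (_ : Finite V) (_ : DistribMulAction Q8 V),
    Nat.card V = n * n ∧ ∀ g : Q8, g ≠ 1 → ∀ v : V, g • v = v → v = 0

theorem P_mul {n₁ n₂ : ℕ} (h₁ : P n₁) (h₂ : P n₂) : P (n₁ * n₂) := by
  obtain ⟨V₁, i₁, f₁, d₁, c₁, hf₁⟩ := h₁
  obtain ⟨V₂, i₂, f₂, d₂, c₂, hf₂⟩ := h₂
  refine ⟨V₁ × V₂, inferInstance, inferInstance, inferInstance, ?_, ?_⟩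
  · rw [Nat.card_prod, c₁, c₂]; ring
  · intro g hg v hv
    have hv1 : g • v.1 = v.1 := congrArg Prod.fst hv
    have hv2 : g • v.2 = v.2 := congrArg Prod.snd hv
    exact Prod.ext (hf₁ g hg _ hv1) (hf₂ g hg _ hv2)

section prime

variable (p : ℕ) [hp : Fact p.Prime]

abbrev M2 := Matrix (Fin 2) (Fin 2) (ZMod p)

def matI (x y : ZMod p) : M2 p := !![x, y; y, -x]
def matJ : M2 p := !![0, -1; 1, 0]

theorem matI_sq (x y : ZMod p) (h : x ^ 2 + y ^ 2 = -1) : matI p x y * matI p x y = -1 := by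
  ext i j
  fin_cases i <;> fin_cases j <;> simp [matI, Matrix.mul_apply, Fin.sum_univ_two] <;>
    first | ring1 | linear_combination h

theorem matJ_sq : matJ p * matJ p = -1 := by
  ext i j
  fin_cases i <;> fin_cases j <;> simp [matJ, Matrix.mul_apply, Fin.sum_univ_two]

theorem matJIJ (x y : ZMod p) : matJ p * matI p x y * matJ p = matI p x y := by
  ext i j
  fin_cases i <;> fin_cases j <;> simp [matI, matJ, Matrix.mul_apply, Fin.sum_univ_two]

def unitI (x y : ZMod p) (h : x ^ 2 + y ^ 2 = -1) : (M2 p)ˣ :=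
  ⟨matI p x y, -matI p x y, by rw [mul_neg, matI_sq p x y h, neg_neg],
    by rw [neg_mul, matI_sq p x y h, neg_neg]⟩

def unitJ : (M2 p)ˣ :=
  ⟨matJ p, -matJ p, by rw [mul_neg, matJ_sq, neg_neg], by rw [neg_mul, matJ_sq, neg_neg]⟩

theorem unit_h1 (x y : ZMod p) (h : x ^ 2 + y ^ 2 = -1) : unitI p x y h ^ (2 * 2) = 1 := by
  apply Units.ext
  show matI p x y ^ (2 * 2) = 1
  have : matI p x y ^ (2 * 2) = (matI p x y * matI p x y) * (matI p x y * matI p x y) := by
    rw [pow_mul, pow_two, pow_two]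
  rw [this, matI_sq p x y h]; simp

theorem unit_h2 (x y : ZMod p) (h : x ^ 2 + y ^ 2 = -1) : unitJ p ^ 2 = unitI p x y h ^ 2 := by
  apply Units.ext
  show matJ p ^ 2 = matI p x y ^ 2
  rw [pow_two, pow_two, matI_sq p x y h, matJ_sq]

theorem unit_h3 (x y : ZMod p) (h : x ^ 2 + y ^ 2 = -1) :
    unitJ p * unitI p x y h * (unitJ p)⁻¹ = (unitI p x y h)⁻¹ := by
  apply Units.ext
  show matJ p * matI p x y * (-matJ p) = -matI p x y
  rw [mul_neg, matJIJ]

/-- the representation of `Q₈` on `𝔽_p²` -/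
noncomputable def rep (x y : ZMod p) (h : x ^ 2 + y ^ 2 = -1) : Q8 →* (M2 p)ˣ :=
  Cfsg.Agent.Helper71.quaternionHom 2 (unitI p x y h) (unitJ p) (unit_h1 p x y h)
    (unit_h2 p x y h) (unit_h3 p x y h)

theorem rep_a_two (x y : ZMod p) (h : x ^ 2 + y ^ 2 = -1) :
    ((rep p x y h (a 2) : (M2 p)ˣ) : M2 p) = -1 := by
  have h2 := Cfsg.Agent.Helper71.quaternionHom_a 2 (unitI p x y h) (unitJ p) (unit_h1 p x y h)
    (unit_h2 p x y h) (unit_h3 p x y h) 2
  have e : ((2 : ℕ) : ZMod (2 * 2)) = 2 := by norm_num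
  rw [e] at h2
  show ((Cfsg.Agent.Helper71.quaternionHom 2 (unitI p x y h) (unitJ p) (unit_h1 p x y h)
    (unit_h2 p x y h) (unit_h3 p x y h) (a 2) : (M2 p)ˣ) : M2 p) = -1
  rw [h2]
  show matI p x y ^ 2 = -1
  rw [pow_two, matI_sq p x y h]

@[instance_reducible]
noncomputable def dma (x y : ZMod p) (h : x ^ 2 + y ^ 2 = -1) :
    DistribMulAction Q8 (Fin 2 → ZMod p) where
  smul g v := ((rep p x y h g : (M2 p)ˣ) : M2 p).mulVec v
  one_smul v := by
    show ((rep p x y h 1 : (M2 p)ˣ) : M2 p).mulVec v = v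
    rw [map_one, Units.val_one, Matrix.one_mulVec]
  mul_smul g k v := by
    show ((rep p x y h (g * k) : (M2 p)ˣ) : M2 p).mulVec v =
      ((rep p x y h g : (M2 p)ˣ) : M2 p).mulVec (((rep p x y h k : (M2 p)ˣ) : M2 p).mulVec v)
    rw [map_mul, Units.val_mul, Matrix.mulVec_mulVec]
  smul_zero g := by
    show ((rep p x y h g : (M2 p)ˣ) : M2 p).mulVec 0 = 0
    rw [Matrix.mulVec_zero]
  smul_add g v w := by
    show ((rep p x y h g : (M2 p)ˣ) : M2 p).mulVec (v + w) = _ + _
    rw [Matrix.mulVec_add]; rfl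

theorem P_prime (hp2 : p ≠ 2) : P p := by
  obtain ⟨x, y, h⟩ := ZMod.sq_add_sq p (-1)
  let _ := dma p x y h
  refine ⟨Fin 2 → ZMod p, inferInstance, inferInstance, dma p x y h, ?_, ?_⟩
  · rw [Nat.card_eq_fintype_card, Fintype.card_fun, ZMod.card, Fintype.card_fin, pow_two]
  · intro g hg v hv
    have hz : (a 2 : Q8) • v = v := by
      rcases q8_sq g hg with h1 | h1
      · rw [← h1]; exact hv
      · rw [← h1, mul_smul, hv, hv]
    have hz' : ((rep p x y h (a 2) : (M2 p)ˣ) : M2 p).mulVec v = v := hz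
    rw [rep_a_two, Matrix.neg_mulVec, Matrix.one_mulVec] at hz'
    have h2 : (2 : ZMod p) ≠ 0 := by
      intro h0
      have h3 : ((2 : ℕ) : ZMod p) = 0 := by exact_mod_cast h0
      rw [ZMod.natCast_eq_zero_iff] at h3
      exact hp2 ((Nat.prime_dvd_prime_iff_eq hp.out Nat.prime_two).1 h3)
    funext i
    have hi := congrFun hz' i
    simp only [Pi.neg_apply] at hi
    have : (2 : ZMod p) * v i = 0 := by linear_combination -hi
    rcases mul_eq_zero.1 this with h4 | h4
    · exact absurd h4 h2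
    · exact h4

end prime

theorem P_odd : ∀ n : ℕ, Odd n → 1 < n → P n := by
  intro n
  induction' n using Nat.strong_induction_on with n ih
  intro hodd h1
  have hp : n.minFac.Prime := Nat.minFac_prime (by omega)
  have _hf : Fact n.minFac.Prime := ⟨hp⟩
  have hp2 : n.minFac ≠ 2 := by
    intro h2
    have : 2 ∣ n := h2 ▸ Nat.minFac_dvd n
    exact (Nat.not_even_iff_odd.2 hodd) (even_iff_two_dvd.2 this)
  obtain ⟨k, hk⟩ := Nat.minFac_dvd n
  have hPp := P_prime n.minFac hp2
  by_cases hk1 : k = 1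
  · rw [hk1, mul_one] at hk
    rw [hk]; exact hPp
  · have hkpos : 0 < k := by
      rcases Nat.eq_zero_or_pos k with h0 | h0
      · rw [h0, mul_zero] at hk; omega
      · exact h0
    have hklt : k < n := by
      have := hp.one_lt
      rw [hk]; nlinarith
    have hkodd : Odd k := Odd.of_dvd_nat hodd ⟨n.minFac, by rw [mul_comm]; exact hk⟩
    have := ih k hklt hkodd (by omega)
    have h3 := P_mul hPp this
    rw [← hk] at h3
    exact h3

theorem backward (m : ℕ) (hodd : Odd m) (hsq : IsSquare m) (h1 : 1 < m) :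
    ∃ (L : Type) (_ : Group L) (_ : Finite L) (H : Subgroup L), Cfsg.IsFrobeniusComplement H ∧
        Nonempty (H ≃* QuaternionGroup 2) ∧ Nat.card (Cfsg.frobeniusKernel H) = m := by
  obtain ⟨n, rfl⟩ := hsq
  have hnodd : Odd n := (Nat.odd_mul.1 hodd).1
  have hn1 : 1 < n := by nlinarith
  obtain ⟨V, i1, i2, i3, hcard, hfpf⟩ := P_odd n hnodd hn1
  have hntV : Nontrivial V := by
    rw [← Finite.one_lt_card_iff_nontrivial, hcard]; nlinarith
  have hntQ : Nontrivial Q8 := ⟨⟨1, a 1, by decide⟩⟩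
  have hfin : Finite (Multiplicative V ⋊[Helper71.toMulAutMul Q8 V] Q8) :=
    Finite.of_equiv _ (SemidirectProduct.equivProd).symm
  have hH : IsFrobeniusComplement
      (SemidirectProduct.inr : Q8 →* Multiplicative V ⋊[Helper71.toMulAutMul Q8 V] Q8).range :=
    Helper71.isFrobeniusComplement_of_distribMulAction hfpf
  refine ⟨Multiplicative V ⋊[Helper71.toMulAutMul Q8 V] Q8, inferInstance, hfin, _, hH,
    ⟨(MonoidHom.ofInjective SemidirectProduct.inr_injective).symm⟩, ?_⟩
  rw [Helper96.card_frobeniusKernel hH]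
  have hcardH : Nat.card
      (SemidirectProduct.inr : Q8 →* Multiplicative V ⋊[Helper71.toMulAutMul Q8 V] Q8).range
      = 8 := by
    rw [← Nat.card_congr (MonoidHom.ofInjective
      (SemidirectProduct.inr_injective (φ := Helper71.toMulAutMul Q8 V))).toEquiv,
      q8_card]
  have hcardL : Nat.card (Multiplicative V ⋊[Helper71.toMulAutMul Q8 V] Q8) = n * n * 8 := by
    rw [Nat.card_congr SemidirectProduct.equivProd, Nat.card_prod, q8_card]
    have : Nat.card (Multiplicative V) = Nat.card V := rfl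
    rw [this, hcard]
  have h3 := Subgroup.index_mul_card
    (SemidirectProduct.inr : Q8 →* Multiplicative V ⋊[Helper71.toMulAutMul Q8 V] Q8).range
  rw [hcardH, hcardL] at h3
  omega

theorem forward (m : ℕ) (L : Type) [Group L] [Finite L] (H : Subgroup L)
    (hH : IsFrobeniusComplement H) (e : H ≃* Q8) (hm : Nat.card (frobeniusKernel H) = m) :
    Odd m ∧ IsSquare m ∧ 1 < m := by
  have hcardH : Nat.card H = 8 := by rw [Nat.card_congr e.toEquiv, q8_card]
  have hidx : H.index = m := by rw [← Helper96.card_frobeniusKernel hH, hm]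
  have hmod := Helper96.index_mod_card hH
  rw [hcardH, hidx] at hmod
  have hodd : Odd m := by rw [Nat.odd_iff]; omega
  have h1 : 1 < m := by
    have h0 : m ≠ 0 := hidx ▸ Subgroup.index_ne_zero_of_finite
    have h1 : m ≠ 1 := by
      rw [← hidx]; exact fun h => hH.2.1 (Subgroup.index_eq_one.1 h)
    omega
  refine ⟨hodd, ?_, h1⟩
  obtain ⟨N, hNset, hNnormal, hNcompl⟩ := Cfsg.Agent.S0035.result H hH
  have hcardN : Nat.card N = m := by
    rw [← hm]; exact Nat.card_congr (Equiv.setCongr hNset)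
  -- elements
  have hz1 : e.symm (a 2) ≠ 1 := by
    intro h
    have : (a 2 : Q8) = 1 := by
      have := congrArg e h
      simpa using this
    revert this; decide
  have hii : e.symm (a 1) * e.symm (a 1) = e.symm (a 2) := by
    rw [← map_mul]; congr 1
  have hjj : e.symm (xa 0) * e.symm (xa 0) = e.symm (a 2) := by
    rw [← map_mul]; congr 1
  have hij : e.symm (a 1) * e.symm (xa 0) = e.symm (a 2) * (e.symm (xa 0) * e.symm (a 1)) := by
    rw [← map_mul, ← map_mul, ← map_mul]; congr 1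
  have hzz : e.symm (a 2) * e.symm (a 2) = 1 := by
    rw [← map_mul]
    have : (a 2 : Q8) * a 2 = 1 := by decide
    rw [this, map_one]
  -- conjugation action
  let c : H →* MulAut N := (MulAut.conjNormal (H := N)).comp H.subtype
  have hc : ∀ (h : H) (x : N), ((c h x : N) : L) = (h : L) * x * (h : L)⁻¹ := by
    intro h x
    exact MulAut.conjNormal_apply _ _
  have hfpf : ∀ h : H, h ≠ 1 → ∀ x : N, c h x = x → x = 1 := by
    intro h hh x hx
    have hx' : (h : L) * x * (h : L)⁻¹ = x := by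
      rw [← hc, hx]
    have hxH : (x : L) ∈ H := by
      apply Helper96.frob_mem_of_conj_mem hH h.2 (fun e => hh (Subtype.ext e))
      have h' : (x : L)⁻¹ * h * x = h := by
        have h'' : (h : L) * x = x * h := by
          calc (h : L) * x = ((h : L) * x * (h : L)⁻¹) * h := by group
            _ = x * h := by rw [hx']
        rw [mul_assoc, h'', ← mul_assoc, inv_mul_cancel, one_mul]
      rw [h']; exact h.2
    have hmem : (x : L) ∈ N ⊓ H := ⟨x.2, hxH⟩
    rw [hNcompl.disjoint.eq_bot] at hmem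
    exact Subtype.ext (Subgroup.mem_bot.1 hmem)
  have hσfpf : MonoidHom.FixedPointFree (c (e.symm (a 2))).toMonoidHom :=
    fun x hx => hfpf _ hz1 x hx
  have hσinv : Function.Involutive (c (e.symm (a 2))).toMonoidHom := fun x => by
    show c (e.symm (a 2)) (c (e.symm (a 2)) x) = x
    rw [← MulAut.mul_apply, ← map_mul, hzz, map_one]; rfl
  have hσ : ∀ x, c (e.symm (a 2)) x = x⁻¹ :=
    fun x => congrFun (hσfpf.coe_eq_inv_of_involutive hσinv) x
  have hcomm : ∀ x y : N, x * y = y * x :=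
    fun x y => hσfpf.commute_all_of_involutive hσinv x y
  have hsq := Helper71.isSquare_card_of_anticommuting_mul (N := N) (hcardN ▸ hodd) hcomm
    (c (e.symm (a 1))).toMonoidHom (c (e.symm (xa 0))).toMonoidHom ?_ ?_ ?_
  · rwa [hcardN] at hsq
  · intro x
    show c (e.symm (a 1)) (c (e.symm (a 1)) x) = x⁻¹
    rw [← MulAut.mul_apply, ← map_mul, hii, hσ]
  · intro x
    show c (e.symm (xa 0)) (c (e.symm (xa 0)) x) = x⁻¹
    rw [← MulAut.mul_apply, ← map_mul, hjj, hσ]
  · intro x
    show c (e.symm (a 1)) (c (e.symm (xa 0)) x) = (c (e.symm (xa 0)) (c (e.symm (a 1)) x))⁻¹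
    rw [← MulAut.mul_apply, ← map_mul c, hij, map_mul c, MulAut.mul_apply, hσ, map_mul c,
      MulAut.mul_apply]

/-- For a natural number m the following are equivalent: (a) some finite group has a Frobenius complement isomorphic to the quaternion group of order 8 whose Frobenius kernel (the identity together with the elements lying in no conjugate of the complement) has exactly m elements; (b) m is an odd perfect square greater than 1. -/
theorem result (m : ℕ) :
    (∃ (L : Type) (_ : Group L) (_ : Finite L) (H : Subgroup L), Cfsg.IsFrobeniusComplement H ∧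
        Nonempty (H ≃* QuaternionGroup 2) ∧ Nat.card (Cfsg.frobeniusKernel H) = m) ↔
    (Odd m ∧ IsSquare m ∧ 1 < m) := by
  constructor
  · rintro ⟨L, hL1, hL2, H, hH, ⟨e⟩, hm⟩
    exact forward m L H hH e hm
  · rintro ⟨h1, h2, h3⟩
    exact backward m h1 h2 h3

end Cfsg.Agent.S4295
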