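import Cfsg.Statements.S4296
import Mathlib
import Cfsg.Agent.Lib.Helper71.FrobConj
import Cfsg.Agent.S0016

set_option autoImplicit false
open Cfsg

namespace Cfsg.Agent.S4296

open QuaternionGroup

/-- the copy of `Q₈` inside the generalized quaternion group of order `2^(k+3)` -/
theorem q8_in_generalized (k : ℕ) :
    ∃ I J Z : QuaternionGroup (2 ^ (k + 1)), Z ≠ 1 ∧ Z * Z = 1 ∧ I * I = Z ∧ J * J = Z ∧
      I * J = Z * (J * I) := by
  refine ⟨a ((2 ^ k : ℕ) : ZMod (2 * 2 ^ (k + 1))), xa 0,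
    a ((2 ^ (k + 1) : ℕ) : ZMod (2 * 2 ^ (k + 1))), ?_, ?_, ?_, ?_, ?_⟩
  · intro h
    rw [one_def] at h
    have h2 : ((2 ^ (k + 1) : ℕ) : ZMod (2 * 2 ^ (k + 1))) = 0 := a.inj h
    rw [ZMod.natCast_eq_zero_iff] at h2
    have hpos : 0 < 2 ^ (k + 1) := by positivity
    have := Nat.le_of_dvd hpos h2
    omega
  · rw [a_mul_a, one_def]
    congr 1
    have : ((2 * 2 ^ (k + 1) : ℕ) : ZMod (2 * 2 ^ (k + 1))) = 0 := ZMod.natCast_self _
    rw [← this]
    push_cast
    ring
  · rw [a_mul_a]
    congr 1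
    push_cast
    ring
  · rw [xa_mul_xa]
    congr 1
    push_cast
    ring
  · rw [a_mul_xa, xa_mul_a, a_mul_xa]
    congr 1
    push_cast
    ring

/-- Let H be a Frobenius complement in a finite group, and suppose some Sylow subgroup of H is not cyclic. Then the number of elements of the Frobenius kernel (the identity together with the elements lying in no conjugate of H) is an odd perfect square. -/
theorem result {L : Type*} [Group L] [Finite L] (H : Subgroup L) (hF : Cfsg.IsFrobeniusComplement H)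
    (hZ : ∃ (p : ℕ) (_ : Fact p.Prime) (P : Sylow p H), ¬ IsCyclic P) :
    Odd (Nat.card (Cfsg.frobeniusKernel H)) ∧ IsSquare (Nat.card (Cfsg.frobeniusKernel H)) := by
  obtain ⟨p, hp, P, hPc⟩ := hZ
  have huniq := Helper71.sylow_unique_subgroup_order_p H hF p P
  rcases Cfsg.Agent.S0016.result p P.2 huniq with hcyc | ⟨-, n, ⟨e⟩⟩
  · exact absurd hcyc hPc
  · have hn : n ≠ 0 := by
      rintro rfl
      apply hPc
      have h1 : IsCyclic (QuaternionGroup (2 ^ 0)) := by
        rw [pow_zero]; exact QuaternionGroup.quaternionGroup_one_isCyclic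
      exact isCyclic_of_surjective e.symm e.symm.surjective
    obtain ⟨k, rfl⟩ := Nat.exists_eq_succ_of_ne_zero hn
    obtain ⟨I, J, Z, hZ1, hZZ, hII, hJJ, hIJ⟩ := q8_in_generalized k
    refine Helper71.odd_isSquare_card_kernel_of_q8 H hF
      ((e.symm I : P) : H) ((e.symm J : P) : H) ((e.symm Z : P) : H) ?_ ?_ ?_ ?_ ?_
    · intro h
      have h1 : e.symm Z = 1 := Subtype.ext h
      have h2 : Z = 1 := by
        have := congrArg e h1
        simpa using this
      exact hZ1 h2
    · rw [← Subgroup.coe_mul, ← map_mul, hZZ, map_one]; rfl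
    · rw [← Subgroup.coe_mul, ← map_mul, hII]
    · rw [← Subgroup.coe_mul, ← map_mul, hJJ]
    · rw [← Subgroup.coe_mul, ← Subgroup.coe_mul, ← Subgroup.coe_mul, ← map_mul, ← map_mul,
        ← map_mul, hIJ]

end Cfsg.Agent.S4296
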