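import Cfsg.Statements.S4297
import Mathlib
import Cfsg.Agent.Lib.Helper71.Frobenius

set_option autoImplicit false
open Cfsg

namespace Cfsg.Agent.S4297

section action

variable {n : ℕ} {F : Type} [Field F]

/-- data: a "character" of `ZMod (2n)` with values in a field -/
structure Chi (n : ℕ) (F : Type) [Field F] where
  χ : ZMod (2 * n) → F
  add : ∀ i j, χ (i + j) = χ i * χ j
  zero : χ 0 = 1
  half : χ (n : ZMod (2 * n)) = -1
  inj : ∀ i, χ i = 1 → i = 0
  two : (2 : F) ≠ 0

variable (c : Chi n F)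

theorem Chi.neg_half : c.χ (-(n : ZMod (2 * n))) = -1 := by
  have h : (-(n : ZMod (2 * n))) = n := by
    have : ((2 * n : ℕ) : ZMod (2 * n)) = 0 := ZMod.natCast_self _
    push_cast at this
    rw [neg_eq_iff_add_eq_zero, ← two_mul]; exact this
  rw [h, c.half]

/-- the action of the dicyclic group on pairs -/
def act : QuaternionGroup n → F × F → F × F
  | QuaternionGroup.a i, w => (c.χ i * w.1, c.χ (-i) * w.2)
  | QuaternionGroup.xa i, w => (c.χ (-i) * w.2, -(c.χ i * w.1))

@[instance_reducible]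
def dma : DistribMulAction (QuaternionGroup n) (F × F) where
  smul := act c
  one_smul := by
    rintro ⟨u, v⟩
    show act c (QuaternionGroup.a 0) (u, v) = (u, v)
    simp [act, c.zero]
  mul_smul := by
    rintro (i | i) (j | j) ⟨u, v⟩
    · show act c (QuaternionGroup.a (i + j)) (u, v) = act c _ (act c _ (u, v))
      simp only [act, neg_add, c.add]
      ext <;> simp <;> ring
    · show act c (QuaternionGroup.xa (j - i)) (u, v) = act c _ (act c _ (u, v))
      simp only [act, sub_eq_add_neg, neg_add, neg_neg, c.add]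
      ext <;> simp <;> ring
    · show act c (QuaternionGroup.xa (i + j)) (u, v) = act c _ (act c _ (u, v))
      simp only [act, neg_add, c.add]
      ext <;> simp <;> ring
    · show act c (QuaternionGroup.a (n + j - i)) (u, v) = act c _ (act c _ (u, v))
      simp only [act, sub_eq_add_neg, neg_add, neg_neg, c.add, c.half, c.neg_half]
      ext <;> simp <;> ring
  smul_zero := by
    rintro (i | i) <;> show act c _ (0, 0) = (0, 0) <;> simp [act]
  smul_add := by
    rintro (i | i) ⟨u, v⟩ ⟨u', v'⟩ <;>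
      show act c _ (u + u', v + v') = act c _ (u, v) + act c _ (u', v') <;>
      simp only [act] <;> ext <;> simp <;> ring

theorem fpf (g : QuaternionGroup n) (hg : g ≠ 1) (w : F × F)
    (hw : act c g w = w) : w = 0 := by
  obtain ⟨u, v⟩ := w
  rcases g with i | i
  · have hi : i ≠ 0 := by
      rintro rfl
      exact hg rfl
    simp only [act, Prod.mk.injEq] at hw
    obtain ⟨h1, h2⟩ := hw
    have hu : u = 0 := by
      have : (c.χ i - 1) * u = 0 := by rw [sub_mul, h1]; ring
      rcases mul_eq_zero.1 this with h | h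
      · exact absurd (c.inj i (sub_eq_zero.1 h)) hi
      · exact h
    have hv : v = 0 := by
      have : (c.χ (-i) - 1) * v = 0 := by rw [sub_mul, h2]; ring
      rcases mul_eq_zero.1 this with h | h
      · exact absurd (neg_eq_zero.1 (c.inj (-i) (sub_eq_zero.1 h))) hi
      · exact h
    rw [hu, hv]; rfl
  · simp only [act, Prod.mk.injEq] at hw
    obtain ⟨h1, h2⟩ := hw
    have h3 : c.χ i * c.χ (-i) = 1 := by
      rw [← c.add, add_neg_cancel, c.zero]
    have hv : v = 0 := by
      have : (2 : F) * v = 0 := by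
        have : v = -v := by
          calc v = -(c.χ i * u) := h2.symm
            _ = -(c.χ i * (c.χ (-i) * v)) := by rw [h1]
            _ = -((c.χ i * c.χ (-i)) * v) := by ring
            _ = -v := by rw [h3, one_mul]
        linear_combination this
      rcases mul_eq_zero.1 this with h | h
      · exact absurd h c.two
      · exact h
    have hu : u = 0 := by rw [← h1, hv, mul_zero]
    rw [hu, hv]; rfl

end action

theorem exists_chi (n : ℕ) (hn : 2 ≤ n) :
    ∃ (p : ℕ) (_ : Fact p.Prime), Nonempty (Chi n (ZMod p)) := by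
  obtain ⟨p, hp, hnp, hmod⟩ := Nat.exists_prime_gt_modEq_one (k := 2 * n) (2 * n) (by omega)
  have hfact : Fact p.Prime := ⟨hp⟩
  refine ⟨p, hfact, ?_⟩
  have hdvd : 2 * n ∣ p - 1 := (Nat.modEq_iff_dvd' hp.one_lt.le).1 hmod.symm
  have hcardU : Nat.card (ZMod p)ˣ = p - 1 := by
    rw [Nat.card_eq_fintype_card, ZMod.card_units_eq_totient, Nat.totient_prime hp]
  obtain ⟨u, hu⟩ := IsCyclic.exists_ofOrder_eq_natCard (α := (ZMod p)ˣ)
  obtain ⟨m, hm⟩ := hdvd
  have hmpos : 0 < m := by
    rcases Nat.eq_zero_or_pos m with h | h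
    · rw [h, mul_zero] at hm
      have := hp.one_lt
      omega
    · exact h
  have hζ : orderOf (u ^ m) = 2 * n := by
    rw [orderOf_pow' u hmpos.ne', hu, hcardU, hm, Nat.gcd_eq_right (Dvd.intro_left (2 * n) rfl)]
    exact Nat.mul_div_cancel (2 * n) hmpos
  set ζ := u ^ m with hζdef
  have hne : NeZero (2 * n) := ⟨by omega⟩
  have h2n : ζ ^ (2 * n) = 1 := by rw [← hζ]; exact pow_orderOf_eq_one ζ
  have hpow : ∀ k : ℕ, ζ ^ k = ζ ^ (k % (2 * n)) := by
    intro k
    rw [← hζ]; exact (pow_mod_orderOf ζ k).symm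
  have htwo : (2 : ZMod p) ≠ 0 := by
    intro h
    have h' : ((2 : ℕ) : ZMod p) = 0 := by exact_mod_cast h
    rw [ZMod.natCast_eq_zero_iff] at h'
    have := Nat.le_of_dvd (by norm_num) h'
    omega
  refine ⟨{ χ := fun i => ((ζ ^ i.val : (ZMod p)ˣ) : ZMod p), add := ?_, zero := ?_, half := ?_,
            inj := ?_, two := htwo }⟩
  · intro i j
    rw [← Units.val_mul, ← pow_add, ZMod.val_add, ← hpow]
  · simp
  · have hval : ((n : ZMod (2 * n))).val = n := ZMod.val_natCast_of_lt (by omega)
    show ((ζ ^ ((n : ZMod (2 * n))).val : (ZMod p)ˣ) : ZMod p) = -1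
    rw [hval]
    have hsq : ((ζ ^ n : (ZMod p)ˣ) : ZMod p) * ((ζ ^ n : (ZMod p)ˣ) : ZMod p) = 1 := by
      rw [← Units.val_mul, ← pow_add, ← two_mul, h2n]; rfl
    rcases mul_self_eq_one_iff.1 hsq with h | h
    · exfalso
      have h1 : ζ ^ n = 1 := Units.ext (by simpa using h)
      have := orderOf_dvd_of_pow_eq_one h1
      rw [hζ] at this
      have := Nat.le_of_dvd (by omega) this
      omega
    · exact h
  · intro i hi
    have h1 : ζ ^ i.val = 1 := Units.ext (by simpa using hi)
    have h2 := orderOf_dvd_of_pow_eq_one h1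
    rw [hζ] at h2
    have h3 : i.val < 2 * n := ZMod.val_lt i
    have h4 : i.val = 0 := Nat.eq_zero_of_dvd_of_lt h2 h3
    exact (ZMod.val_eq_zero i).1 h4

theorem result (n : ℕ) (hn : 2 ≤ n) :
    ∃ (L : Type) (_ : Group L) (_ : Finite L) (H : Subgroup L), Cfsg.IsFrobeniusComplement H ∧ Nonempty (H ≃* QuaternionGroup n) := by
  obtain ⟨p, hp, ⟨c⟩⟩ := exists_chi n hn
  have hne : NeZero n := ⟨by omega⟩
  let _ := dma c
  have hfpf : ∀ g : QuaternionGroup n, g ≠ 1 → ∀ w : ZMod p × ZMod p, g • w = w → w = 0 :=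
    fun g hg w hw => fpf c g hg w hw
  obtain ⟨L, hL1, hL2, D, hD, ⟨e⟩⟩ :=
    Cfsg.Agent.Helper71.exists_frobenius_of_distribMulAction
      (V := ZMod p × ZMod p) (H := QuaternionGroup n) hfpf
  exact ⟨L, hL1, hL2, D, hD, ⟨e.symm⟩⟩

end Cfsg.Agent.S4297
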