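import Cfsg.Statements.S4298
import Mathlib
import Cfsg.Agent.Lib.Helper71.Frobenius

set_option autoImplicit false
open Cfsg Matrix

namespace Cfsg.Agent.S4298

abbrev G3 := Matrix.SpecialLinearGroup (Fin 2) (ZMod 3)
abbrev M5 := Matrix (Fin 2) (Fin 2) (ZMod 5)

def s5 : M5 := !![0, -1; 1, 0]
def t5 : M5 := !![1, 2; 1, 3]

def sgn (x : ZMod 3) : ZMod 5 := if x = 1 then 1 else -1

/-- an embedding of `SL(2,3)` into `SL(2,5)`, via the Bruhat normal form -/
def f (M : G3) : M5 :=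
  if M.1 1 0 = 0 then sgn (M.1 0 0) • t5 ^ ((M.1 0 0 * M.1 0 1).val)
  else sgn (M.1 1 0) • (t5 ^ ((M.1 0 0 * M.1 1 0).val) * s5 * t5 ^ ((M.1 1 1 * M.1 1 0).val))

set_option maxRecDepth 1000000 in
theorem f_one : f 1 = 1 := by decide

set_option maxRecDepth 1000000 in
theorem f_mul : ∀ A B : G3, f (A * B) = f A * f B := by decide

set_option maxRecDepth 1000000 in
theorem f_fpf : ∀ A : G3, A ≠ 1 → ∀ v : Fin 2 → ZMod 5, (f A).mulVec v = v → v = 0 := by decide

@[instance_reducible]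
def dma : DistribMulAction G3 (Fin 2 → ZMod 5) where
  smul g v := (f g).mulVec v
  one_smul v := by
    show (f 1).mulVec v = v
    rw [f_one, Matrix.one_mulVec]
  mul_smul g h v := by
    show (f (g * h)).mulVec v = (f g).mulVec ((f h).mulVec v)
    rw [f_mul, Matrix.mulVec_mulVec]
  smul_zero g := by
    show (f g).mulVec 0 = 0
    rw [Matrix.mulVec_zero]
  smul_add g v w := by
    show (f g).mulVec (v + w) = (f g).mulVec v + (f g).mulVec w
    rw [Matrix.mulVec_add]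

theorem result :
    ∃ (L : Type) (_ : Group L) (_ : Finite L) (H : Subgroup L), Cfsg.IsFrobeniusComplement H ∧ Nonempty (H ≃* Matrix.SpecialLinearGroup (Fin 2) (ZMod 3)) := by
  let _ := dma
  have hnt : Nontrivial G3 := by
    refine ⟨⟨1, -1, ?_⟩⟩
    decide
  have : Fact (Nat.Prime 5) := ⟨by norm_num⟩
  have hnt2 : Nontrivial (Fin 2 → ZMod 5) := inferInstance
  have hfpf : ∀ g : G3, g ≠ 1 → ∀ w : Fin 2 → ZMod 5, g • w = w → w = 0 :=
    fun g hg w hw => f_fpf g hg w hw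
  obtain ⟨L, hL1, hL2, D, hD, ⟨e⟩⟩ :=
    Cfsg.Agent.Helper71.exists_frobenius_of_distribMulAction
      (V := Fin 2 → ZMod 5) (H := G3) hfpf
  exact ⟨L, hL1, hL2, D, hD, ⟨e.symm⟩⟩

end Cfsg.Agent.S4298
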