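import Cfsg.Statements.S4299
import Mathlib
import Cfsg.Agent.Lib.Helper71.Frobenius

set_option autoImplicit false
open Cfsg

namespace Cfsg.Agent.S4299

theorem result {C : Type*} [Group C] [Finite C] [IsCyclic C] [Nontrivial C] :
    ∃ (L : Type) (_ : Group L) (_ : Finite L) (H : Subgroup L), Cfsg.IsFrobeniusComplement H ∧ Nonempty (C ≃* H) := by
  classical
  set n := Nat.card C with hn
  have hn2 : 1 < n := Finite.one_lt_card
  obtain ⟨p, hp, hnp, hmod⟩ := Nat.exists_prime_gt_modEq_one (k := n) n (by omega)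
  have : Fact p.Prime := ⟨hp⟩
  have hdvd : n ∣ p - 1 := (Nat.modEq_iff_dvd' hp.one_lt.le).1 hmod.symm
  have hcardU : Nat.card (ZMod p)ˣ = p - 1 := by
    rw [Nat.card_eq_fintype_card, ZMod.card_units_eq_totient, Nat.totient_prime hp]
  -- an element of order n
  obtain ⟨u, hu⟩ := IsCyclic.exists_ofOrder_eq_natCard (α := (ZMod p)ˣ)
  obtain ⟨m, hm⟩ := hdvd
  have hmpos : 0 < m := by
    rcases Nat.eq_zero_or_pos m with h | h
    · rw [h, mul_zero] at hm
      have := hp.one_lt
      omega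
    · exact h
  have hζ : orderOf (u ^ m) = n := by
    rw [orderOf_pow' u hmpos.ne', hu, hcardU, hm, Nat.gcd_eq_right (Dvd.intro_left n rfl)]
    exact Nat.mul_div_cancel n hmpos
  set ζ := u ^ m with hζdef
  let U : Subgroup (ZMod p)ˣ := Subgroup.zpowers ζ
  have hUcard : Nat.card U = n := by
    rw [Nat.card_zpowers, hζ]
  have : Nontrivial U := by
    rw [← Finite.one_lt_card_iff_nontrivial, hUcard]; exact hn2
  have hfpf : ∀ h : U, h ≠ 1 → ∀ v : ZMod p, h • v = v → v = 0 := by
    intro h hh v hv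
    have h1 : ((h : (ZMod p)ˣ) : ZMod p) * v = v := hv
    have h2 : (((h : (ZMod p)ˣ) : ZMod p) - 1) * v = 0 := by
      rw [sub_mul, one_mul, h1, sub_self]
    rcases mul_eq_zero.1 h2 with h3 | h3
    · exfalso
      apply hh
      apply Subtype.ext
      apply Units.ext
      rw [sub_eq_zero] at h3
      simpa using h3
    · exact h3
  obtain ⟨L, hL1, hL2, D, hD, ⟨e⟩⟩ :=
    Cfsg.Agent.Helper71.exists_frobenius_of_distribMulAction (V := ZMod p) (H := U) hfpf
  refine ⟨L, hL1, hL2, D, hD, ⟨?_⟩⟩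
  have e0 : C ≃* U := mulEquivOfCyclicCardEq (by rw [hUcard])
  exact e0.trans e

end Cfsg.Agent.S4299
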