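import Cfsg.Statements.S4300
import Mathlib

set_option autoImplicit false
open Cfsg

namespace Cfsg.Agent.S4300

theorem result {G : Type*} [Group G] {X : Type*} [MulAction G X] [FaithfulSMul G X]
    (hprim : MulAction.IsPreprimitive G X) (x : X) (hsimple : IsSimpleGroup (MulAction.stabilizer G x)) :
    IsSimpleGroup G ∨ ∃ N : Subgroup G, N.Normal ∧ N ≠ ⊥ ∧ N ≠ ⊤ ∧
      MulAction.IsPretransitive N X ∧ ∀ y : X, MulAction.stabilizer N y = ⊥ := by
  classical
  have hSnt : Nontrivial (MulAction.stabilizer G x) := hsimple.toNontrivial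
  have hGnt : Nontrivial G := by
    obtain ⟨a, b, hab⟩ := hSnt
    exact ⟨a.1, b.1, fun h => hab (Subtype.ext h)⟩
  by_cases hs : IsSimpleGroup G
  · exact Or.inl hs
  right
  -- obtain a proper nontrivial normal subgroup
  have : ∃ N : Subgroup G, N.Normal ∧ N ≠ ⊥ ∧ N ≠ ⊤ := by
    by_contra hcon
    push Not at hcon
    apply hs
    exact IsSimpleGroup.mk (fun N hN => by
      by_cases h : N = ⊥
      · exact Or.inl h
      · exact Or.inr (hcon N hN h))
  obtain ⟨N, hN, hNbot, hNtop⟩ := this
  have htrans : MulAction.IsPretransitive G X := hprim.toIsPretransitive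
  -- X nontrivial
  have hXnt : Nontrivial X := by
    by_contra hX
    rw [not_nontrivial_iff_subsingleton] at hX
    obtain ⟨a, b, hab⟩ := hGnt
    apply hab
    apply FaithfulSMul.eq_of_smul_eq_smul (α := X)
    intro y
    exact Subsingleton.elim _ _
  -- N is pretransitive
  have hNtr : MulAction.IsPretransitive N X := by
    apply MulAction.IsQuasiPreprimitive.isPretransitive_of_normal (G := G)
    intro huniv
    apply hNbot
    rw [Subgroup.eq_bot_iff_forall]
    intro n hn
    apply FaithfulSMul.eq_of_smul_eq_smul (α := X)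
    intro y
    have : y ∈ MulAction.fixedPoints N X := by rw [huniv]; trivial
    have h2 := this ⟨n, hn⟩
    rw [one_smul]
    exact h2
  refine ⟨N, hN, hNbot, hNtop, hNtr, ?_⟩
  -- N ⊓ S = ⊥
  set S := MulAction.stabilizer G x with hS
  have hnorm : (N.subgroupOf S).Normal := inferInstance
  have hinf : N ⊓ S = ⊥ := by
    rcases hnorm.eq_bot_or_eq_top with h | h
    · rw [Subgroup.subgroupOf_eq_bot] at h
      exact h.eq_bot
    · exfalso
      rw [Subgroup.subgroupOf_eq_top] at h
      -- S ≤ N, S coatom
      have hco : IsCoatom S := MulAction.IsPreprimitive.isCoatom_stabilizer_of_isPreprimitive (G := G) (X := X) x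
      have hSN : S = N := by
        by_contra hne
        exact hNtop (hco.2 N (lt_of_le_of_ne h hne))
      -- S is normal hence acts trivially
      have hSnormal : S.Normal := hSN ▸ hN
      obtain ⟨a, b, hab⟩ := hSnt
      apply hab
      have key : ∀ s : S, s = 1 := by
        intro s
        apply Subtype.ext
        apply FaithfulSMul.eq_of_smul_eq_smul (α := X)
        intro y
        obtain ⟨g, rfl⟩ := MulAction.exists_smul_eq G x y
        have h1 : g⁻¹ * s.1 * g ∈ S := by
          have := hSnormal.conj_mem s.1 s.2 g⁻¹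
          simpa using this
        have h2 : (g⁻¹ * s.1 * g) • x = x := h1
        rw [Subgroup.coe_one, one_smul]
        calc s.1 • g • x = g • (g⁻¹ * s.1 * g) • x := by
              simp only [← mul_smul]; congr 1; group
          _ = g • x := by rw [h2]
      rw [key a, key b]
  intro y
  rw [Subgroup.eq_bot_iff_forall]
  rintro ⟨n, hn⟩ hny
  apply Subtype.ext
  show n = 1
  obtain ⟨g, rfl⟩ := MulAction.exists_smul_eq G x y
  have h1 : g⁻¹ * n * g ∈ N := by
    have := hN.conj_mem n hn g⁻¹
    simpa using this
  have hny' : n • g • x = g • x := hny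
  have h2 : g⁻¹ * n * g ∈ S := by
    show (g⁻¹ * n * g) • x = x
    rw [mul_smul, mul_smul, hny', ← mul_smul, inv_mul_cancel, one_smul]
  have h3 : g⁻¹ * n * g ∈ N ⊓ S := ⟨h1, h2⟩
  rw [hinf, Subgroup.mem_bot] at h3
  have : n = g * (g⁻¹ * n * g) * g⁻¹ := by group
  rw [this, h3]; group

end Cfsg.Agent.S4300
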