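import Cfsg.Statements.S4301
import Mathlib

set_option autoImplicit false
open Cfsg

namespace Cfsg.Agent.S4301

open Subgroup

variable {X : Type*}

/-- a `k`-tuple of distinct points starting with two prescribed distinct points -/
theorem exists_tuple (k : ℕ) (hk : 2 ≤ k) (c : Fin k ↪ X) (p q : X) (hpq : p ≠ q) :
    ∃ a : Fin k ↪ X, a ⟨0, by omega⟩ = p ∧ a ⟨1, by omega⟩ = q := by
  classical
  set i0 : Fin k := ⟨0, by omega⟩
  set i1 : Fin k := ⟨1, by omega⟩
  have h01 : c i0 ≠ c i1 := by
    intro h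
    have := c.injective h
    simp [i0, i1, Fin.ext_iff] at this
  set σ₁ : Equiv.Perm X := Equiv.swap (c i0) p
  set w := σ₁ (c i1) with hw
  have hwp : w ≠ p := by
    intro h
    have : σ₁ (c i1) = σ₁ (c i0) := by rw [← hw, h]; simp [σ₁]
    exact h01 (σ₁.injective this).symm
  set σ₂ : Equiv.Perm X := Equiv.swap w q
  refine ⟨c.trans (σ₁.trans σ₂).toEmbedding, ?_, ?_⟩
  · show σ₂ (σ₁ (c i0)) = p
    have : σ₁ (c i0) = p := by simp [σ₁]
    rw [this]
    exact Equiv.swap_apply_of_ne_of_ne hwp.symm hpq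
  · show σ₂ (σ₁ (c i1)) = q
    rw [← hw]
    simp [σ₂]

section main

variable (G : Subgroup (Equiv.Perm (Option X))) (hfix : ∀ f ∈ G, f none = none)
  (k : ℕ) (hk : 2 ≤ k) (hkX : Nonempty (Fin k ↪ X))
  (htrans : ∀ a b : Fin k ↪ X, ∃ f ∈ G, ∀ i, f (some (a i)) = some (b i))

include hk hkX htrans in
theorem two_trans (p q p' q' : X) (hpq : p ≠ q) (hpq' : p' ≠ q') :
    ∃ f ∈ G, f (some p) = some p' ∧ f (some q) = some q' := by
  obtain ⟨c⟩ := hkX
  obtain ⟨a, ha0, ha1⟩ := exists_tuple k hk c p q hpq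
  obtain ⟨b, hb0, hb1⟩ := exists_tuple k hk c p' q' hpq'
  obtain ⟨f, hf, hfa⟩ := htrans a b
  refine ⟨f, hf, ?_, ?_⟩
  · rw [← ha0, hfa, hb0]
  · rw [← ha1, hfa, hb1]

variable (h g : Equiv.Perm (Option X)) (hg : g ∈ G) (x y : X)
  (h1 : h none = some x) (h2 : h (some x) = none) (h3 : h (some y) = some y)
  (h4 : g (some x) = some y) (h5 : g (some y) = some x)
  (h6 : (g * h) ^ 3 ∈ G) (h7 : h ^ 2 ∈ G)
  (h8 : ∀ f ∈ G, f (some x) = some x → h * f * h ∈ G ∧ (h * f * h) (some x) = some x)

/-- membership in `G ∪ G h G` -/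
def S (f : Equiv.Perm (Option X)) : Prop := f ∈ G ∨ ∃ a ∈ G, ∃ b ∈ G, f = a * h * b

include hfix hk hkX htrans hg h2 h3 h4 h6 h7 h8 in
theorem hGh (f : Equiv.Perm (Option X)) (hf : f ∈ G) : S G h (h * f * h) := by
  have hxy : x ≠ y := by
    intro hxy
    rw [← hxy, h2] at h3
    exact absurd h3.symm (Option.some_ne_none x)
  by_cases hfx : f (some x) = some x
  · exact Or.inl (h8 f hf hfx).1
  · -- f (some x) = some z, z ≠ x
    obtain ⟨z, hz⟩ : ∃ z, f (some x) = some z := by
      cases hfz : f (some x) with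
      | none =>
        exfalso
        have : f (some x) = f none := by rw [hfz, hfix f hf]
        exact absurd (f.injective this) (Option.some_ne_none x)
      | some z => exact ⟨z, rfl⟩
    have hzx : z ≠ x := by
      intro h'
      rw [h'] at hz
      exact hfx hz
    obtain ⟨u, hu, hux, huy⟩ := two_trans G k hk hkX htrans x y x z hxy hzx.symm
    set v := g⁻¹ * u⁻¹ * f with hv
    have hvG : v ∈ G := G.mul_mem (G.mul_mem (G.inv_mem hg) (G.inv_mem hu)) hf
    have hvx : v (some x) = some x := by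
      rw [hv, Equiv.Perm.mul_apply, Equiv.Perm.mul_apply, hz]
      have e1 : u⁻¹ (some z) = some y := by
        rw [← huy]; exact u.symm_apply_apply _
      have e2 : g⁻¹ (some y) = some x := by
        rw [← h4]; exact g.symm_apply_apply _
      rw [e1, e2]
    have hA := (h8 u hu hux).1
    have hB := (h8 v hvG hvx).1
    have hf' : f = u * g * v := by rw [hv]; group
    have e3 : (g * h) ^ 3 = g * h * (g * h) * (g * h) := by rw [pow_succ, pow_two]
    have key : h * f * h = (h * u * h) * ((h ^ 2)⁻¹ * g⁻¹ * (g * h) ^ 3 * (h ^ 2)⁻¹) * h *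
        (g⁻¹ * (h ^ 2)⁻¹ * (h * v * h)) := by
      rw [hf', e3, pow_two]; group
    right
    refine ⟨(h * u * h) * ((h ^ 2)⁻¹ * g⁻¹ * (g * h) ^ 3 * (h ^ 2)⁻¹), ?_,
      g⁻¹ * (h ^ 2)⁻¹ * (h * v * h), ?_, key⟩
    · exact G.mul_mem hA (G.mul_mem (G.mul_mem (G.mul_mem (G.inv_mem h7) (G.inv_mem hg)) h6)
        (G.inv_mem h7))
    · exact G.mul_mem (G.mul_mem (G.inv_mem hg) (G.inv_mem h7)) hB

include hfix hk hkX htrans hg h2 h3 h4 h6 h7 h8 in
theorem S_mul (f₁ f₂ : Equiv.Perm (Option X)) (hf₁ : S G h f₁) (hf₂ : S G h f₂) :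
    S G h (f₁ * f₂) := by
  rcases hf₁ with hf₁ | ⟨a, ha, b, hb, rfl⟩
  · rcases hf₂ with hf₂ | ⟨c, hc, d, hd, rfl⟩
    · exact Or.inl (G.mul_mem hf₁ hf₂)
    · exact Or.inr ⟨f₁ * c, G.mul_mem hf₁ hc, d, hd, by group⟩
  · rcases hf₂ with hf₂ | ⟨c, hc, d, hd, rfl⟩
    · exact Or.inr ⟨a, ha, b * f₂, G.mul_mem hb hf₂, by group⟩
    · have hbc : b * c ∈ G := G.mul_mem hb hc
      rcases hGh G hfix k hk hkX htrans h g hg x y h2 h3 h4 h6 h7 h8 (b * c) hbc with
        hm | ⟨a', ha', b', hb', hm⟩
      · left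
        have : a * h * b * (c * h * d) = a * (h * (b * c) * h) * d := by group
        rw [this]
        exact G.mul_mem (G.mul_mem ha hm) hd
      · right
        refine ⟨a * a', G.mul_mem ha ha', b' * d, G.mul_mem hb' hd, ?_⟩
        have : a * h * b * (c * h * d) = a * (h * (b * c) * h) * d := by group
        rw [this, hm]; group

include h7 in
theorem S_inv (f : Equiv.Perm (Option X)) (hf : S G h f) : S G h f⁻¹ := by
  rcases hf with hf | ⟨a, ha, b, hb, rfl⟩
  · exact Or.inl (G.inv_mem hf)
  · right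
    refine ⟨b⁻¹, G.inv_mem hb, (h ^ 2)⁻¹ * a⁻¹, G.mul_mem (G.inv_mem h7) (G.inv_mem ha), ?_⟩
    group

include hfix hk hkX htrans hg h2 h3 h4 h6 h7 h8 in
theorem closure_sub (f : Equiv.Perm (Option X))
    (hf : f ∈ closure ((G : Set (Equiv.Perm (Option X))) ∪ {h})) : S G h f := by
  induction hf using closure_induction with
  | mem f hf =>
    rcases hf with hf | hf
    · exact Or.inl hf
    · rw [Set.mem_singleton_iff] at hf
      exact Or.inr ⟨1, G.one_mem, 1, G.one_mem, by rw [hf]; group⟩
  | one => exact Or.inl G.one_mem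
  | mul f₁ f₂ _ _ ih₁ ih₂ =>
    exact S_mul G hfix k hk hkX htrans h g hg x y h2 h3 h4 h6 h7 h8 f₁ f₂ ih₁ ih₂
  | inv f _ ih => exact S_inv G h h7 f ih

end main

/-- One-point extension of a multiply transitive group. Let X be a set and G a group of permutations of Option X (the set X with one extra point ∗ = none) all of whose elements fix ∗, such that G is k-transitive on the points of X for some k ≥ 2, X having at least k points. Suppose a permutation h of Option X and an element g of G satisfy: h interchanges ∗ with a point x of X and fixes a point y of X; g interchanges x and y; (g h)³ and h² lie in G; and for every f in G fixing x, the product h f h lies in G and fixes x. Then an element of the group generated by G and h fixes ∗ exactly when it lies in G, and that group acts (k+1)-transitively on Option X. -/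
theorem result {X : Type*} (G : Subgroup (Equiv.Perm (Option X))) (hfix : ∀ f ∈ G, f none = none)
    (k : ℕ) (hk : 2 ≤ k) (hkX : Nonempty (Fin k ↪ X))
    (htrans : ∀ a b : Fin k ↪ X, ∃ f ∈ G, ∀ i, f (some (a i)) = some (b i))
    (h g : Equiv.Perm (Option X)) (hg : g ∈ G) (x y : X)
    (h1 : h none = some x) (h2 : h (some x) = none) (h3 : h (some y) = some y)
    (h4 : g (some x) = some y) (h5 : g (some y) = some x)
    (h6 : (g * h) ^ 3 ∈ G) (h7 : h ^ 2 ∈ G)
    (h8 : ∀ f ∈ G, f (some x) = some x → h * f * h ∈ G ∧ (h * f * h) (some x) = some x) :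
    (∀ f ∈ Subgroup.closure ((G : Set (Equiv.Perm (Option X))) ∪ {h}), f none = none ↔ f ∈ G) ∧
      MulAction.IsMultiplyPretransitive (Subgroup.closure ((G : Set (Equiv.Perm (Option X))) ∪ {h})) (Option X) (k + 1) := by
  set E := Subgroup.closure ((G : Set (Equiv.Perm (Option X))) ∪ {h}) with hE
  have hGE : G ≤ E := by
    intro f hf
    exact subset_closure (Or.inl hf)
  have hhE : h ∈ E := subset_closure (Or.inr rfl)
  have part1 : ∀ f ∈ E, f none = none ↔ f ∈ G := by
    intro f hf
    constructor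
    · intro hfn
      rcases closure_sub G hfix k hk hkX htrans h g hg x y h2 h3 h4 h6 h7 h8 f hf with
        hfG | ⟨a, ha, b, hb, rfl⟩
      · exact hfG
      · exfalso
        rw [Equiv.Perm.mul_apply, Equiv.Perm.mul_apply, hfix b hb, h1] at hfn
        have : a (some x) = a none := by rw [hfn, hfix a ha]
        exact absurd (a.injective this) (Option.some_ne_none x)
    · exact hfix f
  refine ⟨part1, ?_⟩
  -- transitivity on `Option X`
  have hxy : x ≠ y := by
    intro hxy
    rw [← hxy, h2] at h3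
    exact absurd h3.symm (Option.some_ne_none x)
  have hnone : ∀ u : Option X, ∃ e : E, e • (none : Option X) = u := by
    intro u
    cases u with
    | none => exact ⟨1, one_smul _ _⟩
    | some z =>
      by_cases hzx : z = x
      · exact ⟨⟨h, hhE⟩, by rw [hzx]; exact h1⟩
      · obtain ⟨f, hf, hfx, -⟩ := two_trans G k hk hkX htrans x y z x hxy hzx
        refine ⟨⟨f * h, E.mul_mem (hGE hf) hhE⟩, ?_⟩
        show (f * h) none = some z
        rw [Equiv.Perm.mul_apply, h1, hfx]
  have _hpre : MulAction.IsPretransitive E (Option X) := by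
    refine ⟨fun u v => ?_⟩
    obtain ⟨e₁, he₁⟩ := hnone u
    obtain ⟨e₂, he₂⟩ := hnone v
    exact ⟨e₂ * e₁⁻¹, by rw [mul_smul, ← he₁, inv_smul_smul, he₂]⟩
  rw [SubMulAction.ofStabilizer.isMultiplyPretransitive (a := (none : Option X))]
  refine ⟨fun a b => ?_⟩
  -- extract tuples in X
  have hsome : ∀ (c : Fin k ↪ SubMulAction.ofStabilizer E (none : Option X)) (i : Fin k),
      ∃ z : X, ((c i : SubMulAction.ofStabilizer E (none : Option X)) : Option X) = some z := by
    intro c i
    have := (c i).prop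
    rw [SubMulAction.mem_ofStabilizer_iff] at this
    exact Option.ne_none_iff_exists'.1 this
  choose a' ha' using hsome a
  choose b' hb' using hsome b
  have ha'inj : Function.Injective a' := by
    intro i j hij
    apply a.injective
    apply Subtype.ext
    rw [ha', ha', hij]
  have hb'inj : Function.Injective b' := by
    intro i j hij
    apply b.injective
    apply Subtype.ext
    rw [hb', hb', hij]
  obtain ⟨f, hf, hfab⟩ := htrans ⟨a', ha'inj⟩ ⟨b', hb'inj⟩
  have hfstab : (⟨f, hGE hf⟩ : E) ∈ MulAction.stabilizer E (none : Option X) := by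
    rw [MulAction.mem_stabilizer_iff]
    exact hfix f hf
  refine ⟨⟨⟨f, hGE hf⟩, hfstab⟩, ?_⟩
  apply DFunLike.ext
  intro i
  apply Subtype.ext
  show f ((a i : SubMulAction.ofStabilizer E (none : Option X)) : Option X) = _
  rw [ha', hb']
  exact hfab i

end Cfsg.Agent.S4301
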