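import Cfsg.Statements.S4302
import Mathlib
import Cfsg.Agent.Lib.Helper1.FHD

set_option autoImplicit false
open Cfsg

namespace Cfsg.Agent.S4302

/-- Let `X` be a finite solvable group whose Fitting subgroup is a 2-group (equivalently `F(X) = O₂(X)`), `T` a Sylow 2-subgroup of `X`, `J(T)` the subgroup generated by the abelian subgroups of `T` of largest order, `C` the largest normal subgroup of `X` centralizing the centre `Z(T)`, and `Y` the normal closure of `J(T)` in `X`. Then `X = C · Y · N_X(J(T))`, and either `Y ≤ C`, or `CY/C` is isomorphic to a direct product of at least one copy of the symmetric group of degree 3. -/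
theorem result {X : Type*} [Group X] [Finite X]
    [Group.IsSolvable X] (hF : Cfsg.fittingSubgroup X = Cfsg.pCore 2 X) (T : Sylow 2 X) :
    ((Subgroup.centralizer (((T : Subgroup X) ⊓ Subgroup.centralizer ((T : Subgroup X) : Set X) : Subgroup X) : Set X)).normalCore
        ⊔ Subgroup.normalClosure (Cfsg.thompsonSubgroupAOf (T : Subgroup X) : Set X)
        ⊔ Subgroup.normalizer (Cfsg.thompsonSubgroupAOf (T : Subgroup X) : Set X) = ⊤) ∧
    (Subgroup.normalClosure (Cfsg.thompsonSubgroupAOf (T : Subgroup X) : Set X)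
        ≤ (Subgroup.centralizer (((T : Subgroup X) ⊓ Subgroup.centralizer ((T : Subgroup X) : Set X) : Subgroup X) : Set X)).normalCore
      ∨ ∃ n : ℕ, 1 ≤ n ∧
        Nonempty (↥(Subgroup.normalClosure (Cfsg.thompsonSubgroupAOf (T : Subgroup X) : Set X)) ⧸
            ((Subgroup.centralizer (((T : Subgroup X) ⊓ Subgroup.centralizer ((T : Subgroup X) : Set X) : Subgroup X) : Set X)).normalCore).subgroupOf
              (Subgroup.normalClosure (Cfsg.thompsonSubgroupAOf (T : Subgroup X) : Set X))
          ≃* (Fin n → Equiv.Perm (Fin 3)))) := by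
  have hC : (Subgroup.centralizer (((T : Subgroup X) ⊓ Subgroup.centralizer ((T : Subgroup X) : Set X) : Subgroup X) : Set X)).normalCore
      = Subgroup.centralizer (Cfsg.Agent.Helper1.FH.V1 (T : Subgroup X) : Set X) := by
    rw [Cfsg.Agent.Helper1.FH.normalCore_centralizer,
      Cfsg.Agent.Helper1.FH.centralizer_V1_eq hF T]
    rfl
  have hY : Subgroup.normalClosure (Cfsg.thompsonSubgroupAOf (T : Subgroup X) : Set X) =
      Cfsg.Agent.Helper1.FH.YT (T : Subgroup X) := rfl
  rw [hY]
  refine ⟨?_, ?_⟩
  · rw [eq_top_iff, ← Cfsg.Agent.Helper1.FH.YT_sup_normalizer T]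
    exact sup_le_sup_right le_sup_right _
  · rcases Cfsg.Agent.Helper1.FH.YT_quot hF T with h | ⟨n, hn, ⟨e⟩⟩
    · left
      rw [hC]
      exact h
    · right
      refine ⟨n, hn, ⟨?_⟩⟩
      refine (QuotientGroup.quotientMulEquivOfEq ?_).trans e
      rw [hC]

end Cfsg.Agent.S4302
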