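import Cfsg.Statements.S4303
import Mathlib
import Cfsg.Agent.Lib.Helper71.SylowNumber

set_option autoImplicit false
universe u
open Cfsg

namespace Cfsg.Agent.S4303

open Subgroup Cfsg.Agent.Helper71 Cfsg.Agent.Helper52

/-- the numbers allowed as products in M. Hall's theorem -/
def Good (p : ℕ) (m : ℕ) : Prop :=
  ∃ l : List ℕ, l.prod = m ∧
    ∀ x ∈ l, (IsPrimePow x ∧ x % p = 1) ∨
      ∃ (S : Type u) (_ : Group S) (_ : Finite S), IsSimpleGroup S ∧ x = Nat.card (Sylow p S)

theorem Good.one (p : ℕ) : Good.{u} p 1 := ⟨[], rfl, by simp⟩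

theorem Good.mul {p a b : ℕ} (ha : Good.{u} p a) (hb : Good.{u} p b) : Good.{u} p (a * b) := by
  obtain ⟨l₁, h₁, g₁⟩ := ha
  obtain ⟨l₂, h₂, g₂⟩ := hb
  refine ⟨l₁ ++ l₂, by rw [List.prod_append, h₁, h₂], ?_⟩
  intro x hx
  rcases List.mem_append.1 hx with h | h
  · exact g₁ x h
  · exact g₂ x h

theorem Good.simple (p : ℕ) (S : Type u) [Group S] [Finite S] (hS : IsSimpleGroup S) :
    Good.{u} p (Nat.card (Sylow p S)) := by
  refine ⟨[Nat.card (Sylow p S)], by simp, ?_⟩
  intro x hx
  rw [List.mem_singleton] at hx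
  right
  exact ⟨S, inferInstance, inferInstance, hS, hx⟩

theorem Good.of_parts (p m : ℕ) (hm : m ≠ 0)
    (h : ∀ r : ℕ, r.Prime → (r ^ m.factorization r) % p = 1) : Good.{u} p m := by
  refine ⟨m.primeFactors.toList.map (fun r => r ^ m.factorization r), ?_, ?_⟩
  · rw [Finset.prod_map_toList, ← Nat.prod_factorization_eq_prod_primeFactors]
    exact Nat.prod_factorization_pow_eq_self hm
  · intro x hx
    rw [List.mem_map] at hx
    obtain ⟨r, hr, rfl⟩ := hx
    rw [Finset.mem_toList] at hr
    have hrp : r.Prime := Nat.prime_of_mem_primeFactors hr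
    have hrd : r ∣ m := Nat.dvd_of_mem_primeFactors hr
    left
    refine ⟨⟨r, m.factorization r, hrp.prime, hrp.factorization_pos_of_dvd hm hrd, rfl⟩, h r hrp⟩

theorem main (p : ℕ) [hp : Fact p.Prime] : ∀ (n : ℕ) (G : Type u) [Group G] [Finite G],
    Nat.card G = n → Good.{u} p (Nat.card (Sylow p G)) := by
  intro n
  induction' n using Nat.strong_induction_on with n ih
  intro G _ _ hn
  by_cases hs : IsSimpleGroup G
  · exact Good.simple p G hs
  obtain ⟨P⟩ : Nonempty (Sylow p G) := inferInstance
  by_cases ht : Subsingleton G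
  · have h1 : Nat.card (Sylow p G) = 1 := by
      have h2 : Nat.card (Sylow p G) ∣ Nat.card G := by
        rw [card_sylow_eq_index p P]
        exact Subgroup.index_dvd_card _
      rw [Nat.card_of_subsingleton (1 : G)] at h2
      exact Nat.dvd_one.1 h2
    rw [h1]; exact Good.one p
  have hnt : Nontrivial G := not_subsingleton_iff_nontrivial.1 ht
  obtain ⟨N, hNn, hNbot, hNtop⟩ : ∃ N : Subgroup G, N.Normal ∧ N ≠ ⊥ ∧ N ≠ ⊤ := by
    by_contra hcon
    push Not at hcon
    apply hs
    refine ⟨fun N hN => ?_⟩
    by_cases hb : N = ⊥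
    · exact Or.inl hb
    · exact Or.inr (hcon N hN hb)
  have hNlt : Nat.card N < Nat.card G := by
    have h1 : Nat.card N ≤ Nat.card G := Subgroup.card_le_card_group N
    have h2 : Nat.card N ≠ Nat.card G := fun h => hNtop (Subgroup.eq_top_of_card_eq N h)
    omega
  have hN1 : 1 < Nat.card N := (Subgroup.one_lt_card_iff_ne_bot N).2 hNbot
  by_cases hpN : p ∣ Nat.card N
  · -- case A
    set R : Subgroup G := (P : Subgroup G) ⊓ N with hR
    have hRcard : Nat.card R = sylCard p N := card_sylow_inf_normal p P N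
    have hR1 : 1 < Nat.card R := by
      rw [hRcard]
      unfold sylCard
      have : 0 < (Nat.card N).factorization p :=
        hp.out.factorization_pos_of_dvd Nat.card_pos.ne' hpN
      exact Nat.one_lt_pow this.ne' hp.out.one_lt
    set X : Subgroup G := normalizer (R : Set G) with hX
    have h1 := card_sylow_eq_normal_mul p P N
    have hRp : IsPGroup p (R.subgroupOf X) :=
      (P.2.to_le (inf_le_left : R ≤ P)).comap_of_injective X.subtype X.subtype_injective
    have h2 := card_sylow_quotient_of_isPGroup (G := X) p (R.subgroupOf X) hRp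
    rw [h1, h2]
    apply Good.mul
    · exact ih (Nat.card N) (hn ▸ hNlt) N rfl
    · apply ih (Nat.card (X ⧸ R.subgroupOf X)) ?_ _ rfl
      have h3 := Subgroup.card_eq_card_quotient_mul_card_subgroup (R.subgroupOf X)
      have h4 : Nat.card (R.subgroupOf X) = Nat.card R :=
        Nat.card_congr (subgroupOfEquivOfLe (le_normalizer : R ≤ X)).toEquiv
      have h5 : Nat.card X ≤ Nat.card G := Subgroup.card_le_card_group X
      have h6 : 0 < Nat.card (X ⧸ R.subgroupOf X) := Nat.card_pos
      rw [h4] at h3
      rw [← hn]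
      nlinarith
  · -- case B
    by_cases hK : (P : Subgroup G) ⊔ N = ⊤
    · apply Good.of_parts
      · exact Nat.card_pos.ne'
      · intro r hr
        exact card_sylow_primePow_part_of_coprime p P N hpN hK r hr
    · have h1 := card_sylow_eq_quotient_mul p P N
      rw [h1]
      apply Good.mul
      · apply ih (Nat.card (G ⧸ N)) ?_ _ rfl
        have h3 := Subgroup.card_eq_card_quotient_mul_card_subgroup N
        have h6 : 0 < Nat.card (G ⧸ N) := Nat.card_pos
        rw [← hn]
        nlinarith
      · apply ih (Nat.card ((P : Subgroup G) ⊔ N : Subgroup G)) ?_ _ rfl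
        have h1 : Nat.card ((P : Subgroup G) ⊔ N : Subgroup G) ≤ Nat.card G :=
          Subgroup.card_le_card_group _
        have h2 : Nat.card ((P : Subgroup G) ⊔ N : Subgroup G) ≠ Nat.card G :=
          fun h => hK (Subgroup.eq_top_of_card_eq _ h)
        omega

/-- For a finite group `G` and a prime `p`, the number of Sylow `p`-subgroups of `G` is a product of natural numbers each of which is either a prime power congruent to 1 modulo `p` or the number of Sylow `p`-subgroups of some finite simple group. -/
theorem result {G : Type u} [Group G] [Finite G]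
    (p : ℕ) [Fact p.Prime] :
    ∃ l : List ℕ, l.prod = Nat.card (Sylow p G) ∧
      ∀ m ∈ l, (IsPrimePow m ∧ m % p = 1) ∨
        ∃ (S : Type u) (_ : Group S) (_ : Finite S), IsSimpleGroup S ∧ m = Nat.card (Sylow p S) :=
  main p (Nat.card G) G rfl

end Cfsg.Agent.S4303
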