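import Cfsg.Statements.S4304
import Mathlib

set_option autoImplicit false
open Cfsg

namespace Cfsg.Agent.S4304

section

open MulAction Subgroup

theorem card_sylow_subgroup {G : Type*} [Group G] [Finite G] (p : ℕ) [Fact p.Prime] (L : Subgroup G)
    (hL : ∀ P : Sylow p G, (P : Subgroup G) ≤ L) :
    Nat.card (Sylow p L) = Nat.card (Sylow p G) := by
  apply Nat.card_congr
  symm
  refine Equiv.ofBijective (fun P => P.subtype (hL P)) ⟨?_, ?_⟩
  · intro P Q h; exact Sylow.subtype_injective h
  · intro Q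
    obtain ⟨P, hP⟩ := (Q.2.map L.subtype).exists_le_sylow
    refine ⟨P, ?_⟩
    apply Sylow.ext
    apply Q.3 (P.subtype (hL P)).2
    intro x hx
    rw [Sylow.coe_subtype, Subgroup.mem_subgroupOf]
    exact hP (Subgroup.mem_map_of_mem _ hx)

theorem card_sylow_quotient {G : Type*} [Group G] [Finite G] (p : ℕ) [Fact p.Prime] (K : Subgroup G)
    [K.Normal] (hK : ∀ P : Sylow p G, K ≤ Subgroup.normalizer (P : Set G)) :
    Nat.card (Sylow p (G ⧸ K)) = Nat.card (Sylow p G) := by
  symm
  apply Nat.card_congr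
  refine Equiv.ofBijective (fun P => P.mapSurjective (QuotientGroup.mk'_surjective K))
    ⟨?_, Sylow.mapSurjective_surjective _ p⟩
  intro P₁ P₂ h
  have h' : (P₁ : Subgroup G).map (QuotientGroup.mk' K) = (P₂ : Subgroup G).map (QuotientGroup.mk' K) := by
    have := congrArg (fun Q : Sylow p (G ⧸ K) => (Q : Subgroup (G ⧸ K))) h
    simpa using this
  have h2 : (P₁ : Subgroup G) ⊔ K = (P₂ : Subgroup G) ⊔ K := by
    have := congrArg (Subgroup.comap (QuotientGroup.mk' K)) h'
    rwa [Subgroup.comap_map_eq, Subgroup.comap_map_eq, QuotientGroup.ker_mk'] at this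
  have h3 : (P₂ : Subgroup G) ≤ Subgroup.normalizer (P₁ : Set G) := by
    calc (P₂ : Subgroup G) ≤ (P₂ : Subgroup G) ⊔ K := le_sup_left
      _ = (P₁ : Subgroup G) ⊔ K := h2.symm
      _ ≤ Subgroup.normalizer (P₁ : Set G) := sup_le Subgroup.le_normalizer (hK P₁)
  have h4 : (P₂ : Subgroup G) ≤ P₁ := by
    have := P₂.2.inf_normalizer_sylow P₁
    rw [inf_eq_left.mpr h3] at this
    exact inf_eq_left.mp this.symm
  exact Sylow.ext (P₂.3 P₁.2 h4)

end

section

open MulAction Subgroup

open scoped Pointwise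

instance fact7 : Fact (Nat.Prime 7) := ⟨by norm_num⟩

instance fact5 : Fact (Nat.Prime 5) := ⟨by norm_num⟩

variable {G : Type*} [Group G] [Finite G]

theorem fixed_iff (P Q : Sylow 7 G) : (∀ x ∈ (P : Subgroup G), x • Q = Q) ↔ Q = P := by
  constructor
  · intro h
    have hmem : Q ∈ fixedPoints (P : Subgroup G) (Sylow 7 G) := by
      intro x; exact h x.1 x.2
    rw [P.2.sylow_mem_fixedPoints_iff] at hmem
    exact Sylow.ext (P.3 Q.2 hmem)
  · rintro rfl x hx
    exact Sylow.smul_eq_iff_mem_normalizer.mpr (Subgroup.le_normalizer hx)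

theorem smul_mem_orbit (P : Sylow 7 G) (Q : Sylow 7 G) (x : G) (hx : x ∈ (P : Subgroup G)) :
    x • Q ∈ orbit (P : Subgroup G) Q :=
  ⟨⟨x, hx⟩, rfl⟩

theorem orbit_ncard (h15 : Nat.card (Sylow 7 G) = 15) (P Q : Sylow 7 G) (hne : Q ≠ P) :
    (orbit (P : Subgroup G) Q).ncard = 7 := by
  have : Finite (Sylow 7 G) := Nat.finite_of_card_ne_zero (by rw [h15]; norm_num)
  obtain ⟨n, hn⟩ := P.2.card_orbit Q
  rw [_root_.Nat.card_coe_set_eq] at hn
  have hle : (orbit (P : Subgroup G) Q).ncard ≤ 15 := by
    rw [← h15, ← Set.ncard_univ]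
    exact Set.ncard_le_ncard (Set.subset_univ _)
  have hn0 : n ≠ 0 := by
    intro h0
    rw [h0, pow_zero] at hn
    apply hne
    rw [← fixed_iff]
    intro x hx
    have h1 := smul_mem_orbit P Q x hx
    have h2 : Q ∈ orbit (P : Subgroup G) Q := mem_orbit_self Q
    obtain ⟨a, ha⟩ := Set.ncard_eq_one.mp hn
    rw [ha] at h1 h2
    rw [Set.mem_singleton_iff] at h1 h2
    rw [h1, h2]
  have hn1 : n < 2 := by
    by_contra hcon
    push Not at hcon
    have : 7 ^ 2 ≤ 7 ^ n := Nat.pow_le_pow_right (by norm_num) hcon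
    omega
  have : n = 1 := by omega
  rw [hn, this, pow_one]

theorem notMem_orbit (P Q : Sylow 7 G) (hne : Q ≠ P) : P ∉ orbit (P : Subgroup G) Q := by
  rintro ⟨x, hx⟩
  apply hne
  have h1 : (x : G) • Q = P := hx
  have h2 : (x : G)⁻¹ • P = P := (fixed_iff P P).mpr rfl _ (inv_mem x.2)
  calc Q = (x : G)⁻¹ • ((x : G) • Q) := by rw [inv_smul_smul]
    _ = P := by rw [h1, h2]

theorem isPreprimitive (h15 : Nat.card (Sylow 7 G) = 15) : IsPreprimitive G (Sylow 7 G) := by
  have hfin : Finite (Sylow 7 G) := Nat.finite_of_card_ne_zero (by rw [h15]; norm_num)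
  obtain ⟨P⟩ : Nonempty (Sylow 7 G) := inferInstance
  apply IsPreprimitive.of_isTrivialBlock_base P
  intro B hPB hB
  by_cases hsub : B ⊆ {P}
  · left
    exact Set.subsingleton_singleton.anti hsub
  · right
    obtain ⟨Q, hQB, hQP⟩ := Set.not_subset.mp hsub
    rw [Set.mem_singleton_iff] at hQP
    have hinv : ∀ x ∈ (P : Subgroup G), x • B = B := by
      intro x hx
      apply hB.smul_eq_of_mem hPB
      rw [(fixed_iff P P).mpr rfl x hx]; exact hPB
    have horb : orbit (P : Subgroup G) Q ⊆ B := by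
      rintro _ ⟨x, rfl⟩
      rw [← hinv x.1 x.2]
      exact Set.smul_mem_smul_set hQB
    have h8 : 8 ≤ B.ncard := by
      have h1 : insert P (orbit (P : Subgroup G) Q) ⊆ B := Set.insert_subset hPB horb
      have h2 : (insert P (orbit (P : Subgroup G) Q)).ncard = 8 := by
        rw [Set.ncard_insert_of_notMem (notMem_orbit P Q hQP) (Set.toFinite _), orbit_ncard h15 P Q hQP]
      rw [← h2]
      exact Set.ncard_le_ncard h1 (Set.toFinite _)
    apply hB.eq_univ_of_card_lt
    rw [h15]; omega

end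

section

open MulAction Subgroup

open scoped Pointwise

variable {G : Type*} [Group G] [Finite G]

/-- a nontrivial element of a `7`-group fixing 8 of the 15 points is transitive on the others -/
theorem zpowers_orbit_eq (h15 : Nat.card (Sylow 7 G) = 15) (s : Set (Sylow 7 G)) (hs : s.ncard = 8)
    (c : G) (hc7 : IsPGroup 7 (Subgroup.zpowers c)) (hcs : ∀ y ∈ s, c • y = y)
    (b : Sylow 7 G) (hb : c • b ≠ b) (y : Sylow 7 G) (hy : y ∉ s) :
    ∃ k : ℤ, c ^ k • b = y := by
  have hfin : Finite (Sylow 7 G) := Nat.finite_of_card_ne_zero (by rw [h15]; norm_num)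
  have hcs' : ∀ k : ℤ, ∀ y ∈ s, c ^ k • y = y := by
    intro k y hy
    have : c ^ k ∈ stabilizer G y := by
      apply Subgroup.zpow_mem
      exact hcs y hy
    exact this
  have hsub : orbit (Subgroup.zpowers c) b ⊆ sᶜ := by
    rintro _ ⟨⟨x, k, rfl⟩, rfl⟩ hmem
    change c ^ k • b ∈ s at hmem
    have h2 := hcs' (-k) _ hmem
    rw [smul_smul, ← zpow_add, neg_add_cancel, zpow_zero, one_smul] at h2
    rw [← h2] at hmem
    exact hb (hcs b hmem)
  have hcompl : (sᶜ).ncard = 7 := by
    have := Set.ncard_add_ncard_compl s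
    rw [hs, h15] at this
    omega
  obtain ⟨n, hn⟩ := hc7.card_orbit b
  rw [_root_.Nat.card_coe_set_eq] at hn
  have hle : (orbit (Subgroup.zpowers c) b).ncard ≤ 7 := by
    exact le_trans (Set.ncard_le_ncard hsub (Set.toFinite _)) hcompl.le
  have hn0 : n ≠ 0 := by
    intro h0
    rw [h0, pow_zero] at hn
    obtain ⟨a, ha⟩ := Set.ncard_eq_one.mp hn
    have h1 : b ∈ orbit (Subgroup.zpowers c) b := mem_orbit_self b
    have h2 : c • b ∈ orbit (Subgroup.zpowers c) b := ⟨⟨c, Subgroup.mem_zpowers c⟩, rfl⟩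
    rw [ha, Set.mem_singleton_iff] at h1 h2
    exact hb (h2.trans h1.symm)
  have hn1 : n < 2 := by
    by_contra hcon
    push Not at hcon
    have : 7 ^ 2 ≤ 7 ^ n := Nat.pow_le_pow_right (by norm_num) hcon
    omega
  have hn' : n = 1 := by omega
  rw [hn', pow_one] at hn
  have heq : orbit (Subgroup.zpowers c) b = sᶜ :=
    Set.eq_of_subset_of_ncard_le hsub (by rw [hn, hcompl]) (Set.toFinite _)
  have : y ∈ orbit (Subgroup.zpowers c) b := by rw [heq]; exact hy
  obtain ⟨⟨x, k, rfl⟩, hk⟩ := this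
  exact ⟨k, hk⟩

end

section

open MulAction Subgroup

open scoped Pointwise

variable {G : Type*} [Group G] [Finite G]

/-- Jordan: a `7`-element fixing 8 points forces 3-transitivity -/
theorem three_transitive (h15 : Nat.card (Sylow 7 G) = 15) (s : Set (Sylow 7 G)) (hs : s.ncard = 8)
    (c : G) (hc7 : IsPGroup 7 (Subgroup.zpowers c)) (hcs : ∀ y ∈ s, c • y = y)
    (b : Sylow 7 G) (hb : c • b ≠ b) :
    IsMultiplyPretransitive G (Sylow 7 G) 3 := by
  have hfin : Finite (Sylow 7 G) := Nat.finite_of_card_ne_zero (by rw [h15]; norm_num)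
  have hprim := isPreprimitive h15
  have hcfix : c ∈ fixingSubgroup G s := (mem_fixingSubgroup_iff G).mpr hcs
  have hcfix' : ∀ k : ℤ, c ^ k ∈ fixingSubgroup G s := fun k => Subgroup.zpow_mem _ hcfix k
  have htrans : IsPretransitive (fixingSubgroup G s) (SubMulAction.ofFixingSubgroup G s) := by
    constructor
    rintro ⟨x, hx⟩ ⟨y, hy⟩
    rw [SubMulAction.mem_ofFixingSubgroup_iff] at hx hy
    obtain ⟨i, hi⟩ := zpowers_orbit_eq h15 s hs c hc7 hcs b hb x hx
    obtain ⟨j, hj⟩ := zpowers_orbit_eq h15 s hs c hc7 hcs b hb y hy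
    refine ⟨⟨c ^ (j - i), hcfix' _⟩, ?_⟩
    apply Subtype.ext
    show c ^ (j - i) • x = y
    rw [← hi, ← hj, smul_smul, ← zpow_add, sub_add_cancel]
  have hcard : Nat.card (SubMulAction.ofFixingSubgroup G s) = 7 := by
    have h1 : Nat.card (SubMulAction.ofFixingSubgroup G s) = (sᶜ).ncard := by
      rw [← _root_.Nat.card_coe_set_eq]
      rfl
    have := Set.ncard_add_ncard_compl s
    rw [hs, h15] at this
    omega
  have hprim' : IsPreprimitive (fixingSubgroup G s) (SubMulAction.ofFixingSubgroup G s) := by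
    apply IsPreprimitive.of_prime_card
    rw [hcard]; norm_num
  have h9 : IsMultiplyPreprimitive G (Sylow 7 G) (7 + 2) :=
    hprim.isMultiplyPreprimitive (s := s) (n := 7) hs (by rw [h15]; norm_num) hprim'
  have h9' : IsMultiplyPretransitive G (Sylow 7 G) 9 := h9.isMultiplyPretransitive
  exact isMultiplyPretransitive_of_le (n := 9) (by norm_num) (by rw [h15]; norm_num)

theorem three_trans_apply {α : Type*} [MulAction G α] (h3 : IsMultiplyPretransitive G α 3)
    (x0 x1 x2 y0 y1 y2 : α) (hx : x0 ≠ x1 ∧ x0 ≠ x2 ∧ x1 ≠ x2) (hy : y0 ≠ y1 ∧ y0 ≠ y2 ∧ y1 ≠ y2) :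
    ∃ g : G, g • x0 = y0 ∧ g • x1 = y1 ∧ g • x2 = y2 := by
  obtain ⟨hx01, hx02, hx12⟩ := hx
  obtain ⟨hy01, hy02, hy12⟩ := hy
  let x : Fin 3 ↪ α := ⟨![x0, x1, x2], by
    intro i j h
    fin_cases i <;> fin_cases j <;> simp_all⟩
  let y : Fin 3 ↪ α := ⟨![y0, y1, y2], by
    intro i j h
    fin_cases i <;> fin_cases j <;> simp_all⟩
  obtain ⟨g, hg⟩ := (isMultiplyPretransitive_iff (G := G) (α := α) (n := 3)).mp h3 x y
  refine ⟨g, ?_, ?_, ?_⟩
  · exact congrArg (fun e : Fin 3 ↪ α => e 0) hg
  · exact congrArg (fun e : Fin 3 ↪ α => e 1) hg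
  · exact congrArg (fun e : Fin 3 ↪ α => e 2) hg

theorem case49 (h15 : Nat.card (Sylow 7 G) = 15)
    (hfaith : ∀ g : G, (∀ Q : Sylow 7 G, g • Q = Q) → g = 1)
    (P : Sylow 7 G) (h49 : Nat.card (P : Subgroup G) = 49) : False := by
  have hfin : Finite (Sylow 7 G) := Nat.finite_of_card_ne_zero (by rw [h15]; norm_num)
  have hnt : Nontrivial (Sylow 7 G) := by
    rw [← Finite.one_lt_card_iff_nontrivial, h15]; norm_num
  obtain ⟨a, haP⟩ := exists_ne P
  have hA := orbit_ncard h15 P a haP
  -- the stabilizer of a in P has order 7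
  have hstab : Nat.card (stabilizer (P : Subgroup G) a) = 7 := by
    have h1 := Subgroup.card_mul_index (stabilizer (P : Subgroup G) a)
    rw [index_stabilizer, hA, h49] at h1
    omega
  have hnt' : Nontrivial (stabilizer (P : Subgroup G) a) := by
    rw [← Finite.one_lt_card_iff_nontrivial, hstab]; norm_num
  obtain ⟨⟨c, hca⟩, hc1⟩ := exists_ne (1 : stabilizer (P : Subgroup G) a)
  have hc1' : (c : G) ≠ 1 := by
    intro h
    apply hc1
    apply Subtype.ext
    apply Subtype.ext
    exact h
  have hca' : (c : G) • a = a := hca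
  have hcomm : ∀ x y : (P : Subgroup G), x * y = y * x :=
    (IsPGroup.isMulCommutative_of_card_eq_prime_sq (p := 7) (by rw [h49]; norm_num)).is_comm.comm
  -- c fixes the orbit of a pointwise
  have hcA : ∀ y ∈ orbit (P : Subgroup G) a, (c : G) • y = y := by
    rintro _ ⟨x, rfl⟩
    show (c : G) • ((x : G) • a) = (x : G) • a
    have : (c : G) * (x : G) = (x : G) * (c : G) := congrArg Subtype.val (hcomm c x)
    rw [smul_smul, this, ← smul_smul, hca']
  have hcP : (c : G) • P = P := (fixed_iff P P).mpr rfl _ c.2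
  obtain ⟨s, hs⟩ : ∃ s : Set (Sylow 7 G), s = insert P (orbit (P : Subgroup G) a) := ⟨_, rfl⟩
  have hs8 : s.ncard = 8 := by
    rw [hs, Set.ncard_insert_of_notMem (notMem_orbit P a haP) (Set.toFinite _), hA]
  have hcs : ∀ y ∈ s, (c : G) • y = y := by
    intro y hy
    rw [hs] at hy
    rcases hy with rfl | hy
    · exact hcP
    · exact hcA y hy
  obtain ⟨b, hb⟩ : ∃ b : Sylow 7 G, (c : G) • b ≠ b := by
    by_contra hcon
    push Not at hcon
    exact hc1' (hfaith _ hcon)
  have hbs : b ∉ s := fun h => hb (hcs b h)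
  have hc7 : IsPGroup 7 (Subgroup.zpowers (c : G)) :=
    P.2.to_le (Subgroup.zpowers_le.mpr c.2)
  have h3 := three_transitive h15 s hs8 c hc7 hcs b hb
  -- a second point of the orbit of a
  have hnt2 : (orbit (P : Subgroup G) a).Nontrivial := by
    rw [← Set.one_lt_ncard_iff_nontrivial, hA]; norm_num
  obtain ⟨a', ha', haa'⟩ := hnt2.exists_ne a
  have ha'P : a' ≠ P := fun h => notMem_orbit P a haP (h ▸ ha')
  have hbP : b ≠ P := fun h => hbs (by rw [hs, h]; exact Set.mem_insert _ _)
  have hba : b ≠ a := fun h => hbs (by rw [hs, h]; exact Set.mem_insert_of_mem _ (mem_orbit_self a))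
  obtain ⟨g, hg0, hg1, hg2⟩ := three_trans_apply h3 P a a' P a b ⟨haP.symm, ha'P.symm, haa'.symm⟩
    ⟨haP.symm, hbP.symm, hba.symm⟩
  have hgN : g ∈ Subgroup.normalizer (P : Set G) := Sylow.smul_eq_iff_mem_normalizer.mp hg0
  obtain ⟨q, rfl⟩ := ha'
  apply hbs
  rw [hs]
  apply Set.mem_insert_of_mem
  have hq' : g * (q : G) * g⁻¹ ∈ (P : Subgroup G) := (Subgroup.mem_normalizer_iff.mp hgN (q : G)).mp q.2
  have : b = (⟨g * (q : G) * g⁻¹, hq'⟩ : (P : Subgroup G)) • a := by
    show b = (g * (q : G) * g⁻¹) • a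
    rw [← hg2]
    show g • ((q : G) • a) = _
    rw [mul_smul, mul_smul]
    congr 2
    rw [eq_inv_smul_iff]; exact hg1
  rw [this]
  exact ⟨_, rfl⟩

end

section

open MulAction Subgroup

open scoped Pointwise

variable {G : Type*} [Group G] [Finite G]

/-- the fixed point set of an element centralizing `P` has 1, 8 or 15 points -/
theorem fixedBy_ncard (h15 : Nat.card (Sylow 7 G) = 15) (P : Sylow 7 G) (d : G)
    (hd : ∀ x ∈ (P : Subgroup G), d * x = x * d) (hd1 : ∃ Q : Sylow 7 G, d • Q ≠ Q) :
    (fixedBy (Sylow 7 G) d).ncard = 1 ∨ (fixedBy (Sylow 7 G) d).ncard = 8 := by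
  have hfin : Finite (Sylow 7 G) := Nat.finite_of_card_ne_zero (by rw [h15]; norm_num)
  obtain ⟨F, hF⟩ : ∃ F : Set (Sylow 7 G), F = fixedBy (Sylow 7 G) d := ⟨_, rfl⟩
  rw [← hF]
  have hPF : P ∈ F := by
    rw [hF, mem_fixedBy]
    apply Sylow.smul_eq_iff_mem_normalizer.mpr
    apply Subgroup.centralizer_le_normalizer
    intro x hx
    exact (hd x hx).symm
  have hinv : ∀ Q ∈ F, orbit (P : Subgroup G) Q ⊆ F := by
    rintro Q hQ _ ⟨x, rfl⟩
    rw [hF, mem_fixedBy] at hQ ⊢
    show d • ((x : G) • Q) = (x : G) • Q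
    rw [smul_smul, hd x x.2, ← smul_smul, hQ]
  by_cases h1 : F ⊆ {P}
  · left
    have : F = {P} := Set.Subset.antisymm h1 (Set.singleton_subset_iff.mpr hPF)
    rw [this, Set.ncard_singleton]
  · right
    obtain ⟨x, hxF, hxP⟩ := Set.not_subset.mp h1
    rw [Set.mem_singleton_iff] at hxP
    have hsub : insert P (orbit (P : Subgroup G) x) ⊆ F := Set.insert_subset hPF (hinv x hxF)
    have h8 : (insert P (orbit (P : Subgroup G) x)).ncard = 8 := by
      rw [Set.ncard_insert_of_notMem (notMem_orbit P x hxP) (Set.toFinite _), orbit_ncard h15 P x hxP]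
    by_cases h2 : F ⊆ insert P (orbit (P : Subgroup G) x)
    · rw [← h8]
      congr 1
      exact Set.Subset.antisymm h2 hsub
    · exfalso
      obtain ⟨y, hyF, hy⟩ := Set.not_subset.mp h2
      have hyP : y ≠ P := fun h => hy (h ▸ Set.mem_insert _ _)
      have hyx : y ∉ orbit (P : Subgroup G) x := fun h => hy (Set.mem_insert_of_mem _ h)
      have hdisj : Disjoint (orbit (P : Subgroup G) y) (insert P (orbit (P : Subgroup G) x)) := by
        rw [Set.disjoint_left]
        intro z hzy hz
        rcases hz with rfl | hzx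
        · exact notMem_orbit z y hyP hzy
        · apply hyx
          rw [← orbit_eq_iff.mpr hzx, orbit_eq_iff.mpr hzy]
          exact mem_orbit_self y
      have hsub2 : orbit (P : Subgroup G) y ∪ insert P (orbit (P : Subgroup G) x) ⊆ F :=
        Set.union_subset (hinv y hyF) hsub
      have h15' : (orbit (P : Subgroup G) y ∪ insert P (orbit (P : Subgroup G) x)).ncard = 15 := by
        rw [Set.ncard_union_eq hdisj (Set.toFinite _) (Set.toFinite _), h8, orbit_ncard h15 P y hyP]
      have hFuniv : F = Set.univ := by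
        apply Set.eq_univ_of_subset hsub2
        apply Set.eq_of_subset_of_ncard_le (Set.subset_univ _) _ (Set.toFinite _)
        rw [h15', Set.ncard_univ, h15]
      obtain ⟨Q, hQ⟩ := hd1
      apply hQ
      have : Q ∈ F := by rw [hFuniv]; exact Set.mem_univ _
      rw [hF, mem_fixedBy] at this
      exact this

end

section

open MulAction Subgroup

open scoped Pointwise

variable {G : Type*} [Group G] [Finite G]

theorem fixedPoints_zpowers_eq {α : Type*} [MulAction G α] (d : G) :
    fixedPoints (Subgroup.zpowers d) α = fixedBy α d := by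
  ext x
  constructor
  · intro h
    exact h ⟨d, Subgroup.mem_zpowers d⟩
  · rintro h ⟨y, k, rfl⟩
    have : d ^ k ∈ stabilizer G x := Subgroup.zpow_mem _ h k
    exact this

theorem no_prime_in_centralizer [Fintype (Sylow 7 G)] [DecidableEq (Sylow 7 G)]
    (h15 : Nat.card (Sylow 7 G) = 15)
    (hfaith : ∀ g : G, (∀ Q : Sylow 7 G, g • Q = Q) → g = 1)
    (heven : ∀ g : G, Equiv.Perm.sign (MulAction.toPerm g : Equiv.Perm (Sylow 7 G)) = 1)
    (P : Sylow 7 G) (d : G) (hd : ∀ x ∈ (P : Subgroup G), d * x = x * d)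
    (r : ℕ) (hr : r.Prime) (hdr : orderOf d = r) : r = 7 := by
  have hrf : Fact r.Prime := ⟨hr⟩
  have hd1 : ∃ Q : Sylow 7 G, d • Q ≠ Q := by
    by_contra hcon
    push Not at hcon
    have := hfaith d hcon
    rw [this, orderOf_one] at hdr
    exact hr.ne_one hdr.symm
  have hpg : IsPGroup r (Subgroup.zpowers d) :=
    IsPGroup.of_card (n := 1) (by rw [Nat.card_zpowers, hdr, pow_one])
  have hmod := hpg.card_modEq_card_fixedPoints (Sylow 7 G)
  rw [fixedPoints_zpowers_eq, _root_.Nat.card_coe_set_eq, h15] at hmod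
  rcases fixedBy_ncard h15 P d hd hd1 with h | h
  · rw [h] at hmod
    have hdvd : r ∣ 14 := (Nat.modEq_iff_dvd' (by norm_num)).mp hmod.symm
    have h14 : (14 : ℕ) = 2 * 7 := by norm_num
    rw [h14] at hdvd
    rcases (Nat.Prime.dvd_mul hr).mp hdvd with h2 | h7
    · exfalso
      have hr2 : r = 2 := (Nat.prime_dvd_prime_iff_eq hr Nat.prime_two).mp h2
      rw [hr2] at hdr
      have hd2 : d ^ 2 = 1 := by rw [← hdr]; exact pow_orderOf_eq_one d
      have hσ : (MulAction.toPerm d : Equiv.Perm (Sylow 7 G)) ^ 2 = 1 := by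
        rw [← MulAction.toPermHom_apply, ← map_pow, hd2, map_one]
      have hsign := Equiv.Perm.sign_of_pow_two_eq_one hσ
      rw [heven d] at hsign
      have hfp : Fintype.card (Function.fixedPoints (MulAction.toPerm d : Equiv.Perm (Sylow 7 G))) = 1 := by
        rw [← Nat.card_eq_fintype_card, _root_.Nat.card_coe_set_eq]
        exact h
      rw [hfp, ← Nat.card_eq_fintype_card, h15] at hsign
      revert hsign
      decide
    · exact (Nat.prime_dvd_prime_iff_eq hr (by norm_num)).mp h7
  · rw [h] at hmod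
    have hdvd : r ∣ 7 := (Nat.modEq_iff_dvd' (by norm_num)).mp hmod.symm
    exact (Nat.prime_dvd_prime_iff_eq hr (by norm_num)).mp hdvd

theorem centralizer_eq [Fintype (Sylow 7 G)] [DecidableEq (Sylow 7 G)]
    (h15 : Nat.card (Sylow 7 G) = 15)
    (hfaith : ∀ g : G, (∀ Q : Sylow 7 G, g • Q = Q) → g = 1)
    (heven : ∀ g : G, Equiv.Perm.sign (MulAction.toPerm g : Equiv.Perm (Sylow 7 G)) = 1)
    (P : Sylow 7 G) (h7 : Nat.card (P : Subgroup G) = 7) :
    Subgroup.centralizer (P : Set G) = (P : Subgroup G) := by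
  have hcyc : IsCyclic (P : Subgroup G) := isCyclic_of_prime_card h7
  have hPC : (P : Subgroup G) ≤ Subgroup.centralizer (P : Set G) := by
    have hcomm : IsMulCommutative (P : Subgroup G) := ⟨⟨fun a b => by
      have := hcyc.commGroup.mul_comm a b
      exact this⟩⟩
    exact Subgroup.le_centralizer (P : Subgroup G)
  have hpg : IsPGroup 7 (Subgroup.centralizer (P : Set G)) := by
    have hpos : Nat.card (Subgroup.centralizer (P : Set G)) ≠ 0 := Nat.card_pos.ne'
    have key := Nat.eq_prime_pow_of_unique_prime_dvd (p := 7) hpos (by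
      intro r hr hdvd
      have hrf : Fact r.Prime := ⟨hr⟩
      obtain ⟨d, hd⟩ := exists_prime_orderOf_dvd_card' r hdvd
      have hdo : orderOf (d : G) = r := by rw [Subgroup.orderOf_coe]; exact hd
      apply no_prime_in_centralizer h15 hfaith heven P (d : G) _ r hr hdo
      intro x hx
      exact (Subgroup.mem_centralizer_iff.mp d.2 x hx).symm)
    exact IsPGroup.of_card key
  exact P.3 hpg hPC

end

section

open MulAction Subgroup

open scoped Pointwise

section act

variable {G : Type*} [Group G]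

/-- conjugation action of the powers of a normalizing element -/
@[reducible]
def conjAction (R : Subgroup G) (y : G) (hy : y ∈ Subgroup.normalizer (R : Set G)) :
    MulAction (Subgroup.zpowers y) R where
  smul k h := ⟨(k : G) * h * (k : G)⁻¹,
    (Subgroup.mem_normalizer_iff.mp ((Subgroup.zpowers_le.mpr hy) k.2) h).mp h.2⟩
  one_smul h := by
    apply Subtype.ext
    show ((1 : Subgroup.zpowers y) : G) * h * ((1 : Subgroup.zpowers y) : G)⁻¹ = h
    simp
  mul_smul a b h := by
    apply Subtype.ext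
    show ((a * b : Subgroup.zpowers y) : G) * h * ((a * b : Subgroup.zpowers y) : G)⁻¹
      = (a : G) * ((b : G) * h * (b : G)⁻¹) * (a : G)⁻¹
    simp [mul_assoc]

/-- an element of prime order `r` normalizing `R` centralizes `R`, when the numerics force it -/
theorem centralizes_of_numerics (R : Subgroup G) [Finite R]
    (y : G) (hy : y ∈ Subgroup.normalizer (R : Set G)) (r : ℕ) [Fact r.Prime]
    (hyr : orderOf y = r)
    (hnum : ∀ m : ℕ, m ∣ Nat.card R → Nat.card R ≡ m [MOD r] → m = Nat.card R) :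
    ∀ h ∈ R, y * h = h * y := by
  let _ := conjAction R y hy
  have hP : IsPGroup r (Subgroup.zpowers y) :=
    IsPGroup.of_card (n := 1) (by rw [Nat.card_zpowers, hyr, pow_one])
  have hmod := hP.card_modEq_card_fixedPoints R
  let C : Subgroup R := (Subgroup.centralizer {y}).subgroupOf R
  have hfix : MulAction.fixedPoints (Subgroup.zpowers y) R = (C : Set R) := by
    ext h
    simp only [MulAction.mem_fixedPoints, SetLike.mem_coe]
    constructor
    · intro hf
      have h1 := hf ⟨y, Subgroup.mem_zpowers y⟩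
      have h2 : y * (h : G) * y⁻¹ = h := congrArg Subtype.val h1
      show (h : G) ∈ Subgroup.centralizer {y}
      rw [Subgroup.mem_centralizer_iff]
      intro m hm
      rw [Set.mem_singleton_iff] at hm
      subst hm
      calc m * (h : G) = (m * h * m⁻¹) * m := by group
        _ = h * m := by rw [h2]
    · intro hC k
      have hC' : (h : G) ∈ Subgroup.centralizer {y} := hC
      have hk : (k : G) ∈ Subgroup.centralizer {(h : G)} := by
        have : Subgroup.zpowers y ≤ Subgroup.centralizer {(h : G)} := by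
          rw [Subgroup.zpowers_le, Subgroup.mem_centralizer_iff]
          intro m hm
          rw [Set.mem_singleton_iff] at hm
          subst hm
          exact ((Subgroup.mem_centralizer_iff.mp hC') y rfl).symm
        exact this k.2
      apply Subtype.ext
      show (k : G) * h * (k : G)⁻¹ = h
      have := (Subgroup.mem_centralizer_iff.mp hk) h rfl
      calc (k : G) * h * (k : G)⁻¹ = (h * k) * (k : G)⁻¹ := by rw [this]
        _ = h := by group
  have hcard : Nat.card (MulAction.fixedPoints (Subgroup.zpowers y) R) = Nat.card C := by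
    rw [hfix]; rfl
  rw [hcard] at hmod
  have hdvd : Nat.card C ∣ Nat.card R := Subgroup.card_subgroup_dvd_card C
  have hCtop : C = ⊤ := (Subgroup.card_eq_iff_eq_top C).mp (hnum _ hdvd hmod)
  intro h hh
  have : (⟨h, hh⟩ : R) ∈ C := by rw [hCtop]; exact Subgroup.mem_top _
  have this' : h ∈ Subgroup.centralizer {y} := this
  exact (Subgroup.mem_centralizer_iff.mp this') y rfl

end act

theorem num_3_5 : ∀ m : ℕ, m ∣ 3 → 3 ≡ m [MOD 5] → m = 3 := by
  intro m hm h
  have := Nat.le_of_dvd (by norm_num) hm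
  interval_cases m <;> simp_all [Nat.ModEq]

theorem num_9_5 : ∀ m : ℕ, m ∣ 9 → 9 ≡ m [MOD 5] → m = 9 := by
  intro m hm h
  have := Nat.le_of_dvd (by norm_num) hm
  interval_cases m <;> simp_all [Nat.ModEq]

theorem num_3_7 : ∀ m : ℕ, m ∣ 3 → 3 ≡ m [MOD 7] → m = 3 := by
  intro m hm h
  have := Nat.le_of_dvd (by norm_num) hm
  interval_cases m <;> simp_all [Nat.ModEq]

theorem num_9_7 : ∀ m : ℕ, m ∣ 9 → 9 ≡ m [MOD 7] → m = 9 := by
  intro m hm h
  have := Nat.le_of_dvd (by norm_num) hm
  interval_cases m <;> simp_all [Nat.ModEq]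

theorem num_5_7 : ∀ m : ℕ, m ∣ 5 → 5 ≡ m [MOD 7] → m = 5 := by
  intro m hm h
  have := Nat.le_of_dvd (by norm_num) hm
  interval_cases m <;> simp_all [Nat.ModEq]

theorem arith3 (n : ℕ) (h1 : n ≡ 1 [MOD 3]) (h2 : 7 ∣ n) (h3 : n ∣ 70) : n = 7 ∨ n = 70 := by
  have := Nat.le_of_dvd (by norm_num) h3
  obtain ⟨k, rfl⟩ := h2
  have hk : k ≤ 10 := by omega
  interval_cases k <;> simp_all [Nat.ModEq] <;> omega

theorem arith5 (n e : ℕ) (he : e = 1 ∨ e = 2 ∨ e = 3 ∨ e = 6) (h1 : n ≡ 1 [MOD 5]) (h2 : 7 ∣ n)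
    (h3 : n ∣ 21 * e) : n = 21 ∨ (n = 126 ∧ e = 6) := by
  obtain ⟨k, rfl⟩ := h2
  rcases he with rfl | rfl | rfl | rfl
  · have := Nat.le_of_dvd (by norm_num) h3
    have hk : k ≤ 3 := by omega
    interval_cases k <;> simp_all [Nat.ModEq] <;> omega
  · have := Nat.le_of_dvd (by norm_num) h3
    have hk : k ≤ 6 := by omega
    interval_cases k <;> simp_all [Nat.ModEq] <;> omega
  · have := Nat.le_of_dvd (by norm_num) h3
    have hk : k ≤ 9 := by omega
    interval_cases k <;> simp_all [Nat.ModEq] <;> omega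
  · have := Nat.le_of_dvd (by norm_num) h3
    have hk : k ≤ 18 := by omega
    interval_cases k <;> simp_all [Nat.ModEq] <;> omega

variable {G : Type*} [Group G] [Finite G]

theorem sylow_card_eq {q : ℕ} [Fact q.Prime] (T : Sylow q G) (k m : ℕ) (hG : Nat.card G = q ^ k * m)
    (hm : ¬ q ∣ m) : Nat.card (T : Subgroup G) = q ^ k := by
  have hq : q.Prime := Fact.out
  have hm0 : m ≠ 0 := fun h => hm (h ▸ dvd_zero q)
  rw [T.card_eq_multiplicity, hG, Nat.factorization_mul (pow_ne_zero _ hq.ne_zero) hm0, Finsupp.add_apply,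
    hq.factorization_pow, Finsupp.single_eq_same, Nat.factorization_eq_zero_of_not_dvd hm, add_zero]

end

section

open MulAction Subgroup

open scoped Pointwise

section act

variable {G : Type*} [Group G]

end act

variable {G : Type*} [Group G] [Finite G]

theorem card_normalizer (P : Sylow 7 G) (h7 : Nat.card (P : Subgroup G) = 7)
    (hC : Subgroup.centralizer (P : Set G) = (P : Subgroup G)) :
    ∃ e : ℕ, (e = 1 ∨ e = 2 ∨ e = 3 ∨ e = 6) ∧ Nat.card (Subgroup.normalizer (P : Set G)) = 7 * e := by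
  have hcyc : IsCyclic (P : Subgroup G) := isCyclic_of_prime_card h7
  have key := Subgroup.card_dvd_of_injective _
    (QuotientGroup.kerLift_injective (P : Subgroup G).normalizerMonoidHom)
  rw [Subgroup.normalizerMonoidHom_ker, ← Subgroup.index, ← Subgroup.relIndex, hcyc.card_mulAut, h7] at key
  have h6 : Nat.totient 7 = 6 := by
    rw [Nat.totient_prime (by norm_num)]
  have hC' : Subgroup.centralizer ((P : Subgroup G) : Set G) = (P : Subgroup G) := hC
  rw [h6, hC'] at key
  have hPN : (P : Subgroup G) ≤ Subgroup.normalizer (P : Set G) := Subgroup.le_normalizer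
  have h1 := Subgroup.card_mul_index ((P : Subgroup G).subgroupOf (Subgroup.normalizer (P : Set G)))
  rw [Nat.card_congr (Subgroup.subgroupOfEquivOfLe hPN).toEquiv, h7] at h1
  refine ⟨(P : Subgroup G).relIndex (Subgroup.normalizer (P : Set G)), ?_, h1.symm⟩
  have key' : (P : Subgroup G).relIndex (Subgroup.normalizer (P : Set G)) ∣ 6 := key
  have hle := Nat.le_of_dvd (by norm_num) key'
  generalize (P : Subgroup G).relIndex (Subgroup.normalizer (P : Set G)) = e at key' hle ⊢
  interval_cases e <;> simp_all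

theorem card_group (h15 : Nat.card (Sylow 7 G) = 15) (P : Sylow 7 G) :
    Nat.card G = 15 * Nat.card (Subgroup.normalizer (P : Set G)) := by
  have h1 := P.card_eq_index_normalizer
  have h2 := Subgroup.card_mul_index (Subgroup.normalizer (P : Set G))
  rw [← h1, h15] at h2
  rw [← h2, mul_comm]

theorem seven_dvd_card_sylow (P : Sylow 7 G) (h7 : Nat.card (P : Subgroup G) = 7)
    (hC : Subgroup.centralizer (P : Set G) = (P : Subgroup G))
    (q : ℕ) [Fact q.Prime] (T₀ : Sylow q G)
    (hnum : ∀ m : ℕ, m ∣ Nat.card (T₀ : Subgroup G) → Nat.card (T₀ : Subgroup G) ≡ m [MOD 7] →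
      m = Nat.card (T₀ : Subgroup G))
    (hnd : ¬ Nat.card (T₀ : Subgroup G) ∣ 7) :
    7 ∣ Nat.card (Sylow q G) := by
  have hmod := P.2.card_modEq_card_fixedPoints (Sylow q G)
  have hempty : fixedPoints (P : Subgroup G) (Sylow q G) = ∅ := by
    rw [Set.eq_empty_iff_forall_notMem]
    intro T hT
    rw [Subgroup.sylow_mem_fixedPoints_iff] at hT
    have hcyc : IsCyclic (P : Subgroup G) := isCyclic_of_prime_card h7
    obtain ⟨g, hg⟩ := hcyc.exists_generator
    have hgo : orderOf (g : G) = 7 := by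
      rw [Subgroup.orderOf_coe, orderOf_eq_card_of_forall_mem_zpowers hg, h7]
    have hcardT : Nat.card (T : Subgroup G) = Nat.card (T₀ : Subgroup G) := by
      rw [T.card_eq_multiplicity, T₀.card_eq_multiplicity]
    have hcent := centralizes_of_numerics (T : Subgroup G) (g : G) (hT g.2) 7 hgo (by rw [hcardT]; exact hnum)
    have hTC : (T : Subgroup G) ≤ Subgroup.centralizer (P : Set G) := by
      intro t ht
      rw [Subgroup.mem_centralizer_iff]
      intro x hx
      obtain ⟨k, hk⟩ := Subgroup.mem_zpowers_iff.mp (hg ⟨x, hx⟩)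
      have hxk : x = (g : G) ^ k := by
        have := congrArg Subtype.val hk
        simpa using this.symm
      rw [hxk]
      have hc : Commute (g : G) t := hcent t ht
      exact (hc.zpow_left k).eq
    rw [hC] at hTC
    apply hnd
    rw [← hcardT, ← h7]
    exact Subgroup.card_dvd_of_le hTC
  rw [hempty] at hmod
  have : Nat.card (∅ : Set (Sylow q G)) = 0 := by simp
  rw [this] at hmod
  exact (Nat.modEq_zero_iff_dvd).mp hmod

end

section

open MulAction Subgroup

open scoped Pointwise

section act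

variable {G : Type*} [Group G]

end act

variable {G : Type*} [Group G] [Finite G]

theorem card_sylow_mul_card_normalizer {q : ℕ} [Fact q.Prime] (S : Sylow q G) :
    Nat.card (Sylow q G) * Nat.card (Subgroup.normalizer ((S : Subgroup G) : Set G)) = Nat.card G := by
  have h1 := S.card_eq_index_normalizer
  have h2 := Subgroup.card_mul_index (Subgroup.normalizer ((S : Subgroup G) : Set G))
  have h1' : Nat.card (Sylow q G) = (Subgroup.normalizer ((S : Subgroup G) : Set G)).index := h1
  rw [h1', mul_comm]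
  exact h2

theorem sylow3_normalizes_sylow5 (T : Sylow 3 G) (t : ℕ) (ht : Nat.card (T : Subgroup G) = t)
    (ht' : t = 3 ∨ t = 9)
    (T5 : Sylow 5 G) (hT5 : Nat.card (T5 : Subgroup G) = 5)
    (h5 : 5 ∣ Nat.card (Subgroup.normalizer ((T : Subgroup G) : Set G))) :
    ∃ S : Sylow 5 G, t ∣ Nat.card (Subgroup.normalizer ((S : Subgroup G) : Set G)) := by
  obtain ⟨y', hy'⟩ := exists_prime_orderOf_dvd_card' 5 h5
  have hy5 : orderOf (y' : G) = 5 := by rw [Subgroup.orderOf_coe]; exact hy'
  have hnum : ∀ m : ℕ, m ∣ Nat.card (T : Subgroup G) → Nat.card (T : Subgroup G) ≡ m [MOD 5] →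
      m = Nat.card (T : Subgroup G) := by
    rw [ht]
    rcases ht' with rfl | rfl
    · exact num_3_5
    · exact num_9_5
  have hcent := centralizes_of_numerics (T : Subgroup G) (y' : G) y'.2 5 hy5 hnum
  have hcz : Nat.card (Subgroup.zpowers (y' : G)) = 5 ^ 1 := by
    rw [Nat.card_zpowers, hy5]; norm_num
  obtain ⟨S, hS⟩ := (IsPGroup.of_card hcz).exists_le_sylow
  have hScard : Nat.card (S : Subgroup G) = 5 := by
    rw [S.card_eq_multiplicity, ← T5.card_eq_multiplicity, hT5]
  have hSeq : Subgroup.zpowers (y' : G) = (S : Subgroup G) :=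
    Subgroup.eq_of_le_of_card_ge hS (by rw [hScard, hcz]; norm_num)
  refine ⟨S, ?_⟩
  rw [← ht]
  apply Subgroup.card_dvd_of_le
  rw [← hSeq]
  refine le_trans ?_ (Subgroup.centralizer_le_normalizer _)
  intro h hh
  rw [Subgroup.mem_centralizer_iff]
  intro z hz
  obtain ⟨k, rfl⟩ := Subgroup.mem_zpowers_iff.mp hz
  have hc : Commute (y' : G) h := hcent h hh
  exact (hc.zpow_left k).eq

theorem transfer_case (h15 : Nat.card (Sylow 7 G) = 15) (T : Sylow 3 G)
    (ht : Nat.card (T : Subgroup G) = 3 ∨ Nat.card (T : Subgroup G) = 9)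
    (hN : Nat.card (Subgroup.normalizer ((T : Subgroup G) : Set G)) = Nat.card (T : Subgroup G))
    (IH : ∀ L : Subgroup G, L ≠ ⊤ → Nat.card (Sylow 7 L) ≠ 15) : False := by
  have hNT : (T : Subgroup G) = Subgroup.normalizer ((T : Subgroup G) : Set G) :=
    Subgroup.eq_of_le_of_card_ge Subgroup.le_normalizer (by rw [hN])
  have hcomm : ∀ a b : (T : Subgroup G), a * b = b * a := by
    rcases ht with h3 | h9
    · have hcyc : IsCyclic (T : Subgroup G) := isCyclic_of_prime_card h3
      intro a b
      exact (IsCyclic.isMulCommutative (α := (T : Subgroup G))).is_comm.comm a b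
    · have := IsPGroup.isMulCommutative_of_card_eq_prime_sq (p := 3) (G := (T : Subgroup G))
        (by rw [h9]; norm_num)
      intro a b
      exact this.is_comm.comm a b
  have hP : Subgroup.normalizer (T : Set G) ≤ Subgroup.centralizer (T : Set G) := by
    intro x hx
    have hx' : x ∈ Subgroup.normalizer ((T : Subgroup G) : Set G) := hx
    rw [← hNT] at hx'
    rw [Subgroup.mem_centralizer_iff]
    intro z hz
    have := hcomm ⟨z, hz⟩ ⟨x, hx'⟩
    exact congrArg Subtype.val this
  have hcompl := MonoidHom.ker_transferSylow_isComplement' T hP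
  set f := MonoidHom.transferSylow T hP with hf
  have hLtop : f.ker ≠ ⊤ := by
    intro htop
    have h1 := hcompl.card_mul_card
    rw [htop, Subgroup.card_top] at h1
    have hpos : 0 < Nat.card G := Nat.card_pos
    have : Nat.card (T : Subgroup G) = 1 := by
      have h2 : Nat.card G * Nat.card (T : Subgroup G) = Nat.card G * 1 := by rw [mul_one]; exact h1
      exact Nat.eq_of_mul_eq_mul_left hpos h2
    rcases ht with h | h <;> omega
  have hL : ∀ Q : Sylow 7 G, (Q : Subgroup G) ≤ f.ker := by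
    intro Q x hx
    rw [MonoidHom.mem_ker, ← orderOf_eq_one_iff]
    have h1 : orderOf (f x) ∣ orderOf x := orderOf_map_dvd f x
    have h2 : orderOf x ∣ Nat.card (Q : Subgroup G) := by
      have := orderOf_dvd_natCard (⟨x, hx⟩ : (Q : Subgroup G))
      rwa [← Subgroup.orderOf_coe] at this
    rw [Q.card_eq_multiplicity] at h2
    have h3 : orderOf (f x) ∣ Nat.card (T : Subgroup G) := orderOf_dvd_natCard (f x)
    have hcop : Nat.Coprime (7 ^ (Nat.card G).factorization 7) (Nat.card (T : Subgroup G)) := by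
      apply Nat.Coprime.pow_left
      rcases ht with h | h <;> rw [h] <;> norm_num
    exact Nat.eq_one_of_dvd_coprimes hcop (h1.trans h2) h3
  have := card_sylow_subgroup 7 f.ker hL
  exact IH f.ker hLtop (by rw [this, h15])

end

section

open MulAction Subgroup

open scoped Pointwise

variable {G : Type*} [Group G] [Finite G]

theorem final_contradiction (h15 : Nat.card (Sylow 7 G) = 15) (P : Sylow 7 G)
    (h7 : Nat.card (P : Subgroup G) = 7)
    (hC : Subgroup.centralizer (P : Set G) = (P : Subgroup G))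
    (IH : ∀ L : Subgroup G, L ≠ ⊤ → Nat.card (Sylow 7 L) ≠ 15) : False := by
  obtain ⟨e, he, hN⟩ := card_normalizer P h7 hC
  have hG : Nat.card G = 105 * e := by rw [card_group h15 P, hN]; ring
  -- Sylow 5
  obtain ⟨T5⟩ : Nonempty (Sylow 5 G) := inferInstance
  have hT5 : Nat.card (T5 : Subgroup G) = 5 := by
    have := sylow_card_eq T5 1 (21 * e) (by rw [hG]; ring)
      (by rcases he with rfl | rfl | rfl | rfl <;> norm_num)
    simpa using this
  have h7n5 : 7 ∣ Nat.card (Sylow 5 G) :=
    seven_dvd_card_sylow P h7 hC 5 T5 (by rw [hT5]; exact num_5_7) (by rw [hT5]; norm_num)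
  have hn5mod : Nat.card (Sylow 5 G) ≡ 1 [MOD 5] := card_sylow_modEq_one 5 G
  have hn5dvd : Nat.card (Sylow 5 G) ∣ 21 * e := by
    have h1 := T5.card_dvd_index
    have h2 := Subgroup.card_mul_index (T5 : Subgroup G)
    rw [hT5, hG] at h2
    have : (T5 : Subgroup G).index = 21 * e := by omega
    rwa [this] at h1
  have hn5 := arith5 _ e he hn5mod h7n5 hn5dvd
  -- Sylow 3
  obtain ⟨T⟩ : Nonempty (Sylow 3 G) := inferInstance
  have hT : (Nat.card (T : Subgroup G) = 3 ∧ (e = 1 ∨ e = 2)) ∨
      (Nat.card (T : Subgroup G) = 9 ∧ (e = 3 ∨ e = 6)) := by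
    rcases he with rfl | rfl | rfl | rfl
    · left
      refine ⟨?_, Or.inl rfl⟩
      have := sylow_card_eq T 1 35 (by rw [hG]; norm_num) (by norm_num)
      simpa using this
    · left
      refine ⟨?_, Or.inr rfl⟩
      have := sylow_card_eq T 1 70 (by rw [hG]; norm_num) (by norm_num)
      simpa using this
    · right
      refine ⟨?_, Or.inl rfl⟩
      have := sylow_card_eq T 2 35 (by rw [hG]; norm_num) (by norm_num)
      simpa using this
    · right
      refine ⟨?_, Or.inr rfl⟩
      have := sylow_card_eq T 2 70 (by rw [hG]; norm_num) (by norm_num)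
      simpa using this
  have hT' : Nat.card (T : Subgroup G) = 3 ∨ Nat.card (T : Subgroup G) = 9 := by
    rcases hT with h | h
    · exact Or.inl h.1
    · exact Or.inr h.1
  have h7n3 : 7 ∣ Nat.card (Sylow 3 G) := by
    apply seven_dvd_card_sylow P h7 hC 3 T
    · rcases hT' with h | h <;> rw [h]
      · exact num_3_7
      · exact num_9_7
    · rcases hT' with h | h <;> rw [h] <;> norm_num
  have hn3mod : Nat.card (Sylow 3 G) ≡ 1 [MOD 3] := card_sylow_modEq_one 3 G
  have hn3dvd : Nat.card (Sylow 3 G) ∣ 70 := by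
    have h1 := T.card_dvd_index
    have h2 := Subgroup.card_mul_index (T : Subgroup G)
    rw [hG] at h2
    have : (T : Subgroup G).index ∣ 70 := by
      rcases hT with ⟨h, rfl | rfl⟩ | ⟨h, rfl | rfl⟩ <;> rw [h] at h2
      · have : (T : Subgroup G).index = 35 := by omega
        rw [this]; norm_num
      · have : (T : Subgroup G).index = 70 := by omega
        rw [this]
      · have : (T : Subgroup G).index = 35 := by omega
        rw [this]; norm_num
      · have : (T : Subgroup G).index = 70 := by omega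
        rw [this]
    exact h1.trans this
  have hnorm3 := card_sylow_mul_card_normalizer T
  rw [hG] at hnorm3
  rcases arith3 _ hn3mod h7n3 hn3dvd with h3 | h3
  · -- n3 = 7
    rw [h3] at hnorm3
    have h5 : 5 ∣ Nat.card (Subgroup.normalizer ((T : Subgroup G) : Set G)) := by
      have : Nat.card (Subgroup.normalizer ((T : Subgroup G) : Set G)) = 15 * e := by omega
      rw [this]
      exact Dvd.intro _ (by ring : 5 * (3 * e) = 15 * e)
    obtain ⟨S, hS⟩ := sylow3_normalizes_sylow5 T _ rfl hT' T5 hT5 h5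
    have hnorm5 := card_sylow_mul_card_normalizer S
    rw [hG] at hnorm5
    rcases hn5 with h21 | ⟨h126, rfl⟩
    · rw [h21] at hnorm5
      have hNS : Nat.card (Subgroup.normalizer ((S : Subgroup G) : Set G)) = 5 * e := by omega
      rw [hNS] at hS
      rcases hT with ⟨h, rfl | rfl⟩ | ⟨h, rfl | rfl⟩ <;> rw [h] at hS <;> omega
    · rw [h126] at hnorm5
      have hNS : Nat.card (Subgroup.normalizer ((S : Subgroup G) : Set G)) = 5 := by omega
      rw [hNS] at hS
      rcases hT' with h | h <;> rw [h] at hS <;> omega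
  · -- n3 = 70
    rw [h3] at hnorm3
    apply transfer_case h15 T hT' _ IH
    rcases hT with ⟨h, rfl | rfl⟩ | ⟨h, rfl | rfl⟩ <;> rw [h] <;> omega

end

section

open MulAction Subgroup

open scoped Pointwise

section

variable {G : Type*} [Group G] [Finite G]

theorem sylow_card_cases (h15 : Nat.card (Sylow 7 G) = 15)
    (hfaith : ∀ g : G, (∀ Q : Sylow 7 G, g • Q = Q) → g = 1) (P : Sylow 7 G) :
    Nat.card (P : Subgroup G) = 7 ∨ Nat.card (P : Subgroup G) = 49 := by
  have hfin : Finite (Sylow 7 G) := Nat.finite_of_card_ne_zero (by rw [h15]; norm_num)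
  have hinj : Function.Injective (MulAction.toPermHom G (Sylow 7 G)) := by
    rw [injective_iff_map_eq_one]
    intro g hg
    apply hfaith
    intro Q
    have := congrArg (fun σ : Equiv.Perm (Sylow 7 G) => σ Q) hg
    simpa using this
  have h1 : Nat.card G ∣ Nat.card (Equiv.Perm (Sylow 7 G)) := Subgroup.card_dvd_of_injective _ hinj
  rw [Nat.card_perm, h15] at h1
  have h2 : Nat.card (P : Subgroup G) ∣ Nat.factorial 15 := (Subgroup.card_subgroup_dvd_card _).trans h1
  have hk := P.card_eq_multiplicity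
  set k := (Nat.card G).factorization 7 with hkdef
  rw [hk] at h2 ⊢
  have hk3 : k < 3 := by
    by_contra hcon
    push Not at hcon
    have h3 : 7 ^ 3 ∣ Nat.factorial 15 := (pow_dvd_pow 7 hcon).trans h2
    revert h3
    decide
  have hk0 : k ≠ 0 := by
    intro h0
    have hsub : Subsingleton (Sylow 7 G) := by
      refine ⟨fun Q1 Q2 => ?_⟩
      apply Sylow.ext
      have e1 : Nat.card (Q1 : Subgroup G) = 1 := by rw [Q1.card_eq_multiplicity, ← hkdef, h0, pow_zero]
      have e2 : Nat.card (Q2 : Subgroup G) = 1 := by rw [Q2.card_eq_multiplicity, ← hkdef, h0, pow_zero]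
      rw [Subgroup.eq_bot_of_card_eq _ e1, Subgroup.eq_bot_of_card_eq _ e2]
    have := Finite.card_le_one_iff_subsingleton.mpr hsub
    omega
  have hk12 : k = 1 ∨ k = 2 := by omega
  rcases hk12 with h | h <;> rw [h]
  · left; norm_num
  · right; norm_num

end

universe u

theorem main_aux (n : ℕ) : ∀ (G : Type u) [Group G] [Finite G], Nat.card G = n →
    Nat.card (Sylow 7 G) ≠ 15 := by
  induction n using Nat.strong_induction_on with
  | _ n ih =>
  intro G _ _ hn h15
  have hfin : Finite (Sylow 7 G) := Nat.finite_of_card_ne_zero (by rw [h15]; norm_num)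
  -- IH for proper subgroups
  have IH : ∀ L : Subgroup G, L ≠ ⊤ → Nat.card (Sylow 7 L) ≠ 15 := by
    intro L hL
    have hlt : Nat.card L < n := by
      rw [← hn]
      have hle : Nat.card L ≤ Nat.card G := Subgroup.card_le_card_group L
      rcases hle.lt_or_eq with h | h
      · exact h
      · exact absurd (Subgroup.card_eq_iff_eq_top L |>.mp h) hL
    exact ih _ hlt L rfl
  -- Step 1: the action on the Sylow 7-subgroups is faithful
  have hfaith : ∀ g : G, (∀ Q : Sylow 7 G, g • Q = Q) → g = 1 := by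
    by_contra hcon
    push Not at hcon
    obtain ⟨g, hg, hg1⟩ := hcon
    have hK : ∀ P : Sylow 7 G, (MulAction.toPermHom G (Sylow 7 G)).ker ≤
        Subgroup.normalizer (P : Set G) := by
      intro P k hk
      apply Sylow.smul_eq_iff_mem_normalizer.mp
      have h1 : MulAction.toPermHom G (Sylow 7 G) k = 1 := hk
      have := congrArg (fun σ : Equiv.Perm (Sylow 7 G) => σ P) h1
      simpa using this
    have hcard := card_sylow_quotient 7 (MulAction.toPermHom G (Sylow 7 G)).ker hK
    have hgK : g ∈ (MulAction.toPermHom G (Sylow 7 G)).ker := by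
      rw [MonoidHom.mem_ker]
      apply Equiv.Perm.ext
      intro Q
      simpa using hg Q
    have hlt : Nat.card (G ⧸ (MulAction.toPermHom G (Sylow 7 G)).ker) < n := by
      rw [← hn]
      have h1 := Subgroup.card_eq_card_quotient_mul_card_subgroup (MulAction.toPermHom G (Sylow 7 G)).ker
      have h2 : 1 < Nat.card (MulAction.toPermHom G (Sylow 7 G)).ker := by
        rw [Finite.one_lt_card_iff_nontrivial]
        exact ⟨⟨⟨g, hgK⟩, 1, fun h => hg1 (congrArg Subtype.val h)⟩⟩
      have h3 : 0 < Nat.card (G ⧸ (MulAction.toPermHom G (Sylow 7 G)).ker) := Nat.card_pos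
      rw [h1]
      nlinarith
    exact ih _ hlt (G ⧸ (MulAction.toPermHom G (Sylow 7 G)).ker) rfl (by rw [hcard, h15])
  -- Step 2: all elements act as even permutations
  classical
  letI : Fintype (Sylow 7 G) := Fintype.ofFinite _
  have heven : ∀ g : G, Equiv.Perm.sign (MulAction.toPerm g : Equiv.Perm (Sylow 7 G)) = 1 := by
    have hψ : ∀ Q : Sylow 7 G, (Q : Subgroup G) ≤
        ((Equiv.Perm.sign).comp (MulAction.toPermHom G (Sylow 7 G))).ker := by
      intro Q x hx
      rw [MonoidHom.mem_ker, ← orderOf_eq_one_iff]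
      have h1 : orderOf (((Equiv.Perm.sign).comp (MulAction.toPermHom G (Sylow 7 G))) x) ∣ orderOf x :=
        orderOf_map_dvd _ x
      have h2 : orderOf x ∣ Nat.card (Q : Subgroup G) := by
        have := orderOf_dvd_natCard (⟨x, hx⟩ : (Q : Subgroup G))
        rwa [← Subgroup.orderOf_coe] at this
      rw [Q.card_eq_multiplicity] at h2
      have h3 : orderOf (((Equiv.Perm.sign).comp (MulAction.toPermHom G (Sylow 7 G))) x) ∣ 2 := by
        apply orderOf_dvd_of_pow_eq_one
        exact Int.units_sq _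
      have hcop : Nat.Coprime (7 ^ (Nat.card G).factorization 7) 2 := by
        apply Nat.Coprime.pow_left
        norm_num
      exact Nat.eq_one_of_dvd_coprimes hcop (h1.trans h2) h3
    by_contra hcon
    push Not at hcon
    obtain ⟨g, hg⟩ := hcon
    have hne : ((Equiv.Perm.sign).comp (MulAction.toPermHom G (Sylow 7 G))).ker ≠ ⊤ := by
      intro htop
      apply hg
      have : g ∈ ((Equiv.Perm.sign).comp (MulAction.toPermHom G (Sylow 7 G))).ker := by
        rw [htop]; trivial
      exact this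
    have := card_sylow_subgroup 7 _ hψ
    exact IH _ hne (by rw [this, h15])
  -- Step 3
  obtain ⟨P⟩ : Nonempty (Sylow 7 G) := inferInstance
  rcases sylow_card_cases h15 hfaith P with h7 | h49
  · have hC := centralizer_eq h15 hfaith heven P h7
    exact final_contradiction h15 P h7 hC IH
  · exact case49 h15 hfaith P h49

theorem result {G : Type*} [Group G] [Finite G] : Nat.card (Sylow 7 G) ≠ 15 :=
  main_aux _ G rfl

end

end Cfsg.Agent.S4304
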