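import Cfsg.Statements.S4305
import Cfsg.Agent.Lib.Helper52.FpfS3Main

set_option autoImplicit false
open Cfsg

namespace Cfsg.Agent.S4305

theorem perm_cases : ∀ a : Equiv.Perm (Fin 3),
    a = 1 ∨ a = Equiv.swap 0 1 ∨ a = finRotate 3 ∨ a = finRotate 3 * finRotate 3 ∨
      a = Equiv.swap 0 1 * finRotate 3 ∨ a = Equiv.swap 0 1 * (finRotate 3 * finRotate 3) := by
  decide

theorem swap_sq : (Equiv.swap (0 : Fin 3) 1) * Equiv.swap 0 1 = 1 := by decide

theorem rot_cube : (finRotate 3) * (finRotate 3) * (finRotate 3) = 1 := by decide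

theorem rot_swap_rot : (finRotate 3) * (Equiv.swap (0 : Fin 3) 1) * finRotate 3 = Equiv.swap 0 1 := by
  decide

/-- Let the symmetric group of degree 3 act by automorphisms on a finite solvable group `G` of order prime to 6, so that only the identity of `G` is fixed by all of it. Then the derived subgroup of `G` is nilpotent. -/
theorem result {G : Type*} [Group G] [Finite G] [Group.IsSolvable G]
    [MulDistribMulAction (Equiv.Perm (Fin 3)) G] (hcop : (Nat.card G).Coprime 6)
    (hfpf : ∀ g : G, (∀ a : Equiv.Perm (Fin 3), a • g = g) → g = 1) :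
    Group.IsNilpotent ↥(commutator G) := by
  obtain ⟨α, hα⟩ : ∃ α : G ≃* G, ∀ x, α x = (Equiv.swap (0 : Fin 3) 1) • x :=
    ⟨MulDistribMulAction.toMulAut (Equiv.Perm (Fin 3)) G (Equiv.swap 0 1), fun _ => rfl⟩
  obtain ⟨β, hβ⟩ : ∃ β : G ≃* G, ∀ x, β x = (finRotate 3) • x :=
    ⟨MulDistribMulAction.toMulAut (Equiv.Perm (Fin 3)) G (finRotate 3), fun _ => rfl⟩
  refine Cfsg.Agent.Helper52.S3.commutator_isNilpotent_of_fpf_S3 (Nat.card G) G rfl inferInstance
    hcop α β ?_ ?_ ?_ ?_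
  · intro x
    rw [hα, hα, ← mul_smul, swap_sq, one_smul]
  · intro x
    rw [hβ, hβ, hβ, ← mul_smul, ← mul_smul, rot_cube, one_smul]
  · intro x
    rw [hβ, hα, hβ, ← mul_smul, ← mul_smul, rot_swap_rot, hα]
  · intro x hxα hxβ
    rw [hα] at hxα
    rw [hβ] at hxβ
    apply hfpf
    intro a
    rcases perm_cases a with h | h | h | h | h | h
    · rw [h, one_smul]
    · rw [h, hxα]
    · rw [h, hxβ]
    · rw [h, mul_smul, hxβ, hxβ]
    · rw [h, mul_smul, hxβ, hxα]
    · rw [h, mul_smul, mul_smul, hxβ, hxβ, hxα]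

end Cfsg.Agent.S4305
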