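import Cfsg.Statements.S4309
import Mathlib

set_option autoImplicit false
open Cfsg

namespace Cfsg.Agent.S4309

theorem relIndex_mul_card' {G : Type*} [Group G] {H K : Subgroup G} (h : H ≤ K) :
    H.relIndex K * Nat.card H = Nat.card K := by
  have e : Nat.card (H.subgroupOf K) = Nat.card H :=
    Nat.card_congr (Subgroup.subgroupOfEquivOfLe h).toEquiv
  rw [Subgroup.relIndex, ← e, mul_comm]
  exact Subgroup.card_mul_index _

theorem relIndex_dvd_index_of_normal_right {G : Type*} [Group G] [Finite G]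
    (H A : Subgroup G) [A.Normal] : H.relIndex A ∣ H.index := by
  have h1 : H.relIndex (H ⊔ A) ∣ H.index := Subgroup.relIndex_dvd_index_of_le le_sup_left
  have h2 : H.relIndex (H ⊔ A) = H.relIndex A := by
    have e1 : A.relIndex (H ⊔ A) = A.relIndex H := Subgroup.relIndex_sup_right H A
    have c1 := relIndex_mul_card' (H := H) (K := H ⊔ A) le_sup_left
    have c2 := relIndex_mul_card' (H := A) (K := H ⊔ A) le_sup_right
    have c3 := relIndex_mul_card' (H := H ⊓ A) (K := A) inf_le_right
    have c4 := relIndex_mul_card' (H := H ⊓ A) (K := H) inf_le_left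
    rw [Subgroup.inf_relIndex_right] at c3
    rw [Subgroup.inf_relIndex_left] at c4
    rw [e1] at c2
    have hpos : 0 < Nat.card H := Nat.card_pos
    have hpos2 : 0 < Nat.card (H ⊓ A : Subgroup G) := Nat.card_pos
    have : H.relIndex (H ⊔ A) * Nat.card H * Nat.card (H ⊓ A : Subgroup G)
        = H.relIndex A * Nat.card H * Nat.card (H ⊓ A : Subgroup G) := by
      calc H.relIndex (H ⊔ A) * Nat.card H * Nat.card (H ⊓ A : Subgroup G)
          = Nat.card (H ⊔ A : Subgroup G) * Nat.card (H ⊓ A : Subgroup G) := by rw [c1]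
        _ = A.relIndex H * Nat.card A * Nat.card (H ⊓ A : Subgroup G) := by rw [c2]
        _ = A.relIndex H * (H.relIndex A * Nat.card (H ⊓ A : Subgroup G)) * Nat.card (H ⊓ A : Subgroup G) := by rw [c3]
        _ = H.relIndex A * (A.relIndex H * Nat.card (H ⊓ A : Subgroup G)) * Nat.card (H ⊓ A : Subgroup G) := by ring
        _ = H.relIndex A * Nat.card H * Nat.card (H ⊓ A : Subgroup G) := by rw [c4]
    have := Nat.eq_of_mul_eq_mul_right hpos2 this
    exact Nat.eq_of_mul_eq_mul_right hpos this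
  rw [← h2]; exact h1

theorem result {G : Type*} [Group G] [Finite G] (π : Set ℕ)
    (H A : Subgroup G) [A.Normal] (hH : Cfsg.IsPiHall π H) :
    Cfsg.IsPiHall π ((H ⊓ A).subgroupOf A) ∧ Cfsg.IsPiHall π (H.map (QuotientGroup.mk' A)) := by
  obtain ⟨h1, h2⟩ := hH
  refine ⟨⟨?_, ?_⟩, ⟨?_, ?_⟩⟩
  · intro p hp hdvd
    apply h1 p hp
    have e : Nat.card ((H ⊓ A).subgroupOf A) = Nat.card (H ⊓ A : Subgroup G) :=
      Nat.card_congr (Subgroup.subgroupOfEquivOfLe inf_le_right).toEquiv
    rw [e] at hdvd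
    exact hdvd.trans (Subgroup.card_dvd_of_le inf_le_left)
  · intro p hp hpπ hdvd
    apply h2 p hp hpπ
    have : ((H ⊓ A).subgroupOf A).index = H.relIndex A := by
      rw [← Subgroup.relIndex, Subgroup.inf_relIndex_right]
    rw [this] at hdvd
    exact hdvd.trans (relIndex_dvd_index_of_normal_right H A)
  · intro p hp hdvd
    exact h1 p hp (hdvd.trans (Subgroup.card_map_dvd _ _))
  · intro p hp hpπ hdvd
    exact h2 p hp hpπ (hdvd.trans (Subgroup.index_map_dvd H (QuotientGroup.mk'_surjective A)))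

end Cfsg.Agent.S4309
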