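import Cfsg.Statements.S4314
import Mathlib
import Cfsg.Agent.Lib.Helper52.CoprimeSylow

set_option autoImplicit false
open Cfsg

namespace Cfsg.Agent.S4314

open Subgroup Cfsg.Agent.Helper52
open scoped commutatorElement

variable {G : Type*} [Group G]

/-- the base coset -/
abbrev o (M : Subgroup G) : G ⧸ M := ((1 : G) : G ⧸ M)

/-- `t` is transitive on the cosets of `M` -/
def Trans (M : Subgroup G) (t : G) : Prop := ∀ a : G ⧸ M, ∃ j : ℕ, t ^ j • o M = a

theorem mem_core_iff (M : Subgroup G) (k : G) :
    k ∈ M.normalCore ↔ ∀ a : G ⧸ M, k • a = a := by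
  rw [normalCore_eq_ker, MonoidHom.mem_ker]
  constructor
  · intro h a
    have := congrArg (fun σ : Equiv.Perm (G ⧸ M) => σ a) h
    simpa using this
  · intro h
    ext a
    simpa using h a

theorem Trans.exists_mul {M : Subgroup G} {t : G} (ht : Trans M t) (g : G) :
    ∃ j : ℕ, ∃ m ∈ M, g = t ^ j * m := by
  obtain ⟨j, hj⟩ := ht (g : G ⧸ M)
  have h1 : ((t ^ j * 1 : G) : G ⧸ M) = (g : G ⧸ M) := hj
  rw [mul_one, QuotientGroup.eq] at h1
  exact ⟨j, _, h1, by group⟩

/-- (B1) -/
theorem Trans.mem_core {M : Subgroup G} {t : G} (ht : Trans M t) (c : G)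
    (hc : c * t = t * c) (hcM : c ∈ M) : c ∈ M.normalCore := by
  rw [mem_core_iff]
  intro a
  obtain ⟨j, rfl⟩ := ht a
  have hcj : c * t ^ j = t ^ j * c := by
    have : Commute c t := hc
    exact (this.pow_right j).eq
  have hco : c • o M = o M := by
    show ((c * 1 : G) : G ⧸ M) = ((1 : G) : G ⧸ M)
    rw [mul_one, QuotientGroup.eq, mul_one]
    exact M.inv_mem hcM
  rw [← mul_smul, hcj, mul_smul, hco]

theorem Trans.mul_core {M : Subgroup G} {t : G} (ht : Trans M t) (k : G)
    (hk : k ∈ M.normalCore) : Trans M (t * k) := by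
  have hk' := (mem_core_iff M k).1 hk
  have key : ∀ (j : ℕ) (a : G ⧸ M), (t * k) ^ j • a = t ^ j • a := by
    intro j
    induction j with
    | zero => intro a; simp
    | succ j ih =>
      intro a
      rw [pow_succ, pow_succ, mul_smul, mul_smul, mul_smul, hk', ih]
  intro a
  obtain ⟨j, hj⟩ := ht a
  exact ⟨j, by rw [key, hj]⟩

section finite

variable [Finite G]

/-- (T3) a subgroup containing a transitive element is transitive: index computation -/
theorem Trans.relIndex_eq {M : Subgroup G} {t : G} (ht : Trans M t) (U : Subgroup G)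
    (htU : t ∈ U) : M.relIndex U = M.index := by
  rw [← relIndex_top_right M]
  apply relIndex_eq_of_forall_mul M U ⊤ le_top
  intro g _
  obtain ⟨j, m, hm, rfl⟩ := ht.exists_mul g
  exact ⟨t ^ j, U.pow_mem htU j, m, hm, rfl⟩

/-- (T4) -/
theorem Trans.core_le_centralizer {M : Subgroup G} {t : G} (ht : Trans M t)
    (hMn : ¬ M.Normal) (hr : ((centralizer ({t} : Set G)).index).Prime) :
    M.normalCore ≤ centralizer ({t} : Set G) ∧
      M.normalCore.index = M.index * (centralizer ({t} : Set G)).index := by
  set C := centralizer ({t} : Set G) with hC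
  set K := M.normalCore with hK
  have hKM : K ≤ M := normalCore_le M
  have htC : t ∈ C := by
    rw [hC, mem_centralizer_iff]
    intro y hy
    rw [Set.mem_singleton_iff] at hy
    rw [hy]
  have hCM : C ⊓ M ≤ K := by
    intro c hc
    obtain ⟨hcC, hcM⟩ := Subgroup.mem_inf.1 hc
    rw [hC, mem_centralizer_iff] at hcC
    exact ht.mem_core c (hcC t rfl).symm hcM
  have h1 : K ⊓ C = M ⊓ C := by
    apply le_antisymm
    · exact inf_le_inf_right C hKM
    · apply le_inf
      · rw [inf_comm]; exact hCM
      · exact inf_le_right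
  have h2 : K.relIndex C = M.index := by
    rw [← inf_relIndex_right, h1, inf_relIndex_right, ht.relIndex_eq C htC]
  have h3 : K.relIndex (C ⊔ K) = M.index := by
    rw [relIndex_sup_right, h2]
  have h4 : K.relIndex (C ⊔ K) * (C ⊔ K).index = K.index := relIndex_mul_index le_sup_right
  rw [h3] at h4
  have h5 : (C ⊔ K).index ∣ C.index := index_dvd_of_le le_sup_left
  rcases (Nat.dvd_prime hr).1 h5 with h6 | h6
  · exfalso
    rw [h6, mul_one] at h4
    have h7 : K.relIndex M * M.index = K.index := relIndex_mul_index hKM
    rw [← h4] at h7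
    have hMpos : M.index ≠ 0 := Subgroup.index_ne_zero_of_finite
    have h8 : K.relIndex M = 1 := by
      have : K.relIndex M * M.index = 1 * M.index := by rw [h7, one_mul]
      exact Nat.eq_of_mul_eq_mul_right (Nat.pos_of_ne_zero hMpos) this
    have h9 : M ≤ K := relIndex_eq_one.1 h8
    have : M = K := le_antisymm h9 hKM
    apply hMn
    rw [this]
    infer_instance
  · have h7 : C.relIndex (C ⊔ K) * (C ⊔ K).index = C.index := relIndex_mul_index le_sup_left
    rw [h6] at h7
    have hCpos : C.index ≠ 0 := Subgroup.index_ne_zero_of_finite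
    have h8 : C.relIndex (C ⊔ K) = 1 := by
      have : C.relIndex (C ⊔ K) * C.index = 1 * C.index := by rw [h7, one_mul]
      exact Nat.eq_of_mul_eq_mul_right (Nat.pos_of_ne_zero hCpos) this
    have h9 : C ⊔ K ≤ C := relIndex_eq_one.1 h8
    refine ⟨le_sup_right.trans h9, ?_⟩
    rw [← h4, h6]

/-- (A) existence of a transitive element when `M` has prime index -/
theorem exists_trans (M : Subgroup G) (p : ℕ) [hp : Fact p.Prime] (hMp : M.index = p) :
    ∃ t : G, Trans M t := by
  classical
  obtain ⟨P⟩ : Nonempty (Sylow p G) := inferInstance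
  set K := M.normalCore with hK
  have hKM : K ≤ M := normalCore_le M
  obtain ⟨t, htP, htK⟩ : ∃ t ∈ (P : Subgroup G), t ∉ K := by
    by_contra hcon
    push Not at hcon
    have h1 : (P : Subgroup G) ≤ K := hcon
    have h2 : M.index ∣ (P : Subgroup G).index := index_dvd_of_le (h1.trans hKM)
    rw [hMp] at h2
    exact P.not_dvd_index h2
  obtain ⟨a, ha⟩ : ∃ a : G ⧸ M, t • a ≠ a := by
    by_contra hcon
    push Not at hcon
    exact htK ((mem_core_iff M t).2 hcon)
  set U := zpowers t with hU
  set O := MulAction.orbit U a with hO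
  have htU : t ∈ U := mem_zpowers t
  -- card of the orbit
  have h1 : O.ncard ∣ Nat.card U := by
    rw [← MulAction.index_stabilizer]
    exact Subgroup.index_dvd_card _
  obtain ⟨e, he⟩ : ∃ e, Nat.card U = p ^ e := by
    have := P.2.to_le (show U ≤ P from by rw [hU, zpowers_le]; exact htP)
    exact IsPGroup.iff_card.1 this
  rw [he] at h1
  obtain ⟨i, _, hi⟩ := (Nat.dvd_prime_pow hp.out).1 h1
  have h2 : O.ncard ≤ p := by
    have := Set.ncard_le_card O
    rw [← hMp, index_eq_card]
    exact this
  have h3 : 1 < O.ncard := by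
    rw [Set.one_lt_ncard_iff]
    refine ⟨a, t • a, MulAction.mem_orbit_self a, ?_, fun h => ha h.symm⟩
    exact ⟨⟨t, htU⟩, rfl⟩
  have h4 : O.ncard = p := by
    rw [hi] at h2 h3 ⊢
    rcases i with _ | _ | i
    · simp at h3
    · simp
    · exfalso
      have : p ^ 2 ≤ p ^ (i + 1 + 1) := Nat.pow_le_pow_right hp.out.pos (by omega)
      have h5 := hp.out.one_lt
      nlinarith
  have h5 : O = Set.univ := by
    apply Set.eq_of_subset_of_ncard_le (Set.subset_univ _)
    rw [Set.ncard_univ, ← index_eq_card, hMp, h4]
  refine ⟨t, ?_⟩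
  intro b
  have hb : b ∈ O := by rw [h5]; trivial
  have ho : o M ∈ O := by rw [h5]; trivial
  obtain ⟨⟨z₁, hz₁⟩, hz₁'⟩ := hb
  obtain ⟨⟨z₂, hz₂⟩, hz₂'⟩ := ho
  have hz : z₁ * z₂⁻¹ ∈ zpowers t := U.mul_mem hz₁ (U.inv_mem hz₂)
  rw [← mem_powers_iff_mem_zpowers] at hz
  obtain ⟨j, hj⟩ := hz
  refine ⟨j, ?_⟩
  have e1 : z₁ • a = b := hz₁'
  have e2 : z₂ • a = o M := hz₂'
  have hj' : t ^ j = z₁ * z₂⁻¹ := hj
  rw [hj', ← e2, ← mul_smul, inv_mul_cancel_right, e1]

/-- Case I: all centralizers normal -/
theorem case_normal
    (h : ∀ x : G, (centralizer ({x} : Set G)).index = 1 ∨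
      ((centralizer ({x} : Set G)).index).Prime)
    (hn : ∀ x : G, (centralizer ({x} : Set G)).Normal) :
    Subgroup.upperCentralSeries G 2 = ⊤ := by
  have h1 : ∀ x : G, _root_.commutator G ≤ centralizer ({x} : Set G) := by
    intro x
    have _hnx := hn x
    rw [← Subgroup.Normal.quotient_commutative_iff_commutator_le]
    have hcard : Nat.card (G ⧸ centralizer ({x} : Set G)) = (centralizer ({x} : Set G)).index :=
      (index_eq_card _).symm
    rcases h x with h2 | h2
    · have : Subsingleton (G ⧸ centralizer ({x} : Set G)) := by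
        rw [← Finite.card_le_one_iff_subsingleton, hcard, h2]
      infer_instance
    · have _hf : Fact ((centralizer ({x} : Set G)).index).Prime := ⟨h2⟩
      have := isCyclic_of_prime_card hcard
      infer_instance
  have h2 : _root_.commutator G ≤ center G := by
    intro z hz
    rw [mem_center_iff]
    intro x
    have := h1 x hz
    rw [mem_centralizer_iff] at this
    exact this x rfl
  rw [eq_top_iff]
  intro x _
  rw [Subgroup.mem_upperCentralSeries_succ_iff]
  intro y
  rw [Subgroup.upperCentralSeries_one]
  apply h2
  rw [_root_.commutator_def]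
  exact commutator_mem_commutator (mem_top x) (mem_top y)

omit [Finite G] in
theorem mem_centralizer_singleton (x y : G) :
    y ∈ centralizer ({x} : Set G) ↔ x * y = y * x := by
  rw [mem_centralizer_iff]
  constructor
  · intro h; exact h x rfl
  · intro h z hz
    rw [Set.mem_singleton_iff] at hz
    rw [hz]; exact h

/-- Case II: some centralizer is not normal -/
theorem case_not_normal
    (h : ∀ x : G, (centralizer ({x} : Set G)).index = 1 ∨
      ((centralizer ({x} : Set G)).index).Prime)
    (x : G) (hx : ¬ (centralizer ({x} : Set G)).Normal) :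
    ∃ p q : ℕ, p.Prime ∧ q.Prime ∧ p ≠ q ∧ Nat.card (G ⧸ center G) = p * q ∧
      ¬ IsMulCommutative (G ⧸ center G) := by
  set M := centralizer ({x} : Set G) with hM
  have hidx : ∀ y : G, y ∉ center G → ((centralizer ({y} : Set G)).index).Prime := by
    intro y hy
    rcases h y with h1 | h1
    · exfalso
      apply hy
      rw [index_eq_one] at h1
      rw [mem_center_iff]
      intro g
      have : g ∈ centralizer ({y} : Set G) := by rw [h1]; trivial
      rw [mem_centralizer_singleton] at this
      exact this.symm
    · exact h1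
  have hZM : ∀ y : G, center G ≤ centralizer ({y} : Set G) := fun y => center_le_centralizer _
  have hxZ : x ∉ center G := by
    intro hxz
    apply hx
    have : M = ⊤ := by
      rw [eq_top_iff]
      intro g _
      rw [hM, mem_centralizer_singleton]
      exact ((mem_center_iff.1 hxz) g).symm
    rw [this]; infer_instance
  set p := M.index with hp
  have hpp : p.Prime := hidx x hxZ
  have _hpf : Fact p.Prime := ⟨hpp⟩
  obtain ⟨t, ht⟩ := exists_trans M p rfl
  set K := M.normalCore with hK
  have hKM : K ≤ M := normalCore_le M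
  have hZK : center G ≤ K := by
    intro z hz b
    have : b * z * b⁻¹ = z := by
      rw [(mem_center_iff.1 hz b), mul_inv_cancel_right]
    rw [this]
    exact hZM x hz
  -- t is not in M
  have htM : t ∉ M := by
    intro htM
    have htK : t ∈ K := ht.mem_core t rfl htM
    have h1 := (mem_core_iff M t).1 htK
    -- then everything is the base point, so index 1
    have h2 : ∀ a : G ⧸ M, a = o M := by
      intro a
      obtain ⟨j, rfl⟩ := ht a
      have : ∀ j : ℕ, t ^ j • o M = o M := by
        intro j
        induction j with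
        | zero => simp
        | succ j ih => rw [pow_succ, mul_smul, h1, ih]
      exact this j
    have h3 : M.index = 1 := by
      rw [index_eq_card, Nat.card_eq_one_iff_unique]
      exact ⟨⟨fun a b => by rw [h2 a, h2 b]⟩, ⟨o M⟩⟩
    exact hpp.one_lt.ne' h3
  have htZ : t ∉ center G := fun htz => htM (hZM x htz)
  -- every transitive element has K in its centralizer
  have hall : ∀ t' : G, Trans M t' → K ≤ centralizer ({t'} : Set G) ∧
      K.index = p * (centralizer ({t'} : Set G)).index := by
    intro t' ht'
    have ht'Z : t' ∉ center G := by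
      intro htz
      have h1 : t' ∈ K := hZK htz
      have h1' := (mem_core_iff M t').1 h1
      have h2 : ∀ a : G ⧸ M, a = o M := by
        intro a
        obtain ⟨j, rfl⟩ := ht' a
        have : ∀ j : ℕ, t' ^ j • o M = o M := by
          intro j
          induction j with
          | zero => simp
          | succ j ih => rw [pow_succ, mul_smul, h1', ih]
        exact this j
      have h3 : M.index = 1 := by
        rw [index_eq_card, Nat.card_eq_one_iff_unique]
        exact ⟨⟨fun a b => by rw [h2 a, h2 b]⟩, ⟨o M⟩⟩
      exact hpp.one_lt.ne' h3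
    exact ht'.core_le_centralizer hx (hidx t' ht'Z)
  obtain ⟨hKC, hKidx⟩ := hall t ht
  set r := (centralizer ({t} : Set G)).index with hr
  have hrp : r.Prime := hidx t htZ
  -- the subgroup T
  set T := zpowers t ⊔ K with hT
  have hTidx : T.index = r := by
    have h1 : K.relIndex T = p := by
      rw [hT, relIndex_sup_right]
      have h2 : K ⊓ zpowers t = M ⊓ zpowers t := by
        apply le_antisymm
        · exact inf_le_inf_right _ hKM
        · apply le_inf
          · intro c hc
            obtain ⟨hcM, hcU⟩ := Subgroup.mem_inf.1 hc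
            obtain ⟨n, rfl⟩ := mem_zpowers_iff.1 hcU
            exact ht.mem_core _ ((Commute.refl t).zpow_left n).eq hcM
          · exact inf_le_right
      rw [← inf_relIndex_right, h2, inf_relIndex_right, ht.relIndex_eq _ (mem_zpowers t)]
    have h3 : K.relIndex T * T.index = K.index := relIndex_mul_index le_sup_right
    rw [h1, hKidx] at h3
    exact Nat.eq_of_mul_eq_mul_left hpp.pos h3
  -- K is commutative and centralizes t: so any non-central k ∈ K has centralizer T
  have key : ∀ k ∈ K, k ∉ center G → centralizer ({k} : Set G) = T := by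
    intro k hk hkZ
    set D := centralizer ({k} : Set G) with hD
    have hTD : T ≤ D := by
      rw [hT]
      apply sup_le
      · rw [zpowers_le, hD, mem_centralizer_singleton]
        have := hKC hk
        rw [mem_centralizer_singleton] at this
        exact this.symm
      · intro k' hk'
        rw [hD, mem_centralizer_singleton]
        have h1 := (hall (t * k') (ht.mul_core k' hk')).1 hk
        rw [mem_centralizer_singleton] at h1
        have h2 := hKC hk
        rw [mem_centralizer_singleton] at h2
        -- h1 : t * k' * k = k * (t * k'),  h2 : t * k = k * t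
        have h3 : t * (k' * k) = t * (k * k') := by
          calc t * (k' * k) = t * k' * k := by group
            _ = k * (t * k') := h1
            _ = (k * t) * k' := by group
            _ = (t * k) * k' := by rw [h2]
            _ = t * (k * k') := by group
        exact (mul_left_cancel h3).symm
    have hDp : D.index.Prime := hidx k hkZ
    have h1 : D.index ∣ T.index := index_dvd_of_le hTD
    rw [hTidx] at h1
    have h2 : D.index = r := by
      rcases (Nat.dvd_prime hrp).1 h1 with h3 | h3
      · exact absurd h3 hDp.one_lt.ne'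
      · exact h3
    have h3 : T.relIndex D * D.index = T.index := relIndex_mul_index hTD
    rw [hTidx, h2] at h3
    have h4 : T.relIndex D = 1 := by
      have : T.relIndex D * r = 1 * r := by rw [h3, one_mul]
      exact Nat.eq_of_mul_eq_mul_right hrp.pos this
    exact le_antisymm (relIndex_eq_one.1 h4) hTD
  -- K ≤ Z(G)
  have hKZ : K ≤ center G := by
    by_contra hcon
    obtain ⟨k, hk, hkZ⟩ := SetLike.not_le_iff_exists.1 hcon
    have hD := key k hk hkZ
    -- x ∈ T
    have hxT : x ∈ T := by
      rw [← hD, mem_centralizer_singleton]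
      have := hKM hk
      rw [hM, mem_centralizer_singleton] at this
      exact this.symm
    -- x ∈ K
    have hxK : x ∈ K := by
      have hxT' : x ∈ ((zpowers t ⊔ K : Subgroup G) : Set G) := hxT
      rw [mul_normal] at hxT'
      obtain ⟨u, hu, k', hk', hx'⟩ := Set.mem_mul.1 hxT'
      have huM : u ∈ M := by
        have hxM : x ∈ M := by rw [hM, mem_centralizer_singleton]
        have : u = x * k'⁻¹ := by rw [← hx']; group
        rw [this]
        exact M.mul_mem hxM (M.inv_mem (hKM hk'))
      obtain ⟨n, rfl⟩ := mem_zpowers_iff.1 hu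
      have huK : t ^ n ∈ K := ht.mem_core _ ((Commute.refl t).zpow_left n).eq huM
      rw [← hx']
      exact K.mul_mem huK hk'
    have hMT := key x hxK hxZ
    apply htM
    rw [hM, hMT, hT]
    exact le_sup_left (a := zpowers t) (mem_zpowers t)
  have hKeq : K = center G := le_antisymm hKZ hZK
  have hcard : Nat.card (G ⧸ center G) = p * r := by
    rw [← index_eq_card, ← hKeq, hKidx]
  have hncomm : ¬ IsMulCommutative (G ⧸ center G) := by
    intro hc
    rw [Subgroup.Normal.quotient_commutative_iff_commutator_le] at hc
    apply hx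
    refine ⟨fun m hm g => ?_⟩
    have h1 : ⁅g, m⁆ ∈ _root_.commutator G := by
      rw [_root_.commutator_def]
      exact commutator_mem_commutator (mem_top g) (mem_top m)
    have h2 : ⁅g, m⁆ ∈ M := hZM x (hc h1)
    have h3 : g * m * g⁻¹ = ⁅g, m⁆ * m := by
      rw [commutatorElement_def]; group
    rw [h3]
    exact M.mul_mem h2 hm
  refine ⟨p, r, hpp, hrp, ?_, hcard, hncomm⟩
  intro hpr
  apply hncomm
  have h1 : Nat.card (G ⧸ center G) = p ^ 2 := by rw [hcard, ← hpr, pow_two]
  exact IsPGroup.isMulCommutative_of_card_eq_prime_sq h1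

end finite

/-- Let `G` be a finite group every conjugacy class of which has size 1 or a prime. Then either `G` is nilpotent of class at most 2, or `G/Z(G)` is a non-abelian group of order `pq` for distinct primes `p, q` (a Frobenius group of order `pq`). -/
theorem result {G : Type*} [Group G] [Finite G]
    (h : ∀ x : G, (Subgroup.centralizer ({x} : Set G)).index = 1 ∨ ((Subgroup.centralizer ({x} : Set G)).index).Prime) :
    Subgroup.upperCentralSeries G 2 = ⊤ ∨
      ∃ p q : ℕ, p.Prime ∧ q.Prime ∧ p ≠ q ∧ Nat.card (G ⧸ Subgroup.center G) = p * q ∧ ¬ IsMulCommutative (G ⧸ Subgroup.center G) := by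
  by_cases hn : ∀ x : G, (centralizer ({x} : Set G)).Normal
  · exact Or.inl (case_normal h hn)
  · push Not at hn
    obtain ⟨x, hx⟩ := hn
    exact Or.inr (case_not_normal h x hx)

end Cfsg.Agent.S4314
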