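import Cfsg.Statements.S4320
import Mathlib
import Cfsg.Agent.Lib.Helper70.Transfer

namespace Cfsg.Agent.S4320

set_option autoImplicit false
set_option linter.style.haveILetI false
open scoped commutatorElement

section Mod

variable {G : Type*} [Group G]

/-- the group ring of the abelianization -/
abbrev RR (G : Type*) [Group G] := MonoidAlgebra ℤ (Abelianization G)

/-- image of `g` in the group ring of the abelianization -/
noncomputable def ofb (g : G) : RR G := MonoidAlgebra.of ℤ (Abelianization G) (Abelianization.of g)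

theorem ofb_mul (g h : G) : ofb (g * h) = ofb g * ofb h := by
  unfold ofb; rw [map_mul, map_mul]

theorem ofb_one : ofb (1 : G) = 1 := by
  unfold ofb; rw [map_one, map_one]

theorem ofb_mul_inv (g : G) : ofb g * ofb g⁻¹ = 1 := by
  rw [← ofb_mul, mul_inv_cancel, ofb_one]

theorem ofb_inv_mul (g : G) : ofb g⁻¹ * ofb g = 1 := by
  rw [← ofb_mul, inv_mul_cancel, ofb_one]

theorem ofb_of_mem {a : G} (ha : a ∈ commutator G) : ofb a = 1 := by
  unfold ofb
  have : Abelianization.of a = 1 := (QuotientGroup.eq_one_iff a).mpr ha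
  rw [this, map_one]

/-- the defining relation -/
noncomputable def rel (g h : G) : G →₀ RR G :=
  Finsupp.single (g * h) 1 - Finsupp.single g (ofb h) - Finsupp.single h 1

/-- the relation submodule -/
noncomputable def KK (G : Type*) [Group G] : Submodule (RR G) (G →₀ RR G) :=
  Submodule.span (RR G) (Set.range fun p : G × G => rel p.1 p.2)

/-- the universal derivation -/
noncomputable def d (g : G) : (G →₀ RR G) ⧸ KK G := Submodule.Quotient.mk (Finsupp.single g 1)

theorem mk_single (g : G) (r : RR G) :
    (Submodule.Quotient.mk (Finsupp.single g r) : (G →₀ RR G) ⧸ KK G) = r • d g := by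
  unfold d
  rw [← Submodule.Quotient.mk_smul, Finsupp.smul_single, smul_eq_mul, mul_one]

theorem d_mul (g h : G) : d (g * h) = ofb h • d g + d h := by
  have h1 : rel g h ∈ KK G := Submodule.subset_span ⟨(g, h), rfl⟩
  have h2 := (Submodule.Quotient.mk_eq_zero (KK G)).mpr h1
  unfold rel at h2
  rw [Submodule.Quotient.mk_sub, Submodule.Quotient.mk_sub, mk_single, mk_single, mk_single, one_smul, one_smul, sub_sub, sub_eq_zero] at h2
  exact h2

theorem d_one : d (1 : G) = 0 := by
  have h := d_mul (1 : G) 1
  rw [mul_one, ofb_one, one_smul] at h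
  exact left_eq_add.mp h

theorem d_inv (g : G) : d g⁻¹ = -(ofb g⁻¹ • d g) := by
  have h := d_mul g g⁻¹
  rw [mul_inv_cancel, d_one] at h
  exact eq_neg_of_add_eq_zero_right h.symm

/-- the augmentation ideal -/
noncomputable def II (G : Type*) [Group G] : Ideal (RR G) :=
  Ideal.span (Set.range fun g : G => ofb g - 1)

theorem ofb_sub_one_mem (g : G) : ofb g - 1 ∈ II G := Ideal.subset_span ⟨g, rfl⟩

/-- elements with `d g ∈ I M` -/
noncomputable def TT (G : Type*) [Group G] : Subgroup G where
  carrier := {g | d g ∈ II G • (⊤ : Submodule (RR G) ((G →₀ RR G) ⧸ KK G))}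
  mul_mem' := by
    intro a b ha hb
    simp only [Set.mem_ofPred_eq] at ha hb ⊢
    rw [d_mul]
    exact Submodule.add_mem _ (Submodule.smul_mem _ _ ha) hb
  one_mem' := by
    simp only [Set.mem_ofPred_eq]
    rw [d_one]; exact Submodule.zero_mem _
  inv_mem' := by
    intro a ha
    simp only [Set.mem_ofPred_eq] at ha ⊢
    rw [d_inv]
    exact Submodule.neg_mem _ (Submodule.smul_mem _ _ ha)

theorem commutator_le_TT : commutator G ≤ TT G := by
  rw [commutator_eq_closure, Subgroup.closure_le]
  rintro c ⟨x, y, rfl⟩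
  change d ⁅x, y⁆ ∈ II G • (⊤ : Submodule (RR G) ((G →₀ RR G) ⧸ KK G))
  have h1 : ⁅x, y⁆ * (y * x) = x * y := by
    rw [commutatorElement_def]; group
  have h2 : d (⁅x, y⁆ * (y * x)) = d (x * y) := by rw [h1]
  rw [d_mul, d_mul x y, d_mul y x] at h2
  have h3 : ofb (y * x) • d ⁅x, y⁆ = (ofb y - 1) • d x - (ofb x - 1) • d y := by
    have : ofb (y * x) • d ⁅x, y⁆ = ofb y • d x + d y - (ofb x • d y + d x) :=
      eq_sub_of_add_eq h2
    rw [this, sub_smul, sub_smul, one_smul, one_smul]; abel
  have h4 : d ⁅x, y⁆ = ofb (y * x)⁻¹ • (ofb (y * x) • d ⁅x, y⁆) := by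
    rw [smul_smul, ofb_inv_mul, one_smul]
  rw [h4, h3]
  refine Submodule.smul_mem _ _ (Submodule.sub_mem _ ?_ ?_)
  · exact Submodule.smul_mem_smul (ofb_sub_one_mem y) Submodule.mem_top
  · exact Submodule.smul_mem_smul (ofb_sub_one_mem x) Submodule.mem_top

theorem d_mem_of_commutator {a : G} (ha : a ∈ commutator G) :
    d a ∈ II G • (⊤ : Submodule (RR G) ((G →₀ RR G) ⧸ KK G)) :=
  commutator_le_TT ha

end Mod

section Aug

variable {G : Type*} [Group G]

/-- the augmentation -/
noncomputable def eps (G : Type*) [Group G] : RR G →+* ℤ :=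
  (MonoidAlgebra.lift ℤ ℤ (Abelianization G) (1 : Abelianization G →* ℤ)).toRingHom

theorem eps_of (σ : Abelianization G) : eps G (MonoidAlgebra.of ℤ (Abelianization G) σ) = 1 := by
  unfold eps
  change (MonoidAlgebra.lift ℤ ℤ (Abelianization G) (1 : Abelianization G →* ℤ))
    (MonoidAlgebra.of ℤ (Abelianization G) σ) = 1
  rw [MonoidAlgebra.lift_of]; rfl

theorem eps_ofb (g : G) : eps G (ofb g) = 1 := eps_of _

theorem eps_eq_zero_of_mem {r : RR G} (hr : r ∈ II G) : eps G r = 0 := by
  have : II G ≤ RingHom.ker (eps G) := by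
    unfold II
    rw [Ideal.span_le]
    rintro _ ⟨g, rfl⟩
    change eps G (ofb g - 1) = 0
    rw [map_sub, eps_ofb, map_one, sub_self]
  exact this hr

/-- the canonical map to the augmentation ideal, on the free module -/
noncomputable def piF (G : Type*) [Group G] : (G →₀ RR G) →ₗ[RR G] RR G :=
  Finsupp.linearCombination (RR G) (fun g : G => ofb g - 1)

theorem KK_le_ker_piF : KK G ≤ LinearMap.ker (piF G) := by
  unfold KK
  rw [Submodule.span_le]
  rintro _ ⟨⟨g, h⟩, rfl⟩
  change piF G (rel g h) = 0
  unfold rel piF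
  rw [map_sub, map_sub, Finsupp.linearCombination_single, Finsupp.linearCombination_single,
    Finsupp.linearCombination_single, ofb_mul, smul_eq_mul, smul_eq_mul, smul_eq_mul]
  ring

/-- the canonical map to the augmentation ideal -/
noncomputable def piM (G : Type*) [Group G] : ((G →₀ RR G) ⧸ KK G) →ₗ[RR G] RR G :=
  (KK G).liftQ (piF G) KK_le_ker_piF

theorem piM_d (g : G) : piM G (d g) = ofb g - 1 := by
  unfold piM d
  rw [Submodule.liftQ_apply]
  unfold piF
  rw [Finsupp.linearCombination_single, one_smul]

end Aug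

section DetTrick

theorem det_trick {R M ι : Type*} [CommRing R] [AddCommGroup M] [Module R M] [Fintype ι]
    [DecidableEq ι] (x : ι → M) (μ : Matrix ι ι R) (h : ∀ j, ∑ k, μ k j • x k = 0) (l : ι) :
    μ.det • x l = 0 := by
  calc μ.det • x l = ∑ k, ((μ * μ.adjugate) k l) • x k := by
        rw [Matrix.mul_adjugate]
        simp [Matrix.smul_apply, Matrix.one_apply, ite_smul]
    _ = ∑ k, ∑ j, (μ k j * μ.adjugate j l) • x k := by
        simp [Matrix.mul_apply, Finset.sum_smul]
    _ = ∑ j, μ.adjugate j l • ∑ k, μ k j • x k := by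
        rw [Finset.sum_comm]
        simp [Finset.smul_sum, smul_smul, mul_comm]
    _ = 0 := by simp [h]

end DetTrick

section Norm

variable {G : Type*} [Group G] [Finite G]

/-- the norm element -/
noncomputable def Nelt (G : Type*) [Group G] [Finite G] : RR G :=
  MonoidAlgebra.ofCoeff (Finsupp.equivFunOnFinite.symm (fun _ => (1 : ℤ)))

theorem Nelt_coeff (τ : Abelianization G) : (Nelt G).coeff τ = 1 := by
  unfold Nelt
  simp

theorem Nelt_eq_sum [Fintype (Abelianization G)] :
    Nelt G = ∑ τ : Abelianization G, MonoidAlgebra.of ℤ (Abelianization G) τ := by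
  classical
  apply MonoidAlgebra.ext
  apply Finsupp.ext
  intro ρ
  rw [Nelt_coeff, MonoidAlgebra.coeff_sum, Finsupp.finset_sum_apply]
  simp [MonoidAlgebra.of_apply, MonoidAlgebra.coeff_single, Finsupp.single_apply]

theorem eps_Nelt : eps G (Nelt G) = (Nat.card (Abelianization G) : ℤ) := by
  classical
  letI : Fintype (Abelianization G) := Fintype.ofFinite _
  rw [Nelt_eq_sum, map_sum, Finset.sum_congr rfl (fun τ _ => eps_of τ)]
  simp [Nat.card_eq_fintype_card]

theorem eq_Nelt_of_fixed (D : RR G)
    (h : ∀ σ : Abelianization G, D * MonoidAlgebra.of ℤ (Abelianization G) σ = D)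
    (he : eps G D = (Nat.card (Abelianization G) : ℤ)) : D = Nelt G := by
  have h1 : ∀ τ : Abelianization G, D.coeff τ = D.coeff 1 := by
    intro τ
    have h2 := congrArg (fun r : RR G => r.coeff τ) (h τ)
    simp only [MonoidAlgebra.of_apply, MonoidAlgebra.coeff_mul_single_apply, mul_inv_cancel,
      mul_one] at h2
    exact h2.symm
  have h3 : D = (D.coeff 1) • Nelt G := by
    apply MonoidAlgebra.ext
    apply Finsupp.ext
    intro τ
    rw [MonoidAlgebra.coeff_smul, Finsupp.smul_apply, Nelt_coeff, h1 τ, smul_eq_mul, mul_one]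
  have h4 : eps G D = D.coeff 1 * (Nat.card (Abelianization G) : ℤ) := by
    conv_lhs => rw [h3]
    rw [map_zsmul, eps_Nelt, smul_eq_mul]
  have h5 : (Nat.card (Abelianization G) : ℤ) ≠ 0 := by
    exact_mod_cast Nat.card_pos.ne'
  have h6 : D.coeff 1 = 1 := by
    rw [he] at h4
    have : (1 : ℤ) * (Nat.card (Abelianization G) : ℤ) = D.coeff 1 * (Nat.card (Abelianization G) : ℤ) := by
      rw [one_mul]; exact h4
    exact (mul_right_cancel₀ h5 this).symm
  rw [h3, h6, one_smul]

end Norm

section Basis

theorem exists_basis (A : Type*) [CommGroup A] [Finite A] :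
    ∃ (ι : Type) (_ : Fintype ι) (n : ι → ℕ) (σ : ι → A), (∀ i, σ i ^ n i = 1) ∧
      (∏ i, n i = Nat.card A) ∧ ∀ S : Subgroup A, (∀ i, σ i ∈ S) → S = ⊤ := by
  classical
  obtain ⟨ι, hι, n, hn, ⟨e⟩⟩ := CommGroup.equiv_prod_multiplicative_zmod_of_finite A
  refine ⟨ι, hι, n,
    fun i => e.symm (Pi.mulSingle i (Multiplicative.ofAdd (1 : ZMod (n i)))), ?_, ?_, ?_⟩
  · intro i
    rw [← map_pow, ← Pi.mulSingle_pow, ← ofAdd_nsmul, nsmul_one, ZMod.natCast_self, ofAdd_zero,
      Pi.mulSingle_one, map_one]
  · rw [Nat.card_congr e.toEquiv, Nat.card_pi]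
    refine Finset.prod_congr rfl (fun i _ => ?_)
    rw [Nat.card_congr (Multiplicative.toAdd (α := ZMod (n i))), Nat.card_zmod]
  · intro S hS
    rw [eq_top_iff]
    intro y _
    have h1 : y = ∏ i, e.symm (Pi.mulSingle i (e y i)) := by
      rw [← map_prod, Finset.univ_prod_mulSingle, MulEquiv.symm_apply_apply]
    rw [h1]
    refine Subgroup.prod_mem _ (fun i _ => ?_)
    haveI : NeZero (n i) := NeZero.of_gt (hn i)
    have h2 : e y i = (Multiplicative.ofAdd (1 : ZMod (n i))) ^ (Multiplicative.toAdd (e y i)).val := by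
      rw [← ofAdd_nsmul, nsmul_one, ZMod.natCast_zmod_val, ofAdd_toAdd]
    rw [h2, Pi.mulSingle_pow, map_pow]
    exact Subgroup.pow_mem _ (hS i) _

end Basis

section Main

variable {G : Type*} [Group G]

theorem ofb_pow (s : G) (k : ℕ) : ofb (s ^ k) = ofb s ^ k := by
  unfold ofb; rw [map_pow, map_pow]

theorem d_pow (s : G) (k : ℕ) : d (s ^ k) = (∑ j ∈ Finset.range k, ofb s ^ j) • d s := by
  induction k with
  | zero => simp [d_one]
  | succ k ih =>
    calc d (s ^ (k + 1)) = ofb s • d (s ^ k) + d s := by rw [pow_succ, d_mul]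
      _ = (ofb s * ∑ j ∈ Finset.range k, ofb s ^ j + 1) • d s := by
        rw [ih, add_smul, one_smul, smul_smul]
      _ = _ := by
        congr 1
        rw [Finset.sum_range_succ', pow_zero, Finset.mul_sum]
        congr 1
        exact Finset.sum_congr rfl (fun j _ => (pow_succ' _ _).symm)

theorem geom_sub_mem (s : G) (k : ℕ) :
    (∑ j ∈ Finset.range k, ofb s ^ j) - (k : RR G) ∈ II G := by
  have h : (∑ j ∈ Finset.range k, ofb s ^ j) - (k : RR G) =
      ∑ j ∈ Finset.range k, (ofb (s ^ j) - 1) := by
    rw [Finset.sum_sub_distrib]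
    simp [ofb_pow]
  rw [h]
  exact Ideal.sum_mem _ (fun j _ => ofb_sub_one_mem _)

theorem Nelt_smul_d [Finite G] (g : G) : Nelt G • d g = 0 := by
  classical
  obtain ⟨ι, hι, n, σ, hpow, hcard, hgen⟩ := exists_basis (Abelianization G)
  have hsurj : Function.Surjective (Abelianization.of : G →* Abelianization G) :=
    QuotientGroup.mk_surjective
  choose s hs using fun i => hsurj (σ i)
  letI : Fintype ↥(commutator G) := Fintype.ofFinite _
  obtain ⟨x, hxl, hxr⟩ : ∃ x : ι ⊕ ↥(commutator G) → ((G →₀ RR G) ⧸ KK G),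
      (∀ i, x (Sum.inl i) = d (s i)) ∧ (∀ a, x (Sum.inr a) = d (a : G)) :=
    ⟨Sum.elim (fun i => d (s i)) (fun a => d (a : G)), fun _ => rfl, fun _ => rfl⟩
  obtain ⟨e', hel, her⟩ : ∃ e' : ι ⊕ ↥(commutator G) → ℕ,
      (∀ i, e' (Sum.inl i) = n i) ∧ (∀ a, e' (Sum.inr a) = 1) :=
    ⟨Sum.elim n (fun _ => 1), fun _ => rfl, fun _ => rfl⟩
  -- the family spans
  have hspan : Submodule.span (RR G) (Set.range x) = ⊤ := by
    let T : Subgroup G :=
      { carrier := {g | d g ∈ Submodule.span (RR G) (Set.range x)}
        mul_mem' := by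
          intro a b ha hb
          simp only [Set.mem_ofPred_eq] at ha hb ⊢
          rw [d_mul]
          exact Submodule.add_mem _ (Submodule.smul_mem _ _ ha) hb
        one_mem' := by
          simp only [Set.mem_ofPred_eq]
          rw [d_one]; exact Submodule.zero_mem _
        inv_mem' := by
          intro a ha
          simp only [Set.mem_ofPred_eq] at ha ⊢
          rw [d_inv]
          exact Submodule.neg_mem _ (Submodule.smul_mem _ _ ha) }
    have hT1 : commutator G ≤ T := by
      intro a ha
      change d a ∈ Submodule.span (RR G) (Set.range x)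
      exact Submodule.subset_span ⟨Sum.inr ⟨a, ha⟩, hxr ⟨a, ha⟩⟩
    have hT2 : ∀ i, s i ∈ T := by
      intro i
      change d (s i) ∈ Submodule.span (RR G) (Set.range x)
      exact Submodule.subset_span ⟨Sum.inl i, hxl i⟩
    have hT3 : T.map (Abelianization.of) = ⊤ := hgen _ (fun i => ⟨s i, hT2 i, hs i⟩)
    have hT4 : ∀ g : G, d g ∈ Submodule.span (RR G) (Set.range x) := by
      intro g
      have h0 : Abelianization.of g ∈ T.map Abelianization.of := by rw [hT3]; trivial
      obtain ⟨t, ht, htg⟩ := h0
      have h1 : t⁻¹ * g ∈ commutator G := QuotientGroup.eq.mp htg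
      have h2 : g = t * (t⁻¹ * g) := by group
      have h3 : g ∈ T := by rw [h2]; exact T.mul_mem ht (hT1 h1)
      exact h3
    rw [eq_top_iff]
    rintro m -
    obtain ⟨f, rfl⟩ := Submodule.Quotient.mk_surjective _ m
    induction f using Finsupp.induction_linear with
    | zero => rw [Submodule.Quotient.mk_zero]; exact Submodule.zero_mem _
    | add f g hf hg => rw [Submodule.Quotient.mk_add]; exact Submodule.add_mem _ hf hg
    | single g r => rw [mk_single]; exact Submodule.smul_mem _ _ (hT4 g)
  -- e' j • x j ∈ I M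
  have hmem : ∀ j, (e' j : RR G) • x j ∈ II G • Submodule.span (RR G) (Set.range x) := by
    intro j
    rw [hspan]
    rcases j with i | a
    · rw [hel, hxl]
      have h0 : Abelianization.of (s i ^ n i) = 1 := by rw [map_pow, hs, hpow]
      have h1 : s i ^ n i ∈ commutator G := (QuotientGroup.eq_one_iff _).mp h0
      have h2 := d_mem_of_commutator h1
      rw [d_pow] at h2
      have h3 := geom_sub_mem (s i) (n i)
      have h4 : ((n i : ℕ) : RR G) • d (s i) = (∑ j ∈ Finset.range (n i), ofb (s i) ^ j) • d (s i)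
          - ((∑ j ∈ Finset.range (n i), ofb (s i) ^ j) - (n i : RR G)) • d (s i) := by
        rw [sub_smul]; abel
      rw [h4]
      exact Submodule.sub_mem _ h2 (Submodule.smul_mem_smul h3 Submodule.mem_top)
    · rw [her, hxr, Nat.cast_one, one_smul]
      exact d_mem_of_commutator a.2
  choose c hc1 hc2 using fun j =>
    (Submodule.mem_ideal_smul_span_iff_exists_sum (II G) x _).mp (hmem j)
  have hc2' : ∀ j, ∑ k, c j k • x k = (e' j : RR G) • x j := by
    intro j
    rw [← hc2 j, Finsupp.sum_fintype]
    intro k; exact zero_smul _ _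
  obtain ⟨μ, hμ⟩ : ∃ μ : Matrix (ι ⊕ ↥(commutator G)) (ι ⊕ ↥(commutator G)) (RR G),
      ∀ k j, μ k j = (if k = j then (e' j : RR G) else 0) - c j k :=
    ⟨fun k j => (if k = j then (e' j : RR G) else 0) - c j k, fun _ _ => rfl⟩
  have hrel : ∀ j, ∑ k, μ k j • x k = 0 := by
    intro j
    simp only [hμ, sub_smul, Finset.sum_sub_distrib, ite_smul, zero_smul, Finset.sum_ite_eq',
      Finset.mem_univ, if_true, hc2', sub_self]
  have hdet := det_trick x μ hrel
  have heps : eps G μ.det = (Nat.card (Abelianization G) : ℤ) := by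
    have hmap : (eps G).mapMatrix μ = Matrix.diagonal (fun j => (e' j : ℤ)) := by
      ext k j
      rw [RingHom.mapMatrix_apply, Matrix.map_apply, Matrix.diagonal_apply, hμ, map_sub,
        eps_eq_zero_of_mem (hc1 j k), sub_zero]
      split_ifs with h
      · rw [map_natCast, h]
      · rw [map_zero]
    rw [RingHom.map_det, hmap, Matrix.det_diagonal, Fintype.prod_sum_type]
    simp only [hel, her, Nat.cast_one, Finset.prod_const_one, mul_one]
    rw [← hcard, Nat.cast_prod]
  have hfix : ∀ τ : Abelianization G, μ.det * MonoidAlgebra.of ℤ (Abelianization G) τ = μ.det := by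
    let S : Subgroup (Abelianization G) :=
      { carrier := {τ | μ.det * MonoidAlgebra.of ℤ (Abelianization G) τ = μ.det}
        mul_mem' := by
          intro a b ha hb
          simp only [Set.mem_ofPred_eq] at ha hb ⊢
          rw [map_mul, ← mul_assoc, ha, hb]
        one_mem' := by
          simp only [Set.mem_ofPred_eq]
          rw [map_one, mul_one]
        inv_mem' := by
          intro a ha
          simp only [Set.mem_ofPred_eq] at ha ⊢
          conv_lhs => rw [← ha]
          rw [mul_assoc, ← map_mul, mul_inv_cancel, map_one, mul_one] }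
    have hS : ∀ i, σ i ∈ S := by
      intro i
      change μ.det * MonoidAlgebra.of ℤ (Abelianization G) (σ i) = μ.det
      have h1 := hdet (Sum.inl i)
      rw [hxl] at h1
      have h2 := congrArg (piM G) h1
      rw [map_smul, piM_d, map_zero, smul_eq_mul, mul_sub, mul_one, sub_eq_zero] at h2
      unfold ofb at h2
      rw [hs] at h2
      exact h2
    have hS' := hgen S hS
    intro τ
    have : τ ∈ S := by rw [hS']; trivial
    exact this
  have hD : μ.det = Nelt G := eq_Nelt_of_fixed _ hfix heps
  have hle : Submodule.span (RR G) (Set.range x) ≤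
      LinearMap.ker (LinearMap.lsmul (RR G) ((G →₀ RR G) ⧸ KK G) (Nelt G)) := by
    rw [Submodule.span_le]
    rintro _ ⟨l, rfl⟩
    change LinearMap.lsmul (RR G) ((G →₀ RR G) ⧸ KK G) (Nelt G) (x l) = 0
    rw [LinearMap.lsmul_apply, ← hD]
    exact hdet l
  have hg : d g ∈ Submodule.span (RR G) (Set.range x) := by rw [hspan]; trivial
  have := hle hg
  rw [LinearMap.mem_ker, LinearMap.lsmul_apply] at this
  exact this

end Main

section Phi

variable {G : Type*} [Group G]

/-- coset representative -/
noncomputable def rep (σ : Abelianization G) : G := Quotient.out (σ : G ⧸ commutator G)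

theorem of_rep (σ : Abelianization G) : Abelianization.of (rep σ) = σ :=
  QuotientGroup.out_eq' (σ : G ⧸ commutator G)

/-- the `commutator G`-part of `y` with respect to the transversal `rep` -/
noncomputable def theta (y : G) : Abelianization ↥(commutator G) :=
  Helper70.extHom (Abelianization.of : ↥(commutator G) →* Abelianization ↥(commutator G))
    ((rep (Abelianization.of y))⁻¹ * y)

theorem rep_inv_mul_mem (y : G) : (rep (Abelianization.of y))⁻¹ * y ∈ commutator G :=
  QuotientGroup.eq.mp (of_rep (Abelianization.of y))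

theorem theta_mul_mem (y : G) {a : G} (ha : a ∈ commutator G) :
    theta (y * a) = theta y * Abelianization.of (⟨a, ha⟩ : ↥(commutator G)) := by
  have ha' : Abelianization.of a = 1 := (QuotientGroup.eq_one_iff a).mpr ha
  have h1 : Abelianization.of (y * a) = Abelianization.of y := by
    rw [map_mul, ha', mul_one]
  unfold theta
  rw [h1, ← mul_assoc, Helper70.extHom_mul _ (rep_inv_mul_mem y) ha, Helper70.extHom_of_mem _ ha]

theorem theta_key (g h : G) (σ : Abelianization G) :
    theta (g * h * rep σ) = theta (g * rep (σ * Abelianization.of h)) * theta (h * rep σ) := by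
  have h1 : Abelianization.of (h * rep σ) = σ * Abelianization.of h := by
    rw [map_mul, of_rep, mul_comm]
  have hb := rep_inv_mul_mem (h * rep σ)
  rw [h1] at hb
  have h2 : g * h * rep σ = g * rep (σ * Abelianization.of h) *
      ((rep (σ * Abelianization.of h))⁻¹ * (h * rep σ)) := by group
  rw [h2, theta_mul_mem _ hb]
  congr 1
  unfold theta
  rw [h1, Helper70.extHom_of_mem _ hb]

/-- the additive retraction -/
noncomputable def Phi (G : Type*) [Group G] :
    (G →₀ RR G) →+ Additive (Abelianization ↥(commutator G)) :=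
  Finsupp.liftAddHom (fun g : G =>
    (Finsupp.liftAddHom (fun σ : Abelianization G =>
      (zmultiplesHom (Additive (Abelianization ↥(commutator G))))
        (Additive.ofMul (theta (g * rep σ))))).comp
      (MonoidAlgebra.coeffAddEquiv (R := ℤ) (M := Abelianization G)).toAddMonoidHom)

theorem Phi_single (g : G) (σ : Abelianization G) (z : ℤ) :
    Phi G (Finsupp.single g (MonoidAlgebra.single σ z)) =
      z • Additive.ofMul (theta (g * rep σ)) := by
  unfold Phi
  rw [Finsupp.liftAddHom_apply_single, AddMonoidHom.comp_apply]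
  change (Finsupp.liftAddHom _) ((MonoidAlgebra.single σ z).coeff) = _
  rw [MonoidAlgebra.coeff_single, Finsupp.liftAddHom_apply_single, zmultiplesHom_apply]

theorem Phi_of_smul_rel (σ : Abelianization G) (g h : G) :
    Phi G (MonoidAlgebra.of ℤ (Abelianization G) σ • rel g h) = 0 := by
  have e1 : MonoidAlgebra.of ℤ (Abelianization G) σ • rel g h =
      Finsupp.single (g * h) (MonoidAlgebra.single σ (1 : ℤ))
        - Finsupp.single g (MonoidAlgebra.single (σ * Abelianization.of h) (1 : ℤ))
        - Finsupp.single h (MonoidAlgebra.single σ (1 : ℤ)) := by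
    unfold rel ofb
    rw [smul_sub, smul_sub, Finsupp.smul_single, Finsupp.smul_single, Finsupp.smul_single]
    simp only [smul_eq_mul, mul_one]
    rw [← map_mul, MonoidAlgebra.of_apply, MonoidAlgebra.of_apply]
  rw [e1, map_sub, map_sub, Phi_single, Phi_single, Phi_single, one_smul, one_smul, one_smul,
    theta_key, ofMul_mul]
  abel

theorem Phi_smul_eq_zero_of_mem {f : G →₀ RR G} (hf : f ∈ KK G) :
    ∀ r : RR G, Phi G (r • f) = 0 := by
  unfold KK at hf
  induction hf using Submodule.span_induction with
  | mem f hf =>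
    obtain ⟨⟨g, h⟩, rfl⟩ := hf
    intro r
    induction r using MonoidAlgebra.induction_on with
    | of σ => exact Phi_of_smul_rel σ g h
    | add r r' hr hr' => rw [add_smul, map_add, hr, hr', add_zero]
    | smul z r hr => rw [smul_assoc, map_zsmul, hr, smul_zero]
  | zero => intro r; rw [smul_zero, map_zero]
  | add f f' _ _ hf hf' => intro r; rw [smul_add, map_add, hf r, hf' r, add_zero]
  | smul r' f _ hf => intro r; rw [smul_smul]; exact hf _

theorem Phi_eq_zero_of_mem {f : G →₀ RR G} (hf : f ∈ KK G) : Phi G f = 0 := by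
  have := Phi_smul_eq_zero_of_mem hf 1
  rwa [one_smul] at this

theorem Phi_single_Nelt [Finite G] [Fintype (Abelianization G)] (g : G) :
    Phi G (Finsupp.single g (Nelt G)) =
      Additive.ofMul (∏ τ : Abelianization G, theta (g * rep τ)) := by
  have h1 : Finsupp.single g (Nelt G) =
      ∑ τ : Abelianization G, Finsupp.single g (MonoidAlgebra.single τ (1 : ℤ)) := by
    rw [Nelt_eq_sum]
    simp only [MonoidAlgebra.of_apply]
    exact map_sum (Finsupp.singleAddHom (M := RR G) g) _ Finset.univ
  rw [h1, map_sum, ofMul_prod]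
  refine Finset.sum_congr rfl (fun τ _ => ?_)
  rw [Phi_single, one_smul]

/-- type cast -/
def toQ (τ : Abelianization G) : G ⧸ commutator G := τ

/-- type cast -/
def toAb (c : G ⧸ commutator G) : Abelianization G := c

theorem smul_eq (g : G) (c : G ⧸ commutator G) :
    g • c = toQ (Abelianization.of g * toAb c) := by
  induction c using QuotientGroup.induction_on with
  | H x => rfl

theorem theta_term (g : G) (τ : Abelianization G) :
    theta (g * rep (Abelianization.of g⁻¹ * τ)) =
      Helper70.extHom (Abelianization.of : ↥(commutator G) →* Abelianization ↥(commutator G))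
        ((Quotient.out (toQ τ))⁻¹ * g * Quotient.out (g⁻¹ • toQ τ)) := by
  have h2 : Abelianization.of (g * rep (Abelianization.of g⁻¹ * τ)) = τ := by
    rw [map_mul, of_rep, ← mul_assoc, ← map_mul, mul_inv_cancel, map_one, one_mul]
  have h3 : (g⁻¹ • toQ τ) = toQ (Abelianization.of g⁻¹ * τ) := smul_eq g⁻¹ (toQ τ)
  unfold theta
  rw [h2, h3, ← mul_assoc]
  rfl

theorem transfer_eq [Finite G] [Fintype (Abelianization G)] (g : G) :
    MonoidHom.transfer
      (Abelianization.of : ↥(commutator G) →* Abelianization ↥(commutator G)) g =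
      ∏ τ : Abelianization G, theta (g * rep τ) := by
  letI : Fintype (G ⧸ commutator G) := ‹Fintype (Abelianization G)›
  have h := Helper70.transfer_eq_prod_out (H := commutator G)
    (Abelianization.of : ↥(commutator G) →* Abelianization ↥(commutator G)) g
  refine h.trans ?_
  have h5 : ∏ τ : Abelianization G, theta (g * rep τ) =
      ∏ τ : Abelianization G, theta (g * rep (Abelianization.of g⁻¹ * τ)) :=
    (Equiv.prod_comp (Equiv.mulLeft (Abelianization.of g⁻¹ : Abelianization G))
      (fun τ => theta (g * rep τ))).symm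
  rw [h5]
  exact (Finset.prod_congr rfl (fun τ _ => (theta_term g τ))).symm

end Phi

/-- The Principal Ideal Theorem of class field theory in its group-theoretic form: for every finite group `G`, the transfer homomorphism from `G` into the abelianization `G'/G''` of its derived subgroup `G'` is the trivial homomorphism. -/
theorem result {G : Type*} [Group G] [Finite G] :
    MonoidHom.transfer (Abelianization.of : ↥(commutator G) →* Abelianization ↥(commutator G)) =
      (1 : G →* Abelianization ↥(commutator G)) := by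
  ext g
  rw [MonoidHom.one_apply]
  classical
  letI : Fintype (Abelianization G) := Fintype.ofFinite _
  have h1 : Finsupp.single g (Nelt G) ∈ KK G := by
    have h0 := Nelt_smul_d g
    rw [← mk_single] at h0
    exact (Submodule.Quotient.mk_eq_zero _).mp h0
  have h2 := Phi_eq_zero_of_mem h1
  rw [Phi_single_Nelt] at h2
  rw [transfer_eq]
  exact ofMul_eq_zero.mp h2

end Cfsg.Agent.S4320
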