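import Cfsg.Statements.S4321
import Cfsg.Agent.Lib.Helper55.PSingular

set_option autoImplicit false
open Cfsg

namespace Cfsg.Agent.S4321

open Cfsg.Agent.Helper55.PSingular

/-- Let `G` be a finite group and `p` a prime not dividing the order of the centre of `G`. Consider the primes dividing the size of some conjugacy class of a `p`-singular element (an element of order divisible by `p`), two of them adjacent when their product divides such a class size. Then any two distinct such primes are joined by a path with at most 3 edges (the graph is connected of diameter at most 3). -/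
theorem result {G : Type*} [Group G] [Finite G] (p : ℕ) [Fact p.Prime]
    (hZ : ¬ p ∣ Nat.card ↥(Subgroup.center G)) (r s : ℕ) (hr : (r.Prime ∧ ∃ x : G, p ∣ orderOf x ∧ r ∣ (Subgroup.centralizer ({x} : Set G)).index)) (hs : (s.Prime ∧ ∃ x : G, p ∣ orderOf x ∧ s ∣ (Subgroup.centralizer ({x} : Set G)).index)) (hrs : r ≠ s) :
    (∃ x : G, p ∣ orderOf x ∧ r * s ∣ (Subgroup.centralizer ({x} : Set G)).index) ∨ (∃ t : ℕ, (t.Prime ∧ ∃ x : G, p ∣ orderOf x ∧ t ∣ (Subgroup.centralizer ({x} : Set G)).index) ∧ t ≠ r ∧ t ≠ s ∧ (∃ x : G, p ∣ orderOf x ∧ r * t ∣ (Subgroup.centralizer ({x} : Set G)).index) ∧ (∃ x : G, p ∣ orderOf x ∧ t * s ∣ (Subgroup.centralizer ({x} : Set G)).index)) ∨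
      (∃ t u : ℕ, (t.Prime ∧ ∃ x : G, p ∣ orderOf x ∧ t ∣ (Subgroup.centralizer ({x} : Set G)).index) ∧ (u.Prime ∧ ∃ x : G, p ∣ orderOf x ∧ u ∣ (Subgroup.centralizer ({x} : Set G)).index) ∧ t ≠ r ∧ u ≠ s ∧ t ≠ u ∧ (∃ x : G, p ∣ orderOf x ∧ r * t ∣ (Subgroup.centralizer ({x} : Set G)).index) ∧ (∃ x : G, p ∣ orderOf x ∧ t * u ∣ (Subgroup.centralizer ({x} : Set G)).index) ∧ (∃ x : G, p ∣ orderOf x ∧ u * s ∣ (Subgroup.centralizer ({x} : Set G)).index)) := by
  classical
  by_contra hcon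
  rw [not_or, not_or] at hcon
  obtain ⟨hD1, hD2, hD3⟩ := hcon
  obtain ⟨hrp, ar, harX, har⟩ := hr
  obtain ⟨hsp, bs, hbsX, hbs⟩ := hs
  have hmul : ∀ {u v n : ℕ}, u.Prime → v.Prime → u ≠ v → u ∣ n → v ∣ n → u * v ∣ n :=
    fun hu hv huv h1 h2 => ((Nat.coprime_primes hu hv).mpr huv).mul_dvd_of_dvd_of_dvd h1 h2
  -- an `E`-edge between distinct primes is an edge of the graph
  have hedge : ∀ {u v : ℕ}, u.Prime → v.Prime → u ≠ v → E G p u v →
      ∃ x : G, p ∣ orderOf x ∧ u * v ∣ (Subgroup.centralizer ({x} : Set G)).index := by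
    rintro u v hu hv huv ⟨x, hx, h1, h2⟩
    exact ⟨x, hx, hmul hu hv huv h1 h2⟩
  have hvert : ∀ {u v : ℕ}, u.Prime → E G p u v →
      (u.Prime ∧ ∃ x : G, p ∣ orderOf x ∧ u ∣ (Subgroup.centralizer ({x} : Set G)).index) := by
    rintro u v hu ⟨x, hx, h1, -⟩
    exact ⟨hu, x, hx, h1⟩
  have hfar : ∀ t u : ℕ, t.Prime → u.Prime → E G p r t → E G p t u → E G p u s → False := by
    intro t u ht hu h1 h2 h3
    by_cases hts : t = s
    · rw [hts] at h1
      exact hD1 (hedge hrp hsp hrs h1)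
    by_cases hur : u = r
    · rw [hur] at h3
      exact hD1 (hedge hrp hsp hrs h3)
    by_cases htr : t = r
    · rw [htr] at h2
      by_cases hus : u = s
      · rw [hus] at h2
        exact hD1 (hedge hrp hsp hrs h2)
      · exact hD2 ⟨u, hvert hu h3, hur, hus, hedge hrp hu (Ne.symm hur) h2, hedge hu hsp hus h3⟩
    by_cases hus : u = s
    · rw [hus] at h2
      exact hD2 ⟨t, hvert ht h2, htr, hts, hedge hrp ht (Ne.symm htr) h1, hedge ht hsp hts h2⟩
    by_cases htu : t = u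
    · rw [← htu] at h3
      exact hD2 ⟨t, hvert ht h3, htr, hts, hedge hrp ht (Ne.symm htr) h1, hedge ht hsp hts h3⟩
    · exact hD3 ⟨t, u, hvert ht h2, hvert hu h3, htr, hus, htu, hedge hrp ht (Ne.symm htr) h1,
        hedge ht hu htu h2, hedge hu hsp hus h3⟩
  have hrv : E G p r r := ⟨ar, harX, har, har⟩
  have hsv : E G p s s := ⟨bs, hbsX, hbs, hbs⟩
  rcases step1 hZ r s hfar hrv hsv with h | h
  · exact far_false hZ r s hrp hsp hrs hfar h hsv
  · exact far_false hZ s r hsp hrp hrs.symm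
      (fun t u ht hu h1 h2 h3 => hfar u t hu ht h3.symm h2.symm h1.symm) h.symm hrv

end Cfsg.Agent.S4321
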