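import Cfsg.Statements.S4325
import Mathlib

set_option autoImplicit false
open Cfsg

namespace Cfsg.Agent.S4325

/-- the graph whose edges are the pairs swapped by the given transpositions -/
def graph {r m : ℕ} (t : Fin m → Equiv.Perm (Fin r)) : SimpleGraph (Fin r) :=
  SimpleGraph.fromRel (fun x y => ∃ i, t i = Equiv.swap x y)

theorem graph_adj {r m : ℕ} (t : Fin m → Equiv.Perm (Fin r)) (x y : Fin r) :
    (graph t).Adj x y ↔ x ≠ y ∧ ∃ i, t i = Equiv.swap x y := by
  rw [graph, SimpleGraph.fromRel_adj]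
  constructor
  · rintro ⟨hne, h | h⟩
    · exact ⟨hne, h⟩
    · obtain ⟨i, hi⟩ := h
      exact ⟨hne, i, by rw [hi, Equiv.swap_comm]⟩
  · rintro ⟨hne, h⟩
    exact ⟨hne, Or.inl h⟩

theorem swap_eq {r : ℕ} (τ : Equiv.Perm (Fin r)) (hτ : τ.IsSwap) (x : Fin r) (hx : τ x ≠ x) :
    τ = Equiv.swap x (τ x) := by
  obtain ⟨a, b, hab, rfl⟩ := hτ
  by_cases hxa : x = a
  · subst hxa
    rw [Equiv.swap_apply_left]
  · by_cases hxb : x = b
    · subst hxb
      rw [Equiv.swap_apply_right, Equiv.swap_comm]
    · exact absurd (Equiv.swap_apply_of_ne_of_ne hxa hxb) hx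

theorem reachable_of_mem {r m : ℕ} (t : Fin m → Equiv.Perm (Fin r)) (ht : ∀ i, (t i).IsSwap)
    (σ : Equiv.Perm (Fin r)) (hσ : σ ∈ Subgroup.closure (Set.range t)) :
    ∀ x, (graph t).Reachable x (σ x) := by
  induction hσ using Subgroup.closure_induction with
  | mem τ hτ =>
    obtain ⟨i, rfl⟩ := hτ
    intro x
    by_cases hx : t i x = x
    · rw [hx]
    · apply SimpleGraph.Adj.reachable
      rw [graph_adj]
      exact ⟨fun h => hx h.symm, i, swap_eq (t i) (ht i) x hx⟩
  | one => intro x; exact SimpleGraph.Reachable.refl _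
  | mul σ τ _ _ ihσ ihτ =>
    intro x
    exact (ihτ x).trans (ihσ (τ x))
  | inv σ _ ih =>
    intro x
    have := ih (σ⁻¹ x)
    have h2 : σ (σ⁻¹ x) = x := by simp
    rw [h2] at this
    exact this.symm

/-- the number of edges is at most `m` -/
theorem card_edgeSet_le {r m : ℕ} (t : Fin m → Equiv.Perm (Fin r)) :
    Nat.card (graph t).edgeSet ≤ m := by
  classical
  -- an injection from edges to Fin m
  have hex : ∀ e : (graph t).edgeSet, ∃ i : Fin m, ∀ x y, s(x, y) = (e : Sym2 (Fin r)) →
      t i = Equiv.swap x y := by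
    rintro ⟨e, he⟩
    induction e using Sym2.ind with
    | _ a b =>
      rw [SimpleGraph.mem_edgeSet, graph_adj] at he
      obtain ⟨hne, i, hi⟩ := he
      refine ⟨i, ?_⟩
      intro x y hxy
      rw [Sym2.eq_iff] at hxy
      rcases hxy with ⟨rfl, rfl⟩ | ⟨rfl, rfl⟩
      · exact hi
      · rw [hi, Equiv.swap_comm]
  choose f hf using hex
  have hinj : Function.Injective f := by
    rintro ⟨e, he⟩ ⟨e', he'⟩ hee
    apply Subtype.ext
    show e = e'
    induction e using Sym2.ind with
    | _ a b =>
      induction e' using Sym2.ind with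
      | _ c d =>
        have h1 := hf ⟨s(a, b), he⟩ a b rfl
        have h2 := hf ⟨s(c, d), he'⟩ c d rfl
        rw [hee] at h1
        rw [h1] at h2
        rw [SimpleGraph.mem_edgeSet, graph_adj] at he he'
        have hab := he.1
        have hcd := he'.1
        rw [Sym2.eq_iff]
        -- swap a b = swap c d
        have ha : Equiv.swap c d a ≠ a := by
          rw [← h2, Equiv.swap_apply_left]; exact hab.symm
        have hb : Equiv.swap c d b ≠ b := by
          rw [← h2, Equiv.swap_apply_right]; exact hab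
        have hac : a = c ∨ a = d := by
          by_contra hcon
          push Not at hcon
          exact ha (Equiv.swap_apply_of_ne_of_ne hcon.1 hcon.2)
        have hbc : b = c ∨ b = d := by
          by_contra hcon
          push Not at hcon
          exact hb (Equiv.swap_apply_of_ne_of_ne hcon.1 hcon.2)
        rcases hac with rfl | rfl <;> rcases hbc with rfl | rfl
        · exact absurd rfl hab
        · exact Or.inl ⟨rfl, rfl⟩
        · exact Or.inr ⟨rfl, rfl⟩
        · exact absurd rfl hab
  have := Nat.card_le_card_of_injective f hinj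
  simpa using this

theorem not_dvd_card {r m : ℕ} (hr : r.Prime) (hm : m + 1 < r)
    (t : Fin m → Equiv.Perm (Fin r)) (ht : ∀ i, (t i).IsSwap) :
    ¬ r ∣ Nat.card (Subgroup.closure (Set.range t)) := by
  classical
  intro hdvd
  have : Fact r.Prime := ⟨hr⟩
  obtain ⟨σ, hσ⟩ := exists_prime_orderOf_dvd_card' (G := Subgroup.closure (Set.range t)) r hdvd
  have hσ' : orderOf (σ : Equiv.Perm (Fin r)) = r := by
    rw [Subgroup.orderOf_coe]; exact hσ
  have hcard : Fintype.card (Fin r) = r := Fintype.card_fin r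
  have hcyc : (σ : Equiv.Perm (Fin r)).IsCycle :=
    Equiv.Perm.isCycle_of_prime_order'' (by rw [hcard]; exact hr) (by rw [hσ', hcard])
  have hsupp : (σ : Equiv.Perm (Fin r)).support = Finset.univ :=
    Finset.eq_univ_of_card _ (by rw [← hcyc.orderOf, hσ', hcard])
  have hconn : (graph t).Connected := by
    have hne : Nonempty (Fin r) := ⟨⟨0, hr.pos⟩⟩
    refine ⟨?_⟩
    intro x y
    have hx : (σ : Equiv.Perm (Fin r)) x ≠ x := by
      rw [← Equiv.Perm.mem_support, hsupp]; exact Finset.mem_univ _
    have hy : (σ : Equiv.Perm (Fin r)) y ≠ y := by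
      rw [← Equiv.Perm.mem_support, hsupp]; exact Finset.mem_univ _
    obtain ⟨k, hk⟩ := hcyc.sameCycle hx hy
    rw [← hk]
    exact reachable_of_mem t ht _ (Subgroup.zpow_mem _ σ.2 k) x
  have h1 := hconn.card_vert_le_card_edgeSet_add_one
  have h2 := card_edgeSet_le t
  rw [Nat.card_eq_fintype_card, hcard] at h1
  omega

theorem result (r m : ℕ) (hr : r.Prime)
    (hm : m + 1 < r) (π : Set ℕ) (hπ : ∀ q : ℕ, q.Prime → q < r → q ∈ π) (hrπ : r ∉ π)
    (t : Fin m → Equiv.Perm (Fin r)) (ht : ∀ i, (t i).IsSwap) :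
    Cfsg.IsPiSubgroup π (Subgroup.closure (Set.range t)) ∧ Cfsg.piCore π (Equiv.Perm (Fin r)) = ⊥ := by
  classical
  constructor
  · intro p hp hdvd
    have h1 : Nat.card (Subgroup.closure (Set.range t)) ∣ Nat.card (Equiv.Perm (Fin r)) :=
      Subgroup.card_subgroup_dvd_card _
    have h2 : Nat.card (Equiv.Perm (Fin r)) = r.factorial := by
      rw [Nat.card_eq_fintype_card, Fintype.card_perm, Fintype.card_fin]
    rw [h2] at h1
    have h3 : p ≤ r := (hp.dvd_factorial).1 (hdvd.trans h1)
    rcases lt_or_eq_of_le h3 with h4 | h4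
    · exact hπ p hp h4
    · subst h4
      exact absurd hdvd (not_dvd_card hp hm t ht)
  · rw [Cfsg.piCore, eq_bot_iff]
    apply sSup_le
    rintro N ⟨hN, hNπ⟩
    by_contra hne
    have hNbot : N ≠ ⊥ := fun h => hne (h ▸ le_refl _)
    -- N is transitive
    have hNtr : MulAction.IsPretransitive N (Fin r) := by
      apply MulAction.IsQuasiPreprimitive.isPretransitive_of_normal (G := Equiv.Perm (Fin r))
      intro huniv
      apply hNbot
      rw [Subgroup.eq_bot_iff_forall]
      intro n hn
      ext y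
      have : y ∈ MulAction.fixedPoints N (Fin r) := by rw [huniv]; trivial
      have h2 := this ⟨n, hn⟩
      have h3 : n y = y := h2
      rw [h3]; rfl
    -- hence r divides the order of N
    have hne0 : Nonempty (Fin r) := ⟨⟨0, hr.pos⟩⟩
    let x0 : Fin r := ⟨0, hr.pos⟩
    have hidx : (MulAction.stabilizer N x0).index = Nat.card (Fin r) :=
      MulAction.index_stabilizer_of_transitive N x0
    have hdvd : (MulAction.stabilizer N x0).index ∣ Nat.card N :=
      Subgroup.index_dvd_card _
    rw [hidx, Nat.card_eq_fintype_card, Fintype.card_fin] at hdvd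
    exact hrπ (hNπ r hr hdvd)

end Cfsg.Agent.S4325
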