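import Cfsg.Statements.S4326
import Mathlib

set_option autoImplicit false
open Pointwise
open Cfsg

namespace Cfsg.Agent.S4326

variable {G : Type*} [Group G]

/-- automorphisms fixing `M` pointwise -/
def fixer (M : Subgroup G) : Subgroup (MulAut G) where
  carrier := {a | ∀ g ∈ M, a g = g}
  one_mem' := by intro g _; rfl
  mul_mem' := by
    intro a b ha hb g hg
    show a (b g) = g
    rw [hb g hg, ha g hg]
  inv_mem' := by
    intro a ha g hg
    have := ha g hg
    calc a⁻¹ g = a⁻¹ (a g) := by rw [this]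
      _ = g := by simp

/-- the action of the cyclic group generated by `x` on the left cosets of `M` -/
@[instance_reducible]
def cosetAct (x : MulAut G) (M : Subgroup G)
    (hfix : ∀ a ∈ Subgroup.zpowers x, ∀ g ∈ M, a g = g) :
    MulAction (Subgroup.zpowers x) (G ⧸ M) where
  smul a := Quotient.map' (fun g => (a : MulAut G) g) (by
    intro g h hgh
    rw [QuotientGroup.leftRel_apply] at hgh ⊢
    have := hfix a a.2 _ hgh
    rw [← map_inv, ← map_mul, this]
    exact hgh)
  one_smul := by rintro ⟨g⟩; rfl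
  mul_smul := by rintro a b ⟨g⟩; rfl

theorem result {G : Type*} [Group G] [Finite G]
    (p : ℕ) [Fact p.Prime] (x : MulAut G) (hx : ∃ k : ℕ, orderOf x = p ^ k) (M : Subgroup G)
    (hM : ∀ g : G, g ∈ M ↔ x g = g) (hp : p ∣ M.index)
    (hself : Subgroup.normalizer (M : Set G) = M ∨ Subgroup.center M = ⊥) :
    ∃ g : G, (∀ y ∈ MulAut.conj g • M, x y ∈ MulAut.conj g • M) ∧ ∃ y ∈ MulAut.conj g • M, x y ≠ y := by
  have hfix : ∀ a ∈ Subgroup.zpowers x, ∀ g ∈ M, a g = g := by
    have : Subgroup.zpowers x ≤ fixer M := by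
      rw [Subgroup.zpowers_le]
      intro g hg
      exact (hM g).1 hg
    intro a ha
    exact this ha
  have hXp : IsPGroup p (Subgroup.zpowers x) := by
    obtain ⟨k, hk⟩ := hx
    apply IsPGroup.of_card (n := k)
    rw [Nat.card_zpowers, hk]
  let _ := cosetAct x M hfix
  have h1 : ((1 : G) : G ⧸ M) ∈ MulAction.fixedPoints (Subgroup.zpowers x) (G ⧸ M) := by
    intro a
    show (((a : MulAut G) 1 : G) : G ⧸ M) = _
    simp
  obtain ⟨b, hb, hne⟩ := hXp.exists_fixed_point_of_prime_dvd_card_of_fixed_point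
    (α := G ⧸ M) hp h1
  obtain ⟨g, rfl⟩ := QuotientGroup.mk_surjective b
  have hgM : g ∉ M := by
    intro hg
    apply hne
    rw [eq_comm, QuotientGroup.eq]
    simpa using hg
  have hc : (x g)⁻¹ * g ∈ M := by
    have := hb ⟨x, Subgroup.mem_zpowers x⟩
    have h2 : ((x g : G) : G ⧸ M) = (g : G ⧸ M) := this
    rwa [QuotientGroup.eq] at h2
  have hd : g⁻¹ * x g ∈ M := by
    have := M.inv_mem hc
    simpa using this
  -- g is not in the normalizer
  have hgN : g ∉ Subgroup.normalizer (M : Set G) := by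
    rcases hself with h | h
    · rw [h]; exact hgM
    · intro hgn
      apply hgM
      have hcomm : ∀ m ∈ M, ((x g)⁻¹ * g) * m = m * ((x g)⁻¹ * g) := by
        intro m hm
        have h3 : g * m * g⁻¹ ∈ M := (Subgroup.mem_normalizer_iff.1 hgn m).1 hm
        have h4 := (hM _).1 h3
        have h5 := (hM _).1 hm
        simp only [map_mul, map_inv, h5] at h4
        -- h4 : x g * m * (x g)⁻¹ = g * m * g⁻¹
        calc ((x g)⁻¹ * g) * m = (x g)⁻¹ * (g * m * g⁻¹) * g := by group
          _ = (x g)⁻¹ * (x g * m * (x g)⁻¹) * g := by rw [h4]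
          _ = m * ((x g)⁻¹ * g) := by group
      have hz : (⟨(x g)⁻¹ * g, hc⟩ : M) ∈ Subgroup.center M := by
        rw [Subgroup.mem_center_iff]
        rintro ⟨m, hm⟩
        apply Subtype.ext
        exact (hcomm m hm).symm
      rw [h, Subgroup.mem_bot] at hz
      have h6 : (x g)⁻¹ * g = 1 := congrArg Subtype.val hz
      have h7 : x g = g := by
        have := inv_mul_eq_one.1 h6
        exact this
      exact (hM g).2 h7
  refine ⟨g, ?_, ?_⟩
  · intro y hy
    rw [Subgroup.mem_smul_pointwise_iff_exists] at hy ⊢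
    obtain ⟨m, hm, rfl⟩ := hy
    refine ⟨(g⁻¹ * x g) * m * (g⁻¹ * x g)⁻¹, M.mul_mem (M.mul_mem hd hm) (M.inv_mem hd), ?_⟩
    have h5 := (hM _).1 hm
    simp only [MulAut.smul_def, MulAut.conj_apply, map_mul, map_inv, h5]
    group
  · by_contra hcon
    push Not at hcon
    apply hgN
    rw [Subgroup.mem_normalizer_iff_conj_image_eq]
    have hsub : (MulAut.conj g) '' (M : Set G) ⊆ (M : Set G) := by
      rintro _ ⟨m, hm, rfl⟩
      have : MulAut.conj g m ∈ MulAut.conj g • M := by
        rw [Subgroup.mem_smul_pointwise_iff_exists]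
        exact ⟨m, hm, rfl⟩
      exact (hM _).2 (hcon _ this)
    apply Set.eq_of_subset_of_ncard_le hsub
    · rw [Set.ncard_image_of_injective _ (MulAut.conj g).injective]

end Cfsg.Agent.S4326
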