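import Cfsg.Statements.S4331
import Mathlib
import Cfsg.Agent.Lib.Helper71.Frobenius

set_option autoImplicit false
open Cfsg

namespace Cfsg.Agent.S4331

open Cfsg.Agent.Helper71

/-- In a finite group with the normalizer condition every subgroup is subnormal. -/
theorem isSubnormal_of_normalizerCondition {J : Type*} [Group J] [Finite J]
    (hnc : NormalizerCondition J) (H : Subgroup J) : H.IsSubnormal := by
  induction' hn : Nat.card J - Nat.card H using Nat.strong_induction_on with n ih generalizing H
  by_cases hH : H = ⊤
  · rw [hH]; exact Subgroup.IsSubnormal.top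
  · have hlt : H < Subgroup.normalizer (H : Set J) := hnc H (lt_top_iff_ne_top.2 hH)
    have hcard : Nat.card H < Nat.card (Subgroup.normalizer (H : Set J)) := by
      have h1 : (H : Set J).ncard < (Subgroup.normalizer (H : Set J) : Set J).ncard :=
        Set.ncard_lt_ncard hlt (Set.toFinite _)
      exact h1
    have hle : Nat.card (Subgroup.normalizer (H : Set J)) ≤ Nat.card J :=
      Subgroup.card_le_card_group _
    refine Subgroup.IsSubnormal.step H _ hlt.le (ih _ ?_ _ rfl) Subgroup.normal_in_normalizer
    omega

theorem isSolvable_semidirect {N H : Type*} [Group N] [Group H] (φ : H →* MulAut N)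
    [Group.IsSolvable N] [Group.IsSolvable H] : Group.IsSolvable (N ⋊[φ] H) :=
  Group.isSolvable_of_ker_le_range (SemidirectProduct.inl : N →* N ⋊[φ] H)
    (SemidirectProduct.rightHom : N ⋊[φ] H →* H)
    (by rw [SemidirectProduct.range_inl_eq_ker_rightHom])

abbrev V := ZMod 3 × ZMod 3
abbrev C2 := Multiplicative (ZMod 2)

/-- multiplication in `F_9 = F_3[i]` -/
def fmul (x y : V) : V := (x.1 * y.1 - x.2 * y.2, x.1 * y.2 + x.2 * y.1)

/-- powers of the generator `1 + i` -/
def zp (k : ZMod 8) : V :=
  match k.val with
  | 0 => (1, 0)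
  | 1 => (1, 1)
  | 2 => (0, 2)
  | 3 => (1, 2)
  | 4 => (2, 0)
  | 5 => (2, 2)
  | 6 => (0, 1)
  | _ => (2, 1)

def conj (e : C2) (v : V) : V := if e.toAdd = 0 then v else (v.1, -v.2)

instance dma1 : DistribMulAction C2 (ZMod 8) where
  smul e k := if e.toAdd = 0 then k else 3 * k
  one_smul := by decide
  mul_smul := by decide
  smul_zero := by decide
  smul_add := by decide

/-- the semidihedral group of order 16 -/
abbrev K := Multiplicative (ZMod 8) ⋊[toMulAutMul C2 (ZMod 8)] C2

noncomputable instance : Fintype K := Fintype.ofEquiv _ SemidirectProduct.equivProd.symm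

def kact (g : K) (v : V) : V := fmul (zp g.left.toAdd) (conj g.right v)

set_option maxRecDepth 100000 in
noncomputable instance dma2 : DistribMulAction K V where
  smul := kact
  one_smul := by decide
  mul_smul := by decide
  smul_zero := by decide
  smul_add := by decide

/-- the group `AΓL(1,9)` of order 144 -/
abbrev G := Multiplicative V ⋊[toMulAutMul K V] K

noncomputable instance : Fintype G := Fintype.ofEquiv _ SemidirectProduct.equivProd.symm

/-- the Frobenius automorphism -/
noncomputable def a : G := ⟨1, ⟨1, Multiplicative.ofAdd 1⟩⟩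

def P (g : G) : Prop := g * a = a * g ∨ g.left = 1

noncomputable instance : DecidablePred P := fun g => by unfold P; infer_instance

set_option maxRecDepth 1000000 in
theorem a_sq : a * a = 1 := by decide

set_option maxRecDepth 1000000 in
theorem a_ne : a ≠ 1 := by decide

set_option maxRecDepth 1000000 in
theorem cent : ∀ n : G, (∀ w : Multiplicative V,
    n * SemidirectProduct.inl w = SemidirectProduct.inl w * n) → n.right = 1 := by decide +kernel

set_option maxRecDepth 1000000 in
theorem classes : ∀ c : G, ∃ h : G, P (h * c * h⁻¹) := by decide +kernel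

theorem cardK : Nat.card K = 2 ^ 4 := by
  rw [SemidirectProduct.card]
  simp [Nat.card_eq_fintype_card]

theorem result :
    ∃ (G : Type) (_ : Group G) (_ : Finite G) (A : Subgroup G), Group.IsSolvable G ∧ Nat.card A = 2 ∧
      (∀ c : G, ∃ g : G, IsConj c g ∧ (A.subgroupOf (A ⊔ Subgroup.zpowers g)).IsSubnormal) ∧
      ¬ A ≤ Cfsg.pCore 2 G := by
  have hf2 : Fact (Nat.Prime 2) := ⟨Nat.prime_two⟩
  have hsolK : Group.IsSolvable K := isSolvable_semidirect _
  have hsolG : Group.IsSolvable G := isSolvable_semidirect _
  refine ⟨G, inferInstance, inferInstance, Subgroup.zpowers a, hsolG, ?_, ?_, ?_⟩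
  · rw [Nat.card_zpowers]
    exact orderOf_eq_prime (by rw [pow_two]; exact a_sq) a_ne
  · intro c
    obtain ⟨h, hP⟩ := classes c
    refine ⟨h * c * h⁻¹, isConj_iff.2 ⟨h, rfl⟩, ?_⟩
    set g := h * c * h⁻¹ with hg
    rcases hP with hcomm | hleft
    · -- g commutes with a
      have hnorm : Subgroup.zpowers a ⊔ Subgroup.zpowers g ≤
          Subgroup.normalizer (Subgroup.zpowers a : Set G) := by
        apply sup_le Subgroup.le_normalizer
        rw [Subgroup.zpowers_le]
        apply Subgroup.centralizer_le_normalizer
        rw [Subgroup.mem_centralizer_iff]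
        rintro x ⟨n, rfl⟩
        have hc : Commute a g := hcomm.symm
        exact (hc.zpow_left n).eq
      have : ((Subgroup.zpowers a).subgroupOf (Subgroup.zpowers a ⊔ Subgroup.zpowers g)).Normal :=
        (Subgroup.normal_subgroupOf_iff_le_normalizer le_sup_left).2 hnorm
      exact this.isSubnormal
    · -- g lies in the complement, a 2-group
      let K' : Subgroup G := (SemidirectProduct.inr : K →* G).range
      have hK : IsPGroup 2 K := IsPGroup.of_card cardK
      have hK' : IsPGroup 2 K' :=
        hK.of_surjective (SemidirectProduct.inr : K →* G).rangeRestrict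
          (MonoidHom.rangeRestrict_surjective _)
      have hgK : g ∈ K' := ⟨g.right, by ext <;> simp [hleft]⟩
      have haK : a ∈ K' := ⟨a.right, by ext <;> simp [a]⟩
      have hJ : Subgroup.zpowers a ⊔ Subgroup.zpowers g ≤ K' :=
        sup_le ((Subgroup.zpowers_le).2 haK) ((Subgroup.zpowers_le).2 hgK)
      have hJp : IsPGroup 2 ↥(Subgroup.zpowers a ⊔ Subgroup.zpowers g) := hK'.to_le hJ
      have hnil : Group.IsNilpotent ↥(Subgroup.zpowers a ⊔ Subgroup.zpowers g) := hJp.isNilpotent
      exact isSubnormal_of_normalizerCondition Group.normalizerCondition_of_isNilpotent _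
  · -- O_2(G) is trivial
    have hcore : Cfsg.pCore 2 G = ⊥ := by
      rw [Cfsg.pCore, eq_bot_iff]
      apply sSup_le
      rintro N ⟨hN, hNp⟩
      let V' : Subgroup G := (SemidirectProduct.inl : Multiplicative V →* G).range
      have hV'n : V'.Normal := by
        show ((SemidirectProduct.inl : Multiplicative V →* G).range).Normal
        rw [SemidirectProduct.range_inl_eq_ker_rightHom]
        infer_instance
      have hf3 : Fact (Nat.Prime 3) := ⟨Nat.prime_three⟩
      have hV : IsPGroup 3 (Multiplicative V) := by
        apply IsPGroup.of_card (n := 2)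
        simp [Nat.card_eq_fintype_card]
      have hV' : IsPGroup 3 V' :=
        hV.of_surjective (SemidirectProduct.inl : Multiplicative V →* G).rangeRestrict
          (MonoidHom.rangeRestrict_surjective _)
      have hdisj : Disjoint N V' := IsPGroup.disjoint_of_ne 2 3 (by norm_num) N V' hNp hV'
      intro n hn
      have hcomm : ∀ w : Multiplicative V,
          n * SemidirectProduct.inl w = SemidirectProduct.inl w * n := by
        intro w
        have h1 : n * SemidirectProduct.inl w * n⁻¹ * (SemidirectProduct.inl w)⁻¹ ∈ N := by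
          have h2 : SemidirectProduct.inl w * n⁻¹ * (SemidirectProduct.inl w)⁻¹ ∈ N :=
            hN.conj_mem _ (N.inv_mem hn) _
          have := N.mul_mem hn h2
          convert this using 1
          group
        have h3 : n * SemidirectProduct.inl w * n⁻¹ * (SemidirectProduct.inl w)⁻¹ ∈ V' := by
          have h4 : n * SemidirectProduct.inl w * n⁻¹ ∈ V' :=
            hV'n.conj_mem _ ⟨w, rfl⟩ _
          exact V'.mul_mem h4 (V'.inv_mem ⟨w, rfl⟩)
        have h5 := (Subgroup.disjoint_def.1 hdisj) h1 h3
        have : n * SemidirectProduct.inl w = (n * SemidirectProduct.inl w * n⁻¹ *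
            (SemidirectProduct.inl w)⁻¹) * (SemidirectProduct.inl w * n) := by group
        rw [this, h5, one_mul]
      have hright := cent n hcomm
      have hnV : n ∈ V' := ⟨n.left, by ext <;> simp [hright]⟩
      have := (Subgroup.disjoint_def.1 hdisj) hn hnV
      rw [this]; exact Subgroup.one_mem _
    rw [hcore]
    intro hle
    have := hle (Subgroup.mem_zpowers a)
    rw [Subgroup.mem_bot] at this
    exact a_ne this

end Cfsg.Agent.S4331
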