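import Cfsg.Statements.S4332
import Mathlib

set_option autoImplicit false
open Pointwise
open Cfsg

namespace Cfsg.Agent.S4332
open Equiv Equiv.Perm

def σ₀ : Perm (Fin 8) := ⟨![1, 2, 0, 3, 4, 5, 6, 7], ![2, 0, 1, 3, 4, 5, 6, 7], by decide, by decide⟩

/-- `g` is a good witness for the cycle type `m`. -/
def Good (m : Multiset ℕ) : Prop :=
  ∃ g : Perm (Fin 8), g.cycleType = m ∧ σ₀ * (g * σ₀ * g⁻¹) = (g * σ₀ * g⁻¹) * σ₀

def w0 : Perm (Fin 8) := ⟨![0, 1, 2, 3, 4, 5, 6, 7], ![0, 1, 2, 3, 4, 5, 6, 7], by decide, by decide⟩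
set_option maxRecDepth 1000000 in
theorem good0 : Good 0 := ⟨w0, by decide, by decide⟩

def w1 : Perm (Fin 8) := ⟨![0, 1, 2, 4, 3, 5, 6, 7], ![0, 1, 2, 4, 3, 5, 6, 7], by decide, by decide⟩
set_option maxRecDepth 1000000 in
theorem good1 : Good {2} := ⟨w1, by decide, by decide⟩

def w2 : Perm (Fin 8) := ⟨![0, 1, 2, 4, 3, 6, 5, 7], ![0, 1, 2, 4, 3, 6, 5, 7], by decide, by decide⟩
set_option maxRecDepth 1000000 in
theorem good2 : Good {2, 2} := ⟨w2, by decide, by decide⟩

def w3 : Perm (Fin 8) := ⟨![3, 4, 5, 0, 1, 2, 6, 7], ![3, 4, 5, 0, 1, 2, 6, 7], by decide, by decide⟩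
set_option maxRecDepth 1000000 in
theorem good3 : Good {2, 2, 2} := ⟨w3, by decide, by decide⟩

def w4 : Perm (Fin 8) := ⟨![3, 4, 5, 0, 1, 2, 7, 6], ![3, 4, 5, 0, 1, 2, 7, 6], by decide, by decide⟩
set_option maxRecDepth 1000000 in
theorem good4 : Good {2, 2, 2, 2} := ⟨w4, by decide, by decide⟩

def w5 : Perm (Fin 8) := ⟨![1, 2, 0, 3, 4, 5, 6, 7], ![2, 0, 1, 3, 4, 5, 6, 7], by decide, by decide⟩
set_option maxRecDepth 1000000 in
theorem good5 : Good {3} := ⟨w5, by decide, by decide⟩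

def w6 : Perm (Fin 8) := ⟨![1, 2, 0, 4, 3, 5, 6, 7], ![2, 0, 1, 4, 3, 5, 6, 7], by decide, by decide⟩
set_option maxRecDepth 1000000 in
theorem good6 : Good {3, 2} := ⟨w6, by decide, by decide⟩

def w7 : Perm (Fin 8) := ⟨![1, 2, 0, 4, 3, 6, 5, 7], ![2, 0, 1, 4, 3, 6, 5, 7], by decide, by decide⟩
set_option maxRecDepth 1000000 in
theorem good7 : Good {3, 2, 2} := ⟨w7, by decide, by decide⟩

def w8 : Perm (Fin 8) := ⟨![1, 2, 0, 4, 5, 3, 6, 7], ![2, 0, 1, 5, 3, 4, 6, 7], by decide, by decide⟩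
set_option maxRecDepth 1000000 in
theorem good8 : Good {3, 3} := ⟨w8, by decide, by decide⟩

def w9 : Perm (Fin 8) := ⟨![1, 2, 0, 4, 5, 3, 7, 6], ![2, 0, 1, 5, 3, 4, 7, 6], by decide, by decide⟩
set_option maxRecDepth 1000000 in
theorem good9 : Good {3, 3, 2} := ⟨w9, by decide, by decide⟩

def w10 : Perm (Fin 8) := ⟨![0, 1, 2, 4, 5, 6, 3, 7], ![0, 1, 2, 6, 3, 4, 5, 7], by decide, by decide⟩
set_option maxRecDepth 1000000 in
theorem good10 : Good {4} := ⟨w10, by decide, by decide⟩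

def w11 : Perm (Fin 8) := ⟨![1, 0, 2, 4, 5, 6, 3, 7], ![1, 0, 2, 6, 3, 4, 5, 7], by decide, by decide⟩
set_option maxRecDepth 1000000 in
theorem good11 : Good {4, 2} := ⟨w11, by decide, by decide⟩

def w12 : Perm (Fin 8) := ⟨![3, 4, 5, 1, 0, 2, 7, 6], ![4, 3, 5, 0, 1, 2, 7, 6], by decide, by decide⟩
set_option maxRecDepth 1000000 in
theorem good12 : Good {4, 2, 2} := ⟨w12, by decide, by decide⟩

def w13 : Perm (Fin 8) := ⟨![1, 2, 0, 4, 5, 6, 3, 7], ![2, 0, 1, 6, 3, 4, 5, 7], by decide, by decide⟩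
set_option maxRecDepth 1000000 in
theorem good13 : Good {4, 3} := ⟨w13, by decide, by decide⟩

def w14 : Perm (Fin 8) := ⟨![3, 4, 5, 1, 0, 6, 7, 2], ![4, 3, 7, 0, 1, 2, 5, 6], by decide, by decide⟩
set_option maxRecDepth 1000000 in
theorem good14 : Good {4, 4} := ⟨w14, by decide, by decide⟩

def w15 : Perm (Fin 8) := ⟨![0, 1, 2, 4, 5, 6, 7, 3], ![0, 1, 2, 7, 3, 4, 5, 6], by decide, by decide⟩
set_option maxRecDepth 1000000 in
theorem good15 : Good {5} := ⟨w15, by decide, by decide⟩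

def w16 : Perm (Fin 8) := ⟨![1, 0, 2, 4, 5, 6, 7, 3], ![1, 0, 2, 7, 3, 4, 5, 6], by decide, by decide⟩
set_option maxRecDepth 1000000 in
theorem good16 : Good {5, 2} := ⟨w16, by decide, by decide⟩

def w17 : Perm (Fin 8) := ⟨![1, 2, 0, 4, 5, 6, 7, 3], ![2, 0, 1, 7, 3, 4, 5, 6], by decide, by decide⟩
set_option maxRecDepth 1000000 in
theorem good17 : Good {5, 3} := ⟨w17, by decide, by decide⟩

def w18 : Perm (Fin 8) := ⟨![3, 4, 5, 1, 2, 0, 6, 7], ![5, 3, 4, 0, 1, 2, 6, 7], by decide, by decide⟩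
set_option maxRecDepth 1000000 in
theorem good18 : Good {6} := ⟨w18, by decide, by decide⟩

def w19 : Perm (Fin 8) := ⟨![3, 4, 5, 1, 2, 0, 7, 6], ![5, 3, 4, 0, 1, 2, 7, 6], by decide, by decide⟩
set_option maxRecDepth 1000000 in
theorem good19 : Good {6, 2} := ⟨w19, by decide, by decide⟩

def w20 : Perm (Fin 8) := ⟨![3, 4, 5, 1, 2, 6, 0, 7], ![6, 3, 4, 0, 1, 2, 5, 7], by decide, by decide⟩
set_option maxRecDepth 1000000 in
theorem good20 : Good {7} := ⟨w20, by decide, by decide⟩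

def w21 : Perm (Fin 8) := ⟨![3, 4, 5, 1, 2, 6, 7, 0], ![7, 3, 4, 0, 1, 2, 5, 6], by decide, by decide⟩
set_option maxRecDepth 1000000 in
theorem good21 : Good {8} := ⟨w21, by decide, by decide⟩

def CT : List (Multiset ℕ) := [0, {2}, {2, 2}, {2, 2, 2}, {2, 2, 2, 2}, {3}, {3, 2}, {3, 2, 2}, {3, 3}, {3, 3, 2}, {4}, {4, 2}, {4, 2, 2}, {4, 3}, {4, 4}, {5}, {5, 2}, {5, 3}, {6}, {6, 2}, {7}, {8}]


theorem good_of_mem_CT : ∀ m ∈ CT, Good m := by
  intro m hm
  simp only [CT, List.mem_cons, List.mem_nil_iff, or_false] at hm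
  rcases hm with rfl | rfl | rfl | rfl | rfl | rfl | rfl | rfl | rfl | rfl | rfl | rfl | rfl | rfl | rfl | rfl | rfl | rfl | rfl | rfl | rfl | rfl
  · exact good0
  · exact good1
  · exact good2
  · exact good3
  · exact good4
  · exact good5
  · exact good6
  · exact good7
  · exact good8
  · exact good9
  · exact good10
  · exact good11
  · exact good12
  · exact good13
  · exact good14
  · exact good15
  · exact good16
  · exact good17
  · exact good18
  · exact good19
  · exact good20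
  · exact good21

theorem list_mem_CT : ∀ l : List ℕ, (∀ k ∈ l, 2 ≤ k) → l.sum ≤ 8 → (↑l : Multiset ℕ) ∈ CT := by
  intro l h2 hs
  match l, h2, hs with
  | [], _, _ => decide
  | [a], h2, hs =>
    have ha : 2 ≤ a := h2 a (by simp)
    simp at hs
    interval_cases a <;> decide
  | [a, b], h2, hs =>
    have ha : 2 ≤ a := h2 a (by simp)
    have hb : 2 ≤ b := h2 b (by simp)
    simp at hs
    have ha' : a ≤ 6 := by omega
    have hb' : b ≤ 6 := by omega
    interval_cases a <;> interval_cases b <;> first | omega | decide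
  | [a, b, c], h2, hs =>
    have ha : 2 ≤ a := h2 a (by simp)
    have hb : 2 ≤ b := h2 b (by simp)
    have hc : 2 ≤ c := h2 c (by simp)
    simp at hs
    have ha' : a ≤ 4 := by omega
    have hb' : b ≤ 4 := by omega
    have hc' : c ≤ 4 := by omega
    interval_cases a <;> interval_cases b <;> interval_cases c <;> first | omega | decide
  | [a, b, c, d], h2, hs =>
    have ha : 2 ≤ a := h2 a (by simp)
    have hb : 2 ≤ b := h2 b (by simp)
    have hc : 2 ≤ c := h2 c (by simp)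
    have hd : 2 ≤ d := h2 d (by simp)
    simp at hs
    have ha' : a = 2 := by omega
    have hb' : b = 2 := by omega
    have hc' : c = 2 := by omega
    have hd' : d = 2 := by omega
    subst ha' hb' hc' hd'
    decide
  | a :: b :: c :: d :: e :: l', h2, hs =>
    have ha : 2 ≤ a := h2 a (by simp)
    have hb : 2 ≤ b := h2 b (by simp)
    have hc : 2 ≤ c := h2 c (by simp)
    have hd : 2 ≤ d := h2 d (by simp)
    have he : 2 ≤ e := h2 e (by simp)
    simp at hs
    omega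


set_option maxRecDepth 1000000 in
theorem σ₀_cycleType : σ₀.cycleType = {3} := by decide

theorem exists_good (c : Perm (Fin 8)) : Good c.cycleType := by
  have h2 : ∀ k ∈ c.cycleType, 2 ≤ k := fun k hk => two_le_of_mem_cycleType hk
  have hs : c.cycleType.sum ≤ 8 := by
    rw [sum_cycleType]
    exact (Finset.card_le_univ _).trans (by simp)
  have := list_mem_CT c.cycleType.toList (by simpa using h2)
    (by rw [← Multiset.sum_coe, Multiset.coe_toList]; exact hs)
  rw [Multiset.coe_toList] at this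
  exact good_of_mem_CT _ this

open Subgroup in
open scoped Pointwise in
theorem partA (σ : Perm (Fin 8)) (hσ : σ.IsThreeCycle) (c : Perm (Fin 8)) :
    ∃ g : Perm (Fin 8), IsConj c g ∧
      ((zpowers σ).subgroupOf (zpowers σ ⊔ MulAut.conj g • zpowers σ)).IsSubnormal := by
  obtain ⟨g₀, hct, hcomm⟩ := exists_good c
  have hconj : IsConj σ₀ σ := by
    rw [isConj_iff_cycleType_eq, σ₀_cycleType, hσ.cycleType]
  obtain ⟨τ, hτ⟩ := isConj_iff.mp hconj
  refine ⟨τ * g₀ * τ⁻¹, ?_, ?_⟩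
  · rw [isConj_iff_cycleType_eq, cycleType_conj, hct]
  · set g := τ * g₀ * τ⁻¹ with hg
    have hσ' : σ * (g * σ * g⁻¹) = (g * σ * g⁻¹) * σ := by
      have e : g * σ * g⁻¹ = τ * (g₀ * σ₀ * g₀⁻¹) * τ⁻¹ := by rw [← hτ, hg]; group
      rw [e, ← hτ]
      calc τ * σ₀ * τ⁻¹ * (τ * (g₀ * σ₀ * g₀⁻¹) * τ⁻¹)
          = τ * (σ₀ * (g₀ * σ₀ * g₀⁻¹)) * τ⁻¹ := by group
        _ = τ * ((g₀ * σ₀ * g₀⁻¹) * σ₀) * τ⁻¹ := by rw [hcomm]
        _ = τ * (g₀ * σ₀ * g₀⁻¹) * τ⁻¹ * (τ * σ₀ * τ⁻¹) := by group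
    have hB : MulAut.conj g • zpowers σ = zpowers (g * σ * g⁻¹) := by
      change (zpowers σ).map (MulAut.conj g).toMonoidHom = _
      rw [MonoidHom.map_zpowers]
      rfl
    rw [hB]
    apply Subgroup.Normal.isSubnormal
    have hle : zpowers σ ⊔ zpowers (g * σ * g⁻¹) ≤ centralizer {σ} := by
      apply sup_le
      · rw [zpowers_le, mem_centralizer_iff]
        intro h hh
        rw [Set.mem_singleton_iff] at hh
        rw [hh]
      · rw [zpowers_le, mem_centralizer_iff]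
        intro h hh
        rw [Set.mem_singleton_iff] at hh
        rw [hh]
        exact hσ'
    constructor
    intro n hn y
    rw [mem_subgroupOf] at hn ⊢
    have hy := hle y.2
    rw [mem_centralizer_iff] at hy
    obtain ⟨i, hi⟩ := mem_zpowers_iff.mp hn
    have hc : Commute (y : Perm (Fin 8)) σ := (hy σ rfl).symm
    have hc' : Commute (y : Perm (Fin 8)) (n : Perm (Fin 8)) := hi ▸ hc.zpow_right i
    have : ((y * n * y⁻¹ : ↥(zpowers σ ⊔ zpowers (g * σ * g⁻¹))) : Perm (Fin 8)) = n := by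
      push_cast
      rw [hc'.eq, mul_assoc, mul_inv_cancel, mul_one]
    rw [this]
    exact hn

theorem partB : Cfsg.pCore 3 (Equiv.Perm (Fin 8)) = ⊥ := by
  unfold Cfsg.pCore
  rw [sSup_eq_bot]
  rintro N ⟨hNn, hNp⟩
  have : IsSimpleGroup (alternatingGroup (Fin 8)) := alternatingGroup.isSimpleGroup (by simp)
  have hN' : (N.subgroupOf (alternatingGroup (Fin 8))).Normal := inferInstance
  rcases hN'.eq_bot_or_eq_top with h | h
  · -- N ⊓ A_8 = ⊥
    rw [eq_bot_iff]
    intro x hx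
    obtain ⟨k, hk⟩ := hNp ⟨x, hx⟩
    have hxk : x ^ (3 ^ k) = 1 := by
      have := congrArg Subtype.val hk
      simpa using this
    have hsign : sign x = 1 := by
      have h1 : sign x ^ (3 ^ k) = 1 := by rw [← map_pow, hxk, map_one]
      rw [Int.units_pow_eq_pow_mod_two] at h1
      have h3 : 3 ^ k % 2 = 1 := Nat.odd_iff.mp (Odd.pow (by decide))
      rw [h3, pow_one] at h1
      exact h1
    have hxA : x ∈ alternatingGroup (Fin 8) := mem_alternatingGroup.mpr hsign
    have : (⟨x, hxA⟩ : alternatingGroup (Fin 8)) ∈ N.subgroupOf (alternatingGroup (Fin 8)) := by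
      rw [Subgroup.mem_subgroupOf]; exact hx
    rw [h, Subgroup.mem_bot] at this
    rw [Subgroup.mem_bot]
    exact congrArg Subtype.val this
  · -- A_8 ≤ N, impossible
    exfalso
    rw [Subgroup.subgroupOf_eq_top] at h
    let t : Perm (Fin 8) := swap 0 1 * swap 2 3
    have htA : t ∈ alternatingGroup (Fin 8) := by
      rw [mem_alternatingGroup]; decide
    have htN : t ∈ N := h htA
    obtain ⟨k, hk⟩ := hNp ⟨t, htN⟩
    have htk : t ^ (3 ^ k) = 1 := by
      have := congrArg Subtype.val hk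
      simpa using this
    have ht2 : t ^ 2 = 1 := by decide
    have hord : orderOf t ∣ 2 := orderOf_dvd_of_pow_eq_one ht2
    have hord' : orderOf t ∣ 3 ^ k := orderOf_dvd_of_pow_eq_one htk
    have hcop : Nat.Coprime 2 (3 ^ k) := Nat.Coprime.pow_right k (by decide)
    have h1 : orderOf t = 1 := Nat.eq_one_of_dvd_coprimes hcop hord hord'
    rw [orderOf_eq_one_iff] at h1
    revert h1
    decide

/-- In the symmetric group of degree 8, let A be the subgroup generated by a 3-cycle. Then every conjugacy class contains an element g for which A is subnormal in the subgroup generated by A and its conjugate by g, although O_3 of the symmetric group of degree 8 is trivial. -/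
theorem result
    (σ : Equiv.Perm (Fin 8)) (hσ : σ.IsThreeCycle) :
    (∀ c : Equiv.Perm (Fin 8), ∃ g : Equiv.Perm (Fin 8), IsConj c g ∧
      ((Subgroup.zpowers σ).subgroupOf (Subgroup.zpowers σ ⊔ MulAut.conj g • Subgroup.zpowers σ)).IsSubnormal) ∧
    Cfsg.pCore 3 (Equiv.Perm (Fin 8)) = ⊥ :=
  ⟨partA σ hσ, partB⟩

end Cfsg.Agent.S4332
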