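import Mathlib
import Cfsg.Statements.S4333
import Cfsg.Agent.Lib.Helper90.Zipper

set_option autoImplicit false
open Cfsg

namespace Cfsg.Agent.S4333

open Subgroup Cfsg.Agent.Helper90
open scoped Pointwise

/-- Sharpened Wielandt criterion (relative form): only conjugates of `A` by conjugates of elements
of `A` are needed. -/
theorem wielandt_sharp_aux {G : Type*} [Group G] [Finite G] :
    ∀ X : Subgroup G, ∀ A : Subgroup G, A ≤ X →
    (∀ a ∈ A, ∀ g ∈ X, RSN A (A ⊔ MulAut.conj (g⁻¹ * a * g) • A)) → RSN A X := by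
  intro X
  induction X using WellFoundedLT.induction with
  | ind X ih =>
    intro A hAX h
    by_contra hnot
    have hprop : ∀ H, A ≤ H → H < X → RSN A H :=
      fun H hAH hHX => ih H hHX A hAH (fun a ha g hg => h a ha g (hHX.le hg))
    obtain ⟨M, hMX, hM⟩ := zipper X A hAX hprop hnot
    have hAltX : A < X := lt_of_le_of_ne hAX (fun heq => hnot (heq ▸ RSN.refl A))
    have hAM : A ≤ M := hM A le_rfl hAltX
    have hconjX : ∀ g ∈ X, ∀ K : Subgroup G, K ≤ X → MulAut.conj g • K ≤ X := by
      intro g hg K hK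
      have h1 : MulAut.conj g • K ≤ MulAut.conj g • X :=
        pointwise_smul_le_pointwise_smul_iff.mpr hK
      rwa [conj_smul_eq_self_of_mem hg] at h1
    -- every conjugate of an element of `A` normalizes `M`
    have hxN : ∀ a ∈ A, ∀ g ∈ X, g⁻¹ * a * g ∈ normalizer (M : Set G) := by
      intro a ha g hg
      have hxX : g⁻¹ * a * g ∈ X := X.mul_mem (X.mul_mem (X.inv_mem hg) (hAX ha)) hg
      have hxA : MulAut.conj (g⁻¹ * a * g) • A ≤ M := by
        have hle : A ⊔ MulAut.conj (g⁻¹ * a * g) • A ≤ X := sup_le hAX (hconjX _ hxX A hAX)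
        rcases eq_or_lt_of_le hle with heq | hlt
        · exact absurd (heq ▸ h a ha g hg) hnot
        · exact le_sup_right.trans (hM _ le_sup_left hlt)
      have h1 : A ≤ (MulAut.conj (g⁻¹ * a * g))⁻¹ • M := pointwise_smul_subset_iff.mp hxA
      have h2 : (MulAut.conj (g⁻¹ * a * g))⁻¹ • M < X := by
        have hle : (MulAut.conj (g⁻¹ * a * g))⁻¹ • M ≤ X := by
          rw [← subset_pointwise_smul_iff, conj_smul_eq_self_of_mem hxX]
          exact hMX.le
        refine lt_of_le_of_ne hle (fun h => hMX.ne ?_)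
        have h3 : MulAut.conj (g⁻¹ * a * g) • ((MulAut.conj (g⁻¹ * a * g))⁻¹ • M) =
            MulAut.conj (g⁻¹ * a * g) • X := by rw [h]
        rw [smul_inv_smul, conj_smul_eq_self_of_mem hxX] at h3
        exact h3
      have h3 : (MulAut.conj (g⁻¹ * a * g))⁻¹ • M ≤ M := hM _ h1 h2
      have h4 : (MulAut.conj (g⁻¹ * a * g))⁻¹ • M = M := by
        refine eq_of_le_of_card_ge h3 ?_
        rw [← map_inv, card_conj_smul]
      have h5 : (g⁻¹ * a * g)⁻¹ ∈ normalizer (M : Set G) := by
        rw [← conj_smul_eq_self_iff_mem_normalizer, map_inv]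
        exact h4
      have := (normalizer (M : Set G)).inv_mem h5
      rwa [inv_inv] at this
    have hconj : ∀ g ∈ X, MulAut.conj g • A ≤ M := by
      intro g hg
      by_cases hXn : X ≤ normalizer (M : Set G)
      · have h1 : MulAut.conj g • A ≤ MulAut.conj g • M :=
          pointwise_smul_le_pointwise_smul_iff.mpr hAM
        rwa [conj_smul_eq_self_iff_mem_normalizer.mpr (hXn hg)] at h1
      · have hKlt : normalizer (M : Set G) ⊓ X < X := by
          refine lt_of_le_of_ne inf_le_right (fun h => hXn ?_)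
          exact inf_eq_right.mp h
        have hAK : A ≤ normalizer (M : Set G) ⊓ X := le_inf (hAM.trans le_normalizer) hAX
        have hKM : normalizer (M : Set G) ⊓ X ≤ M := hM _ hAK hKlt
        intro y hy
        have hyA : g⁻¹ * y * g ∈ A := mem_conj_smul'.mp hy
        have hyX : y ∈ X := hconjX g hg A hAX hy
        have hyN := hxN _ hyA g⁻¹ (X.inv_mem hg)
        have h2 : g⁻¹⁻¹ * (g⁻¹ * y * g) * g⁻¹ = y := by group
        rw [h2] at hyN
        exact hKM (mem_inf.mpr ⟨hyN, hyX⟩)
    have hNM : (⨆ g : X, MulAut.conj (g : G) • A) ≤ M := iSup_le (fun g => hconj g g.2)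
    have hAN : A ≤ ⨆ g : X, MulAut.conj (g : G) • A := by
      have := le_iSup (fun g : X => MulAut.conj (g : G) • A) 1
      simpa using this
    have hclosed : ∀ x ∈ X, ∀ y ∈ (⨆ g : X, MulAut.conj (g : G) • A), x * y * x⁻¹ ∈
        (⨆ g : X, MulAut.conj (g : G) • A) := by
      intro x hx y hy
      have hle : (⨆ g : X, MulAut.conj (g : G) • A) ≤
          (MulAut.conj x)⁻¹ • (⨆ g : X, MulAut.conj (g : G) • A) := by
        refine iSup_le (fun g => ?_)
        rw [← pointwise_smul_subset_iff, smul_smul, ← map_mul]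
        exact le_iSup (fun g : X => MulAut.conj (g : G) • A) ⟨x * g, X.mul_mem hx g.2⟩
      have := hle hy
      rw [mem_inv_pointwise_smul_iff, MulAut.smul_def, MulAut.conj_apply] at this
      exact this
    have hXN : X ≤ normalizer ((⨆ g : X, MulAut.conj (g : G) • A : Subgroup G) : Set G) := by
      intro x hx
      rw [mem_normalizer_iff]
      intro y
      refine ⟨hclosed x hx y, fun hy => ?_⟩
      have := hclosed x⁻¹ (X.inv_mem hx) _ hy
      have h2 : x⁻¹ * (x * y * x⁻¹) * x⁻¹⁻¹ = y := by group
      rwa [h2] at this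
    have hNX : (⨆ g : X, MulAut.conj (g : G) • A) < X := lt_of_le_of_lt hNM hMX
    exact hnot ((ih _ hNX A hAN (fun a ha g hg => h a ha g (hNX.le hg))).trans
      (RSN.of_normal hNX.le hXN))

/-- Let A be a subgroup of a finite group G. If A is subnormal in the subgroup generated by A and its conjugate by g⁻¹ a g, for every a ∈ A and every g ∈ G, then A is subnormal in G. (A sharpening of Wielandt's subnormality criterion: only conjugates of A by conjugates of elements of A are needed.) -/
theorem result {G : Type*} [Group G] [Finite G]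
    (A : Subgroup G)
    (h : ∀ a ∈ A, ∀ g : G, (A.subgroupOf (A ⊔ MulAut.conj (g⁻¹ * a * g) • A)).IsSubnormal) :
    A.IsSubnormal := by
  rw [← rsn_top_iff]
  exact wielandt_sharp_aux ⊤ A le_top
    (fun a ha g _ => rsn_of_subgroupOf_isSubnormal le_sup_left (h a ha g))

end Cfsg.Agent.S4333
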