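import Cfsg.Statements.S4334
import Mathlib.GroupTheory.NoncommCoprod
import Cfsg.Agent.Lib.Helper66.HallConj

set_option autoImplicit false
open Cfsg

namespace Cfsg.Agent.S4334

theorem card_mul_relIndex_eq {G : Type*} [Group G] [Finite G] (A H : Subgroup G) (h : A ≤ H) :
    Nat.card A * A.relIndex H = Nat.card H := by
  have h1 : A.relIndex H * H.index = A.index := Subgroup.relIndex_mul_index h
  have h2 := A.card_mul_index
  have h3 := H.card_mul_index
  have hpos : 0 < H.index := Nat.pos_of_ne_zero Subgroup.index_ne_zero_of_finite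
  apply Nat.eq_of_mul_eq_mul_right hpos
  rw [mul_assoc, h1, h2, h3]

/-- Let σ and τ be disjoint sets of primes with union π. Suppose a finite group G has a Hall π-subgroup H which is the direct product of a nilpotent σ-subgroup and a τ-subgroup (two elementwise-commuting subgroups generating H), and that the maximal τ-subgroups of G are pairwise conjugate. Then the maximal π-subgroups of G are pairwise conjugate. -/
theorem result {G : Type*} [Group G] [Finite G]
    (σ τ π : Set ℕ) (hπ : π = σ ∪ τ) (hd : Disjoint σ τ) (H Hs Ht : Subgroup G) (hH : Cfsg.IsPiHall π H)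
    (hs : Cfsg.IsPiSubgroup σ Hs) (ht : Cfsg.IsPiSubgroup τ Ht) (hsn : Group.IsNilpotent Hs)
    (hjoin : Hs ⊔ Ht = H) (hcomm : ∀ a ∈ Hs, ∀ b ∈ Ht, a * b = b * a) (hD : Cfsg.IsDPiGroup τ G) :
    Cfsg.IsDPiGroup π G := by
  classical
  have hab : Nat.Coprime (Nat.card Hs) (Nat.card Ht) := by
    apply Nat.coprime_of_dvd
    intro p hp h1 h2
    exact Set.disjoint_left.mp hd (hs p hp h1) (ht p hp h2)
  -- the product homomorphism
  obtain ⟨f, hrange, hfapp⟩ : ∃ f : Hs × Ht →* G, f.range = H ∧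
      ∀ x : Hs × Ht, f x = (x.1 : G) * (x.2 : G) := by
    have hc : ∀ (m : Hs) (n : Ht), Commute (Hs.subtype m) (Ht.subtype n) :=
      fun a b => hcomm a a.2 b b.2
    refine ⟨MonoidHom.noncommCoprod Hs.subtype Ht.subtype hc, ?_, ?_⟩
    · rw [MonoidHom.noncommCoprod_range, Subgroup.range_subtype, Subgroup.range_subtype, hjoin]
    · intro x; rfl
  have hdecomp : ∀ h ∈ H, ∃ a ∈ Hs, ∃ b ∈ Ht, h = a * b := by
    intro h hh
    rw [← hrange] at hh
    obtain ⟨⟨a, b⟩, rfl⟩ := hh
    exact ⟨a, a.2, b, b.2, hfapp _⟩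
  have hHcard : Nat.card H ∣ Nat.card Hs * Nat.card Ht := by
    rw [← hrange, ← Nat.card_prod, ← Subgroup.index_ker]
    exact Subgroup.index_dvd_card _
  have hsH : Hs ≤ H := hjoin ▸ le_sup_left
  have htH : Ht ≤ H := hjoin ▸ le_sup_right
  have hHall : Nat.Coprime (Nat.card H) H.index := by
    apply Nat.coprime_of_dvd
    intro p hp h1 h2
    exact hH.2 p hp (hH.1 p hp h1) h2
  -- relative indices
  have hrel_s : Hs.relIndex H ∣ Nat.card Ht := by
    have h1 : Nat.card Hs * Hs.relIndex H ∣ Nat.card Hs * Nat.card Ht := by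
      rw [card_mul_relIndex_eq Hs H hsH]; exact hHcard
    exact Nat.dvd_of_mul_dvd_mul_left Nat.card_pos h1
  have hrel_t : Ht.relIndex H ∣ Nat.card Hs := by
    have h1 : Nat.card Ht * Ht.relIndex H ∣ Nat.card Ht * Nat.card Hs := by
      rw [card_mul_relIndex_eq Ht H htH, mul_comm]; exact hHcard
    exact Nat.dvd_of_mul_dvd_mul_left Nat.card_pos h1
  have hsub_σ : σ ⊆ π := by rw [hπ]; exact Set.subset_union_left
  have hsub_τ : τ ⊆ π := by rw [hπ]; exact Set.subset_union_right
  -- `Ht` is a maximal `τ`-subgroup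
  have hmaxHt : Maximal (Cfsg.IsPiSubgroup τ) Ht := by
    refine ⟨ht, fun Y hY hle => ?_⟩
    rw [← Subgroup.relIndex_eq_one]
    by_contra hne
    obtain ⟨r, hr, hrd⟩ := Nat.exists_prime_and_dvd hne
    have hrτ : r ∈ τ := hY r hr (hrd.trans (Subgroup.relIndex_dvd_card _ _))
    have h1 : r ∣ Ht.index := hrd.trans (Subgroup.relIndex_dvd_index_of_le hle)
    rw [← Subgroup.relIndex_mul_index htH] at h1
    rcases (Nat.Prime.dvd_mul hr).mp h1 with h2 | h2
    · have h3 : r ∈ σ := hs r hr (h2.trans hrel_t)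
      exact Set.disjoint_left.mp hd h3 hrτ
    · exact hH.2 r hr (hsub_τ hrτ) h2
  -- every `π`-subgroup is conjugate into `H`
  apply Cfsg.Agent.Helper66.isDPiGroup_of_subconj π H hH.1
  intro K hK
  have hK' : ∀ r : ℕ, r.Prime → r ∣ Nat.card K → r ∣ Nat.card H := by
    intro r hr hrK
    have h1 : r ∣ Nat.card H * H.index := by
      rw [H.card_mul_index]; exact hrK.trans (Subgroup.card_subgroup_dvd_card K)
    rcases (Nat.Prime.dvd_mul hr).mp h1 with h2 | h2
    · exact h2
    · exact absurd h2 (hH.2 r hr (hK r hr hrK))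
  refine Cfsg.Agent.Helper66.subconj_core H hHall {p | p.Prime ∧ p ∣ Nat.card Hs} ?_ ?_ _ K rfl hK'
  · rintro p ⟨hpp, hpa⟩
    refine ⟨hpp, ?_⟩
    have : Fact p.Prime := ⟨hpp⟩
    have Q : Sylow p Hs := default
    have hpσ : p ∈ σ := hs p hpp hpa
    have hpb : ¬ p ∣ Nat.card Ht := by
      intro hpb
      have := Nat.eq_one_of_dvd_coprimes hab hpa hpb
      exact hpp.one_lt.ne' this
    have hpi : ¬ p ∣ Hs.index := by
      rw [← Subgroup.relIndex_mul_index hsH]
      intro h1
      rcases (Nat.Prime.dvd_mul hpp).mp h1 with h2 | h2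
      · exact hpb (h2.trans hrel_s)
      · exact hH.2 p hpp (hsub_σ hpσ) h2
    refine ⟨(Q : Subgroup Hs).map Hs.subtype, ?_,
      Cfsg.Agent.Helper66.card_sylow_map_of_not_dvd_index p Hs hpi Q, ?_⟩
    · rintro _ ⟨q, _, rfl⟩
      exact hsH q.2
    · intro h hh hho s hs'
      obtain ⟨a, ha, b, hb, rfl⟩ := hdecomp h hh
      have hsHs : s ∈ Hs := by
        obtain ⟨q, _, rfl⟩ := hs'
        exact q.2
      have hsb : s * b = b * s := hcomm s hsHs b hb
      have hab' : a * b = b * a := hcomm a ha b hb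
      -- the order of `a` is prime to `p`
      have hbpow : b ^ Nat.card Ht = 1 := by
        have h1 : (⟨b, hb⟩ : Ht) ^ Nat.card Ht = 1 := pow_card_eq_one'
        exact congrArg Subtype.val h1
      have hpow : (a * b) ^ Nat.card Ht = a ^ Nat.card Ht := by
        rw [(show Commute a b from hab').mul_pow, hbpow, mul_one]
      have hao : orderOf a ∣ Nat.card Hs := by
        have h1 : orderOf (⟨a, ha⟩ : Hs) ∣ Nat.card Hs := orderOf_dvd_natCard _
        rwa [Subgroup.orderOf_mk] at h1
      have hao2 : orderOf (a ^ Nat.card Ht) = orderOf a :=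
        Nat.Coprime.orderOf_pow (Nat.Coprime.coprime_dvd_left hao hab)
      have hao3 : orderOf a ∣ orderOf (a * b) := by
        rw [← hao2, ← hpow]; exact orderOf_pow_dvd _
      have hao4 : Nat.Coprime (orderOf a) p := Nat.Coprime.coprime_dvd_left hao3 hho
      have hsa : s * a = a * s :=
        Cfsg.Agent.Helper66.commute_sylow_of_isNilpotent p Hs Q a ha hao4 s hs'
      calc s * (a * b) = (s * a) * b := by rw [mul_assoc]
        _ = a * (s * b) := by rw [hsa, mul_assoc]
        _ = a * b * s := by rw [hsb, mul_assoc]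
  · intro T hT
    -- `T` is a `τ`-subgroup
    have hTτ : Cfsg.IsPiSubgroup τ T := by
      intro r hr hrT
      obtain ⟨h1, h2⟩ := hT r hr hrT
      rcases (Nat.Prime.dvd_mul hr).mp (h1.trans hHcard) with h3 | h3
      · exact absurd ⟨hr, h3⟩ h2
      · exact ht r hr h3
    obtain ⟨T', hTT', hT'⟩ := Finite.exists_le_maximal (p := Cfsg.IsPiSubgroup τ) hTτ
    obtain ⟨g, hg⟩ := hD Ht T' hmaxHt hT'
    refine ⟨g⁻¹, ?_⟩
    intro t htT
    have h1 : t ∈ T' := hTT' htT
    rw [hg] at h1
    obtain ⟨y, hy, rfl⟩ := h1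
    have : g⁻¹ * ((MulAut.conj g).toMonoidHom y) * g⁻¹⁻¹ = y := by
      simp [mul_assoc]
    rw [this]
    exact htH hy

end Cfsg.Agent.S4334
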