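import Cfsg.Statements.S4342
import Mathlib

set_option autoImplicit false
open Cfsg

namespace Cfsg.Agent.S4342

/-- Sylow numbers are unchanged by passing to the quotient by a central subgroup. -/
theorem card_sylow_quotient_center {H : Type*} [Group H] [Finite H] (p : ℕ) [Fact p.Prime] :
    Nat.card (Sylow p (H ⧸ Subgroup.center H)) = Nat.card (Sylow p H) := by
  symm
  have hf : Function.Surjective (QuotientGroup.mk' (Subgroup.center H)) :=
    QuotientGroup.mk'_surjective _
  apply Nat.card_eq_of_bijective (Sylow.mapSurjective hf)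
  refine ⟨?_, Sylow.mapSurjective_surjective hf p⟩
  -- injectivity
  have key : ∀ P P' : Sylow p H, Sylow.mapSurjective hf P = Sylow.mapSurjective hf P' →
      (P : Subgroup H) ≤ P' := by
    intro P P' hPP' x hx
    have h1 : (QuotientGroup.mk' (Subgroup.center H)) x ∈
        (P : Subgroup H).map (QuotientGroup.mk' (Subgroup.center H)) := Subgroup.mem_map_of_mem _ hx
    have h2 : (P : Subgroup H).map (QuotientGroup.mk' (Subgroup.center H)) =
        (P' : Subgroup H).map (QuotientGroup.mk' (Subgroup.center H)) := by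
      have := congrArg (fun Q : Sylow p (H ⧸ Subgroup.center H) => Q.toSubgroup) hPP'
      simpa using this
    rw [h2] at h1
    obtain ⟨y, hy, hyx⟩ := Subgroup.mem_map.mp h1
    -- y⁻¹ * x ∈ center
    have hz : y⁻¹ * x ∈ Subgroup.center H := by
      have : (QuotientGroup.mk y : H ⧸ Subgroup.center H) = QuotientGroup.mk x := hyx
      exact QuotientGroup.eq.mp this
    set z := y⁻¹ * x with hzdef
    have hxyz : x = y * z := by rw [hzdef]; group
    -- z is a p-element
    have hzc : ∀ g : H, g * z = z * g := fun g => Subgroup.mem_center_iff.mp hz g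
    obtain ⟨k1, hk1⟩ := (IsPGroup.iff_orderOf.mp P.isPGroup') ⟨x, hx⟩
    obtain ⟨k2, hk2⟩ := (IsPGroup.iff_orderOf.mp P'.isPGroup') ⟨y, hy⟩
    have hx1 : x ^ (p ^ (k1 + k2)) = 1 := by
      have : orderOf x = p ^ k1 := by rw [← hk1, Subgroup.orderOf_mk]
      rw [pow_add, pow_mul, ← this, pow_orderOf_eq_one, one_pow]
    have hy1 : y ^ (p ^ (k1 + k2)) = 1 := by
      have : orderOf y = p ^ k2 := by rw [← hk2, Subgroup.orderOf_mk]
      rw [pow_add, mul_comm, pow_mul, ← this, pow_orderOf_eq_one, one_pow]
    have hz1 : z ^ (p ^ (k1 + k2)) = 1 := by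
      have hcomm : Commute y⁻¹ x := by
        have : Commute y x := by
          rw [hxyz]
          exact (Commute.refl y).mul_right (hzc y)
        exact this.inv_left
      rw [hzdef, hcomm.mul_pow, inv_pow, hy1, hx1, inv_one, one_mul]
    have hzp : IsPGroup p (Subgroup.zpowers z) := by
      rw [IsPGroup.iff_card, Nat.card_zpowers]
      exact (Nat.dvd_prime_pow Fact.out).mp (orderOf_dvd_of_pow_eq_one hz1) |>.imp (fun _ h => h.2)
    have hzn : (Subgroup.zpowers z).Normal := by
      constructor
      intro n hn g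
      obtain ⟨i, rfl⟩ := Subgroup.mem_zpowers_iff.mp hn
      have : g * z ^ i * g⁻¹ = z ^ i := by
        have hc0 : Commute g z := hzc g
        have hc : Commute g (z ^ i) := hc0.zpow_right i
        rw [hc.eq, mul_assoc, mul_inv_cancel, mul_one]
      rw [this]; exact hn
    have hzP' : z ∈ (P' : Subgroup H) := hzp.le_sylow_of_normal P' (Subgroup.mem_zpowers z)
    rw [hxyz]
    exact Subgroup.mul_mem _ hy hzP'
  intro P P' hPP'
  exact Sylow.ext ((P.is_maximal' P'.isPGroup' (key P P' hPP')).symm)

/-- Sylow `p`-subgroups lie in normal subgroups of index prime to `p`. -/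
theorem sylow_le_of_normal {G : Type*} [Group G] [Finite G]
    (p : ℕ) [Fact p.Prime] (H : Subgroup G) [H.Normal] (hp : ¬ p ∣ H.index) (P : Sylow p G) :
    (P : Subgroup G) ≤ H := by
  intro x hx
  obtain ⟨k, hk⟩ := (IsPGroup.iff_orderOf.mp P.isPGroup') ⟨x, hx⟩
  have hk' : orderOf x = p ^ k := by rw [← hk, Subgroup.orderOf_mk]
  have h1 : orderOf (QuotientGroup.mk x : G ⧸ H) ∣ p ^ k := by
    rw [← hk']
    exact orderOf_map_dvd (QuotientGroup.mk' H) x
  have h2 : orderOf (QuotientGroup.mk x : G ⧸ H) ∣ H.index := by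
    rw [Subgroup.index]
    exact orderOf_dvd_natCard _
  have hcop : Nat.Coprime (p ^ k) H.index :=
    Nat.Coprime.pow_left k ((Nat.Prime.coprime_iff_not_dvd Fact.out).mpr hp)
  have h3 : orderOf (QuotientGroup.mk x : G ⧸ H) = 1 := Nat.eq_one_of_dvd_coprimes hcop h1 h2
  rw [orderOf_eq_one_iff] at h3
  exact (QuotientGroup.eq_one_iff x).mp h3

/-- Let H be a normal subgroup of a finite group G and p a prime not dividing the index of H. Then the number of Sylow p-subgroups of H/Z(H) equals the number of Sylow p-subgroups of G. -/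
theorem result {G : Type*} [Group G] [Finite G]
    (p : ℕ) [Fact p.Prime] (H : Subgroup G) [H.Normal] (hp : ¬ p ∣ H.index) :
    Nat.card (Sylow p (H ⧸ Subgroup.center H)) = Nat.card (Sylow p G) := by
  rw [card_sylow_quotient_center]
  symm
  apply Nat.card_eq_of_bijective (fun P : Sylow p G => P.subtype (sylow_le_of_normal p H hp P))
  constructor
  · intro P Q hPQ
    exact Sylow.subtype_injective hPQ
  · intro Q
    obtain ⟨P, hP⟩ := Sylow.exists_comap_subtype_eq Q
    refine ⟨P, ?_⟩
    apply Sylow.ext
    rw [Sylow.coe_subtype]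
    exact hP

end Cfsg.Agent.S4342
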