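import Cfsg.Statements.S4344
import Mathlib

set_option autoImplicit false
open Cfsg

namespace Cfsg.Agent.S4344

open scoped Pointwise

/-- Let S be a finite non-abelian simple group, M a maximal subgroup of S and C a cyclic normal subgroup of M. If a Sylow p-subgroup P of S (for a prime p dividing the order of S) is contained in C, then the number of Sylow p-subgroups of S equals the index of M. -/
theorem result {S : Type*} [Group S] [Finite S]
    [IsSimpleGroup S] (hS : ¬ IsMulCommutative S) (p : ℕ) [Fact p.Prime] (hp : p ∣ Nat.card S)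
    (M : Subgroup S) (hM : IsCoatom M) (C : Subgroup S) (hCM : C ≤ M) (hCn : (C.subgroupOf M).Normal)
    (hC : IsCyclic C) (P : Sylow p S) (hP : (P : Subgroup S) ≤ C) :
    Nat.card (Sylow p S) = M.index := by
  rw [Sylow.card_eq_index_normalizer P]
  congr 1
  -- M ≤ normalizer P
  have hMN : M ≤ Subgroup.normalizer ((P : Subgroup S) : Set S) := by
    intro m hm
    refine (Sylow.smul_eq_iff_mem_normalizer (g := m) (P := P)).mp ?_
    -- m • P ≤ C
    have hQC : ((m • P : Sylow p S) : Subgroup S) ≤ C := by
      intro y hy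
      rw [Sylow.coe_subgroup_smul, Subgroup.mem_pointwise_smul_iff_inv_smul_mem] at hy
      have hy' : (MulAut.conj m)⁻¹ • y ∈ C := hP hy
      -- conj back
      have := hCn.conj_mem ⟨(MulAut.conj m)⁻¹ • y, hCM hy'⟩ (by rwa [Subgroup.mem_subgroupOf]) ⟨m, hm⟩
      rw [Subgroup.mem_subgroupOf] at this
      have h2 : m * (m⁻¹ * y * m) * m⁻¹ = y := by group
      simpa [MulAut.smul_def, h2] using this
    have : IsMulCommutative C := ⟨⟨fun a b => by
      obtain ⟨g, hg⟩ := hC.exists_generator
      obtain ⟨i, rfl⟩ := Subgroup.mem_zpowers_iff.mp (hg a)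
      obtain ⟨j, rfl⟩ := Subgroup.mem_zpowers_iff.mp (hg b)
      rw [← zpow_add, ← zpow_add, add_comm]⟩⟩
    have hsub : Subsingleton (Sylow p C) := by
      have hnorm : ((P.subtype hP : Sylow p C) : Subgroup C).Normal := by
        constructor
        intro n hn g
        have : g * n * g⁻¹ = n := by rw [mul_comm' g n, mul_assoc, mul_inv_cancel, mul_one]
        rwa [this]
      exact (Sylow.unique_of_normal _ hnorm).instSubsingleton
    exact Sylow.subtype_injective (Subsingleton.elim ((m • P).subtype hQC) (P.subtype hP))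
  have hne : Subgroup.normalizer ((P : Subgroup S) : Set S) ≠ ⊤ := by
    intro htop
    have hPn : (P : Subgroup S).Normal := Subgroup.normalizer_eq_top_iff.mp htop
    rcases hPn.eq_bot_or_eq_top with h | h
    · exact P.ne_bot_of_dvd_card hp h
    · apply hS
      have hCtop : C = ⊤ := top_le_iff.mp (h ▸ hP)
      constructor; constructor
      intro a b
      obtain ⟨g, hg⟩ := hC.exists_generator
      have ha : (⟨a, hCtop ▸ Subgroup.mem_top a⟩ : C) ∈ Subgroup.zpowers g := hg _
      have hb : (⟨b, hCtop ▸ Subgroup.mem_top b⟩ : C) ∈ Subgroup.zpowers g := hg _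
      obtain ⟨i, hi⟩ := Subgroup.mem_zpowers_iff.mp ha
      obtain ⟨j, hj⟩ := Subgroup.mem_zpowers_iff.mp hb
      have ha' : a = (g : S) ^ i := by
        have := congrArg Subtype.val hi; simpa using this.symm
      have hb' : b = (g : S) ^ j := by
        have := congrArg Subtype.val hj; simpa using this.symm
      rw [ha', hb', ← zpow_add, ← zpow_add, add_comm]
  rcases hM.le_iff.mp hMN with h | h
  · exact absurd h hne
  · exact h

end Cfsg.Agent.S4344
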