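import Cfsg.Statements.S4346
import Cfsg.Agent.S1017
import Cfsg.Agent.S4304

set_option autoImplicit false
open Cfsg

namespace Cfsg.Agent.S4346


section

open MulAction Subgroup

open scoped Pointwise

open Cfsg.Agent.S1017

instance fact2 : Fact (Nat.Prime 2) := ⟨Nat.prime_two⟩

instance fact3 : Fact (Nat.Prime 3) := ⟨by norm_num⟩

instance fact5 : Fact (Nat.Prime 5) := ⟨by norm_num⟩

instance fact7 : Fact (Nat.Prime 7) := ⟨by norm_num⟩

instance fact11 : Fact (Nat.Prime 11) := ⟨by norm_num⟩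

/-- Standing hypotheses for the order-three analysis. -/
structure Cfg (G : Type*) [Group G] [Finite G] : Prop where
  h22 : Nat.card (Sylow 3 G) = 22
  faith : ∀ g : G, (∀ Q : Sylow 3 G, g • Q = Q) → g = 1
  even : ∀ g : G, orderOf g = 2 → Nat.card (fixedBy (Sylow 3 G) g) % 4 = 2
  h3 : ∀ Q : Sylow 3 G, Nat.card (Q : Subgroup G) = 3

variable {G : Type*} [Group G] [Finite G]

theorem Cfg.fx_le (_h : Cfg G) (g : G) : Nat.card (fixedBy (Sylow 3 G) g) ≤ 22 := by
  rw [← _h.h22]
  exact card_fixedBy_le g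

theorem Cfg.fx_ne (h : Cfg G) (g : G) (hg : g ≠ 1) : Nat.card (fixedBy (Sylow 3 G) g) ≠ 22 := by
  intro hc
  apply hg
  apply h.faith
  exact forall_smul_eq_of_card g (by rw [hc, h.h22])

theorem Cfg.fx_mod_prime (h : Cfg G) (g : G) {r : ℕ} [Fact r.Prime] (hg : orderOf g = r) :
    22 ≡ Nat.card (fixedBy (Sylow 3 G) g) [MOD r] := by
  have := card_modEq_card_fixedBy (α := Sylow 3 G) g hg
  rwa [h.h22] at this

theorem Cfg.fx_mod_three (h : Cfg G) (g : G) (Q : Sylow 3 G)
    (hg : g ∈ Subgroup.centralizer ((Q : Subgroup G) : Set G)) :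
    Nat.card (fixedBy (Sylow 3 G) g) ≡ 1 [MOD 3] :=
  card_fixedBy_sylow_modEq Q (h.h3 Q) g hg

theorem Cfg.cent_of_fixed (h : Cfg G) (g : G) {r : ℕ} [hr : Fact r.Prime] (hg : orderOf g = r)
    (hr5 : 5 ≤ r) (Q : Sylow 3 G) (hQ : g • Q = Q) :
    g ∈ Subgroup.centralizer ((Q : Subgroup G) : Set G) := by
  have hN : g ∈ Subgroup.normalizer ((Q : Subgroup G) : Set G) :=
    Sylow.smul_eq_iff_mem_normalizer.mp hQ
  have key := Cfsg.Agent.S4304.centralizes_of_numerics (Q : Subgroup G) g hN r hg (by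
    intro m hm hmod
    rw [h.h3 Q] at hm hmod ⊢
    have hm' : m = 1 ∨ m = 3 := (Nat.dvd_prime (by norm_num)).mp hm
    rcases hm' with rfl | rfl
    · exfalso
      have : r ∣ 3 - 1 := (Nat.modEq_iff_dvd' (by norm_num)).mp hmod.symm
      have := Nat.le_of_dvd (by norm_num) this
      omega
    · rfl)
  rw [Subgroup.mem_centralizer_iff]
  intro y hy
  exact (key y hy).symm

theorem Cfg.exists_fixed (_h : Cfg G) (g : G) (hpos : 0 < Nat.card (fixedBy (Sylow 3 G) g)) :
    ∃ Q : Sylow 3 G, g • Q = Q := by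
  have : Nonempty (fixedBy (Sylow 3 G) g) := (Nat.card_pos_iff.mp hpos).1
  obtain ⟨⟨Q, hQ⟩⟩ := this
  exact ⟨Q, hQ⟩

theorem Cfg.fx_five (h : Cfg G) (g : G) (hg : orderOf g = 5) :
    Nat.card (fixedBy (Sylow 3 G) g) = 7 := by
  have h1 := h.fx_mod_prime g hg
  have hle := h.fx_le g
  have hne := h.fx_ne g (ne_one_of_orderOf_prime g (by norm_num) hg)
  have hpos : 0 < Nat.card (fixedBy (Sylow 3 G) g) := by
    unfold Nat.ModEq at h1
    omega
  obtain ⟨Q, hQ⟩ := h.exists_fixed g hpos
  have h3 := h.fx_mod_three g Q (h.cent_of_fixed g hg (by norm_num) Q hQ)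
  unfold Nat.ModEq at h1 h3
  omega

theorem Cfg.fx_seven (h : Cfg G) (g : G) (hg : orderOf g = 7) :
    Nat.card (fixedBy (Sylow 3 G) g) = 1 := by
  have h1 := h.fx_mod_prime g hg
  have hle := h.fx_le g
  have hne := h.fx_ne g (ne_one_of_orderOf_prime g (by norm_num) hg)
  have hpos : 0 < Nat.card (fixedBy (Sylow 3 G) g) := by
    unfold Nat.ModEq at h1
    omega
  obtain ⟨Q, hQ⟩ := h.exists_fixed g hpos
  have h3 := h.fx_mod_three g Q (h.cent_of_fixed g hg (by norm_num) Q hQ)
  unfold Nat.ModEq at h1 h3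
  omega

end

section

open MulAction Subgroup

open scoped Pointwise

open Cfsg.Agent.S1017

variable {G : Type*} [Group G] [Finite G]

/-- If every Sylow subgroup fixed by `a` is centralized by `a`, then `|C(a)|` is a multiple of
the number of fixed points. -/
theorem card_centralizer_of_forall {p : ℕ} [hp : Fact p.Prime] (P : Sylow p G) (a : G)
    (hP : a ∈ Subgroup.centralizer ((P : Subgroup G) : Set G))
    (hall : ∀ Q : Sylow p G, a • Q = Q → a ∈ Subgroup.centralizer ((Q : Subgroup G) : Set G)) :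
    Nat.card (Subgroup.centralizer ({a} : Set G)) = Nat.card (fixedBy (Sylow p G) a) *
      Nat.card ↥(Subgroup.normalizer ((P : Subgroup G) : Set G) ⊓
        Subgroup.centralizer ({a} : Set G)) := by
  have hPH : (P : Subgroup G) ≤ Subgroup.centralizer ({a} : Set G) :=
    (le_centralizer_singleton_iff _ a).2 hP
  rw [card_eq_card_mul _ P hPH]
  congr 1
  apply Nat.card_congr
  refine Equiv.subtypeEquivRight ?_
  intro Q
  rw [le_centralizer_singleton_iff, mem_fixedBy]
  constructor
  · intro h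
    exact Sylow.smul_eq_iff_mem_normalizer.mpr (Subgroup.centralizer_le_normalizer _ h)
  · intro h
    exact hall Q h

theorem Cfg.no_five (h : Cfg G) (a : G) (ha : orderOf a = 5) : False := by
  have h7 := h.fx_five a ha
  obtain ⟨Q, hQ⟩ := h.exists_fixed a (by rw [h7]; norm_num)
  have hcent := card_centralizer_of_forall Q a (h.cent_of_fixed a ha (by norm_num) Q hQ)
    (fun Q' hQ' => h.cent_of_fixed a ha (by norm_num) Q' hQ')
  rw [h7] at hcent
  have hdvd : 7 ∣ Nat.card (Subgroup.centralizer ({a} : Set G)) := ⟨_, hcent⟩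
  obtain ⟨b, hb⟩ := exists_prime_orderOf_dvd_card' (G := ↥(Subgroup.centralizer ({a} : Set G))) 7 hdvd
  have hb7 : orderOf (b : G) = 7 := by rw [Subgroup.orderOf_coe]; exact hb
  have hcomm : Commute (b : G) a := by
    have := Subgroup.mem_centralizer_iff.mp b.2 a rfl
    exact this.symm
  have hfb := h.fx_seven (b : G) hb7
  have m1 := card_fixedBy_modEq_inter (α := Sylow 3 G) (b : G) a hcomm hb7
  have m2 := card_fixedBy_modEq_inter (α := Sylow 3 G) a (b : G) hcomm.symm ha
  rw [h7] at m1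
  rw [hfb] at m2
  have hle : Nat.card ↥(fixedBy (Sylow 3 G) (b : G) ∩ fixedBy (Sylow 3 G) a) ≤ 1 := by
    rw [← hfb]
    exact card_inter_le_left _ _
  rw [card_inter_comm] at m1
  unfold Nat.ModEq at m1 m2
  omega

theorem Cfg.no_invol_cent (h : Cfg G) (u : G) (hu : orderOf u = 2) (Q : Sylow 3 G)
    (hQ : u ∈ Subgroup.centralizer ((Q : Subgroup G) : Set G)) : False := by
  have h1 := h.fx_mod_three u Q hQ
  have h2 := h.even u hu
  have hle := h.fx_le u
  have hne := h.fx_ne u (ne_one_of_orderOf_prime u (by norm_num) hu)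
  have h10 : Nat.card (fixedBy (Sylow 3 G) u) = 10 := by
    unfold Nat.ModEq at h1
    omega
  have hcent := card_centralizer_eq Q (h.h3 Q) u hQ (by rw [h10, h.h22]; norm_num)
  rw [h10] at hcent
  have hdvd : 5 ∣ Nat.card (Subgroup.centralizer ({u} : Set G)) :=
    ⟨2 * _, by rw [hcent]; ring⟩
  obtain ⟨a, ha⟩ := exists_prime_orderOf_dvd_card' (G := ↥(Subgroup.centralizer ({u} : Set G))) 5 hdvd
  exact h.no_five (a : G) (by rw [Subgroup.orderOf_coe]; exact ha)

theorem Cfg.cent_prime (h : Cfg G) (g : G) {r : ℕ} [hr : Fact r.Prime] (hg : orderOf g = r)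
    (Q : Sylow 3 G) (hQ : g ∈ Subgroup.centralizer ((Q : Subgroup G) : Set G)) :
    r = 3 ∨ r = 7 := by
  by_contra hcon
  push Not at hcon
  have h2 : r ≠ 2 := by
    rintro rfl
    exact h.no_invol_cent g hg Q hQ
  have h5 : r ≠ 5 := by
    rintro rfl
    exact h.no_five g hg
  have h1 := h.fx_mod_three g Q hQ
  have hm := h.fx_mod_prime g hg
  have hle := h.fx_le g
  have hne := h.fx_ne g (ne_one_of_orderOf_prime g hr.out hg)
  have hpos : 0 < Nat.card (fixedBy (Sylow 3 G) g) := by
    unfold Nat.ModEq at h1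
    omega
  have hdvd : r ∣ 22 - Nat.card (fixedBy (Sylow 3 G) g) :=
    (Nat.modEq_iff_dvd' hle).mp hm.symm
  have hr2 := hr.out.two_le
  have hrle : r ≤ 22 - Nat.card (fixedBy (Sylow 3 G) g) := Nat.le_of_dvd (by omega) hdvd
  set k := Nat.card (fixedBy (Sylow 3 G) g) with hk
  have hr4 : r ≠ 4 := by rintro rfl; exact absurd hr.out (by norm_num)
  have hr6 : r ≠ 6 := by rintro rfl; exact absurd hr.out (by norm_num)
  have hprime := hr.out
  unfold Nat.ModEq at h1
  obtain ⟨c, hc⟩ := hdvd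
  have hk22 : k ≤ 21 := by omega
  interval_cases k <;> simp at h1 <;> (
    have hr21 : r ≤ 21 := by omega
    interval_cases r <;> first | omega | (exfalso; revert hprime; norm_num))

end

section

open MulAction Subgroup

open scoped Pointwise

open Cfsg.Agent.S1017

variable {G : Type*} [Group G] [Finite G]

theorem fixedBy_subset_pow {α : Type*} [MulAction G α] (g : G) (n : ℕ) :
    fixedBy α g ⊆ fixedBy α (g ^ n) := by
  intro x hx
  have : g ^ n ∈ stabilizer G x := Subgroup.pow_mem _ hx n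
  exact this

theorem Cfg.fx_le_one_of_mem (h : Cfg G) (E : Subgroup G) (hE : Nat.card E = 49) (g : G)
    (hg : g ∈ E) (hg1 : g ≠ 1) : Nat.card (fixedBy (Sylow 3 G) g) ≤ 1 := by
  have hord : orderOf g ∣ 49 := by
    have := orderOf_dvd_natCard (⟨g, hg⟩ : E)
    rwa [Subgroup.orderOf_mk, hE] at this
  have h49 : (49 : ℕ) = 7 ^ 2 := by norm_num
  rw [h49, Nat.dvd_prime_pow (by norm_num)] at hord
  obtain ⟨k, hk, hko⟩ := hord
  have hk0 : k ≠ 0 := by
    rintro rfl
    rw [pow_zero, orderOf_eq_one_iff] at hko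
    exact hg1 hko
  have hk12 : k = 1 ∨ k = 2 := by omega
  rcases hk12 with rfl | rfl
  · rw [pow_one] at hko
    rw [h.fx_seven g hko]
  · have h7 : orderOf (g ^ 7) = 7 := by
      rw [orderOf_pow' g (by norm_num), hko]
      norm_num
    have := h.fx_seven (g ^ 7) h7
    rw [← this]
    exact Nat.card_mono (Set.toFinite _) (fixedBy_subset_pow g 7)

theorem Cfg.no_49 (h : Cfg G) (E : Subgroup G) (hE : Nat.card E = 49) : False := by
  have hpg : IsPGroup 7 E := IsPGroup.of_card (n := 2) (by rw [hE]; norm_num)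
  have hmod := hpg.card_modEq_card_fixedPoints (Sylow 3 G)
  rw [h.h22] at hmod
  have hpos : 0 < Nat.card (fixedPoints E (Sylow 3 G)) := by
    unfold Nat.ModEq at hmod
    omega
  obtain ⟨⟨ω₀, hω₀⟩⟩ := (Nat.card_pos_iff.mp hpos).1
  have hnt : Nontrivial (Sylow 3 G) := by
    rw [← Finite.one_lt_card_iff_nontrivial, h.h22]
    norm_num
  obtain ⟨ω₁, hω₁⟩ := exists_ne ω₀
  have hstab : stabilizer E ω₁ = ⊥ := by
    rw [Subgroup.eq_bot_iff_forall]
    rintro ⟨g, hg⟩ hgs
    by_contra hne
    have hg1 : g ≠ 1 := fun hh => hne (Subtype.ext hh)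
    have hle := h.fx_le_one_of_mem E hE g hg hg1
    have h0 : ω₀ ∈ fixedBy (Sylow 3 G) g := hω₀ ⟨g, hg⟩
    have h1 : ω₁ ∈ fixedBy (Sylow 3 G) g := hgs
    have : 2 ≤ Nat.card (fixedBy (Sylow 3 G) g) := by
      have hsub : ({ω₀, ω₁} : Set (Sylow 3 G)) ⊆ fixedBy (Sylow 3 G) g := by
        intro x hx
        rcases hx with rfl | rfl
        · exact h0
        · exact h1
      have h2 : ({ω₀, ω₁} : Set (Sylow 3 G)).ncard = 2 := Set.ncard_pair hω₁.symm
      rw [_root_.Nat.card_coe_set_eq, ← h2]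
      exact Set.ncard_le_ncard hsub (Set.toFinite _)
    omega
  have horb1 := Subgroup.card_eq_card_quotient_mul_card_subgroup (stabilizer ↥E ω₁)
  have horb2 : Nat.card (↥E ⧸ stabilizer ↥E ω₁) = Nat.card (orbit ↥E ω₁) :=
    (Nat.card_congr (orbitEquivQuotientStabilizer ↥E ω₁)).symm
  have horb : Nat.card (orbit ↥E ω₁) = 49 := by
    rw [← horb2, ← hE, horb1, hstab, Subgroup.card_bot, mul_one]
  have hle : Nat.card (orbit E ω₁) ≤ Nat.card (Sylow 3 G) :=
    Nat.card_le_card_of_injective _ Subtype.val_injective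
  rw [horb, h.h22] at hle
  omega

theorem Cfg.not_nine_dvd (h : Cfg G) : ¬ 9 ∣ Nat.card G := by
  intro h9
  obtain ⟨Q⟩ : Nonempty (Sylow 3 G) := inferInstance
  have h1 := Q.card_eq_multiplicity
  rw [h.h3 Q] at h1
  have h2 : (9 : ℕ) = 3 ^ 2 := by norm_num
  rw [h2, Nat.Prime.pow_dvd_iff_le_factorization (by norm_num) Nat.card_pos.ne'] at h9
  have : 3 ^ 2 ≤ 3 ^ (Nat.card G).factorization 3 := Nat.pow_le_pow_right (by norm_num) h9
  omega

theorem Cfg.card_centralizer (h : Cfg G) (Q : Sylow 3 G) :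
    Nat.card (Subgroup.centralizer ((Q : Subgroup G) : Set G)) = 3 ∨
    Nat.card (Subgroup.centralizer ((Q : Subgroup G) : Set G)) = 21 := by
  set C := Subgroup.centralizer ((Q : Subgroup G) : Set G) with hC
  have h3 : 3 ∣ Nat.card C := by
    have := Subgroup.card_dvd_of_le (le_centralizer_self Q (h.h3 Q))
    rwa [h.h3 Q] at this
  obtain ⟨m, hm⟩ := h3
  have hCG : Nat.card C ∣ Nat.card G := Subgroup.card_subgroup_dvd_card C
  have hm3 : ¬ 3 ∣ m := by
    rintro ⟨m', rfl⟩
    apply h.not_nine_dvd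
    exact Dvd.dvd.trans ⟨m', by rw [hm]; ring⟩ hCG
  have hm0 : m ≠ 0 := by
    rintro rfl
    have : 0 < Nat.card C := Nat.card_pos
    omega
  have hprime : ∀ {d : ℕ}, d.Prime → d ∣ m → d = 7 := by
    intro d hd hdm
    haveI : Fact d.Prime := ⟨hd⟩
    have hdC : d ∣ Nat.card C := Dvd.dvd.trans hdm ⟨3, by rw [hm]; ring⟩
    obtain ⟨g, hg⟩ := exists_prime_orderOf_dvd_card' (G := ↥C) d hdC
    have hg' : orderOf (g : G) = d := by rw [Subgroup.orderOf_coe]; exact hg
    rcases h.cent_prime (g : G) hg' Q g.2 with rfl | rfl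
    · exact absurd hdm hm3
    · rfl
  obtain ⟨j, hpow⟩ : ∃ j, m = 7 ^ j := ⟨_, Nat.eq_prime_pow_of_unique_prime_dvd hm0 hprime⟩
  have hj1 : j ≤ 1 := by
    by_contra hcon
    push Not at hcon
    have h49 : 49 ∣ Nat.card G := by
      refine Dvd.dvd.trans ?_ hCG
      rw [hm, hpow]
      refine Dvd.dvd.trans ?_ (Dvd.intro_left 3 rfl)
      have : (49 : ℕ) = 7 ^ 2 := by norm_num
      rw [this]
      exact pow_dvd_pow 7 hcon
    have h49' : 7 ^ 2 ∣ Nat.card G := by
      have : (49 : ℕ) = 7 ^ 2 := by norm_num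
      rwa [this] at h49
    obtain ⟨E, hE⟩ := Sylow.exists_subgroup_card_pow_prime 7 h49'
    exact h.no_49 E (by rw [hE]; norm_num)
  interval_cases j
  · left; rw [hm, hpow]; norm_num
  · right; rw [hm, hpow]; norm_num

theorem Cfg.card_normalizer (h : Cfg G) (Q : Sylow 3 G) :
    ∃ k : ℕ, k ∣ 2 ∧ Nat.card (Subgroup.normalizer ((Q : Subgroup G) : Set G)) =
      k * Nat.card (Subgroup.centralizer ((Q : Subgroup G) : Set G)) := by
  have hR := h.h3 Q
  have hcyc : IsCyclic (Q : Subgroup G) := isCyclic_of_prime_card hR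
  have key := Subgroup.card_dvd_of_injective _
    (QuotientGroup.kerLift_injective (Q : Subgroup G).normalizerMonoidHom)
  rw [Subgroup.normalizerMonoidHom_ker, ← Subgroup.index, ← Subgroup.relIndex, hcyc.card_mulAut, hR,
    Nat.totient_prime (by norm_num)] at key
  have hCN : Subgroup.centralizer ((Q : Subgroup G) : Set G) ≤
      Subgroup.normalizer ((Q : Subgroup G) : Set G) := Subgroup.centralizer_le_normalizer _
  refine ⟨_, key, ?_⟩
  have hh := Subgroup.relIndex_mul_relIndex (⊥ : Subgroup G) _ _ bot_le hCN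
  rw [Subgroup.relIndex_bot_left, Subgroup.relIndex_bot_left] at hh
  rw [← hh, mul_comm]

theorem Cfg.card_group (h : Cfg G) :
    Nat.card G = 66 ∨ Nat.card G = 132 ∨ Nat.card G = 462 ∨ Nat.card G = 924 := by
  obtain ⟨Q⟩ : Nonempty (Sylow 3 G) := inferInstance
  have h1 := card_sylow_mul_card_normalizer Q
  rw [h.h22] at h1
  obtain ⟨k, hk, hN⟩ := h.card_normalizer Q
  have hk' : k = 1 ∨ k = 2 := (Nat.dvd_prime Nat.prime_two).mp hk
  rcases h.card_centralizer Q with hc | hc <;> rcases hk' with rfl | rfl <;>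
    rw [hN, hc] at h1 <;> omega

end

section

open MulAction Subgroup

open scoped Pointwise

open Cfsg.Agent.S1017

variable {G : Type*} [Group G] [Finite G]

theorem Cfg.eleven_free (h : Cfg G) (y : G) (hy : orderOf y = 11) (Q : Sylow 3 G) :
    y • Q ≠ Q := by
  intro hQ
  have hc := h.cent_of_fixed y hy (by norm_num) Q hQ
  rcases h.cent_prime y hy Q hc with h1 | h1 <;> omega

theorem Cfg.eleven_not_cent (h : Cfg G) (y : G) (hy : orderOf y = 11) (Q : Sylow 3 G) :
    y ∉ Subgroup.centralizer ((Q : Subgroup G) : Set G) := by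
  intro hc
  rcases h.cent_prime y hy Q hc with h1 | h1 <;> omega

/-- The Sylow 11-subgroup is not normal. -/
theorem Cfg.not_normal (h : Cfg G) (R : Sylow 11 G) (hR : Nat.card (R : Subgroup G) = 11)
    (hn : Subgroup.normalizer ((R : Subgroup G) : Set G) = ⊤) : False := by
  obtain ⟨Q⟩ : Nonempty (Sylow 3 G) := inferInstance
  obtain ⟨x, hx⟩ := exists_prime_orderOf_dvd_card' (G := ↥(Q : Subgroup G)) 3 (by rw [h.h3 Q])
  have hx3 : orderOf (x : G) = 3 := by rw [Subgroup.orderOf_coe]; exact hx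
  have hx1 : (x : G) ≠ 1 := ne_one_of_orderOf_prime _ (by norm_num) hx3
  have hxN : (x : G) ∈ Subgroup.normalizer ((R : Subgroup G) : Set G) := by rw [hn]; trivial
  have key := Cfsg.Agent.S4304.centralizes_of_numerics (R : Subgroup G) (x : G) hxN 3 hx3 (by
    intro m hm hmod
    rw [hR] at hm hmod ⊢
    have hm' : m = 1 ∨ m = 11 := (Nat.dvd_prime (by norm_num)).mp hm
    rcases hm' with rfl | rfl
    · exfalso
      unfold Nat.ModEq at hmod
      omega
    · rfl)
  obtain ⟨y, hy⟩ := exists_prime_orderOf_dvd_card' (G := ↥(R : Subgroup G)) 11 (by rw [hR])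
  have hy11 : orderOf (y : G) = 11 := by rw [Subgroup.orderOf_coe]; exact hy
  apply h.eleven_not_cent (y : G) hy11 Q
  have hz := (zpowers_eq_of_card_prime (Q : Subgroup G) (h.h3 Q) (x : G) x.2 hx1).1
  rw [← hz, Subgroup.zpowers_eq_closure, Subgroup.centralizer_closure, Subgroup.mem_centralizer_iff]
  intro z hzz
  rw [Set.mem_singleton_iff] at hzz
  subst hzz
  exact key (y : G) y.2

/-- The case where the Sylow 11-normalizer has order 77. -/
theorem Cfg.not_77 (h : Cfg G) (R : Sylow 11 G) (hR : Nat.card (R : Subgroup G) = 11)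
    (hn : Nat.card (Subgroup.normalizer ((R : Subgroup G) : Set G)) = 77) : False := by
  obtain ⟨b, hb⟩ := exists_prime_orderOf_dvd_card'
    (G := ↥(Subgroup.normalizer ((R : Subgroup G) : Set G))) 7 (by rw [hn]; norm_num)
  have hb7 : orderOf (b : G) = 7 := by rw [Subgroup.orderOf_coe]; exact hb
  have key := Cfsg.Agent.S4304.centralizes_of_numerics (R : Subgroup G) (b : G) b.2 7 hb7 (by
    intro m hm hmod
    rw [hR] at hm hmod ⊢
    have hm' : m = 1 ∨ m = 11 := (Nat.dvd_prime (by norm_num)).mp hm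
    rcases hm' with rfl | rfl
    · exfalso
      unfold Nat.ModEq at hmod
      omega
    · rfl)
  obtain ⟨y, hy⟩ := exists_prime_orderOf_dvd_card' (G := ↥(R : Subgroup G)) 11 (by rw [hR])
  have hy11 : orderOf (y : G) = 11 := by rw [Subgroup.orderOf_coe]; exact hy
  have hcomm : Commute (y : G) (b : G) := (key (y : G) y.2).symm
  have hfb := h.fx_seven (b : G) hb7
  have m1 := card_fixedBy_modEq_inter (α := Sylow 3 G) (y : G) (b : G) hcomm hy11
  rw [hfb] at m1
  have hle : Nat.card ↥(fixedBy (Sylow 3 G) (b : G) ∩ fixedBy (Sylow 3 G) (y : G)) ≤ 1 := by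
    rw [← hfb]
    exact card_inter_le_left _ _
  have hpos : 0 < Nat.card ↥(fixedBy (Sylow 3 G) (b : G) ∩ fixedBy (Sylow 3 G) (y : G)) := by
    unfold Nat.ModEq at m1
    omega
  obtain ⟨⟨Q, -, hQ⟩⟩ := (Nat.card_pos_iff.mp hpos).1
  exact h.eleven_free (y : G) hy11 Q hQ

/-- The case of a self-normalizing Sylow 11-subgroup in a group of order 132. -/
theorem Cfg.not_132 (h : Cfg G) (hG : Nat.card G = 132) (R : Sylow 11 G)
    (hR : Nat.card (R : Subgroup G) = 11)
    (hN : Nat.card (Subgroup.normalizer ((R : Subgroup G) : Set G)) = 11) : False := by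
  have hNT : (R : Subgroup G) = Subgroup.normalizer ((R : Subgroup G) : Set G) :=
    Subgroup.eq_of_le_of_card_ge Subgroup.le_normalizer (by rw [hN, hR])
  have hP : Subgroup.normalizer ((R : Subgroup G) : Set G) ≤
      Subgroup.centralizer ((R : Subgroup G) : Set G) := by
    rw [← hNT]
    exact le_centralizer_self R hR
  have hcompl := MonoidHom.ker_transferSylow_isComplement' R hP
  set f := MonoidHom.transferSylow R hP with hf
  have hK : Nat.card f.ker = 12 := by
    have h1 := hcompl.card_mul_card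
    rw [hR, hG] at h1
    omega
  have hL : ∀ Q : Sylow 3 G, (Q : Subgroup G) ≤ f.ker := by
    intro Q x hx
    rw [MonoidHom.mem_ker, ← orderOf_eq_one_iff]
    have h1 : orderOf (f x) ∣ orderOf x := orderOf_map_dvd f x
    have h2 : orderOf x ∣ Nat.card (Q : Subgroup G) := by
      have := orderOf_dvd_natCard (⟨x, hx⟩ : (Q : Subgroup G))
      rwa [← Subgroup.orderOf_coe] at this
    rw [h.h3 Q] at h2
    have h3 : orderOf (f x) ∣ Nat.card (R : Subgroup G) := orderOf_dvd_natCard (f x)
    rw [hR] at h3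
    exact Nat.eq_one_of_dvd_coprimes (by norm_num : Nat.Coprime 3 11) (h1.trans h2) h3
  have hcard := Cfsg.Agent.S4304.card_sylow_subgroup 3 f.ker hL
  rw [h.h22] at hcard
  obtain ⟨Q'⟩ : Nonempty (Sylow 3 ↥f.ker) := inferInstance
  have hdvd := Q'.card_dvd_index
  have hQ' : Nat.card (Q' : Subgroup ↥f.ker) = 3 := by
    have := sylow_card_eq Q' 1 4 (by rw [hK]; norm_num) (by norm_num)
    simpa using this
  have hidx : (Q' : Subgroup ↥f.ker).index = 4 := by
    have := Subgroup.card_mul_index (Q' : Subgroup ↥f.ker)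
    rw [hQ', hK] at this
    omega
  rw [hcard, hidx] at hdvd
  omega

theorem Cfg.endgame (h : Cfg G) : False := by
  obtain ⟨R⟩ : Nonempty (Sylow 11 G) := inferInstance
  have hmul := card_sylow_mul_card_normalizer R
  have hmod := card_sylow_mod (G := G) (p := 11)
  have hdvd := R.card_dvd_index
  have hidx := Subgroup.card_mul_index (R : Subgroup G)
  have hnormal : Nat.card (Sylow 11 G) = 1 → ∀ hR : Nat.card (R : Subgroup G) = 11, False := by
    intro h1 hR
    apply h.not_normal R hR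
    have : Subsingleton (Sylow 11 G) := (Nat.card_eq_one_iff_unique.1 h1).1
    have hn : (R : Subgroup G).Normal := R.normal_of_subsingleton
    exact Subgroup.normalizer_eq_top_iff.mpr hn
  rcases h.card_group with hG | hG | hG | hG
  · have hR : Nat.card (R : Subgroup G) = 11 := by
      have := sylow_card_eq R 1 6 (by rw [hG]; norm_num) (by norm_num)
      simpa using this
    rw [hR, hG] at hidx
    have hi : (R : Subgroup G).index = 6 := by omega
    rw [hi] at hdvd
    have hle := Nat.le_of_dvd (by norm_num) hdvd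
    have : Nat.card (Sylow 11 G) = 1 := by omega
    exact hnormal this hR
  · have hR : Nat.card (R : Subgroup G) = 11 := by
      have := sylow_card_eq R 1 12 (by rw [hG]; norm_num) (by norm_num)
      simpa using this
    rw [hR, hG] at hidx
    have hi : (R : Subgroup G).index = 12 := by omega
    rw [hi] at hdvd
    have hle := Nat.le_of_dvd (by norm_num) hdvd
    have hcases : Nat.card (Sylow 11 G) = 1 ∨ Nat.card (Sylow 11 G) = 12 := by omega
    rcases hcases with h1 | h12
    · exact hnormal h1 hR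
    · rw [h12, hG] at hmul
      exact h.not_132 hG R hR (by omega)
  · have hR : Nat.card (R : Subgroup G) = 11 := by
      have := sylow_card_eq R 1 42 (by rw [hG]; norm_num) (by norm_num)
      simpa using this
    rw [hR, hG] at hidx
    have hi : (R : Subgroup G).index = 42 := by omega
    rw [hi] at hdvd
    have hle := Nat.le_of_dvd (by norm_num) hdvd
    have : Nat.card (Sylow 11 G) = 1 := by
      set n := Nat.card (Sylow 11 G)
      interval_cases n <;> simp_all
    exact hnormal this hR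
  · have hR : Nat.card (R : Subgroup G) = 11 := by
      have := sylow_card_eq R 1 84 (by rw [hG]; norm_num) (by norm_num)
      simpa using this
    rw [hR, hG] at hidx
    have hi : (R : Subgroup G).index = 84 := by omega
    rw [hi] at hdvd
    have hle := Nat.le_of_dvd (by norm_num) hdvd
    have hcases : Nat.card (Sylow 11 G) = 1 ∨ Nat.card (Sylow 11 G) = 12 := by
      set n := Nat.card (Sylow 11 G)
      interval_cases n <;> simp_all
    rcases hcases with h1 | h12
    · exact hnormal h1 hR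
    · rw [h12, hG] at hmul
      exact h.not_77 R hR (by omega)

end

section

/-- Counting the points on lines of a given size through a point. -/
theorem flag_count_point {Ω : Type*} [Fintype Ω] [DecidableEq Ω]
    (A : Ω → Ω → Prop) [DecidableRel A] (L : Ω → Ω → Finset Ω)
    (hirr : ∀ α, ¬ A α α)
    (hmem : ∀ α β, A α β → α ∈ L α β ∧ β ∈ L α β)
    (hline : ∀ α β γ δ, A α β → γ ∈ L α β → δ ∈ L α β → γ ≠ δ → A γ δ ∧ L γ δ = L α β)
    (s : ℕ) (α : Ω) :
    (s - 1) ∣ (Finset.univ.filter (fun β => A α β ∧ (L α β).card = s)).card := by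
  set B := Finset.univ.filter (fun β => A α β ∧ (L α β).card = s) with hB
  have h1 := Finset.card_eq_sum_card_fiberwise (s := B) (t := B.image (fun β => L α β))
    (f := fun β => L α β) (fun β hβ => Finset.mem_image_of_mem _ hβ)
  rw [h1]
  apply Finset.dvd_sum
  intro L₀ hL₀
  obtain ⟨β₀, hβ₀, rfl⟩ := Finset.mem_image.mp hL₀
  rw [hB, Finset.mem_filter] at hβ₀
  obtain ⟨-, hA, hs⟩ := hβ₀
  have hfib : B.filter (fun β => L α β = L α β₀) = (L α β₀).erase α := by
    ext β
    simp only [hB, Finset.mem_filter, Finset.mem_univ, true_and, Finset.mem_erase]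
    constructor
    · rintro ⟨⟨hAβ, -⟩, hL⟩
      refine ⟨fun h => hirr α (h ▸ hAβ), ?_⟩
      rw [← hL]
      exact (hmem α β hAβ).2
    · rintro ⟨hne, hβ⟩
      have := hline α β₀ α β hA (hmem α β₀ hA).1 hβ (Ne.symm hne)
      exact ⟨⟨this.1, by rw [this.2]; exact hs⟩, this.2⟩
  rw [hfib, Finset.card_erase_of_mem (hmem α β₀ hA).1, hs]

/-- Double counting flags on lines of a given size. -/
theorem flag_count {Ω : Type*} [Fintype Ω] [DecidableEq Ω]
    (A : Ω → Ω → Prop) [DecidableRel A] (L : Ω → Ω → Finset Ω)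
    (hirr : ∀ α, ¬ A α α)
    (hmem : ∀ α β, A α β → α ∈ L α β ∧ β ∈ L α β)
    (hline : ∀ α β γ δ, A α β → γ ∈ L α β → δ ∈ L α β → γ ≠ δ → A γ δ ∧ L γ δ = L α β)
    (s n : ℕ)
    (hhom : ∀ α, (Finset.univ.filter (fun β => A α β ∧ (L α β).card = s)).card = n) :
    s * (s - 1) ∣ Fintype.card Ω * n := by
  set T : Finset (Σ _ : Ω, Ω) :=
    Finset.univ.sigma (fun α => Finset.univ.filter (fun β => A α β ∧ (L α β).card = s)) with hT
  have hcard : T.card = Fintype.card Ω * n := by
    rw [hT, Finset.card_sigma]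
    simp only [hhom]
    rw [Finset.sum_const, smul_eq_mul, Finset.card_univ]
  rw [← hcard]
  have h1 := Finset.card_eq_sum_card_fiberwise (s := T) (t := T.image (fun p => L p.1 p.2))
    (f := fun p => L p.1 p.2) (fun p hp => Finset.mem_image_of_mem _ hp)
  rw [h1]
  apply Finset.dvd_sum
  intro L₀ hL₀
  obtain ⟨⟨α₀, β₀⟩, hp₀, rfl⟩ := Finset.mem_image.mp hL₀
  rw [hT, Finset.mem_sigma, Finset.mem_filter] at hp₀
  obtain ⟨-, -, hA, hs⟩ := hp₀
  have hfib : (T.filter (fun p => L p.1 p.2 = L α₀ β₀)).card = (L α₀ β₀).offDiag.card := by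
    apply Finset.card_bij (fun p _ => (p.1, p.2))
    · rintro ⟨γ, δ⟩ hp
      simp only [hT, Finset.mem_filter, Finset.mem_sigma, Finset.mem_univ, true_and] at hp
      obtain ⟨⟨hAγδ, -⟩, hL⟩ := hp
      rw [Finset.mem_offDiag]
      refine ⟨?_, ?_, fun h => ?_⟩
      rotate_left 2
      · have h' : γ = δ := h
        subst h'
        exact hirr _ hAγδ
      · rw [← hL]; exact (hmem γ δ hAγδ).1
      · rw [← hL]; exact (hmem γ δ hAγδ).2
    · rintro ⟨γ, δ⟩ _ ⟨γ', δ'⟩ _ h
      simp only [Prod.mk.injEq] at h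
      obtain ⟨rfl, rfl⟩ := h
      rfl
    · rintro ⟨γ, δ⟩ hp
      rw [Finset.mem_offDiag] at hp
      obtain ⟨hγ, hδ, hne⟩ := hp
      have := hline α₀ β₀ γ δ hA hγ hδ hne
      refine ⟨⟨γ, δ⟩, ?_, rfl⟩
      simp only [hT, Finset.mem_filter, Finset.mem_sigma, Finset.mem_univ, true_and]
      exact ⟨⟨this.1, by rw [this.2]; exact hs⟩, this.2⟩
  rw [hfib, Finset.offDiag_card, hs, Nat.mul_sub_one]

end

section

open MulAction Subgroup

open scoped Pointwise

open Cfsg.Agent.S1017

variable {G : Type*} [Group G] [Finite G]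

/-- Two Sylow 3-subgroups are adjacent when their intersection has index 3. -/
def Adj (P Q : Sylow 3 G) : Prop :=
  Nat.card ↥((P : Subgroup G) ⊓ (Q : Subgroup G)) * 3 = Nat.card (P : Subgroup G)

/-- The line through two Sylow 3-subgroups: all Sylow subgroups containing their intersection. -/
def ln (P Q : Sylow 3 G) : Set (Sylow 3 G) :=
  {R | (P : Subgroup G) ⊓ (Q : Subgroup G) ≤ (R : Subgroup G)}

theorem adj_symm {P Q : Sylow 3 G} (h : Adj P Q) : Adj Q P := by
  unfold Adj at *
  rw [inf_comm, sylow_card_all P Q]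
  exact h

theorem adj_ne {P Q : Sylow 3 G} (h : Adj P Q) : P ≠ Q := by
  rintro rfl
  unfold Adj at h
  rw [inf_idem] at h
  have : 0 < Nat.card (P : Subgroup G) := Nat.card_pos
  omega

theorem mem_ln_left (P Q : Sylow 3 G) : P ∈ ln P Q := by
  show (P : Subgroup G) ⊓ (Q : Subgroup G) ≤ (P : Subgroup G)
  exact inf_le_left

theorem mem_ln_right (P Q : Sylow 3 G) : Q ∈ ln P Q := by
  show (P : Subgroup G) ⊓ (Q : Subgroup G) ≤ (Q : Subgroup G)
  exact inf_le_right

theorem sylow_eq_of_le {R R' : Sylow 3 G} (h : (R : Subgroup G) ≤ R') : R = R' :=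
  Sylow.ext (R.3 R'.2 h).symm

theorem inf_eq_of_mem_ln {P Q R R' : Sylow 3 G} (h : Adj P Q) (hR : R ∈ ln P Q) (hR' : R' ∈ ln P Q)
    (hne : R ≠ R') : (R : Subgroup G) ⊓ R' = (P : Subgroup G) ⊓ Q := by
  have hD : (P : Subgroup G) ⊓ Q ≤ (R : Subgroup G) ⊓ R' := le_inf hR hR'
  symm
  apply Subgroup.eq_of_le_of_card_ge hD
  obtain ⟨j, hj⟩ := Subgroup.card_dvd_of_le hD
  have h2 : Nat.card ↥((R : Subgroup G) ⊓ R') ∣ Nat.card (R : Subgroup G) :=
    Subgroup.card_dvd_of_le inf_le_left
  have hRP : Nat.card (R : Subgroup G) = Nat.card (P : Subgroup G) := sylow_card_all P R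
  unfold Adj at h
  rw [hRP, ← h, hj] at h2
  have hpos : 0 < Nat.card ↥((P : Subgroup G) ⊓ Q) := Nat.card_pos
  have hj3 : j ∣ 3 := Nat.dvd_of_mul_dvd_mul_left hpos h2
  have hj' : j = 1 ∨ j = 3 := (Nat.dvd_prime (by norm_num)).mp hj3
  rcases hj' with rfl | rfl
  · rw [hj, mul_one]
  · exfalso
    apply hne
    apply sylow_eq_of_le
    have : (R : Subgroup G) ⊓ R' = R := by
      apply Subgroup.eq_of_le_of_card_ge inf_le_left
      rw [hj, hRP, ← h]
    rw [← this]
    exact inf_le_right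

theorem adj_of_mem_ln {P Q R R' : Sylow 3 G} (h : Adj P Q) (hR : R ∈ ln P Q) (hR' : R' ∈ ln P Q)
    (hne : R ≠ R') : Adj R R' := by
  have := inf_eq_of_mem_ln h hR hR' hne
  unfold Adj at *
  rw [this, sylow_card_all P R]
  exact h

theorem ln_eq_of_mem_ln {P Q R R' : Sylow 3 G} (h : Adj P Q) (hR : R ∈ ln P Q) (hR' : R' ∈ ln P Q)
    (hne : R ≠ R') : ln R R' = ln P Q := by
  have := inf_eq_of_mem_ln h hR hR' hne
  unfold ln
  rw [this]

theorem ln_comm (P Q : Sylow 3 G) : ln P Q = ln Q P := by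
  unfold ln
  rw [inf_comm]

theorem smul_inf_coe (g : G) (P Q : Sylow 3 G) :
    ((g • P : Sylow 3 G) : Subgroup G) ⊓ ((g • Q : Sylow 3 G) : Subgroup G) =
      MulAut.conj g • ((P : Subgroup G) ⊓ (Q : Subgroup G)) := by
  rw [Sylow.coe_subgroup_smul, Sylow.coe_subgroup_smul, Subgroup.smul_inf]

theorem card_conj_smul (g : G) (H : Subgroup G) :
    Nat.card ↥(MulAut.conj g • H) = Nat.card H :=
  (Nat.card_congr (Subgroup.equivSMul (MulAut.conj g) H).toEquiv).symm

theorem smul_adj (g : G) {P Q : Sylow 3 G} (h : Adj P Q) : Adj (g • P) (g • Q) := by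
  unfold Adj at *
  rw [smul_inf_coe, card_conj_smul, Sylow.coe_subgroup_smul, card_conj_smul]
  exact h

theorem smul_adj_iff (g : G) {P Q : Sylow 3 G} : Adj (g • P) (g • Q) ↔ Adj P Q := by
  constructor
  · intro h
    have := smul_adj g⁻¹ h
    rwa [inv_smul_smul, inv_smul_smul] at this
  · exact smul_adj g

theorem smul_mem_ln (g : G) {P Q R : Sylow 3 G} (h : R ∈ ln P Q) : g • R ∈ ln (g • P) (g • Q) := by
  have h' : (P : Subgroup G) ⊓ (Q : Subgroup G) ≤ (R : Subgroup G) := h
  show ((g • P : Sylow 3 G) : Subgroup G) ⊓ ((g • Q : Sylow 3 G) : Subgroup G) ≤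
    ((g • R : Sylow 3 G) : Subgroup G)
  rw [smul_inf_coe, Sylow.coe_subgroup_smul]
  exact Subgroup.pointwise_smul_le_pointwise_smul_iff.mpr h'

theorem smul_mem_ln_iff (g : G) {P Q R : Sylow 3 G} : g • R ∈ ln (g • P) (g • Q) ↔ R ∈ ln P Q := by
  constructor
  · intro h
    have := smul_mem_ln g⁻¹ h
    rwa [inv_smul_smul, inv_smul_smul, inv_smul_smul] at this
  · exact smul_mem_ln g

theorem smul_self_mem {P : Sylow 3 G} {x : G} (hx : x ∈ (P : Subgroup G)) : x • P = P :=
  smul_self_of_mem P x hx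

/-- The line through `P` is stable under `P`. -/
theorem smul_mem_ln_of_mem {P Q R : Sylow 3 G} (h : Adj P Q) {x : G} (hx : x ∈ (P : Subgroup G))
    (hR : R ∈ ln P Q) : x • R ∈ ln P Q := by
  by_cases hRP : R = P
  · rw [hRP, smul_self_mem hx]; exact mem_ln_left P Q
  · have h1 : ln P R = ln P Q := ln_eq_of_mem_ln h (mem_ln_left P Q) hR (Ne.symm hRP)
    have hA : Adj P R := adj_of_mem_ln h (mem_ln_left P Q) hR (Ne.symm hRP)
    have hA' : Adj P (x • R) := by
      have := smul_adj x hA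
      rwa [smul_self_mem hx] at this
    -- the two intersections `P ⊓ R` and `P ⊓ x • R` are conjugate under `x`; both have index 3
    have hconj : (P : Subgroup G) ⊓ ((x • R : Sylow 3 G) : Subgroup G) =
        MulAut.conj x • ((P : Subgroup G) ⊓ (R : Subgroup G)) := by
      have := smul_inf_coe x P R
      rwa [smul_self_mem hx] at this
    -- normality of the index 3 subgroup
    have hidx : (((P : Subgroup G) ⊓ (R : Subgroup G)).subgroupOf (P : Subgroup G)).index = 3 := by
      have h2 := Subgroup.card_mul_index (((P : Subgroup G) ⊓ (R : Subgroup G)).subgroupOf (P : Subgroup G))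
      have h3 : Nat.card ↥(((P : Subgroup G) ⊓ (R : Subgroup G)).subgroupOf (P : Subgroup G)) =
          Nat.card ↥((P : Subgroup G) ⊓ (R : Subgroup G)) :=
        Nat.card_congr (Subgroup.subgroupOfEquivOfLe inf_le_left).toEquiv
      unfold Adj at hA
      rw [h3, ← hA] at h2
      have hpos : 0 < Nat.card ↥((P : Subgroup G) ⊓ (R : Subgroup G)) := Nat.card_pos
      exact Nat.eq_of_mul_eq_mul_left hpos h2
    have hminFac : (Nat.card (P : Subgroup G)).minFac = 3 := by
      obtain ⟨n, hn⟩ := IsPGroup.iff_card.mp P.2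
      have hn0 : n ≠ 0 := by
        rintro rfl
        unfold Adj at hA
        rw [hn, pow_zero] at hA
        omega
      rw [hn, Nat.Prime.pow_minFac (by norm_num) hn0]
    have hnorm : (((P : Subgroup G) ⊓ (R : Subgroup G)).subgroupOf (P : Subgroup G)).Normal :=
      Subgroup.normal_of_index_eq_minFac_card (by rw [hidx, hminFac])
    have hfix : MulAut.conj x • ((P : Subgroup G) ⊓ (R : Subgroup G)) = (P : Subgroup G) ⊓ R := by
      ext y
      rw [Subgroup.mem_pointwise_smul_iff_inv_smul_mem, MulAut.smul_def, ← map_inv, MulAut.conj_apply,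
        inv_inv]
      constructor
      · intro hy
        have hyP : x⁻¹ * y * x ∈ (P : Subgroup G) := hy.1
        have hyP' : y ∈ (P : Subgroup G) := by
          have := mul_mem (mul_mem hx hyP) (inv_mem hx)
          have e : x * (x⁻¹ * y * x) * x⁻¹ = y := by group
          rwa [e] at this
        have := hnorm.conj_mem ⟨x⁻¹ * y * x, hyP⟩ (by rw [Subgroup.mem_subgroupOf]; exact hy)
          ⟨x, hx⟩
        rw [Subgroup.mem_subgroupOf] at this
        have e : ((⟨x, hx⟩ * ⟨x⁻¹ * y * x, hyP⟩ * ⟨x, hx⟩⁻¹ : (P : Subgroup G)) : G) = y := by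
          show x * (x⁻¹ * y * x) * x⁻¹ = y
          group
        rwa [e] at this
      · intro hy
        have hyP : y ∈ (P : Subgroup G) := hy.1
        have := hnorm.conj_mem ⟨y, hyP⟩ (by rw [Subgroup.mem_subgroupOf]; exact hy)
          ⟨x⁻¹, inv_mem hx⟩
        rw [Subgroup.mem_subgroupOf] at this
        have e : ((⟨x⁻¹, inv_mem hx⟩ * ⟨y, hyP⟩ * ⟨x⁻¹, inv_mem hx⟩⁻¹ : (P : Subgroup G)) : G) =
            x⁻¹ * y * x := by
          show x⁻¹ * y * x⁻¹⁻¹ = x⁻¹ * y * x
          rw [inv_inv]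
        rwa [e] at this
    rw [← h1]
    show (P : Subgroup G) ⊓ (R : Subgroup G) ≤ ((x • R : Sylow 3 G) : Subgroup G)
    rw [← hfix, ← hconj]
    exact inf_le_right

end

section

open MulAction Subgroup

open scoped Pointwise

open Cfsg.Agent.S1017

variable {G : Type*} [Group G] [Finite G]

/-- Orbit-stabilizer with `Nat.card`. -/
theorem card_orbit_mul_card_stabilizer {H : Type*} [Group H] [Finite H] {α : Type*} [MulAction H α]
    (a : α) : Nat.card (orbit H a) * Nat.card (stabilizer H a) = Nat.card H := by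
  have h1 := Subgroup.card_eq_card_quotient_mul_card_subgroup (stabilizer H a)
  have h2 : Nat.card (H ⧸ stabilizer H a) = Nat.card (orbit H a) :=
    (Nat.card_congr (orbitEquivQuotientStabilizer H a)).symm
  rw [h1, h2]

/-- The stabilizer of a Sylow subgroup `R` in a Sylow subgroup `P` is `P ⊓ R`. -/
theorem card_stabilizer_sylow (P R : Sylow 3 G) :
    Nat.card (stabilizer ↥(P : Subgroup G) R) = Nat.card ↥((P : Subgroup G) ⊓ (R : Subgroup G)) := by
  have hinf := P.2.inf_normalizer_sylow R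
  apply Nat.card_congr
  refine ⟨fun x => ⟨(x.1 : G), ?_⟩, fun y => ⟨⟨y.1, y.2.1⟩, ?_⟩, ?_, ?_⟩
  · have hx := x.2
    rw [mem_stabilizer_iff] at hx
    have hN : (x.1 : G) ∈ Subgroup.normalizer ((R : Subgroup G) : Set G) :=
      Sylow.smul_eq_iff_mem_normalizer.mp hx
    have : (x.1 : G) ∈ (P : Subgroup G) ⊓ Subgroup.normalizer (R : Set G) :=
      ⟨x.1.2, hN⟩
    rw [hinf] at this
    exact this
  · rw [mem_stabilizer_iff]
    have : (y.1 : G) ∈ (P : Subgroup G) ⊓ Subgroup.normalizer (R : Set G) := by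
      rw [hinf]; exact y.2
    exact Sylow.smul_eq_iff_mem_normalizer.mpr this.2
  · intro x; rfl
  · intro y; rfl

theorem card_orbit_sylow (P R : Sylow 3 G) :
    Nat.card (orbit ↥(P : Subgroup G) R) * Nat.card ↥((P : Subgroup G) ⊓ (R : Subgroup G)) =
      Nat.card (P : Subgroup G) := by
  rw [← card_stabilizer_sylow]
  exact card_orbit_mul_card_stabilizer R

/-- If all orbits have size divisible by `d`, so has the set acted on. -/
theorem dvd_card_of_forall_orbit {H : Type*} [Group H] {α : Type*} [MulAction H α] [Finite α] (d : ℕ)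
    (h : ∀ a : α, d ∣ Nat.card (orbit H a)) : d ∣ Nat.card α := by
  classical
  have := Fintype.ofFinite (orbitRel.Quotient H α)
  rw [Nat.card_congr (selfEquivSigmaOrbits H α), Nat.card_sigma]
  exact Finset.dvd_sum (fun ω _ => h _)

/-- A line has `1` mod `3` points. -/
theorem card_ln_mod {P Q : Sylow 3 G} (h : Adj P Q) : Nat.card (ln P Q) % 3 = 1 := by
  let S : SubMulAction ↥(P : Subgroup G) (Sylow 3 G) :=
    { carrier := ln P Q
      smul_mem' := fun x R hR => smul_mem_ln_of_mem h x.2 hR }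
  have hmod := P.2.card_modEq_card_fixedPoints ↥S
  have e1 : Nat.card ↥S = Nat.card (ln P Q) := rfl
  have e2 : Nat.card (fixedPoints ↥(P : Subgroup G) ↥S) = 1 := by
    rw [Nat.card_eq_one_iff_unique]
    refine ⟨⟨?_⟩, ⟨⟨⟨P, mem_ln_left P Q⟩, ?_⟩⟩⟩
    · rintro ⟨⟨a, ha⟩, hfa⟩ ⟨⟨b, hb⟩, hfb⟩
      have ha' : a = P := by
        rw [← fixed_iff]
        intro x hx
        have := hfa ⟨x, hx⟩
        exact congrArg Subtype.val this
      have hb' : b = P := by
        rw [← fixed_iff]
        intro x hx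
        have := hfb ⟨x, hx⟩
        exact congrArg Subtype.val this
      subst ha' hb'
      rfl
    · intro x
      apply Subtype.ext
      exact smul_self_mem x.2
  rw [e1, e2] at hmod
  exact hmod

/-- The Sylow subgroups that are neither equal nor adjacent to `P` come in `P`-orbits of size
divisible by 9. -/
theorem nine_dvd_card_nonadj (P : Sylow 3 G) :
    9 ∣ Nat.card {R : Sylow 3 G // R ≠ P ∧ ¬ Adj P R} := by
  let S : SubMulAction ↥(P : Subgroup G) (Sylow 3 G) :=
    { carrier := {R | R ≠ P ∧ ¬ Adj P R}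
      smul_mem' := by
        rintro x R ⟨hR1, hR2⟩
        refine ⟨?_, ?_⟩
        · intro hx
          apply hR1
          have h2 : (x : G)⁻¹ • ((x : G) • R) = (x : G)⁻¹ • P := congrArg _ hx
          rw [inv_smul_smul, smul_self_mem (inv_mem x.2)] at h2
          exact h2
        · intro hA
          apply hR2
          have : Adj ((x : G) • P) ((x : G) • R) := by rw [smul_self_mem x.2]; exact hA
          exact (smul_adj_iff (x : G)).mp this }
  have key : 9 ∣ Nat.card ↥S := by
    apply dvd_card_of_forall_orbit (H := ↥(P : Subgroup G))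
    rintro ⟨R, hR1, hR2⟩
    obtain ⟨n, hn⟩ := P.2.card_orbit (⟨R, hR1, hR2⟩ : ↥S)
    have hos := card_orbit_mul_card_stabilizer (H := ↥(P : Subgroup G)) (⟨R, hR1, hR2⟩ : ↥S)
    rw [SubMulAction.stabilizer_of_subMul] at hos
    have hst : Nat.card (stabilizer ↥(P : Subgroup G) ((⟨R, hR1, hR2⟩ : ↥S) : Sylow 3 G)) =
        Nat.card ↥((P : Subgroup G) ⊓ (R : Subgroup G)) := card_stabilizer_sylow P R
    rw [hst, hn] at hos
    have hn0 : n ≠ 0 := by
      rintro rfl
      rw [pow_zero, one_mul] at hos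
      apply hR1
      symm
      apply sylow_eq_of_le
      have hPR : (P : Subgroup G) ⊓ (R : Subgroup G) = P :=
        Subgroup.eq_of_le_of_card_ge inf_le_left (by rw [hos])
      calc (P : Subgroup G) = (P : Subgroup G) ⊓ (R : Subgroup G) := hPR.symm
        _ ≤ R := inf_le_right
    have hn1 : n ≠ 1 := by
      rintro rfl
      apply hR2
      unfold Adj
      rw [← hos]
      ring
    have : 2 ≤ n := by omega
    rw [hn]
    have h9 : (9 : ℕ) = 3 ^ 2 := by norm_num
    rw [h9]
    exact pow_dvd_pow 3 this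
  exact key

end

section

open MulAction Subgroup

open scoped Pointwise

open Cfsg.Agent.S1017

open Classical

variable {G : Type*} [Group G] [Finite G]

variable [Fintype (Sylow 3 G)]

/-- The line as a finset. -/
noncomputable def lnF (P Q : Sylow 3 G) : Finset (Sylow 3 G) :=
  Finset.univ.filter (fun R => R ∈ ln P Q)

theorem mem_lnF {P Q R : Sylow 3 G} : R ∈ lnF P Q ↔ R ∈ ln P Q := by
  unfold lnF
  simp

theorem card_lnF (P Q : Sylow 3 G) : (lnF P Q).card = Nat.card (ln P Q) := by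
  unfold lnF
  rw [← Fintype.card_subtype, ← Nat.card_eq_fintype_card]

theorem lnF_irr (α : Sylow 3 G) : ¬ Adj α α := fun h => adj_ne h rfl

theorem lnF_mem (α β : Sylow 3 G) (_h : Adj α β) : α ∈ lnF α β ∧ β ∈ lnF α β :=
  ⟨mem_lnF.mpr (mem_ln_left α β), mem_lnF.mpr (mem_ln_right α β)⟩

theorem lnF_line (α β γ δ : Sylow 3 G) (h : Adj α β) (hγ : γ ∈ lnF α β) (hδ : δ ∈ lnF α β)
    (hne : γ ≠ δ) : Adj γ δ ∧ lnF γ δ = lnF α β := by
  rw [mem_lnF] at hγ hδ
  refine ⟨adj_of_mem_ln h hγ hδ hne, ?_⟩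
  unfold lnF
  rw [ln_eq_of_mem_ln h hγ hδ hne]

/-- number of neighbours on lines of size `s` -/
noncomputable def nn (s : ℕ) (α : Sylow 3 G) : ℕ :=
  (Finset.univ.filter (fun β => Adj α β ∧ (lnF α β).card = s)).card

theorem card_lnF_smul (g : G) (P Q : Sylow 3 G) : (lnF (g • P) (g • Q)).card = (lnF P Q).card := by
  symm
  apply Finset.card_bij (fun R _ => g • R)
  · intro R hR
    rw [mem_lnF] at hR ⊢
    exact (smul_mem_ln_iff g).mpr hR
  · intro R _ R' _ h
    exact MulAction.injective g h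
  · intro R hR
    refine ⟨g⁻¹ • R, ?_, smul_inv_smul g R⟩
    rw [mem_lnF] at hR ⊢
    rw [← smul_mem_ln_iff g, smul_inv_smul]
    exact hR

theorem nn_smul (s : ℕ) (g : G) (α : Sylow 3 G) : nn s (g • α) = nn s α := by
  unfold nn
  symm
  apply Finset.card_bij (fun R _ => g • R)
  · intro R hR
    simp only [Finset.mem_filter, Finset.mem_univ, true_and] at hR ⊢
    exact ⟨(smul_adj_iff g).mpr hR.1, by rw [card_lnF_smul]; exact hR.2⟩
  · intro R _ R' _ h
    exact MulAction.injective g h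
  · intro R hR
    refine ⟨g⁻¹ • R, ?_, smul_inv_smul g R⟩
    simp only [Finset.mem_filter, Finset.mem_univ, true_and] at hR ⊢
    constructor
    · rw [← smul_adj_iff g, smul_inv_smul]; exact hR.1
    · rw [← card_lnF_smul g, smul_inv_smul]; exact hR.2

theorem nn_const (s : ℕ) (α β : Sylow 3 G) : nn s α = nn s β := by
  obtain ⟨g, rfl⟩ := MulAction.exists_smul_eq G β α
  exact nn_smul s g β

/-- number of neighbours -/
noncomputable def gam (α : Sylow 3 G) : Finset (Sylow 3 G) := Finset.univ.filter (fun β => Adj α β)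

theorem gam_smul (g : G) (α : Sylow 3 G) : (gam (g • α)).card = (gam α).card := by
  unfold gam
  symm
  apply Finset.card_bij (fun R _ => g • R)
  · intro R hR
    simp only [Finset.mem_filter, Finset.mem_univ, true_and] at hR ⊢
    exact (smul_adj_iff g).mpr hR
  · intro R _ R' _ h
    exact MulAction.injective g h
  · intro R hR
    refine ⟨g⁻¹ • R, ?_, smul_inv_smul g R⟩
    simp only [Finset.mem_filter, Finset.mem_univ, true_and] at hR ⊢
    rw [← smul_adj_iff g, smul_inv_smul]; exact hR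

theorem gam_const (α β : Sylow 3 G) : (gam α).card = (gam β).card := by
  obtain ⟨g, rfl⟩ := MulAction.exists_smul_eq G β α
  exact gam_smul g β

theorem gam_card_cases (h22 : Nat.card (Sylow 3 G) = 22) (P : Sylow 3 G) :
    (gam P).card = 3 ∨ (gam P).card = 12 ∨ (gam P).card = 21 := by
  have h9 := nine_dvd_card_nonadj P
  rw [Nat.card_eq_fintype_card, Fintype.card_subtype] at h9
  have h1 : (Finset.univ.filter (fun R : Sylow 3 G => R ≠ P ∧ ¬ Adj P R)).card + (gam P).card + 1 =
      22 := by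
    rw [← h22, Nat.card_eq_fintype_card, ← Finset.card_univ]
    have e1 := Finset.card_filter_add_card_filter_not (s := (Finset.univ : Finset (Sylow 3 G)))
      (fun R => Adj P R)
    have e2 : (Finset.univ.filter (fun R : Sylow 3 G => ¬ Adj P R)).card =
        (Finset.univ.filter (fun R : Sylow 3 G => R ≠ P ∧ ¬ Adj P R)).card + 1 := by
      have : Finset.univ.filter (fun R : Sylow 3 G => ¬ Adj P R) =
          insert P (Finset.univ.filter (fun R : Sylow 3 G => R ≠ P ∧ ¬ Adj P R)) := by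
        ext R
        simp only [Finset.mem_filter, Finset.mem_univ, true_and, Finset.mem_insert]
        constructor
        · intro h
          by_cases hR : R = P
          · left; exact hR
          · right; exact ⟨hR, h⟩
        · rintro (rfl | ⟨_, h⟩)
          · exact lnF_irr R
          · exact h
      rw [this, Finset.card_insert_of_notMem]
      simp
    unfold gam
    omega
  obtain ⟨k, hk⟩ := h9
  omega

end

section

open MulAction Subgroup

open scoped Pointwise

open Cfsg.Agent.S1017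

open Classical

variable {G : Type*} [Group G] [Finite G]

variable [Fintype (Sylow 3 G)]

theorem line_arith (s n : ℕ) (hs3 : s % 3 = 1) (hs2 : 2 ≤ s) (hn1 : s - 1 ∣ n)
    (hn2 : s * (s - 1) ∣ 22 * n) (hnpos : 0 < n) (hn21 : n ≤ 21) :
    (s = 4 ∧ 6 ∣ n) ∨ (s = 22 ∧ n = 21) := by
  have hle : s - 1 ≤ n := Nat.le_of_dvd hnpos hn1
  have hs22 : s ≤ 22 := by omega
  obtain ⟨k, rfl⟩ := hn1
  interval_cases s <;> simp at hs3 <;> simp at hn21 hnpos hn2 ⊢ <;>
    (have hk : k ≤ 7 := by omega
     interval_cases k <;> simp at hn21 hnpos hn2 ⊢ <;> omega)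

theorem line_size_data (h22 : Nat.card (Sylow 3 G) = 22) (P Q : Sylow 3 G) (h : Adj P Q) :
    (lnF P Q).card % 3 = 1 ∧ 2 ≤ (lnF P Q).card ∧
      ((lnF P Q).card - 1) ∣ nn (lnF P Q).card P ∧
      (lnF P Q).card * ((lnF P Q).card - 1) ∣ 22 * nn (lnF P Q).card P ∧
      0 < nn (lnF P Q).card P ∧ nn (lnF P Q).card P ≤ (gam P).card := by
  refine ⟨?_, ?_, ?_, ?_, ?_, ?_⟩
  · rw [card_lnF]; exact card_ln_mod h
  · exact Finset.one_lt_card.mpr ⟨P, (lnF_mem P Q h).1, Q, (lnF_mem P Q h).2, adj_ne h⟩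
  · exact flag_count_point Adj lnF lnF_irr lnF_mem lnF_line _ P
  · have := flag_count Adj lnF lnF_irr lnF_mem lnF_line (lnF P Q).card (nn (lnF P Q).card P)
      (fun α => nn_const _ α P)
    rwa [← Nat.card_eq_fintype_card, h22] at this
  · unfold nn
    rw [Finset.card_pos]
    exact ⟨Q, by simp [h]⟩
  · unfold nn gam
    apply Finset.card_le_card
    intro R hR
    simp only [Finset.mem_filter, Finset.mem_univ, true_and] at hR ⊢
    exact hR.1

theorem gam_card_le (h22 : Nat.card (Sylow 3 G) = 22) (P : Sylow 3 G) : (gam P).card ≤ 21 := by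
  have h1 : (gam P).card ≤ (Finset.univ.erase P).card := by
    apply Finset.card_le_card
    intro R hR
    unfold gam at hR
    simp only [Finset.mem_filter, Finset.mem_univ, true_and] at hR
    rw [Finset.mem_erase]
    exact ⟨(adj_ne hR).symm, Finset.mem_univ _⟩
  rw [Finset.card_erase_of_mem (Finset.mem_univ _), Finset.card_univ, ← Nat.card_eq_fintype_card,
    h22] at h1
  exact h1

theorem line_size_cases (h22 : Nat.card (Sylow 3 G) = 22) (P Q : Sylow 3 G) (h : Adj P Q) :
    ((lnF P Q).card = 4 ∧ 6 ∣ nn 4 P) ∨ ((lnF P Q).card = 22 ∧ nn 22 P = 21) := by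
  obtain ⟨h1, h2, h3, h4, h5, h6⟩ := line_size_data h22 P Q h
  have := line_arith _ _ h1 h2 h3 h4 h5 (h6.trans (gam_card_le h22 P))
  rcases this with ⟨hs, hn⟩ | ⟨hs, hn⟩
  · left; rw [hs] at hn; exact ⟨hs, hn⟩
  · right; rw [hs] at hn; exact ⟨hs, hn⟩

theorem nn_le_gam (s : ℕ) (P : Sylow 3 G) : nn s P ≤ (gam P).card := by
  unfold nn gam
  apply Finset.card_le_card
  intro R hR
  simp only [Finset.mem_filter, Finset.mem_univ, true_and] at hR ⊢
  exact hR.1

theorem not_gam3 (h22 : Nat.card (Sylow 3 G) = 22) (P : Sylow 3 G) : (gam P).card ≠ 3 := by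
  intro h3
  have hpos : 0 < (gam P).card := by rw [h3]; norm_num
  obtain ⟨Q, hQ⟩ := Finset.card_pos.mp hpos
  have hA : Adj P Q := by
    unfold gam at hQ
    simpa using hQ
  rcases line_size_cases h22 P Q hA with ⟨hs, hn⟩ | ⟨hs, hn⟩
  · have hle := nn_le_gam 4 P
    have hpos4 : 0 < nn 4 P := by
      unfold nn
      rw [Finset.card_pos]
      exact ⟨Q, by simp [hA, hs]⟩
    rw [h3] at hle
    obtain ⟨k, hk⟩ := hn
    omega
  · have hle := nn_le_gam 22 P
    rw [h3] at hle
    omega

theorem lines4 (h22 : Nat.card (Sylow 3 G) = 22) (P : Sylow 3 G) (h12 : (gam P).card = 12)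
    (Q : Sylow 3 G) (hA : Adj P Q) : (lnF P Q).card = 4 := by
  rcases line_size_cases h22 P Q hA with ⟨hs, _⟩ | ⟨_, hn⟩
  · exact hs
  · have hle := nn_le_gam 22 P
    rw [h12] at hle
    omega

theorem exists22 (h22 : Nat.card (Sylow 3 G) = 22) (P : Sylow 3 G) (h21 : (gam P).card = 21) :
    ∃ Q, Adj P Q ∧ (lnF P Q).card = 22 := by
  by_contra hcon
  push Not at hcon
  have hall : ∀ Q, Adj P Q → (lnF P Q).card = 4 ∧ 6 ∣ nn 4 P := by
    intro Q hA
    rcases line_size_cases h22 P Q hA with h | ⟨hs, _⟩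
    · exact h
    · exact absurd hs (hcon Q hA)
  have hpos : 0 < (gam P).card := by rw [h21]; norm_num
  obtain ⟨Q, hQ⟩ := Finset.card_pos.mp hpos
  have hA : Adj P Q := by
    unfold gam at hQ
    simpa using hQ
  have h6 := (hall Q hA).2
  have heq : nn 4 P = (gam P).card := by
    unfold nn gam
    congr 1
    ext R
    simp only [Finset.mem_filter, Finset.mem_univ, true_and]
    constructor
    · exact fun h => h.1
    · exact fun h => ⟨h, (hall R h).1⟩
  rw [heq, h21] at h6
  omega

end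

section

open MulAction Subgroup

open scoped Pointwise

open Cfsg.Agent.S1017

variable {G : Type*} [Group G] [Finite G]

theorem smul_ne_of_mem {P R : Sylow 3 G} {x : G} (hx : x ∈ (P : Subgroup G)) (hR : R ≠ P) :
    x • R ≠ P := by
  intro h
  apply hR
  have h2 : x⁻¹ • (x • R) = x⁻¹ • P := congrArg _ h
  rwa [inv_smul_smul, smul_self_mem (inv_mem hx)] at h2

theorem ncard_ln_diff {P Q : Sylow 3 G} (h4 : Nat.card (ln P Q) = 4) :
    (ln P Q \ {P}).ncard = 3 := by
  rw [Set.ncard_sdiff_singleton_of_mem (mem_ln_left P Q), ← _root_.Nat.card_coe_set_eq, h4]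

/-- `P` is transitive on the other points of a line of size 4 through `P`. -/
theorem exists_smul_of_mem_ln {P β β' : Sylow 3 G} (hβ : Adj P β) (h4 : Nat.card (ln P β) = 4)
    (hβ' : β' ∈ ln P β) (hβ'P : β' ≠ P) : ∃ x ∈ (P : Subgroup G), x • β = β' := by
  have hsub : orbit ↥(P : Subgroup G) β ⊆ ln P β \ {P} := by
    rintro _ ⟨x, rfl⟩
    refine ⟨smul_mem_ln_of_mem hβ x.2 (mem_ln_right P β), ?_⟩
    rw [Set.mem_singleton_iff]
    exact smul_ne_of_mem x.2 (adj_ne hβ).symm
  have hcard : (orbit ↥(P : Subgroup G) β).ncard = 3 := by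
    have h1 := card_orbit_sylow P β
    unfold Adj at hβ
    rw [← hβ, mul_comm] at h1
    have hpos : 0 < Nat.card ↥((P : Subgroup G) ⊓ (β : Subgroup G)) := Nat.card_pos
    rw [← _root_.Nat.card_coe_set_eq]
    exact Nat.eq_of_mul_eq_mul_left hpos h1
  have heq : orbit ↥(P : Subgroup G) β = ln P β \ {P} := by
    apply Set.eq_of_subset_of_ncard_le hsub _ (Set.toFinite _)
    rw [hcard, ncard_ln_diff h4]
  have : β' ∈ orbit ↥(P : Subgroup G) β := by
    rw [heq]
    exact ⟨hβ', hβ'P⟩
  obtain ⟨x, hx⟩ := this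
  exact ⟨x.1, x.2, hx⟩

/-- The intersection `P ⊓ β` is transitive on the other points of a different line of size 4 through
`P`. -/
theorem exists_smul_fix {P β γ γ' : Sylow 3 G} (hγ : Adj P γ) (hne : γ ∉ ln P β)
    (h4 : Nat.card (ln P γ) = 4) (hγ' : γ' ∈ ln P γ) (hγ'P : γ' ≠ P) :
    ∃ d ∈ (P : Subgroup G) ⊓ (β : Subgroup G), d • γ = γ' := by
  set D : Subgroup G := (P : Subgroup G) ⊓ (β : Subgroup G) with hD
  have hDP : D ≤ (P : Subgroup G) := inf_le_left
  have hpg : IsPGroup 3 ↥D := P.2.to_le hDP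
  have hsub : orbit ↥D γ ⊆ ln P γ \ {P} := by
    rintro _ ⟨x, rfl⟩
    refine ⟨smul_mem_ln_of_mem hγ (hDP x.2) (mem_ln_right P γ), ?_⟩
    rw [Set.mem_singleton_iff]
    exact smul_ne_of_mem (hDP x.2) (adj_ne hγ).symm
  obtain ⟨n, hn⟩ := hpg.card_orbit γ
  rw [_root_.Nat.card_coe_set_eq] at hn
  have hle : (orbit ↥D γ).ncard ≤ 3 := by
    have := Set.ncard_le_ncard hsub (Set.toFinite _)
    rwa [ncard_ln_diff h4] at this
  have hn0 : n ≠ 0 := by
    rintro rfl
    rw [pow_zero] at hn
    apply hne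
    show (P : Subgroup G) ⊓ (β : Subgroup G) ≤ (γ : Subgroup G)
    have hfix : ∀ d : ↥D, d • γ = γ := by
      intro d
      obtain ⟨a, ha⟩ := Set.ncard_eq_one.mp hn
      have h1 : d • γ ∈ orbit ↥D γ := ⟨d, rfl⟩
      have h2 : γ ∈ orbit ↥D γ := mem_orbit_self γ
      rw [ha, Set.mem_singleton_iff] at h1 h2
      rw [h1, h2]
    have hDN : D ≤ Subgroup.normalizer ((γ : Subgroup G) : Set G) := by
      intro d hd
      exact Sylow.smul_eq_iff_mem_normalizer.mp (hfix ⟨d, hd⟩)
    have hinf := hpg.inf_normalizer_sylow γ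
    have : D ⊓ Subgroup.normalizer (γ : Set G) = D := inf_eq_left.mpr hDN
    rw [this] at hinf
    rw [← hD, hinf]
    exact inf_le_right
  have hn1 : n = 1 := by
    by_contra hcon
    have h2 : 2 ≤ n := by omega
    have : 3 ^ 2 ≤ 3 ^ n := Nat.pow_le_pow_right (by norm_num) h2
    omega
  have heq : orbit ↥D γ = ln P γ \ {P} := by
    apply Set.eq_of_subset_of_ncard_le hsub _ (Set.toFinite _)
    rw [hn, hn1, ncard_ln_diff h4, pow_one]
  have : γ' ∈ orbit ↥D γ := by
    rw [heq]
    exact ⟨hγ', hγ'P⟩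
  obtain ⟨d, hd⟩ := this
  exact ⟨d.1, d.2, hd⟩

/-- All-or-nothing: adjacency between the points of two lines through `P`. -/
theorem aon {P β γ β' γ' : Sylow 3 G}
    (h4β : Nat.card (ln P β) = 4) (h4γ : Nat.card (ln P γ) = 4)
    (hβ : Adj P β) (hγ : Adj P γ) (hne : γ ∉ ln P β) (hβγ : Adj β γ)
    (hβ' : β' ∈ ln P β) (hβ'P : β' ≠ P) (hγ' : γ' ∈ ln P γ) (hγ'P : γ' ≠ P) : Adj β' γ' := by
  obtain ⟨x, hx, hxβ⟩ := exists_smul_of_mem_ln hβ h4β hβ' hβ'P
  have hγ1 : x • γ ∈ ln P γ := smul_mem_ln_of_mem hγ hx (mem_ln_right P γ)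
  have hγ1P : x • γ ≠ P := smul_ne_of_mem hx (adj_ne hγ).symm
  have hl1 : ln P (x • γ) = ln P γ := ln_eq_of_mem_ln hγ (mem_ln_left P γ) hγ1 hγ1P.symm
  have hA1 : Adj P (x • γ) := adj_of_mem_ln hγ (mem_ln_left P γ) hγ1 hγ1P.symm
  have hlβ : ln P β' = ln P β := ln_eq_of_mem_ln hβ (mem_ln_left P β) hβ' hβ'P.symm
  have hne1 : x • γ ∉ ln P β' := by
    rw [hlβ]
    intro hmem
    apply hne
    have := smul_mem_ln_of_mem hβ (inv_mem hx) hmem
    rwa [inv_smul_smul] at this
  obtain ⟨d, hd, hdγ⟩ := exists_smul_fix (β := β') hA1 hne1 (by rw [hl1]; exact h4γ)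
    (by rw [hl1]; exact hγ') hγ'P
  have hdβ : d • β' = β' := smul_self_mem hd.2
  have h1 : (d * x) • β = β' := by rw [mul_smul, hxβ, hdβ]
  have h2 : (d * x) • γ = γ' := by rw [mul_smul, hdγ]
  rw [← h1, ← h2]
  exact smul_adj (d * x) hβγ

end

section

/-- An abstract partial linear space with 22 points, lines of size 4, 12 neighbours per point and
the all-or-nothing property. -/
structure Geo {Ω : Type*} [Fintype Ω] [DecidableEq Ω] (A : Ω → Ω → Prop) [DecidableRel A]
    (L : Ω → Ω → Finset Ω) : Prop where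
  card : Fintype.card Ω = 22
  symm : ∀ α β, A α β → A β α
  irr : ∀ α, ¬ A α α
  mem : ∀ α β, A α β → α ∈ L α β ∧ β ∈ L α β
  line : ∀ α β γ δ, A α β → γ ∈ L α β → δ ∈ L α β → γ ≠ δ → A γ δ ∧ L γ δ = L α β
  h12 : ∀ α, (Finset.univ.filter (fun β => A α β)).card = 12
  h4 : ∀ α β, A α β → (L α β).card = 4
  aon : ∀ α β γ β' γ', A α β → A α γ → γ ∉ L α β → A β γ → β' ∈ L α β → β' ≠ α →
      γ' ∈ L α γ → γ' ≠ α → A β' γ'

variable {Ω : Type*} [Fintype Ω] [DecidableEq Ω] {A : Ω → Ω → Prop} [DecidableRel A]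
  {L : Ω → Ω → Finset Ω}

theorem Geo.ne (g : Geo A L) {α β : Ω} (h : A α β) : α ≠ β := by
  rintro rfl
  exact g.irr _ h

theorem Geo.line_unique (g : Geo A L) {α β α' β' γ δ : Ω} (h : A α β) (h' : A α' β')
    (hγ : γ ∈ L α β) (hδ : δ ∈ L α β) (hγ' : γ ∈ L α' β') (hδ' : δ ∈ L α' β') (hne : γ ≠ δ) :
    L α β = L α' β' := by
  rw [← (g.line α β γ δ h hγ hδ hne).2, ← (g.line α' β' γ δ h' hγ' hδ' hne).2]

theorem Geo.line_swap (g : Geo A L) {α β : Ω} (h : A α β) : L β α = L α β :=
  (g.line α β β α h (g.mem α β h).2 (g.mem α β h).1 (g.ne h).symm).2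

theorem Geo.mem_nbr (g : Geo A L) {α β : Ω} : β ∈ Finset.univ.filter (fun β => A α β) ↔ A α β := by
  simp

/-- a point of the line through `α`, other than `α`, is adjacent to `α` -/
theorem Geo.adj_of_mem (g : Geo A L) {α β δ : Ω} (h : A α β) (hδ : δ ∈ L α β) (hne : δ ≠ α) :
    A α δ ∧ L α δ = L α β :=
  g.line α β α δ h (g.mem α β h).1 hδ hne.symm

/-- there are exactly four lines through each point -/
theorem Geo.lines_card (g : Geo A L) (β : Ω) :
    ((Finset.univ.filter (fun δ => A β δ)).image (fun δ => L β δ)).card = 4 := by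
  set B := Finset.univ.filter (fun δ => A β δ) with hB
  have h1 := Finset.card_eq_sum_card_fiberwise (s := B) (t := B.image (fun δ => L β δ))
    (f := fun δ => L β δ) (fun δ hδ => Finset.mem_image_of_mem _ hδ)
  have h2 : ∀ M ∈ B.image (fun δ => L β δ), (B.filter (fun δ => L β δ = M)).card = 3 := by
    intro M hM
    obtain ⟨δ₀, hδ₀, rfl⟩ := Finset.mem_image.mp hM
    rw [hB, Finset.mem_filter] at hδ₀
    have hA := hδ₀.2
    have hfib : B.filter (fun δ => L β δ = L β δ₀) = (L β δ₀).erase β := by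
      ext δ
      simp only [hB, Finset.mem_filter, Finset.mem_univ, true_and, Finset.mem_erase]
      constructor
      · rintro ⟨hAδ, hL⟩
        refine ⟨(g.ne hAδ).symm, ?_⟩
        rw [← hL]
        exact (g.mem β δ hAδ).2
      · rintro ⟨hne, hδ⟩
        exact g.adj_of_mem hA hδ hne
    rw [hfib, Finset.card_erase_of_mem (g.mem β δ₀ hA).1, g.h4 β δ₀ hA]
  rw [Finset.sum_congr rfl h2, Finset.sum_const, smul_eq_mul, g.h12 β] at h1
  omega

/-- If two neighbours of `α` on different lines are adjacent, all neighbours of `β` are in the closed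
neighbourhood of `α`. -/
theorem Geo.closed_of_cross (g : Geo A L) {α β γ : Ω} (hαβ : A α β) (hαγ : A α γ)
    (hne : γ ∉ L α β) (hβγ : A β γ) :
    ∀ δ, A β δ → δ = α ∨ A α δ := by
  have hcard3 : ((L α γ).erase α).card = 3 := by
    rw [Finset.card_erase_of_mem (g.mem α γ hαγ).1, g.h4 α γ hαγ]
  obtain ⟨γ₁, γ₂, γ₃, h12, h13, h23, hset⟩ := Finset.card_eq_three.mp hcard3
  have hmemγ : ∀ x, x ∈ ({γ₁, γ₂, γ₃} : Finset Ω) → x ∈ L α γ ∧ x ≠ α := by
    intro x hx
    rw [← hset, Finset.mem_erase] at hx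
    exact ⟨hx.2, hx.1⟩
  have hβα : A β α := g.symm α β hαβ
  have hLβα : L β α = L α β := g.line_swap hαβ
  -- facts about each γᵢ
  have key : ∀ x, x ∈ ({γ₁, γ₂, γ₃} : Finset Ω) →
      A β x ∧ A α x ∧ x ∉ L α β ∧ x ∈ L α γ := by
    intro x hx
    obtain ⟨hx1, hx2⟩ := hmemγ x hx
    have hαx := g.adj_of_mem hαγ hx1 hx2
    refine ⟨?_, hαx.1, ?_, hx1⟩
    · exact g.aon α β γ β x hαβ hαγ hne hβγ (g.mem α β hαβ).2 (g.ne hαβ).symm hx1 hx2
    · intro hxL
      apply hne
      have := g.line_unique hαβ hαγ (g.mem α β hαβ).1 hxL (g.mem α γ hαγ).1 hx1 hx2.symm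
      rw [this]
      exact (g.mem α γ hαγ).2
  have hγ₁ := key γ₁ (by simp)
  have hγ₂ := key γ₂ (by simp)
  have hγ₃ := key γ₃ (by simp)
  -- distinctness of lines through β
  have hdist0 : ∀ x, x ∈ ({γ₁, γ₂, γ₃} : Finset Ω) → L β x ≠ L β α := by
    intro x hx hL
    obtain ⟨hβx, -, hxn, -⟩ := key x hx
    apply hxn
    rw [← hLβα, ← hL]
    exact (g.mem β x hβx).2
  have hdist : ∀ x y, x ∈ ({γ₁, γ₂, γ₃} : Finset Ω) → y ∈ ({γ₁, γ₂, γ₃} : Finset Ω) → x ≠ y →
      L β x ≠ L β y := by
    intro x y hx hy hxy hL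
    obtain ⟨hβx, -, -, hxγ⟩ := key x hx
    obtain ⟨hβy, -, -, hyγ⟩ := key y hy
    have hyM : y ∈ L β x := by rw [hL]; exact (g.mem β y hβy).2
    have := g.line_unique hβx hαγ (g.mem β x hβx).2 hyM hxγ hyγ hxy
    have hβL : β ∈ L α γ := by rw [← this]; exact (g.mem β x hβx).1
    apply hne
    have h2 := g.line_unique hαβ hαγ (g.mem α β hαβ).1 (g.mem α β hαβ).2 (g.mem α γ hαγ).1 hβL
      (g.ne hαβ)
    rw [h2]
    exact (g.mem α γ hαγ).2
  -- the four lines through β
  set B := Finset.univ.filter (fun δ => A β δ) with hB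
  have hsub : ({L β α, L β γ₁, L β γ₂, L β γ₃} : Finset (Finset Ω)) ⊆ B.image (fun δ => L β δ) := by
    intro M hM
    simp only [Finset.mem_insert, Finset.mem_singleton] at hM
    rw [Finset.mem_image]
    rcases hM with rfl | rfl | rfl | rfl
    · exact ⟨α, by simp [hB, hβα], rfl⟩
    · exact ⟨γ₁, by simp [hB, hγ₁.1], rfl⟩
    · exact ⟨γ₂, by simp [hB, hγ₂.1], rfl⟩
    · exact ⟨γ₃, by simp [hB, hγ₃.1], rfl⟩
  have hcard4 : ({L β α, L β γ₁, L β γ₂, L β γ₃} : Finset (Finset Ω)).card = 4 := by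
    have d1 := hdist0 γ₁ (by simp)
    have d2 := hdist0 γ₂ (by simp)
    have d3 := hdist0 γ₃ (by simp)
    have d12 := hdist γ₁ γ₂ (by simp) (by simp) h12
    have d13 := hdist γ₁ γ₃ (by simp) (by simp) h13
    have d23 := hdist γ₂ γ₃ (by simp) (by simp) h23
    rw [Finset.card_insert_of_notMem, Finset.card_insert_of_notMem, Finset.card_insert_of_notMem,
      Finset.card_singleton]
    · simp only [Finset.mem_singleton]; exact d23
    · simp only [Finset.mem_insert, Finset.mem_singleton]; push Not; exact ⟨d12, d13⟩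
    · simp only [Finset.mem_insert, Finset.mem_singleton]; push Not
      exact ⟨d1.symm, d2.symm, d3.symm⟩
  have heq : ({L β α, L β γ₁, L β γ₂, L β γ₃} : Finset (Finset Ω)) = B.image (fun δ => L β δ) :=
    Finset.eq_of_subset_of_card_le hsub (by rw [hcard4, g.lines_card β])
  intro δ hδ
  have hδM : L β δ ∈ B.image (fun δ => L β δ) :=
    Finset.mem_image_of_mem _ (by simp [hB, hδ])
  rw [← heq] at hδM
  simp only [Finset.mem_insert, Finset.mem_singleton] at hδM
  have hδmem : δ ∈ L β δ := (g.mem β δ hδ).2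
  have hδβ : δ ≠ β := (g.ne hδ).symm
  have cross : ∀ x, x ∈ ({γ₁, γ₂, γ₃} : Finset Ω) → L β δ = L β x → A α δ := by
    intro x hx hL
    obtain ⟨hβx, hαx, hxn, -⟩ := key x hx
    rw [hL] at hδmem
    have hxn' : x ∉ L β α := by rw [hLβα]; exact hxn
    exact g.aon β α x α δ hβα hβx hxn' hαx (g.mem β α hβα).2 (g.ne hαβ) hδmem hδβ
  rcases hδM with h | h | h | h
  · rw [h, hLβα] at hδmem
    by_cases hδα : δ = α
    · left; exact hδα
    · right; exact (g.adj_of_mem hαβ hδmem hδα).1
  · right; exact cross γ₁ (by simp) h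
  · right; exact cross γ₂ (by simp) h
  · right; exact cross γ₃ (by simp) h

end

section

variable {Ω : Type*} [Fintype Ω] [DecidableEq Ω] {A : Ω → Ω → Prop} [DecidableRel A]
  {L : Ω → Ω → Finset Ω}

/-- The closed neighbourhood has 13 points, so some point lies outside. -/
theorem Geo.exists_far (g : Geo A L) (α : Ω) : ∃ δ, δ ≠ α ∧ ¬ A α δ := by
  by_contra hcon
  push Not at hcon
  have : (Finset.univ : Finset Ω) ⊆ insert α (Finset.univ.filter (fun β => A α β)) := by
    intro δ _
    rw [Finset.mem_insert, Finset.mem_filter]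
    by_cases h : δ = α
    · left; exact h
    · right; exact ⟨Finset.mem_univ _, hcon δ h⟩
  have h1 := Finset.card_le_card this
  have h2 := Finset.card_insert_le α (Finset.univ.filter (fun β => A α β))
  rw [g.h12 α] at h2
  rw [Finset.card_univ, g.card] at h1
  omega

/-- a far point has at most 8 possible neighbours if it has none in the closed neighbourhood -/
theorem Geo.far_bound (g : Geo A L) (α δ : Ω) (hδα : δ ≠ α) (hδ : ¬ A α δ)
    (hno : ∀ ε, A δ ε → ε ≠ α ∧ ¬ A α ε) : False := by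
  set S := insert α (Finset.univ.filter (fun β => A α β)) with hS
  have hScard : S.card = 13 := by
    rw [hS, Finset.card_insert_of_notMem, g.h12 α]
    simp [g.irr α]
  have hδS : δ ∉ S := by
    rw [hS, Finset.mem_insert, Finset.mem_filter]
    push Not
    exact ⟨hδα, fun _ => hδ⟩
  have hsub : Finset.univ.filter (fun ε => A δ ε) ⊆ (Finset.univ \ insert δ S) := by
    intro ε hε
    rw [Finset.mem_filter] at hε
    rw [Finset.mem_sdiff, Finset.mem_insert]
    refine ⟨Finset.mem_univ _, ?_⟩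
    push Not
    refine ⟨(g.ne hε.2).symm, ?_⟩
    rw [hS, Finset.mem_insert, Finset.mem_filter]
    push Not
    have := hno ε hε.2
    exact ⟨this.1, fun _ => this.2⟩
  have h1 := Finset.card_le_card hsub
  rw [g.h12 δ, Finset.card_sdiff_of_subset (Finset.subset_univ _), Finset.card_univ, g.card,
    Finset.card_insert_of_notMem hδS, hScard] at h1
  omega

theorem Geo.caseA (g : Geo A L) {α β γ : Ω} (hαβ : A α β) (hαγ : A α γ)
    (hne : γ ∉ L α β) (hβγ : A β γ) : False := by
  have hβ := g.closed_of_cross hαβ hαγ hne hβγ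
  -- every neighbour of α is adjacent to β or equal to it
  have hnbr : ∀ β', A α β' → β' ≠ β → A β β' := by
    intro β' hβ' hne'
    -- G β ⊆ S α \ {β}, both of size 12
    have hsub : Finset.univ.filter (fun δ => A β δ) ⊆
        (insert α (Finset.univ.filter (fun δ => A α δ))).erase β := by
      intro δ hδ
      rw [Finset.mem_filter] at hδ
      rw [Finset.mem_erase, Finset.mem_insert, Finset.mem_filter]
      refine ⟨(g.ne hδ.2).symm, ?_⟩
      rcases hβ δ hδ.2 with h | h
      · left; exact h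
      · right; exact ⟨Finset.mem_univ _, h⟩
    have hcard : ((insert α (Finset.univ.filter (fun δ => A α δ))).erase β).card = 12 := by
      have hm : β ∈ insert α (Finset.univ.filter (fun δ => A α δ)) := by
        rw [Finset.mem_insert, Finset.mem_filter]
        right; exact ⟨Finset.mem_univ _, hαβ⟩
      have hn : α ∉ Finset.univ.filter (fun δ => A α δ) := by
        simp [g.irr α]
      rw [Finset.card_erase_of_mem hm, Finset.card_insert_of_notMem hn, g.h12 α]
    have heq := Finset.eq_of_subset_of_card_le hsub (by rw [hcard, g.h12 β])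
    have : β' ∈ (insert α (Finset.univ.filter (fun δ => A α δ))).erase β := by
      rw [Finset.mem_erase, Finset.mem_insert, Finset.mem_filter]
      exact ⟨hne', Or.inr ⟨Finset.mem_univ _, hβ'⟩⟩
    rw [← heq, Finset.mem_filter] at this
    exact this.2
  have hall : ∀ β', A α β' → ∀ δ, A β' δ → δ = α ∨ A α δ := by
    intro β' hβ'
    by_cases hbb : β' = β
    · rw [hbb]; exact hβ
    · have hββ' := hnbr β' hβ' hbb
      by_cases hmem : β ∈ L α β'
      · -- same line through α
        have hLL : L α β' = L α β := by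
          have := g.adj_of_mem hβ' hmem (g.ne hαβ).symm
          exact this.2.symm
        have hβ'mem : β' ∈ L α β := by rw [← hLL]; exact (g.mem α β' hβ').2
        have hβ'γ : A β' γ := g.aon α β γ β' γ hαβ hαγ hne hβγ hβ'mem (g.ne hβ').symm
          (g.mem α γ hαγ).2 (g.ne hαγ).symm
        exact g.closed_of_cross hβ' hαγ (by rw [hLL]; exact hne) hβ'γ
      · exact g.closed_of_cross hβ' hαβ hmem (g.symm _ _ hββ')
  obtain ⟨δ, hδα, hδ⟩ := g.exists_far α
  apply g.far_bound α δ hδα hδ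
  intro ε hε
  constructor
  · rintro rfl
    exact hδ (g.symm _ _ hε)
  · intro hαε
    rcases hall ε hαε δ (g.symm _ _ hε) with h | h
    · exact hδα h
    · exact hδ h

theorem Geo.caseB (g : Geo A L) (α : Ω)
    (hB : ∀ β γ, A α β → A α γ → A β γ → γ ∈ L α β) : False := by
  set S := insert α (Finset.univ.filter (fun β => A α β)) with hS
  have hScard : S.card = 13 := by
    rw [hS, Finset.card_insert_of_notMem, g.h12 α]
    simp [g.irr α]
  set Δ := Finset.univ \ S with hΔ
  have hΔcard : Δ.card = 9 := by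
    rw [hΔ, Finset.card_sdiff_of_subset (Finset.subset_univ _), Finset.card_univ, g.card, hScard]
  -- every far point is adjacent to every neighbour of α
  have hfar : ∀ β, A α β → ∀ δ ∈ Δ, A β δ := by
    intro β hαβ
    set Gβ := Finset.univ.filter (fun δ => A β δ) with hGβ
    have h1 : Gβ ∩ S ⊆ (L α β).erase β := by
      intro ε hε
      rw [Finset.mem_inter, hGβ, Finset.mem_filter, hS, Finset.mem_insert, Finset.mem_filter] at hε
      obtain ⟨⟨-, hβε⟩, hεS⟩ := hε
      rw [Finset.mem_erase]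
      refine ⟨(g.ne hβε).symm, ?_⟩
      rcases hεS with rfl | ⟨-, hαε⟩
      · exact (g.mem _ _ hαβ).1
      · exact hB β ε hαβ hαε hβε
    have h2 : (Gβ ∩ S).card ≤ 3 := by
      have := Finset.card_le_card h1
      rwa [Finset.card_erase_of_mem (g.mem α β hαβ).2, g.h4 α β hαβ] at this
    have h3 : (Gβ \ S).card + (Gβ ∩ S).card = Gβ.card := Finset.card_sdiff_add_card_inter Gβ S
    rw [hGβ, g.h12 β, ← hGβ] at h3
    have h4 : Gβ \ S ⊆ Δ := by
      intro ε hε
      rw [Finset.mem_sdiff] at hε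
      rw [hΔ, Finset.mem_sdiff]
      exact ⟨Finset.mem_univ _, hε.2⟩
    have h5 : Gβ \ S = Δ := Finset.eq_of_subset_of_card_le h4 (by rw [hΔcard]; omega)
    intro δ hδ
    rw [← h5, Finset.mem_sdiff, hGβ, Finset.mem_filter] at hδ
    exact hδ.1.2
  have hΔne : Δ.Nonempty := by
    rw [← Finset.card_pos, hΔcard]; norm_num
  obtain ⟨δ, hδ⟩ := hΔne
  have hδS : δ ∉ S := by
    rw [hΔ, Finset.mem_sdiff] at hδ
    exact hδ.2
  -- neighbours of δ are exactly the neighbours of α
  have hGδ : Finset.univ.filter (fun ε => A α ε) = Finset.univ.filter (fun ε => A δ ε) := by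
    apply Finset.eq_of_subset_of_card_le
    · intro ε hε
      rw [Finset.mem_filter] at hε ⊢
      exact ⟨Finset.mem_univ _, g.symm _ _ (hfar ε hε.2 δ hδ)⟩
    · rw [g.h12 α, g.h12 δ]
  have hne : (Finset.univ.filter (fun β => A α β)).Nonempty := by
    rw [← Finset.card_pos, g.h12 α]; norm_num
  obtain ⟨β, hβ⟩ := hne
  rw [Finset.mem_filter] at hβ
  have hαβ := hβ.2
  have hβδ := hfar β hαβ δ hδ
  -- a third point on the line βδ
  have hc : (((L β δ).erase β).erase δ).card = 2 := by
    rw [Finset.card_erase_of_mem, Finset.card_erase_of_mem (g.mem β δ hβδ).1, g.h4 β δ hβδ]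
    rw [Finset.mem_erase]
    exact ⟨(g.ne hβδ).symm, (g.mem β δ hβδ).2⟩
  have hne2 : (((L β δ).erase β).erase δ).Nonempty := by
    rw [← Finset.card_pos, hc]; norm_num
  obtain ⟨ε, hε⟩ := hne2
  rw [Finset.mem_erase, Finset.mem_erase] at hε
  obtain ⟨hεδ, hεβ, hεL⟩ := hε
  have hδε : A δ ε := (g.line β δ δ ε hβδ (g.mem β δ hβδ).2 hεL hεδ.symm).1
  have hβε : A β ε := (g.adj_of_mem hβδ hεL hεβ).1
  have hαε : A α ε := by
    have : ε ∈ Finset.univ.filter (fun ε => A α ε) := by
      rw [hGδ, Finset.mem_filter]; exact ⟨Finset.mem_univ _, hδε⟩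
    rw [Finset.mem_filter] at this
    exact this.2
  have hεαβ : ε ∈ L α β := hB β ε hαβ hαε hβε
  have hLL := g.line_unique hαβ hβδ (g.mem α β hαβ).2 hεαβ (g.mem β δ hβδ).1 hεL hεβ.symm
  apply hδS
  rw [hS, Finset.mem_insert, Finset.mem_filter]
  have hδL : δ ∈ L α β := by rw [hLL]; exact (g.mem β δ hβδ).2
  by_cases hδα : δ = α
  · left; exact hδα
  · right; exact ⟨Finset.mem_univ _, (g.adj_of_mem hαβ hδL hδα).1⟩

theorem Geo.false (g : Geo A L) : False := by
  have hpos : 0 < Fintype.card Ω := by rw [g.card]; norm_num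
  obtain ⟨α⟩ := Fintype.card_pos_iff.mp hpos
  by_cases h : ∃ β γ, A α β ∧ A α γ ∧ γ ∉ L α β ∧ A β γ
  · obtain ⟨β, γ, h1, h2, h3, h4⟩ := h
    exact g.caseA h1 h2 h3 h4
  · push Not at h
    apply g.caseB α
    intro β γ h1 h2 h3
    by_contra hcon
    exact h β γ h1 h2 hcon h3

end

section

open MulAction Subgroup

open scoped Pointwise

open Cfsg.Agent.S1017

open Classical

variable {G : Type*} [Group G] [Finite G]

variable [Fintype (Sylow 3 G)]

theorem geo_of_twelve (h22 : Nat.card (Sylow 3 G) = 22) (P : Sylow 3 G) (h12 : (gam P).card = 12) :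
    Geo (Adj (G := G)) lnF where
  card := by rw [← Nat.card_eq_fintype_card, h22]
  symm := fun _ _ h => adj_symm h
  irr := lnF_irr
  mem := lnF_mem
  line := lnF_line
  h12 := fun α => by
    have := gam_const α P
    rw [h12] at this
    exact this
  h4 := fun α β h => lines4 h22 α (by rw [gam_const α P, h12]) β h
  aon := by
    intro α β γ β' γ' hβ hγ hne hβγ hβ' hβ'α hγ' hγ'α
    have hα12 : (gam α).card = 12 := by rw [gam_const α P, h12]
    have h4β : Nat.card (ln α β) = 4 := by rw [← card_lnF]; exact lines4 h22 α hα12 β hβ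
    have h4γ : Nat.card (ln α γ) = 4 := by rw [← card_lnF]; exact lines4 h22 α hα12 γ hγ
    rw [mem_lnF] at hne hβ' hγ'
    exact aon h4β h4γ hβ hγ hne hβγ hβ' hβ'α hγ' hγ'α

theorem card_three (h22 : Nat.card (Sylow 3 G) = 22)
    (hfaith : ∀ g : G, (∀ Q : Sylow 3 G, g • Q = Q) → g = 1) (P : Sylow 3 G) :
    Nat.card (P : Subgroup G) = 3 := by
  rcases gam_card_cases h22 P with h3 | h12 | h21
  · exact absurd h3 (not_gam3 h22 P)
  · exact (geo_of_twelve h22 P h12).false.elim
  · obtain ⟨Q, hA, hc⟩ := exists22 h22 P h21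
    have huniv : lnF P Q = Finset.univ := by
      apply Finset.eq_univ_of_card
      rw [hc, ← Nat.card_eq_fintype_card, h22]
    have hbot : (P : Subgroup G) ⊓ (Q : Subgroup G) = ⊥ := by
      rw [Subgroup.eq_bot_iff_forall]
      intro x hx
      apply hfaith
      intro R
      have hR : R ∈ lnF P Q := by rw [huniv]; exact Finset.mem_univ _
      rw [mem_lnF] at hR
      exact smul_self_of_mem R x (hR hx)
    unfold Adj at hA
    rw [hbot, Subgroup.card_bot] at hA
    omega

end

section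

open MulAction Subgroup

open scoped Pointwise

open Cfsg.Agent.S1017

/-- An involution acting as an even permutation has `|Fix| ≡ |α|` mod 4. -/
theorem card_fixedBy_mod_four_of_sign {G : Type*} [Group G] [Finite G] {α : Type*} [MulAction G α]
    [Fintype α] [DecidableEq α] (u : G) (hu : orderOf u = 2)
    (hs : Equiv.Perm.sign (MulAction.toPerm u : Equiv.Perm α) = 1) :
    Nat.card (fixedBy α u) ≡ Nat.card α [MOD 4] := by
  have hu2 : u ^ 2 = 1 := by rw [← hu]; exact pow_orderOf_eq_one u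
  have hσ : (MulAction.toPerm u : Equiv.Perm α) ^ 2 = 1 := by
    rw [← MulAction.toPermHom_apply, ← map_pow, hu2, map_one]
  have hsign := Equiv.Perm.sign_of_pow_two_eq_one hσ
  rw [hs] at hsign
  have hmod2 := card_modEq_card_fixedBy (α := α) u hu
  have hfp : Fintype.card (Function.fixedPoints (MulAction.toPerm u : Equiv.Perm α)) =
      Nat.card (fixedBy α u) := by
    rw [← Nat.card_eq_fintype_card]; rfl
  rw [hfp, ← Nat.card_eq_fintype_card] at hsign
  have hle : Nat.card (fixedBy α u) ≤ Nat.card α := Nat.card_le_card_of_injective _ Subtype.val_injective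
  set a := Nat.card α
  set b := Nat.card (fixedBy α u)
  have hd2 : 2 ∣ a - b := (Nat.modEq_iff_dvd' hle).1 hmod2.symm
  obtain ⟨c, hc⟩ := hd2
  rw [hc, Nat.mul_div_cancel_left c (by norm_num)] at hsign
  have hev : Even c := by
    by_contra hodd
    rw [Nat.not_even_iff_odd] at hodd
    rw [hodd.neg_one_pow] at hsign
    exact absurd hsign (by decide)
  obtain ⟨e, he⟩ := hev
  rw [Nat.modEq_iff_dvd' hle]
  exact ⟨e, by omega⟩

universe u

theorem main_aux (n : ℕ) : ∀ (G : Type u) [Group G] [Finite G], Nat.card G = n →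
    Nat.card (Sylow 3 G) ≠ 22 := by
  induction n using Nat.strong_induction_on with
  | _ n ih =>
  intro G _ _ hn h22
  have hfin : Finite (Sylow 3 G) := Nat.finite_of_card_ne_zero (by rw [h22]; norm_num)
  -- IH for proper subgroups
  have IH : ∀ L : Subgroup G, L ≠ ⊤ → Nat.card (Sylow 3 L) ≠ 22 := by
    intro L hL
    have hlt : Nat.card L < n := by
      rw [← hn]
      have hle : Nat.card L ≤ Nat.card G := Subgroup.card_le_card_group L
      rcases hle.lt_or_eq with h | h
      · exact h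
      · exact absurd (Subgroup.card_eq_iff_eq_top L |>.mp h) hL
    exact ih _ hlt L rfl
  -- Step 1: the action on the Sylow 3-subgroups is faithful
  have hfaith : ∀ g : G, (∀ Q : Sylow 3 G, g • Q = Q) → g = 1 := by
    by_contra hcon
    push Not at hcon
    obtain ⟨g, hg, hg1⟩ := hcon
    have hK : ∀ P : Sylow 3 G, (MulAction.toPermHom G (Sylow 3 G)).ker ≤
        Subgroup.normalizer (P : Set G) := by
      intro P k hk
      apply Sylow.smul_eq_iff_mem_normalizer.mp
      have h1 : MulAction.toPermHom G (Sylow 3 G) k = 1 := hk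
      have := congrArg (fun σ : Equiv.Perm (Sylow 3 G) => σ P) h1
      simpa using this
    have hcard := Cfsg.Agent.S4304.card_sylow_quotient 3 (MulAction.toPermHom G (Sylow 3 G)).ker hK
    have hgK : g ∈ (MulAction.toPermHom G (Sylow 3 G)).ker := by
      rw [MonoidHom.mem_ker]
      apply Equiv.Perm.ext
      intro Q
      simpa using hg Q
    have hlt : Nat.card (G ⧸ (MulAction.toPermHom G (Sylow 3 G)).ker) < n := by
      rw [← hn]
      have h1 := Subgroup.card_eq_card_quotient_mul_card_subgroup (MulAction.toPermHom G (Sylow 3 G)).ker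
      have h2 : 1 < Nat.card (MulAction.toPermHom G (Sylow 3 G)).ker := by
        rw [Finite.one_lt_card_iff_nontrivial]
        exact ⟨⟨⟨g, hgK⟩, 1, fun h => hg1 (congrArg Subtype.val h)⟩⟩
      have h3 : 0 < Nat.card (G ⧸ (MulAction.toPermHom G (Sylow 3 G)).ker) := Nat.card_pos
      rw [h1]
      nlinarith
    exact ih _ hlt (G ⧸ (MulAction.toPermHom G (Sylow 3 G)).ker) rfl (by rw [hcard, h22])
  -- Step 2: all elements act as even permutations
  classical
  letI : Fintype (Sylow 3 G) := Fintype.ofFinite _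
  have heven : ∀ g : G, Equiv.Perm.sign (MulAction.toPerm g : Equiv.Perm (Sylow 3 G)) = 1 := by
    have hψ : ∀ Q : Sylow 3 G, (Q : Subgroup G) ≤
        ((Equiv.Perm.sign).comp (MulAction.toPermHom G (Sylow 3 G))).ker := by
      intro Q x hx
      rw [MonoidHom.mem_ker, ← orderOf_eq_one_iff]
      have h1 : orderOf (((Equiv.Perm.sign).comp (MulAction.toPermHom G (Sylow 3 G))) x) ∣ orderOf x :=
        orderOf_map_dvd _ x
      have h2 : orderOf x ∣ Nat.card (Q : Subgroup G) := by
        have := orderOf_dvd_natCard (⟨x, hx⟩ : (Q : Subgroup G))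
        rwa [← Subgroup.orderOf_coe] at this
      rw [Q.card_eq_multiplicity] at h2
      have h3 : orderOf (((Equiv.Perm.sign).comp (MulAction.toPermHom G (Sylow 3 G))) x) ∣ 2 := by
        apply orderOf_dvd_of_pow_eq_one
        exact Int.units_sq _
      have hcop : Nat.Coprime (3 ^ (Nat.card G).factorization 3) 2 := by
        apply Nat.Coprime.pow_left
        norm_num
      exact Nat.eq_one_of_dvd_coprimes hcop (h1.trans h2) h3
    by_contra hcon
    push Not at hcon
    obtain ⟨g, hg⟩ := hcon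
    have hne : ((Equiv.Perm.sign).comp (MulAction.toPermHom G (Sylow 3 G))).ker ≠ ⊤ := by
      intro htop
      apply hg
      have : g ∈ ((Equiv.Perm.sign).comp (MulAction.toPermHom G (Sylow 3 G))).ker := by
        rw [htop]; trivial
      exact this
    have := Cfsg.Agent.S4304.card_sylow_subgroup 3 _ hψ
    exact IH _ hne (by rw [this, h22])
  -- Step 3: Sylow 3-subgroups have order 3, and the final analysis
  have h3 : ∀ Q : Sylow 3 G, Nat.card (Q : Subgroup G) = 3 := fun Q => card_three h22 hfaith Q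
  have hcfg : Cfg G :=
    { h22 := h22
      faith := hfaith
      h3 := h3
      even := by
        intro g hg
        have := card_fixedBy_mod_four_of_sign (α := Sylow 3 G) g hg (heven g)
        rw [h22] at this
        unfold Nat.ModEq at this
        omega }
  exact hcfg.endgame

end

/-- No finite group has exactly 22 Sylow 3-subgroups. -/
theorem result {G : Type*} [Group G] [Finite G] : Nat.card (Sylow 3 G) ≠ 22 :=
  main_aux _ G rfl

end Cfsg.Agent.S4346
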