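import Cfsg.Statements.S4347
import Mathlib

set_option autoImplicit false
open Cfsg

namespace Cfsg.Agent.S4347

open scoped Pointwise in
/-- Let G be a finite group and p a prime. Say a Sylow p-subgroup Q is redundant when every element of p-power order lies in some Sylow p-subgroup other than Q. Then G has no redundant Sylow p-subgroup if and only if some element of p-power order lies in exactly one Sylow p-subgroup. -/
theorem result {G : Type*} [Group G] [Finite G]
    (p : ℕ) [Fact p.Prime] :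
    (¬ ∃ Q : Sylow p G, ∀ x : G, (∃ k : ℕ, orderOf x = p ^ k) → ∃ P : Sylow p G, P ≠ Q ∧ x ∈ P) ↔
      ∃ x : G, (∃ k : ℕ, orderOf x = p ^ k) ∧ ∃! P : Sylow p G, x ∈ P := by
  constructor
  · intro h
    push Not at h
    obtain ⟨Q⟩ := (inferInstance : Nonempty (Sylow p G))
    obtain ⟨x, hx, hxQ⟩ := h Q
    refine ⟨x, hx, ?_⟩
    -- x lies in some Sylow
    have hpg : IsPGroup p (Subgroup.zpowers x) := by
      obtain ⟨k, hk⟩ := hx
      rw [IsPGroup.iff_card, Nat.card_zpowers]
      exact ⟨k, hk⟩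
    obtain ⟨R, hR⟩ := hpg.exists_le_sylow
    have hxR : x ∈ R := hR (Subgroup.mem_zpowers x)
    have hRQ : R = Q := by
      by_contra hne
      exact hxQ R hne hxR
    refine ⟨Q, hRQ ▸ hxR, ?_⟩
    intro P hP
    by_contra hne
    exact hxQ P hne hP
  · rintro ⟨x, hx, P0, hxP0, huniq⟩ ⟨Q, hQ⟩
    obtain ⟨g, hg⟩ := MulAction.exists_smul_eq G P0 Q
    -- g • P0 = Q
    have hord : ∃ k : ℕ, orderOf (g * x * g⁻¹) = p ^ k := by
      obtain ⟨k, hk⟩ := hx
      refine ⟨k, ?_⟩
      rw [← hk]
      have : SemiconjBy g x (g * x * g⁻¹) := by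
        unfold SemiconjBy; group
      exact (this.orderOf_eq).symm
    obtain ⟨P, hPQ, hxP⟩ := hQ (g * x * g⁻¹) hord
    -- then x ∈ g⁻¹ • P
    have h1 : x ∈ (g⁻¹ • P : Sylow p G) := by
      have : x ∈ MulAut.conj g⁻¹ • (P : Subgroup G) := by
        rw [Subgroup.mem_pointwise_smul_iff_inv_smul_mem]
        simp only [MulAut.smul_def, map_inv, inv_inv, MulAut.conj_apply]
        exact hxP
      exact this
    have h2 : g⁻¹ • P = P0 := huniq _ h1
    apply hPQ
    rw [← hg, ← h2, smul_smul, mul_inv_cancel, one_smul]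

end Cfsg.Agent.S4347
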