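import Cfsg.Statements.S4348
import Mathlib

set_option autoImplicit false
open Cfsg

namespace Cfsg.Agent.S4348

theorem pCore_le_sylow {G : Type*} [Group G] (p : ℕ) [Fact p.Prime] (Q : Sylow p G) :
    Cfsg.pCore p G ≤ (Q : Subgroup G) := by
  unfold Cfsg.pCore
  apply sSup_le
  rintro N ⟨hN, hNp⟩
  exact hNp.le_sylow_of_normal Q

/-- Let G be a finite group, p a prime and P a Sylow p-subgroup of G, and let O_p(G) be the largest normal p-subgroup of G. If P/O_p(G) is cyclic, then some element of p-power order of G lies in exactly one Sylow p-subgroup. -/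
theorem result {G : Type*} [Group G] [Finite G]
    (p : ℕ) [Fact p.Prime] (P : Sylow p G)
    [hn : ((Cfsg.pCore p G).subgroupOf (P : Subgroup G)).Normal]
    (hc : IsCyclic ((P : Subgroup G) ⧸ (Cfsg.pCore p G).subgroupOf (P : Subgroup G))) :
    ∃ x : G, (∃ k : ℕ, orderOf x = p ^ k) ∧ ∃! Q : Sylow p G, x ∈ Q := by
  obtain ⟨g, hg⟩ := hc.exists_generator
  obtain ⟨x', rfl⟩ := QuotientGroup.mk_surjective g
  refine ⟨(x' : G), ?_, P, x'.2, ?_⟩
  · obtain ⟨k, hk⟩ := (IsPGroup.iff_orderOf.mp P.isPGroup') x'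
    exact ⟨k, by rw [← hk, Subgroup.orderOf_coe]⟩
  · intro Q hxQ
    have hPQ : (P : Subgroup G) ≤ Q := by
      intro y hy
      obtain ⟨n, hn'⟩ := Subgroup.mem_zpowers_iff.mp (hg (QuotientGroup.mk ⟨y, hy⟩))
      rw [← QuotientGroup.mk_zpow, QuotientGroup.eq] at hn'
      -- (x'^n)⁻¹ * y ∈ O.subgroupOf P
      have h1 : ((x' ^ n)⁻¹ * ⟨y, hy⟩ : (P : Subgroup G)) ∈ (Cfsg.pCore p G).subgroupOf (P : Subgroup G) := hn'
      rw [Subgroup.mem_subgroupOf] at h1
      have h2 : (((x' ^ n)⁻¹ * ⟨y, hy⟩ : (P : Subgroup G)) : G) ∈ (Q : Subgroup G) :=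
        pCore_le_sylow p Q h1
      have h3 : ((x' ^ n : (P : Subgroup G)) : G) ∈ (Q : Subgroup G) := by
        rw [Subgroup.coe_zpow]
        exact Subgroup.zpow_mem _ hxQ n
      have h4 := Subgroup.mul_mem _ h3 h2
      simpa using h4
    exact (Sylow.ext (P.is_maximal' Q.isPGroup' hPQ))

end Cfsg.Agent.S4348
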