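import Cfsg.Statements.S4349
import Mathlib
import Cfsg.Agent.Lib.Helper95.Syl2.Unique
import Cfsg.Agent.Lib.Helper95.Syl2.Fwd2

set_option autoImplicit false
open Cfsg

namespace Cfsg.Agent.S4349

open Cfsg.Agent.Helper95.Syl2

/-- Let n ≥ 2 and let x be an element of 2-power order of the symmetric group of degree n. Then x lies in exactly one Sylow 2-subgroup if and only if x has at most two fixed points and the nontrivial cycles of x have pairwise different lengths. -/
theorem result (n : ℕ) (hn : 2 ≤ n)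
    (x : Equiv.Perm (Fin n)) (hx : ∃ k : ℕ, orderOf x = 2 ^ k) :
    (∃! P : Sylow 2 (Equiv.Perm (Fin n)), x ∈ P) ↔ (n ≤ x.support.card + 2 ∧ x.cycleType.Nodup) := by
  obtain ⟨a, hord⟩ := hx
  constructor
  · rintro ⟨P, hP, huniq⟩
    have huniq' : ∀ Q : Sylow 2 (Equiv.Perm (Fin n)), x ∈ Q → Q = P := fun Q hQ => huniq Q hQ
    refine ⟨?_, nodup_of_unique x hord P huniq'⟩
    have := fixed_le_two x hord P huniq'
    rwa [Fintype.card_fin] at this
  · rintro ⟨hfix, hnd⟩
    exact unique_sylow x hord hnd (by rw [Fintype.card_fin]; exact hfix)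

end Cfsg.Agent.S4349
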