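import Cfsg.Statements.S4354

set_option autoImplicit false
open Cfsg

namespace Cfsg.Agent.S4354

section aux

variable {G : Type*} [Group G] [Finite G] {p : ℕ} [Fact p.Prime]

/-- If `p ∤ [G : C]` then some conjugate of the Sylow subgroup `P` lies in `C`. -/
theorem exists_conj_le (P : Sylow p G) (C : Subgroup G) (hC : ¬ p ∣ C.index) :
    ∃ g : G, ∀ w ∈ (P : Subgroup G), g⁻¹ * w * g ∈ C := by
  have hP : IsPGroup p (P : Subgroup G) := P.isPGroup'
  have hcard : ¬ p ∣ Nat.card (G ⧸ C) := by rwa [← Subgroup.index_eq_card]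
  obtain ⟨q, hq⟩ := hP.nonempty_fixed_point_of_prime_not_dvd_card (G ⧸ C) hcard
  induction q using QuotientGroup.induction_on with
  | H g =>
    refine ⟨g, fun w hw => ?_⟩
    have h1 := hq ⟨w, hw⟩
    have h2 : ((w * g : G) : G ⧸ C) = (g : G ⧸ C) := h1
    have h3 := QuotientGroup.eq.mp h2
    have h4 := C.inv_mem h3
    simpa [mul_assoc] using h4

/-- A `p`-element centralizing a Sylow `p`-subgroup lies in it. -/
theorem mem_sylow_of_commute (P : Sylow p G) (z : G) (hz : ∃ k : ℕ, orderOf z = p ^ k)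
    (hc : ∀ w ∈ (P : Subgroup G), w * z = z * w) : z ∈ (P : Subgroup G) := by
  have hZ : IsPGroup p (Subgroup.zpowers z) := by
    obtain ⟨k, hk⟩ := hz
    apply IsPGroup.of_card (n := k)
    rw [Nat.card_zpowers, hk]
  have hle : Subgroup.zpowers z ≤ Subgroup.normalizer ((P : Subgroup G) : Set G) := by
    rw [Subgroup.zpowers_le]
    rw [Subgroup.mem_normalizer_iff]
    intro h
    constructor
    · intro hh
      have := hc h hh
      have e : z * h * z⁻¹ = h := by rw [← this, mul_inv_cancel_right]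
      rw [e]; exact hh
    · intro hh
      have := hc _ hh
      -- z * h * z⁻¹ * z = z * (z * h * z⁻¹)
      have e : h = z * h * z⁻¹ := by
        have h5 : z * h * z⁻¹ * z = z * (z * h * z⁻¹) := this
        have h6 : z * h = z * (z * h * z⁻¹) := by simpa [mul_assoc] using h5
        exact mul_left_cancel h6
      rw [e]; exact hh
  have hsup : IsPGroup p (Subgroup.zpowers z ⊔ (P : Subgroup G) : Subgroup G) :=
    IsPGroup.to_sup_of_normal_right' hZ P.isPGroup' hle
  have := P.is_maximal' hsup le_sup_right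
  have hz' : z ∈ Subgroup.zpowers z ⊔ (P : Subgroup G) :=
    Subgroup.mem_sup_left (Subgroup.mem_zpowers z)
  rw [this] at hz'
  exact hz'

/-- Two Sylow subgroups contained in a subgroup `K` are conjugate by an element of `K`. -/
theorem exists_mem_normalizer (P : Sylow p G) (K : Subgroup G) (g : G)
    (h1 : (P : Subgroup G) ≤ K) (h2 : ∀ w ∈ (P : Subgroup G), g * w * g⁻¹ ∈ K) :
    ∃ c ∈ K, c * g ∈ Subgroup.normalizer ((P : Subgroup G) : Set G) := by
  have h2' : ((g • P : Sylow p G) : Subgroup G) ≤ K := by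
    intro y hy
    rw [Sylow.coe_subgroup_smul, Subgroup.mem_pointwise_smul_iff_inv_smul_mem] at hy
    have := h2 _ hy
    simpa [MulAut.smul_def, mul_assoc] using this
  obtain ⟨h, hh⟩ := MulAction.exists_smul_eq K ((g • P).subtype h2') (P.subtype h1)
  simp_rw [Sylow.smul_subtype, Subgroup.smul_def, smul_smul] at hh
  exact ⟨h, h.2, Sylow.smul_eq_iff_mem_normalizer.mp (Sylow.subtype_injective hh)⟩


/-- For `N` normal, `[N : N ∩ C]` divides `[G : C]`. -/
theorem relIndex_dvd_index_of_normal_right (C N : Subgroup G) [N.Normal] :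
    C.relIndex N ∣ C.index := by
  have h1 : (C ⊓ N).relIndex C * C.index = (C ⊓ N).index := Subgroup.relIndex_mul_index inf_le_left
  have h2 : (C ⊓ N).relIndex N * N.index = (C ⊓ N).index := Subgroup.relIndex_mul_index inf_le_right
  have h3 : N.relIndex (C ⊔ N) * (C ⊔ N).index = N.index := Subgroup.relIndex_mul_index le_sup_right
  have h4 : N.relIndex (C ⊔ N) = N.relIndex C := Subgroup.relIndex_sup_right C N
  have h5 : (C ⊓ N).relIndex C = N.relIndex C := Subgroup.inf_relIndex_left C N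
  have h6 : (C ⊓ N).relIndex N = C.relIndex N := Subgroup.inf_relIndex_right C N
  rw [h5] at h1
  rw [h6] at h2
  rw [h4] at h3
  have hne : N.relIndex C ≠ 0 := by
    unfold Subgroup.relIndex
    exact Subgroup.index_ne_zero_of_finite
  have : N.relIndex C * C.index = N.relIndex C * (C.relIndex N * (C ⊔ N).index) := by
    rw [h1, ← h2, ← h3]; ring
  have := Nat.eq_of_mul_eq_mul_left (Nat.pos_of_ne_zero hne) this
  exact ⟨_, this⟩

/-- elements of a `p`-group have `p`-power order -/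
theorem orderOf_eq_pow_of_mem {H : Subgroup G} (hH : IsPGroup p H) {x : G} (hx : x ∈ H) :
    ∃ k : ℕ, orderOf x = p ^ k := by
  obtain ⟨k, hk⟩ := hH ⟨x, hx⟩
  have h1 : x ^ (p ^ k) = 1 := by
    have := congrArg Subtype.val hk
    simpa using this
  have h2 : orderOf x ∣ p ^ k := orderOf_dvd_of_pow_eq_one h1
  obtain ⟨j, _, hj⟩ := (Nat.dvd_prime_pow (Fact.out : p.Prime)).mp h2
  exact ⟨j, hj⟩

end aux

/-- Let G be a finite group and p a prime such that the Sylow p-subgroups of G are non-abelian while every element of p-power order has conjugacy class size prime to p, and suppose no nontrivial proper normal subgroup N of G has this property and no quotient G/N by such an N has it. Then G is simple. -/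
theorem result {G : Type*} [Group G] [Finite G]
    (p : ℕ) [Fact p.Prime] (h : ((∃ P : Sylow p G, ¬ IsMulCommutative P) ∧ ∀ x : G, (∃ k : ℕ, orderOf x = p ^ k) → ¬ p ∣ (Subgroup.centralizer ({x} : Set G)).index))
    (hmin : ∀ (N : Subgroup G) [N.Normal], N ≠ ⊥ → N ≠ ⊤ →
      ¬ ((∃ P : Sylow p N, ¬ IsMulCommutative P) ∧ ∀ x : N, (∃ k : ℕ, orderOf x = p ^ k) → ¬ p ∣ (Subgroup.centralizer ({x} : Set N)).index) ∧
      ¬ ((∃ P : Sylow p (G ⧸ N), ¬ IsMulCommutative P) ∧ ∀ x : (G ⧸ N), (∃ k : ℕ, orderOf x = p ^ k) → ¬ p ∣ (Subgroup.centralizer ({x} : Set (G ⧸ N))).index)) :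
    IsSimpleGroup G := by
  obtain ⟨⟨P₀, hP₀⟩, hcl⟩ := h
  have : Nontrivial G := by
    by_contra hnt
    rw [not_nontrivial_iff_subsingleton] at hnt
    apply hP₀
    exact ⟨⟨fun a b => Subsingleton.elim _ _⟩⟩
  refine @IsSimpleGroup.mk G _ inferInstance ?_
  intro N hN
  by_contra hne
  push Not at hne
  obtain ⟨hbot, htop⟩ := hne
  have := hN
  obtain ⟨hN1, hN2⟩ := hmin N hbot htop
  -- Sylow subgroups of `N` are commutative
  have hA : ∀ Q : Sylow p N, IsMulCommutative Q := by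
    intro Q
    by_contra hQ
    apply hN1
    refine ⟨⟨Q, hQ⟩, ?_⟩
    intro x hx hdvd
    have hxG : ∃ k : ℕ, orderOf (x : G) = p ^ k := by
      obtain ⟨k, hk⟩ := hx
      exact ⟨k, by rw [Subgroup.orderOf_coe, hk]⟩
    apply hcl (x : G) hxG
    have e : Subgroup.centralizer ({x} : Set N) =
        (Subgroup.centralizer ({(x : G)} : Set G)).subgroupOf N := by
      ext y
      simp only [Subgroup.mem_centralizer_singleton_iff, Subgroup.mem_subgroupOf]
      constructor
      · intro hy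
        have := congrArg Subtype.val hy
        simpa using this
      · intro hy
        apply Subtype.ext
        simpa using hy
    rw [e] at hdvd
    exact dvd_trans hdvd (relIndex_dvd_index_of_normal_right _ N)
  -- Sylow subgroups of `G ⧸ N` are commutative
  have hB : ∀ Q : Sylow p (G ⧸ N), IsMulCommutative Q := by
    intro Q
    by_contra hQ
    apply hN2
    refine ⟨⟨Q, hQ⟩, ?_⟩
    intro xb hxb hdvd
    -- lift `xb` to a `p`-element
    have hZ : IsPGroup p (Subgroup.zpowers xb) := by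
      obtain ⟨k, hk⟩ := hxb
      apply IsPGroup.of_card (n := k)
      rw [Nat.card_zpowers, hk]
    obtain ⟨Q₁, hQ₁⟩ := hZ.exists_le_sylow
    obtain ⟨R, hR⟩ := Sylow.mapSurjective_surjective (QuotientGroup.mk'_surjective N) p Q₁
    have hxQ : xb ∈ (Q₁ : Subgroup (G ⧸ N)) := hQ₁ (Subgroup.mem_zpowers xb)
    rw [← hR, Sylow.coe_mapSurjective] at hxQ
    obtain ⟨x, hxR, rfl⟩ := Subgroup.mem_map.mp hxQ
    have hxp := orderOf_eq_pow_of_mem R.isPGroup' hxR
    apply hcl x hxp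
    have hle : (Subgroup.centralizer ({x} : Set G)).map (QuotientGroup.mk' N) ≤
        Subgroup.centralizer ({QuotientGroup.mk' N x} : Set (G ⧸ N)) := by
      rintro _ ⟨y, hy, rfl⟩
      rw [Subgroup.mem_centralizer_singleton_iff]
      have := Subgroup.mem_centralizer_singleton_iff.mp hy
      rw [← map_mul, ← map_mul, this]
    exact dvd_trans hdvd (dvd_trans (Subgroup.index_dvd_of_le hle)
      (Subgroup.index_map_dvd _ (QuotientGroup.mk'_surjective N)))
  apply hP₀
  have hPN : ∀ a ∈ (P₀ : Subgroup G), ∀ b ∈ (P₀ : Subgroup G), a ∈ N → b ∈ N →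
      a * b = b * a := by
    have hp : IsPGroup p (((P₀ : Subgroup G) ⊓ N).subgroupOf N) :=
      (P₀.isPGroup'.to_le inf_le_left).comap_subtype
    obtain ⟨Q, hQ⟩ := hp.exists_le_sylow
    have hQc := hA Q
    intro a ha b hb haN hbN
    have ha' : (⟨a, haN⟩ : N) ∈ (Q : Subgroup N) :=
      hQ (by simp [Subgroup.mem_subgroupOf, ha])
    have hb' : (⟨b, hbN⟩ : N) ∈ (Q : Subgroup N) :=
      hQ (by simp [Subgroup.mem_subgroupOf, hb])
    have := hQc.is_comm.comm ⟨⟨a, haN⟩, ha'⟩ ⟨⟨b, hbN⟩, hb'⟩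
    have := congrArg (fun t : Q => ((t : N) : G)) this
    simpa using this
  have hPq : ∀ a ∈ (P₀ : Subgroup G), ∀ b ∈ (P₀ : Subgroup G),
      (QuotientGroup.mk' N a) * (QuotientGroup.mk' N b) =
        (QuotientGroup.mk' N b) * (QuotientGroup.mk' N a) := by
    have hp : IsPGroup p ((P₀ : Subgroup G).map (QuotientGroup.mk' N)) := P₀.isPGroup'.map _
    obtain ⟨Q, hQ⟩ := hp.exists_le_sylow
    have hQc := hB Q
    intro a ha b hb
    have ha' : QuotientGroup.mk' N a ∈ (Q : Subgroup (G ⧸ N)) :=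
      hQ (Subgroup.mem_map_of_mem _ ha)
    have hb' : QuotientGroup.mk' N b ∈ (Q : Subgroup (G ⧸ N)) :=
      hQ (Subgroup.mem_map_of_mem _ hb)
    have := hQc.is_comm.comm ⟨_, ha'⟩ ⟨_, hb'⟩
    exact congrArg Subtype.val this
  -- key decomposition
  have key : ∀ x ∈ (P₀ : Subgroup G), ∃ z a : G, z ∈ (P₀ : Subgroup G) ∧
      (∀ w ∈ (P₀ : Subgroup G), w * z = z * w) ∧ a ∈ (P₀ : Subgroup G) ∧ a ∈ N ∧ x = z * a := by
    intro x hx
    have hxp : ∃ k : ℕ, orderOf x = p ^ k := orderOf_eq_pow_of_mem P₀.isPGroup' hx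
    obtain ⟨g, hg⟩ := exists_conj_le P₀ _ (hcl x hxp)
    have hzc : ∀ w ∈ (P₀ : Subgroup G), w * (g * x * g⁻¹) = (g * x * g⁻¹) * w := by
      intro w hw
      have h1 := Subgroup.mem_centralizer_singleton_iff.mp (hg w hw)
      -- h1 : x * (g⁻¹ * w * g) = g⁻¹ * w * g * x
      have h2 : g * (g⁻¹ * w * g * x) * g⁻¹ = g * (x * (g⁻¹ * w * g)) * g⁻¹ := by rw [h1]
      have h3 : w * (g * x * g⁻¹) = g * (g⁻¹ * w * g * x) * g⁻¹ := by group
      have h4 : g * (x * (g⁻¹ * w * g)) * g⁻¹ = (g * x * g⁻¹) * w := by group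
      rw [h3, h2, h4]
    have hzp : ∃ k, orderOf (g * x * g⁻¹) = p ^ k := by
      obtain ⟨k, hk⟩ := hxp
      exact ⟨k, by rw [← MulAut.conj_apply, (MulAut.conj g).orderOf_eq x, hk]⟩
    have hzP := mem_sylow_of_commute P₀ (g * x * g⁻¹) hzp hzc
    -- the preimage `K` of the centralizer of `zN`
    have hPK : (P₀ : Subgroup G) ≤ (Subgroup.centralizer
        ({QuotientGroup.mk' N (g * x * g⁻¹)} : Set (G ⧸ N))).comap (QuotientGroup.mk' N) := by
      intro w hw
      rw [Subgroup.mem_comap, Subgroup.mem_centralizer_singleton_iff]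
      rw [← map_mul, ← map_mul, hzc w hw]
    have hgK : ∀ w ∈ (P₀ : Subgroup G), g * w * g⁻¹ ∈ (Subgroup.centralizer
        ({QuotientGroup.mk' N (g * x * g⁻¹)} : Set (G ⧸ N))).comap (QuotientGroup.mk' N) := by
      intro w hw
      rw [Subgroup.mem_comap, Subgroup.mem_centralizer_singleton_iff]
      have h1 := hPq x hx w hw
      simp only [map_mul, map_inv] at h1 ⊢
      generalize (QuotientGroup.mk' N) g = mg at *
      generalize (QuotientGroup.mk' N) x = mx at *
      generalize (QuotientGroup.mk' N) w = mw at *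
      symm
      calc mg * mx * mg⁻¹ * (mg * mw * mg⁻¹) = mg * (mx * mw) * mg⁻¹ := by group
        _ = mg * (mw * mx) * mg⁻¹ := by rw [h1]
        _ = mg * mw * mg⁻¹ * (mg * mx * mg⁻¹) := by group
    obtain ⟨c, hcK, hn⟩ := exists_mem_normalizer P₀ _ g hPK hgK
    have hnx : (c * g) * x * (c * g)⁻¹ ∈ (P₀ : Subgroup G) :=
      (Subgroup.mem_normalizer_iff.mp hn x).mp hx
    have e1 : (c * g) * x * (c * g)⁻¹ = c * (g * x * g⁻¹) * c⁻¹ := by group
    have ha0N : (g * x * g⁻¹)⁻¹ * (c * (g * x * g⁻¹) * c⁻¹) ∈ N := by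
      have h1 := Subgroup.mem_centralizer_singleton_iff.mp (Subgroup.mem_comap.mp hcK)
      rw [← QuotientGroup.eq_one_iff]
      have h2 : (((g * x * g⁻¹)⁻¹ * (c * (g * x * g⁻¹) * c⁻¹) : G) : G ⧸ N) =
          (QuotientGroup.mk' N (g * x * g⁻¹))⁻¹ * ((QuotientGroup.mk' N c) *
            (QuotientGroup.mk' N (g * x * g⁻¹)) * (QuotientGroup.mk' N c)⁻¹) := by
        simp only [QuotientGroup.mk'_apply, QuotientGroup.mk_mul, QuotientGroup.mk_inv]
      rw [h2]
      generalize (QuotientGroup.mk' N) (g * x * g⁻¹) = mz at *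
      generalize (QuotientGroup.mk' N) c = mc at *
      -- h1 : mz * mc = mc * mz
      calc mz⁻¹ * (mc * mz * mc⁻¹) = mz⁻¹ * (mz * mc) * mc⁻¹ := by rw [h1]; group
        _ = 1 := by group
    have ha0P : (g * x * g⁻¹)⁻¹ * (c * (g * x * g⁻¹) * c⁻¹) ∈ (P₀ : Subgroup G) := by
      rw [← e1]
      exact Subgroup.mul_mem _ (Subgroup.inv_mem _ hzP) hnx
    have hninv : (c * g)⁻¹ ∈ Subgroup.normalizer ((P₀ : Subgroup G) : Set G) :=
      Subgroup.inv_mem _ hn
    have hconj : ∀ y ∈ (P₀ : Subgroup G), (c * g)⁻¹ * y * (c * g) ∈ (P₀ : Subgroup G) := by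
      intro y hy
      have := (Subgroup.mem_normalizer_iff.mp hninv y).mp hy
      simpa using this
    refine ⟨(c * g)⁻¹ * (g * x * g⁻¹) * (c * g),
      (c * g)⁻¹ * ((g * x * g⁻¹)⁻¹ * (c * (g * x * g⁻¹) * c⁻¹)) * (c * g), ?_, ?_, ?_, ?_, ?_⟩
    · exact hconj _ hzP
    · intro w hw
      have hw' : (c * g) * w * (c * g)⁻¹ ∈ (P₀ : Subgroup G) :=
        (Subgroup.mem_normalizer_iff.mp hn w).mp hw
      have h1 := hzc _ hw'
      -- h1 : (c*g) * w * (c*g)⁻¹ * z = z * ((c*g) * w * (c*g)⁻¹)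
      generalize g * x * g⁻¹ = z at *
      generalize c * g = n at *
      calc w * (n⁻¹ * z * n) = n⁻¹ * (n * w * n⁻¹ * z) * n := by group
        _ = n⁻¹ * (z * (n * w * n⁻¹)) * n := by rw [h1]
        _ = n⁻¹ * z * n * w := by group
    · exact hconj _ ha0P
    · have := hN.conj_mem _ ha0N (c * g)⁻¹
      simpa using this
    · have : x = (c * g)⁻¹ * ((c * g) * x * (c * g)⁻¹) * (c * g) := by group
      rw [this, e1]
      group
  -- commutativity of `P₀`
  refine ⟨⟨fun u v => ?_⟩⟩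
  obtain ⟨z₁, a₁, hz₁, hc₁, ha₁, ha₁N, e₁⟩ := key u u.2
  obtain ⟨z₂, a₂, hz₂, hc₂, ha₂, ha₂N, e₂⟩ := key v v.2
  apply Subtype.ext
  have h1 : a₁ * z₂ = z₂ * a₁ := hc₂ a₁ ha₁
  have h2 : z₁ * z₂ = z₂ * z₁ := hc₂ z₁ hz₁
  have h3 : a₁ * a₂ = a₂ * a₁ := hPN a₁ ha₁ a₂ ha₂ ha₁N ha₂N
  have h4 : a₂ * z₁ = z₁ * a₂ := hc₁ a₂ ha₂
  show (u : G) * (v : G) = (v : G) * (u : G)
  rw [e₁, e₂]
  calc z₁ * a₁ * (z₂ * a₂) = z₁ * (a₁ * z₂) * a₂ := by group
    _ = z₁ * (z₂ * a₁) * a₂ := by rw [h1]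
    _ = (z₁ * z₂) * (a₁ * a₂) := by group
    _ = (z₂ * z₁) * (a₂ * a₁) := by rw [h2, h3]
    _ = z₂ * (z₁ * a₂) * a₁ := by group
    _ = z₂ * (a₂ * z₁) * a₁ := by rw [h4]
    _ = z₂ * a₂ * (z₁ * a₁) := by group

end Cfsg.Agent.S4354
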