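import Cfsg.Statements.S4370
import Cfsg.Agent.Lib.Helper55.QuatCentralizer
import Cfsg.Agent.S0016

set_option autoImplicit false
open Cfsg

namespace Cfsg.Agent.S4370

open Cfsg.Agent.Helper55.QuatCent

theorem backward {G : Type*} [Group G] (k m : ℕ) (hm : Odd m)
    (e : G ≃* QuaternionGroup (2 ^ k) × Multiplicative (ZMod m)) (x : G)
    (hx : x ∉ Subgroup.center G) :
    IsCyclic (Subgroup.centralizer ({x} : Set G)) := by
  have : NeZero (2 ^ k) := ⟨pow_ne_zero _ two_ne_zero⟩
  have : NeZero m := ⟨hm.pos.ne'⟩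
  have hqc : (e x).1 ∉ Subgroup.center (QuaternionGroup (2 ^ k)) := by
    intro hc
    apply hx
    rw [Subgroup.mem_center_iff]
    intro y
    apply e.injective
    rw [map_mul, map_mul]
    refine Prod.ext ?_ ?_
    · exact Subgroup.mem_center_iff.mp hc (e y).1
    · exact mul_comm _ _
  obtain ⟨g, hg⟩ := exists_zpowers_of_noncentral (e x).1 hqc
  let f1 : ↥(Subgroup.centralizer ({x} : Set G)) →* ↥(Subgroup.zpowers g) :=
    ((MonoidHom.fst _ _).comp
      (e.toMonoidHom.comp (Subgroup.centralizer ({x} : Set G)).subtype)).codRestrict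
      (Subgroup.zpowers g) (by
        intro y
        apply hg
        have h1 : (y : G) * x = x * (y : G) := Subgroup.mem_centralizer_singleton_iff.mp y.2
        have h2 := congrArg (fun t => (e t).1) h1
        simp only [map_mul, Prod.fst_mul] at h2
        exact h2)
  let f2 : ↥(Subgroup.centralizer ({x} : Set G)) →* Multiplicative (ZMod m) :=
    (MonoidHom.snd _ _).comp (e.toMonoidHom.comp (Subgroup.centralizer ({x} : Set G)).subtype)
  have hinj : Function.Injective (f1.prod f2) := by
    intro y y' h
    have h1 : (e y).1 = (e y').1 :=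
      congrArg (fun t : ↥(Subgroup.zpowers g) × Multiplicative (ZMod m) =>
        ((t.1 : ↥(Subgroup.zpowers g)) : QuaternionGroup (2 ^ k))) h
    have h2 : (e y).2 = (e y').2 :=
      congrArg (fun t : ↥(Subgroup.zpowers g) × Multiplicative (ZMod m) => t.2) h
    exact Subtype.ext (e.injective (Prod.ext h1 h2))
  have : IsCyclic (↥(Subgroup.zpowers g) × Multiplicative (ZMod m)) := by
    rw [Group.isCyclic_prod_iff]
    refine ⟨inferInstance, inferInstance, ?_⟩
    have h1 : Nat.card ↥(Subgroup.zpowers g) ∣ 2 ^ (k + 2) := by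
      have := Subgroup.card_subgroup_dvd_card (Subgroup.zpowers g)
      rw [Nat.card_eq_fintype_card (α := QuaternionGroup (2 ^ k)), QuaternionGroup.card] at this
      have e4 : 4 * 2 ^ k = 2 ^ (k + 2) := by ring
      rwa [e4] at this
    have h2 : Nat.card (Multiplicative (ZMod m)) = m := by
      rw [Nat.card_congr Multiplicative.toAdd, Nat.card_zmod]
    rw [h2]
    exact Nat.Coprime.coprime_dvd_left h1 (Nat.Coprime.pow_left _ (Nat.coprime_two_left.mpr hm))
  exact isCyclic_of_injective (f1.prod f2) hinj


section forward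

variable {G : Type*} [Group G] [Finite G]

/-- A subgroup containing a Sylow `q`-subgroup for every prime `q` is everything. -/
theorem eq_top_of_forall_sylow_le (H : Subgroup G)
    (h : ∀ (q : ℕ) [Fact q.Prime], ∃ Q : Sylow q G, (Q : Subgroup G) ≤ H) : H = ⊤ := by
  rw [← Subgroup.index_eq_one]
  by_contra hne
  obtain ⟨q, hq, hdvd⟩ := Nat.exists_prime_and_dvd hne
  haveI : Fact q.Prime := ⟨hq⟩
  obtain ⟨Q, hQ⟩ := h q
  exact Q.not_dvd_index (hdvd.trans (Subgroup.index_dvd_of_le hQ))

/-- In a nilpotent group, Sylow subgroups for different primes commute elementwise. -/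
theorem commute_of_sylow_ne [Group.IsNilpotent G] {p q : ℕ} [Fact p.Prime] [Fact q.Prime]
    (hpq : p ≠ q) (P : Sylow p G) (Q : Sylow q G) {x y : G} (hx : x ∈ (P : Subgroup G))
    (hy : y ∈ (Q : Subgroup G)) : Commute x y :=
  Subgroup.commute_of_normal_of_disjoint _ _ inferInstance inferInstance
    (IsPGroup.disjoint_of_ne p q hpq _ _ P.isPGroup' Q.isPGroup') x y hx hy

/-- An element of a Sylow subgroup `P` of a nilpotent group that commutes with `P` is central. -/
theorem mem_center_of_commute_sylow [Group.IsNilpotent G] {p : ℕ} [Fact p.Prime] (P : Sylow p G)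
    {z : G} (hz : z ∈ (P : Subgroup G)) (hcomm : ∀ y ∈ (P : Subgroup G), y * z = z * y) :
    z ∈ Subgroup.center G := by
  have htop : Subgroup.centralizer ({z} : Set G) = ⊤ := by
    apply eq_top_of_forall_sylow_le
    intro q _
    by_cases hqp : q = p
    · subst hqp
      exact ⟨P, fun y hy => Subgroup.mem_centralizer_singleton_iff.mpr (hcomm y hy)⟩
    · obtain ⟨Q⟩ : Nonempty (Sylow q G) := inferInstance
      refine ⟨Q, fun y hy => Subgroup.mem_centralizer_singleton_iff.mpr ?_⟩
      exact (commute_of_sylow_ne hqp Q P hy hz)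
  rw [Subgroup.mem_center_iff]
  intro g
  have hg : g ∈ Subgroup.centralizer ({z} : Set G) := htop ▸ Subgroup.mem_top g
  exact Subgroup.mem_centralizer_singleton_iff.mp hg

/-- In a finite cyclic group, an element killed by `p` lies in any subgroup of order `p`. -/
theorem mem_zpowers_of_isCyclic {C : Type*} [Group C] [Finite C] [IsCyclic C] {p : ℕ}
    (hp : 0 < p) (y z : C) (hz : orderOf z = p) (hy : y ^ p = 1) : y ∈ Subgroup.zpowers z := by
  classical
  haveI := Fintype.ofFinite C
  have h1 := IsCyclic.card_pow_eq_one_le (α := C) hp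
  have hsub : (Finset.univ.filter (fun a : C => a ∈ Subgroup.zpowers z)) ⊆
      (Finset.univ.filter (fun a : C => a ^ p = 1)) := by
    intro a ha
    rw [Finset.mem_filter] at ha ⊢
    refine ⟨Finset.mem_univ _, ?_⟩
    obtain ⟨k, rfl⟩ := Subgroup.mem_zpowers_iff.mp ha.2
    rw [← zpow_natCast, ← zpow_mul, mul_comm, zpow_mul, zpow_natCast, ← hz, pow_orderOf_eq_one,
      one_zpow]
  have hcard : (Finset.univ.filter (fun a : C => a ∈ Subgroup.zpowers z)).card = p := by
    rw [← Fintype.card_subtype, ← Nat.card_eq_fintype_card]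
    exact (Nat.card_zpowers z).trans hz
  have heq := Finset.eq_of_subset_of_card_le hsub (by rw [hcard]; exact h1)
  have hy' : y ∈ Finset.univ.filter (fun a : C => a ^ p = 1) := by
    rw [Finset.mem_filter]; exact ⟨Finset.mem_univ _, hy⟩
  rw [← heq, Finset.mem_filter] at hy'
  exact hy'.2

end forward


theorem forward {G : Type*} [Group G] [Finite G] (hG : Group.IsNilpotent G)
    (hna : ¬ IsMulCommutative G)
    (hcyc : ∀ x : G, x ∉ Subgroup.center G → IsCyclic (Subgroup.centralizer ({x} : Set G))) :
    ∃ (k m : ℕ), 1 ≤ k ∧ Odd m ∧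
      Nonempty (G ≃* QuaternionGroup (2 ^ k) × Multiplicative (ZMod m)) := by
  haveI := hG
  -- a noncentral element
  obtain ⟨x0, hx0⟩ : ∃ x0 : G, x0 ∉ Subgroup.center G := by
    by_contra hall
    push Not at hall
    exact hna ⟨⟨fun a b => (Subgroup.mem_center_iff.mp (hall b) a)⟩⟩
  haveI hcx0 := hcyc x0 hx0
  haveI hZ : IsCyclic ↥(Subgroup.center G) :=
    Subgroup.isCyclic_of_le (H' := Subgroup.centralizer ({x0} : Set G))
      (Subgroup.center_le_centralizer _)
  -- elements killed by `p` lie in the central subgroup of order `p`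
  have huniq : ∀ (p : ℕ) [Fact p.Prime] (y z : G), y ^ p = 1 → orderOf z = p →
      z ∈ Subgroup.center G → y ∈ Subgroup.zpowers z := by
    intro p _ y z hy hz hzc
    have key : ∀ (C : Subgroup G), IsCyclic ↥C → y ∈ C → z ∈ C → y ∈ Subgroup.zpowers z := by
      intro C hC hyC hzC
      haveI := hC
      have h1 := mem_zpowers_of_isCyclic (C := ↥C) (p := p) (Nat.Prime.pos Fact.out)
        ⟨y, hyC⟩ ⟨z, hzC⟩ (by rw [Subgroup.orderOf_mk]; exact hz)
        (by apply Subtype.ext; simpa using hy)
      obtain ⟨k, hk⟩ := Subgroup.mem_zpowers_iff.mp h1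
      rw [Subgroup.mem_zpowers_iff]
      refine ⟨k, ?_⟩
      have := congrArg Subtype.val hk
      simpa using this
    by_cases hyc : y ∈ Subgroup.center G
    · exact key _ hZ hyc hzc
    · refine key _ (hcyc y hyc) (Subgroup.mem_centralizer_singleton_iff.mpr rfl)
        (Subgroup.mem_centralizer_singleton_iff.mpr ?_)
      exact (Subgroup.mem_center_iff.mp hzc y).symm
  -- central elements of order `p`
  have hcentral : ∀ (p : ℕ) [Fact p.Prime], p ∣ Nat.card G →
      ∃ z : G, orderOf z = p ∧ z ∈ Subgroup.center G := by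
    intro p _ hdvd
    obtain ⟨P⟩ : Nonempty (Sylow p G) := inferInstance
    haveI : Nontrivial ↥(P : Subgroup G) :=
      (Subgroup.nontrivial_iff_ne_bot _).mpr (P.ne_bot_of_dvd_card hdvd)
    haveI : Nontrivial ↥(Subgroup.center ↥(P : Subgroup G)) := P.isPGroup'.center_nontrivial
    have hpc : p ∣ Nat.card ↥(Subgroup.center ↥(P : Subgroup G)) := by
      obtain ⟨k, hk⟩ := (P.isPGroup'.to_subgroup (Subgroup.center _)).exists_card_eq
      have hk0 : k ≠ 0 := by
        rintro rfl
        rw [pow_zero] at hk
        have := Finite.one_lt_card (α := ↥(Subgroup.center ↥(P : Subgroup G)))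
        omega
      rw [hk]
      exact dvd_pow_self p hk0
    obtain ⟨z', hz'⟩ := exists_prime_orderOf_dvd_card' p hpc
    refine ⟨((z' : ↥(P : Subgroup G)) : G), ?_, ?_⟩
    · rw [Subgroup.orderOf_coe, Subgroup.orderOf_coe]; exact hz'
    · apply mem_center_of_commute_sylow P (z' : ↥(P : Subgroup G)).2
      intro y hy
      have := Subgroup.mem_center_iff.mp z'.2 ⟨y, hy⟩
      exact congrArg Subtype.val this
  -- uniqueness of subgroups of order `p`
  have huniq' : ∀ (p : ℕ) [Fact p.Prime] (H K : Subgroup G), Nat.card H = p → Nat.card K = p →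
      H = K := by
    intro p _ H K hH hK
    have hdvd : p ∣ Nat.card G := hH ▸ Subgroup.card_subgroup_dvd_card H
    obtain ⟨z, hz, hzc⟩ := hcentral p hdvd
    have hone : ∀ (L : Subgroup G), Nat.card L = p → L = Subgroup.zpowers z := by
      intro L hL
      apply Subgroup.eq_of_le_of_card_ge
      · intro y hy
        apply huniq p y z _ hz hzc
        have := pow_card_eq_one' (G := ↥L) (x := ⟨y, hy⟩)
        rw [hL] at this
        have := congrArg Subtype.val this
        simpa using this
      · rw [Nat.card_zpowers, hz, hL]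
    rw [hone H hH, hone K hK]
  -- the structure of Sylow subgroups
  have hsyl : ∀ (p : ℕ) [Fact p.Prime] (P : Sylow p G),
      IsCyclic ↥(P : Subgroup G) ∨
        (p = 2 ∧ ∃ n : ℕ, Nonempty (↥(P : Subgroup G) ≃* QuaternionGroup (2 ^ n))) := by
    intro p _ P
    apply Cfsg.Agent.S0016.result p P.isPGroup'
    intro H K hH hK
    have h1 := huniq' p (H.map (P : Subgroup G).subtype) (K.map (P : Subgroup G).subtype)
      (by rw [Subgroup.card_map_of_injective (Subgroup.subtype_injective _)]; exact hH)
      (by rw [Subgroup.card_map_of_injective (Subgroup.subtype_injective _)]; exact hK)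
    exact Subgroup.map_injective (Subgroup.subtype_injective _) h1
  -- the Sylow 2-subgroup is not commutative
  obtain ⟨S⟩ : Nonempty (Sylow 2 G) := inferInstance
  haveI : Fact (Nat.Prime 2) := ⟨Nat.prime_two⟩
  have hSnc : ¬ (∀ y ∈ (S : Subgroup G), ∀ z ∈ (S : Subgroup G), y * z = z * y) := by
    intro hScomm
    apply hna
    have hallcomm : ∀ (q : ℕ) [Fact q.Prime] (Q : Sylow q G),
        ∀ y ∈ (Q : Subgroup G), ∀ z ∈ (Q : Subgroup G), y * z = z * y := by
      intro q _ Q y hy z hz
      by_cases hq2 : q = 2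
      · subst hq2
        haveI : Unique (Sylow 2 G) := Sylow.unique_of_normal S inferInstance
        have hQS : Q = S := Subsingleton.elim _ _
        subst hQS
        exact hScomm y hy z hz
      · rcases hsyl q Q with hc | ⟨h2, -⟩
        · haveI := hc
          have := mul_comm' (⟨y, hy⟩ : ↥(Q : Subgroup G)) ⟨z, hz⟩
          exact congrArg Subtype.val this
        · exact absurd h2 hq2
    have hcen : Subgroup.center G = ⊤ := by
      apply eq_top_of_forall_sylow_le
      intro q _
      obtain ⟨Q⟩ : Nonempty (Sylow q G) := inferInstance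
      refine ⟨Q, fun z hz => ?_⟩
      exact mem_center_of_commute_sylow Q hz (fun y hy => hallcomm q Q y hy z hz)
    refine ⟨⟨fun a b => ?_⟩⟩
    have hb : b ∈ Subgroup.center G := hcen ▸ Subgroup.mem_top b
    exact Subgroup.mem_center_iff.mp hb a
  -- hence it is generalized quaternion
  obtain ⟨n, hn, ⟨eS⟩⟩ : ∃ n : ℕ, 1 ≤ n ∧
      Nonempty (↥(S : Subgroup G) ≃* QuaternionGroup (2 ^ n)) := by
    have hnotcyc : ¬ IsCyclic ↥(S : Subgroup G) := by
      intro hc
      apply hSnc
      intro y hy z hz
      haveI := hc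
      have := mul_comm' (⟨y, hy⟩ : ↥(S : Subgroup G)) ⟨z, hz⟩
      exact congrArg Subtype.val this
    rcases hsyl 2 S with hc | ⟨-, n, ⟨eS⟩⟩
    · exact absurd hc hnotcyc
    · refine ⟨n, ?_, ⟨eS⟩⟩
      by_contra hn0
      have hn0' : n = 0 := by omega
      subst hn0'
      apply hnotcyc
      rw [pow_zero] at eS
      exact (MulEquiv.isCyclic eS).mpr QuaternionGroup.quaternionGroup_one_isCyclic
  -- a complement of the Sylow 2-subgroup
  obtain ⟨T, hT⟩ := Subgroup.exists_right_complement'_of_coprime (N := (S : Subgroup G))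
    S.card_coprime_index
  have hTcard : Nat.card ↥T = (S : Subgroup G).index := by
    have h1 := hT.card_mul_card
    have h2 := (S : Subgroup G).card_mul_index
    exact Nat.eq_of_mul_eq_mul_left Nat.card_pos (h1.trans h2.symm)
  have hTodd : Odd (Nat.card ↥T) := by
    rw [hTcard, ← Nat.not_even_iff_odd, even_iff_two_dvd]
    exact S.not_dvd_index
  -- `T` centralizes `S`
  have hSC : (S : Subgroup G) ⊔ Subgroup.centralizer ((S : Subgroup G) : Set G) = ⊤ := by
    apply eq_top_of_forall_sylow_le
    intro q _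
    by_cases hq2 : q = 2
    · subst hq2
      exact ⟨S, le_sup_left⟩
    · obtain ⟨Q⟩ : Nonempty (Sylow q G) := inferInstance
      refine ⟨Q, le_trans (fun y hy => ?_) le_sup_right⟩
      rw [Subgroup.mem_centralizer_iff]
      intro s hs
      exact (commute_of_sylow_ne hq2 Q S hy hs).symm
  have hidx : (Subgroup.centralizer ((S : Subgroup G) : Set G)).index ∣ Nat.card ↥(S : Subgroup G) := by
    have h1 : (Subgroup.centralizer ((S : Subgroup G) : Set G)).relIndex
        ((S : Subgroup G) ⊔ Subgroup.centralizer ((S : Subgroup G) : Set G)) =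
        (Subgroup.centralizer ((S : Subgroup G) : Set G)).relIndex (S : Subgroup G) :=
      Subgroup.relIndex_sup_right _ _
    rw [hSC, Subgroup.relIndex_top_right] at h1
    rw [h1]
    exact Subgroup.relIndex_dvd_card _ _
  have hTC : T ≤ Subgroup.centralizer ((S : Subgroup G) : Set G) := by
    intro t ht
    have h1 : t ^ (Subgroup.centralizer ((S : Subgroup G) : Set G)).index ∈
        Subgroup.centralizer ((S : Subgroup G) : Set G) := Subgroup.pow_index_mem _ t
    have hcop : Nat.Coprime (Subgroup.centralizer ((S : Subgroup G) : Set G)).index (orderOf t) := by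
      have ho : orderOf t ∣ Nat.card ↥T := by
        have := orderOf_dvd_natCard (⟨t, ht⟩ : ↥T)
        rwa [Subgroup.orderOf_mk] at this
      obtain ⟨a, ha⟩ := S.isPGroup'.exists_card_eq
      have h2 : Nat.Coprime (Nat.card ↥(S : Subgroup G)) (Nat.card ↥T) := by
        rw [ha]
        exact Nat.Coprime.pow_left _ (Nat.coprime_two_left.mpr hTodd)
      exact Nat.Coprime.coprime_dvd_left hidx (Nat.Coprime.coprime_dvd_right ho h2)
    obtain ⟨m, hm⟩ := exists_pow_eq_self_of_coprime hcop
    rw [← hm]
    exact Subgroup.pow_mem _ h1 m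
  -- `T` is cyclic
  obtain ⟨s0, hs0, hs0c⟩ : ∃ s0 ∈ (S : Subgroup G), s0 ∉ Subgroup.center G := by
    by_contra hall
    push Not at hall
    apply hSnc
    intro y hy z hz
    exact Subgroup.mem_center_iff.mp (hall z hz) y
  haveI hTcyc : IsCyclic ↥T := by
    haveI := hcyc s0 hs0c
    apply Subgroup.isCyclic_of_le (H' := Subgroup.centralizer ({s0} : Set G))
    refine hTC.trans (Subgroup.centralizer_le ?_)
    intro s hs
    rw [Set.mem_singleton_iff] at hs
    rw [hs]; exact hs0
  -- the isomorphism
  have hcomm : ∀ (s : ↥(S : Subgroup G)) (t : ↥T),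
      Commute ((S : Subgroup G).subtype s) (T.subtype t) := by
    intro s t
    have := Subgroup.mem_centralizer_iff.mp (hTC t.2) s s.2
    exact this
  let f : ↥(S : Subgroup G) × ↥T →* G :=
    MonoidHom.noncommCoprod (S : Subgroup G).subtype T.subtype hcomm
  have hfbij : Function.Bijective f := hT
  let eG : G ≃* ↥(S : Subgroup G) × ↥T := (MulEquiv.ofBijective f hfbij).symm
  refine ⟨n, Nat.card ↥T, hn, hTodd, ⟨eG.trans (MulEquiv.prodCongr eS ?_)⟩⟩
  exact (zmodCyclicMulEquiv hTcyc).symm

/-- Let G be a finite non-abelian nilpotent group. Then the centralizer of every non-central element of G is cyclic if and only if G is isomorphic to the direct product of a generalized quaternion group and a cyclic group of odd order. -/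
theorem result {G : Type*} [Group G] [Finite G] (hG : Group.IsNilpotent G)
    (hna : ¬ IsMulCommutative G) :
    (∀ x : G, x ∉ Subgroup.center G → IsCyclic (Subgroup.centralizer ({x} : Set G))) ↔
      ∃ (k m : ℕ), 1 ≤ k ∧ Odd m ∧ Nonempty (G ≃* QuaternionGroup (2 ^ k) × Multiplicative (ZMod m)) := by
  constructor
  · exact forward hG hna
  · rintro ⟨k, m, -, hm, ⟨e⟩⟩ x hx
    exact backward k m hm e x hx

end Cfsg.Agent.S4370
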