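import Cfsg.Statements.S4376
import Mathlib
import Cfsg.Agent.Lib.Helper35.OTGroup
import Cfsg.Agent.Lib.Helper35.OTG.P
import Cfsg.Agent.Lib.Helper35.OTG.G01
import Cfsg.Agent.Lib.Helper35.OTG.G02
import Cfsg.Agent.Lib.Helper35.OTG.G03
import Cfsg.Agent.Lib.Helper35.OTG.G04
import Cfsg.Agent.Lib.Helper35.OTG.G05
import Cfsg.Agent.Lib.Helper35.OTG.G06
import Cfsg.Agent.Lib.Helper35.OTG.G07
import Cfsg.Agent.Lib.Helper35.OTG.G08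
import Cfsg.Agent.Lib.Helper35.OTG.G09
import Cfsg.Agent.Lib.Helper35.OTG.G10
import Cfsg.Agent.Lib.Helper35.OTG.G11
import Cfsg.Agent.Lib.Helper35.OTG.G12
import Cfsg.Agent.Lib.Helper35.OTG.G13
import Cfsg.Agent.Lib.Helper35.OTG.G14
import Cfsg.Agent.Lib.Helper35.OTG.G15
import Cfsg.Agent.Lib.Helper35.OTG.G16
import Cfsg.Agent.Lib.Helper35.OTG.G17
import Cfsg.Agent.Lib.Helper35.OTG.G18
import Cfsg.Agent.Lib.Helper35.OTG.G19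
import Cfsg.Agent.Lib.Helper35.OTG.G20
import Cfsg.Agent.Lib.Helper35.OTG.G21
import Cfsg.Agent.Lib.Helper35.OTG.G22
import Cfsg.Agent.Lib.Helper35.OTG.G23
import Cfsg.Agent.Lib.Helper35.OTG.G24
import Cfsg.Agent.Lib.Helper35.OTG.G25
import Cfsg.Agent.Lib.Helper35.OTG.G26

set_option autoImplicit false
set_option maxRecDepth 100000
set_option maxHeartbeats 0
open Cfsg

namespace Cfsg.Agent.S4376

open Cfsg.Agent.Helper35 Cfsg.Agent.Helper35.OT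

/-- the solvable side -/
def lG : List (BG × ℕ) := [(⟨OTG.G04.dat.grp⟩, 1), (⟨OTG.G05.dat.grp⟩, 12), (⟨OTG.G06.dat.grp⟩, 57), (⟨OTG.G08.dat.grp⟩, 17), (⟨OTG.G10.dat.grp⟩, 3), (⟨OTG.G11.dat.grp⟩, 12), (⟨OTG.G12.dat.grp⟩, 27), (⟨OTG.G13.dat.grp⟩, 21), (⟨OTG.G16.dat.grp⟩, 2), (⟨OTG.G17.dat.grp⟩, 36), (⟨OTG.G18.dat.grp⟩, 3), (⟨OTG.G20.dat.grp⟩, 6), (⟨OTG.G22.dat.grp⟩, 24), (⟨OTG.G24.dat.grp⟩, 3), (⟨OTG.G25.dat.grp⟩, 3)]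

/-- the non-solvable side: three copies of `PSL₂(7)` and solvable groups -/
def lH : List (BG × ℕ) := [(⟨OTG.P.dat.grp⟩, 3), (⟨OTG.G01.dat.grp⟩, 6), (⟨OTG.G02.dat.grp⟩, 12), (⟨OTG.G03.dat.grp⟩, 6), (⟨OTG.G07.dat.grp⟩, 42), (⟨OTG.G09.dat.grp⟩, 60), (⟨OTG.G14.dat.grp⟩, 9), (⟨OTG.G15.dat.grp⟩, 60), (⟨OTG.G19.dat.grp⟩, 33), (⟨OTG.G21.dat.grp⟩, 2), (⟨OTG.G23.dat.grp⟩, 3), (⟨OTG.G26.dat.grp⟩, 3)]

def tG : List ((ℕ → ℕ) × ℕ) := [(OTG.G04.tab, 1), (OTG.G05.tab, 12), (OTG.G06.tab, 57), (OTG.G08.tab, 17), (OTG.G10.tab, 3), (OTG.G11.tab, 12), (OTG.G12.tab, 27), (OTG.G13.tab, 21), (OTG.G16.tab, 2), (OTG.G17.tab, 36), (OTG.G18.tab, 3), (OTG.G20.tab, 6), (OTG.G22.tab, 24), (OTG.G24.tab, 3), (OTG.G25.tab, 3)]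

def tH : List ((ℕ → ℕ) × ℕ) := [(OTG.P.tab, 3), (OTG.G01.tab, 6), (OTG.G02.tab, 12), (OTG.G03.tab, 6), (OTG.G07.tab, 42), (OTG.G09.tab, 60), (OTG.G14.tab, 9), (OTG.G15.tab, 60), (OTG.G19.tab, 33), (OTG.G21.tab, 2), (OTG.G23.tab, 3), (OTG.G26.tab, 3)]

theorem fcG (d : ℕ) : fc (PType lG) d = (tG.map fun y => y.1 (Nat.gcd d 84) ^ y.2).prod :=
  fc_PType_tab lG tG (List.Forall₂.cons ⟨rfl, OTG.G04.fc_tab⟩ (List.Forall₂.cons ⟨rfl, OTG.G05.fc_tab⟩ (List.Forall₂.cons ⟨rfl, OTG.G06.fc_tab⟩ (List.Forall₂.cons ⟨rfl, OTG.G08.fc_tab⟩ (List.Forall₂.cons ⟨rfl, OTG.G10.fc_tab⟩ (List.Forall₂.cons ⟨rfl, OTG.G11.fc_tab⟩ (List.Forall₂.cons ⟨rfl, OTG.G12.fc_tab⟩ (List.Forall₂.cons ⟨rfl, OTG.G13.fc_tab⟩ (List.Forall₂.cons ⟨rfl, OTG.G16.fc_tab⟩ (List.Forall₂.cons ⟨rfl, OTG.G17.fc_tab⟩ (List.Forall₂.cons ⟨rfl, OTG.G18.fc_tab⟩ (List.Forall₂.cons ⟨rfl, OTG.G20.fc_tab⟩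 (List.Forall₂.cons ⟨rfl, OTG.G22.fc_tab⟩ (List.Forall₂.cons ⟨rfl, OTG.G24.fc_tab⟩ (List.Forall₂.cons ⟨rfl, OTG.G25.fc_tab⟩ List.Forall₂.nil))))))))))))))) d

theorem fcH (d : ℕ) : fc (PType lH) d = (tH.map fun y => y.1 (Nat.gcd d 84) ^ y.2).prod :=
  fc_PType_tab lH tH (List.Forall₂.cons ⟨rfl, OTG.P.fc_tab⟩ (List.Forall₂.cons ⟨rfl, OTG.G01.fc_tab⟩ (List.Forall₂.cons ⟨rfl, OTG.G02.fc_tab⟩ (List.Forall₂.cons ⟨rfl, OTG.G03.fc_tab⟩ (List.Forall₂.cons ⟨rfl, OTG.G07.fc_tab⟩ (List.Forall₂.cons ⟨rfl, OTG.G09.fc_tab⟩ (List.Forall₂.cons ⟨rfl, OTG.G14.fc_tab⟩ (List.Forall₂.cons ⟨rfl, OTG.G15.fc_tab⟩ (List.Forall₂.cons ⟨rfl, OTG.G19.fc_tab⟩ (List.Forall₂.cons ⟨rfl, OTG.G21.fc_tab⟩ (List.Forall₂.cons ⟨rfl, OTG.G23.fc_tab⟩ (List.Forall₂.cons ⟨rfl, OTG.G26.fc_tab⟩ List.Forall₂.nil)))))))))))) d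

theorem tabs_eq : ∀ e ∈ divs84, (tG.map fun y => y.1 e ^ y.2).prod = (tH.map fun y => y.1 e ^ y.2).prod := by
  decide +kernel

theorem solvG : Group.IsSolvable (PType lG) := by
  apply solvable_PType
  intro x hx
  simp only [lG, List.mem_cons, List.not_mem_nil, or_false] at hx
  rcases hx with rfl | rfl | rfl | rfl | rfl | rfl | rfl | rfl | rfl | rfl | rfl | rfl | rfl | rfl | rfl
  · exact OTG.G04.solv
  · exact OTG.G05.solv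
  · exact OTG.G06.solv
  · exact OTG.G08.solv
  · exact OTG.G10.solv
  · exact OTG.G11.solv
  · exact OTG.G12.solv
  · exact OTG.G13.solv
  · exact OTG.G16.solv
  · exact OTG.G17.solv
  · exact OTG.G18.solv
  · exact OTG.G20.solv
  · exact OTG.G22.solv
  · exact OTG.G24.solv
  · exact OTG.G25.solv

theorem not_solvH : ¬ Group.IsSolvable (PType lH) :=
  not_solvable_PType _ _ (by norm_num) OTG.P.not_solv

/-- There are finite groups G and H having the same number of elements of each order (the same order type) with G solvable and H not solvable. -/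
theorem result :
    ∃ (G : Type) (_ : Group G) (_ : Finite G) (H : Type) (_ : Group H) (_ : Finite H),
      Group.IsSolvable G ∧ ¬ Group.IsSolvable H ∧ ∀ n : ℕ, Nat.card {g : G // orderOf g = n} = Nat.card {h : H // orderOf h = n} := by
  refine ⟨PType lG, inferInstance, inferInstance, PType lH, inferInstance, inferInstance, solvG, not_solvH, ?_⟩
  intro n
  refine oc_eq_of_fc_eq (G := PType lG) (H := PType lH) (fun d => ?_) n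
  rw [fcG, fcH]
  exact tabs_eq _ (gcd_mem_divs84 d)

end Cfsg.Agent.S4376
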