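import Cfsg.Statements.S4377
import Mathlib

set_option autoImplicit false
open Cfsg

namespace Cfsg.Agent.S4377

open Finset in
theorem sum_divisors {G : Type*} [Group G] [Finite G] {n : ℕ} (hn : n ≠ 0) :
    ∑ m ∈ Nat.divisors n, Nat.card {g : G // orderOf g = m} = Nat.card {g : G // g ^ n = 1} := by
  classical
  have := Fintype.ofFinite G
  have h := sum_card_orderOf_eq_card_pow_eq_one (G := G) hn
  simp only [Nat.card_eq_fintype_card, Fintype.card_subtype]
  exact h

theorem card_order_zero {G : Type*} [Group G] [Finite G] :
    Nat.card {g : G // orderOf g = 0} = 0 := by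
  have : IsEmpty {g : G // orderOf g = 0} := ⟨fun ⟨g, hg⟩ => (orderOf_pos g).ne' hg⟩
  exact Nat.card_of_isEmpty

theorem card_pow_eq_card {G : Type*} [Group G] [Finite G] (m : ℕ) (hm : Nat.card G ∣ m) :
    Nat.card {g : G // g ^ m = 1} = Nat.card G := by
  have : ∀ g : G, g ^ m = 1 := by
    intro g
    obtain ⟨k, rfl⟩ := hm
    rw [pow_mul, pow_card_eq_one', one_pow]
  exact Nat.card_congr (Equiv.subtypeUnivEquiv this)

/-- Two finite groups have the same number of elements of each order if and only if, for every n, they have the same number of elements g with gⁿ = 1. -/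
theorem result {G H : Type*} [Group G] [Finite G] [Group H] [Finite H] :
    (∀ n : ℕ, Nat.card {g : G // orderOf g = n} = Nat.card {h : H // orderOf h = n}) ↔
      ∀ n : ℕ, Nat.card {g : G // g ^ n = 1} = Nat.card {h : H // h ^ n = 1} := by
  constructor
  · intro h
    have key : ∀ n : ℕ, n ≠ 0 → Nat.card {g : G // g ^ n = 1} = Nat.card {h : H // h ^ n = 1} := by
      intro n hn
      rw [← sum_divisors hn, ← sum_divisors hn]
      exact Finset.sum_congr rfl (fun m _ => h m)
    intro n
    rcases Nat.eq_zero_or_pos n with rfl | hn
    · have hG := card_pow_eq_card (G := G) (Nat.card G * Nat.card H) (dvd_mul_right _ _)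
      have hH := card_pow_eq_card (G := H) (Nat.card G * Nat.card H) (dvd_mul_left _ _)
      have hne : Nat.card G * Nat.card H ≠ 0 := by
        have h1 : Nat.card G ≠ 0 := Nat.card_pos.ne'
        have h2 : Nat.card H ≠ 0 := Nat.card_pos.ne'
        exact mul_ne_zero h1 h2
      have := key _ hne
      rw [hG, hH] at this
      have e1 : Nat.card {g : G // g ^ 0 = 1} = Nat.card G :=
        Nat.card_congr (Equiv.subtypeUnivEquiv (fun g => pow_zero g))
      have e2 : Nat.card {g : H // g ^ 0 = 1} = Nat.card H :=
        Nat.card_congr (Equiv.subtypeUnivEquiv (fun g => pow_zero g))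
      rw [e1, e2, this]
    · exact key n hn.ne'
  · intro h n
    induction n using Nat.strong_induction_on with
    | _ n ih =>
      rcases Nat.eq_zero_or_pos n with rfl | hn
      · rw [card_order_zero, card_order_zero]
      · have hG := sum_divisors (G := G) hn.ne'
        have hH := sum_divisors (G := H) hn.ne'
        rw [← Nat.cons_self_properDivisors hn.ne', Finset.sum_cons] at hG hH
        have hsum : ∑ m ∈ n.properDivisors, Nat.card {g : G // orderOf g = m}
            = ∑ m ∈ n.properDivisors, Nat.card {g : H // orderOf g = m} := by
          apply Finset.sum_congr rfl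
          intro m hm
          exact ih m (Nat.mem_properDivisors.mp hm).2
        have := h n
        omega

end Cfsg.Agent.S4377
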