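import Cfsg.Statements.S4381
import Cfsg.Agent.S0012
import Cfsg.Agent.Lib.Helper52.External
import Cfsg.Agent.Lib.Helper11.InvComplement

set_option autoImplicit false
open Pointwise
open Cfsg

namespace Cfsg.Agent.S4381

open Subgroup
open scoped commutatorElement

section

variable {A G : Type*} [Group A] [Group G] [MulDistribMulAction A G]

/-- `L` is `A`-invariant -/
def Inv (A : Type*) {G : Type*} [Group A] [Group G] [MulDistribMulAction A G]
    (L : Subgroup G) : Prop := ∀ a : A, ∀ x ∈ L, a • x ∈ L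

/-- `M` is a maximal `A`-invariant subgroup -/
def MaxInv (A : Type*) {G : Type*} [Group A] [Group G] [MulDistribMulAction A G]
    (M : Subgroup G) : Prop :=
  M ≠ ⊤ ∧ Inv A M ∧ ∀ L : Subgroup G, M < L → Inv A L → L = ⊤

theorem inv_frattini : Inv A (frattini G) := by
  intro a x hx
  have h := characteristic_iff_le_comap.mp (frattini_characteristic (G := G))
    (MulDistribMulAction.toMulAut A G a)
  exact h hx

theorem inv_sup {L K : Subgroup G} (hL : Inv A L) (hK : Inv A K) : Inv A (L ⊔ K) := by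
  intro a x hx
  have h1 : L ⊔ K ≤ (L ⊔ K).comap (MulDistribMulAction.toMulAut A G a).toMonoidHom := by
    apply sup_le
    · intro y hy
      exact mem_comap.mpr (mem_sup_left (hL a y hy))
    · intro y hy
      exact mem_comap.mpr (mem_sup_right (hK a y hy))
  exact h1 hx

theorem exists_maxInv_ge [Finite G] {L : Subgroup G} (hL : Inv A L) (hLt : L ≠ ⊤) :
    ∃ M : Subgroup G, MaxInv A M ∧ L ≤ M := by
  have hfin : {M : Subgroup G | M ≠ ⊤ ∧ Inv A M}.Finite := Set.toFinite _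
  obtain ⟨M, hLM, hM⟩ := hfin.exists_le_maximal (a := L) ⟨hLt, hL⟩
  refine ⟨M, ⟨hM.prop.1, hM.prop.2, ?_⟩, hLM⟩
  intro K hMK hK
  by_contra hKt
  exact absurd (hM.le_of_ge ⟨hKt, hK⟩ hMK.le) (not_le_of_gt hMK)

theorem frattini_le_of_maxInv [Finite G] {M : Subgroup G} (hM : MaxInv A M) :
    frattini G ≤ M := by
  by_contra h
  have h1 : M < M ⊔ frattini G := by
    refine lt_of_le_of_ne le_sup_left ?_
    intro h2
    apply h
    rw [h2]
    exact le_sup_right
  have h2 := hM.2.2 _ h1 (inv_sup hM.2.1 inv_frattini)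
  exact hM.1 (frattini_nongenerating h2)

theorem maxInv_iff_of_irred [Finite G]
    (hirr : ∀ L : Subgroup G, frattini G < L → Inv A L → L = ⊤) (M : Subgroup G) :
    MaxInv A M ↔ (M = frattini G ∧ M ≠ ⊤) := by
  constructor
  · intro hM
    refine ⟨?_, hM.1⟩
    have h1 := frattini_le_of_maxInv hM
    by_contra h2
    exact hM.1 (hirr M (lt_of_le_of_ne h1 (Ne.symm h2)) hM.2.1)
  · rintro ⟨rfl, h2⟩
    exact ⟨h2, inv_frattini, fun L hL hLi => hirr L hL hLi⟩

theorem inv_bot : Inv A (⊥ : Subgroup G) := by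
  intro a x hx
  rw [mem_bot] at hx ⊢
  rw [hx, smul_one]

theorem isPGroup_of_conj [Finite A] [Finite G] (hcop : (Nat.card A).Coprime (Nat.card G))
    (hsol : Group.IsSolvable A ∨ Group.IsSolvable G)
    (hconj : ∀ M N : Subgroup G, MaxInv A M → MaxInv A N →
      ∃ c : G, (∀ a : A, a • c = c) ∧ N = MulAut.conj c • M) :
    ∃ p : ℕ, p.Prime ∧ IsPGroup p G := by
  by_contra hno
  push Not at hno
  have hbot : (⊥ : Subgroup G) ≠ ⊤ := by
    intro h
    apply hno 2 Nat.prime_two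
    apply IsPGroup.of_card (n := 0)
    rw [pow_zero, ← Subgroup.card_top, ← h, Subgroup.card_bot]
  obtain ⟨M₀, hM₀, -⟩ := exists_maxInv_ge (A := A) inv_bot hbot
  have key : ∀ p k : ℕ, p.Prime → p ^ k ∣ Nat.card G → p ^ k ∣ Nat.card M₀ := by
    intro p k hp hpk
    have := Fact.mk hp
    obtain ⟨Q, hQi, hQc⟩ := Cfsg.Agent.Helper52.exists_invariant_sylow_ext hcop hsol p
    have hQt : Q ≠ ⊤ := by
      rintro rfl
      apply hno p hp
      exact IsPGroup.of_card (by rw [← hQc, Subgroup.card_top])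
    obtain ⟨M, hM, hQM⟩ := exists_maxInv_ge hQi hQt
    obtain ⟨c, -, hc⟩ := hconj M₀ M hM₀ hM
    have h1 : Nat.card M = Nat.card M₀ := by
      rw [hc, Cfsg.Agent.Helper52.conj_smul_eq_map, Cfsg.Agent.Helper52.card_map_conj]
    have h2 : k ≤ (Nat.card G).factorization p :=
      (hp.pow_dvd_iff_le_factorization Nat.card_pos.ne').mp hpk
    calc p ^ k ∣ p ^ ((Nat.card G).factorization p) := pow_dvd_pow _ h2
      _ = Nat.card Q := hQc.symm
      _ ∣ Nat.card M := Subgroup.card_dvd_of_le hQM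
      _ = Nat.card M₀ := h1
  have h3 : Nat.card G ∣ Nat.card M₀ := (Nat.dvd_iff_prime_pow_dvd_dvd _ _).mpr key
  have h4 : Nat.card M₀ = Nat.card G := Nat.dvd_antisymm (Subgroup.card_subgroup_dvd_card M₀) h3
  exact hM₀.1 ((Subgroup.card_eq_iff_eq_top M₀).mp h4)

theorem irred_of_conj [Finite A] [Finite G] (hcop : (Nat.card A).Coprime (Nat.card G))
    (p : ℕ) (hp : p.Prime) (hG : IsPGroup p G)
    (hconj : ∀ M N : Subgroup G, MaxInv A M → MaxInv A N →
      ∃ c : G, (∀ a : A, a • c = c) ∧ N = MulAut.conj c • M)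
    (L : Subgroup G) (hL : frattini G < L) (hLi : Inv A L) : L = ⊤ := by
  by_contra hLt
  have := Fact.mk hp
  obtain ⟨hcomm, hpow⟩ := Cfsg.Agent.S0012.result p hG
  -- maximal invariant subgroups are normal, hence all equal
  have huniq : ∀ M N : Subgroup G, MaxInv A M → MaxInv A N → N = M := by
    intro M N hM hN
    obtain ⟨c, -, hc⟩ := hconj M N hM hN
    rw [hc]
    ext x
    rw [Subgroup.mem_pointwise_smul_iff_inv_smul_mem]
    have hΦM := frattini_le_of_maxInv hM
    have h1 : ∀ y : G, c⁻¹ * y * c ∈ M ↔ y ∈ M := by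
      intro y
      have h2 : c⁻¹ * y * c = ⁅c⁻¹, y⁆ * y := by rw [commutatorElement_def]; group
      rw [h2]
      have h3 : ⁅c⁻¹, y⁆ ∈ M :=
        hΦM (hcomm (Subgroup.commutator_mem_commutator (mem_top _) (mem_top _)))
      exact Subgroup.mul_mem_cancel_left M h3
    simpa [MulAut.smul_def, MulAut.conj_apply, mul_assoc] using h1 x
  obtain ⟨K, hNK, hKi, hLK1, hLK2⟩ :=
    Cfsg.Agent.Helper52.exists_invariant_complement_mod hcop (frattini G) inv_frattini hcomm p hp
      hpow L hL.le hLi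
  have hKt : K ≠ ⊤ := by
    rintro rfl
    rw [inf_top_eq] at hLK1
    exact absurd hLK1 (ne_of_gt hL)
  obtain ⟨M₁, hM₁, hLM₁⟩ := exists_maxInv_ge hLi hLt
  obtain ⟨M₂, hM₂, hKM₂⟩ := exists_maxInv_ge hKi hKt
  have h12 := huniq M₁ M₂ hM₁ hM₂
  apply hM₁.1
  rw [eq_top_iff, ← hLK2]
  exact sup_le hLM₁ (h12 ▸ hKM₂)

end

/-- Let the finite group A act by automorphisms on the finite group G with the orders of A and G coprime, and assume that A or G is solvable. Call a proper A-invariant subgroup of G maximal A-invariant when no A-invariant subgroup lies strictly between it and G. Then all maximal A-invariant subgroups of G are conjugate under elements of the fixed-point subgroup C_G(A) if and only if G is a p-group for some prime p and A leaves invariant no subgroup strictly between the Frattini subgroup of G and G. In that case, if G is nontrivial, the Frattini subgroup is the only maximal A-invariant subgroup (a trivial G has none). -/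
theorem result {A G : Type*} [Group A] [Finite A]
    [Group G] [Finite G] [MulDistribMulAction A G] (hcop : (Nat.card A).Coprime (Nat.card G)) (hsol : Group.IsSolvable A ∨ Group.IsSolvable G) :
    ((∀ M N : Subgroup G, (M ≠ ⊤ ∧ (∀ a : A, ∀ x ∈ M, a • x ∈ M) ∧ ∀ L : Subgroup G, M < L → (∀ a : A, ∀ x ∈ L, a • x ∈ L) → L = ⊤) → (N ≠ ⊤ ∧ (∀ a : A, ∀ x ∈ N, a • x ∈ N) ∧ ∀ L : Subgroup G, N < L → (∀ a : A, ∀ x ∈ L, a • x ∈ L) → L = ⊤) →
        ∃ c : G, (∀ a : A, a • c = c) ∧ N = MulAut.conj c • M) ↔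
      ((∃ p : ℕ, p.Prime ∧ IsPGroup p G) ∧ ∀ L : Subgroup G, frattini G < L → (∀ a : A, ∀ x ∈ L, a • x ∈ L) → L = ⊤)) ∧
    (((∃ p : ℕ, p.Prime ∧ IsPGroup p G) ∧ ∀ L : Subgroup G, frattini G < L → (∀ a : A, ∀ x ∈ L, a • x ∈ L) → L = ⊤) →
      ∀ M : Subgroup G, (M ≠ ⊤ ∧ (∀ a : A, ∀ x ∈ M, a • x ∈ M) ∧ ∀ L : Subgroup G, M < L → (∀ a : A, ∀ x ∈ L, a • x ∈ L) → L = ⊤) ↔ (M = frattini G ∧ M ≠ ⊤)) := by
  refine ⟨⟨?_, ?_⟩, ?_⟩
  · intro hconj
    have hconj' : ∀ M N : Subgroup G, MaxInv A M → MaxInv A N →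
        ∃ c : G, (∀ a : A, a • c = c) ∧ N = MulAut.conj c • M := hconj
    obtain ⟨p, hp, hG⟩ := isPGroup_of_conj hcop hsol hconj'
    exact ⟨⟨p, hp, hG⟩, fun L hL hLi => irred_of_conj hcop p hp hG hconj' L hL hLi⟩
  · rintro ⟨-, hirr⟩ M N hM hN
    have h1 := (maxInv_iff_of_irred (A := A) hirr M).mp hM
    have h2 := (maxInv_iff_of_irred (A := A) hirr N).mp hN
    refine ⟨1, fun a => smul_one a, ?_⟩
    rw [map_one, one_smul, h1.1, h2.1]
  · rintro ⟨-, hirr⟩ M
    exact maxInv_iff_of_irred (A := A) hirr M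

end Cfsg.Agent.S4381
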