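import Cfsg.Statements.S4387
import Mathlib

set_option autoImplicit false
open Cfsg
open Pointwise

namespace Cfsg.Agent.S4387

/-- A proper subgroup of a finite group misses some element together with all its conjugates. -/
theorem exists_not_mem_conj {G : Type*} [Group G] [Finite G] (M : Subgroup G) (hM : M ≠ ⊤) :
    ∃ x : G, ∀ g : G, x ∉ MulAut.conj g • M := by
  classical
  by_contra hcon
  push Not at hcon
  have := Fintype.ofFinite G
  let X := G ⧸ M
  have : Fintype X := Fintype.ofFinite X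
  have : Fintype (MulAction.orbitRel.Quotient G X) := Fintype.ofFinite _
  have hB := MulAction.sum_card_fixedBy_eq_card_orbits_mul_card_group G X
  have hU : Fintype.card (MulAction.orbitRel.Quotient G X) = 1 := by
    have hu := (MulAction.pretransitive_iff_unique_quotient_of_nonempty G X).mp inferInstance
    obtain ⟨u⟩ := hu
    exact Fintype.card_eq_one_iff.mpr ⟨u.default, fun y => u.uniq y⟩
  rw [hU, one_mul] at hB
  have hge : ∀ g : G, 1 ≤ Fintype.card (MulAction.fixedBy X g) := by
    intro g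
    obtain ⟨a, ha⟩ := hcon g
    rw [Subgroup.mem_pointwise_smul_iff_inv_smul_mem] at ha
    apply Fintype.card_pos_iff.mpr
    refine ⟨⟨(a : X), ?_⟩⟩
    rw [MulAction.mem_fixedBy]
    change ((g * a : G) : X) = (a : X)
    rw [eq_comm, QuotientGroup.eq]
    simpa [MulAut.smul_def, mul_assoc] using ha
  have hone : 1 < Fintype.card (MulAction.fixedBy X (1 : G)) := by
    have : Fintype.card (MulAction.fixedBy X (1 : G)) = Fintype.card X := by
      apply Fintype.card_congr
      exact Equiv.subtypeUnivEquiv (fun x => by simp)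
    rw [this]
    have hidx : M.index ≠ 1 := fun h => hM (Subgroup.index_eq_one.mp h)
    have hidx0 : M.index ≠ 0 := Subgroup.index_ne_zero_of_finite
    have : Fintype.card X = M.index := by
      rw [Subgroup.index, Nat.card_eq_fintype_card]
    omega
  have hlt : ∑ _g : G, 1 < ∑ g : G, Fintype.card (MulAction.fixedBy X g) :=
    Finset.sum_lt_sum (fun g _ => hge g) ⟨1, Finset.mem_univ _, hone⟩
  have h1 : ∑ _g : G, 1 = Fintype.card G := by simp
  rw [h1, hB] at hlt
  exact lt_irrefl _ hlt

/-- Let G be a non-trivial finite group in which any two maximal subgroups are conjugate. Then G is cyclic of prime-power order. -/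
theorem result {G : Type*} [Group G] [Finite G] [Nontrivial G]
    (h : ∀ M N : Subgroup G, IsCoatom M → IsCoatom N → ∃ g : G, N = MulAut.conj g • M) :
    IsCyclic G ∧ IsPrimePow (Nat.card G) := by
  -- a coatom exists
  obtain ⟨M, hM, -⟩ : ∃ M : Subgroup G, IsCoatom M ∧ ⊥ ≤ M := by
    rcases eq_top_or_exists_le_coatom (⊥ : Subgroup G) with h0 | h0
    · exact absurd h0 bot_ne_top
    · exact h0
  obtain ⟨x, hx⟩ := exists_not_mem_conj M hM.1
  have hxtop : Subgroup.zpowers x = ⊤ := by
    rcases eq_top_or_exists_le_coatom (Subgroup.zpowers x) with h0 | ⟨N, hN, hxN⟩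
    · exact h0
    · obtain ⟨g, rfl⟩ := h M N hM hN
      exact absurd (hxN (Subgroup.mem_zpowers x)) (hx g)
  have hcyc : IsCyclic G := ⟨⟨x, fun y => by
    have : y ∈ Subgroup.zpowers x := by rw [hxtop]; exact Subgroup.mem_top y
    exact this⟩⟩
  refine ⟨hcyc, ?_⟩
  -- M is the unique coatom
  have hcomm : ∀ a b : G, a * b = b * a := by
    intro a b
    obtain ⟨i, rfl⟩ := Subgroup.mem_zpowers_iff.mp (hxtop ▸ Subgroup.mem_top a : a ∈ Subgroup.zpowers x)
    obtain ⟨j, rfl⟩ := Subgroup.mem_zpowers_iff.mp (hxtop ▸ Subgroup.mem_top b : b ∈ Subgroup.zpowers x)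
    rw [← zpow_add, ← zpow_add, add_comm]
  have huniq : ∀ N : Subgroup G, IsCoatom N → N = M := by
    intro N hN
    obtain ⟨g, rfl⟩ := h M N hM hN
    ext y
    rw [Subgroup.mem_pointwise_smul_iff_inv_smul_mem]
    have : (MulAut.conj g)⁻¹ • y = y := by
      simp only [MulAut.smul_def, MulAut.conj_inv_apply]
      rw [hcomm g⁻¹ y, mul_assoc, inv_mul_cancel, mul_one]
    rw [this]
  have hord : orderOf x = Nat.card G := by
    rw [← Nat.card_zpowers, hxtop, Subgroup.card_top]
  have hcard_pos : 0 < Nat.card G := Nat.card_pos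
  -- for each prime q ∣ card G, x^q ∈ M
  have hq : ∀ q : ℕ, q.Prime → q ∣ Nat.card G → x ^ q ∈ M := by
    intro q hqp hqd
    have hne : Subgroup.zpowers (x ^ q) ≠ ⊤ := by
      intro htop
      have h1 : Nat.card (Subgroup.zpowers (x ^ q)) = Nat.card G := by rw [htop, Subgroup.card_top]
      rw [Nat.card_zpowers, orderOf_pow_of_dvd hqp.ne_zero (hord ▸ hqd), hord] at h1
      have : Nat.card G / q < Nat.card G := Nat.div_lt_self hcard_pos hqp.one_lt
      omega
    rcases eq_top_or_exists_le_coatom (Subgroup.zpowers (x ^ q)) with h0 | ⟨N, hN, hxN⟩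
    · exact absurd h0 hne
    · rw [huniq N hN] at hxN
      exact hxN (Subgroup.mem_zpowers _)
  rw [isPrimePow_iff_unique_prime_dvd]
  have hne1 : Nat.card G ≠ 1 := by
    have := Finite.one_lt_card (α := G)
    omega
  obtain ⟨q, hqp, hqd⟩ := Nat.exists_prime_and_dvd hne1
  refine ⟨q, ⟨hqp, hqd⟩, ?_⟩
  rintro r ⟨hrp, hrd⟩
  by_contra hne
  have hcop : Nat.Coprime q r := (Nat.coprime_primes hqp hrp).mpr (fun h => hne h.symm)
  -- x = x^(gcd) ∈ M
  have hxM : x ∈ M := by
    have h1 : x ^ (q : ℤ) ∈ M := by simpa using hq q hqp hqd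
    have h2 : x ^ (r : ℤ) ∈ M := by simpa using hq r hrp hrd
    have hb : (q : ℤ) * Int.gcdA q r + (r : ℤ) * Int.gcdB q r = 1 := by
      have := Int.gcd_eq_gcd_ab (q : ℤ) (r : ℤ)
      rw [← this]
      simpa [Int.gcd_natCast_natCast] using hcop
    have : x = (x ^ (q : ℤ)) ^ (Int.gcdA q r) * (x ^ (r : ℤ)) ^ (Int.gcdB q r) := by
      rw [← zpow_mul, ← zpow_mul, ← zpow_add, hb, zpow_one]
    rw [this]
    exact Subgroup.mul_mem _ (Subgroup.zpow_mem _ h1 _) (Subgroup.zpow_mem _ h2 _)
  apply hM.1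
  rw [eq_top_iff, ← hxtop, Subgroup.zpowers_le]
  exact hxM

end Cfsg.Agent.S4387
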