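import Cfsg.Statements.S4398
import Mathlib
import Cfsg.Agent.S4399
import Cfsg.Agent.Lib.Helper53.PGroupAb
import Cfsg.Agent.Lib.Helper53.SectRankMaxClass
-- import your own Cfsg.Agent.* helpers here

set_option autoImplicit false
open Cfsg

namespace Cfsg.Agent.S4398

open Cfsg.Agent.Helper53

/-- Let S be a finite 2-group of sectional 2-rank at most 2 that contains a subgroup isomorphic to the dihedral group of order 8 or to the quaternion group of order 8. Then S is dihedral of order at least 8, semidihedral of order at least 16 (order 2^(k+4) with an element a of order 2^(k+3) and an involution b with b a b⁻¹ = a^(2^(k+2)−1)), or generalized quaternion of order at least 8. -/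
theorem result {S : Type*} [Group S] [Finite S] (h2 : IsPGroup 2 S) (hr : Cfsg.SectionalPRankLE 2 2 S)
    (hsub : ∃ H : Subgroup S, Nonempty (↥H ≃* DihedralGroup 4) ∨ Nonempty (↥H ≃* QuaternionGroup 2)) :
    ((∃ k : ℕ, Nonempty (S ≃* DihedralGroup (2 ^ (k + 2)))) ∨
      (∃ k : ℕ, Nat.card S = 2 ^ (k + 4) ∧ ∃ a b : S, orderOf a = 2 ^ (k + 3) ∧ orderOf b = 2 ∧ b * a * b⁻¹ = a ^ (2 ^ (k + 2) - 1)) ∨
      (∃ k : ℕ, Nonempty (S ≃* QuaternionGroup (2 ^ (k + 1))))) := by
  have hf2 : Fact (Nat.Prime 2) := ⟨Nat.prime_two⟩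
  obtain ⟨H, hH⟩ := hsub
  have hH8 : Nat.card H = 8 ∧ ∃ a b : H, a * b ≠ b * a := by
    rcases hH with ⟨⟨e⟩⟩ | ⟨⟨e⟩⟩
    · refine ⟨by rw [Nat.card_congr e.toEquiv, DihedralGroup.nat_card], e.symm (DihedralGroup.r 1),
        e.symm (DihedralGroup.sr 0), ?_⟩
      rw [← map_mul, ← map_mul]
      intro h
      exact absurd (e.symm.injective h) (by decide)
    · refine ⟨by rw [Nat.card_congr e.toEquiv, Nat.card_eq_fintype_card, QuaternionGroup.card],
        e.symm (QuaternionGroup.a 1), e.symm (QuaternionGroup.xa 0), ?_⟩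
      rw [← map_mul, ← map_mul]
      intro h
      exact absurd (e.symm.injective h) (by decide)
  obtain ⟨hH8, hna⟩ := hH8
  have hidx := index_commutator_eq_four h2 hr H hH8 hna
  have hab : Nat.card (Abelianization S) = 4 := hidx
  have hnc : ¬ IsCyclic S := by
    intro hc
    obtain ⟨a, b, hab'⟩ := hna
    apply hab'
    apply Subtype.ext
    have : IsMulCommutative S := inferInstance
    exact mul_comm' a.1 b.1
  have hexp : ∀ x : Abelianization S, x ^ 2 = 1 := by
    intro x
    by_contra hx
    apply hnc
    apply isCyclic_of_isCyclic_abelianization h2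
    have hdvd : orderOf x ∣ 4 := by rw [← hab]; exact orderOf_dvd_natCard x
    have h4 : orderOf x = 4 := by
      have hle : orderOf x ≤ 4 := Nat.le_of_dvd (by norm_num) hdvd
      have hpos : 0 < orderOf x := orderOf_pos x
      have h1 : orderOf x ≠ 1 := by
        intro h
        apply hx
        rw [orderOf_eq_one_iff.mp h, one_pow]
      have h2' : orderOf x ≠ 2 := by
        intro h
        apply hx
        rw [← h]; exact pow_orderOf_eq_one x
      have h3 : orderOf x ≠ 3 := by
        intro h
        rw [h] at hdvd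
        omega
      omega
    exact isCyclic_of_orderOf_eq_card x (by rw [h4, hab])
  rcases Cfsg.Agent.S4399.result h2 hab hexp with h | h
  · exfalso
    have := Subgroup.card_subgroup_dvd_card H
    rw [hH8, h] at this
    omega
  · exact h

end Cfsg.Agent.S4398
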