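import Cfsg.Statements.S4400
import Mathlib
import Cfsg.Agent.Lib.Helper53.DirProd

set_option autoImplicit false
open Cfsg

namespace Cfsg.Agent.S4400

open Cfsg.Agent.Helper53.DirProd

variable {S : Type*} [Group S]

/-- The image of the centre of a normal subgroup is normal. -/
theorem map_center_normal (P : Subgroup S) [hPn : P.Normal] :
    ((Subgroup.center P).map P.subtype).Normal := by
  constructor
  intro x hx g
  rw [mem_map_center] at hx ⊢
  obtain ⟨hxP, hc⟩ := hx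
  refine ⟨hPn.conj_mem x hxP g, fun y hy => ?_⟩
  have hy' : g⁻¹ * y * g ∈ P := by
    have := hPn.conj_mem y hy g⁻¹
    simpa using this
  have h1 := hc _ hy'
  calc y * (g * x * g⁻¹) = g * ((g⁻¹ * y * g) * x) * g⁻¹ := by group
    _ = g * (x * (g⁻¹ * y * g)) * g⁻¹ := by rw [h1]
    _ = g * x * g⁻¹ * y := by group

theorem card_map_center (P : Subgroup S) :
    Nat.card ((Subgroup.center P).map P.subtype) = Nat.card (Subgroup.center P) :=
  Subgroup.card_map_of_injective P.subtype_injective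

/-- Let S be a finite 2-group of sectional 2-rank at most 4, and let P and Q be normal non-abelian subgroups of S whose centres have order 2 and are different. Then P and Q commute elementwise and intersect trivially, and PQ contains its own centralizer in S. -/
theorem result {S : Type*} [Group S] [Finite S] (h2 : IsPGroup 2 S) (hr : Cfsg.SectionalPRankLE 2 4 S)
    (P Q : Subgroup S) [P.Normal] [Q.Normal] (hP : ¬ IsMulCommutative ↥P) (hQ : ¬ IsMulCommutative ↥Q)
    (hZP : Nat.card ↥(Subgroup.center ↥P) = 2) (hZQ : Nat.card ↥(Subgroup.center ↥Q) = 2)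
    (hne : (Subgroup.center ↥P).map P.subtype ≠ (Subgroup.center ↥Q).map Q.subtype) :
    ⁅P, Q⁆ = ⊥ ∧ P ⊓ Q = ⊥ ∧ Subgroup.centralizer ((P ⊔ Q : Subgroup S) : Set S) ≤ P ⊔ Q := by
  have : Fact (Nat.Prime 2) := ⟨Nat.prime_two⟩
  have hP2 : IsPGroup 2 P := h2.to_subgroup P
  have hQ2 : IsPGroup 2 Q := h2.to_subgroup Q
  have := map_center_normal P
  have := map_center_normal Q
  have hZPc : (Subgroup.center P).map P.subtype ≤ Subgroup.center S :=
    le_center_of_normal_of_card_two _ (by rw [card_map_center, hZP])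
  have hZQc : (Subgroup.center Q).map Q.subtype ≤ Subgroup.center S :=
    le_center_of_normal_of_card_two _ (by rw [card_map_center, hZQ])
  -- Step 2: trivial intersection
  have hPQ : P ⊓ Q = ⊥ := by
    by_contra hcon
    have hN : (P ⊓ Q).subgroupOf P ≠ ⊥ := by
      intro h
      apply hcon
      rw [Subgroup.subgroupOf_eq_bot] at h
      rw [eq_bot_iff]
      intro x hx
      have : x ∈ (P ⊓ Q) ⊓ P := ⟨hx, hx.1⟩
      exact (Subgroup.disjoint_def.mp h) hx hx.1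
    have : ((P ⊓ Q).subgroupOf P).Normal := Subgroup.Normal.subgroupOf inferInstance P
    obtain ⟨z, hzN, hz2, hzc⟩ := Cfsg.Agent.Helper53.exists_central_invol_of_normal hP2 _ hN
    have hz1 : (z : S) ≠ 1 := by
      intro h
      have : z = 1 := Subtype.ext h
      rw [this, orderOf_one] at hz2
      norm_num at hz2
    have hzZP : (z : S) ∈ (Subgroup.center P).map P.subtype := ⟨z, hzc, rfl⟩
    have hzQ : (z : S) ∈ Q := (Subgroup.mem_subgroupOf.mp hzN).2
    have hzS : (z : S) ∈ Subgroup.center S := hZPc hzZP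
    have hzZQ : (z : S) ∈ (Subgroup.center Q).map Q.subtype := by
      rw [mem_map_center]
      exact ⟨hzQ, fun y _ => Subgroup.mem_center_iff.mp hzS y⟩
    apply hne
    apply Subgroup.eq_of_le_of_card_ge
    · intro a ha
      by_cases ha1 : a = 1
      · rw [ha1]; exact Subgroup.one_mem _
      · have hc2 : Nat.card ((Subgroup.center P).map P.subtype) = 2 := by
          rw [card_map_center, hZP]
        obtain ⟨y, _, hy⟩ := (Nat.card_eq_two_iff' (1 : (Subgroup.center P).map P.subtype)).mp hc2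
        have e1 : (⟨a, ha⟩ : (Subgroup.center P).map P.subtype) = y :=
          hy _ (fun h => ha1 (congrArg Subtype.val h))
        have e2 : (⟨(z : S), hzZP⟩ : (Subgroup.center P).map P.subtype) = y :=
          hy _ (fun h => hz1 (congrArg Subtype.val h))
        have : a = (z : S) := congrArg Subtype.val (e1.trans e2.symm)
        rw [this]; exact hzZQ
    · rw [card_map_center, card_map_center, hZP, hZQ]
  have hcomm0 : ⁅P, Q⁆ = ⊥ := by
    rw [eq_bot_iff, ← hPQ]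
    exact Subgroup.commutator_le_inf P Q
  have hc : ∀ a ∈ P, ∀ b ∈ Q, a * b = b * a := by
    intro a ha b hb
    have h1 := (Subgroup.commutator_eq_bot_iff_le_centralizer.mp hcomm0) ha
    exact (Subgroup.mem_centralizer_iff.mp h1 b hb).symm
  refine ⟨hcomm0, hPQ, ?_⟩
  -- Step 4
  by_contra hcon
  obtain ⟨c₀, hc₀C, hc₀E⟩ := SetLike.not_le_iff_exists.mp hcon
  -- find `c` in the centralizer, outside `P ⊔ Q`, with square inside
  obtain ⟨c, hcC, hcE, hc2E⟩ : ∃ c ∈ Subgroup.centralizer ((P ⊔ Q : Subgroup S) : Set S),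
      c ∉ P ⊔ Q ∧ c ^ 2 ∈ P ⊔ Q := by
    have hex : ∃ n : ℕ, c₀ ^ 2 ^ n ∈ P ⊔ Q := by
      obtain ⟨k, hk⟩ := h2 c₀
      exact ⟨k, by rw [hk]; exact Subgroup.one_mem _⟩
    classical
    have hn0 : Nat.find hex ≠ 0 := by
      intro h0
      have := Nat.find_spec hex
      rw [h0, pow_zero, pow_one] at this
      exact hc₀E this
    obtain ⟨m, hm⟩ := Nat.exists_eq_succ_of_ne_zero hn0
    refine ⟨c₀ ^ 2 ^ m, Subgroup.pow_mem _ hc₀C _, ?_, ?_⟩
    · exact Nat.find_min hex (by rw [hm]; exact Nat.lt_succ_self m)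
    · have := Nat.find_spec hex
      rw [hm, pow_succ, pow_mul] at this
      exact this
  obtain ⟨A₀, A₂, hA02, hA2P, hZA, hsqA⟩ := exists_chain P hP2 hP hZP
  obtain ⟨B₀, B₂, hB02, hB2Q, hZB, hsqB⟩ := exists_chain Q hQ2 hQ hZQ
  have hA0P : A₀ ≤ P := hA02.le.trans hA2P.le
  have hB0Q : B₀ ≤ Q := hB02.le.trans hB2Q.le
  -- `c` commutes with `P ⊔ Q`
  have hcc : ∀ e ∈ P ⊔ Q, e * c = c * e := fun e he => Subgroup.mem_centralizer_iff.mp hcC e he
  -- `c ^ 2 ∈ A₀ ⊔ B₀`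
  have hc2N : c ^ 2 ∈ A₀ ⊔ B₀ := by
    obtain ⟨x, hx, y, hy, hxy⟩ := mem_sup_of_comm hc hc2E
    have hc2c : ∀ e ∈ P ⊔ Q, e * c ^ 2 = c ^ 2 * e := by
      intro e he
      have := hcc e he
      rw [sq, ← mul_assoc, this, mul_assoc, this, ← mul_assoc]
    have hxZ : x ∈ (Subgroup.center P).map P.subtype := by
      rw [mem_map_center]
      refine ⟨hx, fun p hp => ?_⟩
      have h1 := hc2c p (Subgroup.mem_sup_left hp)
      have h3 := hc p hp y hy
      have ex : x = c ^ 2 * y⁻¹ := by rw [hxy]; group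
      have h4 : p * y⁻¹ = y⁻¹ * p := by
        calc p * y⁻¹ = y⁻¹ * (y * p) * y⁻¹ := by group
          _ = y⁻¹ * (p * y) * y⁻¹ := by rw [h3]
          _ = y⁻¹ * p := by group
      rw [ex, ← mul_assoc, h1, mul_assoc, h4, ← mul_assoc]
    have hyZ : y ∈ (Subgroup.center Q).map Q.subtype := by
      rw [mem_map_center]
      refine ⟨hy, fun q hq => ?_⟩
      have h1 := hc2c q (Subgroup.mem_sup_right hq)
      have h3 := hc x hx q hq
      have ey : y = x⁻¹ * c ^ 2 := by rw [hxy]; group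
      have h4 : q * x⁻¹ = x⁻¹ * q := by
        calc q * x⁻¹ = x⁻¹ * (x * q) * x⁻¹ := by group
          _ = x⁻¹ * (q * x) * x⁻¹ := by rw [h3]
          _ = x⁻¹ * q := by group
      rw [ey, ← mul_assoc, h4, mul_assoc, h1, ← mul_assoc]
    rw [hxy]
    exact Subgroup.mul_mem_sup (hZA hxZ) (hZB hyZ)
  -- squares of `H` lie in `N₀`
  have hsq : ∀ h ∈ (P ⊔ Q) ⊔ Subgroup.zpowers c, h ^ 2 ∈ A₀ ⊔ B₀ := by
    intro h hh
    have hcz : ∀ e ∈ P ⊔ Q, ∀ w ∈ Subgroup.zpowers c, e * w = w * e := by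
      intro e he w hw
      obtain ⟨i, rfl⟩ := Subgroup.mem_zpowers_iff.mp hw
      exact (Commute.zpow_right (hcc e he) i)
    obtain ⟨e, he, w, hw, rfl⟩ := mem_sup_of_comm hcz hh
    obtain ⟨x, hx, y, hy, rfl⟩ := mem_sup_of_comm hc he
    obtain ⟨i, rfl⟩ := Subgroup.mem_zpowers_iff.mp hw
    have h1 : (x * y * c ^ i) ^ 2 = x ^ 2 * y ^ 2 * (c ^ 2) ^ i := by
      have e1 : Commute (x * y) (c ^ i) := hcz _ he _ hw
      have e2 : Commute x y := hc x hx y hy
      have e3 : (c ^ i) ^ 2 = (c ^ 2) ^ i := by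
        rw [← zpow_natCast (c ^ i) 2, ← zpow_mul, ← zpow_natCast c 2, ← zpow_mul, mul_comm]
      rw [e1.mul_pow, e2.mul_pow, e3]
    rw [h1]
    exact Subgroup.mul_mem _ (Subgroup.mul_mem_sup (hsqA x hx) (hsqB y hy))
      (Subgroup.zpow_mem _ hc2N i)
  -- the chain
  have hN01 : A₀ ⊔ B₀ < A₂ ⊔ B₀ := by
    refine lt_of_le_of_ne (sup_le_sup_right hA02.le _) (fun h => hA02.ne ?_)
    calc A₀ = (A₀ ⊔ B₀) ⊓ P := (sup_inf_left hPQ hc hA0P hB0Q).symm
      _ = (A₂ ⊔ B₀) ⊓ P := by rw [h]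
      _ = A₂ := sup_inf_left hPQ hc hA2P.le hB0Q
  have hN12 : A₂ ⊔ B₀ < P ⊔ B₀ := by
    refine lt_of_le_of_ne (sup_le_sup_right hA2P.le _) (fun h => hA2P.ne ?_)
    calc A₂ = (A₂ ⊔ B₀) ⊓ P := (sup_inf_left hPQ hc hA2P.le hB0Q).symm
      _ = (P ⊔ B₀) ⊓ P := by rw [h]
      _ = P := sup_inf_left hPQ hc le_rfl hB0Q
  have hN23 : P ⊔ B₀ < P ⊔ B₂ := by
    refine lt_of_le_of_ne (sup_le_sup_left hB02.le _) (fun h => hB02.ne ?_)
    calc B₀ = (P ⊔ B₀) ⊓ Q := (sup_inf_right hPQ hc le_rfl hB0Q).symm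
      _ = (P ⊔ B₂) ⊓ Q := by rw [h]
      _ = B₂ := sup_inf_right hPQ hc le_rfl hB2Q.le
  have hN34 : P ⊔ B₂ < P ⊔ Q := by
    refine lt_of_le_of_ne (sup_le_sup_left hB2Q.le _) (fun h => hB2Q.ne ?_)
    calc B₂ = (P ⊔ B₂) ⊓ Q := (sup_inf_right hPQ hc le_rfl hB2Q.le).symm
      _ = (P ⊔ Q) ⊓ Q := by rw [h]
      _ = Q := sup_inf_right hPQ hc le_rfl le_rfl
  have hN45 : P ⊔ Q < (P ⊔ Q) ⊔ Subgroup.zpowers c := by
    refine lt_of_le_of_ne le_sup_left (fun h => hcE ?_)
    rw [h]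
    exact Subgroup.mem_sup_right (Subgroup.mem_zpowers c)
  have k1 := two_mul_card_le_of_lt hN01
  have k2 := two_mul_card_le_of_lt hN12
  have k3 := two_mul_card_le_of_lt hN23
  have k4 := two_mul_card_le_of_lt hN34
  have k5 := two_mul_card_le_of_lt hN45
  have hle : A₀ ⊔ B₀ ≤ (P ⊔ Q) ⊔ Subgroup.zpowers c :=
    (sup_le_sup hA0P hB0Q).trans le_sup_left
  have k6 := card_le_of_sq_mem hr _ _ hle hsq
  have hpos : 0 < Nat.card (A₀ ⊔ B₀ : Subgroup S) := Nat.card_pos
  omega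

end Cfsg.Agent.S4400
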