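import Cfsg.Statements.S4401
import Mathlib
import Cfsg.Agent.Lib.Helper53.SR4d

set_option autoImplicit false
open Cfsg

namespace Cfsg.Agent.S4401

open Cfsg.Agent.Helper53.DirProd Cfsg.Agent.Helper53.Soft Cfsg.Agent.Helper53.SR4

/-- Let S be a finite 2-group of sectional 2-rank at most 4 and P a proper non-abelian subgroup whose centre has order 2. Let S₀ be the centralizer in S of Z(P) and suppose P is normal in S₀. Then either S₀ = S, or P has sectional 2-rank at most 2 and S₀ has index 2 in S. -/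
theorem result {S : Type*} [Group S] [Finite S] (h2 : IsPGroup 2 S) (hr : Cfsg.SectionalPRankLE 2 4 S)
    (P : Subgroup S) (hPlt : P ≠ ⊤) (hP : ¬ IsMulCommutative ↥P) (hZP : Nat.card ↥(Subgroup.center ↥P) = 2)
    (S₀ : Subgroup S) (hS₀ : S₀ = Subgroup.centralizer (((Subgroup.center ↥P).map P.subtype : Subgroup S) : Set S))
    (hPn : ∀ s ∈ S₀, ∀ x ∈ P, s * x * s⁻¹ ∈ P) :
    S₀ = ⊤ ∨ (Cfsg.SectionalPRankLE 2 2 ↥P ∧ S₀.index = 2) := by
  have : Fact (Nat.Prime 2) := ⟨Nat.prime_two⟩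
  have hgood : Good P := ⟨hP, hZP⟩
  obtain ⟨z, hz, hz1⟩ := exists_ne_one_of_card_two hgood.card_zc
  have hmem : ∀ g, g ∈ S₀ ↔ g * z = z * g := by
    intro g
    rw [hS₀, Subgroup.mem_centralizer_iff]
    constructor
    · intro h; exact (h z hz).symm
    · intro h y hy
      by_cases hy1 : y = 1
      · rw [hy1]; simp
      · have : y = z := eq_of_card_two hgood.card_zc hy hz hy1 hz1
        rw [this]; exact h.symm
  let c : Cfg S := ⟨P, S₀, z, hgood, hz, hz1, hmem, hPn⟩
  by_cases hlt : S₀ = ⊤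
  · exact Or.inl hlt
  · right
    have hN : c.N = ⊤ := c.N_eq_top h2 hr hlt
    obtain ⟨s, -, hsN', hs0⟩ := exists_mem_normalizer_of_lt h2 (lt_top_iff_ne_top.mpr hlt)
    have hsN : s ∈ c.N := hsN'
    have g2 := hgood.cj s
    have hne12 : zc P ≠ zc (cj s P) := by
      intro h
      rw [zc_cj] at h
      have h' : cj 1 (zc c.P) = cj s (zc c.P) := by rw [cj_one]; exact h
      have := c.mem_of_cj_zc_eq h'
      simp at this
      exact hs0 this
    obtain ⟨d12, c12⟩ := disjoint_of_zc_ne h2 S₀ P (cj s P) c.P_le (c.cjP_le hsN) hPn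
      (c.norm_cjP hsN) hgood.card_zc g2.card_zc hne12
    refine ⟨sectional_two_of_prod hr P s d12 c12, ?_⟩
    rw [Subgroup.index_eq_two_iff]
    refine ⟨s⁻¹, fun b => ?_⟩
    have hs0' : s⁻¹ ∉ S₀ := fun hh => hs0 (by simpa using S₀.inv_mem hh)
    by_cases hb : b ∈ S₀
    · right
      refine ⟨hb, fun hh => hs0' ?_⟩
      have : s⁻¹ = b⁻¹ * (b * s⁻¹) := by group
      rw [this]; exact S₀.mul_mem (S₀.inv_mem hb) hh
    · left
      refine ⟨?_, hb⟩
      have hb' : b⁻¹ ∉ S₀ := fun hh => hb (by simpa using S₀.inv_mem hh)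
      have := c.index_two h2 hr (m := b⁻¹) (m' := s⁻¹) (by rw [hN]; trivial) (by rw [hN]; trivial)
        hb' hs0'
      simpa using this

end Cfsg.Agent.S4401
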