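import Cfsg.Statements.S4403
import Mathlib
import Cfsg.Agent.Lib.Helper34.Components
import Cfsg.Agent.Lib.Helper34.PPrimeCore
import Cfsg.Agent.Lib.Helper73.CyclicSylowNormal

set_option autoImplicit false
open Cfsg

namespace Cfsg.Agent.S4403

open Cfsg.Agent.Helper73
open scoped commutatorElement

variable {K : Type*} [Group K]

/-- center of a non-commutative simple group is trivial -/
lemma center_eq_bot_of_simple {N : Type*} [Group N] (hs : IsSimpleGroup N)
    (hc : ¬ IsMulCommutative N) : Subgroup.center N = ⊥ := by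
  rcases (inferInstance : (Subgroup.center N).Normal).eq_bot_or_eq_top with h | h
  · exact h
  · exfalso
    apply hc
    rw [isMulCommutative_iff]
    intro a b
    have : b ∈ Subgroup.center N := by rw [h]; exact Subgroup.mem_top b
    exact (Subgroup.mem_center_iff.1 this a)

/-- case A: the minimal normal subgroup has order `p` -/
theorem caseA [Finite K] (p : ℕ) [hp : Fact p.Prime] (hO : Cfsg.pPrimeCore p K = ⊥)
    (P : Sylow p K) (hP : IsCyclic ↥(P : Subgroup K))
    (N : Subgroup K) [hNn : N.Normal] (hNcard : Nat.card ↥N = p) :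
    (P : Subgroup K).Normal ∧ Subgroup.centralizer ((P : Subgroup K) : Set K) = (P : Subgroup K) ∧
      (∀ (_ : (P : Subgroup K).Normal), IsCyclic (K ⧸ (P : Subgroup K))) ∧
      (P : Subgroup K).index ∣ p - 1 := by
  have hC := centralizer_eq_sylow_of_normal_prime hO P hP N hNcard
  have hNP : N ≤ (P : Subgroup K) :=
    IsPGroup.le_sylow_of_normal (IsPGroup.of_card (n := 1) (by simpa using hNcard)) P
  have hPn : (P : Subgroup K).Normal := by
    rw [← hC]; exact Subgroup.normal_centralizer
  -- P is commutative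
  obtain ⟨x, hxP, hx⟩ := exists_zpowers_eq (P : Subgroup K) hP
  have hPcomm : ∀ a ∈ (P : Subgroup K), ∀ b ∈ (P : Subgroup K), a * b = b * a := by
    intro a ha b hb
    rw [← hx] at ha hb
    obtain ⟨i, rfl⟩ := Subgroup.mem_zpowers_iff.1 ha
    obtain ⟨j, rfl⟩ := Subgroup.mem_zpowers_iff.1 hb
    rw [← zpow_add, ← zpow_add, add_comm]
  have hcent : Subgroup.centralizer ((P : Subgroup K) : Set K) = (P : Subgroup K) := by
    apply le_antisymm
    · exact (Subgroup.centralizer_le (show (N : Set K) ⊆ ((P : Subgroup K) : Set K) from hNP)).trans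
        hC.le
    · intro u hu
      rw [Subgroup.mem_centralizer_iff]
      intro v hv
      exact hPcomm v hv u hu
  -- the conjugation action on N
  let φ : K →* MulAut ↥N := MulAut.conjNormal
  have hker : φ.ker = (P : Subgroup K) := by
    rw [← hC]
    ext g
    rw [MonoidHom.mem_ker, Subgroup.mem_centralizer_iff]
    constructor
    · intro h n hn
      have := congrArg (fun α : MulAut ↥N => ((α ⟨n, hn⟩ : ↥N) : K)) h
      simp only [φ, MulAut.conjNormal_apply, MulAut.one_apply] at this
      calc n * g = (g * n * g⁻¹) * g := by rw [this]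
        _ = g * n := by group
    · intro h
      ext n
      simp only [φ, MulAut.conjNormal_apply, MulAut.one_apply]
      rw [← h n n.2]; group
  have hNcyc : IsCyclic ↥N := isCyclic_of_prime_card hNcard
  have hprime : Fact (Nat.card ↥N).Prime := ⟨hNcard ▸ hp.out⟩
  have hAutcyc : IsCyclic (MulAut ↥N) := by
    have e := IsCyclic.mulAutMulEquiv ↥N
    exact isCyclic_of_surjective e.symm.toMonoidHom e.symm.surjective
  have hAutcard : Nat.card (MulAut ↥N) = p - 1 := by
    rw [IsCyclic.card_mulAut, hNcard, Nat.totient_prime hp.out]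
  have e1 : K ⧸ φ.ker ≃* φ.range := QuotientGroup.quotientKerEquivRange φ
  have hrcyc : IsCyclic ↥φ.range := Subgroup.isCyclic _
  refine ⟨hPn, hcent, ?_, ?_⟩
  · intro hPn'
    have e2 : K ⧸ (P : Subgroup K) ≃* K ⧸ φ.ker := QuotientGroup.quotientMulEquivOfEq hker.symm
    exact isCyclic_of_surjective (e2.trans e1).symm.toMonoidHom (e2.trans e1).symm.surjective
  · rw [← hker, Subgroup.index, Nat.card_congr e1.toEquiv, ← hAutcard]
    exact Subgroup.card_subgroup_dvd_card _

/-- case B: the minimal normal subgroup is non-abelian simple -/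
theorem caseB [Finite K] (p : ℕ) [hp : Fact p.Prime] (hO : Cfsg.pPrimeCore p K = ⊥)
    (P : Sylow p K) (hP : IsCyclic ↥(P : Subgroup K))
    (N : Subgroup K) [hNn : N.Normal] (hN0 : N ≠ ⊥)
    (hNmin : ∀ M : Subgroup K, M.Normal → M ≠ ⊥ → M ≤ N → M = N)
    (hNs : IsSimpleGroup ↥N) (hNc : ¬ IsMulCommutative ↥N) (hpN : p ∣ Nat.card ↥N) :
    Cfsg.generalizedFittingSubgroup K = N ∧ ¬ p ∣ N.index := by
  have hPN := sylow_le_of_simple_normal P hP N hNs hNc hpN
  have hcenter := center_eq_bot_of_simple hNs hNc
  -- C_K(N) = ⊥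
  have hCN : Subgroup.centralizer (N : Set K) = ⊥ := by
    by_contra hne
    have hCn : (Subgroup.centralizer (N : Set K)).Normal := Subgroup.normal_centralizer
    have hpC : p ∣ Nat.card ↥(Subgroup.centralizer (N : Set K)) := by
      by_contra hnd
      have hc : (Nat.card ↥(Subgroup.centralizer (N : Set K))).Coprime p :=
        Nat.coprime_comm.1 ((Nat.Prime.coprime_iff_not_dvd hp.out).2 hnd)
      have := Cfsg.Agent.Helper34.le_pPrimeCore hCn hc
      rw [hO] at this
      exact hne (le_bot_iff.1 this)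
    obtain ⟨a, haN, ha⟩ := exists_mem_orderOf_eq p N hpN
    obtain ⟨b, hbC, hb⟩ := exists_mem_orderOf_eq p _ hpC
    have hab : a * b = b * a := (Subgroup.mem_centralizer_iff.1 hbC a haN)
    have hbz := mem_zpowers_of_commute_of_cyclic_sylow P hP a b ha hb hab
    have hbN : b ∈ N := (Subgroup.zpowers_le.2 haN) hbz
    have hbcen : (⟨b, hbN⟩ : ↥N) ∈ Subgroup.center ↥N := by
      rw [Subgroup.mem_center_iff]
      intro g
      apply Subtype.ext
      simp only [Subgroup.coe_mul]
      exact (Subgroup.mem_centralizer_iff.1 hbC g g.2)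
    rw [hcenter, Subgroup.mem_bot] at hbcen
    have hb1 : b = 1 := congrArg Subtype.val hbcen
    rw [hb1, orderOf_one] at hb
    exact hp.out.one_lt.ne hb
  -- Fitting subgroup trivial
  have hFit : Cfsg.fittingSubgroup K = ⊥ := by
    unfold Cfsg.fittingSubgroup
    rw [sSup_eq_bot]
    rintro M ⟨hMn, hMnil⟩
    by_contra hM0
    have hMN : (M ⊓ N).Normal := inferInstance
    by_cases hinf : M ⊓ N = ⊥
    · have hcomm := Subgroup.commute_of_normal_of_disjoint M N hMn hNn (disjoint_iff.2 hinf)
      have : M ≤ Subgroup.centralizer (N : Set K) := by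
        intro m hm
        rw [Subgroup.mem_centralizer_iff]
        intro n hn
        exact ((hcomm m n hm hn).eq).symm
      rw [hCN] at this
      exact hM0 (le_bot_iff.1 this)
    · have h1 := hNmin _ hMN hinf inf_le_right
      have hNM : N ≤ M := by rw [← h1]; exact inf_le_left
      have hnilN : Group.IsNilpotent ↥N := by
        have : Group.IsNilpotent ↥(N.subgroupOf M) := Subgroup.isNilpotent _
        exact Group.nilpotent_of_mulEquiv (Subgroup.subgroupOfEquivOfLe hNM)
      have hsol : Group.IsSolvable ↥N := inferInstance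
      apply hNc
      rw [isMulCommutative_iff]
      exact IsSimpleGroup.comm_iff_isSolvable.2 hsol
  -- layer
  have hNcomp : Cfsg.IsComponent N := by
    refine ⟨Subgroup.Normal.isSubnormal hNn, ?_, ?_⟩
    · rw [Group.isPerfect_def]
      rcases (inferInstance : (commutator ↥N).Normal).eq_bot_or_eq_top with h | h
      · exfalso
        apply hNc
        rw [isMulCommutative_iff]
        intro a b
        have hab : ⁅a, b⁆ ∈ commutator ↥N := Subgroup.commutator_mem_commutator
          (Subgroup.mem_top a) (Subgroup.mem_top b)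
        rw [h, Subgroup.mem_bot, commutatorElement_eq_one_iff_mul_comm] at hab
        exact hab
      · exact h
    · have hnt : Nontrivial (↥N ⧸ Subgroup.center ↥N) := by
        rw [hcenter]
        have : Nontrivial ↥N := hNs.toNontrivial
        exact (QuotientGroup.quotientBot (G := ↥N)).toEquiv.nontrivial
      exact IsSimpleGroup.isSimpleGroup_of_surjective (QuotientGroup.mk' (Subgroup.center ↥N))
        (QuotientGroup.mk'_surjective _)
  have hlayer : Cfsg.layer K = N := by
    unfold Cfsg.layer
    apply le_antisymm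
    · apply sSup_le
      intro L hL
      rcases Cfsg.Agent.Helper34.component_le_or_commutator_eq_bot L N hL with h | h
      · exact h
      · exfalso
        rw [Subgroup.commutator_eq_bot_iff_le_centralizer, hCN, le_bot_iff] at h
        have hnt := Cfsg.Agent.Helper34.IsQuasisimple_nontrivial hL.2
        rw [Subgroup.nontrivial_iff_ne_bot] at hnt
        exact hnt h
    · exact le_sSup hNcomp
  refine ⟨?_, ?_⟩
  · unfold Cfsg.generalizedFittingSubgroup
    rw [hlayer, hFit, sup_bot_eq]
  · intro hd
    exact P.not_dvd_index (hd.trans (Subgroup.index_dvd_of_le hPN))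

theorem result {K : Type*} [Group K] [Finite K] (p : ℕ) [Fact p.Prime] (hp : p ∣ Nat.card K) (hO : Cfsg.pPrimeCore p K = ⊥)
    (P : Sylow p K) (hP : IsCyclic ↥(P : Subgroup K)) :
    ((P : Subgroup K).Normal ∧ Subgroup.centralizer ((P : Subgroup K) : Set K) = (P : Subgroup K) ∧
      (∀ (_ : (P : Subgroup K).Normal), IsCyclic (K ⧸ (P : Subgroup K))) ∧ (P : Subgroup K).index ∣ p - 1) ∨
    (IsSimpleGroup ↥(Cfsg.generalizedFittingSubgroup K) ∧ ¬ IsMulCommutative ↥(Cfsg.generalizedFittingSubgroup K) ∧
      ¬ p ∣ (Cfsg.generalizedFittingSubgroup K).index) := by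
  have hpp : Fact p.Prime := inferInstance
  have hnt : (⊤ : Subgroup K) ≠ ⊥ := by
    intro h
    have h1 : Nat.card K = 1 := by
      rw [← Subgroup.card_top (G := K), h, Subgroup.card_bot]
    rw [h1] at hp
    exact hpp.out.one_lt.ne' (Nat.dvd_one.1 hp)
  obtain ⟨N, ⟨hNn, hN0⟩, -, hNmin'⟩ := exists_minimal_subgroup
    (fun M : Subgroup K => M.Normal ∧ M ≠ ⊥) (Nat.card (⊤ : Subgroup K)) ⊤ rfl ⟨inferInstance, hnt⟩
  have hNmin : ∀ M : Subgroup K, M.Normal → M ≠ ⊥ → M ≤ N → M = N :=
    fun M h1 h2 h3 => hNmin' M ⟨h1, h2⟩ h3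
  have hpN : p ∣ Nat.card ↥N := by
    by_contra hnd
    have hc : (Nat.card ↥N).Coprime p :=
      Nat.coprime_comm.1 ((Nat.Prime.coprime_iff_not_dvd hpp.out).2 hnd)
    have := Cfsg.Agent.Helper34.le_pPrimeCore hNn hc
    rw [hO] at this
    exact hN0 (le_bot_iff.1 this)
  have hNs : IsSimpleGroup ↥N := minimal_normal_isSimple hO P hP N hN0 hNmin
  by_cases hNc : IsMulCommutative ↥N
  · left
    have hNcard : Nat.card ↥N = p := by
      obtain ⟨a, haN, ha⟩ := exists_mem_orderOf_eq p N hpN
      have hz : (Subgroup.zpowers (⟨a, haN⟩ : ↥N)).Normal := Subgroup.normal_of_isMulCommutative _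
      rcases hz.eq_bot_or_eq_top with h | h
      · exfalso
        have h1 : (⟨a, haN⟩ : ↥N) = 1 := by
          have := Subgroup.mem_zpowers (⟨a, haN⟩ : ↥N)
          rwa [h, Subgroup.mem_bot] at this
        have h2 : a = 1 := congrArg Subtype.val h1
        rw [h2, orderOf_one] at ha
        exact hpp.out.one_lt.ne ha
      · have h1 : Nat.card ↥(Subgroup.zpowers (⟨a, haN⟩ : ↥N)) = Nat.card ↥N := by
          rw [h, Subgroup.card_top]
        rw [← h1, Nat.card_zpowers, Subgroup.orderOf_mk, ha]
    exact caseA p hO P hP N hNcard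
  · right
    obtain ⟨hF, hidx⟩ := caseB p hO P hP N hN0 hNmin hNs hNc hpN
    rw [hF]
    exact ⟨hNs, hNc, hidx⟩

end Cfsg.Agent.S4403
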