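import Cfsg.Statements.S4405
import Cfsg.Agent.Lib.Helper89.Order320
import Cfsg.Agent.Lib.Helper94.Solvable

set_option autoImplicit false
open Cfsg

namespace Cfsg.Agent.S4405

/-- Let G be a finite group of order 320 = 64·5 whose largest normal 2-subgroup H = O₂(G) equals the Fitting subgroup F(G) and is extraspecial of order 32 containing no elementary abelian subgroup of order 8 (so H is the central product of a quaternion group and a dihedral group of order 8). If T is an involution of G outside H whose centralizer in H contains an elementary abelian subgroup of order 4, then C_H(T) itself is elementary abelian of order 4. -/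
theorem result {G : Type*} [Group G] [Finite G]
    (hG : Nat.card G = 320) (hHF : Cfsg.pCore 2 G = Cfsg.fittingSubgroup G)
    (hex : Cfsg.IsExtraspecial 2 ↥(Cfsg.pCore 2 G)) (h32 : Nat.card ↥(Cfsg.pCore 2 G) = 32)
    (hminus : ∀ A : Subgroup G, A ≤ Cfsg.pCore 2 G → Cfsg.IsElementaryAbelian 2 A → Nat.card ↥A ≤ 4)
    (T : G) (hT : orderOf T = 2) (hTH : T ∉ Cfsg.pCore 2 G)
    (V : Subgroup G) (hV : V ≤ Cfsg.pCore 2 G ⊓ Subgroup.centralizer ({T} : Set G)) (hV4 : Nat.card ↥V = 4) (hVe : Cfsg.IsElementaryAbelian 2 V) :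
    Nat.card ↥(Cfsg.pCore 2 G ⊓ Subgroup.centralizer ({T} : Set G)) = 4 ∧
      Cfsg.IsElementaryAbelian 2 (Cfsg.pCore 2 G ⊓ Subgroup.centralizer ({T} : Set G)) := by
  open Cfsg.Agent.Helper89 in
  have hn : (Cfsg.pCore 2 G).Normal := Cfsg.Agent.Helper94.pCore_normal 2
  obtain ⟨z, hES, -⟩ := ES.of_extraspecial (Cfsg.pCore 2 G) hex
  have hcardQ : Nat.card (G ⧸ Cfsg.pCore 2 G) = 10 := by
    have := Subgroup.card_eq_card_quotient_mul_card_subgroup (Cfsg.pCore 2 G)
    rw [hG, h32] at this
    omega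
  have hsolv : Group.IsSolvable G :=
    isSolvable_of_normal_two_group_index_ten (Cfsg.pCore 2 G) hex.1.1 hcardQ
  have hcent : Subgroup.centralizer ((Cfsg.pCore 2 G : Subgroup G) : Set G) ≤ Cfsg.pCore 2 G := by
    have := Cfsg.Agent.Helper94.centralizer_fitting_le (G := G)
    rw [← hHF] at this
    exact this
  have hT2 : T * T = 1 := by
    rw [← pow_two, ← hT]; exact pow_orderOf_eq_one T
  have h4 := order320_centralizer hES hex hG h32 hcent hminus T hT2 hTH V hV hV4
  refine ⟨h4, ?_⟩
  have hVC : V = Cfsg.pCore 2 G ⊓ Subgroup.centralizer ({T} : Set G) :=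
    Subgroup.eq_of_le_of_card_ge hV (by rw [h4, hV4])
  rw [← hVC]
  exact hVe

end Cfsg.Agent.S4405
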