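import Cfsg.Statements.S4406
import Mathlib

set_option autoImplicit false
open Cfsg

namespace Cfsg.Agent.S4406

/-- the alternating group of degree 4 -/
abbrev A := ↥(alternatingGroup (Fin 4))

section facts

set_option maxRecDepth 100000 in
set_option synthInstance.maxSize 10000 in
set_option synthInstance.maxHeartbeats 400000 in
theorem sq_of_pow_four : ∀ a : A, a ^ 4 = 1 → a ^ 2 = 1 := by decide

set_option maxRecDepth 100000 in
set_option synthInstance.maxSize 10000 in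
set_option synthInstance.maxHeartbeats 400000 in
theorem pow_twelve : ∀ a : A, a ^ 12 = 1 := by decide

-- conjugation by an element of order 3 on the non-identity elements of the four-group
set_option maxRecDepth 100000 in
set_option synthInstance.maxSize 10000 in
set_option synthInstance.maxHeartbeats 400000 in
theorem conj_facts : ∀ c v : A, c ≠ 1 → c ^ 3 = 1 → v ≠ 1 → v ^ 2 = 1 →
    (c * v * c⁻¹ ≠ v ∧ c * v * c⁻¹ ≠ 1 ∧ (c * v * c⁻¹) ^ 2 = 1 ∧
      c * (c * v * c⁻¹) * c⁻¹ = v * (c * v * c⁻¹) ∧ c⁻¹ * v * c = v * (c * v * c⁻¹) ∧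
      c * (v * (c * v * c⁻¹)) * c⁻¹ = v) := by decide

set_option maxRecDepth 100000 in
set_option synthInstance.maxSize 10000 in
set_option synthInstance.maxHeartbeats 400000 in
theorem third_elt : ∀ c v u : A, c ≠ 1 → c ^ 3 = 1 → v ≠ 1 → v ^ 2 = 1 → u ^ 2 = 1 → u ≠ 1 → u ≠ v →
    (u = c * v * c⁻¹ ∨ u = c⁻¹ * v * c) := by decide

set_option maxRecDepth 100000 in
set_option synthInstance.maxSize 10000 in
set_option synthInstance.maxHeartbeats 400000 in
theorem four_group_comm : ∀ u v : A, u ^ 2 = 1 → v ^ 2 = 1 → u * v = v * u ∧ (u * v) ^ 2 = 1 := by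
  decide

theorem sq_of_pow_two_pow (a : A) (k : ℕ) (h : a ^ (2 ^ k) = 1) : a ^ 2 = 1 := by
  apply sq_of_pow_four
  have h1 : orderOf a ∣ 2 ^ k := orderOf_dvd_of_pow_eq_one h
  have h2 : orderOf a ∣ 12 := orderOf_dvd_of_pow_eq_one (pow_twelve a)
  obtain ⟨j, -, hj⟩ := (Nat.dvd_prime_pow Nat.prime_two).mp h1
  rw [hj] at h2
  have hj2 : j ≤ 2 := by
    by_contra hlt
    push Not at hlt
    have : 2 ^ 3 ∣ 2 ^ j := pow_dvd_pow 2 hlt
    have h8 : 8 ∣ 12 := by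
      have := this.trans h2
      norm_num at this
    omega
  have h4 : orderOf a ∣ 4 := by
    rw [hj]
    exact (pow_dvd_pow 2 hj2)
  exact orderOf_dvd_iff_pow_eq_one.mp h4

theorem cube_of_pow_three_pow (a : A) (k : ℕ) (h : a ^ (3 ^ k) = 1) : a ^ 3 = 1 := by
  have h1 : orderOf a ∣ 3 ^ k := orderOf_dvd_of_pow_eq_one h
  have h2 : orderOf a ∣ 12 := orderOf_dvd_of_pow_eq_one (pow_twelve a)
  obtain ⟨j, -, hj⟩ := (Nat.dvd_prime_pow Nat.prime_three).mp h1
  rw [hj] at h2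
  have hj2 : j ≤ 1 := by
    by_contra hlt
    push Not at hlt
    have : 3 ^ 2 ∣ 3 ^ j := pow_dvd_pow 3 hlt
    have h9 : 9 ∣ 12 := by
      have := this.trans h2
      norm_num at this
    omega
  have h3 : orderOf a ∣ 3 := by
    rw [hj]
    exact (pow_dvd_pow 3 hj2)
  exact orderOf_dvd_iff_pow_eq_one.mp h3

end facts

section main

/-- the final step: a diagonal element of order 3 of `Q` permuting `B` -/
theorem finish (Q : Sylow 3 (A × A)) (B : Subgroup (A × A)) (hB4 : Nat.card ↥B = 4)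
    (hsq : ∀ p ∈ B, p.1 ^ 2 = 1 ∧ p.2 ^ 2 = 1)
    (c d v w : A) (hc1 : c ≠ 1) (hc3 : c ^ 3 = 1) (hd1 : d ≠ 1) (hd3 : d ^ 3 = 1)
    (hcQ : ((c, 1) : A × A) ∈ (Q : Subgroup (A × A))) (hdQ : ((1, d) : A × A) ∈ (Q : Subgroup (A × A)))
    (hv1 : v ≠ 1) (hw1 : w ≠ 1) (hx : ((v, w) : A × A) ∈ B)
    (hy : ((c * v * c⁻¹, d * w * d⁻¹) : A × A) ∈ B) :
    ∃ R : Subgroup (A × A), R ≤ (Q : Subgroup _) ∧ Nat.card ↥R = 3 ∧
        R ≠ (Q : Subgroup _) ⊓ Subgroup.prod ⊤ ⊥ ∧ R ≠ (Q : Subgroup _) ⊓ Subgroup.prod ⊥ ⊤ ∧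
        R ≤ Subgroup.normalizer (B : Set _) := by
  obtain ⟨hv2, hw2⟩ := hsq _ hx
  simp only at hv2 hw2
  obtain ⟨cv1, cv2, cv3, cv4, cv5, cv6⟩ := conj_facts c v hc1 hc3 hv1 hv2
  obtain ⟨dw1, dw2, dw3, dw4, dw5, dw6⟩ := conj_facts d w hd1 hd3 hw1 hw2
  set x : A × A := (v, w) with hxdef
  set y : A × A := (c * v * c⁻¹, d * w * d⁻¹) with hydef
  set g : A × A := (c, d) with hgdef
  have hg3 : g ^ 3 = 1 := by
    rw [hgdef, Prod.pow_mk, hc3, hd3]; rfl
  have hg1 : g ≠ 1 := by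
    intro h
    apply hc1
    exact congrArg Prod.fst h
  have hgQ : g ∈ (Q : Subgroup (A × A)) := by
    have : g = (c, 1) * (1, d) := by
      rw [hgdef, Prod.mk_mul_mk, mul_one, one_mul]
    rw [this]
    exact Subgroup.mul_mem _ hcQ hdQ
  -- conjugation by g
  have hgx : g * x * g⁻¹ = y := by
    rw [hgdef, hxdef, hydef]; rfl
  have hgy : g * y * g⁻¹ = x * y := by
    rw [hgdef, hxdef, hydef]
    show (c * (c * v * c⁻¹) * c⁻¹, d * (d * w * d⁻¹) * d⁻¹) = (v * (c * v * c⁻¹), w * (d * w * d⁻¹))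
    rw [cv4, dw4]
  have hgxy : g * (x * y) * g⁻¹ = x := by
    rw [hgdef, hxdef, hydef]
    show (c * (v * (c * v * c⁻¹)) * c⁻¹, d * (w * (d * w * d⁻¹)) * d⁻¹) = (v, w)
    rw [cv6, dw6]
  -- the elements of B
  have hxy : x * y ∈ B := B.mul_mem hx hy
  have hne1 : x ≠ 1 := fun h => hv1 (congrArg Prod.fst h)
  have hne2 : y ≠ 1 := fun h => cv2 (congrArg Prod.fst h)
  have hne3 : x ≠ y := fun h => cv1 (congrArg Prod.fst h).symm
  have hne4 : x * y ≠ 1 := by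
    intro h
    have h1 : v * (c * v * c⁻¹) = 1 := congrArg Prod.fst h
    apply cv1
    calc c * v * c⁻¹ = v * (v * (c * v * c⁻¹)) := by
          rw [← mul_assoc, ← sq, hv2, one_mul]
      _ = v := by rw [h1, mul_one]
  have hne5 : x * y ≠ x := by
    intro h
    apply hne2
    calc y = x⁻¹ * (x * y) := by group
      _ = 1 := by rw [h]; group
  have hne6 : x * y ≠ y := by
    intro h
    apply hne1
    calc x = (x * y) * y⁻¹ := by group
      _ = 1 := by rw [h]; group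
  have hBset : ({1, x, y, x * y} : Set (A × A)) = (B : Set (A × A)) := by
    apply Set.eq_of_subset_of_ncard_le
    · intro z hz
      simp only [Set.mem_insert_iff, Set.mem_singleton_iff] at hz
      rcases hz with rfl | rfl | rfl | rfl
      · exact B.one_mem
      · exact hx
      · exact hy
      · exact hxy
    · have hB4' : (B : Set (A × A)).ncard = 4 := by
        rw [← Nat.card_coe_set_eq]; exact hB4
      rw [hB4']
      rw [Set.ncard_insert_of_notMem, Set.ncard_insert_of_notMem, Set.ncard_pair]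
      · exact Ne.symm hne6
      · simp only [Set.mem_insert_iff, Set.mem_singleton_iff, not_or]
        exact ⟨hne3, Ne.symm hne5⟩
      · simp only [Set.mem_insert_iff, Set.mem_singleton_iff, not_or]
        exact ⟨Ne.symm hne1, Ne.symm hne2, Ne.symm hne4⟩
    · exact Set.toFinite _
  have hBmem : ∀ h ∈ B, h = 1 ∨ h = x ∨ h = y ∨ h = x * y := by
    intro h hh
    have : h ∈ ({1, x, y, x * y} : Set (A × A)) := by rw [hBset]; exact hh
    simpa using this
  have fwd : ∀ h ∈ B, g * h * g⁻¹ ∈ B := by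
    intro h hh
    rcases hBmem h hh with rfl | rfl | rfl | rfl
    · simp [B.one_mem]
    · rw [hgx]; exact hy
    · rw [hgy]; exact hxy
    · rw [hgxy]; exact hx
  refine ⟨Subgroup.zpowers g, ?_, ?_, ?_, ?_, ?_⟩
  · exact Subgroup.zpowers_le.mpr hgQ
  · rw [Nat.card_zpowers]
    exact orderOf_eq_prime hg3 hg1
  · intro h
    have hg : g ∈ (Q : Subgroup (A × A)) ⊓ Subgroup.prod ⊤ ⊥ := by
      rw [← h]; exact Subgroup.mem_zpowers g
    have := (Subgroup.mem_prod.mp hg.2).2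
    rw [Subgroup.mem_bot] at this
    exact hd1 this
  · intro h
    have hg : g ∈ (Q : Subgroup (A × A)) ⊓ Subgroup.prod ⊥ ⊤ := by
      rw [← h]; exact Subgroup.mem_zpowers g
    have := (Subgroup.mem_prod.mp hg.2).1
    rw [Subgroup.mem_bot] at this
    exact hc1 this
  · apply Subgroup.zpowers_le.mpr
    rw [Subgroup.mem_normalizer_iff]
    intro h
    constructor
    · exact fwd h
    · intro hh
      have h2 := fwd _ (fwd _ hh)
      have e : g * (g * (g * h * g⁻¹) * g⁻¹) * g⁻¹ = (g * g * g) * h * (g * g * g)⁻¹ := by group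
      have hg3' : g * g * g = 1 := by
        rw [← hg3, pow_succ, pow_succ, pow_one]
      rw [e, hg3'] at h2
      simpa using h2

set_option maxRecDepth 100000 in
set_option synthInstance.maxSize 10000 in
set_option synthInstance.maxHeartbeats 400000 in
theorem exists_order_three : ∃ c : A, c ≠ 1 ∧ c ^ 3 = 1 := by decide

/-- a Sylow 3-subgroup of `A × A` contains every 3-element up to conjugacy -/
theorem exists_conj_mem (Q : Sylow 3 (A × A)) (z : A × A) (hz1 : z ≠ 1) (hz3 : z ^ 3 = 1) :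
    ∃ g : A × A, g * z * g⁻¹ ∈ (Q : Subgroup (A × A)) := by
  have hP : IsPGroup 3 (Subgroup.zpowers z) := by
    apply IsPGroup.of_card (n := 1)
    rw [Nat.card_zpowers, pow_one]
    exact orderOf_eq_prime hz3 hz1
  obtain ⟨Q', hQ'⟩ := hP.exists_le_sylow
  obtain ⟨g, hg⟩ := MulAction.exists_smul_eq (A × A) Q' Q
  have hmem : z ∈ (Q' : Subgroup (A × A)) := hQ' (Subgroup.mem_zpowers _)
  refine ⟨g, ?_⟩
  rw [← hg, Sylow.smul_def, Sylow.pointwise_smul_def]
  have := Subgroup.smul_mem_pointwise_smul _ (MulAut.conj g) _ hmem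
  simpa [MulAut.smul_def] using this

theorem exists_left (Q : Sylow 3 (A × A)) :
    ∃ c : A, c ≠ 1 ∧ c ^ 3 = 1 ∧ ((c, 1) : A × A) ∈ (Q : Subgroup (A × A)) := by
  obtain ⟨c₀, hc1, hc3⟩ := exists_order_three
  obtain ⟨g, hg⟩ := exists_conj_mem Q ((c₀, 1) : A × A)
    (fun h => hc1 (congrArg Prod.fst h)) (by rw [Prod.pow_mk, hc3, one_pow]; rfl)
  refine ⟨g.1 * c₀ * g.1⁻¹, ?_, ?_, ?_⟩
  · intro h
    apply hc1
    have e : c₀ = g.1⁻¹ * (g.1 * c₀ * g.1⁻¹) * g.1 := by group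
    rw [e, h]; group
  · rw [conj_pow, hc3]; group
  · have e : g * ((c₀, 1) : A × A) * g⁻¹ = (g.1 * c₀ * g.1⁻¹, 1) := by
      ext <;> simp
    rw [← e]; exact hg

theorem exists_right (Q : Sylow 3 (A × A)) :
    ∃ c : A, c ≠ 1 ∧ c ^ 3 = 1 ∧ ((1, c) : A × A) ∈ (Q : Subgroup (A × A)) := by
  obtain ⟨c₀, hc1, hc3⟩ := exists_order_three
  obtain ⟨g, hg⟩ := exists_conj_mem Q ((1, c₀) : A × A)
    (fun h => hc1 (congrArg Prod.snd h)) (by rw [Prod.pow_mk, hc3, one_pow]; rfl)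
  refine ⟨g.2 * c₀ * g.2⁻¹, ?_, ?_, ?_⟩
  · intro h
    apply hc1
    have e : c₀ = g.2⁻¹ * (g.2 * c₀ * g.2⁻¹) * g.2 := by group
    rw [e, h]; group
  · rw [conj_pow, hc3]; group
  · have e : g * ((1, c₀) : A × A) * g⁻¹ = (1, g.2 * c₀ * g.2⁻¹) := by
      ext <;> simp
    rw [← e]; exact hg

end main

/-- In the direct product P = A₄ × A₄, let X be the Sylow 2-subgroup, X₁ and X₂ its intersections with the two direct factors, Q a Sylow 3-subgroup and Q₁, Q₂ its intersections with the two factors. Then every subgroup B of X of order 4 either meets X₁ or X₂ nontrivially, or is normalized by one of the two subgroups of Q of order 3 other than Q₁ and Q₂. -/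
theorem result
    (X : Sylow 2 (↥(alternatingGroup (Fin 4)) × ↥(alternatingGroup (Fin 4))))
    (Q : Sylow 3 (↥(alternatingGroup (Fin 4)) × ↥(alternatingGroup (Fin 4))))
    (B : Subgroup (↥(alternatingGroup (Fin 4)) × ↥(alternatingGroup (Fin 4)))) (hBX : B ≤ (X : Subgroup _)) (hB4 : Nat.card ↥B = 4) :
    B ⊓ ((X : Subgroup _) ⊓ Subgroup.prod ⊤ ⊥) ≠ ⊥ ∨ B ⊓ ((X : Subgroup _) ⊓ Subgroup.prod ⊥ ⊤) ≠ ⊥ ∨
      ∃ R : Subgroup (↥(alternatingGroup (Fin 4)) × ↥(alternatingGroup (Fin 4))), R ≤ (Q : Subgroup _) ∧ Nat.card ↥R = 3 ∧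
        R ≠ (Q : Subgroup _) ⊓ Subgroup.prod ⊤ ⊥ ∧ R ≠ (Q : Subgroup _) ⊓ Subgroup.prod ⊥ ⊤ ∧ R ≤ Subgroup.normalizer (B : Set _) := by
  by_contra hcon
  push Not at hcon
  obtain ⟨h1, h2, h3⟩ := hcon
  -- elements of X have components of order dividing 2
  have hXsq : ∀ p ∈ (X : Subgroup (A × A)), p.1 ^ 2 = 1 ∧ p.2 ^ 2 = 1 := by
    intro p hp
    obtain ⟨k, hk⟩ := X.2 ⟨p, hp⟩
    have hk' : p ^ (2 ^ k) = 1 := by
      have := congrArg Subtype.val hk
      simpa using this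
    constructor
    · apply sq_of_pow_two_pow _ k
      have := congrArg Prod.fst hk'
      simpa using this
    · apply sq_of_pow_two_pow _ k
      have := congrArg Prod.snd hk'
      simpa using this
  have hsq : ∀ p ∈ B, p.1 ^ 2 = 1 ∧ p.2 ^ 2 = 1 := fun p hp => hXsq p (hBX hp)
  -- the projections are injective on B
  have hB1 : ∀ p ∈ B, p.2 = 1 → p = 1 := by
    intro p hp h
    have hmem : p ∈ B ⊓ ((X : Subgroup (A × A)) ⊓ Subgroup.prod ⊤ ⊥) := by
      refine ⟨hp, hBX hp, ?_⟩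
      apply Subgroup.mem_prod.mpr
      exact ⟨Subgroup.mem_top _, Subgroup.mem_bot.mpr h⟩
    rw [h1] at hmem
    exact Subgroup.mem_bot.mp hmem
  have hB2 : ∀ p ∈ B, p.1 = 1 → p = 1 := by
    intro p hp h
    have hmem : p ∈ B ⊓ ((X : Subgroup (A × A)) ⊓ Subgroup.prod ⊥ ⊤) := by
      refine ⟨hp, hBX hp, ?_⟩
      apply Subgroup.mem_prod.mpr
      exact ⟨Subgroup.mem_bot.mpr h, Subgroup.mem_top _⟩
    rw [h2] at hmem
    exact Subgroup.mem_bot.mp hmem
  -- elements of order 3 of Q in the two factors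
  obtain ⟨c₁, hc11, hc13, hc1Q⟩ := exists_left Q
  obtain ⟨c₂, hc21, hc23, hc2Q⟩ := exists_right Q
  -- two distinct non-identity elements of B
  have hB4' : (B : Set (A × A)).ncard = 4 := by
    rw [← Nat.card_coe_set_eq]; exact hB4
  have hex : ∃ x ∈ B, ∃ y ∈ B, x ≠ 1 ∧ y ≠ 1 ∧ x ≠ y := by
    have h24 : 2 < (B : Set (A × A)).ncard := by rw [hB4']; norm_num
    obtain ⟨a, b, c, ha, hb, hc, hab, hac, hbc⟩ := (Set.two_lt_ncard_iff).mp h24
    by_cases ha1 : a = 1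
    · refine ⟨b, hb, c, hc, ?_, ?_, hbc⟩
      · rw [← ha1]; exact Ne.symm hab
      · rw [← ha1]; exact Ne.symm hac
    · by_cases hb1 : b = 1
      · refine ⟨a, ha, c, hc, ha1, ?_, hac⟩
        rw [← hb1]; exact Ne.symm hbc
      · exact ⟨a, ha, b, hb, ha1, hb1, hab⟩
  obtain ⟨x, hx, y', hy', hx1, hy'1, hxy'⟩ := hex
  obtain ⟨hv2, hw2⟩ := hsq x hx
  have hv1 : x.1 ≠ 1 := fun h => hx1 (hB2 x hx h)
  have hw1 : x.2 ≠ 1 := fun h => hx1 (hB1 x hx h)
  obtain ⟨cv1, cv2, cv3, cv4, cv5, cv6⟩ := conj_facts c₁ x.1 hc11 hc13 hv1 hv2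
  -- an element y of B with first component the conjugate of x.1
  have hy : ∃ y ∈ B, y.1 = c₁ * x.1 * c₁⁻¹ := by
    have hy'v1 : y'.1 ≠ 1 := fun h => hy'1 (hB2 y' hy' h)
    have hy'v : y'.1 ≠ x.1 := by
      intro h
      apply hxy'
      have hm : x⁻¹ * y' ∈ B := B.mul_mem (B.inv_mem hx) hy'
      have : x⁻¹ * y' = 1 := by
        apply hB2 _ hm
        show x.1⁻¹ * y'.1 = 1
        rw [h]; group
      calc x = x * (x⁻¹ * y') := by rw [this, mul_one]
        _ = y' := by group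
    rcases third_elt c₁ x.1 y'.1 hc11 hc13 hv1 hv2 (hsq y' hy').1 hy'v1 hy'v with h | h
    · exact ⟨y', hy', h⟩
    · refine ⟨x * y', B.mul_mem hx hy', ?_⟩
      show x.1 * y'.1 = c₁ * x.1 * c₁⁻¹
      rw [h, cv5, ← mul_assoc, ← sq, hv2, one_mul]
  obtain ⟨y, hyB, hy1⟩ := hy
  have hyne1 : y ≠ 1 := by
    intro h
    apply cv2
    rw [← hy1, h]; rfl
  have hyx : y ≠ x := by
    intro h
    apply cv1
    rw [← hy1, h]
  have hy2ne1 : y.2 ≠ 1 := fun h => hyne1 (hB1 y hyB h)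
  have hy2w : y.2 ≠ x.2 := by
    intro h
    apply hyx
    have hm : x⁻¹ * y ∈ B := B.mul_mem (B.inv_mem hx) hyB
    have : x⁻¹ * y = 1 := by
      apply hB1 _ hm
      show x.2⁻¹ * y.2 = 1
      rw [h]; group
    calc y = x * (x⁻¹ * y) := by group
      _ = x := by rw [this, mul_one]
  have hxmem : ((x.1, x.2) : A × A) ∈ B := hx
  rcases third_elt c₂ x.2 y.2 hc21 hc23 hw1 hw2 (hsq y hyB).2 hy2ne1 hy2w with h | h
  · have hymem : ((c₁ * x.1 * c₁⁻¹, c₂ * x.2 * c₂⁻¹) : A × A) ∈ B := by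
      rw [← hy1, ← h]; exact hyB
    obtain ⟨R, hR1, hR2, hR3, hR4, hR5⟩ :=
      finish Q B hB4 hsq c₁ c₂ x.1 x.2 hc11 hc13 hc21 hc23 hc1Q hc2Q hv1 hw1 hxmem hymem
    exact h3 R hR1 hR2 hR3 hR4 hR5
  · have hymem : ((c₁ * x.1 * c₁⁻¹, c₂⁻¹ * x.2 * (c₂⁻¹)⁻¹) : A × A) ∈ B := by
      rw [inv_inv, ← hy1, ← h]; exact hyB
    have hd1 : c₂⁻¹ ≠ 1 := by
      intro h; apply hc21; exact inv_eq_one.mp h
    have hd3 : (c₂⁻¹) ^ 3 = 1 := by
      rw [inv_pow, hc23, inv_one]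
    have hdQ : ((1, c₂⁻¹) : A × A) ∈ (Q : Subgroup (A × A)) := by
      have := (Q : Subgroup (A × A)).inv_mem hc2Q
      simpa using this
    obtain ⟨R, hR1, hR2, hR3, hR4, hR5⟩ :=
      finish Q B hB4 hsq c₁ c₂⁻¹ x.1 x.2 hc11 hc13 hd1 hd3 hc1Q hdQ hv1 hw1 hxmem hymem
    exact h3 R hR1 hR2 hR3 hR4 hR5

end Cfsg.Agent.S4406
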