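import Cfsg.Statements.S4407
import Mathlib
import Cfsg.Agent.Lib.Helper71.D8Mod

set_option autoImplicit false
open Cfsg

namespace Cfsg.Agent.S4407

open Cfsg.Agent.Helper71.D8Mod

/-! ### Facts about the dihedral group of order 8 -/

theorem d8_rel : (DihedralGroup.sr 0 : DihedralGroup 4) ^ 2 = 1 ∧
    (DihedralGroup.r 1 : DihedralGroup 4) ^ 4 = 1 ∧
    (DihedralGroup.sr 0 : DihedralGroup 4) * DihedralGroup.r 1 * (DihedralGroup.sr 0)⁻¹
      = (DihedralGroup.r 1)⁻¹ ∧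
    (DihedralGroup.r 1 : DihedralGroup 4) ^ 2 ≠ 1 ∧
    (DihedralGroup.sr 0 : DihedralGroup 4) ≠ (DihedralGroup.r 1) ^ 2 ∧
    ((DihedralGroup.sr 0 : DihedralGroup 4) * DihedralGroup.r 1) ^ 2 = 1 ∧
    ((DihedralGroup.sr 0 : DihedralGroup 4) * DihedralGroup.r 1) * DihedralGroup.r 1 *
      ((DihedralGroup.sr 0 : DihedralGroup 4) * DihedralGroup.r 1)⁻¹ = (DihedralGroup.r 1)⁻¹ := by
  decide

theorem d8_gen : ∀ d : DihedralGroup 4, ∃ i ∈ Finset.range 2, ∃ j ∈ Finset.range 4,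
    d = (DihedralGroup.sr 0) ^ i * (DihedralGroup.r 1) ^ j := by
  decide

/-- The Klein four-group `{1, r², s, sr²}`. -/
def F1 : Finset (DihedralGroup 4) :=
  {1, DihedralGroup.r 2, DihedralGroup.sr 0, DihedralGroup.sr 2}

/-- The Klein four-group `{1, r², sr, sr³}`. -/
def F2 : Finset (DihedralGroup 4) :=
  {1, DihedralGroup.r 2, DihedralGroup.sr 1, DihedralGroup.sr 3}

theorem d8_dich : ∀ x y : DihedralGroup 4, x ^ 2 = 1 → y ^ 2 = 1 → (x * y) ^ 2 = 1 →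
    (x ∈ F1 ∧ y ∈ F1) ∨ (x ∈ F2 ∧ y ∈ F2) := by
  decide

/-- `F1` as a subgroup. -/
def K1 : Subgroup (DihedralGroup 4) where
  carrier := {x | x ∈ F1}
  mul_mem' := by
    intro a b ha hb
    revert a b
    decide
  one_mem' := by decide
  inv_mem' := by
    intro a ha
    revert a
    decide

/-- `F2` as a subgroup. -/
def K2 : Subgroup (DihedralGroup 4) where
  carrier := {x | x ∈ F2}
  mul_mem' := by
    intro a b ha hb
    revert a b
    decide
  one_mem' := by decide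
  inv_mem' := by
    intro a ha
    revert a
    decide

theorem F1_sq : ∀ d ∈ F1, d ^ 2 = 1 := by decide
theorem F2_sq : ∀ d ∈ F2, d ^ 2 = 1 := by decide

/-! ### Generic group lemmas -/

theorem mem_zpowers_order3 {G : Type*} [Group G] (d x : G) (hd : d ^ 3 = 1)
    (hx : x ∈ Subgroup.zpowers d) : x = 1 ∨ x = d ∨ x = d⁻¹ := by
  obtain ⟨k, rfl⟩ := Subgroup.mem_zpowers_iff.mp hx
  have h3 : d ^ (3 : ℤ) = 1 := by exact_mod_cast hd
  have hk' : d ^ k = d ^ (k % 3) := by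
    conv_lhs => rw [← Int.emod_add_mul_ediv k 3]
    rw [zpow_add, zpow_mul, h3, one_zpow, mul_one]
  have hk : k % 3 = 0 ∨ k % 3 = 1 ∨ k % 3 = 2 := by omega
  rcases hk with h | h | h <;> rw [hk', h]
  · left; simp
  · right; left; simp
  · right; right
    rw [eq_inv_iff_mul_eq_one]
    have : d ^ (2 : ℤ) * d = d ^ (3 : ℤ) := by
      rw [show (3 : ℤ) = 2 + 1 by norm_num, zpow_add, zpow_one]
    rw [this, h3]

theorem closure_pair_eq {S : Type*} [Group S] (A : Subgroup S)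
    (hA3 : ∀ a ∈ A, a ^ 3 = 1) (hA9 : Nat.card A = 9) (c d : S) (hc : c ∈ A) (hd : d ∈ A)
    (hc1 : c ≠ 1) (hdc : d ∉ Subgroup.zpowers c) : Subgroup.closure {c, d} = A := by
  have : Finite A := Nat.finite_of_card_ne_zero (by rw [hA9]; norm_num)
  have : Fact (Nat.Prime 3) := ⟨Nat.prime_three⟩
  set H := Subgroup.closure ({c, d} : Set S) with hH
  have hHA : H ≤ A := by
    rw [hH, Subgroup.closure_le]
    intro x hx
    rcases hx with rfl | rfl
    · exact hc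
    · exact hd
  have : Finite H := Finite.of_injective (Subgroup.inclusion hHA) (Subgroup.inclusion_injective hHA)
  have hcH : Subgroup.zpowers c ≤ H := by
    rw [Subgroup.zpowers_le]; exact Subgroup.subset_closure (by simp)
  have h3 : Nat.card (Subgroup.zpowers c) = 3 := by
    rw [Nat.card_zpowers, orderOf_eq_prime (hA3 c hc) hc1]
  have d1 : 3 ∣ Nat.card H := h3 ▸ Subgroup.card_dvd_of_le hcH
  have d2 : Nat.card H ∣ 9 := hA9 ▸ Subgroup.card_dvd_of_le hHA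
  have hne : Nat.card H ≠ 3 := by
    intro h
    have : Subgroup.zpowers c = H := Subgroup.eq_of_le_of_card_ge hcH (by rw [h, h3])
    apply hdc
    rw [this]
    exact Subgroup.subset_closure (by simp)
  have h9 : Nat.card H = 9 := by
    obtain ⟨k, hk⟩ := d1
    rw [hk] at d2 hne ⊢
    have hk3 : k ∣ 3 := Nat.dvd_of_mul_dvd_mul_left (by norm_num : 0 < 3) (by simpa using d2)
    rcases (Nat.dvd_prime Nat.prime_three).mp hk3 with rfl | rfl
    · exact absurd rfl hne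
    · rfl
  exact Subgroup.eq_of_le_of_card_ge hHA (by rw [h9, hA9])

theorem stab_of_gen {S : Type*} [Group S] [Finite S] {M : Type*} [AddCommGroup M]
    [Module (ZMod 2) M] (ρ : Representation (ZMod 2) S M) (T : Set S)
    (hT : Subgroup.closure T = ⊤) (N : Submodule (ZMod 2) M)
    (h : ∀ s ∈ T, ∀ m ∈ N, ρ s m ∈ N) : ∀ s : S, ∀ m ∈ N, ρ s m ∈ N := by
  let P : Submonoid S :=
    { carrier := {s | ∀ m ∈ N, ρ s m ∈ N}
      one_mem' := by
        intro m hm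
        rw [act_one]; exact hm
      mul_mem' := by
        intro a b ha hb m hm
        rw [act_mul]
        exact ha _ (hb _ hm) }
  have hP : Submonoid.closure T ≤ P := Submonoid.closure_le.mpr h
  intro s
  have hs : s ∈ (Subgroup.closure T).toSubmonoid := by rw [hT]; trivial
  rw [Subgroup.closure_toSubmonoid_of_finite] at hs
  exact hP hs

theorem eq_one_of_eq_inv {G : Type*} [Group G] (a : G) (h3 : a ^ 3 = 1) (h : a = a⁻¹) : a = 1 := by
  have h2 : a * a = 1 := by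
    nth_rewrite 1 [h]; exact inv_mul_cancel a
  have : a ^ 3 = a * a * a := by rw [pow_succ, pow_two]
  rw [this, h2, one_mul] at h3
  exact h3

/-! ### The case lemma: reduction to the core computation -/

theorem case_lemma {S : Type*} [Group S] [Finite S] (A : Subgroup S) [A.Normal]
    (hAc : ∀ x ∈ A, ∀ y ∈ A, x * y = y * x) (hA3 : ∀ a ∈ A, a ^ 3 = 1) (hA9 : Nat.card A = 9)
    (X : Subgroup S) (hAX : A ⊔ X = ⊤)
    (t r : S) (ht2 : t ^ 2 = 1) (hr4 : r ^ 4 = 1) (htr : t * r * t⁻¹ = r⁻¹)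
    (hXgen : X ≤ Subgroup.closure {t, r})
    (hz : ∀ a ∈ A, r ^ 2 * a * (r ^ 2)⁻¹ = a⁻¹)
    (a₁ : S) (ha₁ : a₁ ∈ A) (ha₁1 : a₁ ≠ 1) (hta : t * a₁ = a₁ * t)
    {M : Type*} [AddCommGroup M] [Module (ZMod 2) M] (ρ : Representation (ZMod 2) S M)
    (hfaith : Function.Injective ρ)
    (hirr : ∀ N : Submodule (ZMod 2) M, (∀ s : S, ∀ m ∈ N, ρ s m ∈ N) → N = ⊥ ∨ N = ⊤)
    (hM1 : ∃ m : M, m ≠ 0 ∧ ρ a₁ m = m) :
    Nat.card M = 16 ∧
    (∃ x y : M, x ≠ 0 ∧ y ≠ 0 ∧ x ≠ y ∧ ρ t x = x ∧ ρ (r ^ 2) x = x ∧ ρ t y = y ∧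
      ρ (r ^ 2) y = y) ∧
    (∃ w : M, w ≠ 0 ∧ ρ (r ^ 2) w = w ∧ ρ (t * r) w = w ∧
      ∀ x, ρ (r ^ 2) x = x → ρ (t * r) x = x → x = 0 ∨ x = w) := by
  obtain ⟨I1, I2, I3, I4, I6, I8, I5⟩ := rels A hAc t r hr4 htr hz a₁ ha₁ hta
  have ha₂ : r * a₁ * r⁻¹ ∈ A := Subgroup.Normal.conj_mem inferInstance a₁ ha₁ r
  set a₂ := r * a₁ * r⁻¹ with ha₂def
  have ha₂3 : a₂ ^ 3 = 1 := hA3 _ ha₂
  have hnot : a₂ ∉ Subgroup.zpowers a₁ := by
    intro h
    rcases mem_zpowers_order3 a₁ a₂ (hA3 _ ha₁) h with h1 | h1 | h1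
    · apply ha₁1
      have : r * a₁ * r⁻¹ = 1 := h1
      rw [mul_inv_eq_one] at this
      exact mul_left_cancel (this.trans (mul_one r).symm)
    · apply ha₁1
      apply eq_one_of_eq_inv a₁ (hA3 _ ha₁)
      rw [h1, hta] at I3
      exact mul_right_cancel I3
    · apply ha₁1
      apply eq_one_of_eq_inv a₁ (hA3 _ ha₁)
      rw [h1, inv_inv] at I3
      have h5 : t * a₁⁻¹ = a₁⁻¹ * t := by
        calc t * a₁⁻¹ = a₁⁻¹ * (a₁ * t) * a₁⁻¹ := by group
          _ = a₁⁻¹ * (t * a₁) * a₁⁻¹ := by rw [hta]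
          _ = a₁⁻¹ * t := by group
      rw [h5] at I3
      exact (mul_right_cancel I3).symm
  have hcl : Subgroup.closure {a₁, a₂} = A :=
    closure_pair_eq A hA3 hA9 a₁ a₂ ha₁ ha₂ ha₁1 hnot
  have hgen : Subgroup.closure {a₁, t, r} = ⊤ := by
    rw [eq_top_iff, ← hAX, sup_le_iff]
    constructor
    · rw [← hcl, Subgroup.closure_le]
      have hr : r ∈ Subgroup.closure ({a₁, t, r} : Set S) := Subgroup.subset_closure (by simp)
      have ha : a₁ ∈ Subgroup.closure ({a₁, t, r} : Set S) := Subgroup.subset_closure (by simp)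
      rintro x (rfl | rfl)
      · exact ha
      · exact Subgroup.mul_mem _ (Subgroup.mul_mem _ hr ha) (Subgroup.inv_mem _ hr)
    · refine hXgen.trans (Subgroup.closure_mono ?_)
      intro x hx
      rcases hx with rfl | rfl
      · simp
      · simp
  have hirr' : ∀ N : Submodule (ZMod 2) M, (∀ m ∈ N, ρ a₁ m ∈ N) → (∀ m ∈ N, ρ t m ∈ N) →
      (∀ m ∈ N, ρ r m ∈ N) → N = ⊥ ∨ N = ⊤ := by
    intro N h1 h2 h3
    apply hirr N
    apply stab_of_gen ρ {a₁, t, r} hgen N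
    rintro s (rfl | rfl | rfl)
    · exact h1
    · exact h2
    · exact h3
  have hfa : ∃ m : M, ρ a₁ m ≠ m := by
    by_contra h
    push Not at h
    apply ha₁1
    apply hfaith
    ext m
    rw [h m, act_one]
  have hza : r ^ 2 * a₁ = a₁⁻¹ * r ^ 2 := mul_inv_eq_iff_eq_mul.mp (hz a₁ ha₁)
  have Ir : r * a₁ = a₂ * r := by rw [ha₂def]; group
  exact core ρ a₁ a₂ t r (r ^ 2) ha₂3 ht2 (pow_two r) I1 I2 Ir I3 I4 I5 I6 I8 hta hza hirr' hfa hM1

/-! ### The four fixed spaces cannot all vanish -/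

theorem sum_three {S : Type*} [Group S] {M : Type*} [AddCommGroup M] [Module (ZMod 2) M]
    (ρ : Representation (ZMod 2) S M) (c : S) (hc : c ^ 3 = 1)
    (Z : ∀ m : M, ρ c m = m → m = 0) (x : M) : x + ρ c x + ρ c (ρ c x) = 0 := by
  apply Z
  rw [map_add, map_add]
  have : ρ c (ρ c (ρ c x)) = x := by
    rw [← act_mul, ← act_mul, ← pow_two, ← pow_succ, hc, act_one]
  rw [this]; abel

theorem split_lemma {S : Type*} [Group S] {M : Type*} [AddCommGroup M] [Module (ZMod 2) M]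
    (ρ : Representation (ZMod 2) S M) (a₁ a₂ : S) (h1 : a₁ ^ 3 = 1) (h2 : a₂ ^ 3 = 1)
    (hc : a₁ * a₂ = a₂ * a₁)
    (Z1 : ∀ m : M, ρ a₁ m = m → m = 0) (Z2 : ∀ m : M, ρ a₂ m = m → m = 0)
    (Z3 : ∀ m : M, ρ (a₁ * a₂⁻¹) m = m → m = 0) (Z4 : ∀ m : M, ρ (a₁ * a₂) m = m → m = 0) :
    ∀ m : M, m = 0 := by
  intro m
  have hcomm : Commute a₁ a₂ := hc
  have h3 : (a₁ * a₂⁻¹) ^ 3 = 1 := by
    rw [hcomm.inv_right.mul_pow, h1, inv_pow, h2, inv_one, one_mul]
  have h4 : (a₁ * a₂) ^ 3 = 1 := by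
    rw [hcomm.mul_pow, h1, h2, one_mul]
  have ha2inv : a₂⁻¹ = a₂ * a₂ := by
    have : a₂ * a₂ * a₂ = 1 := by rw [← h2, pow_succ, pow_two]
    exact (eq_inv_of_mul_eq_one_left this).symm
  have g3 : (a₁ * a₂⁻¹) * (a₁ * a₂⁻¹) = a₁ * (a₁ * a₂) := by
    have e : a₂⁻¹ * a₁ = a₁ * a₂⁻¹ := (hcomm.inv_right).eq.symm
    calc (a₁ * a₂⁻¹) * (a₁ * a₂⁻¹) = a₁ * (a₂⁻¹ * a₁) * a₂⁻¹ := by group
      _ = a₁ * (a₁ * a₂⁻¹) * a₂⁻¹ := by rw [e]
      _ = a₁ * a₁ * (a₂⁻¹ * a₂⁻¹) := by group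
      _ = a₁ * a₁ * a₂ := by
        congr 1
        rw [ha2inv]
        calc a₂ * a₂ * (a₂ * a₂) = (a₂ * a₂ * a₂) * a₂ := by group
          _ = a₂ := by rw [← pow_two, ← pow_succ, h2, one_mul]
      _ = a₁ * (a₁ * a₂) := by group
  have g4 : (a₁ * a₂) * (a₁ * a₂) = a₁ * (a₁ * (a₂ * a₂)) := by
    calc (a₁ * a₂) * (a₁ * a₂) = a₁ * (a₂ * a₁) * a₂ := by group
      _ = a₁ * (a₁ * a₂) * a₂ := by rw [hc]
      _ = a₁ * (a₁ * (a₂ * a₂)) := by group
  have E1 := sum_three ρ a₁ h1 Z1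
  have E2 := sum_three ρ a₂ h2 Z2 m
  have E3 := sum_three ρ (a₁ * a₂⁻¹) h3 Z3 m
  have E4 := sum_three ρ (a₁ * a₂) h4 Z4 m
  rw [← act_mul ρ (a₁ * a₂⁻¹), g3, act_mul, act_mul, ha2inv, act_mul, act_mul] at E3
  rw [← act_mul ρ (a₁ * a₂), g4, act_mul, act_mul, act_mul, act_mul] at E4
  have E5 := E1 (ρ a₂ m)
  have E6 := E1 (ρ a₂ (ρ a₂ m))
  have E1m := E1 m
  have key : (3 : ℕ) • m = 0 := by
    have : (3 : ℕ) • m = (m + ρ a₁ m + ρ a₁ (ρ a₁ m)) + (m + ρ a₂ m + ρ a₂ (ρ a₂ m))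
        + (m + ρ a₁ (ρ a₂ (ρ a₂ m)) + ρ a₁ (ρ a₁ (ρ a₂ m)))
        + (m + ρ a₁ (ρ a₂ m) + ρ a₁ (ρ a₁ (ρ a₂ (ρ a₂ m))))
        - ((m + ρ a₁ m + ρ a₁ (ρ a₁ m)) + (ρ a₂ m + ρ a₁ (ρ a₂ m) + ρ a₁ (ρ a₁ (ρ a₂ m)))
        + (ρ a₂ (ρ a₂ m) + ρ a₁ (ρ a₂ (ρ a₂ m)) + ρ a₁ (ρ a₁ (ρ a₂ (ρ a₂ m))))) := by
      abel
    rw [this, E1m, E2, E3, E4, E5, E6]; simp
  have h2m : (2 : ℕ) • m = 0 := ZModModule.char_nsmul_eq_zero 2 m
  have : m = (3 : ℕ) • m - (2 : ℕ) • m := by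
    rw [show (3 : ℕ) = 2 + 1 by norm_num, add_smul, one_smul]; abel
  rw [this, key, h2m, sub_zero]

/-! ### Assembling the unique Klein four-group -/

theorem assemble {S : Type*} [Group S] [Finite S] {M : Type*} [AddCommGroup M]
    [Module (ZMod 2) M] (ρ : Representation (ZMod 2) S M)
    (ψ : DihedralGroup 4 →* S) (hψ : Function.Injective ψ) (X : Subgroup S)
    (hX : ∀ s, s ∈ X ↔ ∃ d, ψ d = s)
    (Fg Fb : Finset (DihedralGroup 4)) (Kg : Subgroup (DihedralGroup 4))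
    (hKg : ∀ d, d ∈ Kg ↔ d ∈ Fg) (hcard : Fg.card = 4) (hexp : ∀ d ∈ Fg, d ^ 2 = 1)
    (hdich : ∀ x y : DihedralGroup 4, x ^ 2 = 1 → y ^ 2 = 1 → (x * y) ^ 2 = 1 →
      (x ∈ Fg ∧ y ∈ Fg) ∨ (x ∈ Fb ∧ y ∈ Fb))
    (hbad : ∃ x y : M, x ≠ 0 ∧ y ≠ 0 ∧ x ≠ y ∧ ∀ d ∈ Fb, ρ (ψ d) x = x ∧ ρ (ψ d) y = y)
    (hgood : ∃ w : M, w ≠ 0 ∧ (∀ d ∈ Fg, ρ (ψ d) w = w) ∧
      ∀ x, (∀ d ∈ Fg, ρ (ψ d) x = x) → x = 0 ∨ x = w) :
    ∃! B : Subgroup S, B ≤ X ∧ Nat.card ↥B = 4 ∧ (∀ b ∈ B, b ^ 2 = 1) ∧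
      Nat.card {m : M // ∀ b ∈ B, ρ b m = m} = 2 := by
  obtain ⟨w, hw0, hwfix, hwuniq⟩ := hgood
  have hKcard : Nat.card Kg = 4 := by
    have : Nat.card {x // x ∈ Kg} = Fg.card := Nat.subtype_card Fg (fun x => (hKg x).symm)
    rw [show Nat.card Kg = Nat.card {x // x ∈ Kg} from rfl, this, hcard]
  have hB0card : Nat.card (Kg.map ψ) = 4 := by
    rw [Subgroup.card_map_of_injective hψ, hKcard]
  refine ⟨Kg.map ψ, ⟨?_, hB0card, ?_, ?_⟩, ?_⟩
  · intro s hs
    obtain ⟨d, -, rfl⟩ := Subgroup.mem_map.mp hs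
    exact (hX _).mpr ⟨d, rfl⟩
  · intro s hs
    obtain ⟨d, hd, rfl⟩ := Subgroup.mem_map.mp hs
    rw [← map_pow, hexp d ((hKg d).mp hd), map_one]
  · rw [Nat.card_eq_two_iff]
    have h0 : ∀ b ∈ Kg.map ψ, ρ b (0 : M) = 0 := fun b _ => map_zero _
    have hwf : ∀ b ∈ Kg.map ψ, ρ b w = w := by
      intro b hb
      obtain ⟨d, hd, rfl⟩ := Subgroup.mem_map.mp hb
      exact hwfix d ((hKg d).mp hd)
    refine ⟨⟨0, h0⟩, ⟨w, hwf⟩, ?_, ?_⟩
    · intro h
      exact hw0 (congrArg Subtype.val h).symm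
    · rw [Set.eq_univ_iff_forall]
      rintro ⟨x, hx⟩
      have : x = 0 ∨ x = w := by
        apply hwuniq
        intro d hd
        exact hx _ (Subgroup.mem_map.mpr ⟨d, (hKg d).mpr hd, rfl⟩)
      rcases this with rfl | rfl
      · left; rfl
      · right; rfl
  · rintro B ⟨hBX, hB4, hBexp, hBfix⟩
    -- dichotomy
    have hpre : ∀ b ∈ B, ∃ d, ψ d = b ∧ d ^ 2 = 1 := by
      intro b hb
      obtain ⟨d, rfl⟩ := (hX b).mp (hBX hb)
      refine ⟨d, rfl, ?_⟩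
      apply hψ
      rw [map_pow, hBexp _ hb, map_one]
    by_cases hall : ∀ b ∈ B, ∃ d ∈ Fg, ψ d = b
    · have hle : B ≤ Kg.map ψ := by
        intro b hb
        obtain ⟨d, hd, rfl⟩ := hall b hb
        exact Subgroup.mem_map.mpr ⟨d, (hKg d).mpr hd, rfl⟩
      exact Subgroup.eq_of_le_of_card_ge hle (by rw [hB0card, hB4])
    · exfalso
      push Not at hall
      obtain ⟨b₀, hb₀, hb₀n⟩ := hall
      obtain ⟨d₀, hd₀, hd₀2⟩ := hpre b₀ hb₀
      have hd₀n : d₀ ∉ Fg := fun h => hb₀n d₀ h hd₀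
      have hbadall : ∀ b ∈ B, ∃ d ∈ Fb, ψ d = b := by
        intro b hb
        obtain ⟨d, hd, hd2⟩ := hpre b hb
        have hprod : (d₀ * d) ^ 2 = 1 := by
          apply hψ
          rw [map_pow, map_mul, hd₀, hd, hBexp _ (B.mul_mem hb₀ hb), map_one]
        rcases hdich d₀ d hd₀2 hd2 hprod with h | h
        · exact absurd h.1 hd₀n
        · exact ⟨d, h.2, hd⟩
      obtain ⟨x, y, hx0, hy0, hxy, hfix⟩ := hbad
      have hxf : ∀ b ∈ B, ρ b x = x := by
        intro b hb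
        obtain ⟨d, hd, rfl⟩ := hbadall b hb
        exact (hfix d hd).1
      have hyf : ∀ b ∈ B, ρ b y = y := by
        intro b hb
        obtain ⟨d, hd, rfl⟩ := hbadall b hb
        exact (hfix d hd).2
      have h0f : ∀ b ∈ B, ρ b (0 : M) = 0 := fun b _ => map_zero _
      rw [Nat.card_eq_two_iff] at hBfix
      obtain ⟨p, q, -, hpq⟩ := hBfix
      have m0 : (⟨0, h0f⟩ : {m : M // ∀ b ∈ B, ρ b m = m}) ∈ ({p, q} : Set _) := by
        rw [hpq]; trivial
      have mx : (⟨x, hxf⟩ : {m : M // ∀ b ∈ B, ρ b m = m}) ∈ ({p, q} : Set _) := by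
        rw [hpq]; trivial
      have my : (⟨y, hyf⟩ : {m : M // ∀ b ∈ B, ρ b m = m}) ∈ ({p, q} : Set _) := by
        rw [hpq]; trivial
      simp only [Set.mem_insert_iff, Set.mem_singleton_iff] at m0 mx my
      rcases m0 with h0 | h0 <;> rcases mx with h1 | h1 <;> rcases my with h2 | h2
      · exact hx0 (congrArg Subtype.val (h1.trans h0.symm))
      · exact hx0 (congrArg Subtype.val (h1.trans h0.symm))
      · exact hy0 (congrArg Subtype.val (h2.trans h0.symm))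
      · exact hxy (congrArg Subtype.val (h1.trans h2.symm))
      · exact hxy (congrArg Subtype.val (h1.trans h2.symm))
      · exact hy0 (congrArg Subtype.val (h2.trans h0.symm))
      · exact hx0 (congrArg Subtype.val (h1.trans h0.symm))
      · exact hx0 (congrArg Subtype.val (h1.trans h0.symm))

theorem fix_conj {S : Type*} [Group S] {M : Type*} [AddCommGroup M] [Module (ZMod 2) M]
    (ρ : Representation (ZMod 2) S M) (c g : S) (Z : ∀ m : M, ρ c m = m → m = 0) :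
    ∀ m : M, ρ (g * c * g⁻¹) m = m → m = 0 := by
  intro m hm
  have h1 : ρ c (ρ g⁻¹ m) = ρ g⁻¹ m := by
    conv_rhs => rw [← hm]
    rw [← act_mul, ← act_mul]
    congr 2
    group
  exact (act_eq_zero_iff ρ g⁻¹ m).mp (Z _ h1)

/-! ### The main theorem -/

/-- Let S be a finite group with a normal elementary abelian subgroup A of order 9 that is self-centralizing (C_S(A) = A), and a dihedral subgroup X of order 8 with S = AX. Let M be a finite-dimensional module for S over the field with two elements that is faithful and irreducible. Then M has 16 elements, and X contains exactly one subgroup B of order 4 and exponent 2 whose fixed points on M form a subspace with exactly 2 elements (equivalently, M is free of rank one over the group algebra of B). -/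
theorem result {S : Type*} [Group S] [Finite S]
    (A : Subgroup S) [A.Normal] (hA : Cfsg.IsElementaryAbelian 3 A) (hA9 : Nat.card ↥A = 9)
    (hAC : Subgroup.centralizer (A : Set S) = A) (X : Subgroup S) (hX : Nonempty (↥X ≃* DihedralGroup 4)) (hAX : A ⊔ X = ⊤)
    {M : Type*} [AddCommGroup M] [Module (ZMod 2) M] [Finite M] (ρ : Representation (ZMod 2) S M)
    (hfaith : Function.Injective ρ)
    (hirr : ∀ N : Submodule (ZMod 2) M, (∀ s : S, ∀ m ∈ N, ρ s m ∈ N) → N = ⊥ ∨ N = ⊤) (hM : Nontrivial M) :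
    Nat.card M = 16 ∧
      ∃! B : Subgroup S, B ≤ X ∧ Nat.card ↥B = 4 ∧ (∀ b ∈ B, b ^ 2 = 1) ∧
        Nat.card {m : M // ∀ b ∈ B, ρ b m = m} = 2 := by
  obtain ⟨φ⟩ := hX
  let ψ : DihedralGroup 4 →* S := X.subtype.comp φ.symm.toMonoidHom
  have hψ : Function.Injective ψ := X.subtype_injective.comp φ.symm.injective
  have hXψ : ∀ s, s ∈ X ↔ ∃ d, ψ d = s := by
    intro s
    constructor
    · intro hs
      exact ⟨φ ⟨s, hs⟩, by simp [ψ]⟩
    · rintro ⟨d, rfl⟩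
      exact (φ.symm d).2
  obtain ⟨e1, e2, e3, e4, e5, e6, e7⟩ := d8_rel
  set t : S := ψ (DihedralGroup.sr 0) with htdef
  set r : S := ψ (DihedralGroup.r 1) with hrdef
  have ht2 : t ^ 2 = 1 := by rw [← map_pow, e1, map_one]
  have hr4 : r ^ 4 = 1 := by rw [← map_pow, e2, map_one]
  have htr : t * r * t⁻¹ = r⁻¹ := by rw [← map_inv, ← map_mul, ← map_mul, e3, map_inv]
  have hz1 : r ^ 2 ≠ 1 := by
    intro h; apply e4; apply hψ; rw [map_pow, map_one]; exact h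
  have htz : t ≠ r ^ 2 := by
    intro h; apply e5; apply hψ; rw [map_pow]; exact h
  have hu2 : (t * r) ^ 2 = 1 := by rw [← map_mul, ← map_pow, e6, map_one]
  have hur : (t * r) * r * (t * r)⁻¹ = r⁻¹ := by
    rw [← map_mul, ← map_inv, ← map_mul, ← map_mul, e7, map_inv]
  have htX : t ∈ X := (hXψ t).mpr ⟨_, rfl⟩
  have hrX : r ∈ X := (hXψ r).mpr ⟨_, rfl⟩
  have hXgen : X ≤ Subgroup.closure {t, r} := by
    intro s hs
    obtain ⟨d, rfl⟩ := (hXψ s).mp hs
    obtain ⟨i, -, j, -, rfl⟩ := d8_gen d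
    rw [map_mul, map_pow, map_pow]
    have h1 : ψ (DihedralGroup.sr 0) ∈ Subgroup.closure ({t, r} : Set S) :=
      Subgroup.subset_closure (show t ∈ ({t, r} : Set S) from Or.inl rfl)
    have h2 : ψ (DihedralGroup.r 1) ∈ Subgroup.closure ({t, r} : Set S) :=
      Subgroup.subset_closure (show r ∈ ({t, r} : Set S) from Or.inr rfl)
    exact Subgroup.mul_mem _ (Subgroup.pow_mem _ h1 _) (Subgroup.pow_mem _ h2 _)
  have hXgen' : X ≤ Subgroup.closure {t * r, r} := by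
    refine hXgen.trans ?_
    rw [Subgroup.closure_le]
    have hr' : r ∈ Subgroup.closure ({t * r, r} : Set S) := Subgroup.subset_closure (by simp)
    have hu' : t * r ∈ Subgroup.closure ({t * r, r} : Set S) := Subgroup.subset_closure (by simp)
    rintro x (rfl | rfl)
    · simpa using Subgroup.mul_mem _ hu' (Subgroup.inv_mem _ hr')
    · exact hr'
  -- facts about A
  have hAc : ∀ x ∈ A, ∀ y ∈ A, x * y = y * x := by
    intro x hx y hy
    have := hA.1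
    exact congrArg Subtype.val (mul_comm' (⟨x, hx⟩ : A) ⟨y, hy⟩)
  have hA3 := hA.2
  have hconj : ∀ g : S, ∀ x ∈ A, g * x * g⁻¹ ∈ A :=
    fun g x hx => Subgroup.Normal.conj_mem inferInstance x hx g
  have hcardX : Nat.card X = 8 := by
    rw [Nat.card_congr φ.toEquiv, DihedralGroup.nat_card]
  have hAXbot : A ⊓ X = ⊥ :=
    (Subgroup.disjoint_of_coprime_natCard (by rw [hA9, hcardX]; norm_num)).eq_bot
  have hfaithX : ∀ x ∈ X, (∀ a ∈ A, x * a = a * x) → x = 1 := by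
    intro x hx h
    have h1 : x ∈ Subgroup.centralizer (A : Set S) := by
      rw [Subgroup.mem_centralizer_iff]
      intro a ha
      exact (h a ha).symm
    rw [hAC] at h1
    have h2 : x ∈ A ⊓ X := ⟨h1, hx⟩
    rw [hAXbot] at h2
    exact Subgroup.mem_bot.mp h2
  -- Claim Z : z = r ^ 2 inverts A
  set z : S := r ^ 2 with hzdef
  have hzX : z ∈ X := X.pow_mem hrX 2
  have hzz : z * z = 1 := by
    rw [hzdef, ← pow_add]; exact hr4
  have hzr : z * r = r * z := (Commute.pow_self r 2).eq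
  have hzinv : z⁻¹ = z := inv_eq_of_mul_eq_one_left hzz
  have hz : ∀ a ∈ A, z * a * z⁻¹ = a⁻¹ := by
    obtain ⟨a, ha, hza⟩ : ∃ a ∈ A, z * a ≠ a * z := by
      by_contra h
      push Not at h
      exact hz1 (hfaithX z hzX h)
    set d := a * (z * a * z⁻¹)⁻¹ with hddef
    have hd : d ∈ A := A.mul_mem ha (A.inv_mem (hconj z a ha))
    have hd1 : d ≠ 1 := by
      intro h
      apply hza
      rw [hddef, mul_inv_eq_one] at h
      calc z * a = (z * a * z⁻¹) * z := by group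
        _ = a * z := by rw [← h]
    have hdz : z * d * z⁻¹ = d⁻¹ := by
      have h1 : z * d * z⁻¹ = (z * a * z⁻¹) * (z * z * a * (z * z)⁻¹)⁻¹ := by
        rw [hddef]; group
      rw [h1, hzz, hddef]; group
    set d' := r * d * r⁻¹ with hd'def
    have hd' : d' ∈ A := hconj r d hd
    have hd'z : z * d' * z⁻¹ = d'⁻¹ := by
      calc z * (r * d * r⁻¹) * z⁻¹ = (z * r) * d * (z * r)⁻¹ := by group
        _ = (r * z) * d * (r * z)⁻¹ := by rw [hzr]
        _ = r * (z * d * z⁻¹) * r⁻¹ := by group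
        _ = r * d⁻¹ * r⁻¹ := by rw [hdz]
        _ = (r * d * r⁻¹)⁻¹ := by group
    have hrr : z * d * z⁻¹ = r * d' * r⁻¹ := by
      rw [hzdef, hd'def, pow_two]; group
    have hd'not : d' ∉ Subgroup.zpowers d := by
      intro h
      rcases mem_zpowers_order3 d d' (hA3 d hd) h with h1 | h1 | h1
      · apply hd1
        have : r * d * r⁻¹ = 1 := h1
        rw [mul_inv_eq_one] at this
        exact mul_left_cancel (this.trans (mul_one r).symm)
      · apply hd1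
        apply eq_one_of_eq_inv d (hA3 d hd)
        rw [← hdz, hrr, h1]
        exact h1.symm
      · apply hd1
        apply eq_one_of_eq_inv d (hA3 d hd)
        rw [← hdz, hrr, h1]
        have : r * d⁻¹ * r⁻¹ = d'⁻¹ := by rw [hd'def]; group
        rw [this, h1, inv_inv]
    have hcl : Subgroup.closure {d, d'} = A :=
      closure_pair_eq A hA3 hA9 d d' hd hd' hd1 hd'not
    let I : Subgroup S :=
      { carrier := {x | x ∈ A ∧ z * x * z⁻¹ = x⁻¹}
        one_mem' := ⟨A.one_mem, by simp⟩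
        mul_mem' := by
          rintro x y ⟨hx, hx'⟩ ⟨hy, hy'⟩
          refine ⟨A.mul_mem hx hy, ?_⟩
          calc z * (x * y) * z⁻¹ = (z * x * z⁻¹) * (z * y * z⁻¹) := by group
            _ = x⁻¹ * y⁻¹ := by rw [hx', hy']
            _ = (y * x)⁻¹ := by group
            _ = (x * y)⁻¹ := by rw [hAc x hx y hy]
        inv_mem' := by
          rintro x ⟨hx, hx'⟩
          refine ⟨A.inv_mem hx, ?_⟩
          calc z * x⁻¹ * z⁻¹ = (z * x * z⁻¹)⁻¹ := by group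
            _ = (x⁻¹)⁻¹ := by rw [hx'] }
    have hle : Subgroup.closure {d, d'} ≤ I := by
      rw [Subgroup.closure_le]
      rintro x (rfl | rfl)
      · exact ⟨hd, hdz⟩
      · exact ⟨hd', hd'z⟩
    intro a ha
    rw [← hcl] at ha
    exact (hle ha).2
  -- Claim T : t centralizes a nontrivial element of A
  obtain ⟨a₁, ha₁, ha₁1, hta⟩ : ∃ a₁ ∈ A, a₁ ≠ 1 ∧ t * a₁ = a₁ * t := by
    by_contra hcon
    push Not at hcon
    have htt : t * t = 1 := by rw [← pow_two, ht2]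
    have hinv : ∀ a ∈ A, t * a * t⁻¹ = a⁻¹ := by
      intro a ha
      have hcA : a * (t * a * t⁻¹) ∈ A := A.mul_mem ha (hconj t a ha)
      have hct : t * (a * (t * a * t⁻¹)) = (a * (t * a * t⁻¹)) * t := by
        have h1 : t * (a * (t * a * t⁻¹)) * t⁻¹ = (t * a * t⁻¹) * (t * t * a * (t * t)⁻¹) := by
          group
        rw [htt, one_mul, inv_one, mul_one, hAc _ (hconj t a ha) _ ha] at h1
        exact mul_inv_eq_iff_eq_mul.mp h1
      have hc1 : a * (t * a * t⁻¹) = 1 := by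
        by_contra h
        exact hcon _ hcA h hct
      exact eq_inv_of_mul_eq_one_right hc1
    have h1 : t⁻¹ * z = 1 := by
      apply hfaithX _ (X.mul_mem (X.inv_mem htX) hzX)
      intro a ha
      have e1 : z * a = a⁻¹ * z := mul_inv_eq_iff_eq_mul.mp (hz a ha)
      have e2 : t * a = a⁻¹ * t := mul_inv_eq_iff_eq_mul.mp (hinv a ha)
      calc t⁻¹ * z * a = t⁻¹ * (z * a) := by group
        _ = t⁻¹ * (a⁻¹ * z) := by rw [e1]
        _ = t⁻¹ * (a⁻¹ * t) * t⁻¹ * z := by group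
        _ = t⁻¹ * (t * a) * t⁻¹ * z := by rw [e2]
        _ = a * (t⁻¹ * z) := by group
    apply htz
    calc t = t * (t⁻¹ * z) := by rw [h1, mul_one]
      _ = z := by group
  -- images of the Klein four-groups
  have hψz : ψ (DihedralGroup.r 2) = z := by
    rw [show (DihedralGroup.r 2 : DihedralGroup 4) = (DihedralGroup.r 1) ^ 2 by decide, map_pow]
  have hψtz : ψ (DihedralGroup.sr 2) = t * z := by
    rw [show (DihedralGroup.sr 2 : DihedralGroup 4) = DihedralGroup.sr 0 * (DihedralGroup.r 1) ^ 2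
      by decide, map_mul, map_pow]
  have hψu : ψ (DihedralGroup.sr 1) = t * r := by
    rw [show (DihedralGroup.sr 1 : DihedralGroup 4) = DihedralGroup.sr 0 * DihedralGroup.r 1
      by decide, map_mul]
  have hψuz : ψ (DihedralGroup.sr 3) = t * r * z := by
    rw [show (DihedralGroup.sr 3 : DihedralGroup 4) =
      DihedralGroup.sr 0 * DihedralGroup.r 1 * (DihedralGroup.r 1) ^ 2 by decide, map_mul, map_mul,
      map_pow]
  have hF1 : ∀ x : M, ρ t x = x → ρ z x = x → ∀ d ∈ F1, ρ (ψ d) x = x := by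
    intro x h1 h2 d hd
    simp only [F1, Finset.mem_insert, Finset.mem_singleton] at hd
    rcases hd with rfl | rfl | rfl | rfl
    · rw [map_one, act_one]
    · rw [hψz, h2]
    · exact h1
    · rw [hψtz, act_mul, h2, h1]
  have hF2 : ∀ x : M, ρ (t * r) x = x → ρ z x = x → ∀ d ∈ F2, ρ (ψ d) x = x := by
    intro x h1 h2 d hd
    simp only [F2, Finset.mem_insert, Finset.mem_singleton] at hd
    rcases hd with rfl | rfl | rfl | rfl
    · rw [map_one, act_one]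
    · rw [hψz, h2]
    · rw [hψu, h1]
    · rw [hψuz, act_mul, h2, h1]
  have hz' : ∀ a ∈ A, r ^ 2 * a * (r ^ 2)⁻¹ = a⁻¹ := hz
  by_cases hM1 : ∃ m : M, m ≠ 0 ∧ ρ a₁ m = m
  · obtain ⟨hc, ⟨x, y, hx0, hy0, hxy, hx1, hx2, hy1, hy2⟩, ⟨w, hw0, hw1, hw2, hw3⟩⟩ :=
      case_lemma A hAc hA3 hA9 X hAX t r ht2 hr4 htr hXgen hz' a₁ ha₁ ha₁1 hta ρ hfaith hirr hM1
    refine ⟨hc, assemble ρ ψ hψ X hXψ F2 F1 K2 (fun d => Iff.rfl) (by decide) F2_sq
      (fun x y hx hy hxy => (d8_dich x y hx hy hxy).symm) ?_ ?_⟩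
    · exact ⟨x, y, hx0, hy0, hxy, fun d hd => ⟨hF1 x hx1 hx2 d hd, hF1 y hy1 hy2 d hd⟩⟩
    · refine ⟨w, hw0, hF2 w hw2 hw1, ?_⟩
      intro v hv
      apply hw3
      · have := hv (DihedralGroup.r 2) (by decide)
        rwa [hψz] at this
      · have := hv (DihedralGroup.sr 1) (by decide)
        rwa [hψu] at this
  · obtain ⟨I1, I2, I3, I4, I6, I8, I5⟩ := rels A hAc t r hr4 htr hz' a₁ ha₁ hta
    have ha₂ : r * a₁ * r⁻¹ ∈ A := hconj r a₁ ha₁
    set a₂ := r * a₁ * r⁻¹ with ha₂def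
    set b₁ := a₁ * a₂⁻¹ with hb₁def
    have hb₁ : b₁ ∈ A := A.mul_mem ha₁ (A.inv_mem ha₂)
    have Ir : r * a₁ = a₂ * r := by rw [ha₂def]; group
    have hub : (t * r) * b₁ = b₁ * (t * r) := by
      calc (t * r) * (a₁ * a₂⁻¹) = t * (r * a₁) * a₂⁻¹ := by group
        _ = t * (a₂ * r) * a₂⁻¹ := by rw [Ir]
        _ = (t * a₂) * (r * a₂⁻¹) := by group
        _ = (a₂⁻¹ * t) * (a₁ * r) := by rw [I3, ← I2]
        _ = a₂⁻¹ * (t * a₁) * r := by group
        _ = a₂⁻¹ * (a₁ * t) * r := by rw [hta]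
        _ = (a₂⁻¹ * a₁) * (t * r) := by group
        _ = (a₁ * a₂⁻¹) * (t * r) := by rw [hAc _ (A.inv_mem ha₂) _ ha₁]
    have hb₁1 : b₁ ≠ 1 := by
      intro h
      rw [hb₁def, mul_inv_eq_one] at h
      apply ha₁1
      apply eq_one_of_eq_inv a₁ (hA3 _ ha₁)
      rw [← h, hta] at I3
      exact mul_right_cancel I3
    by_cases hM3 : ∃ m : M, m ≠ 0 ∧ ρ b₁ m = m
    · obtain ⟨hc, ⟨x, y, hx0, hy0, hxy, hx1, hx2, hy1, hy2⟩, ⟨w, hw0, hw1, hw2, hw3⟩⟩ :=
        case_lemma A hAc hA3 hA9 X hAX (t * r) r hu2 hr4 hur hXgen' hz' b₁ hb₁ hb₁1 hub ρ hfaith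
          hirr hM3
      have htzr : t * z = t * r * r := by rw [hzdef, pow_two, mul_assoc]
      refine ⟨hc, assemble ρ ψ hψ X hXψ F1 F2 K1 (fun d => Iff.rfl) (by decide) F1_sq d8_dich ?_ ?_⟩
      · exact ⟨x, y, hx0, hy0, hxy, fun d hd => ⟨hF2 x hx1 hx2 d hd, hF2 y hy1 hy2 d hd⟩⟩
      · have htw : ρ t w = w := by
          have e : t = (t * r * r) * z := by rw [← htzr, mul_assoc, hzz, mul_one]
          calc ρ t w = ρ ((t * r * r) * z) w := by rw [← e]
            _ = w := by rw [act_mul, hw1, hw2]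
        refine ⟨w, hw0, hF1 w htw hw1, ?_⟩
        intro v hv
        apply hw3
        · have := hv (DihedralGroup.r 2) (by decide)
          rwa [hψz] at this
        · have := hv (DihedralGroup.sr 2) (by decide)
          rwa [hψtz, htzr] at this
    · exfalso
      have Z1 : ∀ m : M, ρ a₁ m = m → m = 0 := by
        intro m hm
        by_contra h
        exact hM1 ⟨m, h, hm⟩
      have Z3 : ∀ m : M, ρ b₁ m = m → m = 0 := by
        intro m hm
        by_contra h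
        exact hM3 ⟨m, h, hm⟩
      have Z2 : ∀ m : M, ρ a₂ m = m → m = 0 := fix_conj ρ a₁ r Z1
      have Z4 : ∀ m : M, ρ (a₁ * a₂) m = m → m = 0 := by
        have e : r * b₁ * r⁻¹ = a₁ * a₂ := by
          calc r * (a₁ * a₂⁻¹) * r⁻¹ = (r * a₁ * r⁻¹) * ((r * a₂⁻¹) * r⁻¹) := by group
            _ = a₂ * ((a₁ * r) * r⁻¹) := by rw [← I2]
            _ = a₂ * a₁ := by group
            _ = a₁ * a₂ := I1.symm
        rw [← e]
        exact fix_conj ρ b₁ r Z3
      obtain ⟨m, hm⟩ := exists_ne (0 : M)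
      exact hm (split_lemma ρ a₁ a₂ (hA3 _ ha₁) (hA3 _ ha₂) I1 Z1 Z2 Z3 Z4 m)

end Cfsg.Agent.S4407
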