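import Cfsg.Statements.S4408
import Cfsg.Agent.Lib.Helper32.ThompsonDihedral
import Cfsg.Agent.Lib.Helper21.FStar

set_option autoImplicit false
open Cfsg

namespace Cfsg.Agent.S4408

open Cfsg.Agent.Helper32

/-- Let S be a finite solvable group whose Fitting subgroup F(S) has odd order, and let I be an elementary abelian 2-subgroup of S of order 2ⁿ with n ≥ 1. Then F(S) contains subgroups A₁, …, Aₙ of prime order, each normalized by I, pairwise commuting and generating a subgroup A of order |A₁|⋯|Aₙ| (their internal direct product), such that no non-identity element of I centralizes A. -/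
theorem result {S : Type*} [Group S] [Finite S]
    [Group.IsSolvable S] (hF : Odd (Nat.card ↥(Cfsg.fittingSubgroup S)))
    (I : Subgroup S) (hI : Cfsg.IsElementaryAbelian 2 I) (n : ℕ) (hn : 1 ≤ n) (hIn : Nat.card ↥I = 2 ^ n) :
    ∃ f : Fin n → Subgroup S, (∀ i, (Nat.card ↥(f i)).Prime) ∧ (∀ i, f i ≤ Cfsg.fittingSubgroup S) ∧
      (∀ i, I ≤ Subgroup.normalizer ((f i) : Set S)) ∧ (∀ i j, i ≠ j → ∀ a ∈ f i, ∀ b ∈ f j, a * b = b * a) ∧
      Nat.card ↥(⨆ i, f i) = ∏ i, Nat.card ↥(f i) ∧ I ⊓ Subgroup.centralizer ((⨆ i, f i : Subgroup S) : Set S) = ⊥ := by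
  classical
  obtain ⟨hIcomm, hI2⟩ := hI
  have hIc : ∀ x ∈ I, ∀ y ∈ I, x * y = y * x := fun x hx y hy =>
    congrArg Subtype.val (hIcomm.is_comm.comm ⟨x, hx⟩ ⟨y, hy⟩)
  have hFn : (Cfsg.fittingSubgroup S).Normal := Cfsg.Agent.Helper70.fittingSubgroup_normal S
  have hIF : I ≤ Subgroup.normalizer ((Cfsg.fittingSubgroup S : Subgroup S) : Set S) := by
    rw [Subgroup.normalizer_eq_top]; exact le_top
  have hCF : Subgroup.centralizer ((Cfsg.fittingSubgroup S : Subgroup S) : Set S) ≤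
      Cfsg.fittingSubgroup S :=
    (Cfsg.Agent.Helper21.solvable_le_fitting_of_le_centralizer _ le_rfl Subgroup.le_normalizer
      inferInstance).trans inf_le_right
  have hfaith : I ⊓ Subgroup.centralizer ((Cfsg.fittingSubgroup S : Subgroup S) : Set S) = ⊥ := by
    rw [Subgroup.eq_bot_iff_forall]
    intro x hx
    obtain ⟨hxI, hxC⟩ := Subgroup.mem_inf.mp hx
    exact TD.eq_one_of_sq_of_mem hF (hCF hxC) (hI2 x hxI)
  obtain ⟨b, l, hP1, hP2, -, hP4⟩ :=
    TD.exists_frame hIc hI2 n (Cfsg.fittingSubgroup S) I inferInstance hF hIF le_rfl hIn hfaith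
  have hcommz : ∀ i j : Fin n, i ≠ j → ∀ x ∈ Subgroup.zpowers (l i), ∀ y ∈ Subgroup.zpowers (l j),
      x * y = y * x := by
    intro i j hij x hx y hy
    have hij' : (i : ℕ) ≠ (j : ℕ) := fun h => hij (Fin.ext h)
    obtain ⟨k, rfl⟩ := Subgroup.mem_zpowers_iff.mp hx
    obtain ⟨k', rfl⟩ := Subgroup.mem_zpowers_iff.mp hy
    have hc : Commute (l (i : ℕ)) (l (j : ℕ)) := (hP2 i i.2 j j.2 hij').2
    exact (hc.zpow_zpow k k').eq
  have hlF : ∀ i : Fin n, Subgroup.zpowers (l i) ≤ Cfsg.fittingSubgroup S := fun i =>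
    Subgroup.zpowers_le.mpr (hP1 i i.2).2.1
  refine ⟨fun i => Subgroup.zpowers (l i), ?_, hlF, ?_, hcommz, ?_, ?_⟩
  · intro i
    rw [Nat.card_zpowers]
    exact (hP1 i i.2).2.2.1
  · intro i
    apply TD.le_normalizer_of_forall
    intro a ha x hx
    obtain ⟨k, rfl⟩ := Subgroup.mem_zpowers_iff.mp hx
    rw [← conj_zpow]
    rcases (hP1 i i.2).2.2.2.1 a ha with h | h
    · rw [h]; exact Subgroup.zpow_mem_zpowers _ _
    · rw [h]; exact Subgroup.zpow_mem _ (Subgroup.inv_mem _ (Subgroup.mem_zpowers _)) _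
  · -- independence
    have hcomm : Pairwise fun i j : Fin n => ∀ x y : S, x ∈ Subgroup.zpowers (l i) →
        y ∈ Subgroup.zpowers (l j) → Commute x y :=
      fun i j hij x y hx hy => hcommz i j hij x hx y hy
    have hind : iSupIndep (fun i : Fin n => Subgroup.zpowers (l i)) := by
      intro i
      rw [Subgroup.disjoint_def]
      intro z hz hz'
      have hle : (⨆ j, ⨆ (_ : j ≠ i), Subgroup.zpowers (l (j : ℕ))) ≤
          Subgroup.centralizer ({b (i : ℕ)} : Set S) := by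
        apply iSup_le
        intro j
        apply iSup_le
        intro hji
        rw [Subgroup.zpowers_le, Subgroup.mem_centralizer_singleton_iff]
        have hji' : (i : ℕ) ≠ (j : ℕ) := fun h => hji (Fin.ext h.symm)
        exact ((hP2 i i.2 j j.2 hji').1).symm
      have hzb : z * b (i : ℕ) = b (i : ℕ) * z := Subgroup.mem_centralizer_singleton_iff.mp (hle hz')
      obtain ⟨k, rfl⟩ := Subgroup.mem_zpowers_iff.mp hz
      have hinv : b (i : ℕ) * (l (i : ℕ) ^ k) * (b (i : ℕ))⁻¹ = (l (i : ℕ) ^ k)⁻¹ := by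
        rw [← conj_zpow, (hP1 i i.2).2.2.2.2, inv_zpow]
      have hfix : b (i : ℕ) * (l (i : ℕ) ^ k) * (b (i : ℕ))⁻¹ = l (i : ℕ) ^ k :=
        TD.comm_iff_conj.mp hzb.symm
      exact TD.eq_one_of_inv_eq_self hF (hlF i hz) (hfix.symm.trans hinv)
    have hinj := Subgroup.injective_noncommPiCoprod_of_iSupIndep (hcomm := hcomm) hind
    rw [← Subgroup.noncommPiCoprod_range (hcomm := hcomm),
      Nat.card_congr (MonoidHom.ofInjective hinj).toEquiv.symm, Nat.card_pi]
  · rw [Subgroup.eq_bot_iff_forall]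
    intro x hx
    obtain ⟨hxI, hxC⟩ := Subgroup.mem_inf.mp hx
    apply hP4 x hxI
    intro i hi
    have hmem : l i ∈ (⨆ j : Fin n, Subgroup.zpowers (l (j : ℕ)) : Subgroup S) :=
      (le_iSup (fun j : Fin n => Subgroup.zpowers (l (j : ℕ))) ⟨i, hi⟩) (Subgroup.mem_zpowers (l i))
    exact (Subgroup.mem_centralizer_iff.mp hxC _ hmem).symm

end Cfsg.Agent.S4408
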