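import Cfsg.Statements.S4410
import Cfsg.Agent.Lib.Helper22.Fitting
import Cfsg.Agent.Lib.Helper22.Radical
import Cfsg.Agent.Lib.Helper94.Solvable
-- import your own Cfsg.Agent.* helpers here

set_option autoImplicit false
open Cfsg

namespace Cfsg.Agent.S4410

section Lin

variable {V : Type*} [AddCommGroup V] [Module (ZMod 2) V]

theorem app_mul (g h : V ≃ₗ[ZMod 2] V) (v : V) : (g * h) v = g (h v) := rfl

theorem app_one (v : V) : (1 : V ≃ₗ[ZMod 2] V) v = v := rfl

theorem app_inv_self (g : V ≃ₗ[ZMod 2] V) (v : V) : g (g⁻¹ v) = v := by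
  rw [← app_mul, mul_inv_cancel, app_one]

theorem add_self_eq (x : V) : x + x = 0 := ZModModule.add_self x

theorem neg_eq (x : V) : -x = x := ZModModule.neg_eq_self x

/-- `s` is an involution moving every vector by `0` or `c`. -/
def IsTv (s : V ≃ₗ[ZMod 2] V) (c : V) : Prop :=
  s * s = 1 ∧ ∀ v, s v = v ∨ s v = v + c

theorem IsTv.fix {s : V ≃ₗ[ZMod 2] V} {c : V} (h : IsTv s c) : s c = c := by
  rcases h.2 c with h1 | h1
  · exact h1
  · rw [add_self_eq] at h1
    have h2 : c = 0 := s.injective (h1.trans (map_zero s).symm)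
    rw [h2, map_zero]

theorem IsTv.conj {s : V ≃ₗ[ZMod 2] V} {c : V} (h : IsTv s c) (g : V ≃ₗ[ZMod 2] V) :
    IsTv (g * s * g⁻¹) (g c) := by
  refine ⟨?_, ?_⟩
  · calc g * s * g⁻¹ * (g * s * g⁻¹) = g * (s * s) * g⁻¹ := by group
      _ = 1 := by rw [h.1]; group
  · intro v
    have e : (g * s * g⁻¹) v = g (s (g⁻¹ v)) := rfl
    rcases h.2 (g⁻¹ v) with h1 | h1
    · left
      rw [e, h1, app_inv_self]
    · right
      rw [e, h1, map_add, app_inv_self]

theorem IsTv.inv_eq {s : V ≃ₗ[ZMod 2] V} {c : V} (h : IsTv s c) : s⁻¹ = s :=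
  inv_eq_of_mul_eq_one_right h.1

theorem IsTv.app_app {s : V ≃ₗ[ZMod 2] V} {c : V} (h : IsTv s c) (v : V) : s (s v) = v := by
  rw [← app_mul, h.1, app_one]

/-- `g` acts trivially on `V/U`. -/
def Triv (U : Submodule (ZMod 2) V) (g : V ≃ₗ[ZMod 2] V) : Prop := ∀ v, g v - v ∈ U

theorem Triv.mul {U : Submodule (ZMod 2) V} {g h : V ≃ₗ[ZMod 2] V} (hg : Triv U g)
    (hh : Triv U h) : Triv U (g * h) := by
  intro v
  have e : (g * h) v - v = (g (h v) - h v) + (h v - v) := by
    rw [app_mul]; abel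
  rw [e]
  exact U.add_mem (hg _) (hh _)

theorem IsTv.triv {s : V ≃ₗ[ZMod 2] V} {c : V} (h : IsTv s c) {U : Submodule (ZMod 2) V}
    (hc : c ∈ U) : Triv U s := by
  intro v
  rcases h.2 v with h1 | h1
  · rw [h1, sub_self]; exact U.zero_mem
  · rw [h1, add_sub_cancel_left]; exact hc

/-- trivial on `U` and on `V/U` gives an involution (characteristic 2). -/
theorem sq_eq_one_of_triv (g : V ≃ₗ[ZMod 2] V) (U : Submodule (ZMod 2) V) (h1 : Triv U g)
    (h2 : ∀ u ∈ U, g u = u) : g * g = 1 := by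
  apply LinearEquiv.ext
  intro v
  rw [app_mul, app_one]
  have h3 := h2 _ (h1 v)
  rw [map_sub] at h3
  have h4 : g (g v) = g v + g v - v := by
    rw [eq_sub_iff_add_eq]
    have : g (g v) = g v - v + g v := by rw [← h3]; abel
    rw [this]; abel
  rw [h4, add_self_eq, zero_sub, neg_eq]

end Lin

section Grp

variable {G : Type*} [Group G]

theorem eq_one_of_pow_two_pow (g : G) (k : ℕ) (h : g ^ (2 ^ k) = 1) (ho : Odd (orderOf g)) :
    g = 1 := by
  have h1 : orderOf g ∣ 2 ^ k := orderOf_dvd_of_pow_eq_one h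
  have h2 : (orderOf g).Coprime (2 ^ k) := (Nat.coprime_two_right.mpr ho).pow_right k
  have h3 : orderOf g = 1 := Nat.Coprime.eq_one_of_dvd h2 h1
  exact orderOf_eq_one_iff.mp h3

theorem eq_one_of_sq (g : G) (h : g * g = 1) (ho : Odd (orderOf g)) : g = 1 := by
  apply eq_one_of_pow_two_pow g 1 _ ho
  rw [pow_one, pow_two]; exact h

theorem eq_one_of_fourth (g : G) (h : g * g * (g * g) = 1) (ho : Odd (orderOf g)) : g = 1 := by
  apply eq_one_of_pow_two_pow g 2 _ ho
  have : g ^ (2 ^ 2) = g * g * (g * g) := by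
    show g ^ 4 = _
    rw [pow_succ, pow_succ, pow_succ, pow_one]; group
  rw [this]; exact h

theorem cube_of_sixth (g : G) (h : g * g * g * (g * g * g) = 1) (ho : Odd (orderOf g)) :
    g * g * g = 1 := by
  have h6 : g ^ 6 = 1 := by
    have : g ^ 6 = g * g * g * (g * g * g) := by
      rw [pow_succ, pow_succ, pow_succ, pow_succ, pow_succ, pow_one]; group
    rw [this]; exact h
  have h1 : orderOf g ∣ 2 * 3 := orderOf_dvd_of_pow_eq_one h6
  have h2 : (orderOf g).Coprime 2 := Nat.coprime_two_right.mpr ho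
  have h3 : orderOf g ∣ 3 := h2.dvd_of_dvd_mul_left h1
  have h4 : g ^ 3 = 1 := orderOf_dvd_iff_pow_eq_one.mp h3
  rw [← h4, pow_succ, pow_succ, pow_one]

end Grp

section Lin2

variable {V : Type*} [AddCommGroup V] [Module (ZMod 2) V]

/-- Two involutive transvections with odd-order product, one fixing the centre of the other,
are equal. -/
theorem tv_eq_of_fix {s s' : V ≃ₗ[ZMod 2] V} {c c' : V} (hs : IsTv s c) (hs' : IsTv s' c')
    (hodd : Odd (orderOf (s * s'))) (hfix : s' c = c) : s = s' := by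
  have hsc := hs.fix
  have h1 : Triv (Submodule.span (ZMod 2) {c}) (s * s' * (s * s')) := by
    intro v
    have hc : c ∈ Submodule.span (ZMod 2) ({c} : Set V) := Submodule.mem_span_singleton_self c
    have e : (s * s' * (s * s')) v = s (s' (s (s' v))) := rfl
    rw [e]
    rcases hs.2 (s' v) with h | h
    · rw [h, hs'.app_app]
      exact hs.triv hc v
    · rw [h, map_add, hs'.app_app, hfix, map_add, hsc]
      rcases hs.2 v with h' | h'
      · rw [h', add_sub_cancel_left]; exact hc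
      · rw [h', add_assoc, add_self_eq, add_zero, sub_self]
        exact Submodule.zero_mem _
  have h2 : ∀ u ∈ Submodule.span (ZMod 2) ({c} : Set V), (s * s' * (s * s')) u = u := by
    intro u hu
    obtain ⟨a, rfl⟩ := Submodule.mem_span_singleton.mp hu
    have e : (s * s' * (s * s')) c = c := by
      show s (s' (s (s' c))) = c
      rw [hfix, hsc, hfix, hsc]
    rw [map_smul, e]
  have h3 := sq_eq_one_of_triv _ _ h1 h2
  have h4 : s * s' = 1 := by
    apply eq_one_of_fourth _ _ hodd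
    exact h3
  calc s = s * s' * s'⁻¹ := by group
    _ = s' := by rw [h4, one_mul, hs'.inv_eq]

/-- Two distinct involutive transvections with odd-order product generate an `S₃`. -/
theorem tv_cube {s s' : V ≃ₗ[ZMod 2] V} {c c' : V} (hs : IsTv s c) (hs' : IsTv s' c')
    (hodd : Odd (orderOf (s * s'))) (hne : s ≠ s') :
    (s * s') * (s * s') * (s * s') = 1 ∧ s' c = c + c' ∧ s c' = c' + c := by
  have hodd' : Odd (orderOf (s' * s)) := by
    have : s' * s = (s * s')⁻¹ := by rw [mul_inv_rev, hs.inv_eq, hs'.inv_eq]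
    rw [this, orderOf_inv]; exact hodd
  have h1 : s' c = c + c' :=
    (hs'.2 c).resolve_left (fun h => hne (tv_eq_of_fix hs hs' hodd h))
  have h2 : s c' = c' + c :=
    (hs.2 c').resolve_left (fun h => hne (tv_eq_of_fix hs' hs hodd' h).symm)
  refine ⟨?_, h1, h2⟩
  have hsc := hs.fix
  have hsc' := hs'.fix
  set g := s * s' with hg
  have gc : g c = c' := by
    show s (s' c) = c'
    rw [h1, map_add, hsc, h2, add_comm c' c, ← add_assoc, add_self_eq, zero_add]
  have gc' : g c' = c' + c := by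
    show s (s' c') = c' + c
    rw [hsc', h2]
  have gcc : g (c' + c) = c := by
    rw [map_add, gc', gc]
    have e : c' + c + c' = c + (c' + c') := by abel
    rw [e, add_self_eq, add_zero]
  have g3c : (g * g * g) c = c := by
    show g (g (g c)) = c
    rw [gc, gc', gcc]
  have g3c' : (g * g * g) c' = c' := by
    show g (g (g c')) = c'
    rw [gc', gcc, gc]
  have hcU : c ∈ Submodule.span (ZMod 2) ({c, c'} : Set V) :=
    Submodule.subset_span (Set.mem_insert _ _)
  have hcU' : c' ∈ Submodule.span (ZMod 2) ({c, c'} : Set V) :=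
    Submodule.subset_span (Set.mem_insert_of_mem _ rfl)
  have hT : Triv (Submodule.span (ZMod 2) ({c, c'} : Set V)) g :=
    (hs.triv hcU).mul (hs'.triv hcU')
  have hT3 : Triv (Submodule.span (ZMod 2) ({c, c'} : Set V)) (g * g * g) := (hT.mul hT).mul hT
  have hfix : ∀ u ∈ Submodule.span (ZMod 2) ({c, c'} : Set V), (g * g * g) u = u := by
    intro u hu
    obtain ⟨a, b, rfl⟩ := Submodule.mem_span_pair.mp hu
    rw [map_add, map_smul, map_smul, g3c, g3c']
  have h6 := sq_eq_one_of_triv _ _ hT3 hfix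
  exact cube_of_sixth g h6 hodd

end Lin2

section Core

variable {V : Type*} [AddCommGroup V] [Module (ZMod 2) V]

/-- The group-theoretic core: no element `P` of order 4 in `S` whose square is a transvection,
given a normal odd-order self-centralizing subgroup `F` of `S`. -/
theorem core (S F : Subgroup (V ≃ₗ[ZMod 2] V))
    (hFn : ∀ s ∈ S, ∀ x ∈ F, s * x * s⁻¹ ∈ F)
    (hFodd : ∀ x ∈ F, Odd (orderOf x))
    (hFc : ∀ s ∈ S, (∀ x ∈ F, s * x = x * s) → s ∈ F)
    (P : V ≃ₗ[ZMod 2] V) (hPS : P ∈ S) (hP4 : orderOf P = 4) (w : V)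
    (hw : ∀ v, P (P v) = v ∨ P (P v) = v + w) (hPw : P w = w) : False := by
  obtain ⟨t, ht⟩ : ∃ t, t = P * P := ⟨_, rfl⟩
  have htS : t ∈ S := by rw [ht]; exact S.mul_mem hPS hPS
  have htt : t * t = 1 := by
    have h4 : P ^ 4 = 1 := by rw [← hP4]; exact pow_orderOf_eq_one P
    have : t * t = P ^ 4 := by
      rw [ht, pow_succ, pow_succ, pow_succ, pow_one]; group
    rw [this, h4]
  have ht1 : t ≠ 1 := by
    intro h
    have h2 : orderOf P ∣ 2 := orderOf_dvd_of_pow_eq_one (by rw [pow_two, ← ht]; exact h)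
    rw [hP4] at h2
    norm_num at h2
  have htv : IsTv t w := ⟨htt, by intro v; rw [ht]; exact hw v⟩
  have htinv : t⁻¹ = t := htv.inv_eq
  have htF : t ∉ F := by
    intro h
    have h1 := hFodd t h
    exact ht1 (eq_one_of_sq t htt h1)
  have hex : ∃ x ∈ F, t * x ≠ x * t := by
    by_contra hcon
    push Not at hcon
    exact htF (hFc t htS hcon)
  obtain ⟨x, hxF, hxt⟩ := hex
  obtain ⟨t₁, ht₁⟩ : ∃ t₁, t₁ = x * t * x⁻¹ := ⟨_, rfl⟩
  have T_odd : ∀ s s' : V ≃ₗ[ZMod 2] V, s * s = 1 → t * s ∈ F → t * s' ∈ F →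
      Odd (orderOf (s * s')) := by
    intro s s' hs h1 h2
    have e : s * s' = (t * s)⁻¹ * (t * s') := by
      rw [mul_inv_rev, htinv, inv_eq_of_mul_eq_one_right hs]
      calc s * s' = s * 1 * s' := by group
        _ = s * (t * t) * s' := by rw [htt]
        _ = s * t * (t * s') := by group
    rw [e]
    exact hFodd _ (F.mul_mem (F.inv_mem h1) h2)
  have h1F : t * t₁ ∈ F := by
    have e : t * t₁ = (t * x * t⁻¹) * x⁻¹ := by rw [ht₁, htinv]; group
    rw [e]
    exact F.mul_mem (hFn t htS x hxF) (F.inv_mem hxF)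
  have htv1 : IsTv t₁ (x w) := by rw [ht₁]; exact htv.conj x
  have h11 : t₁ * t₁ = 1 := htv1.1
  have hne1 : t ≠ t₁ := by
    intro h
    apply hxt
    calc t * x = t₁ * x := by rw [← h]
      _ = x * t := by rw [ht₁]; group
  obtain ⟨g, hg⟩ : ∃ g, g = t * t₁ := ⟨_, rfl⟩
  have hgF : g ∈ F := by rw [hg]; exact h1F
  have hgodd : Odd (orderOf g) := hFodd g hgF
  obtain ⟨hg3, -, h_b⟩ := tv_cube htv htv1 (by rw [← hg]; exact hgodd) hne1
  rw [← hg] at hg3
  have hginv : t * g * t⁻¹ = g⁻¹ := by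
    rw [hg, mul_inv_rev, htinv, htv1.inv_eq]
    calc t * (t * t₁) * t = (t * t) * t₁ * t := by group
      _ = t₁ * t := by rw [htt, one_mul]
  have hg1 : g ≠ 1 := by
    intro h
    apply hne1
    rw [hg] at h
    have h2 := inv_eq_of_mul_eq_one_right h
    rw [htinv] at h2
    exact h2
  obtain ⟨t₂, ht₂⟩ : ∃ t₂, t₂ = P * t₁ * P⁻¹ := ⟨_, rfl⟩
  have hPt : P * t * P⁻¹ = t := by rw [ht]; group
  have hPgF : t * t₂ = P * g * P⁻¹ := by
    calc t * t₂ = (P * t * P⁻¹) * t₂ := by rw [hPt]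
      _ = P * g * P⁻¹ := by rw [ht₂, hg]; group
  have h2F : t * t₂ ∈ F := by
    rw [hPgF]; exact hFn P hPS _ hgF
  have htv2 : IsTv t₂ (P (x w)) := by rw [ht₂]; exact htv1.conj P
  have h22 : t₂ * t₂ = 1 := htv2.1
  by_cases h12 : t₁ = t₂
  · have hPg : P * g * P⁻¹ = g := by
      rw [← hPgF, ← h12, ← hg]
    have htg : t * g * t⁻¹ = g := by
      calc t * g * t⁻¹ = P * (P * g * P⁻¹) * P⁻¹ := by rw [ht]; group
        _ = g := by rw [hPg, hPg]
    rw [hginv] at htg
    apply hg1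
    have hgg : g * g = 1 := by
      nth_rewrite 1 [← htg]
      group
    calc g = g * g * g * (g * g)⁻¹ := by group
      _ = 1 := by rw [hg3, hgg]; group
  · have hodd12 : Odd (orderOf (t₁ * t₂)) := T_odd t₁ t₂ h11 h1F h2F
    have h2a : t₂ (x w) ≠ x w := fun h => h12 (tv_eq_of_fix htv1 htv2 hodd12 h)
    have h2a' : t₂ (x w) = x w + P (x w) := (htv2.2 (x w)).resolve_left h2a
    obtain ⟨t₃, ht₃⟩ : ∃ t₃, t₃ = t₂ * t₁ * t₂⁻¹ := ⟨_, rfl⟩
    have htv3 : IsTv t₃ (t₂ (x w)) := by rw [ht₃]; exact htv1.conj t₂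
    have h3F : t * t₃ ∈ F := by
      have e : t * t₃ = (t * t₂) * (t * t₁)⁻¹ * (t * t₂) := by
        rw [ht₃, mul_inv_rev, htinv, htv1.inv_eq, htv2.inv_eq]
        calc t * (t₂ * t₁ * t₂) = t * t₂ * t₁ * 1 * t₂ := by group
          _ = t * t₂ * t₁ * (t * t) * t₂ := by rw [htt]
          _ = t * t₂ * (t₁ * t) * (t * t₂) := by group
      rw [e]
      exact F.mul_mem (F.mul_mem h2F (F.inv_mem h1F)) h2F
    have hodd3 : Odd (orderOf (t₃ * t)) :=
      T_odd t₃ t htv3.1 h3F (by rw [htt]; exact F.one_mem)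
    have hb' : t (P (x w)) = P (x w) + w := by
      have e : t (P (x w)) = P (t (x w)) := by rw [ht]; rfl
      rw [e, h_b, map_add, hPw]
    have hfix3 : t (t₂ (x w)) = t₂ (x w) := by
      rw [h2a', map_add, h_b, hb']
      have e : x w + w + (P (x w) + w) = x w + P (x w) + (w + w) := by abel
      rw [e, add_self_eq, add_zero]
    have h3t : t₃ = t := tv_eq_of_fix htv3 htv hodd3 hfix3
    -- group theory endgame
    obtain ⟨g', hg'⟩ : ∃ g', g' = P * g * P⁻¹ := ⟨_, rfl⟩
    have e1 : t₁ = t * g := by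
      rw [hg, ← mul_assoc, htt, one_mul]
    have e2 : t₂ = t * g' := by
      rw [hg', ← hPgF, ← mul_assoc, htt, one_mul]
    have e3 : t₂ * t₁ * t₂ = t := by
      rw [← h3t, ht₃, htv2.inv_eq]
    have e4 : t * g * t = g⁻¹ := by
      rw [← hginv, htinv]
    have e5 : g' * g⁻¹ * g' = 1 := by
      calc g' * g⁻¹ * g' = g' * (t * g * t) * g' := by rw [e4]
        _ = 1 * g' * t * g * t * g' := by group
        _ = (t * t) * g' * t * g * t * g' := by rw [htt]
        _ = t * ((t * g') * (t * g) * (t * g')) := by group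
        _ = t * (t₂ * t₁ * t₂) := by rw [← e1, ← e2]
        _ = 1 := by rw [e3, htt]
    have e6 : g = g' * g' := by
      calc g = g' * (g' * g⁻¹ * g')⁻¹ * g' := by group
        _ = g' * g' := by rw [e5]; group
    have e7 : P * g' * P⁻¹ = g⁻¹ := by
      calc P * g' * P⁻¹ = (P * P) * g * (P * P)⁻¹ := by rw [hg']; group
        _ = g⁻¹ := by rw [← ht, hginv]
    have e8 : g' = g⁻¹ * g⁻¹ := by
      calc g' = P * g * P⁻¹ := hg'
        _ = P * (g' * g') * P⁻¹ := by rw [← e6]
        _ = (P * g' * P⁻¹) * (P * g' * P⁻¹) := by group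
        _ = g⁻¹ * g⁻¹ := by rw [e7]
    have e9 : g = g⁻¹ := by
      calc g = g' * g' := e6
        _ = g⁻¹ * g⁻¹ * (g⁻¹ * g⁻¹) := by rw [← e8]
        _ = g⁻¹ * (g * g * g)⁻¹ := by group
        _ = g⁻¹ := by rw [hg3]; group
    apply hg1
    have hgg : g * g = 1 := by
      nth_rewrite 1 [e9]
      group
    calc g = g * g * g * (g * g)⁻¹ := by group
      _ = 1 := by rw [hg3, hgg]; group

end Core

section Fit

variable {H : Type*} [Group H] [Finite H]

theorem fitting_odd (h : Cfsg.pCore 2 H = ⊥) (x : H) (hx : x ∈ Cfsg.fittingSubgroup H) :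
    Odd (orderOf x) := by
  have : Fact (Nat.Prime 2) := ⟨Nat.prime_two⟩
  have h1 : Cfsg.fittingSubgroup H ≤ Cfsg.pCore 2 H ⊔ Cfsg.pPrimeCore 2 H :=
    Cfsg.Agent.Helper22.fittingSubgroup_le_pCore_sup_pPrimeCore 2
  rw [h, bot_sup_eq] at h1
  have h2 : x ∈ Cfsg.pPrimeCore 2 H := h1 hx
  have h3 : orderOf x ∣ Nat.card (Cfsg.pPrimeCore 2 H) := Subgroup.orderOf_dvd_natCard _ h2
  have h4 : (Nat.card (Cfsg.pPrimeCore 2 H)).Coprime 2 :=
    Cfsg.Agent.Helper22.card_pPrimeCore_coprime 2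
  exact Nat.coprime_two_right.mp (Nat.Coprime.coprime_dvd_left h3 h4)

end Fit

/-- a one-dimensional-or-less subspace over `ZMod 2` -/
theorem exists_gen {V : Type*} [AddCommGroup V] [Module (ZMod 2) V] [Finite V]
    (R : Submodule (ZMod 2) V) (hR : Nat.card R < 4) :
    ∃ w ∈ R, ∀ x ∈ R, x = 0 ∨ x = w := by
  have h1 : Nat.card R = Nat.card (ZMod 2) ^ Module.finrank (ZMod 2) R :=
    Module.natCard_eq_pow_finrank
  rw [Nat.card_zmod] at h1
  have h2 : Module.finrank (ZMod 2) R ≤ 1 := by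
    by_contra hcon
    push Not at hcon
    have : 2 ^ 2 ≤ 2 ^ Module.finrank (ZMod 2) R := Nat.pow_le_pow_right (by norm_num) hcon
    omega
  obtain ⟨v, hv⟩ := finrank_le_one_iff.mp h2
  refine ⟨v, v.2, ?_⟩
  intro x hx
  obtain ⟨c, hc⟩ := hv ⟨x, hx⟩
  have hc' : c • (v : V) = x := by
    have := congrArg Subtype.val hc
    simpa using this
  rcases (by decide : ∀ c : ZMod 2, c = 0 ∨ c = 1) c with rfl | rfl
  · left
    rw [← hc', zero_smul]
  · right
    rw [← hc', one_smul]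

/-- Let V be a finite-dimensional vector space over the field with two elements and S a solvable group of linear automorphisms of V with O₂(S) = 1. If P ∈ S has order 4 and (P − 1)³ = 0 on V, then the image of (P − 1)² has at least 4 elements; equivalently, in the decomposition of V into indecomposable modules for the cyclic group generated by P, at least two summands have dimension 3. -/
theorem result
    {V : Type*} [AddCommGroup V] [Module (ZMod 2) V] [Finite V]
    (S : Subgroup (V ≃ₗ[ZMod 2] V)) (hS : Group.IsSolvable ↥S) (hO2 : Cfsg.pCore 2 ↥S = ⊥)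
    (P : V ≃ₗ[ZMod 2] V) (hPS : P ∈ S) (hP4 : orderOf P = 4)
    (hcub : ((P : V →ₗ[ZMod 2] V) - LinearMap.id) ^ 3 = 0) :
    4 ≤ Nat.card ↥(LinearMap.range (((P : V →ₗ[ZMod 2] V) - LinearMap.id) ^ 2)) := by
  by_contra hlt
  push Not at hlt
  have hfinG : Finite (V ≃ₗ[ZMod 2] V) := Finite.of_injective _ LinearEquiv.toEquiv_injective
  obtain ⟨w, hwR, hw⟩ := exists_gen _ hlt
  have hN2 : ∀ v, ((((P : V →ₗ[ZMod 2] V) - LinearMap.id) ^ 2 : V →ₗ[ZMod 2] V) v) = P (P v) + v := by
    intro v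
    rw [pow_two, Module.End.mul_apply]
    simp only [LinearMap.sub_apply, LinearEquiv.coe_coe, LinearMap.id_apply, map_sub]
    have e : P (P v) - P v - (P v - v) = P (P v) + v - (P v + P v) := by abel
    rw [e, add_self_eq, sub_zero]
  have hw' : ∀ v, P (P v) = v ∨ P (P v) = v + w := by
    intro v
    have hm : (((P : V →ₗ[ZMod 2] V) - LinearMap.id) ^ 2 : V →ₗ[ZMod 2] V) v ∈
        LinearMap.range (((P : V →ₗ[ZMod 2] V) - LinearMap.id) ^ 2) :=
      LinearMap.mem_range_self _ v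
    rcases hw _ hm with h | h
    · left
      rw [hN2] at h
      have h' := eq_neg_of_add_eq_zero_left h
      rw [neg_eq] at h'
      exact h'
    · right
      rw [hN2] at h
      have h' : P (P v) = w - v := eq_sub_of_add_eq h
      rw [h', sub_eq_add_neg, neg_eq, add_comm]
  have hPw : P w = w := by
    obtain ⟨v, rfl⟩ := LinearMap.mem_range.mp hwR
    have h3 : (((P : V →ₗ[ZMod 2] V) - LinearMap.id) ^ 3 : V →ₗ[ZMod 2] V) v = 0 := by rw [hcub]; rfl
    rw [pow_succ', Module.End.mul_apply] at h3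
    simp only [LinearMap.sub_apply, LinearEquiv.coe_coe, LinearMap.id_apply] at h3
    exact sub_eq_zero.mp h3
  have hF0n : (Cfsg.fittingSubgroup ↥S).Normal := Cfsg.Agent.Helper22.fittingSubgroup_normal
  have hF0c : Subgroup.centralizer ((Cfsg.fittingSubgroup ↥S : Subgroup ↥S) : Set ↥S) ≤
      Cfsg.fittingSubgroup ↥S := Cfsg.Agent.Helper94.centralizer_fitting_le
  apply core S ((Cfsg.fittingSubgroup ↥S).map S.subtype) ?_ ?_ ?_ P hPS hP4 w hw' hPw
  · intro s hs x hx
    obtain ⟨y, hy, rfl⟩ := Subgroup.mem_map.mp hx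
    exact Subgroup.mem_map.mpr ⟨⟨s, hs⟩ * y * ⟨s, hs⟩⁻¹, hF0n.conj_mem y hy ⟨s, hs⟩, rfl⟩
  · intro x hx
    obtain ⟨y, hy, rfl⟩ := Subgroup.mem_map.mp hx
    have h1 := fitting_odd hO2 y hy
    rwa [Subgroup.coe_subtype, Subgroup.orderOf_coe]
  · intro s hs hcomm
    refine Subgroup.mem_map.mpr ⟨⟨s, hs⟩, hF0c ?_, rfl⟩
    rw [Subgroup.mem_centralizer_iff]
    intro h hh
    apply Subtype.ext
    have h1 := hcomm (h : V ≃ₗ[ZMod 2] V) (Subgroup.mem_map.mpr ⟨h, hh, rfl⟩)
    simpa using h1.symm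

end Cfsg.Agent.S4410
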