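import Cfsg.Statements.S4412
import Cfsg.Agent.Lib.Helper29.CoprimeHyp
import Cfsg.Agent.Lib.Helper40.IndexTwo
import Cfsg.Agent.Lib.Helper66.SameOrderIso

set_option autoImplicit false
open Cfsg

namespace Cfsg.Agent.S4412

open Subgroup

section basics

variable {G : Type*} [Group G]

/-- The powers of an involution. -/
theorem mem_zpowers_invol {α y : G} (hα : α * α = 1) (hy : y ∈ zpowers α) : y = 1 ∨ y = α := by
  obtain ⟨k, hk⟩ := Subgroup.mem_zpowers_iff.mp hy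
  rcases Int.even_or_odd k with ⟨m, rfl⟩ | ⟨m, rfl⟩
  · left
    rw [← hk, ← two_mul, zpow_mul, zpow_two, hα, one_zpow]
  · right
    rw [← hk, zpow_add, zpow_mul, zpow_two, hα, one_zpow, one_mul, zpow_one]

/-- In an elementary abelian `2`-group, a subgroup `F` missing `c` extends to a subgroup `H` of
index `2` missing `c`. -/
theorem exists_hyperplane {A : Type*} [CommGroup A] [Finite A]
    (hA2 : ∀ x : A, x * x = 1) (F : Subgroup A) (c : A) (hcF : c ∉ F) :
    ∃ H : Subgroup A, F ≤ H ∧ c ∉ H ∧ ∀ x : A, x ∈ H ∨ c * x ∈ H := by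
  classical
  have hfin : {H : Subgroup A | F ≤ H ∧ c ∉ H}.Finite := Set.toFinite _
  obtain ⟨H, hFH, hmax⟩ := hfin.exists_le_maximal (a := F) ⟨le_rfl, hcF⟩
  obtain ⟨-, hcH⟩ := hmax.prop
  refine ⟨H, hFH, hcH, ?_⟩
  intro x
  by_contra hcon
  push Not at hcon
  obtain ⟨hxH, hcxH⟩ := hcon
  have hmem : (H ⊔ zpowers x) ∈ {H : Subgroup A | F ≤ H ∧ c ∉ H} := by
    refine ⟨le_trans hFH le_sup_left, ?_⟩
    intro hc
    obtain ⟨h, hh, y, hy, hhy⟩ := Subgroup.mem_sup.mp hc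
    rcases mem_zpowers_invol (hA2 x) hy with hy1 | hy1
    · rw [hy1, mul_one] at hhy
      exact hcH (hhy ▸ hh)
    · apply hcxH
      rw [← hhy, hy1, mul_assoc, hA2 x, mul_one]
      exact hh
  have := hmax.le_of_ge hmem le_sup_left
  exact hxH (this (mem_sup_right (mem_zpowers x)))

/-- The combinatorial choice: in an elementary abelian group of order `8` with a proper subgroup
`F` free of bad elements and containing all products of two bad elements, there is a four-group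
free of bad elements. -/
theorem exists_pair {A : Type*} [CommGroup A] [Finite A]
    (hA2 : ∀ x : A, x * x = 1) (hA8 : Nat.card A = 8) (F : Subgroup A) (hF : F ≠ ⊤)
    (Bad : A → Prop) (h1 : ∀ x ∈ F, ¬ Bad x) (h2 : ∀ x y, Bad x → Bad y → x * y ∈ F) :
    ∃ u v : A, u ≠ 1 ∧ v ≠ 1 ∧ u ≠ v ∧ ¬ Bad u ∧ ¬ Bad v ∧ ¬ Bad (u * v) := by
  classical
  -- a hyperplane free of bad elements
  obtain ⟨H, c, hcH, hcov, hbad⟩ : ∃ (H : Subgroup A) (c : A), c ∉ H ∧ (∀ x : A, x ∈ H ∨ c * x ∈ H) ∧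
      ∀ y ∈ H, ¬ Bad y := by
    by_cases hex : ∃ c, Bad c
    · obtain ⟨c, hc⟩ := hex
      have hcF : c ∉ F := fun h => h1 c h hc
      obtain ⟨H, hFH, hcH, hcov⟩ := exists_hyperplane hA2 F c hcF
      refine ⟨H, c, hcH, hcov, ?_⟩
      intro y hy hby
      apply hcH
      have h3 : c * y ∈ H := hFH (h2 c y hc hby)
      have h4 : c = c * y * y⁻¹ := by rw [mul_inv_cancel_right]
      rw [h4]
      exact H.mul_mem h3 (H.inv_mem hy)
    · push Not at hex
      obtain ⟨c, hcF⟩ : ∃ c, c ∉ F := by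
        by_contra h
        push Not at h
        exact hF (eq_top_iff.mpr fun x _ => h x)
      obtain ⟨H, hFH, hcH, hcov⟩ := exists_hyperplane hA2 F c hcF
      exact ⟨H, c, hcH, hcov, fun y _ => hex y⟩
  have hcinv : c⁻¹ = c := inv_eq_of_mul_eq_one_left (hA2 c)
  have hcard : Nat.card A = 2 * Nat.card H :=
    Cfsg.Agent.Helper40.card_index_two H c hcH (fun g => by rw [hcinv]; exact hcov g)
  have hH4 : Nat.card H = 4 := by omega
  have hHbot : H ≠ ⊥ := by
    intro h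
    rw [h, Subgroup.card_bot] at hH4
    omega
  obtain ⟨⟨u, huH⟩, hu1⟩ := (Subgroup.ne_bot_iff_exists_ne_one.mp hHbot)
  have hu1' : u ≠ 1 := fun h => hu1 (Subtype.ext h)
  obtain ⟨v, hvH, hvu⟩ : ∃ v ∈ H, v ∉ zpowers u := by
    by_contra h
    push Not at h
    have hle : H ≤ zpowers u := fun v hv => h v hv
    have h3 : Nat.card H ≤ Nat.card (zpowers u) := Subgroup.card_le_of_le hle
    have h4 : orderOf u ≤ 2 := Nat.le_of_dvd (by norm_num)
      (orderOf_dvd_of_pow_eq_one (by rw [pow_two]; exact hA2 u))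
    rw [Nat.card_zpowers] at h3
    omega
  refine ⟨u, v, hu1', ?_, ?_, hbad u huH, hbad v hvH, hbad _ (H.mul_mem huH hvH)⟩
  · rintro rfl
    exact hvu (one_mem _)
  · rintro rfl
    exact hvu (mem_zpowers _)

end basics

section generation

variable {P : Type*} [Group P]

/-- The fixed-point subgroup of an automorphism. -/
def fixSub (T : MulAut P) : Subgroup P where
  carrier := {x | T x = x}
  mul_mem' := by
    intro x y hx hy
    simp only [Set.mem_ofPred_eq] at hx hy ⊢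
    rw [map_mul, hx, hy]
  one_mem' := by simp
  inv_mem' := by
    intro x hx
    simp only [Set.mem_ofPred_eq] at hx ⊢
    rw [map_inv, hx]

theorem mem_fixSub (T : MulAut P) (x : P) : x ∈ fixSub T ↔ T x = x := Iff.rfl

/-- Coprime generation for a pair of commuting involutory automorphisms of a group of odd order:
an invariant subgroup `Q` is generated by its intersections with the three fixed-point
subgroups. -/
theorem gen [Finite P] (hodd : (Nat.card P).Coprime 2) (J : Subgroup (MulAut P))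
    (hJc : ∀ s ∈ J, ∀ t ∈ J, s * t = t * s) (hJ2 : ∀ t ∈ J, t * t = 1)
    (a b : MulAut P) (haJ : a ∈ J) (hbJ : b ∈ J)
    (Q : Subgroup P) (hQa : ∀ x ∈ Q, a x ∈ Q) (hQb : ∀ x ∈ Q, b x ∈ Q) :
    Q ≤ (Q ⊓ fixSub a) ⊔ (Q ⊓ fixSub b) ⊔ (Q ⊓ fixSub (a * b)) := by
  classical
  by_cases ha1 : a = 1
  · intro x hx
    refine mem_sup_left (mem_sup_left ⟨hx, ?_⟩)
    show a x = x
    rw [ha1, MulAut.one_apply]
  let φ : MulAut P →* MulAut P := MonoidHom.id _
  have hfin : Finite (P ⋊[φ] MulAut P) := Finite.of_equiv _ SemidirectProduct.equivProd.symm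
  let il : P →* P ⋊[φ] MulAut P := SemidirectProduct.inl
  let ir : MulAut P →* P ⋊[φ] MulAut P := SemidirectProduct.inr
  have hil : Function.Injective il := SemidirectProduct.inl_injective
  have hir : Function.Injective ir := SemidirectProduct.inr_injective
  have hconj : ∀ (t : MulAut P) (x : P), il (t x) = ir t * il x * (ir t)⁻¹ := by
    intro t x
    have := SemidirectProduct.inl_aut (φ := φ) t x
    rw [map_inv] at this
    exact this
  have hab : a * b = b * a := hJc a haJ b hbJ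
  have hcl : closure ({a, b} : Set (MulAut P)) ≤ J := by
    rw [closure_le]
    intro t ht
    rcases ht with rfl | rfl
    · exact haJ
    · exact hbJ
  obtain ⟨A, hAdef⟩ : ∃ A : Subgroup (P ⋊[φ] MulAut P), A = (closure ({a, b} : Set (MulAut P))).map ir :=
    ⟨_, rfl⟩
  obtain ⟨X, hXdef⟩ : ∃ X : Subgroup (P ⋊[φ] MulAut P), X = Q.map il := ⟨_, rfl⟩
  have hαA : ir a ∈ A := by
    rw [hAdef]; exact mem_map_of_mem ir (subset_closure (by simp))
  have hβA : ir b ∈ A := by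
    rw [hAdef]; exact mem_map_of_mem ir (subset_closure (by simp))
  have hαα : ir a * ir a = 1 := by rw [← map_mul, hJ2 a haJ, map_one]
  have hββ : ir b * ir b = 1 := by rw [← map_mul, hJ2 b hbJ, map_one]
  have hαβ : ir a * ir b = ir b * ir a := by rw [← map_mul, hab, map_mul]
  have hAc : ∀ x ∈ A, ∀ y ∈ A, x * y = y * x := by
    intro x hx y hy
    rw [hAdef] at hx hy
    obtain ⟨s, hs, rfl⟩ := hx
    obtain ⟨t, ht, rfl⟩ := hy
    rw [← map_mul, hJc s (hcl hs) t (hcl ht), map_mul]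
  have hAp : ∀ x ∈ A, x ^ 2 = 1 := by
    intro x hx
    rw [hAdef] at hx
    obtain ⟨s, hs, rfl⟩ := hx
    rw [pow_two, ← map_mul, hJ2 s (hcl hs), map_one]
  have hA1 : A ≠ ⊥ := by
    intro h
    rw [h, mem_bot] at hαA
    apply ha1
    apply hir
    rw [hαA, map_one]
  have hnorm : ∀ t : MulAut P, t * t = 1 → (∀ x ∈ Q, t x ∈ Q) →
      ir t ∈ normalizer (X : Set (P ⋊[φ] MulAut P)) := by
    intro t htt hQt
    have hinv : (ir t)⁻¹ = ir t := by
      apply inv_eq_of_mul_eq_one_left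
      rw [← map_mul, htt, map_one]
    have hfwd : ∀ h, h ∈ X → ir t * h * (ir t)⁻¹ ∈ X := by
      intro h hh
      rw [hXdef] at hh ⊢
      obtain ⟨q, hq, rfl⟩ := hh
      rw [← hconj]
      exact mem_map_of_mem il (hQt q hq)
    rw [mem_normalizer_iff]
    intro h
    refine ⟨hfwd h, fun hh => ?_⟩
    have := hfwd _ hh
    rw [hinv] at this
    have e : ir t * (ir t * h * ir t) * ir t = h := by
      calc ir t * (ir t * h * ir t) * ir t = (ir t * ir t) * h * (ir t * ir t) := by group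
        _ = h := by rw [← map_mul, htt, map_one, one_mul, mul_one]
    rw [e] at this
    exact this
  have hAX : A ≤ normalizer (X : Set (P ⋊[φ] MulAut P)) := by
    rw [hAdef, map_le_iff_le_comap, closure_le]
    intro t ht
    rcases ht with rfl | rfl
    · exact hnorm _ (hJ2 _ haJ) hQa
    · exact hnorm _ (hJ2 _ hbJ) hQb
  have hX : (Nat.card X).Coprime 2 := by
    rw [hXdef, card_map_of_injective hil]
    exact Nat.Coprime.coprime_dvd_left (card_subgroup_dvd_card Q) hodd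
  have key := Cfsg.Agent.Helper29.le_iSup_covBy (p := 2) A X hAc hAp hA1 hAX hX
  obtain ⟨W, hWdef⟩ : ∃ W : Subgroup P,
      W = (Q ⊓ fixSub a) ⊔ (Q ⊓ fixSub b) ⊔ (Q ⊓ fixSub (a * b)) := ⟨_, rfl⟩
  have hfixW : ∀ t : MulAut P, (t = a ∨ t = b ∨ t = a * b) → Q ⊓ fixSub t ≤ W := by
    intro t ht
    rw [hWdef]
    rcases ht with rfl | rfl | rfl
    · exact le_sup_of_le_left le_sup_left
    · exact le_sup_of_le_left le_sup_right
    · exact le_sup_right
  have hW : (⨆ B : {B : Subgroup (P ⋊[φ] MulAut P) // B ⋖ A},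
      X ⊓ centralizer ((B : Subgroup (P ⋊[φ] MulAut P)) : Set (P ⋊[φ] MulAut P))) ≤ W.map il := by
    apply iSup_le
    rintro ⟨B, hB⟩
    obtain ⟨t, ht, htB⟩ : ∃ t : MulAut P, (t = a ∨ t = b ∨ t = a * b) ∧ ir t ∈ B := by
      by_cases h1 : ir a ∈ B
      · exact ⟨a, Or.inl rfl, h1⟩
      by_cases h2 : ir b ∈ B
      · exact ⟨b, Or.inr (Or.inl rfl), h2⟩
      refine ⟨a * b, Or.inr (Or.inr rfl), ?_⟩
      have hsup : B ⊔ zpowers (ir a) = A := by
        rcases hB.eq_or_eq (c := B ⊔ zpowers (ir a)) le_sup_left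
          (sup_le hB.le ((zpowers_le).2 hαA)) with h | h
        · exfalso
          apply h1
          rw [← h]
          exact mem_sup_right (mem_zpowers _)
        · exact h
      have hβ : ir b ∈ B ⊔ zpowers (ir a) := hsup ▸ hβA
      have hnorm' : zpowers (ir a) ≤ normalizer (B : Set (P ⋊[φ] MulAut P)) := by
        rw [zpowers_le]
        apply centralizer_le_normalizer
        rw [mem_centralizer_iff]
        intro y hy
        exact hAc y (hB.le hy) _ hαA
      have hβ' : ir b ∈ ((B ⊔ zpowers (ir a) : Subgroup (P ⋊[φ] MulAut P)) :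
          Set (P ⋊[φ] MulAut P)) := hβ
      rw [coe_mul_of_right_le_normalizer_left B (zpowers (ir a)) hnorm'] at hβ'
      obtain ⟨b', hb', y, hy, hby⟩ := Set.mem_mul.mp hβ'
      rcases mem_zpowers_invol hαα hy with hy1 | hy1
      · exfalso
        apply h2
        rw [← hby, hy1, mul_one]
        exact hb'
      · have e : ir (a * b) = b' := by
          rw [map_mul, hαβ, ← hby, hy1, mul_assoc, hαα, mul_one]
        rw [e]
        exact hb'
    intro y hy
    obtain ⟨hyX, hyC⟩ := hy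
    rw [hXdef] at hyX
    obtain ⟨q, hq, rfl⟩ := hyX
    have hcomm : ir t * il q = il q * ir t := (mem_centralizer_iff.mp hyC (ir t) htB)
    have hfix : t q = q := by
      apply hil
      rw [hconj, hcomm, mul_inv_cancel_right]
    exact mem_map_of_mem il (hfixW t ht ⟨hq, hfix⟩)
  intro x hx
  have h3 : il x ∈ W.map il := hW (key (by rw [hXdef]; exact mem_map_of_mem il hx))
  rw [← hWdef]
  exact (mem_map_iff_mem hil).mp h3

end generation

section rank

variable {P : Type*} [CommGroup P]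

/-- Separation by an automorphism inverting `A, A'` and fixing `B, B'`. -/
theorem sep (h2 : ∀ x : P, x * x = 1 → x = 1) (T : MulAut P) {A A' B B' : P}
    (hA : T A = A⁻¹) (hA' : T A' = A'⁻¹) (hB : T B = B) (hB' : T B' = B')
    (h : A * B = A' * B') : A = A' := by
  have hT : A⁻¹ * B = A'⁻¹ * B' := by
    have := congrArg T h
    rwa [map_mul, map_mul, hA, hA', hB, hB'] at this
  have e1 : A * B / (A⁻¹ * B) = A * A := by rw [mul_div_mul_right_eq_div, div_inv_eq_mul]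
  have e2 : A' * B' / (A'⁻¹ * B') = A' * A' := by rw [mul_div_mul_right_eq_div, div_inv_eq_mul]
  have key : A * A = A' * A' := by rw [← e1, ← e2, h, hT]
  have h3 : (A / A') * (A / A') = 1 := by rw [div_mul_div_comm, key, div_self']
  exact div_eq_one.mp (h2 _ h3)

/-- An abelian `p`-group (`p` odd) with three elements of order `p` separated by three
automorphisms is not generated by two elements. -/
theorem not_two_gen [Finite P] {p : ℕ} (hp : p.Prime) (h2 : ∀ x : P, x * x = 1 → x = 1)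
    (T1 T2 T3 : MulAut P) (ea eb ec : P)
    (oa : orderOf ea = p) (ob : orderOf eb = p) (oc : orderOf ec = p)
    (h1a : T1 ea = ea⁻¹) (h1b : T1 eb = eb) (h1c : T1 ec = ec)
    (h2a : T2 ea = ea) (h2b : T2 eb = eb⁻¹) (h2c : T2 ec = ec)
    (h3a : T3 ea = ea) (h3b : T3 eb = eb) (h3c : T3 ec = ec⁻¹) :
    ¬ ∃ x y : P, closure ({x, y} : Set P) = ⊤ := by
  rintro ⟨x, y, hxy⟩
  obtain ⟨f, hf⟩ : ∃ f : P →* P, f = powMonoidHom p := ⟨_, rfl⟩
  have hfx : ∀ u : P, f u = u ^ p := fun u => by rw [hf]; rfl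
  have hcard1 : Nat.card f.ker * Nat.card f.range = Nat.card P := by
    rw [← Subgroup.index_ker f]
    exact Subgroup.card_mul_index f.ker
  have hcard2 : Nat.card f.range * f.range.index = Nat.card P := Subgroup.card_mul_index _
  have hidx : f.range.index = Nat.card f.ker := by
    have hpos : 0 < Nat.card f.range := Nat.card_pos
    apply Nat.eq_of_mul_eq_mul_left hpos
    rw [hcard2, mul_comm, hcard1]
  -- the quotient is generated by two elements of order dividing `p`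
  have hdvd : Nat.card (P ⧸ f.range) ∣ p ^ 2 := by
    apply Cfsg.Agent.Helper66.card_dvd_sq_of_two_gen_comm p (QuotientGroup.mk x : P ⧸ f.range)
      (QuotientGroup.mk y)
    · have h3 := congrArg (Subgroup.map (QuotientGroup.mk' f.range)) hxy
      rw [MonoidHom.map_closure, Subgroup.map_top_of_surjective _ (QuotientGroup.mk'_surjective _),
        Set.image_pair] at h3
      exact h3
    · exact mul_comm _ _
    · rw [← QuotientGroup.mk_pow, QuotientGroup.eq_one_iff]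
      exact ⟨x, hfx x⟩
    · rw [← QuotientGroup.mk_pow, QuotientGroup.eq_one_iff]
      exact ⟨y, hfx y⟩
  rw [← Subgroup.index_eq_card, hidx] at hdvd
  have hle : Nat.card f.ker ≤ p ^ 2 := Nat.le_of_dvd (pow_pos hp.pos 2) hdvd
  -- but the kernel has at least `p ^ 3` elements
  have hker : ∀ i j k : ℕ, ea ^ i * eb ^ j * ec ^ k ∈ f.ker := by
    intro i j k
    rw [MonoidHom.mem_ker, hfx, mul_pow, mul_pow, ← pow_mul, ← pow_mul, ← pow_mul,
      mul_comm i p, mul_comm j p, mul_comm k p, pow_mul, pow_mul, pow_mul]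
    rw [← oa, pow_orderOf_eq_one, oa, ← ob, pow_orderOf_eq_one, ob, ← oc, pow_orderOf_eq_one]
    simp
  let ψ : Fin p × Fin p × Fin p → f.ker := fun t =>
    ⟨ea ^ (t.1 : ℕ) * eb ^ (t.2.1 : ℕ) * ec ^ (t.2.2 : ℕ), hker _ _ _⟩
  have hψ : Function.Injective ψ := by
    rintro ⟨i, j, k⟩ ⟨i', j', k'⟩ h
    have h' : ea ^ (i : ℕ) * eb ^ (j : ℕ) * ec ^ (k : ℕ) =
        ea ^ (i' : ℕ) * eb ^ (j' : ℕ) * ec ^ (k' : ℕ) := congrArg Subtype.val h
    have hi : ea ^ (i : ℕ) = ea ^ (i' : ℕ) := by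
      apply sep h2 T1 (B := eb ^ (j : ℕ) * ec ^ (k : ℕ)) (B' := eb ^ (j' : ℕ) * ec ^ (k' : ℕ))
      · rw [map_pow, h1a, inv_pow]
      · rw [map_pow, h1a, inv_pow]
      · rw [map_mul, map_pow, map_pow, h1b, h1c]
      · rw [map_mul, map_pow, map_pow, h1b, h1c]
      · rw [← mul_assoc, ← mul_assoc]; exact h'
    have hj : eb ^ (j : ℕ) = eb ^ (j' : ℕ) := by
      apply sep h2 T2 (B := ea ^ (i : ℕ) * ec ^ (k : ℕ)) (B' := ea ^ (i' : ℕ) * ec ^ (k' : ℕ))
      · rw [map_pow, h2b, inv_pow]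
      · rw [map_pow, h2b, inv_pow]
      · rw [map_mul, map_pow, map_pow, h2a, h2c]
      · rw [map_mul, map_pow, map_pow, h2a, h2c]
      · rw [← mul_assoc, ← mul_assoc, mul_comm (eb ^ (j : ℕ)), mul_comm (eb ^ (j' : ℕ))]; exact h'
    have hk : ec ^ (k : ℕ) = ec ^ (k' : ℕ) := by
      apply sep h2 T3 (B := ea ^ (i : ℕ) * eb ^ (j : ℕ)) (B' := ea ^ (i' : ℕ) * eb ^ (j' : ℕ))
      · rw [map_pow, h3c, inv_pow]
      · rw [map_pow, h3c, inv_pow]
      · rw [map_mul, map_pow, map_pow, h3a, h3b]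
      · rw [map_mul, map_pow, map_pow, h3a, h3b]
      · rw [mul_comm (ec ^ (k : ℕ)), mul_comm (ec ^ (k' : ℕ))]; exact h'
    have hi' : (i : ℕ) = i' := pow_injOn_Iio_orderOf (x := ea) (by rw [oa]; exact i.2)
      (by rw [oa]; exact i'.2) hi
    have hj' : (j : ℕ) = j' := pow_injOn_Iio_orderOf (x := eb) (by rw [ob]; exact j.2)
      (by rw [ob]; exact j'.2) hj
    have hk' : (k : ℕ) = k' := pow_injOn_Iio_orderOf (x := ec) (by rw [oc]; exact k.2)
      (by rw [oc]; exact k'.2) hk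
    rw [Fin.ext hi', Fin.ext hj', Fin.ext hk']
  have hge : Nat.card (Fin p × Fin p × Fin p) ≤ Nat.card f.ker :=
    Nat.card_le_card_of_injective ψ hψ
  have hcube : Nat.card (Fin p × Fin p × Fin p) = p * (p * p) := by
    simp
  rw [hcube] at hge
  have hp2 : 2 ≤ p := hp.two_le
  have : p * (p * p) ≤ p ^ 2 := le_trans hge hle
  nlinarith [this]

end rank

section pgroup

variable {P : Type*} [Group P]

/-- A `p`-group with `p` odd has no involutions. -/
theorem eq_one_of_mul_self {p : ℕ} (hp : p.Prime) (hp2 : p ≠ 2) (hP : IsPGroup p P) {x : P}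
    (hx : x * x = 1) : x = 1 := by
  obtain ⟨k, hk⟩ := hP x
  have h1 : orderOf x ∣ 2 := orderOf_dvd_of_pow_eq_one (by rw [pow_two]; exact hx)
  have h2 : orderOf x ∣ p ^ k := orderOf_dvd_of_pow_eq_one hk
  have hcop : Nat.Coprime 2 (p ^ k) := by
    apply Nat.Coprime.pow_right
    rw [Nat.coprime_primes Nat.prime_two hp]
    exact fun h => hp2 h.symm
  exact orderOf_eq_one_iff.mp (Nat.eq_one_of_dvd_coprimes hcop h1 h2)

theorem eq_one_of_eq_inv {p : ℕ} (hp : p.Prime) (hp2 : p ≠ 2) (hP : IsPGroup p P) {x : P}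
    (hx : x = x⁻¹) : x = 1 := by
  apply eq_one_of_mul_self hp hp2 hP
  calc x * x = x * x⁻¹ := by rw [← hx]
    _ = 1 := mul_inv_cancel x

theorem fix_zpowers (S : MulAut P) {g x : P} (h : S g = g) (hx : x ∈ zpowers g) : S x = x := by
  obtain ⟨k, hk⟩ := Subgroup.mem_zpowers_iff.mp hx
  rw [← hk, map_zpow, h]

theorem inv_zpowers (S : MulAut P) {g x : P} (h : S g = g⁻¹) (hx : x ∈ zpowers g) :
    S x = x⁻¹ := by
  obtain ⟨k, hk⟩ := Subgroup.mem_zpowers_iff.mp hx
  rw [← hk, map_zpow, h, inv_zpow]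

/-- An involutory automorphism of a `p`-group, `p` odd, normalizing the cyclic subgroup `⟨g⟩`,
fixes or inverts `g`. -/
theorem fix_or_inv [Finite P] {p : ℕ} (hp : p.Prime) (hp2 : p ≠ 2) (hP : IsPGroup p P)
    (T : MulAut P) (hT : ∀ x, T (T x) = x) (g : P) (hg : T g ∈ zpowers g) :
    T g = g ∨ T g = g⁻¹ := by
  have : Fact p.Prime := ⟨hp⟩
  obtain ⟨m, hm⟩ : ∃ m : ℕ, g ^ m = T g := (mem_powers_iff_mem_zpowers).mpr hg
  have h1 : g ^ (m * m) = g ^ 1 := by
    rw [pow_mul, hm, ← map_pow, hm, hT, pow_one]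
  obtain ⟨k, hk⟩ := (IsPGroup.iff_orderOf.mp hP) g
  rw [pow_eq_pow_iff_modEq, hk] at h1
  rcases Nat.eq_zero_or_pos m with rfl | hmpos
  · -- `p ^ k ∣ 1`
    left
    have h2 : p ^ k ∣ 1 := by
      rw [Nat.zero_mul] at h1
      have := (Nat.modEq_iff_dvd' (n := p ^ k) (Nat.zero_le 1)).mp h1
      simpa using this
    have h3 : orderOf g = 1 := by rw [hk]; exact Nat.dvd_one.mp h2
    have h4 : g = 1 := orderOf_eq_one_iff.mp h3
    rw [h4, map_one]
  · have hmm : 1 ≤ m * m := Nat.mul_pos hmpos hmpos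
    have h2 : p ^ k ∣ m * m - 1 := (Nat.modEq_iff_dvd' hmm).mp h1.symm
    have h3 : m * m - 1 = (m - 1) * (m + 1) := by
      obtain ⟨n, rfl⟩ : ∃ n, m = n + 1 := ⟨m - 1, by omega⟩
      simp only [Nat.add_sub_cancel]
      have : (n + 1) * (n + 1) = n * (n + 1 + 1) + 1 := by ring
      omega
    rw [h3] at h2
    by_cases hd : p ∣ m - 1
    · -- then `p ∤ m + 1`
      have hnd : ¬ p ∣ m + 1 := by
        intro hd'
        have h4 : p ∣ (m + 1) - (m - 1) := Nat.dvd_sub hd' hd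
        have h5 : (m + 1) - (m - 1) = 2 := by omega
        rw [h5] at h4
        exact hp2 ((Nat.prime_dvd_prime_iff_eq hp Nat.prime_two).mp h4)
      have hcop : Nat.Coprime (p ^ k) (m + 1) :=
        Nat.Coprime.pow_left _ ((Nat.Prime.coprime_iff_not_dvd hp).mpr hnd)
      have h6 : p ^ k ∣ m - 1 := hcop.dvd_of_dvd_mul_right h2
      left
      rw [← hk] at h6
      have h7 : g ^ (m - 1) = 1 := orderOf_dvd_iff_pow_eq_one.mp h6
      rw [← hm]
      calc g ^ m = g ^ (m - 1 + 1) := by rw [Nat.sub_add_cancel hmpos]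
        _ = g := by rw [pow_succ, h7, one_mul]
    · have hcop : Nat.Coprime (p ^ k) (m - 1) :=
        Nat.Coprime.pow_left _ ((Nat.Prime.coprime_iff_not_dvd hp).mpr hd)
      have h6 : p ^ k ∣ m + 1 := hcop.dvd_of_dvd_mul_left h2
      right
      rw [← hk] at h6
      have h7 : g ^ (m + 1) = 1 := orderOf_dvd_iff_pow_eq_one.mp h6
      rw [← hm]
      rw [pow_succ] at h7
      exact eq_inv_of_mul_eq_one_left h7

end pgroup

section main

variable {P : Type*} [Group P]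

/-- The fixed points of `T` form a cyclic subgroup. -/
abbrev Cyc (T : MulAut P) : Prop := ∃ g : P, ∀ x : P, (T x = x ↔ x ∈ Subgroup.zpowers g)

theorem agree_of_iff {T T' : MulAut P} {g : P} (h : T g = g ∨ T g = g⁻¹)
    (h' : T' g = g ∨ T' g = g⁻¹) (hiff : T g = g ↔ T' g = g) : T g = T' g := by
  rcases h with e | e <;> rcases h' with e' | e'
  · rw [e, e']
  · rw [e, hiff.mp e]
  · rw [hiff.mpr e', e']
  · rw [e, e']

/-- An automorphism `T` fixing `u, w ≠ 1`, commuting with an involution `S` that inverts `u`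
and fixes `w`, has noncyclic fixed points. -/
theorem not_cyc_of [Finite P] {p : ℕ} (hp : p.Prime) (hp2 : p ≠ 2) (hP : IsPGroup p P)
    (T S : MulAut P) (hTS : T * S = S * T) (hS : S * S = 1)
    (u w : P) (hTu : T u = u) (hTw : T w = w) (hSu : S u = u⁻¹) (hSw : S w = w)
    (hu : u ≠ 1) (hw : w ≠ 1) : ¬ Cyc T := by
  rintro ⟨h, hh⟩
  have hu' : u ∈ zpowers h := (hh u).mp hTu
  have hw' : w ∈ zpowers h := (hh w).mp hTw
  have hSh : S h ∈ zpowers h := by
    rw [← hh]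
    have h1 : T h = h := (hh h).mpr (mem_zpowers h)
    calc T (S h) = (T * S) h := rfl
      _ = (S * T) h := by rw [hTS]
      _ = S (T h) := rfl
      _ = S h := by rw [h1]
  have hSS : ∀ x, S (S x) = x := by
    intro x
    calc S (S x) = (S * S) x := rfl
      _ = x := by rw [hS]; rfl
  rcases fix_or_inv hp hp2 hP S hSS h hSh with e | e
  · have h1 := fix_zpowers S e hu'
    rw [hSu] at h1
    exact hu (eq_one_of_eq_inv hp hp2 hP h1.symm)
  · have h1 := inv_zpowers S e hw'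
    rw [hSw] at h1
    exact hw (eq_one_of_eq_inv hp hp2 hP h1)

/-- The sign analysis: three involutions of `I` each inverting exactly one of the three cyclic
generators. -/
theorem setup [Finite P] (p : ℕ) (hp : p.Prime) (hp2 : p ≠ 2) (hP : IsPGroup p P)
    (I : Subgroup (MulAut P)) (hIc : ∀ s ∈ I, ∀ t ∈ I, s * t = t * s) (hI2 : ∀ t ∈ I, t * t = 1)
    (hI8 : Nat.card ↥I = 8)
    (a b : MulAut P) (haI : a ∈ I) (hbI : b ∈ I) (ga gb gc : P)
    (hfa : ∀ x, a x = x ↔ x ∈ zpowers ga) (hfb : ∀ x, b x = x ↔ x ∈ zpowers gb)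
    (hfc : ∀ x, (a * b) x = x ↔ x ∈ zpowers gc) :
    (∀ x : P, x ∈ zpowers ga ⊔ zpowers gb ⊔ zpowers gc) ∧
    (∀ T ∈ I, ∀ T' ∈ I, T ga = T' ga → T gb = T' gb → T gc = T' gc → T = T') ∧
    (∀ T ∈ I, (T ga = ga ∨ T ga = ga⁻¹) ∧ (T gb = gb ∨ T gb = gb⁻¹) ∧ (T gc = gc ∨ T gc = gc⁻¹)) ∧
    ∃ T1 T2 T3 : MulAut P, T1 ∈ I ∧ T2 ∈ I ∧ T3 ∈ I ∧
      T1 ga = ga⁻¹ ∧ T1 gb = gb ∧ T1 gc = gc ∧
      T2 ga = ga ∧ T2 gb = gb⁻¹ ∧ T2 gc = gc ∧
      T3 ga = ga ∧ T3 gb = gb ∧ T3 gc = gc⁻¹ ∧ ga ≠ 1 ∧ gb ≠ 1 ∧ gc ≠ 1 := by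
  classical
  have : Fact p.Prime := ⟨hp⟩
  have hodd : (Nat.card P).Coprime 2 := by
    obtain ⟨n, hn⟩ := IsPGroup.iff_card.mp hP
    rw [hn]
    apply Nat.Coprime.pow_left
    rw [Nat.coprime_primes hp Nat.prime_two]
    exact hp2
  have hTT : ∀ T ∈ I, ∀ x, T (T x) = x := by
    intro T hT x
    calc T (T x) = (T * T) x := rfl
      _ = x := by rw [hI2 T hT]; rfl
  have habI : a * b ∈ I := I.mul_mem haI hbI
  have htop : ∀ x : P, x ∈ zpowers ga ⊔ zpowers gb ⊔ zpowers gc := by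
    intro x
    have h := gen hodd I hIc hI2 a b haI hbI ⊤ (fun _ _ => mem_top _) (fun _ _ => mem_top _)
      (mem_top x)
    refine (sup_le (sup_le ?_ ?_) ?_ : _ ≤ zpowers ga ⊔ zpowers gb ⊔ zpowers gc) h
    · intro y hy
      exact mem_sup_left (mem_sup_left ((hfa y).mp hy.2))
    · intro y hy
      exact mem_sup_left (mem_sup_right ((hfb y).mp hy.2))
    · intro y hy
      exact mem_sup_right ((hfc y).mp hy.2)
  have hagree : ∀ T ∈ I, ∀ T' ∈ I, T ga = T' ga → T gb = T' gb → T gc = T' gc → T = T' := by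
    intro T _ T' _ h1 h2 h3
    have hle : zpowers ga ⊔ zpowers gb ⊔ zpowers gc ≤
        MonoidHom.eqLocus T.toMonoidHom T'.toMonoidHom := by
      refine sup_le (sup_le ?_ ?_) ?_
      · rw [zpowers_le]; exact h1
      · rw [zpowers_le]; exact h2
      · rw [zpowers_le]; exact h3
    ext x
    exact hle (htop x)
  have hinvar : ∀ T ∈ I, ∀ s ∈ I, ∀ g : P, (∀ x, s x = x ↔ x ∈ zpowers g) → T g ∈ zpowers g := by
    intro T hT s hs g hg
    rw [← hg]
    have h1 : s g = g := (hg g).mpr (mem_zpowers g)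
    calc s (T g) = (s * T) g := rfl
      _ = (T * s) g := by rw [hIc s hs T hT]
      _ = T (s g) := rfl
      _ = T g := by rw [h1]
  have hpm : ∀ T ∈ I, (T ga = ga ∨ T ga = ga⁻¹) ∧ (T gb = gb ∨ T gb = gb⁻¹) ∧
      (T gc = gc ∨ T gc = gc⁻¹) := by
    intro T hT
    exact ⟨fix_or_inv hp hp2 hP T (hTT T hT) ga (hinvar T hT a haI ga hfa),
      fix_or_inv hp hp2 hP T (hTT T hT) gb (hinvar T hT b hbI gb hfb),
      fix_or_inv hp hp2 hP T (hTT T hT) gc (hinvar T hT (a * b) habI gc hfc)⟩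
  refine ⟨htop, hagree, hpm, ?_⟩
  let φ : ↥I → Bool × Bool × Bool := fun T =>
    (decide (T.1 ga = ga), decide (T.1 gb = gb), decide (T.1 gc = gc))
  have hφinj : Function.Injective φ := by
    intro T T' h
    simp only [φ, Prod.mk.injEq, decide_eq_decide] at h
    obtain ⟨h1, h2, h3⟩ := h
    apply Subtype.ext
    obtain ⟨pa, pb, pc⟩ := hpm T.1 T.2
    obtain ⟨pa', pb', pc'⟩ := hpm T'.1 T'.2
    exact hagree T.1 T.2 T'.1 T'.2 (agree_of_iff pa pa' h1) (agree_of_iff pb pb' h2)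
      (agree_of_iff pc pc' h3)
  have hφbij : Function.Bijective φ := by
    apply hφinj.bijective_of_nat_card_le
    rw [hI8]
    simp
  obtain ⟨T1, hT1⟩ := hφbij.2 (false, true, true)
  obtain ⟨T2, hT2⟩ := hφbij.2 (true, false, true)
  obtain ⟨T3, hT3⟩ := hφbij.2 (true, true, false)
  simp only [φ, Prod.mk.injEq, decide_eq_false_iff_not, decide_eq_true_eq] at hT1 hT2 hT3
  obtain ⟨h1a, h1b, h1c⟩ := hT1
  obtain ⟨h2a, h2b, h2c⟩ := hT2
  obtain ⟨h3a, h3b, h3c⟩ := hT3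
  have hne : ∀ (T : MulAut P) (g : P), T g ≠ g → g ≠ 1 := by
    intro T g h hg
    apply h
    rw [hg, map_one]
  refine ⟨T1.1, T2.1, T3.1, T1.2, T2.2, T3.2, ?_, h1b, h1c, h2a, ?_, h2c, h3a, h3b, ?_,
    hne _ _ h1a, hne _ _ h2b, hne _ _ h3c⟩
  · exact ((hpm T1.1 T1.2).1).resolve_left h1a
  · exact ((hpm T2.1 T2.2).2.1).resolve_left h2b
  · exact ((hpm T3.1 T3.2).2.2).resolve_left h3c

/-- The element inverting all three generators is fixed-point-free, so `P` is abelian. -/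
theorem abelian_of_setup [Finite P] (p : ℕ) (hp : p.Prime) (hp2 : p ≠ 2) (hP : IsPGroup p P)
    (I : Subgroup (MulAut P)) (hIc : ∀ s ∈ I, ∀ t ∈ I, s * t = t * s) (hI2 : ∀ t ∈ I, t * t = 1)
    (a b : MulAut P) (haI : a ∈ I) (hbI : b ∈ I) (ga gb gc : P)
    (hfa : ∀ x, a x = x ↔ x ∈ zpowers ga) (hfb : ∀ x, b x = x ↔ x ∈ zpowers gb)
    (hfc : ∀ x, (a * b) x = x ↔ x ∈ zpowers gc)
    (z : MulAut P) (hzI : z ∈ I) (hza : z ga = ga⁻¹) (hzb : z gb = gb⁻¹) (hzc : z gc = gc⁻¹) :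
    (∀ x y : P, x * y = y * x) ∧ ∀ x : P, z x = x⁻¹ := by
  have : Fact p.Prime := ⟨hp⟩
  have hodd : (Nat.card P).Coprime 2 := by
    obtain ⟨n, hn⟩ := IsPGroup.iff_card.mp hP
    rw [hn]
    apply Nat.Coprime.pow_left
    rw [Nat.coprime_primes hp Nat.prime_two]
    exact hp2
  have hQinv : ∀ s ∈ I, ∀ x ∈ fixSub z, s x ∈ fixSub z := by
    intro s hs x hx
    have hx' : z x = x := hx
    show z (s x) = s x
    calc z (s x) = (z * s) x := rfl
      _ = (s * z) x := by rw [hIc z hzI s hs]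
      _ = s (z x) := rfl
      _ = s x := by rw [hx']
  have hgen := gen hodd I hIc hI2 a b haI hbI (fixSub z) (hQinv a haI) (hQinv b hbI)
  have hbot : ∀ (s : MulAut P) (g : P), (∀ x, s x = x ↔ x ∈ zpowers g) → z g = g⁻¹ →
      fixSub z ⊓ fixSub s ≤ ⊥ := by
    intro s g hs hzg x hx
    obtain ⟨hxz, hxs⟩ := hx
    have hxz' : z x = x := hxz
    have hxs' : s x = x := hxs
    have h1 : z x = x⁻¹ := inv_zpowers z hzg ((hs x).mp hxs')
    rw [hxz'] at h1
    rw [mem_bot]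
    exact eq_one_of_eq_inv hp hp2 hP h1
  have hfpf : MonoidHom.FixedPointFree z := by
    intro x hx
    have h1 : x ∈ fixSub z := hx
    have h2 := hgen h1
    have h3 : (fixSub z ⊓ fixSub a) ⊔ (fixSub z ⊓ fixSub b) ⊔ (fixSub z ⊓ fixSub (a * b)) ≤ ⊥ :=
      sup_le (sup_le (hbot a ga hfa hza) (hbot b gb hfb hzb)) (hbot (a * b) gc hfc hzc)
    exact mem_bot.mp (h3 h2)
  have hinv : Function.Involutive z := by
    intro x
    calc z (z x) = (z * z) x := rfl
      _ = x := by rw [hI2 z hzI]; rfl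
  refine ⟨fun x y => (hfpf.commute_all_of_involutive hinv x y).eq, fun x => ?_⟩
  rw [hfpf.coe_eq_inv_of_involutive hinv]

/-- A nonidentity element of a `p`-group has a power of order `p`. -/
theorem exists_order_p [Finite P] {p : ℕ} (hp : p.Prime) (hP : IsPGroup p P) (g : P) (hg : g ≠ 1) :
    ∃ e ∈ zpowers g, orderOf e = p := by
  have : Fact p.Prime := ⟨hp⟩
  obtain ⟨k, hk⟩ := (IsPGroup.iff_orderOf.mp hP) g
  have hk0 : k ≠ 0 := by
    rintro rfl
    rw [pow_zero, orderOf_eq_one_iff] at hk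
    exact hg hk
  have hdvd : p ∣ Nat.card (zpowers g) := by
    rw [Nat.card_zpowers, hk]
    exact dvd_pow_self p hk0
  obtain ⟨e, he⟩ := exists_prime_orderOf_dvd_card' p hdvd
  exact ⟨e.1, e.2, by rw [Subgroup.orderOf_coe]; exact he⟩

theorem core [Finite P] (p : ℕ) (hp : p.Prime) (hp2 : p ≠ 2) (hP : IsPGroup p P)
    (I : Subgroup (MulAut P)) (hIc : ∀ s ∈ I, ∀ t ∈ I, s * t = t * s) (hI2 : ∀ t ∈ I, t * t = 1)
    (hI8 : Nat.card ↥I = 8)
    (I₀ : Subgroup (MulAut P)) (hI₀ : I₀ ≤ I)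
    (hdisj : ∀ T ∈ I₀, T ≠ 1 → Cyc T)
    (hprod : ∀ T ∈ I, ∀ T' ∈ I, T ≠ 1 → T' ≠ 1 → ¬ Cyc T → ¬ Cyc T' → T * T' ∈ I₀)
    (a b : MulAut P) (haI : a ∈ I) (hbI : b ∈ I) (ga gb gc : P)
    (hfa : ∀ x, a x = x ↔ x ∈ zpowers ga) (hfb : ∀ x, b x = x ↔ x ∈ zpowers gb)
    (hfc : ∀ x, (a * b) x = x ↔ x ∈ zpowers gc) :
    IsMulCommutative P ∧ (∃ a b c : P, Subgroup.closure {a, b, c} = ⊤) ∧
      (¬ ∃ a b : P, Subgroup.closure {a, b} = ⊤) ∧
      Nat.card {T : MulAut P // T ∈ I ∧ T ≠ 1 ∧ ¬ Cyc T} = 3 ∧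
      Subgroup.closure {T : MulAut P | T ∈ I ∧ T ≠ 1 ∧ ¬ Cyc T} = I ∧
      (I₀ : Set (MulAut P)) = {S : MulAut P | ∃ T T' : MulAut P, T ∈ I ∧ T' ∈ I ∧ T ≠ 1 ∧ T' ≠ 1 ∧
        (¬ Cyc T) ∧ (¬ Cyc T') ∧ S = T * T'} := by
  classical
  obtain ⟨htop, hagree, hpm, T1, T2, T3, hT1, hT2, hT3, h1a, h1b, h1c, h2a, h2b, h2c, h3a, h3b, h3c,
    hga, hgb, hgc⟩ := setup p hp hp2 hP I hIc hI2 hI8 a b haI hbI ga gb gc hfa hfb hfc
  have hinvne : ∀ g : P, g ≠ 1 → g⁻¹ ≠ g := fun g hg h => hg (eq_one_of_eq_inv hp hp2 hP h.symm)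
  have hT1ne : T1 ≠ 1 := by
    rintro rfl
    rw [MulAut.one_apply] at h1a
    exact hinvne ga hga h1a.symm
  have hT2ne : T2 ≠ 1 := by
    rintro rfl
    rw [MulAut.one_apply] at h2b
    exact hinvne gb hgb h2b.symm
  have hT3ne : T3 ≠ 1 := by
    rintro rfl
    rw [MulAut.one_apply] at h3c
    exact hinvne gc hgc h3c.symm
  have h12ne : T1 ≠ T2 := by
    rintro rfl
    rw [h1a] at h2a
    exact hinvne ga hga h2a
  have h13ne : T1 ≠ T3 := by
    rintro rfl
    rw [h1a] at h3a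
    exact hinvne ga hga h3a
  have h23ne : T2 ≠ T3 := by
    rintro rfl
    rw [h2b] at h3b
    exact hinvne gb hgb h3b
  have hb1 : ¬ Cyc T1 := not_cyc_of hp hp2 hP T1 T2 (hIc T1 hT1 T2 hT2) (hI2 T2 hT2) gb gc
    h1b h1c h2b h2c hgb hgc
  have hb2 : ¬ Cyc T2 := not_cyc_of hp hp2 hP T2 T1 (hIc T2 hT2 T1 hT1) (hI2 T1 hT1) ga gc
    h2a h2c h1a h1c hga hgc
  have hb3 : ¬ Cyc T3 := not_cyc_of hp hp2 hP T3 T1 (hIc T3 hT3 T1 hT1) (hI2 T1 hT1) ga gb
    h3a h3b h1a h1b hga hgb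
  have hzI : T1 * T2 * T3 ∈ I := I.mul_mem (I.mul_mem hT1 hT2) hT3
  have hza : (T1 * T2 * T3) ga = ga⁻¹ := by simp only [MulAut.mul_apply, h3a, h2a, h1a]
  have hzb : (T1 * T2 * T3) gb = gb⁻¹ := by simp only [MulAut.mul_apply, h3b, h2b, map_inv, h1b]
  have hzc : (T1 * T2 * T3) gc = gc⁻¹ := by simp only [MulAut.mul_apply, h3c, map_inv, h2c, h1c]
  obtain ⟨hcomm, hzinv⟩ := abelian_of_setup p hp hp2 hP I hIc hI2 a b haI hbI ga gb gc hfa hfb hfc
    _ hzI hza hzb hzc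
  have hzcyc : Cyc (T1 * T2 * T3) := by
    refine ⟨1, fun x => ?_⟩
    rw [hzinv, zpowers_one_eq_bot, mem_bot]
    constructor
    · intro h
      exact eq_one_of_eq_inv hp hp2 hP h.symm
    · rintro rfl
      simp
  have h8 : ∀ T ∈ I, T = 1 ∨ T = T1 ∨ T = T2 ∨ T = T3 ∨ T = T1 * T2 ∨ T = T1 * T3 ∨ T = T2 * T3 ∨
      T = T1 * T2 * T3 := by
    intro T hT
    obtain ⟨pa, pb, pc⟩ := hpm T hT
    rcases pa with ea | ea <;> rcases pb with eb | eb <;> rcases pc with ec | ec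
    · refine Or.inl (hagree T hT _ I.one_mem ?_ ?_ ?_)
      · rw [ea]; rfl
      · rw [eb]; rfl
      · rw [ec]; rfl
    · refine Or.inr (Or.inr (Or.inr (Or.inl (hagree T hT _ hT3 ?_ ?_ ?_))))
      · rw [ea, h3a]
      · rw [eb, h3b]
      · rw [ec, h3c]
    · refine Or.inr (Or.inr (Or.inl (hagree T hT _ hT2 ?_ ?_ ?_)))
      · rw [ea, h2a]
      · rw [eb, h2b]
      · rw [ec, h2c]
    · refine Or.inr (Or.inr (Or.inr (Or.inr (Or.inr (Or.inr (Or.inl
        (hagree T hT _ (I.mul_mem hT2 hT3) ?_ ?_ ?_)))))))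
      · rw [ea]; simp only [MulAut.mul_apply, h3a, h2a]
      · rw [eb]; simp only [MulAut.mul_apply, h3b, h2b]
      · rw [ec]; simp only [MulAut.mul_apply, h3c, map_inv, h2c]
    · refine Or.inr (Or.inl (hagree T hT _ hT1 ?_ ?_ ?_))
      · rw [ea, h1a]
      · rw [eb, h1b]
      · rw [ec, h1c]
    · refine Or.inr (Or.inr (Or.inr (Or.inr (Or.inr (Or.inl
        (hagree T hT _ (I.mul_mem hT1 hT3) ?_ ?_ ?_))))))
      · rw [ea]; simp only [MulAut.mul_apply, h3a, h1a]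
      · rw [eb]; simp only [MulAut.mul_apply, h3b, h1b]
      · rw [ec]; simp only [MulAut.mul_apply, h3c, map_inv, h1c]
    · refine Or.inr (Or.inr (Or.inr (Or.inr (Or.inl
        (hagree T hT _ (I.mul_mem hT1 hT2) ?_ ?_ ?_)))))
      · rw [ea]; simp only [MulAut.mul_apply, h2a, h1a]
      · rw [eb]; simp only [MulAut.mul_apply, h2b, map_inv, h1b]
      · rw [ec]; simp only [MulAut.mul_apply, h2c, h1c]
    · refine Or.inr (Or.inr (Or.inr (Or.inr (Or.inr (Or.inr (Or.inr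
        (hagree T hT _ hzI ?_ ?_ ?_)))))))
      · rw [ea, hza]
      · rw [eb, hzb]
      · rw [ec, hzc]
  have h12 : T1 * T2 ∈ I₀ := hprod T1 hT1 T2 hT2 hT1ne hT2ne hb1 hb2
  have h13 : T1 * T3 ∈ I₀ := hprod T1 hT1 T3 hT3 hT1ne hT3ne hb1 hb3
  have h23 : T2 * T3 ∈ I₀ := hprod T2 hT2 T3 hT3 hT2ne hT3ne hb2 hb3
  have hset : {T : MulAut P | T ∈ I ∧ T ≠ 1 ∧ ¬ Cyc T} = {T1, T2, T3} := by
    ext T
    simp only [Set.mem_ofPred_eq, Set.mem_insert_iff, Set.mem_singleton_iff]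
    constructor
    · rintro ⟨hT, hTne, hTc⟩
      rcases h8 T hT with h | h | h | h | h | h | h | h
      · exact absurd h hTne
      · exact Or.inl h
      · exact Or.inr (Or.inl h)
      · exact Or.inr (Or.inr h)
      · rw [h] at hTne hTc
        exact absurd (hdisj _ h12 hTne) hTc
      · rw [h] at hTne hTc
        exact absurd (hdisj _ h13 hTne) hTc
      · rw [h] at hTne hTc
        exact absurd (hdisj _ h23 hTne) hTc
      · rw [h] at hTc
        exact absurd hzcyc hTc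
    · rintro (h | h | h)
      · rw [h]; exact ⟨hT1, hT1ne, hb1⟩
      · rw [h]; exact ⟨hT2, hT2ne, hb2⟩
      · rw [h]; exact ⟨hT3, hT3ne, hb3⟩
  refine ⟨⟨⟨hcomm⟩⟩, ⟨ga, gb, gc, ?_⟩, ?_, ?_, ?_, ?_⟩
  · rw [eq_top_iff]
    intro x _
    refine (sup_le (sup_le ?_ ?_) ?_ : _ ≤ closure ({ga, gb, gc} : Set P)) (htop x)
    · rw [zpowers_le]; exact subset_closure (by simp)
    · rw [zpowers_le]; exact subset_closure (by simp)
    · rw [zpowers_le]; exact subset_closure (by simp)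
  · -- not generated by two elements
    obtain ⟨ea, hea, oa⟩ := exists_order_p hp hP ga hga
    obtain ⟨eb, heb, ob⟩ := exists_order_p hp hP gb hgb
    obtain ⟨ec, hec, oc⟩ := exists_order_p hp hP gc hgc
    let inst : CommGroup P := { (inferInstance : Group P) with mul_comm := hcomm }
    exact not_two_gen hp (fun x hx => eq_one_of_mul_self hp hp2 hP hx) T1 T2 T3 ea eb ec oa ob oc
      (inv_zpowers T1 h1a hea) (fix_zpowers T1 h1b heb) (fix_zpowers T1 h1c hec)
      (fix_zpowers T2 h2a hea) (inv_zpowers T2 h2b heb) (fix_zpowers T2 h2c hec)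
      (fix_zpowers T3 h3a hea) (fix_zpowers T3 h3b heb) (inv_zpowers T3 h3c hec)
  · show Nat.card ↥{T : MulAut P | T ∈ I ∧ T ≠ 1 ∧ ¬ Cyc T} = 3
    rw [hset, Nat.card_coe_set_eq, Set.ncard_eq_three]
    exact ⟨T1, T2, T3, h12ne, h13ne, h23ne, rfl⟩
  · rw [hset]
    apply le_antisymm
    · rw [closure_le]
      intro T hT
      rcases hT with h | h | h
      · rw [h]; exact hT1
      · rw [h]; exact hT2
      · rw [Set.mem_singleton_iff] at h
        rw [h]; exact hT3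
    · intro T hT
      have m1 : T1 ∈ closure ({T1, T2, T3} : Set (MulAut P)) := subset_closure (by simp)
      have m2 : T2 ∈ closure ({T1, T2, T3} : Set (MulAut P)) := subset_closure (by simp)
      have m3 : T3 ∈ closure ({T1, T2, T3} : Set (MulAut P)) := subset_closure (by simp)
      rcases h8 T hT with h | h | h | h | h | h | h | h <;> rw [h]
      · exact one_mem _
      · exact m1
      · exact m2
      · exact m3
      · exact mul_mem m1 m2
      · exact mul_mem m1 m3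
      · exact mul_mem m2 m3
      · exact mul_mem (mul_mem m1 m2) m3
  · ext S
    simp only [SetLike.mem_coe, Set.mem_ofPred_eq]
    constructor
    · intro hS
      rcases h8 S (hI₀ hS) with h | h | h | h | h | h | h | h
      · exact ⟨T1, T1, hT1, hT1, hT1ne, hT1ne, hb1, hb1, by rw [h, hI2 T1 hT1]⟩
      · rw [h] at hS
        exact absurd (hdisj T1 hS hT1ne) hb1
      · rw [h] at hS
        exact absurd (hdisj T2 hS hT2ne) hb2
      · rw [h] at hS
        exact absurd (hdisj T3 hS hT3ne) hb3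
      · exact ⟨T1, T2, hT1, hT2, hT1ne, hT2ne, hb1, hb2, h⟩
      · exact ⟨T1, T3, hT1, hT3, hT1ne, hT3ne, hb1, hb3, h⟩
      · exact ⟨T2, T3, hT2, hT3, hT2ne, hT3ne, hb2, hb3, h⟩
      · rw [h] at hS
        have h3 : T3 ∈ I₀ := by
          have e : T3 = (T1 * T2)⁻¹ * (T1 * T2 * T3) := by group
          rw [e]
          exact I₀.mul_mem (I₀.inv_mem h12) hS
        exact absurd (hdisj T3 h3 hT3ne) hb3
    · rintro ⟨T, T', hT, hT', hTne, hT'ne, hTc, hT'c, rfl⟩
      exact hprod T hT T' hT' hTne hT'ne hTc hT'c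

end main

/-- Let p be an odd prime, P a finite p-group and I an elementary abelian subgroup of order 8 of Aut(P). Call T ∈ I, T ≠ 1, broad when its fixed-point subgroup C_P(T) is not cyclic. Suppose I has a proper subgroup I₀ containing no broad element such that the product of any two broad elements lies in I₀. Then P is abelian of rank exactly 3 (generated by three elements but not by two), there are exactly three broad elements and they generate I, and I₀ is exactly the set of products of two broad elements. -/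
theorem result
    {P : Type*} [Group P] [Finite P] (p : ℕ) (hp : p.Prime) (hp2 : p ≠ 2) (hP : IsPGroup p P)
    (I : Subgroup (MulAut P)) (hI : Cfsg.IsElementaryAbelian 2 I) (hI8 : Nat.card ↥I = 8)
    (I₀ : Subgroup (MulAut P)) (hI₀ : I₀ < I)
    (hdisj : ∀ T ∈ I₀, T ≠ 1 → ∃ g : P, ∀ x : P, (T x = x ↔ x ∈ Subgroup.zpowers g))
    (hprod : ∀ T ∈ I, ∀ T' ∈ I, T ≠ 1 → T' ≠ 1 → (¬ ∃ g : P, ∀ x : P, (T x = x ↔ x ∈ Subgroup.zpowers g)) →
      (¬ ∃ g : P, ∀ x : P, (T' x = x ↔ x ∈ Subgroup.zpowers g)) → T * T' ∈ I₀) :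
    IsMulCommutative P ∧ (∃ a b c : P, Subgroup.closure {a, b, c} = ⊤) ∧ (¬ ∃ a b : P, Subgroup.closure {a, b} = ⊤) ∧
      Nat.card {T : MulAut P // T ∈ I ∧ T ≠ 1 ∧ ¬ ∃ g : P, ∀ x : P, (T x = x ↔ x ∈ Subgroup.zpowers g)} = 3 ∧
      Subgroup.closure {T : MulAut P | T ∈ I ∧ T ≠ 1 ∧ ¬ ∃ g : P, ∀ x : P, (T x = x ↔ x ∈ Subgroup.zpowers g)} = I ∧
      (I₀ : Set (MulAut P)) = {S : MulAut P | ∃ T T' : MulAut P, T ∈ I ∧ T' ∈ I ∧ T ≠ 1 ∧ T' ≠ 1 ∧
        (¬ ∃ g : P, ∀ x : P, (T x = x ↔ x ∈ Subgroup.zpowers g)) ∧ (¬ ∃ g : P, ∀ x : P, (T' x = x ↔ x ∈ Subgroup.zpowers g)) ∧ S = T * T'} := by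
  classical
  have hIc : ∀ s ∈ I, ∀ t ∈ I, s * t = t * s := fun s hs t ht =>
    congrArg Subtype.val (hI.1.is_comm.comm ⟨s, hs⟩ ⟨t, ht⟩)
  have hI2 : ∀ t ∈ I, t * t = 1 := by
    intro t ht
    have := hI.2 t ht
    rwa [pow_two] at this
  let inst : CommGroup ↥I :=
    { (inferInstance : Group ↥I) with mul_comm := fun x y => Subtype.ext (hIc x.1 x.2 y.1 y.2) }
  have hA2 : ∀ x : ↥I, x * x = 1 := fun x => Subtype.ext (hI2 x.1 x.2)
  have hF : I₀.subgroupOf I ≠ ⊤ := by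
    rw [Ne, Subgroup.subgroupOf_eq_top]
    exact not_le_of_gt hI₀
  obtain ⟨u, v, hu1, hv1, huv, hbu, hbv, hbuv⟩ := exists_pair hA2 hI8 (I₀.subgroupOf I) hF
    (fun x : ↥I => x.1 ≠ 1 ∧ ¬ Cyc x.1)
    (by
      intro x hx hbx
      exact hbx.2 (hdisj x.1 (Subgroup.mem_subgroupOf.mp hx) hbx.1))
    (by
      intro x y hbx hby
      rw [Subgroup.mem_subgroupOf]
      exact hprod x.1 x.2 y.1 y.2 hbx.1 hby.1 hbx.2 hby.2)
  have hu1' : u.1 ≠ 1 := fun h => hu1 (Subtype.ext h)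
  have hv1' : v.1 ≠ 1 := fun h => hv1 (Subtype.ext h)
  have huv1 : u.1 * v.1 ≠ 1 := by
    intro h
    apply huv
    apply Subtype.ext
    have h1 : u.1 * u.1 = 1 := hI2 u.1 u.2
    exact mul_left_cancel (h1.trans h.symm)
  have hcu : Cyc u.1 := by
    by_contra h
    exact hbu ⟨hu1', h⟩
  have hcv : Cyc v.1 := by
    by_contra h
    exact hbv ⟨hv1', h⟩
  have hcuv : Cyc (u.1 * v.1) := by
    by_contra h
    exact hbuv ⟨huv1, h⟩
  obtain ⟨ga, hfa⟩ := hcu
  obtain ⟨gb, hfb⟩ := hcv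
  obtain ⟨gc, hfc⟩ := hcuv
  exact core p hp hp2 hP I hIc hI2 hI8 I₀ hI₀.le hdisj hprod u.1 v.1 u.2 v.2 ga gb gc hfa hfb hfc

end Cfsg.Agent.S4412
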