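import Cfsg.Statements.S4413
import Cfsg.Agent.Lib.Helper89.OutES.Main
import Cfsg.Agent.S0824

set_option autoImplicit false
open Cfsg

namespace Cfsg.Agent.S4413

theorem conj_ker {P : Type*} [Group P] :
    (MulAut.conj : P →* MulAut P).ker = Subgroup.center P := by
  ext g
  rw [MonoidHom.mem_ker, Subgroup.mem_center_iff]
  constructor
  · intro h x
    have := congrArg (fun α : MulAut P => α x) h
    simp only [MulAut.conj_apply, MulAut.one_apply] at this
    calc x * g = (g * x * g⁻¹) * g := by rw [this]
      _ = g * x := by group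
  · intro h
    apply MulEquiv.ext
    intro x
    rw [MulAut.conj_apply, MulAut.one_apply, ← h x]
    group

/-- Let P be an extraspecial 2-group of order 32 with no elementary abelian subgroup of order 8 (the central product of a dihedral and a quaternion group of order 8). Then the inner automorphism group of P has order 16 and the outer automorphism group Aut(P)/Inn(P) is isomorphic to the symmetric group of degree 5; in particular Aut(P) has order 1920. -/
theorem result {P : Type*} [Group P] [Finite P]
    (hex : Cfsg.IsExtraspecial 2 P) (h32 : Nat.card P = 32)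
    (hminus : ∀ A : Subgroup P, Cfsg.IsElementaryAbelian 2 A → Nat.card ↥A ≤ 4)
    [(MulAut.conj : P →* MulAut P).range.Normal] :
    Nat.card ↥(MulAut.conj : P →* MulAut P).range = 16 ∧ Nat.card (MulAut P) = 1920 ∧
      Nonempty ((MulAut P ⧸ (MulAut.conj : P →* MulAut P).range) ≃* Equiv.Perm (Fin 5)) := by
  have hcard : Nat.card P = 2 ^ (2 * 2 + 1) := by rw [h32]; norm_num
  have hno : ¬ ∃ A : Subgroup P, Cfsg.IsElementaryAbelian 2 A ∧ Nat.card ↥A = 2 ^ (2 + 1) := by
    rintro ⟨A, hA, hA8⟩
    have := hminus A hA
    rw [hA8] at this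
    norm_num at this
  obtain ⟨e1⟩ := (Cfsg.Agent.Helper89.out_extraspecial hex 2 (by norm_num) hcard).2 hno
  obtain ⟨e2⟩ := Cfsg.Agent.S0824.result (F := ZMod 2) (by rw [ZMod.card])
  have e3 : Cfsg.Out P ≃* Equiv.Perm (Fin 5) := e1.trans e2
  -- cardinalities
  have hInn : Nat.card ↥(MulAut.conj : P →* MulAut P).range = 16 := by
    have h1 := Nat.card_congr
      (QuotientGroup.quotientKerEquivRange (MulAut.conj : P →* MulAut P)).toEquiv
    have h2 := Subgroup.card_eq_card_quotient_mul_card_subgroup (MulAut.conj : P →* MulAut P).ker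
    rw [h1, conj_ker, hex.2, h32] at h2
    omega
  have hOut : Nat.card (Cfsg.Out P) = 120 := by
    rw [Nat.card_congr e3.toEquiv, Nat.card_eq_fintype_card, Fintype.card_perm, Fintype.card_fin]
    rfl
  refine ⟨hInn, ?_, ⟨e3⟩⟩
  have h3 := Subgroup.card_eq_card_quotient_mul_card_subgroup (Cfsg.Inn P)
  have hOut' : Nat.card (MulAut P ⧸ Cfsg.Inn P) = 120 := hOut
  rw [hOut', hInn] at h3
  rw [h3]

end Cfsg.Agent.S4413
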