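import Cfsg.Statements.S4414
import Cfsg.Agent.Lib.Helper73.W44Thm
import Cfsg.Agent.Lib.Helper23.W44WI
import Cfsg.Agent.Lib.Helper63.W44WM
import Cfsg.Agent.Lib.Helper79.W44SR
import Cfsg.Agent.Lib.Helper5.W44DA
import Cfsg.Agent.Lib.Helper5.W44DB
import Cfsg.Agent.Lib.Helper63.W44DC
import Cfsg.Agent.Lib.Helper63.W44CK

set_option autoImplicit false
open Cfsg

namespace Cfsg.Agent.S4414

open Cfsg.Agent.Helper73 Cfsg.Agent.Helper73.W44 Cfsg.Agent.Helper97.FX
open Cfsg.Agent.Helper23.W44 (wt_isInternal)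
open Cfsg.Agent.Helper63.W44 (map_wt fixS_baseRep_eq_bot fixS_baseRep_invariant
  fixS_eq_bot_of_irr_faithful card_fixed_eq_two_pow)
open Cfsg.Agent.Helper79.W44 (exists_smul_ne_of_wt_ne_bot)
open Cfsg.Agent.Helper5.W44 (fixS_baseRep_le_span finrank_fixS_baseRep)
open scoped TensorProduct

/-- Let S be a finite solvable group whose order is divisible only by the primes 2, p, q (p, q distinct odd primes), with a Sylow system S₂, S_p, S_q (pairwise permutable Sylow subgroups) such that: S_p is a minimal normal subgroup of S of order p or p²; S_q has order q and [S_p, S_q] = S_p; and O₂(S) = 1. Let E be an irreducible module for S over the field with two elements on which S_p acts faithfully, and E₀ the subspace of fixed points of S₂. Then either E₀ has at least 8 elements, or E₀ has exactly 4 elements and S_q does not leave E₀ invariant. -/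
theorem result {S : Type*} [Group S] [Finite S]
    [Group.IsSolvable S] (p q : ℕ) (hp : p.Prime) (hq : q.Prime) (hp2 : p ≠ 2) (hq2 : q ≠ 2) (hpq : p ≠ q)
    (hπ : ∀ r : ℕ, r.Prime → r ∣ Nat.card S → r = 2 ∨ r = p ∨ r = q)
    (S₂ : Sylow 2 S) (Sp : Sylow p S) (Sq : Sylow q S)
    (h2q : Nat.card ↥((S₂ : Subgroup S) ⊔ (Sq : Subgroup S)) = Nat.card ↥S₂ * Nat.card ↥Sq)
    (h2p : Nat.card ↥((S₂ : Subgroup S) ⊔ (Sp : Subgroup S)) = Nat.card ↥S₂ * Nat.card ↥Sp)
    (hpq' : Nat.card ↥((Sp : Subgroup S) ⊔ (Sq : Subgroup S)) = Nat.card ↥Sp * Nat.card ↥Sq)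
    (hSpN : (Sp : Subgroup S).Normal) (hSpmin : ∀ N : Subgroup S, N.Normal → N ≤ (Sp : Subgroup S) → N = ⊥ ∨ N = (Sp : Subgroup S))
    (hSpcard : Nat.card ↥Sp = p ∨ Nat.card ↥Sp = p ^ 2)
    (hSq : Nat.card ↥Sq = q) (hcomm : ⁅(Sp : Subgroup S), (Sq : Subgroup S)⁆ = (Sp : Subgroup S))
    (hO2 : Cfsg.pCore 2 S = ⊥)
    {E : Type*} [AddCommGroup E] [Module (ZMod 2) E] [Finite E] (ρ : Representation (ZMod 2) S E) (hE : Nontrivial E)
    (hirr : ∀ N : Submodule (ZMod 2) E, (∀ s : S, ∀ m ∈ N, ρ s m ∈ N) → N = ⊥ ∨ N = ⊤)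
    (hfaith : ∀ x ∈ (Sp : Subgroup S), ρ x = 1 → x = 1) :
    8 ≤ Nat.card {v : E // ∀ s ∈ (S₂ : Subgroup S), ρ s v = v} ∨
      (Nat.card {v : E // ∀ s ∈ (S₂ : Subgroup S), ρ s v = v} = 4 ∧
        ∃ x ∈ (Sq : Subgroup S), ∃ v : E, (∀ s ∈ (S₂ : Subgroup S), ρ s v = v) ∧ ¬ ∀ s ∈ (S₂ : Subgroup S), ρ s (ρ x v) = ρ x v) := by
  classical
  haveI : Fact p.Prime := ⟨hp⟩
  haveI : (Sp : Subgroup S).Normal := hSpN
  -- K = Sp is nontrivial, abelian, of odd order
  have hp2le := hp.two_le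
  have hKne : (Sp : Subgroup S) ≠ ⊥ := by
    intro h
    have h1 : Nat.card ↥(Sp : Subgroup S) = 1 := by rw [h]; exact Subgroup.card_bot
    rcases hSpcard with h' | h'
    · have : Nat.card ↥(Sp : Subgroup S) = p := h'
      omega
    · have : Nat.card ↥(Sp : Subgroup S) = p ^ 2 := h'
      have : p ^ 2 = 1 := by omega
      have : p = 1 := by
        rcases Nat.pow_eq_one.mp this with h | h
        · exact h
        · omega
      omega
  have hKab : ∀ a ∈ (Sp : Subgroup S), ∀ b ∈ (Sp : Subgroup S), a * b = b * a := by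
    intro a ha b hb
    rcases hSpcard with h' | h'
    · haveI : IsCyclic ↥(Sp : Subgroup S) := isCyclic_of_prime_card h'
      have := (isMulCommutative_iff.mp (IsCyclic.commutative (α := ↥(Sp : Subgroup S))))
        (⟨a, ha⟩ : ↥(Sp : Subgroup S)) ⟨b, hb⟩
      exact congrArg Subtype.val this
    · have := (isMulCommutative_iff.mp (IsPGroup.isMulCommutative_of_card_eq_prime_sq h'))
        (⟨a, ha⟩ : ↥(Sp : Subgroup S)) ⟨b, hb⟩
      exact congrArg Subtype.val this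
  -- the base change
  let L := AlgebraicClosure (ZMod 2)
  have hcardL : (Nat.card ↥(Sp : Subgroup S) : L) ≠ 0 := by
    intro h
    rw [CharP.cast_eq_zero_iff L 2] at h
    have h2p : 2 ∣ p := by
      rcases hSpcard with h' | h'
      · have e : Nat.card ↥(Sp : Subgroup S) = p := h'
        rwa [e] at h
      · have e : Nat.card ↥(Sp : Subgroup S) = p ^ 2 := h'
        rw [e] at h
        exact Nat.prime_two.dvd_of_dvd_pow h
    exact hp2 ((Nat.prime_dvd_prime_iff_eq Nat.prime_two hp).mp h2p).symm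
  have hCK0 : fixS ρ (Sp : Subgroup S) = ⊥ :=
    fixS_eq_bot_of_irr_faithful ρ (Sp : Subgroup S) hirr hKne hfaith
  have hCK : fixS (baseRep L ρ) (Sp : Subgroup S) = ⊥ :=
    fixS_baseRep_eq_bot ρ (Sp : Subgroup S) (fixS_baseRep_le_span ρ (Sp : Subgroup S)) hCK0
  haveI : Module.Finite (ZMod 2) E := Module.Finite.of_finite
  haveI : Nontrivial (L ⊗[ZMod 2] E) := by
    apply Module.nontrivial_of_finrank_pos (R := L)
    rw [Module.finrank_baseChange]
    exact Module.finrank_pos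
  have hI : DirectSum.IsInternal (wt (baseRep L ρ) (Sp : Subgroup S)) :=
    wt_isInternal (baseRep L ρ) (Sp : Subgroup S) hKab hcardL
  have hmap : ∀ (g : S) (χ : Wt (Sp : Subgroup S) L),
      (wt (baseRep L ρ) (Sp : Subgroup S) χ).map (baseRep L ρ g) =
        wt (baseRep L ρ) (Sp : Subgroup S) (g • χ) :=
    fun g χ => map_wt (baseRep L ρ) (Sp : Subgroup S) g χ
  have hsemi : ∀ χ : Wt (Sp : Subgroup S) L, wt (baseRep L ρ) (Sp : Subgroup S) χ ≠ ⊥ →
      ∃ y ∈ (Sq : Subgroup S), y • χ ≠ χ :=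
    fun χ hχ => exists_smul_ne_of_wt_ne_bot (baseRep L ρ) (Sp : Subgroup S) (Sq : Subgroup S)
      hcomm hCK χ hχ
  have hP : IsPGroup 2 ↥(S₂ : Subgroup S) := S₂.isPGroup'
  have hQ : Nat.card ↥(Sq : Subgroup S) = q := hSq
  have hTA := W44T.two_le_finrank_fixS (baseRep L ρ) (wt (baseRep L ρ) (Sp : Subgroup S)) hI hmap
    (S₂ : Subgroup S) (Sq : Subgroup S) hP q hq hq2 hQ hsemi
  have hDB : Module.finrank L (fixS (baseRep L ρ) (S₂ : Subgroup S)) =
      Module.finrank (ZMod 2) (fixS ρ (S₂ : Subgroup S)) := finrank_fixS_baseRep ρ (S₂ : Subgroup S)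
  have hcard := card_fixed_eq_two_pow ρ (S₂ : Subgroup S)
  rw [hDB] at hTA
  by_cases h3 : 3 ≤ Module.finrank (ZMod 2) (fixS ρ (S₂ : Subgroup S))
  · left
    rw [hcard]
    calc 8 = 2 ^ 3 := by norm_num
      _ ≤ _ := Nat.pow_le_pow_right (by norm_num) h3
  · right
    have hd : Module.finrank (ZMod 2) (fixS ρ (S₂ : Subgroup S)) = 2 := by omega
    refine ⟨by rw [hcard, hd]; norm_num, ?_⟩
    by_contra hcon
    apply h3
    rw [← hDB]
    have hinv : ∀ y ∈ (Sq : Subgroup S), ∀ e ∈ fixS ρ (S₂ : Subgroup S),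
        ρ y e ∈ fixS ρ (S₂ : Subgroup S) := by
      intro y hy e he
      by_contra hne
      exact hcon ⟨y, hy, e, he, hne⟩
    have hQF : ∀ y ∈ (Sq : Subgroup S), ∀ v ∈ fixS (baseRep L ρ) (S₂ : Subgroup S),
        baseRep L ρ y v ∈ fixS (baseRep L ρ) (S₂ : Subgroup S) :=
      fun y hy => fixS_baseRep_invariant ρ (S₂ : Subgroup S)
        (fixS_baseRep_le_span ρ (S₂ : Subgroup S)) y (hinv y hy)
    exact W44T.three_le_finrank_fixS (baseRep L ρ) (wt (baseRep L ρ) (Sp : Subgroup S)) hI hmap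
      (S₂ : Subgroup S) (Sq : Subgroup S) hP q hq hq2 hQ hsemi hQF

end Cfsg.Agent.S4414
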