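import Cfsg.Statements.S4416
import Cfsg.Agent.Lib.Helper89.Classify.Cor

set_option autoImplicit false
open Cfsg

namespace Cfsg.Agent.S4416

open Cfsg.Agent.Helper89

/-- Classification of extraspecial 2-groups in intrinsic form. An extraspecial 2-group has order 2^(2m+1) for some m ≥ 1, and the number of its elements squaring to the identity is either 2^(2m) + 2^m or 2^(2m) − 2^m; two extraspecial 2-groups of the same order with the same number of such elements are isomorphic. (The two cases are the central products of m dihedral groups of order 8, and of m − 1 dihedral groups with one quaternion group.) -/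
theorem result (E : Type*) [Group E] [Finite E] (hE : Cfsg.IsExtraspecial 2 E) :
    (∃ m : ℕ, 1 ≤ m ∧ Nat.card E = 2 ^ (2 * m + 1) ∧
      (Nat.card {x : E // x ^ 2 = 1} = 2 ^ (2 * m) + 2 ^ m ∨ Nat.card {x : E // x ^ 2 = 1} = 2 ^ (2 * m) - 2 ^ m)) ∧
    ∀ (E' : Type*) [Group E'] [Finite E'], Cfsg.IsExtraspecial 2 E' → Nat.card E' = Nat.card E →
      Nat.card {x : E' // x ^ 2 = 1} = Nat.card {x : E // x ^ 2 = 1} → Nonempty (E ≃* E') := by
  obtain ⟨c, n, hG, hn, hcard, htype⟩ := extraspecial_type hE
  have hpos : 0 < 2 ^ n := Nat.pos_of_ne_zero (by positivity)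
  have hle : 2 ^ n ≤ 2 ^ (2 * n) := Nat.pow_le_pow_right (by norm_num) (by omega)
  constructor
  · refine ⟨n, hn, hcard, ?_⟩
    rcases htype with hp | hm
    · left; exact hp.1
    · right; exact hm.1
  · intro E' _ _ hE' hcard' hcount
    obtain ⟨c', n', hG', _, hcard2, htype'⟩ := extraspecial_type hE'
    have e : n' = n := pow_two_injective (by rw [← hcard2, ← hcard, hcard'])
    subst e
    have hcount' : invCount E' = invCount E := hcount
    rcases htype with hp | hm <;> rcases htype' with hp' | hm'
    · exact extraspecial_iso hG hG' hcard hcard2 (Or.inl ⟨hp, hp'⟩)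
    · exfalso
      have h1 := hp.1
      have h2 := hm'.1
      omega
    · exfalso
      have h1 := hm.1
      have h2 := hp'.1
      omega
    · exact extraspecial_iso hG hG' hcard hcard2 (Or.inr ⟨hm, hm'⟩)

end Cfsg.Agent.S4416
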