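import Cfsg.Statements.S4417
import Cfsg.Agent.Lib.Helper57.GLSylowH
import Cfsg.Agent.S4015
-- import your own Cfsg.Agent.* helpers here

set_option autoImplicit false
open Cfsg

namespace Cfsg.Agent.S4417

open Cfsg.Agent.Helper57

/-- Let F be a field with q elements, p a prime not dividing q, and e the multiplicative order of q modulo p; assume e ≤ n. Then every p-subgroup of GL_n(F) has derived length at most ⌊log₂(n/e)⌋ + 1: that term of its derived series is trivial (n/e is the integer quotient). -/
theorem result {F : Type*} [Field F] [Fintype F] (q : ℕ) (hF : Fintype.card F = q) (p : ℕ) [Fact p.Prime] (hpq : ¬ p ∣ q) (n e : ℕ) (he : e = orderOf (q : ZMod p)) (hen : e ≤ n) (P : Subgroup (GL (Fin n) F)) (hP : IsPGroup p P) : derivedSeries ↥P (Nat.log 2 (n / e) + 1) = ⊥ := by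
  classical
  by_cases hp2 : p = 2
  · subst hp2
    have hodd : Odd q := Nat.not_even_iff_odd.mp (fun h => hpq (even_iff_two_dvd.mp h))
    have h1 : (q : ZMod 2) = 1 := ZMod.natCast_eq_one_iff_odd.mpr hodd
    rw [h1, orderOf_one] at he
    subst he
    rw [Nat.div_one]
    exact gl_two_subgroup_der (hF ▸ hodd) n hen P hP
  · subst he
    obtain ⟨S, hPS⟩ := hP.exists_le_sylow
    have h1 := (Cfsg.Agent.S4015.result p hp2 F q hF hpq n hen S).1
    have h2 : derivedSeries P (Nat.log p (n / orderOf (q : ZMod p)) + 1) = ⊥ :=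
      derivedSeries_eq_bot_of_injective (Subgroup.inclusion hPS)
        (Subgroup.inclusion_injective hPS) _ h1
    have hp : p.Prime := Fact.out
    have h3 : Nat.log p (n / orderOf (q : ZMod p)) ≤ Nat.log 2 (n / orderOf (q : ZMod p)) :=
      Nat.log_anti_left (by norm_num) hp.two_le
    rw [eq_bot_iff, ← h2]
    exact derivedSeries_antitone _ (by omega)

end Cfsg.Agent.S4417
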