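import Cfsg.Statements.S4420
import Mathlib

set_option autoImplicit false
open Cfsg

namespace Cfsg.Agent.S4420

variable {H : Type*} [Group H]

/-- an element outside `A` inverts `A` -/
lemma inverts (A : Subgroup H) (hD : ∀ x : H, x ∉ A → x ^ 2 = 1) (t : H) (ht : t ∉ A)
    (a : H) (ha : a ∈ A) : t * a * t⁻¹ = a⁻¹ := by
  have hta : t * a ∉ A := fun h => ht (by simpa using A.mul_mem h (A.inv_mem ha))
  have h1 := hD _ hta
  have h2 := hD _ ht
  have ht' : t⁻¹ = t := by
    rw [inv_eq_iff_mul_eq_one, ← pow_two, h2]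
  rw [ht']
  rw [pow_two] at h1
  -- t a t a = 1
  have : t * a * t = a⁻¹ := by
    rw [eq_inv_iff_mul_eq_one]
    simpa [mul_assoc] using h1
  exact this

lemma comm_of_sq (h : ∀ x : H, x ^ 2 = 1) (a b : H) : a * b = b * a := by
  have ha := h a
  have hb := h b
  have hab := h (a * b)
  rw [pow_two] at ha hb hab
  have hai : a⁻¹ = a := inv_eq_of_mul_eq_one_left ha
  have hbi : b⁻¹ = b := inv_eq_of_mul_eq_one_left hb
  have : (a * b)⁻¹ = a * b := inv_eq_of_mul_eq_one_left hab
  rw [mul_inv_rev, hai, hbi] at this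
  exact this.symm

theorem result {H : Type*} [Group H] [Finite H] (A : Subgroup H) (hA : A ≠ ⊤) (hD : ∀ x : H, x ∉ A → x ^ 2 = 1) :
    ∃ B : Subgroup H, B.Normal ∧ IsMulCommutative ↥B ∧ B.index = 2 ∧
      (∀ x : H, x ∉ B → x ^ 2 = 1 ∧ ∀ b ∈ B, x * b * x⁻¹ = b⁻¹) ∧
      (¬ (IsMulCommutative H ∧ ∀ x : H, x ^ 2 = 1) →
        ∀ B' : Subgroup H, B'.Normal → IsMulCommutative ↥B' → B'.index = 2 →
          (∀ x : H, x ∉ B' → x ^ 2 = 1 ∧ ∀ b ∈ B', x * b * x⁻¹ = b⁻¹) → B' = B) := by
  obtain ⟨t, ht⟩ : ∃ t : H, t ∉ A := by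
    by_contra h
    push Not at h
    exact hA (eq_top_iff.2 fun x _ => h x)
  by_cases hE : (IsMulCommutative H ∧ ∀ x : H, x ^ 2 = 1)
  · -- elementary abelian case
    obtain ⟨hc, hsq⟩ := hE
    have hcomm : ∀ a b : H, a * b = b * a := isMulCommutative_iff.1 hc
    have hp : IsPGroup 2 H := fun g => ⟨1, by simpa using hsq g⟩
    obtain ⟨n, hn⟩ := IsPGroup.iff_card.1 hp
    have hn0 : n ≠ 0 := by
      rintro rfl
      rw [pow_zero, Nat.card_eq_one_iff_unique] at hn
      obtain ⟨hs, _⟩ := hn
      exact ht (by rw [Subsingleton.elim t 1]; exact A.one_mem)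
    obtain ⟨m, rfl⟩ := Nat.exists_eq_succ_of_ne_zero hn0
    have : Fact (Nat.Prime 2) := ⟨Nat.prime_two⟩
    obtain ⟨B, hB⟩ := Sylow.exists_subgroup_card_pow_prime 2 (n := m) (G := H)
      (by rw [hn]; exact pow_dvd_pow 2 (Nat.le_succ m))
    have hidx : B.index = 2 := by
      have := B.card_mul_index
      rw [hB, hn, pow_succ] at this
      exact Nat.eq_of_mul_eq_mul_left (pow_pos (by norm_num) m) this
    refine ⟨B, Subgroup.normal_of_index_eq_two hidx, ?_, hidx, ?_, ?_⟩
    · exact isMulCommutative_iff.2 fun a b => Subtype.ext (hcomm a b)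
    · intro x _
      refine ⟨hsq x, fun b _ => ?_⟩
      rw [hcomm x b, mul_assoc, mul_inv_cancel, mul_one]
      have := hsq b
      rw [pow_two] at this
      exact (inv_eq_of_mul_eq_one_left this).symm
    · intro h
      exact absurd ⟨hc, hsq⟩ h
  · -- non elementary abelian: A has index two
    have hinv := inverts A hD
    have hidx : A.index = 2 := by
      by_contra hne
      rw [Subgroup.index_eq_two_iff] at hne
      push Not at hne
      obtain ⟨b, hb⟩ := hne t
      have hb' : b ∉ A ∧ b * t ∉ A := by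
        by_cases hbA : b ∈ A
        · exfalso
          by_cases hbt : b * t ∈ A
          · exact ht (by simpa using A.mul_mem (A.inv_mem hbA) hbt)
          · exact hb (Or.inr ⟨hbA, hbt⟩)
        · refine ⟨hbA, fun hbt => hb (Or.inl ⟨hbt, hbA⟩)⟩
      obtain ⟨hbA, hbt⟩ := hb'
      have hsqA : ∀ a ∈ A, a ^ 2 = 1 := by
        intro a ha
        have h1 := hinv (b * t) hbt a ha
        have h2 := hinv t ht a ha
        have h3 := hinv b hbA a⁻¹ (A.inv_mem ha)
        have : b * t * a * (b * t)⁻¹ = b * (t * a * t⁻¹) * b⁻¹ := by group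
        rw [this, h2, h3, inv_inv] at h1
        rw [pow_two]
        exact mul_eq_one_iff_eq_inv.2 h1
      have hsq : ∀ x : H, x ^ 2 = 1 := fun x => by
        by_cases hx : x ∈ A
        · exact hsqA x hx
        · exact hD x hx
      exact hE ⟨isMulCommutative_iff.2 (comm_of_sq hsq), hsq⟩
    have hAcomm : ∀ a ∈ A, ∀ b ∈ A, a * b = b * a := by
      intro a ha b hb
      have h1 := hinv t ht (a * b) (A.mul_mem ha hb)
      have h2 := hinv t ht a ha
      have h3 := hinv t ht b hb
      have : t * (a * b) * t⁻¹ = (t * a * t⁻¹) * (t * b * t⁻¹) := by group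
      rw [this, h2, h3, mul_inv_rev] at h1
      have := congrArg (fun x => x⁻¹) h1
      simp only [mul_inv_rev, inv_inv] at this
      exact this.symm
    refine ⟨A, Subgroup.normal_of_index_eq_two hidx, ?_, hidx, ?_, ?_⟩
    · exact isMulCommutative_iff.2 fun a b => Subtype.ext (hAcomm a a.2 b b.2)
    · intro x hx
      exact ⟨hD x hx, fun b hb => hinv x hx b hb⟩
    · intro _ B' _ hB'c hB'i hB'
      by_contra hne
      apply hE
      have hB'comm : ∀ a ∈ B', ∀ b ∈ B', a * b = b * a := by
        intro a ha b hb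
        have := isMulCommutative_iff.1 hB'c ⟨a, ha⟩ ⟨b, hb⟩
        exact congrArg Subtype.val this
      -- there is x ∈ B' \ A
      have hx : ∃ x, x ∈ B' ∧ x ∉ A := by
        by_contra h
        push Not at h
        have hle : B' ≤ A := h
        have := Subgroup.index_eq_one.1
          (show (B'.subgroupOf A).index = 1 by
            have h1 := Subgroup.relIndex_mul_index hle
            rw [hB'i, hidx] at h1
            have : B'.relIndex A = 1 := by
              have h2 : B'.relIndex A * 2 = 1 * 2 := by rw [h1]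
              exact Nat.eq_of_mul_eq_mul_right (by norm_num) h2
            exact this)
        exact hne (le_antisymm hle (Subgroup.subgroupOf_eq_top.1 this))
      obtain ⟨x, hxB', hxA⟩ := hx
      have hsq : ∀ y : H, y ^ 2 = 1 := by
        intro y
        by_cases hyA : y ∈ A
        · by_cases hyB : y ∈ B'
          · have h1 := hinv x hxA y hyA
            have h2 := hB'comm x hxB' y hyB
            rw [h2, mul_assoc, mul_inv_cancel, mul_one] at h1
            rw [pow_two]
            exact mul_eq_one_iff_eq_inv.2 h1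
          · exact (hB' y hyB).1
        · exact hD y hyA
      exact ⟨isMulCommutative_iff.2 (comm_of_sq hsq), hsq⟩

end Cfsg.Agent.S4420
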