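import Cfsg.Statements.S4422
import Mathlib

set_option autoImplicit false
open Cfsg

namespace Cfsg.Agent.S4422

lemma modEq_one_of_primes (e : ℕ) : ∀ m : ℕ, m ≠ 0 → (∀ p : ℕ, p.Prime → p ∣ m → p ≡ 1 [MOD e]) →
    m ≡ 1 [MOD e] := by
  intro m
  induction m using Nat.recOnMul with
  | zero => intro h; exact absurd rfl h
  | one => intro _ _; rfl
  | prime p hp => intro _ h; exact h p hp dvd_rfl
  | mul a b iha ihb =>
    intro hab h
    have ha : a ≠ 0 := fun h0 => hab (by simp [h0])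
    have hb : b ≠ 0 := fun h0 => hab (by simp [h0])
    have h1 := iha ha (fun p hp hpa => h p hp (dvd_mul_of_dvd_left hpa b))
    have h2 := ihb hb (fun p hp hpb => h p hp (dvd_mul_of_dvd_right hpb a))
    simpa using h1.mul h2

theorem result (q e m : ℕ) (hq : 2 ≤ q) (he : 1 ≤ e)
    (hm : m ∣ q ^ e - 1) (hcop : ∀ i : ℕ, 1 ≤ i → i < e → Nat.Coprime m (q ^ i - 1)) :
    m % e = 1 % e := by
  have hqe : 1 ≤ q ^ e := Nat.one_le_pow _ _ (by omega)
  have hqe2 : 2 ≤ q ^ e := by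
    calc 2 ≤ q := hq
      _ = q ^ 1 := (pow_one q).symm
      _ ≤ q ^ e := Nat.pow_le_pow_right (by omega) he
  have hm0 : m ≠ 0 := by
    rintro rfl
    have := Nat.eq_zero_of_zero_dvd hm
    omega
  apply modEq_one_of_primes e m hm0
  intro p hp hpm
  have : Fact p.Prime := ⟨hp⟩
  have hpq : p ∣ q ^ e - 1 := hpm.trans hm
  have h1 : ((q : ZMod p)) ^ e = 1 := by
    have : ((q ^ e - 1 : ℕ) : ZMod p) = 0 := (ZMod.natCast_eq_zero_iff _ _).2 hpq
    rw [Nat.cast_sub hqe] at this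
    push_cast at this
    exact sub_eq_zero.1 this
  have hq0 : (q : ZMod p) ≠ 0 := by
    intro h0
    rw [h0, zero_pow (by omega)] at h1
    exact zero_ne_one h1
  have hd : orderOf (q : ZMod p) ∣ e := orderOf_dvd_of_pow_eq_one h1
  have hdpos : 0 < orderOf (q : ZMod p) := Nat.pos_of_dvd_of_pos hd (by omega)
  have hdle : orderOf (q : ZMod p) ≤ e := Nat.le_of_dvd (by omega) hd
  have hde : orderOf (q : ZMod p) = e := by
    by_contra hne
    have hlt : orderOf (q : ZMod p) < e := lt_of_le_of_ne hdle hne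
    have hc := hcop _ hdpos hlt
    have hqd : 1 ≤ q ^ orderOf (q : ZMod p) := Nat.one_le_pow _ _ (by omega)
    have hpd : p ∣ q ^ orderOf (q : ZMod p) - 1 := by
      rw [← ZMod.natCast_eq_zero_iff, Nat.cast_sub hqd]
      push_cast
      rw [pow_orderOf_eq_one, sub_self]
    have h1' : p ∣ 1 := by
      have := Nat.dvd_gcd hpm hpd
      rwa [Nat.Coprime.gcd_eq_one hc] at this
    exact hp.one_lt.ne' (Nat.dvd_one.1 h1')
  have hp1 : orderOf (q : ZMod p) ∣ p - 1 :=
    orderOf_dvd_of_pow_eq_one (ZMod.pow_card_sub_one_eq_one hq0)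
  rw [hde] at hp1
  have : 1 ≡ p [MOD e] := (Nat.modEq_iff_dvd' hp.one_lt.le).2 hp1
  exact this.symm

end Cfsg.Agent.S4422
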