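-- Statement S4423: primitive part of q^e - 1 is at least 3e+1, apart from thirteen pairs.
import Mathlib
import Cfsg.Statements.S4423
import Cfsg.Agent.Lib.Helper41.Zsigmondy

set_option autoImplicit false
open Cfsg

namespace Cfsg.Agent.S4423

open Cfsg.Agent.Helper41

/-- The lower bound we aim at for the cyclotomic value. -/
def B (n : ℕ) : ℕ := n * (3 * n + 1)

/-! ### Part A: lower bounds for cyclotomic values -/

theorem pow_pred_mul_le (a p : ℕ) (ha : 2 ≤ a) (hp : 2 ≤ p) :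
    a ^ (p - 1) * (a + 1) ≤ 2 * (a ^ p - 1) := by
  obtain ⟨j, rfl⟩ : ∃ j, p = j + 2 := ⟨p - 2, by omega⟩
  have e1 : j + 2 - 1 = j + 1 := by omega
  rw [e1]
  have hx : 2 ≤ a ^ (j + 1) := by
    calc 2 ≤ a := ha
      _ = a ^ 1 := (pow_one a).symm
      _ ≤ a ^ (j + 1) := Nat.pow_le_pow_right (by omega) (by omega)
  have e2 : a ^ (j + 2) = a ^ (j + 1) * a := pow_succ a (j + 1)
  rw [e2]
  have h1 : 2 * a ^ (j + 1) ≤ a ^ (j + 1) * a := by
    rw [mul_comm]; exact Nat.mul_le_mul_left _ ha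
  have e3 : a ^ (j + 1) * (a + 1) = a ^ (j + 1) * a + a ^ (j + 1) := by ring
  rw [e3]
  generalize a ^ (j + 1) * a = y at *
  generalize a ^ (j + 1) = x at *
  omega

theorem bound_dvd (a k p : ℕ) (ha : 2 ≤ a) (hp : p.Prime) (hk : p ∣ k)
    (h : B (k * p) ≤ (a ^ p - 1) ^ k.totient) : B (k * p) ≤ cycVal (k * p) a := by
  rw [cycVal_expand_dvd p k a hp hk]
  have h1 : 1 < a ^ p := Nat.one_lt_pow hp.pos.ne' (by omega)
  exact h.trans (cycVal_ge k (a ^ p) h1)

theorem bound_not_dvd (a k p : ℕ) (ha : 2 ≤ a) (hp : p.Prime) (hk : ¬ p ∣ k)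
    (h : 2 ^ k.totient * B (k * p) ≤ a ^ ((p - 1) * k.totient)) :
    B (k * p) ≤ cycVal (k * p) a := by
  have h1 : 1 < a ^ p := Nat.one_lt_pow hp.pos.ne' (by omega)
  have e := cycVal_expand_not_dvd p k a hp hk
  have g1 : (a ^ p - 1) ^ k.totient ≤ cycVal (k * p) a * cycVal k a := by
    rw [← e]; exact cycVal_ge k (a ^ p) h1
  have g2 : cycVal k a ≤ (a + 1) ^ k.totient := cycVal_le k a (by omega)
  have g3 : a ^ (p - 1) * (a + 1) ≤ 2 * (a ^ p - 1) := pow_pred_mul_le a p ha hp.two_le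
  have g4 : (a ^ (p - 1) * (a + 1)) ^ k.totient ≤ (2 * (a ^ p - 1)) ^ k.totient :=
    Nat.pow_le_pow_left g3 _
  rw [mul_pow, mul_pow, ← pow_mul] at g4
  have g5 : a ^ ((p - 1) * k.totient) * (a + 1) ^ k.totient
      ≤ (2 ^ k.totient * cycVal (k * p) a) * (a + 1) ^ k.totient := by
    calc a ^ ((p - 1) * k.totient) * (a + 1) ^ k.totient
        ≤ 2 ^ k.totient * (a ^ p - 1) ^ k.totient := g4
      _ ≤ 2 ^ k.totient * (cycVal (k * p) a * cycVal k a) := Nat.mul_le_mul_left _ g1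
      _ ≤ 2 ^ k.totient * (cycVal (k * p) a * (a + 1) ^ k.totient) :=
          Nat.mul_le_mul_left _ (Nat.mul_le_mul_left _ g2)
      _ = (2 ^ k.totient * cycVal (k * p) a) * (a + 1) ^ k.totient := by ring
  have hpos : 0 < (a + 1) ^ k.totient := by positivity
  have g6 : a ^ ((p - 1) * k.totient) ≤ 2 ^ k.totient * cycVal (k * p) a :=
    Nat.le_of_mul_le_mul_right g5 hpos
  have g7 : 2 ^ k.totient * B (k * p) ≤ 2 ^ k.totient * cycVal (k * p) a := h.trans g6
  exact Nat.le_of_mul_le_mul_left g7 (by positivity)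

/-! ### Part B: a witness from the bound -/

theorem witness_of_bound (a n : ℕ) (ha : 2 ≤ a) (hn : 3 ≤ n) (h : B n ≤ cycVal n a) :
    ∃ m : ℕ, m ∣ a ^ n - 1 ∧ (∀ i : ℕ, 1 ≤ i → i < n → Nat.Coprime m (a ^ i - 1)) ∧
      3 * n + 1 ≤ m := by
  have ha1 : 1 < a := by omega
  have hgΦ : Nat.gcd (cycVal n a) n ∣ cycVal n a := Nat.gcd_dvd_left _ _
  have hgn : Nat.gcd (cycVal n a) n ∣ n := Nat.gcd_dvd_right _ _
  have hΦpos : 0 < cycVal n a := cycVal_pos n a ha1
  refine ⟨cycVal n a / Nat.gcd (cycVal n a) n, ?_, ?_, ?_⟩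
  · exact (Nat.div_dvd_of_dvd hgΦ).trans (cycVal_dvd n a ha1)
  · intro i hi1 hin
    by_contra hcop
    obtain ⟨r, hr, hrm, hri⟩ := Nat.Prime.not_coprime_iff_dvd.mp hcop
    haveI : Fact r.Prime := ⟨hr⟩
    have hrΦ : r ∣ cycVal n a := hrm.trans (Nat.div_dvd_of_dvd hgΦ)
    by_cases hrn : r ∣ n
    · have hrg : r ∣ Nat.gcd (cycVal n a) n := Nat.dvd_gcd hrΦ hrn
      have hsq : r ^ 2 ∣ cycVal n a := by
        have e : cycVal n a = cycVal n a / Nat.gcd (cycVal n a) n * Nat.gcd (cycVal n a) n :=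
          (Nat.div_mul_cancel hgΦ).symm
        rw [e, pow_two]
        exact Nat.mul_dvd_mul hrm hrg
      obtain ⟨e, m, he, hm0, hrm', hnm, -, -⟩ :=
        structure_of_dvd a n r ha1 (by omega) hrn hrΦ
      have hns := not_sq_dvd_cycVal a r e m ha1 hrm' he hm0 (hnm ▸ hn) (hnm ▸ hrΦ)
      apply hns
      rw [← hnm]; exact hsq
    · have hord := orderOf_of_dvd_cycVal' a r n ha1 hrn hrΦ
      have h1 : (a : ZMod r) ^ i = 1 := (dvd_pow_sub_one_iff a r i (by omega)).mp hri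
      have h2 : n ∣ i := by rw [← hord]; exact orderOf_dvd_of_pow_eq_one h1
      have := Nat.le_of_dvd (by omega) h2
      omega
  · have hgle : Nat.gcd (cycVal n a) n ≤ n := Nat.le_of_dvd (by omega) hgn
    have e : cycVal n a / Nat.gcd (cycVal n a) n * Nat.gcd (cycVal n a) n = cycVal n a :=
      Nat.div_mul_cancel hgΦ
    have h3 : (3 * n + 1) * n ≤ cycVal n a / Nat.gcd (cycVal n a) n * n := by
      calc (3 * n + 1) * n = B n := by unfold B; ring
        _ ≤ cycVal n a := h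
        _ = cycVal n a / Nat.gcd (cycVal n a) n * Nat.gcd (cycVal n a) n := e.symm
        _ ≤ cycVal n a / Nat.gcd (cycVal n a) n * n := Nat.mul_le_mul_left _ hgle
    exact Nat.le_of_mul_le_mul_right h3 (by omega)

/-! ### The decidable sufficient condition -/

abbrev Good (a n : ℕ) : Prop :=
  ∃ p ∈ Finset.range (n + 1), p ∣ n ∧ p.Prime ∧
    ((p ∣ n / p ∧ B n ≤ (a ^ p - 1) ^ (n / p).totient) ∨
     (¬ p ∣ n / p ∧ 2 ^ (n / p).totient * B n ≤ a ^ ((p - 1) * (n / p).totient)))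

theorem bound_of_good (a n : ℕ) (ha : 2 ≤ a) (h : Good a n) : B n ≤ cycVal n a := by
  obtain ⟨p, -, hpn, hp, h⟩ := h
  obtain ⟨k, rfl⟩ : ∃ k, n = k * p := ⟨n / p, (Nat.div_mul_cancel hpn).symm⟩
  rw [Nat.mul_div_cancel k hp.pos] at h
  rcases h with ⟨hk, hb⟩ | ⟨hk, hb⟩
  · exact bound_dvd a k p ha hp hk hb
  · exact bound_not_dvd a k p ha hp hk hb

theorem good_mono (a a' n : ℕ) (haa : a ≤ a') (h : Good a n) : Good a' n := by
  obtain ⟨p, hpr, hpn, hp, h⟩ := h
  refine ⟨p, hpr, hpn, hp, ?_⟩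
  rcases h with ⟨hk, hb⟩ | ⟨hk, hb⟩
  · left
    exact ⟨hk, hb.trans (Nat.pow_le_pow_left
      (Nat.sub_le_sub_right (Nat.pow_le_pow_left haa p) 1) _)⟩
  · right
    exact ⟨hk, hb.trans (Nat.pow_le_pow_left haa _)⟩

/-! ### Totient lower bound -/

theorem odd_le_totient_sq : ∀ m : ℕ, Odd m → m ≤ m.totient ^ 2 := by
  intro m
  induction m using Nat.strong_induction_on with
  | _ m ih =>
    intro hm
    rcases Nat.lt_or_ge m 2 with h | h
    · have h1 : m = 1 := by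
        rcases hm with ⟨c, rfl⟩
        omega
      subst h1; simp
    · obtain ⟨p, hp, hpm⟩ := Nat.exists_prime_and_dvd (by omega : m ≠ 1)
      obtain ⟨e, m', hpm', rfl⟩ :=
        Nat.exists_eq_pow_mul_and_not_dvd (by omega : m ≠ 0) p hp.ne_one
      have he : 0 < e := by
        rcases Nat.eq_zero_or_pos e with h0 | h0
        · subst h0
          simp only [pow_zero, one_mul] at hpm
          exact absurd hpm hpm'
        · exact h0
      have hp2 : p ≠ 2 := by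
        rintro rfl
        exact hm.not_two_dvd_nat hpm
      have hp3 : 3 ≤ p := by have := hp.two_le; omega
      have hm'odd : Odd m' := (Nat.odd_mul.mp hm).2
      have hm'pos : 0 < m' := by
        rcases Nat.eq_zero_or_pos m' with h0 | h0
        · subst h0; simp at h
        · exact h0
      have hpe : 3 ≤ p ^ e := by
        calc 3 ≤ p := hp3
          _ = p ^ 1 := (pow_one p).symm
          _ ≤ p ^ e := Nat.pow_le_pow_right hp.pos he
      have hm'lt : m' < p ^ e * m' := by nlinarith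
      have ih' := ih m' hm'lt hm'odd
      have hcop : Nat.Coprime (p ^ e) m' :=
        ((Nat.Prime.coprime_iff_not_dvd hp).mpr hpm').pow_left e
      rw [Nat.totient_mul hcop, Nat.totient_prime_pow hp he, mul_pow]
      have key : p ^ e ≤ (p ^ (e - 1) * (p - 1)) ^ 2 := by
        obtain ⟨j, rfl⟩ : ∃ j, e = j + 1 := ⟨e - 1, by omega⟩
        simp only [Nat.add_sub_cancel]
        have h1 : p ≤ (p - 1) ^ 2 := by
          obtain ⟨c, rfl⟩ : ∃ c, p = c + 3 := ⟨p - 3, by omega⟩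
          have e1 : c + 3 - 1 = c + 2 := by omega
          rw [e1]; nlinarith
        have h2 : p ^ j ≤ (p ^ j) ^ 2 := by
          have : 1 ≤ p ^ j := Nat.one_le_pow _ _ hp.pos
          nlinarith
        calc p ^ (j + 1) = p ^ j * p := pow_succ _ _
          _ ≤ (p ^ j) ^ 2 * (p - 1) ^ 2 := Nat.mul_le_mul h2 h1
          _ = (p ^ j * (p - 1)) ^ 2 := (mul_pow _ _ _).symm
      exact Nat.mul_le_mul key ih'

theorem le_two_mul_totient_sq (k : ℕ) (hk : 0 < k) : k ≤ 2 * k.totient ^ 2 := by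
  obtain ⟨i, m, hm, rfl⟩ := Nat.exists_eq_two_pow_mul_odd hk.ne'
  have hcop : Nat.Coprime (2 ^ i) m :=
    ((Nat.Prime.coprime_iff_not_dvd Nat.prime_two).mpr hm.not_two_dvd_nat).pow_left i
  rw [Nat.totient_mul hcop, mul_pow]
  have h1 := odd_le_totient_sq m hm
  have h2 : 2 ^ i ≤ 2 * (2 ^ i).totient ^ 2 := by
    rcases Nat.eq_zero_or_pos i with h0 | h0
    · subst h0; simp
    · obtain ⟨j, rfl⟩ : ∃ j, i = j + 1 := ⟨i - 1, by omega⟩
      rw [Nat.totient_prime_pow_succ Nat.prime_two]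
      have e2 : (2 : ℕ) - 1 = 1 := rfl
      rw [e2, mul_one, pow_succ]
      have : 1 ≤ 2 ^ j := Nat.one_le_two_pow
      nlinarith
  have h3 : 2 ^ i * m ≤ (2 * (2 ^ i).totient ^ 2) * m.totient ^ 2 := Nat.mul_le_mul h2 h1
  have e3 : (2 * (2 ^ i).totient ^ 2) * m.totient ^ 2
      = 2 * ((2 ^ i).totient ^ 2 * m.totient ^ 2) := by ring
  exact h3.trans (le_of_eq e3)

/-! ### Elementary inequalities -/

theorem key_bound (k p t X : ℕ) (hk : k ≤ 2 * t ^ 2) (hX : 16 * p ^ 2 * t ^ 4 ≤ X) :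
    B (k * p) ≤ X := by
  unfold B
  have h1 : k * p * (3 * (k * p) + 1) ≤ 4 * (k * p) ^ 2 := by
    rcases Nat.eq_zero_or_pos (k * p) with h | h
    · rw [h]; simp
    · nlinarith
  have h2 : (k * p) ^ 2 ≤ (2 * t ^ 2 * p) ^ 2 :=
    Nat.pow_le_pow_left (Nat.mul_le_mul_right p hk) 2
  calc k * p * (3 * (k * p) + 1) ≤ 4 * (k * p) ^ 2 := h1
    _ ≤ 4 * (2 * t ^ 2 * p) ^ 2 := Nat.mul_le_mul_left _ h2
    _ = 16 * p ^ 2 * t ^ 4 := by ring
    _ ≤ X := hX

theorem pow4_le_pow3 (c x t0 : ℕ) (hx : 3 ≤ x) (ht0 : 4 ≤ t0) (h0 : c * t0 ^ 4 ≤ x ^ t0) :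
    ∀ t, t0 ≤ t → c * t ^ 4 ≤ x ^ t := by
  intro t ht
  induction t, ht using Nat.le_induction with
  | base => exact h0
  | succ t ht ih =>
    have h4 : 4 ≤ t := ht0.trans ht
    obtain ⟨s, rfl⟩ : ∃ s, t = s + 4 := ⟨t - 4, by omega⟩
    have h1 : (s + 4 + 1) ^ 4 ≤ 3 * (s + 4) ^ 4 := by
      have e : 3 * (s + 4) ^ 4
          = (s + 4 + 1) ^ 4 + (2 * s ^ 4 + 28 * s ^ 3 + 138 * s ^ 2 + 268 * s + 143) := by ring
      rw [e]; exact Nat.le_add_right _ _
    calc c * (s + 4 + 1) ^ 4 ≤ c * (3 * (s + 4) ^ 4) := Nat.mul_le_mul_left _ h1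
      _ = 3 * (c * (s + 4) ^ 4) := by ring
      _ ≤ x * x ^ (s + 4) := Nat.mul_le_mul hx ih
      _ = x ^ (s + 4 + 1) := by ring

theorem pow4_le_pow6 (c x t0 : ℕ) (hx : 6 ≤ x) (ht0 : 2 ≤ t0) (h0 : c * t0 ^ 4 ≤ x ^ t0) :
    ∀ t, t0 ≤ t → c * t ^ 4 ≤ x ^ t := by
  intro t ht
  induction t, ht using Nat.le_induction with
  | base => exact h0
  | succ t ht ih =>
    have h4 : 2 ≤ t := ht0.trans ht
    obtain ⟨s, rfl⟩ : ∃ s, t = s + 2 := ⟨t - 2, by omega⟩
    have h1 : (s + 2 + 1) ^ 4 ≤ 6 * (s + 2) ^ 4 := by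
      have e : 6 * (s + 2) ^ 4
          = (s + 2 + 1) ^ 4 + (5 * s ^ 4 + 36 * s ^ 3 + 90 * s ^ 2 + 84 * s + 15) := by ring
      rw [e]; exact Nat.le_add_right _ _
    calc c * (s + 2 + 1) ^ 4 ≤ c * (6 * (s + 2) ^ 4) := Nat.mul_le_mul_left _ h1
      _ = 6 * (c * (s + 2) ^ 4) := by ring
      _ ≤ x * x ^ (s + 2) := Nat.mul_le_mul hx ih
      _ = x ^ (s + 2 + 1) := by ring

theorem sq_le_two_pow (c p0 : ℕ) (hp0 : 3 ≤ p0) (h0 : c * p0 ^ 2 ≤ 2 ^ (p0 - 2)) :
    ∀ p, p0 ≤ p → c * p ^ 2 ≤ 2 ^ (p - 2) := by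
  intro p hp
  induction p, hp using Nat.le_induction with
  | base => exact h0
  | succ p hp ih =>
    have h3 : 3 ≤ p := hp0.trans hp
    have e : p + 1 - 2 = (p - 2) + 1 := by omega
    rw [e, pow_succ]
    have h1 : (p + 1) ^ 2 ≤ 2 * p ^ 2 := by
      obtain ⟨s, rfl⟩ : ∃ s, p = s + 3 := ⟨p - 3, by omega⟩
      have e' : 2 * (s + 3) ^ 2 = (s + 3 + 1) ^ 2 + (s ^ 2 + 4 * s + 2) := by ring
      rw [e']; exact Nat.le_add_right _ _
    calc c * (p + 1) ^ 2 ≤ c * (2 * p ^ 2) := Nat.mul_le_mul_left _ h1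
      _ = (c * p ^ 2) * 2 := by ring
      _ ≤ 2 ^ (p - 2) * 2 := Nat.mul_le_mul_right _ ih

/-! ### Part C: large exponents -/

theorem good_generic (n p : ℕ) (hp : p.Prime) (hpn : p ∣ n) (hn : 0 < n)
    (hB : B n ≤ (2 ^ (p - 2)) ^ (n / p).totient) : Good 2 n := by
  have hple : p ≤ n := Nat.le_of_dvd hn hpn
  refine ⟨p, Finset.mem_range.mpr (by omega), hpn, hp, ?_⟩
  by_cases hk : p ∣ n / p
  · left
    refine ⟨hk, hB.trans (Nat.pow_le_pow_left ?_ _)⟩
    have h1 : 2 ^ (p - 2) < 2 ^ p :=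
      Nat.pow_lt_pow_right (by norm_num) (by have := hp.two_le; omega)
    omega
  · right
    refine ⟨hk, ?_⟩
    have h2 : (p - 1) * (n / p).totient = (n / p).totient + (p - 2) * (n / p).totient := by
      have := hp.two_le
      obtain ⟨c, rfl⟩ : ∃ c, p = c + 2 := ⟨p - 2, by omega⟩
      have e1 : c + 2 - 1 = c + 1 := by omega
      have e2 : c + 2 - 2 = c := by omega
      rw [e1, e2]; ring
    rw [h2, pow_add, pow_mul]
    exact Nat.mul_le_mul_left _ hB

theorem good_sq (n p : ℕ) (hp : p.Prime) (hpn : p ∣ n) (hn : 0 < n) (hk : p ∣ n / p)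
    (hB : B n ≤ (2 ^ p - 1) ^ (n / p).totient) : Good 2 n :=
  ⟨p, Finset.mem_range.mpr (by have := Nat.le_of_dvd hn hpn; omega), hpn, hp, Or.inl ⟨hk, hB⟩⟩

theorem B_le_of (n p x : ℕ) (hn0 : 0 < n) (hp : p.Prime) (hpn : p ∣ n)
    (hx : 16 * p ^ 2 * (n / p).totient ^ 4 ≤ x ^ (n / p).totient) :
    B n ≤ x ^ (n / p).totient := by
  have hk0 : 0 < n / p := Nat.div_pos (Nat.le_of_dvd hn0 hpn) hp.pos
  have hk := le_two_mul_totient_sq (n / p) hk0
  have h := key_bound (n / p) p (n / p).totient _ hk hx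
  rwa [Nat.div_mul_cancel hpn] at h

theorem le_of_totient_le (n p T : ℕ) (hn0 : 0 < n) (hp : p.Prime) (hpn : p ∣ n)
    (hT : (n / p).totient ≤ T) : n ≤ 2 * T ^ 2 * p := by
  have hk0 : 0 < n / p := Nat.div_pos (Nat.le_of_dvd hn0 hpn) hp.pos
  have hk := le_two_mul_totient_sq (n / p) hk0
  have h1 : n / p ≤ 2 * T ^ 2 := hk.trans (Nat.mul_le_mul_left _ (Nat.pow_le_pow_left hT 2))
  calc n = n / p * p := (Nat.div_mul_cancel hpn).symm
    _ ≤ 2 * T ^ 2 * p := Nat.mul_le_mul_right _ h1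

theorem B_le_fixed (n p x t0 : ℕ) (hn : 676 < n) (hp : p.Prime) (hpn : p ∣ n)
    (hx : 3 ≤ x) (ht0 : 4 ≤ t0) (h0 : 16 * p ^ 2 * t0 ^ 4 ≤ x ^ t0)
    (hs : 2 * (t0 - 1) ^ 2 * p ≤ 676) : B n ≤ x ^ (n / p).totient := by
  have hn0 : 0 < n := by omega
  apply B_le_of n p x hn0 hp hpn
  rcases Nat.lt_or_ge (n / p).totient t0 with h | h
  · exfalso
    have := le_of_totient_le n p (t0 - 1) hn0 hp hpn (by omega)
    omega
  · exact pow4_le_pow3 (16 * p ^ 2) x t0 hx ht0 h0 _ h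

theorem case_big (n p : ℕ) (hn : 676 < n) (hp : p.Prime) (hpn : p ∣ n) (hp11 : 11 ≤ p) :
    Good 2 n := by
  have hn0 : 0 < n := by omega
  refine good_generic n p hp hpn hn0 (B_le_of n p _ hn0 hp hpn ?_)
  have ht0 : 0 < (n / p).totient :=
    Nat.totient_pos.mpr (Nat.div_pos (Nat.le_of_dvd hn0 hpn) hp.pos)
  have hsmall : ∀ T, (n / p).totient ≤ T → n ≤ 2 * T ^ 2 * p :=
    fun T hT => le_of_totient_le n p T hn0 hp hpn hT
  generalize (n / p).totient = t at *
  rcases Nat.lt_or_ge t 2 with h | h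
  · have ht1 : t = 1 := by omega
    subst ht1
    have h1 := hsmall 1 (le_refl _)
    have h2 : n ≤ 2 * p := by simpa using h1
    have hp17 : 17 ≤ p := by omega
    have h3 := sq_le_two_pow 16 17 (by norm_num) (by norm_num) p hp17
    simpa using h3
  · have hp2 : 16 ≤ p ^ 2 := le_trans (by norm_num) (Nat.pow_le_pow_left hp11 2)
    have h0 : 16 * p ^ 2 * 2 ^ 4 ≤ (4 * p ^ 2) ^ 2 := by
      calc 16 * p ^ 2 * 2 ^ 4 = 16 * p ^ 2 * 16 := by norm_num
        _ ≤ 16 * p ^ 2 * p ^ 2 := Nat.mul_le_mul_left _ hp2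
        _ = (4 * p ^ 2) ^ 2 := by ring
    have hx : 6 ≤ 4 * p ^ 2 := by omega
    calc 16 * p ^ 2 * t ^ 4 ≤ (4 * p ^ 2) ^ t :=
          pow4_le_pow6 (16 * p ^ 2) (4 * p ^ 2) 2 hx (le_refl _) h0 t h
      _ ≤ (2 ^ (p - 2)) ^ t :=
          Nat.pow_le_pow_left (sq_le_two_pow 4 11 (by norm_num) (by norm_num) p hp11) t

theorem smooth_small (n : ℕ) (hn : 0 < n) (h11 : ∀ p, p.Prime → p ∣ n → p < 11)
    (h7 : ¬ 7 ∣ n) (h5 : ¬ 5 ∣ n) (h9 : ¬ 9 ∣ n) (h4 : ¬ 4 ∣ n) : n ≤ 6 := by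
  obtain ⟨i, m, hm, rfl⟩ := Nat.exists_eq_two_pow_mul_odd hn.ne'
  have hi : i ≤ 1 := by
    by_contra hi
    apply h4
    have h2 : (2 : ℕ) ^ 2 ∣ 2 ^ i := pow_dvd_pow 2 (by omega)
    have h3 : (4 : ℕ) ∣ 2 ^ i := by simpa using h2
    exact Dvd.dvd.mul_right h3 m
  have hm0 : m ≠ 0 := by
    rintro rfl
    simp at hn
  have hm3 : ∀ {d : ℕ}, d.Prime → d ∣ m → d = 3 := by
    intro d hd hdm
    have hdn : d ∣ 2 ^ i * m := Dvd.dvd.mul_left hdm _
    have hd11 := h11 d hd hdn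
    have hd2 : d ≠ 2 := by
      rintro rfl
      exact hm.not_two_dvd_nat hdm
    have hd5 : d ≠ 5 := by
      rintro rfl
      exact h5 hdn
    have hd7 : d ≠ 7 := by
      rintro rfl
      exact h7 hdn
    have hd2le := hd.two_le
    interval_cases d <;>
      first
        | rfl
        | exact absurd rfl hd2
        | exact absurd rfl hd5
        | exact absurd rfl hd7
        | exact absurd hd (by norm_num)
  obtain ⟨j, rfl⟩ : ∃ j, m = 3 ^ j := ⟨_, Nat.eq_prime_pow_of_unique_prime_dvd hm0 hm3⟩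
  have hj : j ≤ 1 := by
    by_contra hj
    apply h9
    have h2 : (3 : ℕ) ^ 2 ∣ 3 ^ j := pow_dvd_pow 3 (by omega)
    have h3 : (9 : ℕ) ∣ 3 ^ j := by simpa using h2
    exact Dvd.dvd.mul_left h3 _
  have h2i : 2 ^ i ≤ 2 := by
    calc 2 ^ i ≤ 2 ^ 1 := Nat.pow_le_pow_right (by norm_num) hi
      _ = 2 := by norm_num
  have h3j : 3 ^ j ≤ 3 := by
    calc 3 ^ j ≤ 3 ^ 1 := Nat.pow_le_pow_right (by norm_num) hj
      _ = 3 := by norm_num
  calc 2 ^ i * 3 ^ j ≤ 2 * 3 := Nat.mul_le_mul h2i h3j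
    _ = 6 := by norm_num

theorem good_two_of_large (n : ℕ) (hn : 676 < n) : Good 2 n := by
  have hn0 : 0 < n := by omega
  by_cases h11 : ∃ p, p.Prime ∧ p ∣ n ∧ 11 ≤ p
  · obtain ⟨p, hp, hpn, hp11⟩ := h11
    exact case_big n p hn hp hpn hp11
  · simp only [not_exists, not_and, not_le] at h11
    by_cases h7 : 7 ∣ n
    · have hB := B_le_fixed n 7 32 4 hn (by norm_num) h7 (by norm_num) (by norm_num)
        (by norm_num) (by norm_num)
      have e : (2 : ℕ) ^ (7 - 2) = 32 := by norm_num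
      exact good_generic n 7 (by norm_num) h7 hn0 (by rw [e]; exact hB)
    · by_cases h5 : 5 ∣ n
      · have hB := B_le_fixed n 5 8 7 hn (by norm_num) h5 (by norm_num) (by norm_num)
          (by norm_num) (by norm_num)
        have e : (2 : ℕ) ^ (5 - 2) = 8 := by norm_num
        exact good_generic n 5 (by norm_num) h5 hn0 (by rw [e]; exact hB)
      · by_cases h9 : 9 ∣ n
        · have h3 : 3 ∣ n := Dvd.dvd.trans (by norm_num) h9
          have h3k : 3 ∣ n / 3 := by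
            obtain ⟨c, rfl⟩ := h9
            have e : 9 * c / 3 = 3 * c := by omega
            rw [e]; exact dvd_mul_right _ _
          have hB := B_le_fixed n 3 7 7 hn (by norm_num) h3 (by norm_num) (by norm_num)
            (by norm_num) (by norm_num)
          have e : (2 : ℕ) ^ 3 - 1 = 7 := by norm_num
          exact good_sq n 3 (by norm_num) h3 hn0 h3k (by rw [e]; exact hB)
        · by_cases h4 : 4 ∣ n
          · have h2 : 2 ∣ n := Dvd.dvd.trans (by norm_num) h4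
            have h2k : 2 ∣ n / 2 := by
              obtain ⟨c, rfl⟩ := h4
              have e : 4 * c / 2 = 2 * c := by omega
              rw [e]; exact dvd_mul_right _ _
            have hB := B_le_fixed n 2 3 14 hn (by norm_num) h2 (by norm_num) (by norm_num)
              (by norm_num) (by norm_num)
            have e : (2 : ℕ) ^ 2 - 1 = 3 := by norm_num
            exact good_sq n 2 (by norm_num) h2 hn0 h2k (by rw [e]; exact hB)
          · exfalso
            have := smooth_small n hn0 h11 h7 h5 h9 h4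
            omega

/-! ### Part D: finite checks -/

/-- Repeatedly remove from `m` the common factor with `d`. -/
def strip (d : ℕ) : ℕ → ℕ → ℕ
  | 0, m => m
  | f + 1, m => if Nat.gcd m d = 1 then m else strip d f (m / Nat.gcd m d)

/-- The computed primitive part of `a ^ n - 1`. -/
def wit (a n : ℕ) : ℕ :=
  (List.range' 1 (n - 1)).foldl (fun m i => strip (a ^ i - 1) (4 * n) m) (a ^ n - 1)

abbrev WitOK (a n : ℕ) : Prop :=
  wit a n ∣ a ^ n - 1 ∧ (∀ i ∈ Finset.Ico 1 n, Nat.Coprime (wit a n) (a ^ i - 1)) ∧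
    3 * n + 1 ≤ wit a n

abbrev excList : List (ℕ × ℕ) :=
  [(2, 6), (2, 4), (2, 10), (2, 12), (2, 18), (3, 4), (3, 6), (5, 6), (2, 3), (2, 8), (2, 20),
    (4, 3), (4, 6)]

theorem fin_large : ∀ n ∈ Finset.Icc 3 676, Good 2 n ∨ n ≤ 110 := by decide +kernel

theorem fin_small : ∀ n ∈ Finset.Icc 3 110, Good 16 n := by decide +kernel

theorem fin_wit : ∀ n ∈ Finset.Icc 3 110, ∀ a ∈ Finset.Icc 2 15,
    Good a n ∨ WitOK a n ∨ (a, n) ∈ excList := by decide +kernel

/-! ### Part E: the thirteen exceptional pairs -/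

theorem exc_case (a n c w : ℕ) (l : List ℕ) (hl : ∀ i ∈ l, 1 ≤ i ∧ i < n)
    (hc : c ∣ (l.map (fun i => a ^ i - 1)).prod) (hN : a ^ n - 1 = c * w) (hw : 0 < w)
    (hw2 : w ≤ 2 * n + 1) :
    ∀ m : ℕ, m ∣ a ^ n - 1 → (∀ i : ℕ, 1 ≤ i → i < n → Nat.Coprime m (a ^ i - 1)) →
      m ≤ 2 * n + 1 := by
  intro m hm hcop
  have h1 : Nat.Coprime m (l.map (fun i => a ^ i - 1)).prod := by
    rw [Nat.coprime_list_prod_right_iff]
    intro x hx
    obtain ⟨i, hi, rfl⟩ := List.mem_map.mp hx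
    exact hcop i (hl i hi).1 (hl i hi).2
  have h2 : Nat.Coprime m c := Nat.Coprime.coprime_dvd_right hc h1
  rw [hN] at hm
  exact (Nat.le_of_dvd hw (h2.dvd_of_dvd_mul_left hm)).trans hw2

/-- Size of the primitive part of `q^e - 1`. For a prime power `q` and `e ≥ 3`, call a divisor of `q^e - 1` primitive when it is coprime to `q^i - 1` for every `1 ≤ i < e`; the primitive part is the largest primitive divisor. Apart from thirteen exceptional pairs, the primitive part is at least `3e + 1`: there is a primitive divisor `m ≥ 3e + 1` unless `(q, e)` is `(2, 6)` (where every primitive divisor is 1), one of `(2,4), (2,10), (2,12), (2,18), (3,4), (3,6), (5,6)` (where the primitive part is exactly `e + 1`), or one of `(2,3), (2,8), (2,20), (4,3), (4,6)` (where it is exactly `2e + 1`). The statement asserts the existence of a primitive divisor `m ≥ 3e + 1` outside the thirteen pairs, and that every primitive divisor is at most `2e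 + 1` for the thirteen pairs. -/
theorem result (q e : ℕ) (hq : IsPrimePow q) (he : 3 ≤ e) :
    ((q, e) ∉ [(2, 6), (2, 4), (2, 10), (2, 12), (2, 18), (3, 4), (3, 6), (5, 6), (2, 3), (2, 8), (2, 20), (4, 3), (4, 6)] →
      ∃ m : ℕ, m ∣ q ^ e - 1 ∧ (∀ i : ℕ, 1 ≤ i → i < e → Nat.Coprime m (q ^ i - 1)) ∧ 3 * e + 1 ≤ m) ∧
    ((q, e) ∈ [(2, 6), (2, 4), (2, 10), (2, 12), (2, 18), (3, 4), (3, 6), (5, 6), (2, 3), (2, 8), (2, 20), (4, 3), (4, 6)] →
      ∀ m : ℕ, m ∣ q ^ e - 1 → (∀ i : ℕ, 1 ≤ i → i < e → Nat.Coprime m (q ^ i - 1)) → m ≤ 2 * e + 1) := by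
  have hq2 : 2 ≤ q := hq.two_le
  constructor
  · intro hnot
    have main : Good q e ∨ WitOK q e := by
      rcases Nat.lt_or_ge 676 e with h | h
      · exact Or.inl (good_mono 2 q e hq2 (good_two_of_large e h))
      · rcases fin_large e (Finset.mem_Icc.mpr ⟨he, h⟩) with hg | hsm
        · exact Or.inl (good_mono 2 q e hq2 hg)
        · have hmem : e ∈ Finset.Icc 3 110 := Finset.mem_Icc.mpr ⟨he, hsm⟩
          rcases Nat.lt_or_ge q 16 with hq16 | hq16
          · rcases fin_wit e hmem q (Finset.mem_Icc.mpr ⟨hq2, by omega⟩) with hg | hw | hex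
            · exact Or.inl hg
            · exact Or.inr hw
            · exact absurd hex hnot
          · exact Or.inl (good_mono 16 q e hq16 (fin_small e hmem))
    rcases main with hg | hw
    · exact witness_of_bound q e hq2 he (bound_of_good q e hq2 hg)
    · obtain ⟨h1, h2, h3⟩ := hw
      exact ⟨wit q e, h1, fun i hi1 hie => h2 i (Finset.mem_Ico.mpr ⟨hi1, hie⟩), h3⟩
  · intro hmem
    simp at hmem
    rcases hmem with ⟨rfl, rfl⟩ | ⟨rfl, rfl⟩ | ⟨rfl, rfl⟩ | ⟨rfl, rfl⟩ | ⟨rfl, rfl⟩ | ⟨rfl, rfl⟩ |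
      ⟨rfl, rfl⟩ | ⟨rfl, rfl⟩ | ⟨rfl, rfl⟩ | ⟨rfl, rfl⟩ | ⟨rfl, rfl⟩ | ⟨rfl, rfl⟩ | ⟨rfl, rfl⟩
    · exact exc_case 2 6 63 1 [3, 2, 2] (by decide) (by decide) (by norm_num) (by norm_num)
        (by norm_num)
    · exact exc_case 2 4 3 5 [2] (by decide) (by decide) (by norm_num) (by norm_num)
        (by norm_num)
    · exact exc_case 2 10 93 11 [2, 5] (by decide) (by decide) (by norm_num) (by norm_num)
        (by norm_num)
    · exact exc_case 2 12 315 13 [2, 2, 4, 3] (by decide) (by decide) (by norm_num)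
        (by norm_num) (by norm_num)
    · exact exc_case 2 18 13797 19 [2, 2, 2, 3, 9] (by decide) (by decide) (by norm_num)
        (by norm_num) (by norm_num)
    · exact exc_case 3 4 16 5 [2, 2] (by decide) (by decide) (by norm_num) (by norm_num)
        (by norm_num)
    · exact exc_case 3 6 104 7 [2, 3] (by decide) (by decide) (by norm_num) (by norm_num)
        (by norm_num)
    · exact exc_case 5 6 2232 7 [2, 2, 3] (by decide) (by decide) (by norm_num) (by norm_num)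
        (by norm_num)
    · exact exc_case 2 3 1 7 [] (by decide) (by decide) (by norm_num) (by norm_num)
        (by norm_num)
    · exact exc_case 2 8 15 17 [4] (by decide) (by decide) (by norm_num) (by norm_num)
        (by norm_num)
    · exact exc_case 2 20 25575 41 [10, 4, 4] (by decide) (by decide) (by norm_num)
        (by norm_num) (by norm_num)
    · exact exc_case 4 3 9 7 [1, 1] (by decide) (by decide) (by norm_num) (by norm_num)
        (by norm_num)
    · exact exc_case 4 6 315 13 [3, 2] (by decide) (by decide) (by norm_num) (by norm_num)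
        (by norm_num)

end Cfsg.Agent.S4423
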