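import Mathlib
import Cfsg.Statements.S4424
import Cfsg.Agent.S0961
import Cfsg.Agent.Lib.Helper16.PRegPart

set_option autoImplicit false
set_option linter.style.haveILetI false
open Cfsg

namespace Cfsg.Agent.S4424

open scoped ComplexConjugate
open Cfsg.Agent.Helper77 Cfsg.Agent.Helper78 Cfsg.Agent.Helper16

theorem result {G : Type*} [Group G] [Finite G] (p : ℕ) [Fact p.Prime] (M : Ideal Cfsg.AlgInt) (hM : Cfsg.IsPModular p M) (B : Set (Cfsg.IrrCharacter G)) (hB : Cfsg.IsPBlock M B) (χ : Cfsg.IrrCharacter G) (hχ : χ ∈ B) : ∃ a : Cfsg.IrrCharacter G → ℤ, (∀ ψ, ψ ∉ B → a ψ = 0) ∧ (fun x : G => if p ∣ orderOf x then (0 : ℂ) else ((p ^ (Nat.card G).factorization p : ℕ) : ℂ) * (χ : G → ℂ) x) = fun x => ∑ᶠ ψ : Cfsg.IrrCharacter G, (a ψ : ℂ) * (ψ : G → ℂ) x := by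
  classical
  haveI : Fintype G := Fintype.ofFinite G
  have hpr := isPrime_of_isPModular hM
  have hgen := Cfsg.Agent.S0961.result p χ
  obtain ⟨c, hsum, hinner⟩ := genChar_decomp hgen
  refine ⟨c, ?_, ?_⟩
  · intro ψ hψ
    have h1 : ¬ SameBlock M (χ : G → ℂ) (ψ : G → ℂ) := by
      intro hs
      exact hψ (mem_of_sameBlock hB hχ hs)
    have h2 := classInner_pRegScaled_eq_zero hM
      ((p ^ (Nat.card G).factorization p : ℕ) : ℂ) χ ψ h1
    have h3 := hinner ψ
    have h4 : pRegScaled p ((p ^ (Nat.card G).factorization p : ℕ) : ℂ) (χ : G → ℂ) =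
        (fun x : G => if p ∣ orderOf x then (0 : ℂ) else
          ((p ^ (Nat.card G).factorization p : ℕ) : ℂ) * (χ : G → ℂ) x) := rfl
    rw [← h4, h2] at h3
    exact_mod_cast h3.symm
  · rw [hsum]
    funext x
    rw [finsum_eq_sum_of_fintype, Finset.sum_apply]
    refine Finset.sum_congr rfl fun ψ _ => ?_
    simp
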