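import Mathlib
import Cfsg.Statements.S4425
import Cfsg.Agent.Lib.Helper16.PRegDiv

set_option autoImplicit false
set_option linter.style.haveILetI false
open Cfsg

namespace Cfsg.Agent.S4425

open scoped ComplexConjugate
open Cfsg.Agent.Helper77 Cfsg.Agent.Helper78 Cfsg.Agent.Helper16

theorem not_genChar {G : Type*} [Group G] [Fintype G] (p : ℕ) [Fact p.Prime]
    (χ : IrrCharacter G) :
    ¬ IsGeneralizedCharacter G (fun x : G => if p ∣ orderOf x then (0 : ℂ) else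
      ((p ^ (Nat.card G).factorization p : ℕ) : ℂ) /
        ((p ^ ((charDegree (χ : G → ℂ)).factorization p + 1) : ℕ) : ℂ) * (χ : G → ℂ) x) := by
  classical
  have hp : p.Prime := Fact.out
  rintro ⟨ψ₁, ψ₂, h₁, h₂, heq⟩
  obtain ⟨hd1, hdpos⟩ := irr_charDegree χ.2
  set a := (Nat.card G).factorization p with ha
  set d := charDegree (χ : G → ℂ) with hd
  set ν := d.factorization p with hν
  obtain P : Sylow p G := default
  obtain ⟨m₁, hm₁⟩ := IsCharacter.sum_subgroup h₁ (P : Subgroup G)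
  obtain ⟨m₂, hm₂⟩ := IsCharacter.sum_subgroup h₂ (P : Subgroup G)
  have hcardP : Nat.card (P : Subgroup G) = p ^ a := Sylow.card_eq_multiplicity P
  have hsing : ∀ w : (P : Subgroup G), w ≠ 1 → p ∣ orderOf (w : G) := by
    intro w hw
    obtain ⟨k, hk⟩ := (IsPGroup.iff_orderOf.1 P.2) w
    rw [Subgroup.orderOf_coe, hk]
    have hk0 : k ≠ 0 := by
      intro h0
      rw [h0, pow_zero, orderOf_eq_one_iff] at hk
      exact hw hk
    exact dvd_pow_self p hk0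
  have hsum : ∑ w : (P : Subgroup G), (ψ₁ - ψ₂) (w : G) =
      ((p ^ a : ℕ) : ℂ) / ((p ^ (ν + 1) : ℕ) : ℂ) * (d : ℂ) := by
    rw [← heq, Finset.sum_eq_single (1 : (P : Subgroup G))]
    · simp only [Subgroup.coe_one, orderOf_one, Nat.dvd_one]
      rw [if_neg hp.one_lt.ne', hd1]
    · intro w _ hw
      exact if_pos (hsing w hw)
    · intro h
      exact absurd (Finset.mem_univ _) h
  have hsum2 : ∑ w : (P : Subgroup G), (ψ₁ - ψ₂) (w : G) =
      ((p ^ a : ℕ) : ℂ) * ((m₁ : ℂ) - (m₂ : ℂ)) := by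
    simp only [Pi.sub_apply, Finset.sum_sub_distrib]
    rw [hm₁, hm₂, hcardP]
    ring
  have hpa : ((p ^ a : ℕ) : ℂ) ≠ 0 := by
    have : (p ^ a : ℕ) ≠ 0 := pow_ne_zero a hp.ne_zero
    exact_mod_cast this
  have hpν : ((p ^ (ν + 1) : ℕ) : ℂ) ≠ 0 := by
    have : (p ^ (ν + 1) : ℕ) ≠ 0 := pow_ne_zero _ hp.ne_zero
    exact_mod_cast this
  have h3 : (d : ℂ) = ((p ^ (ν + 1) : ℕ) : ℂ) * ((m₁ : ℂ) - (m₂ : ℂ)) := by
    have h4 := hsum.symm.trans hsum2
    rw [div_mul_eq_mul_div, div_eq_iff hpν] at h4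
    have h5 : ((p ^ a : ℕ) : ℂ) * (d : ℂ) =
        ((p ^ a : ℕ) : ℂ) * (((p ^ (ν + 1) : ℕ) : ℂ) * ((m₁ : ℂ) - (m₂ : ℂ))) := by
      rw [h4]; ring
    exact mul_left_cancel₀ hpa h5
  have h6 : (d : ℤ) = ((p ^ (ν + 1) : ℕ) : ℤ) * ((m₁ : ℤ) - (m₂ : ℤ)) := by
    exact_mod_cast h3
  have h7 : ((p ^ (ν + 1) : ℕ) : ℤ) ∣ (d : ℤ) := ⟨_, h6⟩
  have h8 : p ^ (ν + 1) ∣ d := by exact_mod_cast h7
  exact Nat.pow_succ_factorization_not_dvd hdpos.ne' hp h8

theorem result {G : Type*} [Group G] [Finite G] (p : ℕ) [Fact p.Prime] (χ : Cfsg.IrrCharacter G) : Cfsg.IsGeneralizedCharacter G (fun x : G => if p ∣ orderOf x then (0 : ℂ) else ((p ^ ((Nat.card G).factorization p - (Cfsg.charDegree (χ : G → ℂ)).factorization p) : ℕ) : ℂ) * (χ : G → ℂ) x) ∧ ¬ Cfsg.IsGeneralizedCharacter G (fun x : G => if p ∣ orderOf x then (0 : ℂ) else ((p ^ (Nat.card G).factorization p : ℕ) : ℂ) / ((p ^ ((Cfsg.charDegree (χ : G → ℂ)).factorization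 p + 1) : ℕ) : ℂ) * (χ : G → ℂ) x) := by
  classical
  haveI : Fintype G := Fintype.ofFinite G
  exact ⟨isGeneralizedCharacter_pRegScaled p χ, not_genChar p χ⟩

end Cfsg.Agent.S4425
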