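import Cfsg.Statements.S4426
import Cfsg.Agent.Lib.Helper74.BrauerFeit5

set_option autoImplicit false
open Cfsg

namespace Cfsg.Agent.S4426

open Cfsg.Agent.Helper77 Cfsg.Agent.Helper74.DO Cfsg.Agent.Helper74.BF in
/-- Let χ be an irreducible character in the p-block B of the finite group G (relative to a maximal ideal M of the algebraic integers containing p), let p^a be the p-part of the order of G, and let χ̃ be the class function equal to p^a · χ on p-regular elements and zero elsewhere. For ξ ∈ B the inner product [χ̃, ξ] is an integer. The following are equivalent: (a) χ has height zero in B; (b) for some ξ ∈ B the integer [χ̃, ξ] is nonzero and the exact power of p dividing it equals the exact power of p dividing ξ(1); (c) the same holds for every ξ ∈ B. -/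
theorem result {G : Type*} [Group G] [Fintype G] (p : ℕ) [Fact p.Prime] (M : Ideal Cfsg.AlgInt) (hM : Cfsg.IsPModular p M) (B : Set (Cfsg.IrrCharacter G)) (hB : Cfsg.IsPBlock M B) (χ : Cfsg.IrrCharacter G) (hχ : χ ∈ B) : (Cfsg.blockHeight p B (χ : G → ℂ) = 0 ↔ ∃ ξ ∈ B, ∃ n : ℤ, Cfsg.classInner (fun x : G => if p ∣ orderOf x then (0 : ℂ) else ((p ^ (Nat.card G).factorization p : ℕ) : ℂ) * (χ : G → ℂ) x) (ξ : G → ℂ) = (n : ℂ) ∧ n ≠ 0 ∧ padicValInt p n = (Cfsg.charDegree (ξ : G → ℂ)).factorization p) ∧ (Cfsg.blockHeight p B (χ : G → ℂ) = 0 ↔ ∀ ξ ∈ B, ∃ n : ℤ, Cfsg.classInner (fun x : G => if p ∣ orderOf x then (0 : ℂ) else ((p ^ (Nat.card G).factorization p : ℕ) : ℂ) * (χ : G → ℂ) x) (ξ : G → ℂ) = (n : ℂ) ∧ n ≠ 0 ∧ padicValInt p n = (Cfsg.charDegree (ξ : G → ℂ)).factorization p) := by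
  classical
  haveI hp := isPrime_of_isPModular hM
  have hpp : p.Prime := Fact.out
  obtain ⟨n, hn⟩ := exists_contrib hM hB
  have hht : blockHeight p B (χ : G → ℂ) = 0 ↔
      (charDegree (χ : G → ℂ)).factorization p = minVal p B := by
    have hdef : blockHeight p B (χ : G → ℂ) =
        (charDegree (χ : G → ℂ)).factorization p - minVal p B := rfl
    rw [hdef]
    have := minVal_le (p := p) hχ
    omega
  have hpm : ∀ m : ℕ, ((p : ℤ) ^ m) ≠ 0 := fun m => pow_ne_zero _ (by exact_mod_cast hpp.ne_zero)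
  -- forward: height zero gives the property for all ξ
  have hfwd : blockHeight p B (χ : G → ℂ) = 0 → ∀ ξ ∈ B, ∃ k : ℤ,
      classInner (fun x : G => if p ∣ orderOf x then (0 : ℂ) else
        ((p ^ (Nat.card G).factorization p : ℕ) : ℂ) * (χ : G → ℂ) x) (ξ : G → ℂ) = (k : ℂ) ∧
      k ≠ 0 ∧ padicValInt p k = (charDegree (ξ : G → ℂ)).factorization p := by
    intro h ξ hξ
    have h0 := hht.1 h
    obtain ⟨hne, hval⟩ := hn.val_eq hM hB hχ h0 hξ
    refine ⟨(p : ℤ) ^ minVal p B * n χ ξ, hn.classInner_eq hχ ξ, mul_ne_zero (hpm _) hne, ?_⟩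
    rw [padicValInt_pow_mul hne]
    omega
  -- backward: the property for one ξ gives height zero
  have hbwd : (∃ ξ ∈ B, ∃ k : ℤ,
      classInner (fun x : G => if p ∣ orderOf x then (0 : ℂ) else
        ((p ^ (Nat.card G).factorization p : ℕ) : ℂ) * (χ : G → ℂ) x) (ξ : G → ℂ) = (k : ℂ) ∧
      k ≠ 0 ∧ padicValInt p k = (charDegree (ξ : G → ℂ)).factorization p) →
      blockHeight p B (χ : G → ℂ) = 0 := by
    rintro ⟨ξ, hξ, k, hk1, hk2, hk3⟩
    rw [hn.classInner_eq hχ ξ] at hk1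
    have hk : k = (p : ℤ) ^ minVal p B * n χ ξ := by exact_mod_cast hk1.symm
    have hne : n χ ξ ≠ 0 := by
      intro h
      apply hk2
      rw [hk, h, mul_zero]
    rw [hk, padicValInt_pow_mul hne] at hk3
    rw [hht]
    exact hn.height_zero_of_val hM hB hχ hξ hne (by omega)
  refine ⟨⟨fun h => ⟨χ, hχ, hfwd h χ hχ⟩, hbwd⟩, ⟨hfwd, fun h => hbwd ⟨χ, hχ, h χ hχ⟩⟩⟩

end Cfsg.Agent.S4426
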