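import Cfsg.Statements.S4428
import Cfsg.Agent.Lib.Helper16.RegNorm
import Cfsg.Agent.Lib.Helper16.SecondMain2
import Cfsg.Agent.Lib.Helper77.Radical

set_option autoImplicit false
set_option linter.style.haveILetI false
open Cfsg

namespace Cfsg.Agent.S4428

open scoped ComplexConjugate
open Cfsg.Agent.Helper16 Cfsg.Agent.Helper77 Cfsg.Agent.Helper78

open scoped Classical in
/-- Pairing the `b`-part of a class function with a member of `b` over the `p`-regular
elements is the same as pairing the class function itself. -/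
theorem sum_blockPart_conj_eq_regSum {C : Type*} [Group C] [Fintype C] {p : ℕ} [Fact p.Prime]
    {M : Ideal AlgInt} (hM : IsPModular p M) {b : Set (IrrCharacter C)} (hb : IsPBlock M b)
    {ψ₀ : IrrCharacter C} (hψ₀ : ψ₀ ∈ b) {ϑ : C → ℂ} (hϑ : IsClassFunction C ϑ) :
    ∑ y ∈ Finset.univ.filter (fun y : C => ¬ p ∣ orderOf y),
        blockPart b ϑ y * conj ((ψ₀ : C → ℂ) y) = regSum p ϑ (ψ₀ : C → ℂ) := by
  haveI hpr := isPrime_of_isPModular hM
  have hexp := Cfsg.Agent.Helper3.classFunction_eq_sum ϑ hϑ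
  have h1 : regSum p ϑ (ψ₀ : C → ℂ) = ∑ ψ : IrrCharacter C,
      classInner ϑ (ψ : C → ℂ) * regSum p (ψ : C → ℂ) (ψ₀ : C → ℂ) := by
    conv_lhs => rw [hexp]
    unfold regSum
    simp_rw [Finset.sum_apply, Pi.smul_apply, smul_eq_mul, Finset.sum_mul, Finset.mul_sum]
    rw [Finset.sum_comm]
    refine Finset.sum_congr rfl fun ξ _ => ?_
    refine Finset.sum_congr rfl fun x _ => ?_
    ring
  rw [h1]
  simp_rw [blockPart_eq_finset b ϑ, Finset.sum_mul]
  rw [Finset.sum_comm]
  rw [← Finset.sum_subset (Finset.subset_univ (Set.toFinite b).toFinset)]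
  · refine Finset.sum_congr rfl fun ψ _ => ?_
    unfold regSum
    rw [Finset.mul_sum]
    refine Finset.sum_congr rfl fun x _ => ?_
    ring
  · intro ψ _ hψ
    rw [Set.Finite.mem_toFinset] at hψ
    have hns : ¬ SameBlock M (ψ : C → ℂ) (ψ₀ : C → ℂ) := fun h =>
      hψ (Cfsg.Agent.Helper77.mem_of_sameBlock hb hψ₀ (Cfsg.Agent.Helper16.sameBlock_symm hM h))
    have h0' : regSum p (ψ : C → ℂ) (ψ₀ : C → ℂ) = 0 :=
      sum_regular_eq_zero_of_not_sameBlock hM ψ ψ₀ hns
    rw [h0', mul_zero]

/-- The general form, for a subgroup `C` centralizing the `p`-element `x`. -/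
theorem aux {G : Type*} [Group G] [Fintype G] (p : ℕ) [Fact p.Prime] (M : Ideal Cfsg.AlgInt)
    (hM : Cfsg.IsPModular p M) (B : Set (Cfsg.IrrCharacter G))
    (χ : Cfsg.IrrCharacter G) (hχ : χ ∈ B) (h0 : Cfsg.blockHeight p B (χ : G → ℂ) = 0) (x : G)
    (k : ℕ) (hk : orderOf x = p ^ k) (C : Subgroup G) [Fintype C]
    (hcomm : ∀ c : C, x * (c : G) = (c : G) * x)
    (b : Set (Cfsg.IrrCharacter C)) (hb : Cfsg.IsInducedBlock M C b B) :
    ∃ y : C, ¬ p ∣ orderOf y ∧
      Cfsg.blockPart b (fun c : C => (χ : G → ℂ) (x * (c : G))) y ≠ 0 := by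
  classical
  haveI hpr := isPrime_of_isPModular hM
  have hχcl := isClassFunction_of_isIrrCharacter χ.2
  have hht : (charDegree (χ : G → ℂ)).factorization p = Cfsg.Agent.Helper74.DO.minVal p B := by
    have h1 := Cfsg.Agent.Helper74.DO.minVal_le (p := p) hχ
    unfold blockHeight at h0
    unfold Cfsg.Agent.Helper74.DO.minVal at h1 ⊢
    omega
  obtain ⟨ψ₀, hψ₀⟩ := nonempty_of_isPBlock hb.1
  set ϑ : C → ℂ := fun c : C => (χ : G → ℂ) (x * (c : G)) with hϑdef
  have hϑ : IsClassFunction C ϑ := by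
    intro c k'
    show (χ : G → ℂ) (x * ((k' * c * k'⁻¹ : C) : G)) = (χ : G → ℂ) (x * (c : G))
    have hkx := hcomm k'
    have : x * ((k' * c * k'⁻¹ : C) : G) = (k' : G) * (x * (c : G)) * (k' : G)⁻¹ := by
      push_cast
      calc x * ((k' : G) * (c : G) * (k' : G)⁻¹) = (x * (k' : G)) * (c : G) * (k' : G)⁻¹ := by
            group
        _ = ((k' : G) * x) * (c : G) * (k' : G)⁻¹ := by rw [hkx]
        _ = (k' : G) * (x * (c : G)) * (k' : G)⁻¹ := by group
    rw [this, hχcl]
  -- Lemma B
  have hLB := not_memLocalIdeal_regSum_of_induced hM C hb hχ hht hψ₀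
  rw [regSum_div_eq_omega] at hLB
  -- the twisted weight
  set W' : C → ℂ := fun y => if p ∣ orderOf y then 0 else ϑ y⁻¹ with hW'
  set W'' : C → ℂ := fun y => if p ∣ orderOf y then 0 else conj ((χ : G → ℂ) (y : G)) with hW''
  have hordconj : ∀ c g : C, orderOf (g * c * g⁻¹) = orderOf c := by
    intro c g
    have : g * c * g⁻¹ = MulAut.conj g c := by simp [MulAut.conj_apply]
    rw [this]
    exact orderOf_injective (MulAut.conj g).toMonoidHom (MulAut.conj g).injective c
  have hdiffcl : IsClassFunction C (W' - W'') := by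
    intro c g
    simp only [Pi.sub_apply, hW', hW'', hordconj]
    have h1 : ϑ (g * c * g⁻¹)⁻¹ = ϑ c⁻¹ := by
      have : (g * c * g⁻¹)⁻¹ = g * c⁻¹ * g⁻¹ := by group
      rw [this, hϑ]
    have h2 : (χ : G → ℂ) ((g * c * g⁻¹ : C) : G) = (χ : G → ℂ) (c : G) := by
      push_cast
      exact hχcl _ _
    rw [h1, h2]
  have hdiffM : ∀ y : C, MemLocalIdeal M ((W' - W'') y) := by
    intro y
    simp only [Pi.sub_apply, hW', hW'']
    by_cases hy : p ∣ orderOf y
    · simp only [hy, if_true, sub_zero]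
      exact memLocalIdeal_zero hpr.ne_top
    · simp only [hy, if_false]
      rw [← Cfsg.Agent.Helper79.irr_inv]
      have hc : Commute x ((y : G))⁻¹ := by
        have := hcomm y⁻¹
        rw [Subgroup.coe_inv] at this
        exact this
      have := memLocalIdeal_irr_mul_sub hM χ x ((y : G))⁻¹ hc k hk
      simpa [hϑdef] using this
  have hom := memLocalIdeal_omega_of_eqMod_zero (M := M) ψ₀.2 hdiffcl hdiffM
  rw [omega_sub] at hom
  have hW'ne : ¬ MemLocalIdeal M (omega (ψ₀ : C → ℂ) W') := by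
    intro hcon
    apply hLB
    have := memLocalIdeal_sub hcon hom
    rwa [sub_sub_cancel] at this
  -- relate to the block part
  have hreg : regSum p ϑ (ψ₀ : C → ℂ) / (ψ₀ : C → ℂ) 1 = omega (ψ₀ : C → ℂ) W' := by
    unfold regSum omega
    congr 1
    rw [Finset.sum_filter]
    refine Fintype.sum_equiv (Equiv.inv C) _ _ ?_
    intro y
    simp only [Equiv.inv_apply, hW', orderOf_inv, inv_inv]
    by_cases hy : p ∣ orderOf y
    · simp [hy]
    · simp only [hy, not_false_eq_true, if_true, if_false]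
      rw [Cfsg.Agent.Helper79.irr_inv]
  by_contra hno
  push Not at hno
  apply hW'ne
  rw [← hreg, ← sum_blockPart_conj_eq_regSum hM hb.1 hψ₀ hϑ]
  rw [Finset.sum_eq_zero, zero_div]
  · exact memLocalIdeal_zero hpr.ne_top
  · intro y hy
    simp only [Finset.mem_filter, Finset.mem_univ, true_and] at hy
    rw [hno y hy, zero_mul]


/-- Let χ be an irreducible character of height zero in the p-block B of the finite group G (relative to a maximal ideal M of the algebraic integers containing p). Let x be a p-element of G with centralizer C, and let b be a block of C that induces B. Form the class function ϑ(c) = χ(x c) on C and its b-part (the sum over ψ ∈ b of the inner product of ϑ with ψ, times ψ). Then the b-part of ϑ does not vanish identically on the p-regular elements of C. (Compare the second main Theorem, which gives vanishing when b does not induce B.) -/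
theorem result {G : Type*} [Group G] [Finite G] (p : ℕ) [Fact p.Prime] (M : Ideal Cfsg.AlgInt) (hM : Cfsg.IsPModular p M) (B : Set (Cfsg.IrrCharacter G)) (hB : Cfsg.IsPBlock M B) (χ : Cfsg.IrrCharacter G) (hχ : χ ∈ B) (h0 : Cfsg.blockHeight p B (χ : G → ℂ) = 0) (x : G) (hx : ∃ k : ℕ, orderOf x = p ^ k) (b : Set (Cfsg.IrrCharacter (Subgroup.centralizer ({x} : Set G)))) (hb : Cfsg.IsInducedBlock M (Subgroup.centralizer ({x} : Set G)) b B) : ∃ y : Subgroup.centralizer ({x} : Set G), ¬ p ∣ orderOf y ∧ Cfsg.blockPart b (fun c : Subgroup.centralizer ({x} : Set G) => (χ : G → ℂ) (x * (c : G))) y ≠ 0 := by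
  classical
  haveI : Fintype G := Fintype.ofFinite G
  haveI : Fintype (Subgroup.centralizer ({x} : Set G)) := Fintype.ofFinite _
  obtain ⟨k, hk⟩ := hx
  exact aux p M hM B χ hχ h0 x k hk (Subgroup.centralizer ({x} : Set G))
    (fun c => (mem_centralizer_singleton_iff' x (c : G)).1 c.2) b hb

end Cfsg.Agent.S4428
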