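import Cfsg.Statements.S4725
import Cfsg.Agent.Lib.Helper74.DefectOrder
import Cfsg.Agent.Lib.Helper16.Passman
import Cfsg.Agent.Lib.Helper81.CharInd
import Cfsg.Agent.Lib.Helper78.CharCount

set_option autoImplicit false
open Cfsg

namespace Cfsg.Agent.S4725

section

open Cfsg.Agent.Helper77 Cfsg.Agent.Helper78 Cfsg.Agent.Helper74.DO
open scoped ComplexConjugate

variable {G : Type*} [Group G] [Fintype G]

/-- the degree of the `B`-part of an induced character -/
theorem sum_mult_mul_degree (H : Subgroup G) [Fintype H] (B : Set (IrrCharacter G))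
    (ζ : IrrCharacter H) :
    ∑ χ ∈ (Set.toFinite B).toFinset,
      classInner (indFun H (ζ : H → ℂ)) (χ : G → ℂ) * (χ : G → ℂ) 1 =
    (H.index : ℂ) * ((ζ : H → ℂ) 1 * omega (ζ : H → ℂ) (fun h : H => blockCoeff B (h : G))) := by
  classical
  have hζ1 : (ζ : H → ℂ) 1 ≠ 0 := irr_apply_one_ne_zero ζ.2
  have hH0 : (Nat.card H : ℂ) ≠ 0 := by exact_mod_cast Nat.card_pos.ne'
  have hG0 : (Nat.card G : ℂ) ≠ 0 := by exact_mod_cast Nat.card_pos.ne'
  have h1 : ∀ χ : IrrCharacter G, classInner (indFun H (ζ : H → ℂ)) (χ : G → ℂ) =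
      (Nat.card H : ℂ)⁻¹ * ∑ h : H, (ζ : H → ℂ) h * conj ((χ : G → ℂ) (h : G)) := by
    intro χ
    rw [Cfsg.Agent.Helper81.frobenius_reciprocity H _
      (Cfsg.Agent.Helper78.IsCharacter.isClassFunction (IsIrrCharacter.isCharacter χ.2))]
    rfl
  simp only [h1]
  unfold omega
  rw [mul_div_cancel₀ _ hζ1]
  simp only [blockCoeff_eq_sum]
  have hidx : (H.index : ℂ) = (Nat.card G : ℂ) * (Nat.card H : ℂ)⁻¹ := by
    rw [← Subgroup.card_mul_index H]
    push_cast
    field_simp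
  rw [hidx]
  simp only [Finset.mul_sum, Finset.sum_mul]
  rw [Finset.sum_comm]
  refine Finset.sum_congr rfl fun h _ => ?_
  refine Finset.sum_congr rfl fun χ _ => ?_
  field_simp

end

/-- Let p be a prime, M a maximal ideal of the algebraic integers containing p, H a subgroup of the finite group G, and b a p-block of H inducing the p-block B of G, with b and B of the same defect. Then for every height-zero ζ ∈ b there is a height-zero χ ∈ B whose multiplicity in the character induced from ζ is not divisible by p. -/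
theorem result {G : Type*} [Group G] [Fintype G] (p : ℕ) [Fact p.Prime] (M : Ideal Cfsg.AlgInt) (hM : Cfsg.IsPModular p M) (H : Subgroup G) (b : Set (Cfsg.IrrCharacter ↥H)) (B : Set (Cfsg.IrrCharacter G)) (hind : Cfsg.IsInducedBlock M H b B) (hdef : Cfsg.blockDefect p b = Cfsg.blockDefect p B) (ζ : Cfsg.IrrCharacter ↥H) (hζ : ζ ∈ b) (hζ0 : Cfsg.blockHeight p b (ζ : ↥H → ℂ) = 0) : ∃ χ ∈ B, Cfsg.blockHeight p B (χ : G → ℂ) = 0 ∧ ∃ a : ℕ, Cfsg.classInner (Cfsg.indFun H (ζ : ↥H → ℂ)) (χ : G → ℂ) = (a : ℂ) ∧ ¬ p ∣ a := by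
  classical
  have hp : p.Prime := Fact.out
  have hprime := Cfsg.Agent.Helper77.isPrime_of_isPModular hM
  have hMtop := Cfsg.Agent.Helper77.ne_top_of_isPModular hM
  have : Fintype H := Fintype.ofFinite H
  obtain ⟨hb, hB, hcong⟩ := hind
  have hind_char : Cfsg.IsCharacter G (Cfsg.indFun H (ζ : ↥H → ℂ)) :=
    Cfsg.Agent.Helper81.isCharacter_indFun H (Cfsg.Agent.Helper78.IsIrrCharacter.isCharacter ζ.2)
  choose a ha using fun χ : Cfsg.IrrCharacter G =>
    Cfsg.Agent.Helper81.exists_nat_classInner hind_char χ.2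
  obtain ⟨χ₀, hχ₀⟩ := hB
  have hχ₀B : χ₀ ∈ B := hχ₀ ▸ Cfsg.Agent.Helper77.mem_blockOf_self χ₀
  have hB' : Cfsg.IsPBlock M B := ⟨χ₀, hχ₀⟩
  have hBne : B.Nonempty := ⟨χ₀, hχ₀B⟩
  have hbne : b.Nonempty := ⟨ζ, hζ⟩
  -- the unit `ω`
  set ω := Cfsg.Agent.Helper77.omega (ζ : ↥H → ℂ) (fun h : ↥H => Cfsg.blockCoeff B (h : G)) with hω
  have hcl := Cfsg.Agent.Helper77.isClassFunction_blockCoeff B
  have hω1 : Cfsg.MemLocalIdeal M (ω - 1) := by
    have e1 := Cfsg.Agent.Helper16.sum_conjClasses_mul_inducedCentralChar H (ζ : ↥H → ℂ)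
      (Cfsg.blockCoeff B) hcl
    have e2 := Cfsg.Agent.Helper16.omega_eq_sum_conjClasses (χ₀ : G → ℂ) (Cfsg.blockCoeff B)
      (Cfsg.Agent.Helper78.IsCharacter.isClassFunction
        (Cfsg.Agent.Helper78.IsIrrCharacter.isCharacter χ₀.2)) hcl
    rw [Cfsg.Agent.Helper77.omega_blockCoeff, if_pos hχ₀B] at e2
    rw [hω, ← e1, e2, ← Finset.sum_sub_distrib]
    apply Cfsg.Agent.Helper77.memLocalIdeal_sum
    intro c _
    rw [← mul_sub]
    exact Cfsg.Agent.Helper77.memLocalIdeal_mul_left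
      (Cfsg.Agent.Helper77.memLocalRing_blockCoeff hB' _) (hcong ζ hζ χ₀ hχ₀B _)
  have hωR : Cfsg.MemLocalRing M ω := by
    have := Cfsg.Agent.Helper77.memLocalRing_add
      (Cfsg.Agent.Helper77.memLocalRing_of_memLocalIdeal hω1)
      (Cfsg.Agent.Helper77.memLocalRing_one (M := M) hMtop)
    simpa using this
  -- valuations
  set mB := Cfsg.Agent.Helper74.DO.minVal p B with hmB
  set mb := Cfsg.Agent.Helper74.DO.minVal p b with hmb
  have hζdeg := Cfsg.Agent.Helper78.irr_charDegree ζ.2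
  have hζval : (Cfsg.charDegree (ζ : ↥H → ℂ)).factorization p = mb := by
    have h1 : Cfsg.blockHeight p b (ζ : ↥H → ℂ) =
        (Cfsg.charDegree (ζ : ↥H → ℂ)).factorization p - mb := rfl
    have h2 := Cfsg.Agent.Helper74.DO.minVal_le (p := p) hζ
    omega
  have hdefb : Cfsg.blockDefect p b = (Nat.card ↥H).factorization p - mb := rfl
  have hdefB : Cfsg.blockDefect p B = (Nat.card G).factorization p - mB := rfl
  have hmb_le := Cfsg.Agent.Helper74.DO.minVal_le_card (p := p) hbne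
  have hmB_le := Cfsg.Agent.Helper74.DO.minVal_le_card (p := p) hBne
  have hcardmul : Nat.card ↥H * H.index = Nat.card G := Subgroup.card_mul_index H
  have hidx0 : H.index ≠ 0 := Subgroup.index_ne_zero_of_finite
  have hH0 : Nat.card ↥H ≠ 0 := Nat.card_pos.ne'
  have hval : (H.index * Cfsg.charDegree (ζ : ↥H → ℂ)).factorization p = mB := by
    rw [Nat.factorization_mul hidx0 hζdeg.2.ne', Finsupp.coe_add, Pi.add_apply, hζval]
    have h3 : (Nat.card G).factorization p =
        (Nat.card ↥H).factorization p + H.index.factorization p := by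
      rw [← hcardmul, Nat.factorization_mul hH0 hidx0, Finsupp.coe_add, Pi.add_apply]
    omega
  -- the key identity
  have hkey := sum_mult_mul_degree H B ζ
  rw [← hω] at hkey
  -- contradiction if all height zero multiplicities are divisible by `p`
  by_contra hcon
  push Not at hcon
  have hdiv : ∀ χ ∈ B, p ^ (mB + 1) ∣ a χ * Cfsg.charDegree (χ : G → ℂ) := by
    intro χ hχ
    have hdeg := Cfsg.Agent.Helper78.irr_charDegree χ.2
    have hle := Cfsg.Agent.Helper74.DO.minVal_le (p := p) hχ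
    rcases Nat.eq_or_lt_of_le hle with heq | hlt
    · have hh : Cfsg.blockHeight p B (χ : G → ℂ) = 0 := by
        have : Cfsg.blockHeight p B (χ : G → ℂ) =
          (Cfsg.charDegree (χ : G → ℂ)).factorization p - mB := rfl
        omega
      have h1 := hcon χ hχ hh (a χ) (ha χ)
      rw [pow_succ, mul_comm (p ^ mB) p]
      apply mul_dvd_mul h1
      rw [hmB, heq]
      exact Nat.ordProj_dvd _ _
    · apply Dvd.dvd.mul_left
      exact (hp.pow_dvd_iff_le_factorization hdeg.2.ne').2 hlt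
  have hsum : p ^ (mB + 1) ∣ ∑ χ ∈ (Set.toFinite B).toFinset,
      a χ * Cfsg.charDegree (χ : G → ℂ) := by
    apply Finset.dvd_sum
    intro χ hχ
    rw [Set.Finite.mem_toFinset] at hχ
    exact hdiv χ hχ
  obtain ⟨N', hN'⟩ := hsum
  have hkey2 : ((p ^ (mB + 1) * N' : ℕ) : ℂ) =
      ((H.index * Cfsg.charDegree (ζ : ↥H → ℂ) : ℕ) : ℂ) * ω := by
    rw [← hN']
    push_cast
    rw [mul_assoc, ← hζdeg.1, ← hkey]
    refine Finset.sum_congr rfl fun χ _ => ?_
    rw [ha χ, (Cfsg.Agent.Helper78.irr_charDegree χ.2).1]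
  obtain ⟨t, ht⟩ := Nat.ordProj_dvd (H.index * Cfsg.charDegree (ζ : ↥H → ℂ)) p
  rw [hval] at ht
  have htp : ¬ p ∣ t := by
    intro hd
    have h0 : H.index * Cfsg.charDegree (ζ : ↥H → ℂ) ≠ 0 := Nat.mul_ne_zero hidx0 hζdeg.2.ne'
    have h1 : p ^ (mB + 1) ∣ H.index * Cfsg.charDegree (ζ : ↥H → ℂ) := by
      rw [ht, pow_succ]
      exact mul_dvd_mul_left _ hd
    have h2 := (hp.pow_dvd_iff_le_factorization h0).1 h1
    omega
  rw [ht] at hkey2
  push_cast at hkey2
  have hpm0 : ((p : ℂ) ^ mB) ≠ 0 := pow_ne_zero _ (by exact_mod_cast hp.ne_zero)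
  have hkey3 : (p : ℂ) * (N' : ℂ) = (t : ℂ) * ω := by
    apply mul_left_cancel₀ hpm0
    rw [← mul_assoc, ← pow_succ, hkey2]
    ring
  have h5 : Cfsg.MemLocalIdeal M ((t : ℂ) * ω) := by
    rw [← hkey3]
    exact Cfsg.Agent.Helper77.memLocalIdeal_mul_right
      ((Cfsg.Agent.Helper77.memLocalIdeal_natCast_iff hM p).2 dvd_rfl)
      (Cfsg.Agent.Helper77.memLocalRing_natCast N')
  have h6 : Cfsg.MemLocalIdeal M (t : ℂ) := by
    have h7 := Cfsg.Agent.Helper77.memLocalIdeal_mul_left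
      (Cfsg.Agent.Helper77.memLocalRing_natCast (M := M) t) hω1
    have h8 := Cfsg.Agent.Helper77.memLocalIdeal_sub h5 h7
    have e : (t : ℂ) * ω - (t : ℂ) * (ω - 1) = (t : ℂ) := by ring
    rwa [e] at h8
  exact htp ((Cfsg.Agent.Helper77.memLocalIdeal_natCast_iff hM t).1 h6)

end Cfsg.Agent.S4725
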