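import Cfsg.Statements.S4430
import Cfsg.Agent.S4725
import Cfsg.Agent.Lib.Helper78.LocalVal

set_option autoImplicit false
open Cfsg

namespace Cfsg.Agent.S4430

/-- Let H be a subgroup of the finite group G, b a block of H whose induced block B₀ in G is defined (relative to a maximal ideal M of the algebraic integers containing p), and ξ ∈ b. For a block B of G let n_B be the value at 1 of the B-part of the induced character ξ^G (a natural number: the sum over χ ∈ B of the multiplicity of χ in ξ^G times χ(1)). Then for B = B₀ the exact power of p dividing n_B equals the exact power of p dividing ξ^G(1), while for every other block B either n_B = 0 or n_B is divisible by a strictly higher power of p than ξ^G(1). -/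
theorem result {G : Type*} [Group G] [Fintype G] (p : ℕ) [Fact p.Prime] (M : Ideal Cfsg.AlgInt) (hM : Cfsg.IsPModular p M) (H : Subgroup G) [Fintype H] (b : Set (Cfsg.IrrCharacter H)) (B₀ : Set (Cfsg.IrrCharacter G)) (hind : Cfsg.IsInducedBlock M H b B₀) (ξ : Cfsg.IrrCharacter H) (hξ : ξ ∈ b) : (∃ n : ℕ, Cfsg.blockPart B₀ (Cfsg.indFun H (ξ : H → ℂ)) 1 = (n : ℂ) ∧ n ≠ 0 ∧ n.factorization p = (Cfsg.charDegree (Cfsg.indFun H (ξ : H → ℂ))).factorization p) ∧ ∀ B : Set (Cfsg.IrrCharacter G), Cfsg.IsPBlock M B → B ≠ B₀ → ∃ n : ℕ, Cfsg.blockPart B (Cfsg.indFun H (ξ : H → ℂ)) 1 = (n : ℂ) ∧ (n = 0 ∨ (Cfsg.charDegree (Cfsg.indFun H (ξ : H → ℂ))).factorization p < n.factorization p) := by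
  classical
  have hp : p.Prime := Fact.out
  have hprime := Cfsg.Agent.Helper77.isPrime_of_isPModular hM
  have hMtop := Cfsg.Agent.Helper77.ne_top_of_isPModular hM
  obtain ⟨hb, hB₀, hcong⟩ := hind
  have hind_char : Cfsg.IsCharacter G (Cfsg.indFun H (ξ : ↥H → ℂ)) :=
    Cfsg.Agent.Helper81.isCharacter_indFun H (Cfsg.Agent.Helper78.IsIrrCharacter.isCharacter ξ.2)
  choose a ha using fun χ : Cfsg.IrrCharacter G =>
    Cfsg.Agent.Helper81.exists_nat_classInner hind_char χ.2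
  obtain ⟨χ₀, hχ₀B⟩ := Cfsg.Agent.Helper77.nonempty_of_isPBlock hB₀
  have hξdeg := Cfsg.Agent.Helper78.irr_charDegree ξ.2
  have hidx0 : H.index ≠ 0 := Subgroup.index_ne_zero_of_finite
  have hm0 : H.index * Cfsg.charDegree (ξ : ↥H → ℂ) ≠ 0 := Nat.mul_ne_zero hidx0 hξdeg.2.ne'
  -- the degree of the induced character
  have hind1 : Cfsg.indFun H (ξ : ↥H → ℂ) 1 =
      ((H.index * Cfsg.charDegree (ξ : ↥H → ℂ) : ℕ) : ℂ) := by
    rw [Cfsg.Agent.Helper81.indFun_apply]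
    have h1 : ∀ x : G, Cfsg.extendByZero H (ξ : ↥H → ℂ) (x⁻¹ * 1 * x) = (ξ : ↥H → ℂ) 1 := by
      intro x
      have e : x⁻¹ * 1 * x = ((1 : H) : G) := by simp
      rw [e, Cfsg.Agent.Helper81.extendByZero_apply_coe]
    simp only [h1, Finset.sum_const, Finset.card_univ, nsmul_eq_mul]
    rw [hξdeg.1, ← Nat.card_eq_fintype_card, ← Subgroup.card_mul_index H]
    have hH0 : (Nat.card H : ℂ) ≠ 0 := by exact_mod_cast Nat.card_pos.ne'
    push_cast
    field_simp
  have hdeg : Cfsg.charDegree (Cfsg.indFun H (ξ : ↥H → ℂ)) =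
      H.index * Cfsg.charDegree (ξ : ↥H → ℂ) := by
    have e : Cfsg.charDegree (Cfsg.indFun H (ξ : ↥H → ℂ)) =
        ⌊((Cfsg.indFun H (ξ : ↥H → ℂ)) 1).re⌋₊ := rfl
    rw [e, hind1, Complex.natCast_re, Nat.floor_natCast]
  rw [hdeg]
  -- the block part at one as a natural number
  have hpart : ∀ B : Set (Cfsg.IrrCharacter G),
      Cfsg.blockPart B (Cfsg.indFun H (ξ : ↥H → ℂ)) 1 =
        ((∑ χ ∈ (Set.toFinite B).toFinset, a χ * Cfsg.charDegree (χ : G → ℂ) : ℕ) : ℂ) := by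
    intro B
    rw [Cfsg.Agent.Helper78.blockPart_apply]
    push_cast
    refine Finset.sum_congr rfl fun χ _ => ?_
    rw [ha χ, (Cfsg.Agent.Helper78.irr_charDegree χ.2).1]
  have hkey : ∀ B : Set (Cfsg.IrrCharacter G),
      ((∑ χ ∈ (Set.toFinite B).toFinset, a χ * Cfsg.charDegree (χ : G → ℂ) : ℕ) : ℂ) =
        ((H.index * Cfsg.charDegree (ξ : ↥H → ℂ) : ℕ) : ℂ) *
          Cfsg.Agent.Helper77.omega (ξ : ↥H → ℂ) (fun h : ↥H => Cfsg.blockCoeff B (h : G)) := by
    intro B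
    rw [← hpart B, Cfsg.Agent.Helper78.blockPart_apply, Cfsg.Agent.S4725.sum_mult_mul_degree H B ξ,
      hξdeg.1]
    push_cast
    ring
  -- congruence for `ω`
  have hω : ∀ B : Set (Cfsg.IrrCharacter G), Cfsg.IsPBlock M B →
      Cfsg.MemLocalIdeal M (Cfsg.Agent.Helper77.omega (ξ : ↥H → ℂ)
        (fun h : ↥H => Cfsg.blockCoeff B (h : G)) - if χ₀ ∈ B then 1 else 0) := by
    intro B hB
    have hcl := Cfsg.Agent.Helper77.isClassFunction_blockCoeff B
    have e1 := Cfsg.Agent.Helper16.sum_conjClasses_mul_inducedCentralChar H (ξ : ↥H → ℂ)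
      (Cfsg.blockCoeff B) hcl
    have e2 := Cfsg.Agent.Helper16.omega_eq_sum_conjClasses (χ₀ : G → ℂ) (Cfsg.blockCoeff B)
      (Cfsg.Agent.Helper78.IsCharacter.isClassFunction
        (Cfsg.Agent.Helper78.IsIrrCharacter.isCharacter χ₀.2)) hcl
    rw [Cfsg.Agent.Helper77.omega_blockCoeff] at e2
    rw [← e1, e2, ← Finset.sum_sub_distrib]
    apply Cfsg.Agent.Helper77.memLocalIdeal_sum
    intro c _
    rw [← mul_sub]
    exact Cfsg.Agent.Helper77.memLocalIdeal_mul_left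
      (Cfsg.Agent.Helper77.memLocalRing_blockCoeff hB _) (hcong ξ hξ χ₀ hχ₀B _)
  refine ⟨?_, fun B hB hne => ?_⟩
  · have h1 := hω B₀ hB₀
    rw [if_pos hχ₀B] at h1
    obtain ⟨hn0, hval⟩ := Cfsg.Agent.Helper78.factorization_eq_of_unit hM _ _ hm0 _ h1 (hkey B₀)
    exact ⟨_, hpart B₀, hn0, hval⟩
  · have h1 := hω B hB
    have hnot : χ₀ ∉ B := fun hmem =>
      hne (Cfsg.Agent.Helper77.eq_of_isPBlock_of_mem hB hB₀ hmem hχ₀B)
    rw [if_neg hnot, sub_zero] at h1
    exact ⟨_, hpart B,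
      Cfsg.Agent.Helper78.factorization_lt_of_memLocalIdeal hM _ _ hm0 _ h1 (hkey B)⟩

end Cfsg.Agent.S4430
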