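import Cfsg.Statements.S4431
import Cfsg.Agent.Lib.Helper16.RegNorm

set_option autoImplicit false
set_option linter.style.haveILetI false
open Cfsg

namespace Cfsg.Agent.S4431

open scoped ComplexConjugate
open Cfsg.Agent.Helper16 Cfsg.Agent.Helper77 Cfsg.Agent.Helper78

/-- Let H be a subgroup of the finite group G and b a block of H whose induced block B₀ in G is defined (relative to a maximal ideal M of the algebraic integers containing p). Let χ be an irreducible character of G, ψ ∈ b, and let η be the class function on H equal to p^a · χ on the p-regular elements of H and zero elsewhere, p^a being the p-part of the order of H. Then (a) if χ ∉ B₀, the number [η, ψ]/ψ(1) lies in the local ideal at M; (b) if χ ∈ B₀ has height zero, it does not. -/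
theorem result {G : Type*} [Group G] [Fintype G] (p : ℕ) [Fact p.Prime] (M : Ideal Cfsg.AlgInt) (hM : Cfsg.IsPModular p M) (H : Subgroup G) [Fintype H] (b : Set (Cfsg.IrrCharacter H)) (B₀ : Set (Cfsg.IrrCharacter G)) (hind : Cfsg.IsInducedBlock M H b B₀) (χ : Cfsg.IrrCharacter G) (ψ : Cfsg.IrrCharacter H) (hψ : ψ ∈ b) : (χ ∉ B₀ → Cfsg.MemLocalIdeal M (Cfsg.classInner (fun h : H => if p ∣ orderOf h then (0 : ℂ) else ((p ^ (Nat.card H).factorization p : ℕ) : ℂ) * (χ : G → ℂ) h) (ψ : H → ℂ) / (ψ : H → ℂ) 1)) ∧ (χ ∈ B₀ → Cfsg.blockHeight p B₀ (χ : G → ℂ) = 0 → ¬ Cfsg.MemLocalIdeal M (Cfsg.classInner (fun h : H => if p ∣ orderOf h then (0 : ℂ) else ((p ^ (Nat.card H).factorization p : ℕ) : ℂ) * (χ : G → ℂ) h) (ψ : H → ℂ) / (ψ : H → ℂ) 1)) := by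
  classical
  haveI hpr := isPrime_of_isPModular hM
  have hp : p.Prime := hM.1
  set a := (Nat.card H).factorization p with ha
  have hH0 : Nat.card H ≠ 0 := Nat.card_pos.ne'
  have hpa0 : p ^ a ≠ 0 := pow_ne_zero _ hp.pos.ne'
  have hfac : (p ^ a).factorization p = a := by
    rw [Nat.factorization_pow, Finsupp.smul_apply, hp.factorization_self]; simp
  -- the unit `u = p^a / |H|`
  have hu : MemLocalRing M (((p ^ a : ℕ) : ℂ) / (Nat.card H : ℂ)) :=
    memLocalRing_natCast_div hM _ _ hH0 (by rw [hfac])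
  have hu' : MemLocalRing M ((Nat.card H : ℂ) / ((p ^ a : ℕ) : ℂ)) :=
    memLocalRing_natCast_div hM _ _ hpa0 (by rw [hfac])
  have hχinv : ∀ x : H, (fun h : H => (χ : G → ℂ) h) x⁻¹ = conj ((fun h : H => (χ : G → ℂ) h) x) := by
    intro x
    simp only [Subgroup.coe_inv]
    exact Cfsg.Agent.Helper79.irr_inv χ _
  have hψinv : ∀ x : H, (ψ : H → ℂ) x⁻¹ = conj ((ψ : H → ℂ) x) := fun x =>
    Cfsg.Agent.Helper79.irr_inv ψ x
  -- rewrite the quantity
  have hrew : Cfsg.classInner (fun h : H => if p ∣ orderOf h then (0 : ℂ) else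
        ((p ^ a : ℕ) : ℂ) * (χ : G → ℂ) h) (ψ : H → ℂ) / (ψ : H → ℂ) 1 =
      ((p ^ a : ℕ) : ℂ) / (Nat.card H : ℂ) *
        (regSum p (ψ : H → ℂ) (fun h : H => (χ : G → ℂ) h) / (ψ : H → ℂ) 1) := by
    rw [regSum_comm' p hψinv hχinv]
    unfold classInner regSum
    rw [Finset.sum_filter]
    have : ∀ h : H, (if p ∣ orderOf h then (0 : ℂ) else ((p ^ a : ℕ) : ℂ) * (χ : G → ℂ) h) *
        conj ((ψ : H → ℂ) h) = ((p ^ a : ℕ) : ℂ) *
        (if ¬ p ∣ orderOf h then (χ : G → ℂ) h * conj ((ψ : H → ℂ) h) else 0) := by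
      intro h
      by_cases hh : p ∣ orderOf h
      · simp [hh]
      · simp [hh, mul_assoc]
    simp_rw [this]
    rw [← Finset.mul_sum]
    have hHne : (Nat.card H : ℂ) ≠ 0 := by exact_mod_cast hH0
    field_simp
  rw [hrew]
  constructor
  · intro hχ
    apply memLocalIdeal_mul_left hu
    obtain ⟨χ', hχ'⟩ := nonempty_of_isPBlock hind.2.1
    have hcong := omega_restr_congr_of_isInducedBlock H hind hψ hχ'
      (isClassFunction_regConj p (isClassFunction_of_isIrrCharacter χ.2))
      (isRValued_regConj (M := M) (p := p) χ)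
    have h1 : restr H (fun g : G => if p ∣ orderOf g then 0 else conj ((χ : G → ℂ) g)) =
        (fun h : H => if p ∣ orderOf h then 0 else conj ((χ : G → ℂ) h)) := by
      funext h
      unfold restr
      simp only [Subgroup.orderOf_coe]
    rw [h1, ← regSum_div_eq_omega, ← regSum_div_eq_omega] at hcong
    have hns : ¬ SameBlock M (χ' : G → ℂ) (χ : G → ℂ) := fun h =>
      hχ (Cfsg.Agent.Helper77.mem_of_sameBlock hind.2.1 hχ' h)
    have h0 := sum_regular_eq_zero_of_not_sameBlock hM χ' χ hns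
    have h0' : regSum p (χ' : G → ℂ) (χ : G → ℂ) = 0 := h0
    rw [h0', zero_div, sub_zero] at hcong
    exact hcong
  · intro hχ h0 hcon
    have hht : (charDegree (χ : G → ℂ)).factorization p = Cfsg.Agent.Helper74.DO.minVal p B₀ := by
      have h1 := Cfsg.Agent.Helper74.DO.minVal_le (p := p) hχ
      unfold blockHeight at h0
      unfold Cfsg.Agent.Helper74.DO.minVal at h1 ⊢
      omega
    apply not_memLocalIdeal_regSum_of_induced hM H hind hχ hht hψ
    have := memLocalIdeal_mul_left hu' hcon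
    convert this using 1
    have hHne : (Nat.card H : ℂ) ≠ 0 := by exact_mod_cast hH0
    have hpne : ((p ^ a : ℕ) : ℂ) ≠ 0 := by exact_mod_cast hpa0
    field_simp

end Cfsg.Agent.S4431
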