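import Cfsg.Statements.S4435
import Cfsg.Agent.Lib.Helper78.FongReynolds6
import Cfsg.Agent.Lib.Helper78.SectionSum

set_option autoImplicit false
open Cfsg

namespace Cfsg.Agent.S4435

/-- Let N be a normal subgroup of the finite group G, b a block of N (relative to a maximal ideal M of the algebraic integers containing p), and T the stabilizer of b in G (the elements g such that conjugating any member of b by g gives a member of b); N ≤ T. Say that a block of T (or of G) covers b when some member has a constituent in b on restriction to N. Then: (i) every block B′ of T covering b induces a block B of G, B covers b, every ψ ∈ B′ induces to an irreducible character of G, and B consists exactly of the characters induced from members of B′; (ii) distinct blocks of T covering b induce distinct blocks of G; (iii) every block of G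 covering b is induced by some block of T covering b. -/
theorem result {G : Type*} [Group G] [Fintype G] (p : ℕ) [Fact p.Prime] (M : Ideal Cfsg.AlgInt) (hM : Cfsg.IsPModular p M) (N : Subgroup G) [hN : N.Normal] [Fintype N] (b : Set (Cfsg.IrrCharacter N)) (hb : Cfsg.IsPBlock M b) (T : Subgroup G) [Fintype T] (hT : ∀ g : G, g ∈ T ↔ ∀ θ ∈ b, ∀ θ' : Cfsg.IrrCharacter N, (∀ n : N, (θ' : N → ℂ) n = (θ : N → ℂ) ⟨g * n * g⁻¹, hN.conj_mem n n.2 g⟩) → θ' ∈ b) (hNT : N ≤ T) : (∀ B' : Set (Cfsg.IrrCharacter T), Cfsg.IsPBlock M B' → (∃ ψ ∈ B', ∃ θ ∈ b, Cfsg.classInner (fun n : N => (ψ : T → ℂ) ⟨(n : G), hNT n.2⟩) (θ : N → ℂ) ≠ 0) → ∃ B : Set (Cfsg.IrrCharacter G), Cfsg.IsInducedBlock M T B' B ∧ (∃ χ ∈ B, ∃ θ ∈ b, Cfsg.classInner (fun n : N => (χ : G → ℂ) n) (θ : N → ℂ) ≠ 0) ∧ (∀ ψ ∈ B', Cfsg.IsIrrCharacter G (Cfsg.indFun T (ψ : T → ℂ)))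 ∧ ∀ χ : Cfsg.IrrCharacter G, χ ∈ B ↔ ∃ ψ ∈ B', (χ : G → ℂ) = Cfsg.indFun T (ψ : T → ℂ)) ∧ (∀ B'₁ B'₂ : Set (Cfsg.IrrCharacter T), Cfsg.IsPBlock M B'₁ → Cfsg.IsPBlock M B'₂ → (∃ ψ ∈ B'₁, ∃ θ ∈ b, Cfsg.classInner (fun n : N => (ψ : T → ℂ) ⟨(n : G), hNT n.2⟩) (θ : N → ℂ) ≠ 0) → (∃ ψ ∈ B'₂, ∃ θ ∈ b, Cfsg.classInner (fun n : N => (ψ : T → ℂ) ⟨(n : G), hNT n.2⟩) (θ : N → ℂ) ≠ 0) → ∀ B : Set (Cfsg.IrrCharacter G), Cfsg.IsInducedBlock M T B'₁ B → Cfsg.IsInducedBlock M T B'₂ B → B'₁ = B'₂) ∧ (∀ B : Set (Cfsg.IrrCharacter G), Cfsg.IsPBlock M B → (∃ χ ∈ B, ∃ θ ∈ b, Cfsg.classInner (fun n : N => (χ : G → ℂ) n) (θ : N → ℂ) ≠ 0) → ∃ B' : Set (Cfsg.IrrCharacter T), Cfsg.IsPBlock M B' ∧ (∃ ψ ∈ B', ∃ θ ∈ b, Cfsg.classInner (fun n : N => (ψ : T → ℂ) ⟨(n : G), hNT n.2⟩) (θ : N → ℂ) ≠ 0) ∧ Cfsg.IsInducedBlock M T B' B) := by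
  classical
  have hpr := Cfsg.Agent.Helper77.isPrime_of_isPModular hM
  -- reformulate the stabilizer condition
  have hconj : ∀ (g : G) (θ : Cfsg.IrrCharacter N) (n : N),
      (Cfsg.Agent.Helper16.conjIrr N g⁻¹ θ : N → ℂ) n =
        (θ : N → ℂ) ⟨g * n * g⁻¹, hN.conj_mem n n.2 g⟩ := by
    intro g θ n
    have h : g⁻¹⁻¹ * (n : G) * g⁻¹ ∈ N := by
      rw [inv_inv]; exact hN.conj_mem n n.2 g
    rw [Cfsg.Agent.Helper16.conjIrr_apply' N g⁻¹ θ n h]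
    have e : (⟨g⁻¹⁻¹ * (n : G) * g⁻¹, h⟩ : N) = ⟨g * n * g⁻¹, hN.conj_mem n n.2 g⟩ :=
      Subtype.ext (by simp)
    rw [e]
  have hT' : ∀ g : G, g ∈ T ↔ ∀ θ ∈ b, Cfsg.Agent.Helper16.conjIrr N g⁻¹ θ ∈ b := by
    intro g
    rw [hT g]
    constructor
    · intro h θ hθ
      exact h θ hθ _ (hconj g θ)
    · intro h θ hθ θ' hθ'
      have : θ' = Cfsg.Agent.Helper16.conjIrr N g⁻¹ θ := by
        apply Subtype.ext
        funext n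
        rw [hθ' n, hconj g θ n]
      rw [this]
      exact h θ hθ
  have hCT := Cfsg.Agent.Helper78.stab_closed N T hT'
  have hCd := Cfsg.Agent.Helper78.stab_disjoint N T hM hb hT'
  -- covering gives a member lying over `b`
  have hcovω : ∀ B' : Set (Cfsg.IrrCharacter T),
      (∃ ψ ∈ B', ∃ θ ∈ b, Cfsg.classInner
        (fun n : N => (ψ : T → ℂ) ⟨(n : G), hNT n.2⟩) (θ : N → ℂ) ≠ 0) →
      ∃ ψ₀ ∈ B', Cfsg.Agent.Helper77.omega (ψ₀ : T → ℂ)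
        (Cfsg.Agent.Helper78.idemT N T (Set.toFinite b).toFinset) = 1 := by
    rintro B' ⟨ψ, hψ, θ, hθ, hne⟩
    refine ⟨ψ, hψ, ?_⟩
    exact Cfsg.Agent.Helper78.omega_idemT_eq_one_of_liesOver N T hNT _ hCT ψ
      ⟨θ, (Set.Finite.mem_toFinset _).2 hθ, hne⟩
  refine ⟨?_, ?_, ?_⟩
  · -- (i)
    rintro B' hB' ⟨ψ₀, hψ₀, θ₀, hθ₀, hne₀⟩
    have hω₀ := Cfsg.Agent.Helper78.omega_idemT_eq_one_of_liesOver N T hNT _ hCT ψ₀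
      ⟨θ₀, (Set.Finite.mem_toFinset _).2 hθ₀, hne₀⟩
    obtain ⟨B, hind, hirr, hiff, hω⟩ :=
      Cfsg.Agent.Helper78.fongReynolds_induced N T hNT hM hb hT' hB' hψ₀ hω₀
    refine ⟨B, hind, ?_, hirr, hiff⟩
    obtain ⟨χ₀, hχ₀⟩ : ∃ χ₀ : Cfsg.IrrCharacter G, (χ₀ : G → ℂ) = Cfsg.indFun T (ψ₀ : T → ℂ) :=
      ⟨⟨_, hirr ψ₀ hψ₀⟩, rfl⟩
    refine ⟨χ₀, (hiff χ₀).2 ⟨ψ₀, hψ₀, hχ₀⟩, θ₀, hθ₀, ?_⟩
    have hc : Cfsg.classInner (Cfsg.indFun T (ψ₀ : T → ℂ)) (χ₀ : G → ℂ) ≠ 0 := by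
      rw [← hχ₀, Cfsg.Agent.Helper78.classInner_irr, if_pos rfl]
      exact one_ne_zero
    obtain ⟨k, hk⟩ := Cfsg.Agent.Helper81.classInner_restrict_ge N T hNT θ₀.2 ψ₀.2 χ₀.2 hc
    rw [hk]
    obtain ⟨m, hmθ, -, -⟩ := Cfsg.Agent.Helper78.exists_mult N T hNT ψ₀
    have hm0 : m θ₀ ≠ 0 := by
      intro h0
      apply hne₀
      have := hmθ θ₀
      rw [h0, Nat.cast_zero] at this
      exact this
    have e : Cfsg.classInner (Cfsg.Agent.Helper81.resTo hNT (ψ₀ : T → ℂ)) (θ₀ : N → ℂ) =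
        (m θ₀ : ℂ) := hmθ θ₀
    rw [e]
    have : m θ₀ + k ≠ 0 := by omega
    exact_mod_cast this
  · -- (ii)
    intro B'₁ B'₂ hB'₁ hB'₂ hcov₁ hcov₂ B hind₁ hind₂
    obtain ⟨ψ₁, hψ₁, hω₁⟩ := hcovω B'₁ hcov₁
    obtain ⟨ψ₂, hψ₂, hω₂⟩ := hcovω B'₂ hcov₂
    obtain ⟨B₁, hi₁, hirr₁, hiff₁, hall₁⟩ :=
      Cfsg.Agent.Helper78.fongReynolds_induced N T hNT hM hb hT' hB'₁ hψ₁ hω₁
    obtain ⟨B₂, hi₂, hirr₂, hiff₂, hall₂⟩ :=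
      Cfsg.Agent.Helper78.fongReynolds_induced N T hNT hM hb hT' hB'₂ hψ₂ hω₂
    have e₁ : B = B₁ := Cfsg.Agent.Helper78.isInducedBlock_unique hind₁ hi₁
    have e₂ : B = B₂ := Cfsg.Agent.Helper78.isInducedBlock_unique hind₂ hi₂
    obtain ⟨χ, hχ⟩ : ∃ χ : Cfsg.IrrCharacter G, (χ : G → ℂ) = Cfsg.indFun T (ψ₂ : T → ℂ) :=
      ⟨⟨_, hirr₂ ψ₂ hψ₂⟩, rfl⟩
    have hχB₂ : χ ∈ B₂ := (hiff₂ χ).2 ⟨ψ₂, hψ₂, hχ⟩
    have hχB₁ : χ ∈ B₁ := by rw [← e₁, e₂]; exact hχB₂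
    obtain ⟨ψ, hψ, hψχ⟩ := (hiff₁ χ).1 hχB₁
    have : ψ₂ = ψ := Cfsg.Agent.Helper78.indFun_injective_of_over N T hNT _ hCT hCd ψ₂ ψ hω₂
      (hall₁ ψ hψ) (by rw [← hχ, hψχ])
    rw [← this] at hψ
    exact Cfsg.Agent.Helper77.eq_of_isPBlock_of_mem hB'₁ hB'₂ hψ hψ₂
  · -- (iii)
    rintro B hB ⟨χ, hχ, θ, hθ, hne⟩
    obtain ⟨ψ, hω, hψθ, hψχ⟩ := Cfsg.Agent.Helper78.exists_over_of_constituent N T hNT _ hCT hCd
      χ θ ((Set.Finite.mem_toFinset _).2 hθ) hne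
    have hB' : Cfsg.IsPBlock M (Cfsg.blockOf M (ψ : T → ℂ)) :=
      Cfsg.Agent.Helper77.isPBlock_blockOf ψ
    have hψmem : ψ ∈ Cfsg.blockOf M (ψ : T → ℂ) := Cfsg.Agent.Helper77.mem_blockOf_self ψ
    refine ⟨Cfsg.blockOf M (ψ : T → ℂ), hB', ⟨ψ, hψmem, θ, hθ, hψθ⟩, ?_⟩
    obtain ⟨B₁, hi₁, hirr₁, hiff₁, -⟩ :=
      Cfsg.Agent.Helper78.fongReynolds_induced N T hNT hM hb hT' hB' hψmem hω
    have hχB₁ : χ ∈ B₁ := (hiff₁ χ).2 ⟨ψ, hψmem, hψχ.symm⟩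
    have e : B₁ = B := Cfsg.Agent.Helper77.eq_of_isPBlock_of_mem hi₁.2.1 hB hχB₁ hχ
    rw [← e]
    exact hi₁

end Cfsg.Agent.S4435
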