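import Cfsg.Statements.S4436
import Cfsg.Agent.Lib.Helper78.FongReynolds7
import Cfsg.Agent.Lib.Helper78.SectionSum

set_option autoImplicit false
open Cfsg

namespace Cfsg.Agent.S4436

/-- Let N be a normal subgroup of the finite group G, b a block of N (relative to a maximal ideal M of the algebraic integers containing p), T the stabilizer of b in G, N ≤ T, and B′ a block of T covering b (some member of B′ has a constituent in b on restriction to N) that induces the block B of G. Then every defect group of B′ is a defect group of B, and for every ψ ∈ B′ the induced character ψ^G is an irreducible character of G lying in B with the same height as ψ. -/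
theorem result {G : Type*} [Group G] [Fintype G] (p : ℕ) [Fact p.Prime] (M : Ideal Cfsg.AlgInt) (hM : Cfsg.IsPModular p M) (N : Subgroup G) [hN : N.Normal] [Fintype N] (b : Set (Cfsg.IrrCharacter N)) (hb : Cfsg.IsPBlock M b) (T : Subgroup G) [Fintype T] (hT : ∀ g : G, g ∈ T ↔ ∀ θ ∈ b, ∀ θ' : Cfsg.IrrCharacter N, (∀ n : N, (θ' : N → ℂ) n = (θ : N → ℂ) ⟨g * n * g⁻¹, hN.conj_mem n n.2 g⟩) → θ' ∈ b) (hNT : N ≤ T) (B' : Set (Cfsg.IrrCharacter T)) (hB' : Cfsg.IsPBlock M B') (hcov : (∃ ψ ∈ B', ∃ θ ∈ b, Cfsg.classInner (fun n : N => (ψ : T → ℂ) ⟨(n : G), hNT n.2⟩) (θ : N → ℂ) ≠ 0)) (B : Set (Cfsg.IrrCharacter G)) (hind : Cfsg.IsInducedBlock M T B' B) : (∀ D : Subgroup T, Cfsg.IsDefectGroup p M B' D → Cfsg.IsDefectGroup p M B (D.map T.subtype)) ∧ ∀ ψ ∈ B', ∃ χ ∈ B, (χ : G → ℂ) = Cfsg.indFun T (ψ : T → ℂ) ∧ Cfsg.blockHeight p B (χ : G → ℂ) = Cfsg.blockHeight p B' (ψ : T → ℂ) := by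
  classical
  have hpr := Cfsg.Agent.Helper77.isPrime_of_isPModular hM
  -- reformulate the stabilizer condition
  have hconj : ∀ (g : G) (θ : Cfsg.IrrCharacter N) (n : N),
      (Cfsg.Agent.Helper16.conjIrr N g⁻¹ θ : N → ℂ) n =
        (θ : N → ℂ) ⟨g * n * g⁻¹, hN.conj_mem n n.2 g⟩ := by
    intro g θ n
    have h : g⁻¹⁻¹ * (n : G) * g⁻¹ ∈ N := by
      rw [inv_inv]; exact hN.conj_mem n n.2 g
    rw [Cfsg.Agent.Helper16.conjIrr_apply' N g⁻¹ θ n h]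
    have e : (⟨g⁻¹⁻¹ * (n : G) * g⁻¹, h⟩ : N) = ⟨g * n * g⁻¹, hN.conj_mem n n.2 g⟩ :=
      Subtype.ext (by simp)
    rw [e]
  have hT' : ∀ g : G, g ∈ T ↔ ∀ θ ∈ b, Cfsg.Agent.Helper16.conjIrr N g⁻¹ θ ∈ b := by
    intro g
    rw [hT g]
    constructor
    · intro h θ hθ
      exact h θ hθ _ (hconj g θ)
    · intro h θ hθ θ' hθ'
      have : θ' = Cfsg.Agent.Helper16.conjIrr N g⁻¹ θ := by
        apply Subtype.ext
        funext n
        rw [hθ' n, hconj g θ n]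
      rw [this]
      exact h θ hθ
  have hCT := Cfsg.Agent.Helper78.stab_closed N T hT'
  obtain ⟨ψ₀, hψ₀, θ₀, hθ₀, hne₀⟩ := hcov
  have hω₀ := Cfsg.Agent.Helper78.omega_idemT_eq_one_of_liesOver N T hNT _ hCT ψ₀
    ⟨θ₀, (Set.Finite.mem_toFinset _).2 hθ₀, hne₀⟩
  obtain ⟨B₁, hi₁, hirr, hiff, -⟩ :=
    Cfsg.Agent.Helper78.fongReynolds_induced N T hNT hM hb hT' hB' hψ₀ hω₀
  have eB : B = B₁ := Cfsg.Agent.Helper78.isInducedBlock_unique hind hi₁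
  have h1 : ∀ ψ ∈ B', ∃ χ ∈ B, (χ : G → ℂ) = Cfsg.indFun T (ψ : T → ℂ) := by
    intro ψ hψ
    refine ⟨⟨_, hirr ψ hψ⟩, ?_, rfl⟩
    rw [eB]
    exact (hiff _).2 ⟨ψ, hψ, rfl⟩
  have h2 : ∀ χ ∈ B, ∃ ψ ∈ B', (χ : G → ℂ) = Cfsg.indFun T (ψ : T → ℂ) := by
    intro χ hχ
    rw [eB] at hχ
    exact (hiff χ).1 hχ
  refine ⟨?_, ?_⟩
  · intro D hD
    exact Cfsg.Agent.Helper78.isDefectGroup_map_of_ind p hM hind h1 h2 D hD
  · intro ψ hψ
    obtain ⟨χ, hχ, hχψ⟩ := h1 ψ hψ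
    refine ⟨χ, hχ, hχψ, ?_⟩
    rw [hχψ]
    exact Cfsg.Agent.Helper78.blockHeight_indFun p h1 h2 ψ hψ

end Cfsg.Agent.S4436
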