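import Cfsg.Statements.S4447
import Cfsg.Agent.Lib.Helper81.CharCoprimeAct

set_option autoImplicit false
set_option linter.style.haveILetI false
open Cfsg

namespace Cfsg.Agent.S4447

/-- Inside a finite group Γ let S normalise G and also normalise a normal subgroup N of G, with the order of S coprime to the index of N in G and S or G/N solvable. Then for every S-invariant irreducible character χ of G, the restriction of χ to N has an S-invariant irreducible constituent. -/
theorem result {Γ : Type*} [Group Γ] [Fintype Γ] (G S N : Subgroup Γ) [Fintype G] [Fintype N] (hnorm : ∀ s ∈ S, ∀ g ∈ G, s * g * s⁻¹ ∈ G) (hNG : N ≤ G) [hNn : (N.subgroupOf G).Normal] (hNS : ∀ s ∈ S, ∀ n ∈ N, s * n * s⁻¹ ∈ N) (hcop : (N.relIndex G).Coprime (Nat.card S)) (hsolv : Group.IsSolvable S ∨ Group.IsSolvable (G ⧸ N.subgroupOf G)) (χ : Cfsg.IrrCharacter G) (hinv : (∀ s ∈ S, ∀ g g' : G, (g' : Γ) = s * g * s⁻¹ → (χ : G → ℂ) g' = (χ : G → ℂ) g)) : ∃ θ : Cfsg.IrrCharacter N, Cfsg.classInner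 (fun n : N => (χ : G → ℂ) ⟨n, hNG n.2⟩) (θ : N → ℂ) ≠ 0 ∧ (∀ s ∈ S, ∀ g g' : N, (g' : Γ) = s * g * s⁻¹ → (θ : N → ℂ) g' = (θ : N → ℂ) g) := by
  classical
  -- the action of `S` on `G` by conjugation
  have hnorm' : ∀ (s : S) (g : G), (s : Γ)⁻¹ * g * s ∈ G := by
    intro s g
    have := hnorm (s : Γ)⁻¹ (S.inv_mem s.2) g g.2
    rwa [inv_inv] at this
  let σ : S →* MulAut G :=
    { toFun := fun s =>
        { toFun := fun g => ⟨(s : Γ) * g * (s : Γ)⁻¹, hnorm s s.2 g g.2⟩
          invFun := fun g => ⟨(s : Γ)⁻¹ * g * s, hnorm' s g⟩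
          left_inv := fun g => Subtype.ext (by simp [mul_assoc])
          right_inv := fun g => Subtype.ext (by simp [mul_assoc])
          map_mul' := fun a b => Subtype.ext (by simp [mul_assoc]) }
      map_one' := by
        apply MulEquiv.ext
        intro g
        apply Subtype.ext
        simp
      map_mul' := by
        intro s t
        apply MulEquiv.ext
        intro g
        apply Subtype.ext
        simp [mul_assoc] }
  have hσ : ∀ (s : S) (g : G), ((σ s g : G) : Γ) = (s : Γ) * g * (s : Γ)⁻¹ := fun _ _ => rfl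
  set N' : Subgroup G := N.subgroupOf G with hN'
  haveI : Fintype N' := Fintype.ofFinite N'
  have hNσ : ∀ (s : S), ∀ n ∈ N', σ s n ∈ N' := by
    intro s n hn
    rw [hN', Subgroup.mem_subgroupOf] at hn ⊢
    rw [hσ]
    exact hNS s s.2 n hn
  have hcop' : N'.index.Coprime (Nat.card S) := hcop
  have hχinv : ∀ (s : S) (g : G), (χ : G → ℂ) (σ s g) = (χ : G → ℂ) g :=
    fun s g => hinv s s.2 g (σ s g) (hσ s g)
  obtain ⟨θ', hθ', hne', hθ'inv⟩ :=
    Cfsg.Agent.Helper81.exists_invariant_constituent_of_coprime σ N' hNσ hcop' hsolv χ.2 hχinv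
  let ι : N' ≃* N := Subgroup.subgroupOfEquivOfLe hNG
  have hι : ∀ n' : N', ((ι n' : N) : Γ) = ((n' : G) : Γ) := fun _ => rfl
  refine ⟨⟨fun n => θ' (ι.symm n), Cfsg.Agent.Helper81.isIrrCharacter_comp_equiv ι.symm hθ'⟩, ?_, ?_⟩
  · have h1 := Cfsg.Agent.Helper81.classInner_comp_equiv ι
      (fun n : N => (χ : G → ℂ) ⟨n, hNG n.2⟩) (fun n : N => θ' (ι.symm n))
    have h2 : (fun x : N' => (fun n : N => θ' (ι.symm n)) (ι x)) = θ' := by
      funext x
      simp
    have h3 : (fun x : N' => (fun n : N => (χ : G → ℂ) ⟨n, hNG n.2⟩) (ι x)) =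
        fun n' : N' => (χ : G → ℂ) n' := by
      funext x
      rfl
    rw [h2, h3] at h1
    show Cfsg.classInner (fun n : N => (χ : G → ℂ) ⟨n, hNG n.2⟩) (fun n : N => θ' (ι.symm n)) ≠ 0
    rw [← h1]
    exact hne'
  · intro s hs g g' hgg'
    show θ' (ι.symm g') = θ' (ι.symm g)
    have h1 := hθ'inv ⟨s, hs⟩ (ι.symm g)
    rw [← h1]
    congr 1
    apply Subtype.ext
    apply Subtype.ext
    rw [hσ]
    have h2 : (((ι.symm g' : N') : G) : Γ) = (g' : Γ) := by
      rw [← hι (ι.symm g'), MulEquiv.apply_symm_apply]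
    have h3 : (((ι.symm g : N') : G) : Γ) = (g : Γ) := by
      rw [← hι (ι.symm g), MulEquiv.apply_symm_apply]
    rw [h2, h3, hgg']

end Cfsg.Agent.S4447
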