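import Cfsg.Statements.S4459
-- import your own Cfsg.Agent.* helpers here
import Cfsg.Agent.S4457
import Cfsg.Agent.S0169
import Cfsg.Agent.Lib.Helper76.CDP7
import Cfsg.Agent.Lib.Helper79.CenterDegree
import Cfsg.Agent.Lib.Helper79.Restrict

set_option autoImplicit false
set_option linter.style.haveILetI false
open Cfsg

namespace Cfsg.Agent.S4459

/-- Let G be a non-abelian finite group and p a prime. Then the irreducible character degrees of G are exactly 1 and p if and only if either G has an abelian normal subgroup of index p or the centre of G has index p³. -/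
theorem result {G : Type*} [Group G] [Finite G] (hG : ∃ a b : G, a * b ≠ b * a) (p : ℕ) (hp : p.Prime) : ((∀ χ : Cfsg.IrrCharacter G, Cfsg.charDegree (χ : G → ℂ) = 1 ∨ Cfsg.charDegree (χ : G → ℂ) = p) ∧ ∃ χ : Cfsg.IrrCharacter G, Cfsg.charDegree (χ : G → ℂ) = p) ↔ ((∃ A : Subgroup G, A.Normal ∧ (∀ a ∈ A, ∀ b ∈ A, a * b = b * a) ∧ A.index = p) ∨ (Subgroup.center G).index = p ^ 3) := by
  classical
  haveI : Fintype G := Fintype.ofFinite G
  obtain ⟨a₀, b₀, hab⟩ := hG
  have hdeg : ∀ χ : Cfsg.IrrCharacter G, ∀ d : ℕ,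
      (∀ {n : ℕ} (ρ : Representation ℂ G (Fin n → ℂ)), ρ.IsIrreducible →
        Module.finrank ℂ (Fin n → ℂ) ∣ d) → Cfsg.charDegree (χ : G → ℂ) ∣ d := by
    intro χ d h
    obtain ⟨n, ρ, hirr, hχ⟩ := χ.2
    have h2 : Cfsg.charDegree (χ : G → ℂ) = Module.finrank ℂ (Fin n → ℂ) := by
      unfold Cfsg.charDegree
      rw [← hχ, Representation.char_one]
      simp
    rw [h2]
    exact h ρ hirr
  have hexists : (∀ χ : Cfsg.IrrCharacter G, Cfsg.charDegree (χ : G → ℂ) = 1 ∨
      Cfsg.charDegree (χ : G → ℂ) = p) → ∃ χ : Cfsg.IrrCharacter G,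
      Cfsg.charDegree (χ : G → ℂ) = p := by
    intro hcd
    by_contra hne
    push Not at hne
    apply hab
    apply Cfsg.Agent.Helper76.CD2.comm_of_all_linear
    intro χ
    rcases hcd χ with h | h
    · exact h
    · exact absurd h (hne χ)
  constructor
  · rintro ⟨hcd, hm⟩
    rcases Cfsg.Agent.S4457.result p hcd hm hp.ne_one with h | h
    · exact Or.inl h
    · obtain ⟨q, e, hq, hpe, P, A, hPn, hAn, hP, hAc, hPA, hPAtop⟩ := h
      have hqp : q = p := by
        have := (Nat.Prime.pow_eq_iff hp).1 hpe.symm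
        exact this.1
      subst hqp
      -- `A` is central
      have hAZ : A ≤ Subgroup.center G := by
        intro a ha
        rw [Subgroup.mem_center_iff]
        intro g
        have hg : g ∈ ((P ⊔ A : Subgroup G) : Set G) := by rw [hPAtop]; trivial
        rw [Subgroup.mul_normal] at hg
        obtain ⟨u, hu, a', ha', rfl⟩ := Set.mem_mul.1 hg
        have c1 : Commute u a :=
          Subgroup.commute_of_normal_of_disjoint P A hPn hAn (disjoint_iff.2 hPA) u a hu ha
        have c2 : Commute a' a := hAc a' ha' a ha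
        exact (c1.mul_left c2)
      have hZ : ∀ g : G, ∃ k : ℕ, g ^ q ^ k ∈ Subgroup.center G := by
        intro g
        have hg : g ∈ ((P ⊔ A : Subgroup G) : Set G) := by rw [hPAtop]; trivial
        rw [Subgroup.mul_normal] at hg
        obtain ⟨u, hu, a', ha', rfl⟩ := Set.mem_mul.1 hg
        obtain ⟨k, hk⟩ := hP ⟨u, hu⟩
        refine ⟨k, ?_⟩
        have c1 : Commute u a' :=
          Subgroup.commute_of_normal_of_disjoint P A hPn hAn (disjoint_iff.2 hPA) u a' hu ha'
        rw [c1.mul_pow]
        have hk' : u ^ q ^ k = 1 := by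
          have := congrArg Subtype.val hk
          simpa using this
        rw [hk', one_mul]
        exact hAZ (A.pow_mem ha' _)
      by_cases hex : ∃ A' : Subgroup G, A'.Normal ∧ (∀ a ∈ A', ∀ b ∈ A', a * b = b * a) ∧
          A'.index ∣ q
      · left
        obtain ⟨A', hA'n, hA'c, hA'i⟩ := hex
        refine ⟨A', hA'n, hA'c, ?_⟩
        rcases (Nat.dvd_prime hp).1 hA'i with h1 | h1
        · exfalso
          have htop : A' = ⊤ := Subgroup.index_eq_one.1 h1
          apply hab
          exact hA'c a₀ (by rw [htop]; trivial) b₀ (by rw [htop]; trivial)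
        · exact h1
      · right
        exact Cfsg.Agent.Helper76.CDP.center_index q hp hcd hZ hex
  · intro h
    have hcd : ∀ χ : Cfsg.IrrCharacter G, Cfsg.charDegree (χ : G → ℂ) = 1 ∨
        Cfsg.charDegree (χ : G → ℂ) = p := by
      rcases h with ⟨A, hAn, hAc, hAi⟩ | hZ
      · intro χ
        haveI := hAn
        have h1 : Cfsg.charDegree (χ : G → ℂ) ∣ p := by
          apply hdeg χ p
          intro n ρ hirr
          haveI := hirr
          rw [← hAi]
          exact Cfsg.Agent.S0169.result ρ A hAc
        exact (Nat.dvd_prime hp).1 h1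
      · intro χ
        have h1 : Cfsg.charDegree (χ : G → ℂ) ∣ p ^ 3 := by
          apply hdeg χ (p ^ 3)
          intro n ρ hirr
          haveI := hirr
          rw [← hZ]
          exact Cfsg.Agent.Helper79.finrank_dvd_index_center ρ
        obtain ⟨j, hj, hdj⟩ := (Nat.dvd_prime_pow hp).1 h1
        have h2 := Cfsg.Agent.Helper79.card_central_mul_sq_le χ (Subgroup.center G) le_rfl
        have h3 := Subgroup.index_mul_card (Subgroup.center G)
        rw [hZ] at h3
        rw [← h3, hdj, mul_comm] at h2
        have hpos : 0 < Nat.card (Subgroup.center G) := Nat.card_pos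
        have h4 : (p ^ j) ^ 2 ≤ p ^ 3 := Nat.le_of_mul_le_mul_right h2 hpos
        rw [← pow_mul] at h4
        have h5 := (Nat.pow_le_pow_iff_right hp.one_lt).1 h4
        have hj1 : j = 0 ∨ j = 1 := by omega
        rcases hj1 with h6 | h6
        · left; rw [hdj, h6, pow_zero]
        · right; rw [hdj, h6, pow_one]
    exact ⟨hcd, hexists hcd⟩

end Cfsg.Agent.S4459
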