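import Cfsg.Statements.S4460
-- import your own Cfsg.Agent.* helpers here
import Cfsg.Agent.Lib.Helper55.CD3Main
import Cfsg.Agent.Lib.Helper1.CD3.Main

set_option autoImplicit false
open Cfsg

namespace Cfsg.Agent.S4460

/-- A finite group with exactly three distinct irreducible character degrees is solvable of derived length at most 3: its third derived subgroup is trivial. -/
theorem result {G : Type*} [Group G] [Finite G] (hcd : Nat.card {n : ℕ // ∃ χ : Cfsg.IrrCharacter G, Cfsg.charDegree (χ : G → ℂ) = n} = 3) : derivedSeries G 3 = ⊥ := by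
  refine Cfsg.Agent.Helper55.CD3W.main_of ?_ hcd
  intro F hF hFs p a d hp ha h1 h2
  haveI : Fact p.Prime := ⟨hp⟩
  exact Cfsg.Agent.Helper1.CD3.main F hF hFs p a d ha h1 h2

end Cfsg.Agent.S4460
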