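import Cfsg.Statements.S4461
import Cfsg.Agent.Lib.Helper81.CharRam
import Cfsg.Agent.Lib.Helper81.CharProd
import Cfsg.Agent.Lib.Helper81.CharCorr
import Cfsg.Agent.Lib.Helper79.Inflation
import Cfsg.Agent.Lib.Helper3.CharDecomp
import Cfsg.Agent.Lib.Helper3.Spectral
import Cfsg.Agent.Lib.Helper10.SylowNormal
import Cfsg.Agent.Lib.Helper70.Fitting
import Cfsg.Agent.Lib.Helper31.ItoFactor
import Cfsg.Agent.S0858

set_option autoImplicit false
set_option linter.style.haveILetI false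
open Cfsg

namespace Cfsg.Agent.S4461

open Cfsg.Agent.Helper81 Cfsg.Agent.Helper79
open scoped ComplexConjugate
open scoped commutatorElement

universe u

section chars

variable {G : Type u} [Group G] [Finite G]

/-- character values are bounded by the degree -/
theorem norm_le_of_isCharacter {α : G → ℂ} (hα : IsCharacter G α) (n : ℕ) (h1 : α 1 = n) (g : G) :
    ‖α g‖ ≤ (n : ℝ) := by
  obtain ⟨k, ρ, rfl⟩ := hα
  have h := Cfsg.Agent.Helper3.norm_char_le ρ g
  rw [Representation.char_one] at h1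
  have : (Module.finrank ℂ (Fin k → ℂ) : ℝ) = n := by exact_mod_cast h1
  rw [this] at h
  exact h

/-- restriction to a supplement of a normal subgroup of the kernel stays irreducible -/
theorem restrict_irr_of_sup_eq_top (X M : Subgroup G) [X.Normal] (ψ : IrrCharacter G)
    (hX : X ≤ irrKer ψ) (hXM : X ⊔ M = ⊤) :
    IsIrrCharacter M (fun m : M => (ψ : G → ℂ) m) := by
  obtain ⟨ψ', hψ'⟩ := exists_deflate X ψ hX
  obtain ⟨n, σ, hσ, hσc⟩ := ψ'.2
  let f : M →* G ⧸ X := (QuotientGroup.mk' X).comp M.subtype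
  have hf : Function.Surjective f := by
    intro y
    obtain ⟨g, rfl⟩ := QuotientGroup.mk'_surjective X y
    have hg : g ∈ X ⊔ M := by rw [hXM]; exact Subgroup.mem_top g
    rw [Subgroup.mem_sup_of_normal_left] at hg
    obtain ⟨x, hx, m, hm, rfl⟩ := hg
    refine ⟨⟨m, hm⟩, ?_⟩
    simp only [f, MonoidHom.comp_apply, Subgroup.subtype_apply, QuotientGroup.mk'_apply]
    rw [QuotientGroup.eq]
    have : m⁻¹ * (x * m) = m⁻¹ * x * m := by group
    rw [this]
    exact Subgroup.Normal.conj_mem' inferInstance x hx m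
  haveI := hσ
  have hirr := isIrreducible_comp_of_surjective σ f hf
  refine ⟨n, σ.comp f, hirr, ?_⟩
  funext m
  have h1 : (ψ : G → ℂ) m = (ψ' : G ⧸ X → ℂ) (QuotientGroup.mk (m : G)) := by
    rw [← hψ']; rfl
  rw [h1, ← hσc]
  rfl

/-- the key dichotomy for `χ · 1_M^G` -/
theorem lemmaA (χ : IrrCharacter G) (M : Subgroup G) (hKM : irrKer χ ⊔ M = ⊤) :
    (∃ ψ : IrrCharacter G, charDegree (χ : G → ℂ) < charDegree (ψ : G → ℂ) ∧
      ∃ η : M → ℂ, IsCharacter M η ∧ ∀ m : M, (ψ : G → ℂ) m = (χ : G → ℂ) m + η m) ∨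
    (∀ m ∈ M, (χ : G → ℂ) m = 0 ∨ ∀ g : G, g⁻¹ * m * g ∈ M) := by
  classical
  haveI : Fintype G := Fintype.ofFinite G
  haveI : Fintype M := Fintype.ofFinite M
  haveI : Fintype (IrrCharacter G) := @Fintype.ofFinite _ Helper81.irr_finite
  set φ : M → ℂ := fun m : M => (χ : G → ℂ) m with hφdef
  have hφ : IsIrrCharacter M φ := restrict_irr_of_sup_eq_top (irrKer χ) M χ le_rfl hKM
  by_cases hA : ∃ ψ : IrrCharacter G, charDegree (χ : G → ℂ) < charDegree (ψ : G → ℂ) ∧
      classInner (fun m : M => (ψ : G → ℂ) m) φ ≠ 0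
  · left
    obtain ⟨ψ, hdeg, hne⟩ := hA
    obtain ⟨η, hη, hadd⟩ := exists_add_of_classInner_ne_zero
      (isCharacter_restrict M (IsIrrCharacter.isCharacter ψ.2)) hφ hne
    refine ⟨ψ, hdeg, η, hη, fun m => ?_⟩
    have := congrFun hadd m
    simpa [hφdef] using this
  right
  push Not at hA
  set θ : G → ℂ := indFun M φ with hθdef
  have hθcf : IsClassFunction G θ := indFun_isClassFunction M φ
  have hexp := class_function_expansion hθcf
  have hc : ∀ ψ : IrrCharacter G, classInner θ (ψ : G → ℂ) =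
      classInner φ (fun m : M => (ψ : G → ℂ) m) := fun ψ =>
    frobenius_reciprocity M φ (isClassFunction_of_isCharacter (IsIrrCharacter.isCharacter ψ.2))
  obtain ⟨hχ1, hχpos⟩ := irr_one_eq χ
  have hkey : ∀ ψ : IrrCharacter G, classInner θ (ψ : G → ℂ) ≠ 0 →
      ∀ m : M, (ψ : G → ℂ) m = (χ : G → ℂ) m := by
    intro ψ hne
    rw [hc ψ] at hne
    have hne' : classInner (fun m : M => (ψ : G → ℂ) m) φ ≠ 0 := by
      rw [classInner_conj_symm]
      intro h0
      apply hne
      have := congrArg conj h0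
      simpa using this
    have hdeg : charDegree (ψ : G → ℂ) ≤ charDegree (χ : G → ℂ) := by
      by_contra hlt
      exact hne' (hA ψ (not_le.mp hlt))
    obtain ⟨η, hη, hadd⟩ := exists_add_of_classInner_ne_zero
      (isCharacter_restrict M (IsIrrCharacter.isCharacter ψ.2)) hφ hne'
    obtain ⟨k, hk⟩ := char_one_nat hη
    obtain ⟨hψ1, _⟩ := irr_one_eq ψ
    have h1 := congrFun hadd 1
    simp only [Pi.add_apply, hφdef, OneMemClass.coe_one] at h1
    rw [hψ1, hχ1, hk] at h1
    have h2 : charDegree (ψ : G → ℂ) = charDegree (χ : G → ℂ) + k := by exact_mod_cast h1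
    have hk0 : k = 0 := by omega
    have hη0 : η = 0 := eq_zero_of_char_one_eq_zero hη (by rw [hk, hk0]; simp)
    intro m
    have := congrFun hadd m
    rw [hη0] at this
    simpa [hφdef] using this
  set C : ℂ := ∑ ψ : IrrCharacter G, classInner θ (ψ : G → ℂ) with hCdef
  have hθM : ∀ m ∈ M, θ m = C * (χ : G → ℂ) m := by
    intro m hm
    conv_lhs => rw [hexp]
    simp only [Finset.sum_apply, Pi.smul_apply, smul_eq_mul]
    rw [hCdef, Finset.sum_mul]
    apply Finset.sum_congr rfl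
    intro ψ _
    by_cases h0 : classInner θ (ψ : G → ℂ) = 0
    · rw [h0, zero_mul, zero_mul]
    · rw [hkey ψ h0 ⟨m, hm⟩]
  have hχ1ne : (χ : G → ℂ) 1 ≠ 0 := by
    rw [hχ1]; exact_mod_cast hχpos.ne'
  have hCidx : C = (M.index : ℂ) := by
    have h1 := hθM 1 M.one_mem
    have h2 : θ 1 = (M.index : ℂ) * φ 1 := indFun_one M φ
    rw [h2] at h1
    simp only [hφdef, OneMemClass.coe_one] at h1
    exact (mul_right_cancel₀ hχ1ne h1).symm
  intro m hm
  by_cases hχm : (χ : G → ℂ) m = 0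
  · left; exact hχm
  right
  have h1 := hθM m hm
  rw [hCidx, hθdef, indFun_apply] at h1
  have hterm : ∀ x : G, extendByZero M φ (x⁻¹ * m * x) =
      if x⁻¹ * m * x ∈ M then (χ : G → ℂ) m else 0 := by
    intro x
    by_cases hx : x⁻¹ * m * x ∈ M
    · rw [if_pos hx, extendByZero_apply_mem M φ hx]
      simp only [hφdef]
      have := irr_class χ m x⁻¹
      rw [inv_inv] at this
      exact this
    · rw [if_neg hx, extendByZero_apply_not_mem M φ hx]
  simp only [hterm] at h1
  rw [← Finset.sum_filter, Finset.sum_const, nsmul_eq_mul, ← mul_assoc] at h1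
  have h2 := mul_right_cancel₀ hχm h1
  have hMcard : (Nat.card M : ℂ) ≠ 0 := by exact_mod_cast (Nat.card_pos (α := M)).ne'
  have h3 : ((Finset.univ.filter (fun x : G => x⁻¹ * m * x ∈ M)).card : ℂ) =
      (Nat.card M : ℂ) * (M.index : ℂ) := by
    rw [← h2]; field_simp
  have h4 : (Finset.univ.filter (fun x : G => x⁻¹ * m * x ∈ M)).card = Nat.card G := by
    rw [← Subgroup.card_mul_index M]
    exact_mod_cast h3
  rw [Nat.card_eq_fintype_card, ← Finset.card_univ, Finset.card_filter_eq_iff] at h4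
  intro g
  exact h4 g (Finset.mem_univ g)

/-- a constituent's kernel meets `M` inside the kernel of `χ` -/
theorem ker_inf_le (χ ψ : IrrCharacter G) (M : Subgroup G) (η : M → ℂ) (hη : IsCharacter M η)
    (hadd : ∀ m : M, (ψ : G → ℂ) m = (χ : G → ℂ) m + η m) :
    irrKer ψ ⊓ M ≤ irrKer χ := by
  intro x hx
  have hxψ : x ∈ irrKer ψ := hx.1
  have hxM : x ∈ M := hx.2
  rw [mem_irrKer] at hxψ ⊢
  obtain ⟨hχ1, _⟩ := irr_one_eq χ
  obtain ⟨b, hb⟩ := char_one_nat hη
  have h1 := hadd ⟨x, hxM⟩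
  have h2 := hadd 1
  simp only [OneMemClass.coe_one] at h2
  simp only at h1
  have hres : IsCharacter M (fun m : M => (χ : G → ℂ) m) :=
    isCharacter_restrict M (IsIrrCharacter.isCharacter χ.2)
  have hn1 : ‖(χ : G → ℂ) x‖ ≤ (charDegree (χ : G → ℂ) : ℝ) :=
    norm_le_of_isCharacter (IsIrrCharacter.isCharacter χ.2) _ hχ1 x
  have hn2 : ‖η ⟨x, hxM⟩‖ ≤ (b : ℝ) := norm_le_of_isCharacter hη b hb ⟨x, hxM⟩
  set a := charDegree (χ : G → ℂ) with ha
  set z := (χ : G → ℂ) x with hz
  set w := η ⟨x, hxM⟩ with hw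
  have hsum : z + w = (a : ℂ) + (b : ℂ) := by
    rw [← h1, hxψ, h2, hχ1, hb]
  have hre : z.re + w.re = (a : ℝ) + (b : ℝ) := by
    have := congrArg Complex.re hsum
    simpa using this
  have hzre : z.re ≤ ‖z‖ := Complex.re_le_norm z
  have hwre : w.re ≤ ‖w‖ := Complex.re_le_norm w
  have hzre' : z.re = (a : ℝ) := by linarith
  have hnz : ‖z‖ = (a : ℝ) := by linarith
  have hsq : z.re ^ 2 + z.im ^ 2 = (a : ℝ) ^ 2 := by
    rw [← hnz, ← Complex.normSq_eq_norm_sq, Complex.normSq_apply]; ring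
  have him : z.im = 0 := by
    rw [hzre'] at hsq
    nlinarith
  rw [hχ1]
  apply Complex.ext
  · simpa using hzre'
  · simpa using him

/-- if the kernel of a constituent supplements `M`, degrees agree -/
theorem deg_eq_of_sup_eq_top (χ ψ : IrrCharacter G) (M : Subgroup G) (hKM : irrKer χ ⊔ M = ⊤)
    (η : M → ℂ) (hη : IsCharacter M η)
    (hadd : ∀ m : M, (ψ : G → ℂ) m = (χ : G → ℂ) m + η m)
    (X : Subgroup G) [X.Normal] (hX : X ≤ irrKer ψ) (hXM : X ⊔ M = ⊤) :
    charDegree (ψ : G → ℂ) = charDegree (χ : G → ℂ) := by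
  classical
  haveI : Fintype M := Fintype.ofFinite M
  have hφ : IsIrrCharacter M (fun m : M => (χ : G → ℂ) m) :=
    restrict_irr_of_sup_eq_top (irrKer χ) M χ le_rfl hKM
  have hψM : IsIrrCharacter M (fun m : M => (ψ : G → ℂ) m) :=
    restrict_irr_of_sup_eq_top X M ψ hX hXM
  have hfun : (fun m : M => (ψ : G → ℂ) m) = (fun m : M => (χ : G → ℂ) m) + η := by
    funext m; exact hadd m
  obtain ⟨k, hk⟩ := exists_nat_classInner_char hη (IsIrrCharacter.isCharacter hφ)
  have h1 : classInner (fun m : M => (ψ : G → ℂ) m) (fun m : M => (χ : G → ℂ) m) =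
      1 + (k : ℂ) := by
    rw [hfun, classInner_add_left, hk, irr_orthonormal hφ hφ, if_pos rfl]
  have h2 := irr_orthonormal hψM hφ
  rw [h1] at h2
  by_cases heq : (fun m : M => (ψ : G → ℂ) m) = (fun m : M => (χ : G → ℂ) m)
  · have := congrFun heq 1
    simp only [OneMemClass.coe_one] at this
    obtain ⟨hχ1, _⟩ := irr_one_eq χ
    obtain ⟨hψ1, _⟩ := irr_one_eq ψ
    rw [hχ1, hψ1] at this
    exact_mod_cast this
  · rw [if_neg heq] at h2
    exfalso
    have : ((1 + k : ℕ) : ℂ) = 0 := by push_cast; exact h2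
    have : 1 + k = 0 := by exact_mod_cast this
    omega

/-- the conclusion from the first alternative of `lemmaA` for a maximal subgroup -/
theorem ker_lt_of_coatom (χ ψ : IrrCharacter G) (M : Subgroup G) (hM : IsCoatom M)
    (hKM : irrKer χ ⊔ M = ⊤)
    (hdeg : charDegree (χ : G → ℂ) < charDegree (ψ : G → ℂ))
    (η : M → ℂ) (hη : IsCharacter M η)
    (hadd : ∀ m : M, (ψ : G → ℂ) m = (χ : G → ℂ) m + η m) :
    irrKer ψ < irrKer χ := by
  have hLM : irrKer ψ ≤ M := by
    by_contra hnot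
    have hlt : M < irrKer ψ ⊔ M := by
      refine lt_of_le_of_ne le_sup_right ?_
      intro heq
      apply hnot
      rw [heq]
      exact le_sup_left
    have htop := hM.2 _ hlt
    have := deg_eq_of_sup_eq_top χ ψ M hKM η hη hadd (irrKer ψ) le_rfl htop
    omega
  have hle : irrKer ψ ≤ irrKer χ := by
    have := ker_inf_le χ ψ M η hη hadd
    rwa [inf_of_le_left hLM] at this
  refine lt_of_le_of_ne hle ?_
  intro heq
  apply hM.1
  rw [← hKM, ← heq]
  exact (sup_of_le_right hLM).symm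

end chars

section groups

variable {G : Type u} [Group G] [Finite G]

/-- a normal subgroup all of whose "Sylow traces" are normal is nilpotent -/
theorem le_fitting_of_sylow_inf_normal (K : Subgroup G) [hKn : K.Normal]
    (h : ∀ (q : ℕ) [Fact q.Prime] (S : Sylow q G), ((S : Subgroup G) ⊓ K).Normal) :
    K ≤ fittingSubgroup G := by
  apply le_sSup
  refine ⟨hKn, ?_⟩
  apply (Group.isNilpotent_of_finite_tfae.out 0 3).mpr
  intro p hp P
  have hP : IsPGroup p ((P : Subgroup K).map K.subtype) := P.2.map _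
  obtain ⟨S, hS⟩ := hP.exists_le_sylow
  have hT : IsPGroup p (((S : Subgroup G) ⊓ K).subgroupOf K) :=
    (S.isPGroup'.to_le inf_le_left).comap_subtype
  have hPT : (P : Subgroup K) ≤ ((S : Subgroup G) ⊓ K).subgroupOf K := by
    intro x hx
    rw [Subgroup.mem_subgroupOf]
    exact ⟨hS (Subgroup.mem_map_of_mem _ hx), x.2⟩
  have heq := P.is_maximal' hT hPT
  rw [← heq]
  exact (h p S).subgroupOf K

theorem case1 (χ : IrrCharacter G) (hK : ¬ irrKer χ ≤ fittingSubgroup G) :
    ∃ ψ : IrrCharacter G, charDegree (χ : G → ℂ) < charDegree (ψ : G → ℂ) ∧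
      irrKer ψ < irrKer χ := by
  classical
  set K := irrKer χ with hKdef
  have hex : ∃ (q : ℕ) (_ : Fact q.Prime) (S : Sylow q G), ¬ ((S : Subgroup G) ⊓ K).Normal := by
    by_contra hcon
    push Not at hcon
    exact hK (le_fitting_of_sylow_inf_normal K (fun q hq S => hcon q hq S))
  obtain ⟨q, hq, S, hQn⟩ := hex
  set Q : Subgroup G := (S : Subgroup G) ⊓ K with hQdef
  have hNtop : Subgroup.normalizer (Q : Set G) ≠ ⊤ := by
    intro h
    exact hQn (Subgroup.normalizer_eq_top_iff.mp h)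
  obtain ⟨M, hM, hNM⟩ := (eq_top_or_exists_le_coatom (Subgroup.normalizer (Q : Set G))).resolve_left
    hNtop
  have hfrat := Cfsg.Agent.Helper10.normalizer_sylow_inf_sup_eq_top S K
  have hKM : K ⊔ M = ⊤ := by
    rw [eq_top_iff, ← hfrat, sup_comm]
    exact sup_le_sup_left hNM K
  rcases lemmaA χ M hKM with ⟨ψ, hdeg, η, hη, hadd⟩ | h2
  · exact ⟨ψ, hdeg, ker_lt_of_coatom χ ψ M hM hKM hdeg η hη hadd⟩
  · exfalso
    obtain ⟨hχ1, hχpos⟩ := irr_one_eq χ
    have hχ1ne : (χ : G → ℂ) 1 ≠ 0 := by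
      rw [hχ1]; exact_mod_cast hχpos.ne'
    have hKMY : K ⊓ M ≤ M.normalCore := by
      intro x hx
      have hxK : x ∈ K := hx.1
      have hxM : x ∈ M := hx.2
      rw [hKdef, mem_irrKer] at hxK
      rcases h2 x hxM with h0 | hall
      · rw [hxK] at h0; exact absurd h0 hχ1ne
      · intro b
        have := hall b⁻¹
        simpa using this
    have hQM : Q ≤ M := le_trans Subgroup.le_normalizer hNM
    have hQY : Q ≤ M.normalCore := le_trans (le_inf inf_le_right hQM) hKMY
    haveI : (M.normalCore ⊓ K).Normal := inferInstance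
    have hSN : (S : Subgroup G) ⊓ (M.normalCore ⊓ K) = Q := by
      apply le_antisymm
      · exact le_inf inf_le_left (le_trans inf_le_right inf_le_right)
      · exact le_inf inf_le_left (le_inf hQY inf_le_right)
    have hfrat2 := Cfsg.Agent.Helper10.normalizer_sylow_inf_sup_eq_top S (M.normalCore ⊓ K)
    rw [hSN] at hfrat2
    apply hM.1
    rw [eq_top_iff, ← hfrat2]
    exact sup_le hNM (le_trans inf_le_left (Subgroup.normalCore_le M))

/-- a chief factor over `K` with solvable quotient has prime exponent -/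
theorem exists_prime_exponent_over (K : Subgroup G) [hKn : K.Normal] (hne : K ≠ ⊤)
    (hsolv : Group.IsSolvable (G ⧸ K)) :
    ∃ (E₀ : Subgroup G) (q : ℕ), E₀.Normal ∧ q.Prime ∧ K < E₀ ∧ ∀ x ∈ E₀, x ^ q ∈ K := by
  obtain ⟨E₀, hE₀n, hKE₀, hcomm, hchief⟩ := Cfsg.Agent.S0858.exists_chief K hne hsolv
  set π := QuotientGroup.mk' K with hπ
  have hπs : Function.Surjective π := QuotientGroup.mk'_surjective K
  have hker : π.ker = K := QuotientGroup.ker_mk' K
  have hEbar_n : (E₀.map π).Normal := hE₀n.map π hπs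
  have hEbar_ne : E₀.map π ≠ ⊥ := by
    intro h0
    rw [Subgroup.map_eq_bot_iff, hker] at h0
    exact (not_le_of_gt hKE₀) h0
  have hcomm' : ∀ x ∈ E₀.map π, ∀ y ∈ E₀.map π, x * y = y * x := by
    rintro _ ⟨a, ha, rfl⟩ _ ⟨b, hb, rfl⟩
    rw [← map_mul, ← map_mul]
    apply (QuotientGroup.eq (s := K)).mpr
    have hc : ⁅a⁻¹, b⁻¹⁆ ∈ ⁅E₀, E₀⁆ :=
      Subgroup.commutator_mem_commutator (E₀.inv_mem ha) (E₀.inv_mem hb)
    have := hcomm hc
    rw [commutatorElement_def] at this
    have h2 : (a * b)⁻¹ * (b * a) = (a⁻¹ * b⁻¹ * a⁻¹⁻¹ * b⁻¹⁻¹)⁻¹ := by group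
    rw [h2]
    exact K.inv_mem this
  have hmin : ∀ Mb : Subgroup (G ⧸ K), Mb.Normal → Mb ≠ ⊥ → Mb ≤ E₀.map π → Mb = E₀.map π := by
    intro Mb hMbn hMb1 hMbE
    have hCn : (Mb.comap π).Normal := hMbn.comap π
    have hKC : K ≤ Mb.comap π := by
      have := Subgroup.ker_le_comap π Mb
      rwa [hker] at this
    have hCE : Mb.comap π ≤ E₀ := by
      intro x hx
      rw [Subgroup.mem_comap] at hx
      obtain ⟨e, he, hex⟩ := hMbE hx
      have : e⁻¹ * x ∈ K := (QuotientGroup.eq (s := K)).mp hex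
      have h3 : x = e * (e⁻¹ * x) := by group
      rw [h3]
      exact E₀.mul_mem he (hKE₀.le this)
    rcases hchief _ hCn hKC hCE with h1 | h1
    · exfalso
      apply hMb1
      rw [← Subgroup.map_comap_eq_self_of_surjective hπs Mb, h1,
        Subgroup.map_eq_bot_iff, hker]
    · rw [← Subgroup.map_comap_eq_self_of_surjective hπs Mb, h1]
  obtain ⟨q, hq, hexp⟩ := Cfsg.Agent.Helper31.Ito.exists_prime_exponent (E₀.map π) hEbar_n
    hEbar_ne hcomm' hmin
  refine ⟨E₀, q, hE₀n, hq, hKE₀, ?_⟩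
  intro x hx
  have := hexp (π x) (Subgroup.mem_map_of_mem π hx)
  rw [← map_pow] at this
  rw [← hker]
  exact this

/-- a normal subgroup on which `χ` has non-negative "trivial" mean lies in the kernel -/
theorem le_irrKer_of_values (χ : IrrCharacter G) (E : Subgroup G) [hEn : E.Normal]
    (hvals : ∀ x ∈ E, (χ : G → ℂ) x = 0 ∨ (χ : G → ℂ) x = (χ : G → ℂ) 1) :
    E ≤ irrKer χ := by
  classical
  haveI : Fintype G := Fintype.ofFinite G
  haveI : Fintype E := Fintype.ofFinite E
  obtain ⟨hχ1, hχpos⟩ := irr_one_eq χ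
  have hχ1ne : (χ : G → ℂ) 1 ≠ 0 := by
    rw [hχ1]; exact_mod_cast hχpos.ne'
  have hsum : ∑ n : E, (χ : G → ℂ) n =
      ((Finset.univ.filter (fun n : E => (χ : G → ℂ) n = (χ : G → ℂ) 1)).card : ℂ) *
        (χ : G → ℂ) 1 := by
    rw [← nsmul_eq_mul, ← Finset.sum_const, Finset.sum_filter]
    apply Finset.sum_congr rfl
    intro n _
    rcases hvals n n.2 with h0 | h1
    · rw [h0, if_neg]
      exact fun h => hχ1ne h.symm
    · rw [if_pos h1, h1]
  have hcardpos : 0 < (Finset.univ.filter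
      (fun n : E => (χ : G → ℂ) n = (χ : G → ℂ) 1)).card := by
    apply Finset.card_pos.mpr
    exact ⟨1, by simp⟩
  have hne : classInner (fun n : E => (χ : G → ℂ) n) (fun _ : E => (1 : ℂ)) ≠ 0 := by
    unfold classInner
    simp only [map_one, mul_one]
    rw [hsum]
    apply mul_ne_zero
    · apply inv_ne_zero
      exact_mod_cast (Nat.card_pos (α := E)).ne'
    · apply mul_ne_zero _ hχ1ne
      exact_mod_cast hcardpos.ne'
  have hinv : ∀ g : G, conjFun E hEn (fun _ : E => (1 : ℂ)) g = fun _ : E => (1 : ℂ) := by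
    intro g; rfl
  have hres := restrict_eq_smul_of_invariant E hEn χ.2
    (Cfsg.Agent.Helper3.isIrrCharacter_one (G := E)) hne hinv
  intro x hx
  rw [mem_irrKer]
  have h1 := congrFun hres ⟨x, hx⟩
  have h2 := congrFun hres 1
  simp only [Pi.smul_apply, smul_eq_mul, mul_one, OneMemClass.coe_one] at h1 h2
  rw [h1, h2]

theorem case2 (χ : IrrCharacter G) (hK : irrKer χ = fittingSubgroup G)
    (hsolv : Group.IsSolvable (G ⧸ irrKer χ)) (hne : irrKer χ ≠ ⊤) :
    ∃ ψ : IrrCharacter G, charDegree (χ : G → ℂ) < charDegree (ψ : G → ℂ) ∧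
      irrKer ψ < irrKer χ := by
  classical
  set K := irrKer χ with hKdef
  obtain ⟨E₀, q, hE₀n, hq, hKE₀, hexp⟩ := exists_prime_exponent_over K hne hsolv
  haveI : Fact q.Prime := ⟨hq⟩
  -- minimal normal subgroup below `E₀` not inside `K`
  let T : Set (Subgroup G) := {X | X.Normal ∧ X ≤ E₀ ∧ ¬ X ≤ K}
  have hT : T.Nonempty := ⟨E₀, hE₀n, le_rfl, not_le_of_gt hKE₀⟩
  obtain ⟨E, ⟨hEn, hEE₀, hEK⟩, hEmin'⟩ := wellFounded_lt.has_min T hT
  have hEmin : ∀ X : Subgroup G, X.Normal → X ≤ E → ¬ X ≤ K → X = E := by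
    intro X hXn hXE hXK
    by_contra hne'
    exact hEmin' X ⟨hXn, hXE.trans hEE₀, hXK⟩ (lt_of_le_of_ne hXE hne')
  haveI := hEn
  let S : Sylow q G := default
  set Q : Subgroup G := (S : Subgroup G) ⊓ E with hQdef
  -- `E = (E ∩ K) Q`
  have hEQ : E ≤ (E ⊓ K) ⊔ Q := by
    rw [← Subgroup.relIndex_eq_one]
    have h1 : ((E ⊓ K) ⊔ Q).relIndex E ∣ (E ⊓ K).relIndex E :=
      Subgroup.relIndex_dvd_of_le_left E le_sup_left
    have h2 : ((E ⊓ K) ⊔ Q).relIndex E ∣ Q.relIndex E :=
      Subgroup.relIndex_dvd_of_le_left E le_sup_right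
    have h3 : (E ⊓ K).relIndex E = K.relIndex E := by
      rw [inf_comm, Subgroup.inf_relIndex_right]
    have h4 : ∃ k : ℕ, K.relIndex E = q ^ k := by
      have hp : IsPGroup q (↥E ⧸ K.subgroupOf E) := by
        intro y
        obtain ⟨y, rfl⟩ := QuotientGroup.mk_surjective y
        refine ⟨1, ?_⟩
        rw [pow_one, ← QuotientGroup.mk_pow, QuotientGroup.eq_one_iff, Subgroup.mem_subgroupOf]
        simp only [Subgroup.coe_pow]
        exact hexp _ (hEE₀ y.2)
      obtain ⟨k, hk⟩ := IsPGroup.iff_card.mp hp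
      exact ⟨k, by rw [Subgroup.relIndex, Subgroup.index_eq_card, hk]⟩
    have h5 : ¬ q ∣ Q.relIndex E := by
      rw [hQdef, Subgroup.inf_relIndex_right]
      exact Cfsg.Agent.Helper10.not_dvd_relIndex_sylow_normal S E
    obtain ⟨k, hk⟩ := h4
    rw [h3, hk] at h1
    obtain ⟨j, _, hj⟩ := (Nat.dvd_prime_pow hq).mp h1
    rcases Nat.eq_zero_or_pos j with hj0 | hjpos
    · rw [hj, hj0, pow_zero]
    · exfalso
      apply h5
      refine dvd_trans ?_ h2
      rw [hj]
      exact dvd_pow_self q hjpos.ne'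
  have hQp : IsPGroup q Q := S.isPGroup'.to_le inf_le_left
  have hQn : ¬ Q.Normal := by
    intro hn
    haveI := hn
    have h1 : Q ≤ K := by
      rw [hK]
      exact le_trans (Cfsg.Agent.Helper70.le_pCore Q hQp)
        Cfsg.Agent.Helper70.pCore_le_fittingSubgroup
    exact hEK (le_trans hEQ (sup_le inf_le_right h1))
  have hNtop : Subgroup.normalizer (Q : Set G) ≠ ⊤ := by
    intro h
    exact hQn (Subgroup.normalizer_eq_top_iff.mp h)
  obtain ⟨M, hM, hNM⟩ := (eq_top_or_exists_le_coatom (Subgroup.normalizer (Q : Set G))).resolve_left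
    hNtop
  have hQM : Q ≤ M := le_trans Subgroup.le_normalizer hNM
  have hfrat := Cfsg.Agent.Helper10.normalizer_sylow_inf_sup_eq_top S E
  have hKM : K ⊔ M = ⊤ := by
    rw [eq_top_iff, ← hfrat]
    apply sup_le (le_trans hNM le_sup_right)
    refine le_trans hEQ (sup_le (le_trans inf_le_right le_sup_left) (le_trans hQM le_sup_right))
  rcases lemmaA χ M hKM with ⟨ψ, hdeg, η, hη, hadd⟩ | h2
  · exact ⟨ψ, hdeg, ker_lt_of_coatom χ ψ M hM hKM hdeg η hη hadd⟩
  · exfalso
    haveI : (M.normalCore ⊓ E).Normal := inferInstance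
    have hNK : M.normalCore ⊓ E ≤ K := by
      by_contra hnot
      have h1 := hEmin _ inferInstance inf_le_right hnot
      have hEM : E ≤ M := by
        rw [← h1]
        exact le_trans inf_le_left (Subgroup.normalCore_le M)
      apply hM.1
      rw [eq_top_iff, ← hfrat]
      exact sup_le hNM hEM
    haveI : (E ⊓ K).Normal := inferInstance
    have hvals : ∀ x ∈ E, (χ : G → ℂ) x = 0 ∨ (χ : G → ℂ) x = (χ : G → ℂ) 1 := by
      intro x hx
      have hx' := hEQ hx
      rw [Subgroup.mem_sup_of_normal_left] at hx'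
      obtain ⟨f, hf, u, hu, rfl⟩ := hx'
      have hfu : (χ : G → ℂ) (f * u) = (χ : G → ℂ) u := by
        have h3 : f * u = u * (u⁻¹ * f * u) := by group
        rw [h3]
        apply irr_mul_of_mem_irrKer
        exact Subgroup.Normal.conj_mem' inferInstance f hf.2 u
      rw [hfu]
      have huM : u ∈ M := hQM hu
      have huE : u ∈ E := hu.2
      rcases h2 u huM with h0 | hall
      · left; exact h0
      · right
        have huY : u ∈ M.normalCore := by
          intro b
          have := hall b⁻¹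
          simpa using this
        exact (mem_irrKer χ u).mp (hNK ⟨huY, huE⟩)
    exact hEK (le_irrKer_of_values χ E hvals)

end groups

/-- Let χ be an irreducible character of the finite group G and K its kernel (the elements where χ takes the value χ(1)). Suppose either that K is not contained in the Fitting subgroup F(G), or that K = F(G) with G/K solvable and K ≠ G. Then there is an irreducible character ψ of G with ψ(1) > χ(1) whose kernel is properly contained in K. -/
theorem result {G : Type*} [Group G] [Finite G] (χ : Cfsg.IrrCharacter G) (K : Subgroup G) [K.Normal] (hK : (∀ g : G, g ∈ K ↔ (χ : G → ℂ) g = (χ : G → ℂ) 1)) (h : ¬ K ≤ Cfsg.fittingSubgroup G ∨ (K = Cfsg.fittingSubgroup G ∧ Group.IsSolvable (G ⧸ K) ∧ K ≠ ⊤)) : ∃ ψ : Cfsg.IrrCharacter G, Cfsg.charDegree (χ : G → ℂ) < Cfsg.charDegree (ψ : G → ℂ) ∧ ∃ L : Subgroup G, (∀ g : G, g ∈ L ↔ (ψ : G → ℂ) g = (ψ : G → ℂ) 1) ∧ L < K := by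
  have hKeq : K = irrKer χ := by
    ext g; rw [hK, mem_irrKer]
  subst hKeq
  rcases h with h1 | ⟨h1, h2, h3⟩
  · obtain ⟨ψ, hd, hl⟩ := case1 χ h1
    exact ⟨ψ, hd, irrKer ψ, fun g => mem_irrKer ψ g, hl⟩
  · obtain ⟨ψ, hd, hl⟩ := case2 χ h1 h2 h3
    exact ⟨ψ, hd, irrKer ψ, fun g => mem_irrKer ψ g, hl⟩

end Cfsg.Agent.S4461
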