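import Cfsg.Statements.S4462
import Cfsg.Agent.S4461

set_option autoImplicit false
set_option linter.style.haveILetI false
open Cfsg

namespace Cfsg.Agent.S4462

open Cfsg.Agent.Helper81 Cfsg.Agent.Helper79

universe u

/-- the quotient `B / A` is nilpotent (in the dependent form of the statement) -/
def NilQuot {G : Type u} [Group G] (A B : Subgroup G) : Prop :=
  ∀ _h : (A.subgroupOf B).Normal, Group.IsNilpotent (↥B ⧸ A.subgroupOf B)

theorem nilQuot_of_nilpotent {G : Type u} [Group G] (A B : Subgroup G)
    [hB : Group.IsNilpotent ↥B] : NilQuot A B := by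
  intro h
  infer_instance

/-- pulling back a nilpotent section along a surjection -/
theorem nilQuot_comap {G H : Type u} [Group G] [Group H] (π : G →* H)
    (hπ : Function.Surjective π) (A B : Subgroup H) [hA : A.Normal] (h : NilQuot A B) :
    NilQuot (A.comap π) (B.comap π) := by
  intro hn
  haveI : (A.subgroupOf B).Normal := hA.subgroupOf B
  haveI := h inferInstance
  let f : ↥(B.comap π) →* ↥B := π.subgroupComap B
  have hf : Function.Surjective f := MonoidHom.subgroupComap_surjective_of_surjective π B hπ
  let g : ↥(B.comap π) →* ↥B ⧸ A.subgroupOf B := (QuotientGroup.mk' (A.subgroupOf B)).comp f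
  have hg : Function.Surjective g := (QuotientGroup.mk'_surjective _).comp hf
  have hker : g.ker = (A.comap π).subgroupOf (B.comap π) := by
    ext x
    rw [MonoidHom.mem_ker, Subgroup.mem_subgroupOf, Subgroup.mem_comap]
    simp only [g, f, MonoidHom.comp_apply, QuotientGroup.mk'_apply, QuotientGroup.eq_one_iff,
      Subgroup.mem_subgroupOf]
    rfl
  let e := QuotientGroup.quotientKerEquivOfSurjective g hg
  haveI : Group.IsNilpotent (↥(B.comap π) ⧸ g.ker) := Group.nilpotent_of_mulEquiv e.symm
  exact Group.nilpotent_of_mulEquiv (QuotientGroup.quotientMulEquivOfEq hker)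

/-- the set of character degrees -/
def cdSet (G : Type u) [Group G] : Set ℕ :=
  {d : ℕ | ∃ χ : IrrCharacter G, charDegree (χ : G → ℂ) = d}

theorem cdSet_finite (G : Type u) [Group G] [Finite G] : (cdSet G).Finite := by
  haveI : Fintype G := Fintype.ofFinite G
  haveI : Finite (IrrCharacter G) := Helper81.irr_finite
  have : cdSet G = Set.range (fun χ : IrrCharacter G => charDegree (χ : G → ℂ)) := by
    ext d; simp [cdSet]
  rw [this]
  exact Set.finite_range _

theorem one_mem_cdSet (G : Type u) [Group G] [Finite G] : 1 ∈ cdSet G := by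
  haveI : Fintype G := Fintype.ofFinite G
  refine ⟨⟨fun _ => (1 : ℂ), Cfsg.Agent.Helper3.isIrrCharacter_one⟩, ?_⟩
  simp [charDegree]

/-- passing to `G / F(G)` loses the largest character degree -/
theorem ncard_cdSet_quotient_lt (G : Type u) [Group G] [Finite G] (hsolv : Group.IsSolvable G)
    (hF : fittingSubgroup G ≠ ⊤) :
    haveI := Cfsg.Agent.Helper70.fittingSubgroup_normal G
    (cdSet (G ⧸ fittingSubgroup G)).ncard < (cdSet G).ncard := by
  haveI := Cfsg.Agent.Helper70.fittingSubgroup_normal G
  have hfin := cdSet_finite G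
  obtain ⟨b, hb, hbmax⟩ := Set.exists_max_image (cdSet G) id hfin ⟨1, one_mem_cdSet G⟩
  simp only [id] at hbmax
  apply Set.ncard_lt_ncard _ hfin
  refine ⟨?_, ?_⟩
  · rintro d ⟨ψ, rfl⟩
    exact ⟨inflate _ ψ, charDegree_inflate _ ψ⟩
  · intro hsub
    obtain ⟨ψ, hψ⟩ := hsub hb
    set χ := inflate (fittingSubgroup G) ψ with hχ
    have hdeg : charDegree (χ : G → ℂ) = b := by rw [hχ, charDegree_inflate, hψ]
    have hle : fittingSubgroup G ≤ irrKer χ := le_irrKer_inflate _ ψ
    have hbig : ∃ ψ' : IrrCharacter G, charDegree (χ : G → ℂ) < charDegree (ψ' : G → ℂ) := by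
      by_cases hK : irrKer χ ≤ fittingSubgroup G
      · have heq : irrKer χ = fittingSubgroup G := le_antisymm hK hle
        have hne : irrKer χ ≠ ⊤ := by rw [heq]; exact hF
        obtain ⟨ψ', hd, _⟩ := Cfsg.Agent.S4461.case2 χ heq inferInstance hne
        exact ⟨ψ', hd⟩
      · obtain ⟨ψ', hd, _⟩ := Cfsg.Agent.S4461.case1 χ hK
        exact ⟨ψ', hd⟩
    obtain ⟨ψ', hd⟩ := hbig
    have := hbmax _ ⟨ψ', rfl⟩
    omega

theorem aux : ∀ (c : ℕ) (G : Type u) [Group G] [Finite G], Group.IsSolvable G →
    (cdSet G).ncard = c →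
    ∃ N : ℕ → Subgroup G, N 0 = ⊥ ∧ N c = ⊤ ∧ Monotone N ∧ (∀ i, (N i).Normal) ∧
      ∀ i, NilQuot (N i) (N (i + 1)) := by
  intro c
  induction c using Nat.strong_induction_on with
  | _ c ih =>
    intro G _ _ hsolv hc
    have hcpos : 0 < c := by
      rw [← hc]
      exact (Set.ncard_pos (cdSet_finite G)).mpr ⟨1, one_mem_cdSet G⟩
    by_cases hF : fittingSubgroup G = ⊤
    · -- nilpotent case
      haveI hnil : Group.IsNilpotent ↥(⊤ : Subgroup G) := by
        rw [← hF]; exact Cfsg.Agent.Helper70.fittingSubgroup_isNilpotent G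
      refine ⟨fun j => if j = 0 then ⊥ else ⊤, by simp, by simp [hcpos.ne'], ?_, ?_, ?_⟩
      · apply monotone_nat_of_le_succ
        intro j
        by_cases hj : j = 0
        · simp [hj]
        · simp [hj]
      · intro i
        by_cases hi : i = 0
        · simp only [hi, if_true]; infer_instance
        · simp only [hi, if_false]; infer_instance
      · intro i
        simp only [Nat.add_eq_zero_iff, one_ne_zero, and_false, if_false]
        exact nilQuot_of_nilpotent _ _
    · haveI hFn := Cfsg.Agent.Helper70.fittingSubgroup_normal G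
      have hlt := ncard_cdSet_quotient_lt G hsolv hF
      rw [hc] at hlt
      obtain ⟨Nb, hNb0, hNbc, hNbmono, hNbn, hNbq⟩ :=
        ih _ hlt (G ⧸ fittingSubgroup G) inferInstance rfl
      set π := QuotientGroup.mk' (fittingSubgroup G) with hπ
      have hπs : Function.Surjective π := QuotientGroup.mk'_surjective _
      refine ⟨fun j => Nat.casesOn j ⊥ (fun k => (Nb k).comap π), rfl, ?_, ?_, ?_, ?_⟩
      · obtain ⟨k, rfl⟩ : ∃ k, c = k + 1 := ⟨c - 1, by omega⟩
        show (Nb k).comap π = ⊤
        have hle : (cdSet (G ⧸ fittingSubgroup G)).ncard ≤ k := by omega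
        have : Nb k = ⊤ := by
          rw [eq_top_iff, ← hNbc]
          exact hNbmono hle
        rw [this, Subgroup.comap_top]
      · apply monotone_nat_of_le_succ
        intro j
        cases j with
        | zero => exact bot_le
        | succ k => exact Subgroup.comap_mono (hNbmono (Nat.le_succ k))
      · intro i
        cases i with
        | zero => show (⊥ : Subgroup G).Normal; infer_instance
        | succ k => exact (hNbn k).comap π
      · intro i
        cases i with
        | zero =>
          show NilQuot ⊥ ((Nb 0).comap π)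
          have h1 : (Nb 0).comap π = fittingSubgroup G := by
            rw [hNb0, MonoidHom.comap_bot, hπ, QuotientGroup.ker_mk']
          rw [h1]
          haveI := Cfsg.Agent.Helper70.fittingSubgroup_isNilpotent G
          exact nilQuot_of_nilpotent _ _
        | succ k =>
          show NilQuot ((Nb k).comap π) ((Nb (k + 1)).comap π)
          haveI := hNbn k
          exact nilQuot_comap π hπs _ _ (hNbq k)

/-- Let G be a finite solvable group with exactly n distinct irreducible character degrees. Then G has normal subgroups 1 = N₀ ≤ N₁ ≤ ⋯ ≤ Nₙ = G with every quotient N_{i+1}/N_i nilpotent (the nilpotent length of G is at most n). -/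
theorem result {G : Type*} [Group G] [Finite G] (hsolv : Group.IsSolvable G) (n : ℕ) (hcd : Nat.card {d : ℕ // ∃ χ : Cfsg.IrrCharacter G, Cfsg.charDegree (χ : G → ℂ) = d} = n) : ∃ N : Fin (n + 1) → Subgroup G, N 0 = ⊥ ∧ N (Fin.last n) = ⊤ ∧ Monotone N ∧ (∀ i, (N i).Normal) ∧ ∀ i : Fin n, ∀ h : (N i.castSucc).subgroupOf (N i.succ) |>.Normal, Group.IsNilpotent (↥(N i.succ) ⧸ (N i.castSucc).subgroupOf (N i.succ)) := by
  have hc : (cdSet G).ncard = n := by
    rw [← hcd]
    exact (Nat.card_coe_set_eq (cdSet G)).symm
  obtain ⟨N, h0, hn, hmono, hnorm, hq⟩ := aux n G hsolv hc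
  refine ⟨fun i => N i.val, h0, hn, ?_, fun i => hnorm _, ?_⟩
  · intro i j hij
    exact hmono hij
  · intro i h
    exact hq i.val h

end Cfsg.Agent.S4462
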