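import Cfsg.Statements.S4470
import Cfsg.Agent.Lib.Helper75.UnitaryAbelian
import Cfsg.Agent.Lib.Helper79.CharBasic

set_option autoImplicit false
open Cfsg

namespace Cfsg.Agent.S4470

open Matrix ComplexOrder in
theorem unitarize {G : Type*} [Group G] [Finite G] (m : ℕ) (ρ : Representation ℂ G (Fin m → ℂ))
    (hinj : Function.Injective ρ) :
    ∃ A : Subgroup G, A.Normal ∧ (∀ x ∈ A, ∀ y ∈ A, x * y = y * x) ∧
      ∀ H : Subgroup G, (∀ x ∈ H, ∀ y ∈ H, x * y = y * x) →
        (A.subgroupOf H).index ≤ 12 ^ m := by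
  classical
  have := Fintype.ofFinite G
  let U : G → Matrix (Fin m) (Fin m) ℂ := fun g => LinearMap.toMatrix' (ρ g)
  have hU1 : U 1 = 1 := by simp [U]
  have hUmul : ∀ g h, U (g * h) = U g * U h := by
    intro g h; simp only [U, map_mul]; exact LinearMap.toMatrix'_mul _ _
  have hUapp : ∀ g v, ρ g v = U g *ᵥ v := by
    intro g v; simp only [U]; rw [LinearMap.toMatrix'_mulVec]
  let M : Matrix (Fin m) (Fin m) ℂ := ∑ g : G, (U g)ᴴ * U g
  have hM : M.PosDef := by
    apply Matrix.posDef_sum Finset.univ_nonempty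
    intro g _
    apply Matrix.PosDef.conjTranspose_mul_self
    apply Matrix.mulVec_injective_of_isUnit
    refine IsUnit.of_mul_eq_one (U g⁻¹) ?_
    rw [← hUmul, mul_inv_cancel, hU1]
  have hinv : ∀ h, (U h)ᴴ * M * U h = M := by
    intro h
    simp only [M, Finset.mul_sum, Finset.sum_mul]
    refine Fintype.sum_equiv (Equiv.mulRight h) _ _ ?_
    intro g
    simp only [Equiv.coe_mulRight, hUmul, Matrix.conjTranspose_mul, Matrix.mul_assoc]
  have key := @Helper75.UA.core G _ _ (Fin m → ℂ) (M.toNormedAddCommGroup hM)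
    (M.toInnerProductSpace hM.posSemidef) inferInstance ρ hinj (by
    intro g u v
    change (M *ᵥ (ρ g v)) ⬝ᵥ star (ρ g u) = (M *ᵥ v) ⬝ᵥ star u
    rw [hUapp, hUapp, Matrix.star_mulVec, dotProduct_comm,
      ← Matrix.dotProduct_mulVec, Matrix.mulVec_mulVec, Matrix.mulVec_mulVec, hinv,
      dotProduct_comm])
  simpa using key

/-- Let the finite group G have a faithful character of degree n. Then G has an abelian normal subgroup A such that every abelian subgroup H of G satisfies [H : H ⊓ A] ≤ 12^n. -/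
theorem result {G : Type*} [Group G] [Finite G] (χ : G → ℂ) (hχ : Cfsg.IsCharacter G χ) (hfaith : ∀ g : G, χ g = χ 1 → g = 1) (n : ℕ) (hn : Cfsg.charDegree χ = n) : ∃ A : Subgroup G, A.Normal ∧ (∀ x ∈ A, ∀ y ∈ A, x * y = y * x) ∧ ∀ H : Subgroup G, (∀ x ∈ H, ∀ y ∈ H, x * y = y * x) → (A.subgroupOf H).index ≤ 12 ^ n := by
  obtain ⟨m, ρ, rfl⟩ := hχ
  have h1 : ρ.character 1 = (m : ℂ) := by
    simp [Representation.character]
  have hm : m = n := by
    rw [← hn, Cfsg.charDegree, h1]
    simp
  subst hm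
  have hinj : Function.Injective ρ := by
    intro g h hgh
    have h2 : ρ (g * h⁻¹) = 1 := by
      rw [map_mul, hgh, ← map_mul, mul_inv_cancel, map_one]
    have h3 : ρ.character (g * h⁻¹) = ρ.character 1 := by
      rw [h1]
      have := (Helper79.char_eq_finrank_iff ρ (g * h⁻¹)).mpr h2
      simpa using this
    have := hfaith _ h3
    exact mul_inv_eq_one.mp this
  exact unitarize m ρ hinj

end Cfsg.Agent.S4470
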