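import Cfsg.Statements.S4469
import Cfsg.Agent.S4470
import Cfsg.Agent.S4465
import Cfsg.Agent.Lib.Helper74.Jordan2
import Cfsg.Agent.Lib.Helper79.CharBasic

set_option autoImplicit false
open Cfsg

namespace Cfsg.Agent.S4469

/-- The classical bound for finite linear groups, in explicit form. Let the finite group G have a faithful character of degree n. Then G has an abelian normal subgroup whose index is at most n! · 12^(n·(π(n+1)+1)), π(k) denoting the number of primes not exceeding k. -/
theorem result {G : Type*} [Group G] [Finite G] (χ : G → ℂ) (hχ : Cfsg.IsCharacter G χ) (hfaith : ∀ g : G, χ g = χ 1 → g = 1) (n : ℕ) (hn : Cfsg.charDegree χ = n) : ∃ A : Subgroup G, A.Normal ∧ (∀ x ∈ A, ∀ y ∈ A, x * y = y * x) ∧ A.index ≤ Nat.factorial n * 12 ^ (n * (Nat.primeCounting (n + 1) + 1)) := by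
  obtain ⟨A, hAn, hAab, hAu⟩ := Cfsg.Agent.S4470.result χ hχ hfaith n hn
  obtain ⟨H₀, hH₀ab, -, hH₀i⟩ := Cfsg.Agent.S4465.result χ hχ hfaith n hn
  refine ⟨A, hAn, hAab, ?_⟩
  obtain ⟨m, ρ, rfl⟩ := hχ
  have h1 : ρ.character 1 = (m : ℂ) := by
    simp [Representation.character]
  have hm : m = n := by
    rw [← hn, Cfsg.charDegree, h1]
    simp
  subst hm
  have hinj : Function.Injective ρ := by
    intro g h hgh
    have h2 : ρ (g * h⁻¹) = 1 := by
      rw [map_mul, hgh, ← map_mul, mul_inv_cancel, map_one]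
    have h3 : ρ.character (g * h⁻¹) = ρ.character 1 := by
      rw [h1]
      have := (Helper79.char_eq_finrank_iff ρ (g * h⁻¹)).mpr h2
      simpa using this
    have := hfaith _ h3
    exact mul_inv_eq_one.mp this
  have key := Cfsg.Agent.Helper74.JD.index_le_of_uniform ρ hinj m (by simp) A (12 ^ m) hAu
    H₀ hH₀ab hH₀i
  rw [← pow_mul] at key
  exact key

end Cfsg.Agent.S4469
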