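import Cfsg.Statements.S4474
import Cfsg.Agent.Lib.Helper74.RealForm4
import Cfsg.Agent.Lib.Helper74.FSCount
import Cfsg.Agent.Lib.Helper3.CharBasic
import Cfsg.Agent.S0153

set_option autoImplicit false
open Cfsg

namespace Cfsg.Agent.S4474

open Cfsg.Agent.Helper74.FS in
/-- Let χ be an irreducible character of the finite group G. Then the Frobenius–Schur indicator of χ (the average over s ∈ G of χ(s²)) equals 1 if and only if χ is afforded by a real representation: there is a representation of G on a real coordinate space whose trace function, viewed in ℂ, is χ. -/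
theorem result {G : Type*} [Group G] [Fintype G] (χ : Cfsg.IrrCharacter G) : ((Nat.card G : ℂ)⁻¹ * ∑ s : G, (χ : G → ℂ) (s * s)) = 1 ↔ ∃ (n : ℕ) (ρ : Representation ℝ G (Fin n → ℝ)), ∀ g : G, ((LinearMap.trace ℝ (Fin n → ℝ) (ρ g) : ℝ) : ℂ) = (χ : G → ℂ) g := by
  have hfin : Finite G := Finite.of_fintype G
  have hne : (Nat.card G : ℂ) ≠ 0 := by simp
  constructor
  · intro hν
    have hreal : IsRealChar χ := by
      by_contra hnr
      have h0 := nu_of_not_real χ hnr
      unfold nu at h0
      rw [h0] at hν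
      exact zero_ne_one hν
    obtain ⟨n, ρ, hirr, hχ⟩ := χ.2
    have hrealρ : ∀ g : G, (ρ.character g).im = 0 := fun g => by rw [hχ]; exact hreal g
    have hsum := sum_char_mul_char_of_real hirr hrealρ
    obtain ⟨B, hB, h0⟩ := exists_isInv_ne_zero ρ (by rw [hsum]; exact hne)
    obtain ⟨ε, hε⟩ := h0.exists_sign hirr hB
    have h1 := sum_char_sq_eq hirr h0 hB hε
    rw [hsum] at h1
    have hε1 : ε = 1 := by
      rw [← hχ] at hν
      rw [h1, mul_comm ε, ← mul_assoc, inv_mul_cancel₀ hne, one_mul] at hν
      exact hν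
    rw [hε1, one_smul] at hε
    obtain ⟨ρr, hρr⟩ := exists_real_rep hirr h0 hB hε
    refine ⟨n, ρr, fun g => ?_⟩
    rw [hρr g, hχ]
  · rintro ⟨n, ρr, hρr⟩
    obtain ⟨m, τ, hτ, hτχ⟩ := χ.2
    have hchar : (complexify ρr).character = (χ : G → ℂ) := by
      funext g
      rw [complexify_character, hρr g]
    obtain ⟨φ⟩ := Cfsg.Agent.S0153.result τ (complexify ρr) (by rw [hτχ, hchar])
    have hirr : (complexify ρr).IsIrreducible := Cfsg.Agent.Helper3.isIrreducible_of_equiv φ
    have := complexify_indicator ρr hirr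
    rw [hchar] at this
    exact this

end Cfsg.Agent.S4474
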