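import Cfsg.Statements.S4475
import Cfsg.Agent.Lib.Helper74.FSForm

set_option autoImplicit false
open Cfsg

namespace Cfsg.Agent.S4475

/-- Let ρ be an irreducible representation of the finite group G on the coordinate space Fin n → ℂ whose character χ is real-valued, and let ν be the Frobenius–Schur indicator of χ (the average of χ(s²)). Writing X(g) for the matrix of ρ(g), there is a nonzero matrix M with X(g)ᵀ M X(g) = M for all g ∈ G; and every such M (zero or not) satisfies Mᵀ = ν·M. -/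
theorem result {G : Type*} [Group G] [Fintype G] (n : ℕ) (ρ : Representation ℂ G (Fin n → ℂ)) (hirr : ρ.IsIrreducible) (hreal : ∀ g : G, (ρ.character g).im = 0) : (∃ M : Matrix (Fin n) (Fin n) ℂ, M ≠ 0 ∧ ∀ g : G, (LinearMap.toMatrix' (ρ g)).transpose * M * LinearMap.toMatrix' (ρ g) = M) ∧ ∀ M : Matrix (Fin n) (Fin n) ℂ, (∀ g : G, (LinearMap.toMatrix' (ρ g)).transpose * M * LinearMap.toMatrix' (ρ g) = M) → M.transpose = ((Nat.card G : ℂ)⁻¹ * ∑ s : G, ρ.character (s * s)) • M := by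
  have hfin : Finite G := Finite.of_fintype G
  have hne : (Nat.card G : ℂ) ≠ 0 := by simp
  have hsum := Cfsg.Agent.Helper74.FS.sum_char_mul_char_of_real hirr hreal
  obtain ⟨B₀, hB₀, h0⟩ := Cfsg.Agent.Helper74.FS.exists_isInv_ne_zero ρ (by rw [hsum]; exact hne)
  refine ⟨⟨B₀, hB₀, h0⟩, ?_⟩
  intro M hM
  obtain ⟨ε, hε⟩ := h0.exists_sign hirr hB₀
  have hν : (Nat.card G : ℂ)⁻¹ * ∑ s : G, ρ.character (s * s) = ε := by
    rw [Cfsg.Agent.Helper74.FS.sum_char_sq_eq hirr h0 hB₀ hε, hsum, mul_comm ε, ← mul_assoc,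
      inv_mul_cancel₀ hne, one_mul]
  rw [hν]
  obtain ⟨c, hc⟩ := h0.eq_smul hirr hB₀ (show Cfsg.Agent.Helper74.FS.IsInv ρ M from hM)
  rw [hc, Matrix.transpose_smul, hε, smul_comm]

end Cfsg.Agent.S4475
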