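import Cfsg.Statements.S4476
import Cfsg.Agent.Lib.Helper74.FSBrauerFowler

set_option autoImplicit false
open Cfsg

namespace Cfsg.Agent.S4476

/-- Let G be a finite group of even order g with exactly t involutions, and put α = (g − 1)/t (a rational number). Then (a) some non-identity element x of G has at most α² conjugates; and (b) some non-principal real-valued irreducible character of G has degree at most α. -/
theorem result {G : Type*} [Group G] [Fintype G] (heven : Even (Nat.card G)) (t : ℕ) (ht : Nat.card {x : G // orderOf x = 2} = t) : (∃ x : G, x ≠ 1 ∧ ((Subgroup.centralizer ({x} : Set G)).index : ℚ) ≤ (((Nat.card G : ℚ) - 1) / t) ^ 2) ∧ ∃ χ : Cfsg.IrrCharacter G, (χ : G → ℂ) ≠ (fun _ => 1) ∧ (∀ g : G, ((χ : G → ℂ) g).im = 0) ∧ (Cfsg.charDegree (χ : G → ℂ) : ℚ) ≤ ((Nat.card G : ℚ) - 1) / t := by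
  classical
  have hfin : Finite G := Finite.of_fintype G
  have : Fintype (Cfsg.IrrCharacter G) := Fintype.ofFinite _
  have hG2 : 2 ≤ Nat.card G := by
    obtain ⟨r, hr⟩ := heven
    have : 0 < Nat.card G := Nat.card_pos
    omega
  have htpos : 0 < t := by
    have h2 : (2 : ℕ) ∣ Nat.card G := even_iff_two_dvd.mp heven
    have : Fact (Nat.Prime 2) := ⟨Nat.prime_two⟩
    obtain ⟨x, hx⟩ := exists_prime_orderOf_dvd_card' 2 h2
    rw [← ht]
    have : Nonempty {x : G // orderOf x = 2} := ⟨⟨x, hx⟩⟩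
    exact Nat.card_pos
  refine ⟨Cfsg.Agent.Helper74.FS.exists_small_class t ht htpos hG2, ?_⟩
  obtain ⟨χ, hχ, hd⟩ := Cfsg.Agent.Helper74.FS.exists_real_small_degree (G := G) t ht htpos
  simp only [Cfsg.Agent.Helper74.FS.realSet, Finset.mem_filter, Finset.mem_erase,
    Finset.mem_univ, and_true] at hχ
  refine ⟨χ, ?_, hχ.2, hd⟩
  intro h1
  apply hχ.1
  apply Subtype.ext
  rw [h1]
  rfl

end Cfsg.Agent.S4476
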