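import Cfsg.Statements.S4478
import Cfsg.Agent.Lib.Helper74.DefectZero
import Cfsg.Agent.Lib.Helper74.DZInvol
import Cfsg.Agent.Lib.Helper74.FSBrauerFowler

set_option autoImplicit false
open Cfsg

namespace Cfsg.Agent.S4478

open Cfsg.Agent.Helper74.FS Cfsg.Agent.Helper74.DZ in
/-- Let G be a finite group of even order and χ an irreducible character of G whose degree x is divisible by the full power of 2 dividing the order of G and, for every odd prime p such that G has an element of order 2p, by the full power of p dividing the order of G. Then all involutions of G are conjugate, the centralizer of every involution has order exactly x with x coprime to its index, and the Frobenius–Schur indicator of χ equals 1. -/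
theorem result {G : Type*} [Group G] [Fintype G] (heven : Even (Nat.card G)) (χ : Cfsg.IrrCharacter G) (h2 : 2 ^ (Nat.card G).factorization 2 ∣ Cfsg.charDegree (χ : G → ℂ)) (hp : ∀ p : ℕ, p.Prime → p ≠ 2 → (∃ g : G, orderOf g = 2 * p) → p ^ (Nat.card G).factorization p ∣ Cfsg.charDegree (χ : G → ℂ)) : (∀ s t : G, orderOf s = 2 → orderOf t = 2 → IsConj s t) ∧ (∀ s : G, orderOf s = 2 → Nat.card (Subgroup.centralizer ({s} : Set G)) = Cfsg.charDegree (χ : G → ℂ) ∧ (Nat.card (Subgroup.centralizer ({s} : Set G))).Coprime (Subgroup.centralizer ({s} : Set G)).index) ∧ (Nat.card G : ℂ)⁻¹ * ∑ g : G, (χ : G → ℂ) (g * g) = 1 := by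
  classical
  have hfin : Finite G := Finite.of_fintype G
  have hf2 : Fact (Nat.Prime 2) := ⟨Nat.prime_two⟩
  obtain ⟨x, hx⟩ : ∃ x, x = Cfsg.charDegree (χ : G → ℂ) := ⟨_, rfl⟩
  rw [← hx] at h2 hp ⊢
  have hcard_pos : 0 < Nat.card G := Nat.card_pos
  have hGne : (Nat.card G : ℂ) ≠ 0 := by exact_mod_cast hcard_pos.ne'
  have hx1 : (χ : G → ℂ) 1 = (x : ℂ) := by rw [hx]; exact Cfsg.Agent.Helper80.irr_one χ
  have hxpos : 0 < x := by rw [hx]; exact Cfsg.Agent.Helper80.charDegree_pos χ
  have hV2 : ∀ g : G, 2 ∣ orderOf g → (χ : G → ℂ) g = 0 := fun g hg =>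
    irr_vanish_of_defect_zero χ 2 Nat.prime_two (by rw [← hx]; exact h2) g hg
  have hVp : ∀ p : ℕ, p.Prime → p ≠ 2 → (∃ z : G, orderOf z = 2 * p) →
      ∀ g : G, p ∣ orderOf g → (χ : G → ℂ) g = 0 := fun p hpp hp2 hz g hg =>
    irr_vanish_of_defect_zero χ p hpp (by rw [← hx]; exact hp p hpp hp2 hz) g hg
  have h2card : 2 ∣ Nat.card G := even_iff_two_dvd.1 heven
  have hfact : 1 ≤ (Nat.card G).factorization 2 :=
    Nat.Prime.factorization_pos_of_dvd Nat.prime_two hcard_pos.ne' h2card
  have h2x : 2 ∣ x := dvd_trans (dvd_pow_self 2 (by omega)) h2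
  have hsum0 : ∑ g : G, (χ : G → ℂ) g = 0 := by
    have h := Cfsg.Agent.Helper80.irr_first_orthogonality χ (Cfsg.Agent.Helper80.trivialIrr G)
    rw [if_neg] at h
    · simpa [Cfsg.Agent.Helper80.trivialIrr_apply] using h
    · intro heq
      have : x = 1 := by rw [hx, heq]; exact charDegree_trivial
      omega
  have hsq := sum_sq_eq (χ : G → ℂ) hV2 hVp hsum0
  obtain ⟨T, hT⟩ : ∃ T, T = Finset.univ.filter fun t : G => orderOf t = 2 := ⟨_, rfl⟩
  rw [← hT] at hsq
  have hTmem : ∀ t : G, t ∈ T ↔ orderOf t = 2 := fun t => by simp [hT]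
  have hTpos : 0 < T.card := by
    obtain ⟨t, ht⟩ := exists_prime_orderOf_dvd_card' 2 h2card
    exact Finset.card_pos.2 ⟨t, (hTmem t).2 ht⟩
  have hnu : nu χ = ((sgn χ : ℤ) : ℂ) := (sgn_cast χ).symm
  have hZ : sgn χ * (Nat.card G : ℤ) = (T.card : ℤ) * (x : ℤ) := by
    have h1 : nu χ * (Nat.card G : ℂ) = (T.card : ℂ) * (x : ℂ) := by
      unfold nu
      rw [hsq, hx1, mul_comm, ← mul_assoc, mul_inv_cancel₀ hGne, one_mul]
    rw [hnu] at h1
    exact_mod_cast h1
  have hsgn : sgn χ = 1 := by
    have h1 := sgn_le_one χ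
    have hpos : 0 < (T.card : ℤ) * (x : ℤ) := by positivity
    have h0 : 0 < sgn χ := by
      by_contra hle
      push Not at hle
      have : sgn χ * (Nat.card G : ℤ) ≤ 0 :=
        mul_nonpos_of_nonpos_of_nonneg hle (by positivity)
      omega
    omega
  have hGTx : Nat.card G = T.card * x := by
    rw [hsgn, one_mul] at hZ
    exact_mod_cast hZ
  have hthird : (Nat.card G : ℂ)⁻¹ * ∑ g : G, (χ : G → ℂ) (g * g) = 1 := by
    have h1 := hnu
    rw [hsgn] at h1
    simpa [nu] using h1
  -- full prime powers
  have hfull : ∀ s : G, orderOf s = 2 → ∀ q : ℕ, q.Prime →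
      q ∣ Nat.card (Subgroup.centralizer ({s} : Set G)) → q ^ (Nat.card G).factorization q ∣ x := by
    intro s hs q hq hqd
    by_cases hq2 : q = 2
    · subst hq2; exact h2
    · have : Fact q.Prime := ⟨hq⟩
      obtain ⟨k, hk⟩ := exists_prime_orderOf_dvd_card' q hqd
      have hk' : orderOf (k : G) = q := by rw [Subgroup.orderOf_coe]; exact hk
      have hkc : s * (k : G) = (k : G) * s := by
        have := Subgroup.mem_centralizer_iff.1 k.2 s (Set.mem_singleton s)
        exact this
      have hc : Commute s (k : G) := hkc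
      have hz : orderOf (s * (k : G)) = 2 * q := by
        rw [hc.orderOf_mul_eq_mul_orderOf_of_coprime, hs, hk']
        rw [hs, hk']
        exact (Nat.coprime_primes Nat.prime_two hq).2 (Ne.symm hq2)
      exact hp q hq hq2 ⟨_, hz⟩
  have hCdvd : ∀ s : G, orderOf s = 2 → Nat.card (Subgroup.centralizer ({s} : Set G)) ∣ x := by
    intro s hs
    rw [← Nat.factorization_le_iff_dvd Nat.card_pos.ne' hxpos.ne']
    intro q
    by_cases hq : q.Prime
    · by_cases hqd : q ∣ Nat.card (Subgroup.centralizer ({s} : Set G))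
      · have hle1 : (Nat.card (Subgroup.centralizer ({s} : Set G))).factorization q ≤
            (Nat.card G).factorization q :=
          (Nat.factorization_le_iff_dvd Nat.card_pos.ne' hcard_pos.ne').2
            (Subgroup.card_subgroup_dvd_card _) q
        have hle2 : (Nat.card G).factorization q ≤ x.factorization q :=
          (hq.pow_dvd_iff_le_factorization hxpos.ne').1 (hfull s hs q hq hqd)
        exact hle1.trans hle2
      · rw [Nat.factorization_eq_zero_of_not_dvd hqd]
        exact Nat.zero_le _
    · rw [Nat.factorization_eq_zero_of_not_prime _ hq]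
      exact Nat.zero_le _
  -- the class of an involution lies in T
  have hclass : ∀ s : G, orderOf s = 2 →
      Nat.card {y : G // IsConj s y} ≤ T.card := by
    intro s hs
    rw [Nat.card_eq_fintype_card, Fintype.card_subtype]
    apply Finset.card_le_card
    intro y hy
    simp only [Finset.mem_filter, Finset.mem_univ, true_and] at hy
    rw [hTmem]
    obtain ⟨c, hc⟩ := isConj_iff.1 hy
    rw [← hc, ← hs]
    exact orderOf_injective (MulAut.conj c).toMonoidHom (MulAut.conj c).injective s
  have hCge : ∀ s : G, orderOf s = 2 → x ≤ Nat.card (Subgroup.centralizer ({s} : Set G)) := by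
    intro s hs
    have h1 := Cfsg.Agent.Helper80.card_isConj_mul_card_centralizer s
    have h2' := hclass s hs
    have hclpos : 0 < Nat.card {y : G // IsConj s y} := by
      have : Nonempty {y : G // IsConj s y} := ⟨⟨s, IsConj.refl s⟩⟩
      exact Nat.card_pos
    by_contra hlt
    push Not at hlt
    have : Nat.card {y : G // IsConj s y} * Nat.card (Subgroup.centralizer ({s} : Set G)) <
        T.card * x := by
      calc Nat.card {y : G // IsConj s y} * Nat.card (Subgroup.centralizer ({s} : Set G))
          < Nat.card {y : G // IsConj s y} * x := Nat.mul_lt_mul_of_pos_left hlt hclpos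
        _ ≤ T.card * x := Nat.mul_le_mul_right x h2'
    omega
  have hCeq : ∀ s : G, orderOf s = 2 → Nat.card (Subgroup.centralizer ({s} : Set G)) = x :=
    fun s hs => le_antisymm (Nat.le_of_dvd hxpos (hCdvd s hs)) (hCge s hs)
  have hclasseq : ∀ s : G, orderOf s = 2 → Nat.card {y : G // IsConj s y} = T.card := by
    intro s hs
    have h1 := Cfsg.Agent.Helper80.card_isConj_mul_card_centralizer s
    rw [hCeq s hs, hGTx] at h1
    exact Nat.eq_of_mul_eq_mul_right hxpos h1
  refine ⟨?_, ?_, hthird⟩
  · intro s t hs ht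
    have hsub : (Finset.univ.filter fun y : G => IsConj s y) ⊆ T := by
      intro y hy
      simp only [Finset.mem_filter, Finset.mem_univ, true_and] at hy
      rw [hTmem]
      obtain ⟨c, hc⟩ := isConj_iff.1 hy
      rw [← hc, ← hs]
      exact orderOf_injective (MulAut.conj c).toMonoidHom (MulAut.conj c).injective s
    have hcard : T.card ≤ (Finset.univ.filter fun y : G => IsConj s y).card := by
      rw [← hclasseq s hs, Nat.card_eq_fintype_card, Fintype.card_subtype]
    have heq := Finset.eq_of_subset_of_card_le hsub hcard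
    have htT : t ∈ T := (hTmem t).2 ht
    rw [← heq] at htT
    simpa using htT
  · intro s hs
    refine ⟨hCeq s hs, ?_⟩
    rw [hCeq s hs]
    have hidx : (Subgroup.centralizer ({s} : Set G)).index = T.card := by
      have h1 := Subgroup.card_mul_index (Subgroup.centralizer ({s} : Set G))
      rw [hCeq s hs, hGTx, mul_comm] at h1
      exact Nat.eq_of_mul_eq_mul_right hxpos h1
    rw [hidx]
    apply Nat.Coprime.symm
    apply Nat.Coprime.symm
    apply Nat.coprime_of_dvd
    intro q hq hqx hqT
    have hqd : q ∣ Nat.card (Subgroup.centralizer ({s} : Set G)) := by rw [hCeq s hs]; exact hqx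
    have h1 := hfull s hs q hq hqd
    have h2' : (Nat.card G).factorization q ≤ x.factorization q :=
      (hq.pow_dvd_iff_le_factorization hxpos.ne').1 h1
    have h3 : (Nat.card G).factorization q = T.card.factorization q + x.factorization q := by
      rw [hGTx, Nat.factorization_mul hTpos.ne' hxpos.ne']
      rfl
    have h4 : 1 ≤ T.card.factorization q := hq.factorization_pos_of_dvd hTpos.ne' hqT
    omega

end Cfsg.Agent.S4478
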