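import Cfsg.Statements.S4479
import Cfsg.Agent.Lib.Helper74.KleinGroup4
import Cfsg.Agent.Lib.Helper74.KleinOrder2
import Cfsg.Agent.Lib.Helper74.Klein2
import Cfsg.Agent.Lib.Helper16.WBO
import Cfsg.Agent.Lib.Helper79.CharBasic

set_option autoImplicit false
set_option linter.style.haveILetI false
set_option maxHeartbeats 1600000
open Cfsg

namespace Cfsg.Agent.S4479

open Cfsg.Agent.Helper74.SS Cfsg.Agent.Helper74.KL Cfsg.Agent.Helper74.KG Cfsg.Agent.Helper74.KO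
open Cfsg.Agent.Helper74.DO
open Cfsg.Agent.Helper77 Cfsg.Agent.Helper78
open scoped ComplexConjugate

/-- An order formula from the principal 2-block. Let G be a finite group of order 4·g₀ with g₀ odd having no normal 2-complement (no normal subgroup of order g₀); let P be a Sylow 2-subgroup, J an involution of P, and fix a maximal ideal M of the algebraic integers containing 2. Suppose the principal 2-block consists of the principal character and three further distinct characters χ₁, χ₂, χ₃ of degrees x₁, x₂, x₃, with χ_i(J) = ε_i = ±1. Then, writing c(J) and c(P) for the orders of the centralizers of J and of P, the order of G equals 8·α·c(J)³/c(P)² with α = x₁x₂x₃ / ((x₁ + ε₁)(x₂ + ε₂)(x₃ + ε₃)). -/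
theorem result {G : Type*} [Group G] [Finite G] (M : Ideal Cfsg.AlgInt) (hM : Cfsg.IsPModular 2 M) (g₀ : ℕ) (hg₀ : Odd g₀) (hG : Nat.card G = 4 * g₀) (hnc : ¬ ∃ N : Subgroup G, N.Normal ∧ Nat.card N = g₀) (P : Sylow 2 G) (J : G) (hJ : J ∈ (P : Subgroup G)) (hJ2 : orderOf J = 2) (χ₁ χ₂ χ₃ : Cfsg.IrrCharacter G) (ε₁ ε₂ ε₃ : ℤ) (hB : Cfsg.principalBlock M G = {χ : Cfsg.IrrCharacter G | (χ : G → ℂ) = (fun _ => 1) ∨ χ = χ₁ ∨ χ = χ₂ ∨ χ = χ₃}) (hdist : (χ₁ : G → ℂ) ≠ (fun _ => 1) ∧ (χ₂ : G → ℂ) ≠ (fun _ => 1) ∧ (χ₃ : G → ℂ) ≠ (fun _ => 1) ∧ χ₁ ≠ χ₂ ∧ χ₁ ≠ χ₃ ∧ χ₂ ≠ χ₃) (hε : (ε₁ = 1 ∨ ε₁ = -1) ∧ (ε₂ = 1 ∨ ε₂ = -1) ∧ (ε₃ = 1 ∨ ε₃ = -1)) (hval : (χ₁ : G → ℂ) J = ε₁ ∧ (χ₂ : G → ℂ) J = ε₂ ∧ (χ₃ : G → ℂ) J = ε₃) : (Nat.card G : ℚ) = 8 * (((Cfsg.charDegree (χ₁ : G → ℂ) : ℚ) * Cfsg.charDegree (χ₂ : G → ℂ) * Cfsg.charDegree (χ₃ : G → ℂ)) / ((Cfsg.charDegree (χ₁ : G → ℂ) + ε₁) * (Cfsg.charDegree (χ₂ : G → ℂ) +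 ε₂) * (Cfsg.charDegree (χ₃ : G → ℂ) + ε₃))) * (Nat.card (Subgroup.centralizer ({J} : Set G)) : ℚ) ^ 3 / (Nat.card (Subgroup.centralizer ((P : Subgroup G) : Set G)) : ℚ) ^ 2 := by
  classical
  letI : Fintype G := Fintype.ofFinite G
  haveI : Fact (Nat.Prime 2) := ⟨Nat.prime_two⟩
  haveI := isPrime_of_isPModular hM
  obtain ⟨hP4, hexp, hone⟩ := klein_of_no_normal_complement g₀ hg₀ hG hnc P J hJ hJ2
  letI : Fintype (Subgroup.centralizer ({J} : Set G)) := Fintype.ofFinite _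
  have htp : ∃ k : ℕ, orderOf J = 2 ^ k := ⟨1, by rw [hJ2, pow_one]⟩
  -- the order of `G` and of `C`
  have hcardG : (Nat.card G).factorization 2 = 2 := by
    have h := Sylow.card_eq_multiplicity P
    rw [hP4] at h
    have h' : 2 ^ 2 = 2 ^ (Nat.card G).factorization 2 := by simpa using h
    exact (Nat.pow_right_injective (le_refl 2) h').symm
  have hab := sylow_comm P hP4
  have hPC : (P : Subgroup G) ≤ Subgroup.centralizer ({J} : Set G) := by
    intro y hy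
    rw [mem_cent_iff]
    exact hab J hJ y hy
  have hCcard : (Nat.card (Subgroup.centralizer ({J} : Set G))).factorization 2 = 2 := by
    have hC0 : Nat.card (Subgroup.centralizer ({J} : Set G)) ≠ 0 := Nat.card_pos.ne'
    have hG0 : Nat.card G ≠ 0 := Nat.card_pos.ne'
    have h1 : 2 ^ 2 ∣ Nat.card (Subgroup.centralizer ({J} : Set G)) := by
      have := Subgroup.card_dvd_of_le hPC
      have hP' : Nat.card (P : Subgroup G) = 4 := hP4
      rw [hP'] at this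
      exact this
    have h2 := (Nat.Prime.pow_dvd_iff_le_factorization Nat.prime_two hC0).1 h1
    have h3 := (Nat.factorization_le_iff_dvd hC0 hG0).2
      (Subgroup.card_subgroup_dvd_card (Subgroup.centralizer ({J} : Set G))) 2
    omega
  have hJC := self_mem_cent J
  have hzord : orderOf (⟨J, hJC⟩ : Subgroup.centralizer ({J} : Set G)) = 2 := by
    rw [← Subgroup.orderOf_coe]
    exact hJ2
  have hzcen : (⟨J, hJC⟩ : Subgroup.centralizer ({J} : Set G)) ∈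
      Subgroup.center (Subgroup.centralizer ({J} : Set G)) := by
    rw [Subgroup.mem_center_iff]
    intro c
    apply Subtype.ext
    exact ((mem_cent_iff J (c : G)).1 c.2).symm
  have hrankC : blockRank 2 (principalBlock M (Subgroup.centralizer ({J} : Set G))) = 1 :=
    blockRank_principal_of_central_involution hM _ hzord hzcen hCcard
  -- the subsection sum
  have hB₀ : IsPBlock M (principalBlock M G) := isPBlock_principalBlock M
  have hS : {b : Set (IrrCharacter (Subgroup.centralizer ({J} : Set G))) |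
      IsInducedBlock M (Subgroup.centralizer ({J} : Set G)) b (principalBlock M G)} =
      {principalBlock M (Subgroup.centralizer ({J} : Set G))} := by
    ext b
    rw [Set.mem_singleton_iff]
    show IsInducedBlock M (Subgroup.centralizer ({J} : Set G)) b (principalBlock M G) ↔ _
    exact blocks_inducing_principal hM J htp b
  have hsum1 : ∑ χ ∈ (Set.toFinite (principalBlock M G)).toFinset, secNorm 2 J χ = 1 := by
    have h := sum_blockRank_eq hM J htp hB₀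
    rw [hS, finsum_mem_singleton, hrankC] at h
    rw [← h]
    norm_num
  -- the block as a finset
  have htriv := trivIrr_mem_principalBlock (G := G) M
  have htriv_iff : ∀ χ : IrrCharacter G, (χ : G → ℂ) = (fun _ => 1) ↔ χ = trivIrr G := by
    intro χ
    constructor
    · intro h
      apply Subtype.ext
      rw [h]
      funext g
      rw [trivIrr_apply]
    · intro h
      rw [h]
      funext g
      rw [trivIrr_apply]
  obtain ⟨T, hTdef⟩ : ∃ T : Finset (IrrCharacter G),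
      T = (Set.toFinite (principalBlock M G)).toFinset := ⟨_, rfl⟩
  have hTmem : ∀ χ, χ ∈ T ↔ χ ∈ principalBlock M G := by
    intro χ
    rw [hTdef, Set.Finite.mem_toFinset]
  rw [← hTdef] at hsum1
  have hTiff : ∀ χ, χ ∈ T ↔ χ = trivIrr G ∨ χ = χ₁ ∨ χ = χ₂ ∨ χ = χ₃ := by
    intro χ
    rw [hTmem, hB, Set.mem_setOf_eq, htriv_iff]
  obtain ⟨hd1, hd2, hd3, h12, h13, h23⟩ := hdist
  have hne1 : trivIrr G ≠ χ₁ := fun h => hd1 ((htriv_iff χ₁).2 h.symm)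
  have hne2 : trivIrr G ≠ χ₂ := fun h => hd2 ((htriv_iff χ₂).2 h.symm)
  have hne3 : trivIrr G ≠ χ₃ := fun h => hd3 ((htriv_iff χ₃).2 h.symm)
  have hTeq : T = insert (trivIrr G) (insert χ₁ (insert χ₂ {χ₃})) := by
    ext χ
    rw [hTiff χ]
    simp only [Finset.mem_insert, Finset.mem_singleton]
  have hsum4 : ∀ f : IrrCharacter G → ℂ,
      ∑ χ ∈ T, f χ = f (trivIrr G) + (f χ₁ + (f χ₂ + f χ₃)) := by
    intro f
    rw [hTeq, Finset.sum_insert, Finset.sum_insert, Finset.sum_insert, Finset.sum_singleton]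
    · rw [Finset.mem_singleton]; exact h23
    · rw [Finset.mem_insert, Finset.mem_singleton]
      rintro (h | h)
      · exact h12 h
      · exact h13 h
    · rw [Finset.mem_insert, Finset.mem_insert, Finset.mem_singleton]
      rintro (h | h | h)
      · exact hne1 h
      · exact hne2 h
      · exact hne3 h
  have hχ₁B : χ₁ ∈ principalBlock M G := (hTmem _).1 ((hTiff _).2 (Or.inr (Or.inl rfl)))
  have hχ₂B : χ₂ ∈ principalBlock M G := (hTmem _).1 ((hTiff _).2 (Or.inr (Or.inr (Or.inl rfl))))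
  have hχ₃B : χ₃ ∈ principalBlock M G := (hTmem _).1 ((hTiff _).2 (Or.inr (Or.inr (Or.inr rfl))))
  -- the values
  obtain ⟨hv1, hv2, hv3⟩ := hval
  obtain ⟨hε1, hε2, hε3⟩ := hε
  obtain ⟨e1, he1def⟩ : ∃ e1 : ℂ, e1 = (ε₁ : ℂ) := ⟨_, rfl⟩
  obtain ⟨e2, he2def⟩ : ∃ e2 : ℂ, e2 = (ε₂ : ℂ) := ⟨_, rfl⟩
  obtain ⟨e3, he3def⟩ : ∃ e3 : ℂ, e3 = (ε₃ : ℂ) := ⟨_, rfl⟩
  rw [← he1def] at hv1
  rw [← he2def] at hv2
  rw [← he3def] at hv3
  have he1sq : e1 * e1 = 1 := by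
    rw [he1def]
    rcases hε1 with h | h <;> rw [h] <;> norm_num
  have he2sq : e2 * e2 = 1 := by
    rw [he2def]
    rcases hε2 with h | h <;> rw [h] <;> norm_num
  have he3sq : e3 * e3 = 1 := by
    rw [he3def]
    rcases hε3 with h | h <;> rw [h] <;> norm_num
  have he1c : conj e1 = e1 := by rw [he1def]; exact map_intCast _ ε₁
  have he2c : conj e2 = e2 := by rw [he2def]; exact map_intCast _ ε₂
  have he3c : conj e3 = e3 := by rw [he3def]; exact map_intCast _ ε₃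
  obtain ⟨d1, hd1def⟩ : ∃ d1 : ℂ, d1 = (charDegree (χ₁ : G → ℂ) : ℂ) := ⟨_, rfl⟩
  obtain ⟨d2, hd2def⟩ : ∃ d2 : ℂ, d2 = (charDegree (χ₂ : G → ℂ) : ℂ) := ⟨_, rfl⟩
  obtain ⟨d3, hd3def⟩ : ∃ d3 : ℂ, d3 = (charDegree (χ₃ : G → ℂ) : ℂ) := ⟨_, rfl⟩
  have hx1 : (χ₁ : G → ℂ) 1 = d1 := by rw [hd1def]; exact (Cfsg.Agent.Helper79.irr_one_eq χ₁).1
  have hx2 : (χ₂ : G → ℂ) 1 = d2 := by rw [hd2def]; exact (Cfsg.Agent.Helper79.irr_one_eq χ₂).1
  have hx3 : (χ₃ : G → ℂ) 1 = d3 := by rw [hd3def]; exact (Cfsg.Agent.Helper79.irr_one_eq χ₃).1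
  have hd1ne : d1 ≠ 0 := by
    rw [hd1def]; exact_mod_cast (Cfsg.Agent.Helper79.irr_one_eq χ₁).2.ne'
  have hd2ne : d2 ≠ 0 := by
    rw [hd2def]; exact_mod_cast (Cfsg.Agent.Helper79.irr_one_eq χ₂).2.ne'
  have hd3ne : d3 ≠ 0 := by
    rw [hd3def]; exact_mod_cast (Cfsg.Agent.Helper79.irr_one_eq χ₃).2.ne'
  -- the regular proportion
  obtain ⟨r, hrdef⟩ : ∃ r : ℂ, r = secNorm 2 J (trivIrr G) := ⟨_, rfl⟩
  have hsec : ∀ χ ∈ principalBlock M G,
      secNorm 2 J χ = (χ : G → ℂ) J * conj ((χ : G → ℂ) J) * r := by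
    intro χ hχ
    rw [hrdef]
    exact secNorm_of_rank_one J hM htp hrankC hχ
  have hr : r = 1 / 4 := by
    rw [hsum4, hsec _ htriv, hsec _ hχ₁B, hsec _ hχ₂B, hsec _ hχ₃B, trivIrr_apply, hv1, hv2, hv3,
      he1c, he2c, he3c, he1sq, he2sq, he3sq, map_one] at hsum1
    linear_combination (1 / 4 : ℂ) * hsum1
  obtain ⟨c, hcdef⟩ : ∃ c : ℂ, c = (Nat.card (Subgroup.centralizer ({J} : Set G)) : ℂ) :=
    ⟨_, rfl⟩
  have hcne : c ≠ 0 := by
    rw [hcdef]; exact_mod_cast Nat.card_pos.ne'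
  have hs₀ : sreg J (trivIrr G) = c / 4 := by
    have h : r = (Nat.card (Subgroup.centralizer ({J} : Set G)) : ℂ)⁻¹ * sreg J (trivIrr G) := by
      rw [hrdef]; exact secNorm_trivIrr J
    rw [hr, ← hcdef] at h
    field_simp at h
    linear_combination (-1 / 4 : ℂ) * h
  have hsreg : ∀ χ ∈ principalBlock M G, sreg J χ = (χ : G → ℂ) J * (c / 4) := by
    intro χ hχ
    rw [sreg_of_mem J hM htp hrankC hχ, hs₀]
  have hcc : conj c = c := by rw [hcdef]; exact Complex.conj_natCast _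
  -- the character sum
  have hsumχ : ∑ χ : IrrCharacter G, (χ : G → ℂ) J * (χ : G → ℂ) J * conj (sreg J χ) /
      (χ : G → ℂ) 1 = (c / 4) * (1 + e1 / d1 + e2 / d2 + e3 / d3) := by
    rw [← Finset.sum_subset (Finset.subset_univ T)]
    · rw [hsum4, hsreg _ htriv, hsreg _ hχ₁B, hsreg _ hχ₂B, hsreg _ hχ₃B, trivIrr_apply,
        trivIrr_apply, hv1, hv2, hv3, hx1, hx2, hx3]
      simp only [map_mul, map_div₀, he1c, he2c, he3c, hcc, map_one, map_ofNat]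
      field_simp
      linear_combination (e1 * d2 * d3) * he1sq + (e2 * d1 * d3) * he2sq + (e3 * d1 * d2) * he3sq
    · intro χ _ hχ
      have hχB : χ ∉ principalBlock M G := fun h => hχ ((hTmem χ).2 h)
      rw [sreg_of_notMem J hM htp hχB, map_zero, mul_zero, zero_div]
  -- the degree relation
  have hdeg : 1 + e1 * d1 + e2 * d2 + e3 * d3 = 0 := by
    have h1reg : ¬ 2 ∣ orderOf (1 : G) := by
      rw [orderOf_one]; norm_num
    have hJs : 2 ∣ orderOf J := by rw [hJ2]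
    have h := Cfsg.Agent.Helper16.weak_block_orthogonality hM hB₀ 1 J h1reg hJs
    rw [← hTdef, hsum4, trivIrr_apply, trivIrr_apply, hv1, hv2, hv3, hx1, hx2, hx3, he1c, he2c,
      he3c, map_one] at h
    linear_combination h
  -- the two counts
  have hcount := pairs_count J hJ2 hone
  have hglob := global_count P hP4 hexp J hJ hJ2
  have hcl := Cfsg.Agent.S0840.card_class_mul_card_centralizer J
  obtain ⟨N, hNdef⟩ : ∃ N : ℕ, N = Nat.card {p : G × G // orderOf p.1 = 2 ∧ orderOf p.2 = 2 ∧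
      J * (p.1 * p.2) = (p.1 * p.2) * J ∧ Odd (orderOf (J * (p.1 * p.2)))} := ⟨_, rfl⟩
  rw [← hNdef] at hcount hglob
  obtain ⟨k, hkdef⟩ : ∃ k : ℕ, k = Nat.card {x : G // IsConj J x} := ⟨_, rfl⟩
  rw [← hkdef] at hcount hcl
  rw [hsumχ] at hcount
  obtain ⟨g, hgdef⟩ : ∃ g : ℂ, g = (Nat.card G : ℂ) := ⟨_, rfl⟩
  have hgne : g ≠ 0 := by
    rw [hgdef]; exact_mod_cast Nat.card_pos.ne'
  obtain ⟨p, hpdef⟩ : ∃ p : ℂ,
      p = (Nat.card (Subgroup.centralizer ((P : Subgroup G) : Set G)) : ℂ) := ⟨_, rfl⟩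
  have hpne : p ≠ 0 := by
    rw [hpdef]; exact_mod_cast Nat.card_pos.ne'
  have hcl' : (k : ℂ) * c = g := by
    rw [hcdef, hgdef]; exact_mod_cast hcl
  have hglob' : (N : ℂ) * p ^ 2 = 2 * c ^ 2 := by
    rw [hcdef, hpdef]; exact_mod_cast hglob
  rw [← hgdef] at hcount
  have hk : (k : ℂ) = g / c := by
    rw [eq_div_iff hcne]; exact hcl'
  rw [hk] at hcount
  -- the key identity
  have hkey : g * ((d1 + e1) * (d2 + e2) * (d3 + e3)) * p ^ 2 = 8 * c ^ 3 * (d1 * d2 * d3) := by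
    rw [hcount] at hglob'
    field_simp at hglob'
    linear_combination hglob' + (g * p ^ 2 * e1 * e2 * e3) * hdeg -
      (g * p ^ 2 * e2 * e3 * d1) * he1sq - (g * p ^ 2 * e1 * e3 * d2) * he2sq -
      (g * p ^ 2 * e1 * e2 * d3) * he3sq
  rw [hgdef, hd1def, hd2def, hd3def, he1def, he2def, he3def, hpdef, hcdef] at hkey
  have hZ : (Nat.card G : ℤ) * (((charDegree (χ₁ : G → ℂ) : ℤ) + ε₁) *
      ((charDegree (χ₂ : G → ℂ) : ℤ) + ε₂) * ((charDegree (χ₃ : G → ℂ) : ℤ) + ε₃)) *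
      (Nat.card (Subgroup.centralizer ((P : Subgroup G) : Set G)) : ℤ) ^ 2 =
      8 * (Nat.card (Subgroup.centralizer ({J} : Set G)) : ℤ) ^ 3 *
      ((charDegree (χ₁ : G → ℂ) : ℤ) * (charDegree (χ₂ : G → ℂ) : ℤ) *
        (charDegree (χ₃ : G → ℂ) : ℤ)) := by
    exact_mod_cast hkey
  have hQ : (Nat.card G : ℚ) * (((charDegree (χ₁ : G → ℂ) : ℚ) + ε₁) *
      ((charDegree (χ₂ : G → ℂ) : ℚ) + ε₂) * ((charDegree (χ₃ : G → ℂ) : ℚ) + ε₃)) *
      (Nat.card (Subgroup.centralizer ((P : Subgroup G) : Set G)) : ℚ) ^ 2 =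
      8 * (Nat.card (Subgroup.centralizer ({J} : Set G)) : ℚ) ^ 3 *
      ((charDegree (χ₁ : G → ℂ) : ℚ) * (charDegree (χ₂ : G → ℂ) : ℚ) *
        (charDegree (χ₃ : G → ℂ) : ℚ)) := by
    exact_mod_cast hZ
  have hpQ : (Nat.card (Subgroup.centralizer ((P : Subgroup G) : Set G)) : ℚ) ≠ 0 := by
    exact_mod_cast Nat.card_pos.ne'
  have hcQ : (Nat.card (Subgroup.centralizer ({J} : Set G)) : ℚ) ≠ 0 := by
    exact_mod_cast Nat.card_pos.ne'
  have hx1Q : (charDegree (χ₁ : G → ℂ) : ℚ) ≠ 0 := by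
    exact_mod_cast (Cfsg.Agent.Helper79.irr_one_eq χ₁).2.ne'
  have hx2Q : (charDegree (χ₂ : G → ℂ) : ℚ) ≠ 0 := by
    exact_mod_cast (Cfsg.Agent.Helper79.irr_one_eq χ₂).2.ne'
  have hx3Q : (charDegree (χ₃ : G → ℂ) : ℚ) ≠ 0 := by
    exact_mod_cast (Cfsg.Agent.Helper79.irr_one_eq χ₃).2.ne'
  have hDQ : (((charDegree (χ₁ : G → ℂ) : ℚ) + ε₁) *
      ((charDegree (χ₂ : G → ℂ) : ℚ) + ε₂) * ((charDegree (χ₃ : G → ℂ) : ℚ) + ε₃)) ≠ 0 := by
    intro h
    rw [h, mul_zero, zero_mul] at hQ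
    have : (8 : ℚ) * (Nat.card (Subgroup.centralizer ({J} : Set G)) : ℚ) ^ 3 *
      ((charDegree (χ₁ : G → ℂ) : ℚ) * (charDegree (χ₂ : G → ℂ) : ℚ) *
        (charDegree (χ₃ : G → ℂ) : ℚ)) ≠ 0 := by positivity
    exact this hQ.symm
  rw [eq_div_iff (pow_ne_zero 2 hpQ)]
  have hre : (8 : ℚ) * (((charDegree (χ₁ : G → ℂ) : ℚ) * (charDegree (χ₂ : G → ℂ) : ℚ) *
      (charDegree (χ₃ : G → ℂ) : ℚ)) / (((charDegree (χ₁ : G → ℂ) : ℚ) + ε₁) *
      ((charDegree (χ₂ : G → ℂ) : ℚ) + ε₂) * ((charDegree (χ₃ : G → ℂ) : ℚ) + ε₃))) *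
      (Nat.card (Subgroup.centralizer ({J} : Set G)) : ℚ) ^ 3 =
      (8 * (Nat.card (Subgroup.centralizer ({J} : Set G)) : ℚ) ^ 3 *
      ((charDegree (χ₁ : G → ℂ) : ℚ) * (charDegree (χ₂ : G → ℂ) : ℚ) *
        (charDegree (χ₃ : G → ℂ) : ℚ))) / (((charDegree (χ₁ : G → ℂ) : ℚ) + ε₁) *
      ((charDegree (χ₂ : G → ℂ) : ℚ) + ε₂) * ((charDegree (χ₃ : G → ℂ) : ℚ) + ε₃)) := by
    ring
  rw [hre, eq_div_iff hDQ]
  linear_combination hQ

end Cfsg.Agent.S4479
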