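import Cfsg.Statements.S4480
import Cfsg.Agent.S4479
import Cfsg.Agent.S0948
import Cfsg.Agent.Lib.Helper74.KleinFS

set_option autoImplicit false
set_option linter.style.haveILetI false
set_option maxHeartbeats 1600000
open Cfsg

namespace Cfsg.Agent.S4480

open Cfsg.Agent.Helper74.SS Cfsg.Agent.Helper74.KL Cfsg.Agent.Helper74.KG
open Cfsg.Agent.Helper74.KFS
open Cfsg.Agent.Helper77 Cfsg.Agent.Helper78
open Cfsg.Agent.Helper80 (cconjIrr cconjIrr_apply charDegree_cconjIrr)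
open scoped ComplexConjugate

/-- Same setting as the Klein-four order formula: G of order 4·g₀ (g₀ odd) with no normal 2-complement, P a Sylow 2-subgroup, J an involution of P, M over 2, principal 2-block {1, χ₁, χ₂, χ₃} with χ_i(J) = ε_i = ±1. Suppose ε₁ε₂ε₃ = −1 and ε₃ = −1, and put q = x₃ = χ₃(1). Then there is a natural number m with 4·c(J) = m·c(P)·(q + 1), and the order of G equals (m³·c(P)/4)·(q³ − q)/2, that is 8·#G = m³·c(P)·(q³ − q). -/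
theorem result {G : Type*} [Group G] [Finite G] (M : Ideal Cfsg.AlgInt) (hM : Cfsg.IsPModular 2 M) (g₀ : ℕ) (hg₀ : Odd g₀) (hG : Nat.card G = 4 * g₀) (hnc : ¬ ∃ N : Subgroup G, N.Normal ∧ Nat.card N = g₀) (P : Sylow 2 G) (J : G) (hJ : J ∈ (P : Subgroup G)) (hJ2 : orderOf J = 2) (χ₁ χ₂ χ₃ : Cfsg.IrrCharacter G) (ε₁ ε₂ ε₃ : ℤ) (hB : Cfsg.principalBlock M G = {χ : Cfsg.IrrCharacter G | (χ : G → ℂ) = (fun _ => 1) ∨ χ = χ₁ ∨ χ = χ₂ ∨ χ = χ₃}) (hdist : (χ₁ : G → ℂ) ≠ (fun _ => 1) ∧ (χ₂ : G → ℂ) ≠ (fun _ => 1) ∧ (χ₃ : G → ℂ) ≠ (fun _ => 1) ∧ χ₁ ≠ χ₂ ∧ χ₁ ≠ χ₃ ∧ χ₂ ≠ χ₃) (hε : (ε₁ = 1 ∨ ε₁ = -1) ∧ (ε₂ = 1 ∨ ε₂ = -1) ∧ (ε₃ = 1 ∨ ε₃ = -1)) (hval : (χ₁ : G → ℂ) J = ε₁ ∧ (χ₂ : G → ℂ) J = ε₂ ∧ (χ₃ : G → ℂ) J = ε₃) (hprod : ε₁ * ε₂ * ε₃ = -1) (hε₃ : ε₃ = -1) : ∃ m : ℕ, 4 * Nat.card (Subgroup.centralizer ({J} : Set G)) = m * Nat.card (Subgroup.centralizer ((P : Subgroup G) : Set G)) * (Cfsg.charDegree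 (χ₃ : G → ℂ) + 1) ∧ 8 * Nat.card G = m ^ 3 * Nat.card (Subgroup.centralizer ((P : Subgroup G) : Set G)) * (Cfsg.charDegree (χ₃ : G → ℂ) ^ 3 - Cfsg.charDegree (χ₃ : G → ℂ)) := by
  classical
  letI : Fintype G := Fintype.ofFinite G
  letI : Fintype (P : Subgroup G) := Fintype.ofFinite _
  haveI : Fact (Nat.Prime 2) := ⟨Nat.prime_two⟩
  haveI := isPrime_of_isPModular hM
  have hord := Cfsg.Agent.S4479.result M hM g₀ hg₀ hG hnc P J hJ hJ2 χ₁ χ₂ χ₃ ε₁ ε₂ ε₃ hB hdist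
    hε hval
  obtain ⟨hP4, hexp, hone⟩ := klein_of_no_normal_complement g₀ hg₀ hG hnc P J hJ hJ2
  have hB₀ : IsPBlock M (principalBlock M G) := isPBlock_principalBlock M
  -- the block as a finset
  have htriv := trivIrr_mem_principalBlock (G := G) M
  have htriv_iff : ∀ χ : IrrCharacter G, (χ : G → ℂ) = (fun _ => 1) ↔ χ = trivIrr G := by
    intro χ
    constructor
    · intro h
      apply Subtype.ext
      rw [h]
      funext g
      rw [trivIrr_apply]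
    · intro h
      rw [h]
      funext g
      rw [trivIrr_apply]
  obtain ⟨T, hTdef⟩ : ∃ T : Finset (IrrCharacter G),
      T = (Set.toFinite (principalBlock M G)).toFinset := ⟨_, rfl⟩
  have hTmem : ∀ χ, χ ∈ T ↔ χ ∈ principalBlock M G := by
    intro χ
    rw [hTdef, Set.Finite.mem_toFinset]
  have hTiff : ∀ χ, χ ∈ T ↔ χ = trivIrr G ∨ χ = χ₁ ∨ χ = χ₂ ∨ χ = χ₃ := by
    intro χ
    rw [hTmem, hB, Set.mem_setOf_eq, htriv_iff]
  obtain ⟨hd1, hd2, hd3, h12, h13, h23⟩ := hdist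
  have hne1 : trivIrr G ≠ χ₁ := fun h => hd1 ((htriv_iff χ₁).2 h.symm)
  have hne2 : trivIrr G ≠ χ₂ := fun h => hd2 ((htriv_iff χ₂).2 h.symm)
  have hne3 : trivIrr G ≠ χ₃ := fun h => hd3 ((htriv_iff χ₃).2 h.symm)
  have hTeq : T = insert (trivIrr G) (insert χ₁ (insert χ₂ {χ₃})) := by
    ext χ
    rw [hTiff χ]
    simp only [Finset.mem_insert, Finset.mem_singleton]
  have hsum4 : ∀ f : IrrCharacter G → ℂ,
      ∑ χ ∈ T, f χ = f (trivIrr G) + (f χ₁ + (f χ₂ + f χ₃)) := by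
    intro f
    rw [hTeq, Finset.sum_insert, Finset.sum_insert, Finset.sum_insert, Finset.sum_singleton]
    · rw [Finset.mem_singleton]; exact h23
    · rw [Finset.mem_insert, Finset.mem_singleton]
      rintro (h | h)
      · exact h12 h
      · exact h13 h
    · rw [Finset.mem_insert, Finset.mem_insert, Finset.mem_singleton]
      rintro (h | h | h)
      · exact hne1 h
      · exact hne2 h
      · exact hne3 h
  have hχ₁B : χ₁ ∈ principalBlock M G := (hTmem _).1 ((hTiff _).2 (Or.inr (Or.inl rfl)))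
  -- names for the numbers
  obtain ⟨hv1, hv2, hv3⟩ := hval
  obtain ⟨hε1, hε2, -⟩ := hε
  obtain ⟨x1, hx1def⟩ : ∃ x1 : ℕ, x1 = charDegree (χ₁ : G → ℂ) := ⟨_, rfl⟩
  obtain ⟨x2, hx2def⟩ : ∃ x2 : ℕ, x2 = charDegree (χ₂ : G → ℂ) := ⟨_, rfl⟩
  obtain ⟨x3, hx3def⟩ : ∃ x3 : ℕ, x3 = charDegree (χ₃ : G → ℂ) := ⟨_, rfl⟩
  obtain ⟨cJ, hcJdef⟩ : ∃ cJ : ℕ, cJ = Nat.card (Subgroup.centralizer ({J} : Set G)) := ⟨_, rfl⟩
  obtain ⟨cP, hcPdef⟩ : ∃ cP : ℕ,
      cP = Nat.card (Subgroup.centralizer ((P : Subgroup G) : Set G)) := ⟨_, rfl⟩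
  obtain ⟨n, hndef⟩ : ∃ n : ℕ, n = Nat.card G := ⟨_, rfl⟩
  rw [← hx1def, ← hx2def, ← hx3def, ← hcJdef, ← hcPdef, ← hndef] at hord
  rw [← hx3def, ← hcJdef, ← hcPdef, ← hndef]
  have hx1 : (χ₁ : G → ℂ) 1 = (x1 : ℂ) := by
    rw [hx1def]; exact (Cfsg.Agent.Helper79.irr_one_eq χ₁).1
  have hx2 : (χ₂ : G → ℂ) 1 = (x2 : ℂ) := by
    rw [hx2def]; exact (Cfsg.Agent.Helper79.irr_one_eq χ₂).1
  have hx3 : (χ₃ : G → ℂ) 1 = (x3 : ℂ) := by
    rw [hx3def]; exact (Cfsg.Agent.Helper79.irr_one_eq χ₃).1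
  have hx1pos : 0 < x1 := by rw [hx1def]; exact (Cfsg.Agent.Helper79.irr_one_eq χ₁).2
  have hx2pos : 0 < x2 := by rw [hx2def]; exact (Cfsg.Agent.Helper79.irr_one_eq χ₂).2
  have hx3pos : 0 < x3 := by rw [hx3def]; exact (Cfsg.Agent.Helper79.irr_one_eq χ₃).2
  have hcJpos : 0 < cJ := by rw [hcJdef]; exact Nat.card_pos
  have hcPpos : 0 < cP := by rw [hcPdef]; exact Nat.card_pos
  -- the degree relation
  have hdegZ : (1 : ℤ) + x1 * ε₁ + x2 * ε₂ + x3 * ε₃ = 0 := by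
    have h1reg : ¬ 2 ∣ orderOf (1 : G) := by
      rw [orderOf_one]; norm_num
    have hJs : 2 ∣ orderOf J := by rw [hJ2]
    have h := Cfsg.Agent.Helper16.weak_block_orthogonality hM hB₀ 1 J h1reg hJs
    rw [← hTdef, hsum4, trivIrr_apply, trivIrr_apply, hv1, hv2, hv3, hx1, hx2, hx3] at h
    simp only [map_one, map_intCast] at h
    have h' : ((1 + x1 * ε₁ + x2 * ε₂ + x3 * ε₃ : ℤ) : ℂ) = 0 := by
      push_cast
      linear_combination h
    exact_mod_cast h'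
  -- the signs
  have hε12 : ε₁ = 1 ∧ ε₂ = 1 := by
    rcases hε1 with h1 | h1 <;> rcases hε2 with h2 | h2
    · exact ⟨h1, h2⟩
    · rw [h1, h2, hε₃] at hprod; norm_num at hprod
    · rw [h1, h2, hε₃] at hprod; norm_num at hprod
    · rw [h1, h2, hε₃] at hdegZ
      exfalso
      have : (0 : ℤ) < x1 := by exact_mod_cast hx1pos
      have : (0 : ℤ) < x2 := by exact_mod_cast hx2pos
      have : (0 : ℤ) < x3 := by exact_mod_cast hx3pos
      linarith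
  obtain ⟨he1, he2⟩ := hε12
  rw [he1, he2, hε₃] at hdegZ
  have hx3eq : x3 = 1 + x1 + x2 := by
    have : (x3 : ℤ) = 1 + x1 + x2 := by linarith
    exact_mod_cast this
  rw [he1] at hv1
  rw [he2] at hv2
  rw [hε₃] at hv3
  have hv1' : (χ₁ : G → ℂ) J = 1 := by rw [hv1]; norm_num
  have hv2' : (χ₂ : G → ℂ) J = 1 := by rw [hv2]; norm_num
  have hv3' : (χ₃ : G → ℂ) J = -1 := by rw [hv3]; norm_num
  -- values on the Sylow subgroup and parity of the degrees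
  have hinv : ∀ (χ : IrrCharacter G) (z : G), orderOf z = 2 → (χ : G → ℂ) z = (χ : G → ℂ) J := by
    intro χ z hz
    obtain ⟨c, hc⟩ := isConj_iff.1 (hone J z hJ2 hz)
    rw [← hc]
    exact isClassFunction_of_isIrrCharacter χ.2 J c
  have hPval : ∀ (χ : IrrCharacter G) (x : P), x ≠ 1 → (χ : G → ℂ) x = (χ : G → ℂ) J := by
    intro χ x hx
    apply hinv
    apply orderOf_eq_prime
    · rw [pow_two]
      exact_mod_cast congrArg Subtype.val (hexp x)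
    · intro h
      apply hx
      exact Subtype.ext h
  have hodd1 : ¬ Even x1 := by
    have h := Cfsg.Agent.S0948.deg_congr (P : Subgroup G) hP4 χ₁ 1 (by
      intro x hx
      rw [hPval χ₁ x hx, hv1']
      norm_num)
    rw [← hx1def] at h
    rintro ⟨j, hj⟩
    obtain ⟨k, hk⟩ := h
    omega
  have hodd2 : ¬ Even x2 := by
    have h := Cfsg.Agent.S0948.deg_congr (P : Subgroup G) hP4 χ₂ 1 (by
      intro x hx
      rw [hPval χ₂ x hx, hv2']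
      norm_num)
    rw [← hx2def] at h
    rintro ⟨j, hj⟩
    obtain ⟨k, hk⟩ := h
    omega
  -- the block-wise Frobenius–Schur count
  have hfs := fs_block_vanish M hM P hexp J hJ2 hB₀
  rw [← hTdef, hsum4, hv1', hv2', hv3', trivIrr_apply] at hfs
  have hνtriv : (Nat.card G : ℂ)⁻¹ * ∑ s : G, (trivIrr G : G → ℂ) (s * s) = 1 := by
    have hne : (Nat.card G : ℂ) ≠ 0 := by
      exact_mod_cast Nat.card_pos.ne'
    simp only [trivIrr_apply, Finset.sum_const, Finset.card_univ, nsmul_eq_mul, mul_one]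
    rw [← Nat.card_eq_fintype_card]
    exact inv_mul_cancel₀ hne
  rw [hνtriv] at hfs
  obtain ⟨h1c, h1r, h1e⟩ := Cfsg.Agent.Helper80.irr_fs χ₁
  obtain ⟨h2c, -, h2e⟩ := Cfsg.Agent.Helper80.irr_fs χ₂
  obtain ⟨h3c, -, -⟩ := Cfsg.Agent.Helper80.irr_fs χ₃
  rw [← hx1def] at h1e
  rw [← hx2def] at h2e
  have hν1 : (Nat.card G : ℂ)⁻¹ * ∑ s : G, (χ₁ : G → ℂ) (s * s) = 0 := by
    rcases h1c with a | a | a
    · exact a
    · exfalso
      rcases h2c with b | b | b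
      · rcases h3c with c | c | c <;> rw [a, b, c] at hfs <;> norm_num at hfs
      · rcases h3c with c | c | c <;> rw [a, b, c] at hfs <;> norm_num at hfs
      · exact hodd2 (h2e b)
    · exact absurd (h1e a) hodd1
  -- `χ₂` is the complex conjugate of `χ₁`
  obtain ⟨s, hs⟩ := h1r.1 hν1
  have hcc : cconjIrr χ₁ = χ₂ := by
    have hmem := cconj_mem_principalBlock M hχ₁B
    rcases (hTiff _).1 ((hTmem _).2 hmem) with h | h | h | h
    · exfalso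
      apply hs
      have h1 : (cconjIrr χ₁ : G → ℂ) s = 1 := by rw [h, trivIrr_apply]
      rw [cconjIrr_apply] at h1
      have h2 : (χ₁ : G → ℂ) s = 1 := by
        have := congrArg conj h1
        simpa using this
      rw [h2]
      simp
    · exfalso
      apply hs
      have h1 : (cconjIrr χ₁ : G → ℂ) s = (χ₁ : G → ℂ) s := by rw [h]
      rw [cconjIrr_apply] at h1
      exact Complex.conj_eq_iff_im.1 h1
    · exact h
    · exfalso
      have h1 : (cconjIrr χ₁ : G → ℂ) J = (χ₃ : G → ℂ) J := by rw [h]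
      rw [cconjIrr_apply, hv1', hv3', map_one] at h1
      norm_num at h1
  have hx21 : x2 = x1 := by
    rw [hx2def, hx1def, ← hcc]
    exact charDegree_cconjIrr χ₁
  rw [hx21] at hx3eq
  -- the order formula in the natural numbers
  rw [he1, he2, hε₃, hx21, hx3eq] at hord
  push_cast at hord
  have hx1Q : (x1 : ℚ) ≠ 0 := by exact_mod_cast hx1pos.ne'
  have hx1Q' : (x1 : ℚ) + 1 ≠ 0 := by positivity
  have hcPQ : (cP : ℚ) ≠ 0 := by exact_mod_cast hcPpos.ne'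
  have hQ : (n : ℚ) * ((x1 + 1) ^ 2 * (cP : ℚ) ^ 2) = 4 * x1 * (1 + x1 + x1) * (cJ : ℚ) ^ 3 := by
    rw [hord]
    have h2x : (1 : ℚ) + x1 + x1 + -1 = 2 * x1 := by ring
    rw [h2x]
    field_simp
    ring
  have hZ : (n : ℤ) * ((x1 + 1) ^ 2 * (cP : ℤ) ^ 2) = 4 * x1 * (1 + x1 + x1) * (cJ : ℤ) ^ 3 := by
    exact_mod_cast hQ
  -- integrality of the central characters
  obtain ⟨I, hIdef⟩ : ∃ I : ℕ, I = (Subgroup.centralizer ({J} : Set G)).index := ⟨_, rfl⟩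
  have hIc : I * cJ = n := by
    rw [hIdef, hcJdef, hndef]
    exact Subgroup.index_mul_card _
  have hd1 : x1 ∣ I := by
    rw [hx1def, hIdef]
    exact degree_dvd_index χ₁ J (Or.inl hv1')
  have hd3 : x3 ∣ I := by
    rw [hx3def, hIdef]
    exact degree_dvd_index χ₃ J (Or.inr hv3')
  obtain ⟨A, hA⟩ := hd1
  obtain ⟨A', hA'⟩ := hd3
  rw [hx3eq] at hA'
  have hcJZ : (cJ : ℤ) ≠ 0 := by exact_mod_cast hcJpos.ne'
  have hx1Z : (x1 : ℤ) ≠ 0 := by exact_mod_cast hx1pos.ne'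
  have hE : (I : ℤ) * ((x1 + 1) ^ 2 * (cP : ℤ) ^ 2) = 4 * x1 * (1 + x1 + x1) * (cJ : ℤ) ^ 2 := by
    have hIcZ : (I : ℤ) * cJ = n := by exact_mod_cast hIc
    rw [← hIcZ] at hZ
    apply mul_left_cancel₀ hcJZ
    linear_combination hZ
  have hE1 : (A : ℤ) * ((x1 + 1) ^ 2 * (cP : ℤ) ^ 2) = 4 * (1 + x1 + x1) * (cJ : ℤ) ^ 2 := by
    have hAZ : (I : ℤ) = x1 * A := by exact_mod_cast hA
    rw [hAZ] at hE
    apply mul_left_cancel₀ hx1Z
    linear_combination hE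
  have hE2 : (A' : ℤ) * ((x1 + 1) ^ 2 * (cP : ℤ) ^ 2) = 4 * x1 * (cJ : ℤ) ^ 2 := by
    have hAZ : (I : ℤ) = (1 + x1 + x1) * A' := by exact_mod_cast hA'
    rw [hAZ] at hE
    have h3Z : ((1 : ℤ) + x1 + x1) ≠ 0 := by positivity
    apply mul_left_cancel₀ h3Z
    linear_combination hE
  have hsq : (((x1 + 1) * cP : ℕ) : ℤ) ^ 2 * ((A : ℤ) - 2 * A') = ((2 * cJ : ℕ) : ℤ) ^ 2 := by
    push_cast
    linear_combination hE1 - 2 * hE2
  have hdvdZ : (((x1 + 1) * cP : ℕ) : ℤ) ∣ ((2 * cJ : ℕ) : ℤ) := by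
    rw [← Int.pow_dvd_pow_iff (n := 2) (by norm_num)]
    exact ⟨_, hsq.symm⟩
  obtain ⟨m, hm⟩ := Int.natCast_dvd_natCast.1 hdvdZ
  refine ⟨m, ?_, ?_⟩
  · rw [hx3eq]
    have : 4 * cJ = 2 * (2 * cJ) := by ring
    rw [this, hm]
    ring
  · have h3 : x3 ^ 3 - x3 = 4 * x1 * (x1 + 1) * x3 := by
      apply Nat.sub_eq_of_eq_add
      rw [hx3eq]
      ring
    rw [h3, hx3eq]
    have hpos : 0 < (x1 + 1) ^ 2 * cP ^ 2 := by positivity
    apply Nat.eq_of_mul_eq_mul_right hpos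
    have hmZ : (2 : ℤ) * cJ = (x1 + 1) * cP * m := by exact_mod_cast hm
    have hgoal : (8 : ℤ) * n * ((x1 + 1) ^ 2 * (cP : ℤ) ^ 2) =
        (m : ℤ) ^ 3 * cP * (4 * x1 * (x1 + 1) * (1 + x1 + x1)) * ((x1 + 1) ^ 2 * (cP : ℤ) ^ 2) := by
      linear_combination 8 * hZ + 4 * (x1 : ℤ) * (1 + x1 + x1) *
        ((2 * cJ) ^ 2 + 2 * cJ * ((x1 + 1) * cP * m) + ((x1 + 1) * cP * m) ^ 2) * hmZ
    exact_mod_cast hgoal

end Cfsg.Agent.S4480
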