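import Mathlib
import Cfsg.Statements.S4483
import Cfsg.Agent.S0952
import Cfsg.Agent.S0961
import Cfsg.Agent.Lib.Helper77.Principal
import Cfsg.Agent.Lib.Helper78.CharCount

set_option autoImplicit false
set_option linter.style.haveILetI false
open Cfsg

namespace Cfsg.Agent.S4483

open scoped ComplexConjugate
open Cfsg.Agent.Helper77 Cfsg.Agent.Helper78

section
variable {G : Type*} [Group G] [Fintype G]

/-- For a real-valued irreducible character of odd degree, the sum of the values over the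
elements of odd order is nonzero. -/
theorem sum_regular_ne_zero (M : Ideal AlgInt) (hM : IsPModular 2 M) (χ : IrrCharacter G)
    (hreal : ∀ g : G, ((χ : G → ℂ) g).im = 0) (hodd : Odd (charDegree (χ : G → ℂ))) :
    ∑ x ∈ Finset.univ.filter (fun x : G => ¬ 2 ∣ orderOf x), (χ : G → ℂ) x ≠ 0 := by
  classical
  intro h0
  have hMmax : M.IsMaximal := hM.2.1
  have h2M : (2 : AlgInt) ∈ M := by
    have := hM.2.2
    simpa using this
  let f : G → AlgInt := fun x => ⟨(χ : G → ℂ) x, IsIrrCharacter.isIntegral χ.2 x⟩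
  have hf : ∀ x, ((f x : AlgInt) : ℂ) = (χ : G → ℂ) x := fun x => rfl
  have hinv : ∀ x : G, f x⁻¹ = f x := by
    intro x
    apply Subtype.ext
    change (χ : G → ℂ) x⁻¹ = (χ : G → ℂ) x
    rw [IsIrrCharacter.inv χ.2 x]
    exact Complex.conj_eq_iff_im.2 (hreal x)
  set S := Finset.univ.filter (fun x : G => ¬ 2 ∣ orderOf x) with hS
  have h1S : (1 : G) ∈ S := by
    rw [hS, Finset.mem_filter]
    refine ⟨Finset.mem_univ _, ?_⟩
    rw [orderOf_one]
    norm_num
  have hsum0 : ∑ x ∈ S, f x = 0 := by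
    apply Subtype.ext
    rw [AddSubmonoidClass.coe_finsetSum]
    simpa [hf] using h0
  have hsplit : ∑ x ∈ S, f x = f 1 + ∑ x ∈ S.erase 1, f x := by
    rw [Finset.add_sum_erase S f h1S]
  have hquot : ∑ x ∈ S.erase 1, Ideal.Quotient.mk M (f x) = 0 := by
    apply Finset.sum_involution (fun a _ => a⁻¹)
    · intro a _
      rw [hinv a, ← map_add, ← two_mul, map_mul]
      rw [Ideal.Quotient.eq_zero_iff_mem.2 h2M, zero_mul]
    · intro a ha _ hcon
      rw [Finset.mem_erase, hS, Finset.mem_filter] at ha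
      have h2 : a ^ 2 = 1 := by
        rw [pow_two]
        nth_rewrite 1 [← hcon]
        exact inv_mul_cancel a
      have h3 : orderOf a ∣ 2 := orderOf_dvd_of_pow_eq_one h2
      have h4 : orderOf a = 1 ∨ orderOf a = 2 := (Nat.dvd_prime Nat.prime_two).1 h3
      rcases h4 with h4 | h4
      · exact ha.1 (orderOf_eq_one_iff.1 h4)
      · exact ha.2.2 (by rw [h4])
    · intro a _
      exact inv_inv a
    · intro a ha
      rw [Finset.mem_erase, hS, Finset.mem_filter] at ha ⊢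
      refine ⟨fun h => ha.1 (inv_eq_one.1 h), Finset.mem_univ _, ?_⟩
      rw [orderOf_inv]
      exact ha.2.2
  have hmem : ∑ x ∈ S.erase 1, f x ∈ M := by
    rw [← Ideal.Quotient.eq_zero_iff_mem, map_sum]
    exact hquot
  have hf1 : f 1 ∈ M := by
    have : f 1 = - ∑ x ∈ S.erase 1, f x := by
      rw [eq_neg_iff_add_eq_zero, ← hsplit, hsum0]
    rw [this]
    exact M.neg_mem hmem
  obtain ⟨hd, _⟩ := irr_charDegree χ.2
  obtain ⟨k, hk⟩ := hodd
  have hf1' : f 1 = (2 : AlgInt) * (k : AlgInt) + 1 := by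
    apply Subtype.ext
    change (χ : G → ℂ) 1 = _
    rw [hd, hk]
    push_cast
    rfl
  have h1M : (1 : AlgInt) ∈ M := by
    have : (1 : AlgInt) = f 1 - (2 : AlgInt) * (k : AlgInt) := by
      rw [hf1']; ring
    rw [this]
    exact M.sub_mem hf1 (M.mul_mem_right _ h2M)
  exact hMmax.ne_top ((Ideal.eq_top_iff_one M).2 h1M)

/-- Part 1. -/
theorem mem_principalBlock (M : Ideal AlgInt) (hM : IsPModular 2 M) (χ : IrrCharacter G)
    (hreal : ∀ g : G, ((χ : G → ℂ) g).im = 0) (hodd : Odd (charDegree (χ : G → ℂ))) :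
    χ ∈ principalBlock M G := by
  classical
  by_contra hnot
  have hnot' : ¬ SameBlock M ((trivIrr G : IrrCharacter G) : G → ℂ) (χ : G → ℂ) := hnot
  haveI : Fact (Nat.Prime 2) := ⟨Nat.prime_two⟩
  have h := Cfsg.Agent.S0952.result 2 M hM (trivIrr G) χ hnot'
  apply sum_regular_ne_zero M hM χ hreal hodd
  rw [finsum_mem_eq_finite_toFinset_sum _ (Set.toFinite _)] at h
  rw [← h]
  refine Finset.sum_congr ?_ fun x _ => ?_
  · ext x
    simp
  · rw [trivIrr_apply, one_mul]
    exact (Complex.conj_eq_iff_im.2 (hreal x)).symm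

/-- Part 2. -/
theorem card_le (M : Ideal AlgInt) (hM : IsPModular 2 M) :
    Nat.card {χ : IrrCharacter G // (∀ g : G, ((χ : G → ℂ) g).im = 0) ∧
      Odd (charDegree (χ : G → ℂ))} ≤ 2 ^ (2 * (Nat.card G).factorization 2) := by
  classical
  haveI : Fact (Nat.Prime 2) := ⟨Nat.prime_two⟩
  set n := (Nat.card G).factorization 2 with hn
  set S := Finset.univ.filter (fun x : G => ¬ 2 ∣ orderOf x) with hS
  set θ : G → ℂ := fun x => if 2 ∣ orderOf x then 0 else
    ((2 ^ n : ℕ) : ℂ) * ((trivIrr G : IrrCharacter G) : G → ℂ) x with hθdef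
  have hθ : IsGeneralizedCharacter G θ := Cfsg.Agent.S0961.result 2 (trivIrr G)
  obtain ⟨ψ₁, ψ₂, h₁, h₂, hθeq⟩ := hθ
  obtain ⟨m₁, hm₁⟩ := Cfsg.Agent.Helper78.IsCharacter.exists_irr_decomp h₁
  obtain ⟨m₂, hm₂⟩ := Cfsg.Agent.Helper78.IsCharacter.exists_irr_decomp h₂
  set c : IrrCharacter G → ℤ := fun χ => (m₁ χ : ℤ) - (m₂ χ : ℤ) with hc
  have hθsum : θ = ∑ χ : IrrCharacter G, ((c χ : ℤ) : ℂ) • (χ : G → ℂ) := by
    rw [hθeq, hm₁, hm₂, ← Finset.sum_sub_distrib]
    refine Finset.sum_congr rfl fun χ _ => ?_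
    rw [hc]
    push_cast
    rw [sub_smul]
  have hinner : ∀ χ : IrrCharacter G, classInner θ (χ : G → ℂ) = ((c χ : ℤ) : ℂ) := by
    intro χ
    rw [hθsum]
    exact classInner_decomp (fun ψ => ((c ψ : ℤ) : ℂ)) χ
  have hθval : ∀ x : G, θ x = if ¬ 2 ∣ orderOf x then ((2 ^ n : ℕ) : ℂ) else 0 := by
    intro x
    rw [hθdef]
    by_cases hx : 2 ∣ orderOf x
    · simp [hx]
    · simp [hx, trivIrr_apply]
  -- direct computation of the inner products
  have hdirect : ∀ χ : IrrCharacter G, (∀ g : G, ((χ : G → ℂ) g).im = 0) →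
      classInner θ (χ : G → ℂ) =
        (Nat.card G : ℂ)⁻¹ * (((2 ^ n : ℕ) : ℂ) * ∑ x ∈ S, (χ : G → ℂ) x) := by
    intro χ hreal
    unfold classInner
    congr 1
    rw [Finset.mul_sum, hS, Finset.sum_filter]
    refine Finset.sum_congr rfl fun x _ => ?_
    rw [hθval x, Complex.conj_eq_iff_im.2 (hreal x)]
    by_cases hx : 2 ∣ orderOf x
    · simp [hx]
    · simp [hx]
  have hnorm1 : classInner θ θ = ∑ χ : IrrCharacter G, (((c χ : ℤ) : ℂ)) * ((c χ : ℤ) : ℂ) := by
    nth_rewrite 1 [hθsum]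
    rw [classInner_sum_left]
    refine Finset.sum_congr rfl fun χ _ => ?_
    rw [classInner_smul_left, ← classInner_conj_symm, hinner χ, map_intCast]
  have hnorm2 : classInner θ θ =
      (Nat.card G : ℂ)⁻¹ * ((((2 ^ n : ℕ) : ℂ) * ((2 ^ n : ℕ) : ℂ)) * (S.card : ℂ)) := by
    unfold classInner
    congr 1
    rw [← nsmul_eq_mul', ← Finset.sum_const, hS, Finset.sum_filter]
    refine Finset.sum_congr rfl fun x _ => ?_
    rw [hθval x]
    by_cases hx : 2 ∣ orderOf x
    · simp [hx]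
    · simp only [hx, not_false_eq_true, if_true, Complex.conj_natCast]
  have hcardpos : 0 < Nat.card G := Nat.card_pos
  have hcne : (Nat.card G : ℂ) ≠ 0 := by exact_mod_cast hcardpos.ne'
  have hkey : (∑ χ : IrrCharacter G, c χ * c χ) * (Nat.card G : ℤ) =
      ((2 ^ n : ℕ) : ℤ) * ((2 ^ n : ℕ) : ℤ) * (S.card : ℤ) := by
    have h3 : (∑ χ : IrrCharacter G, (((c χ : ℤ) : ℂ)) * ((c χ : ℤ) : ℂ)) * (Nat.card G : ℂ) =
        (((2 ^ n : ℕ) : ℂ) * ((2 ^ n : ℕ) : ℂ)) * (S.card : ℂ) := by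
      rw [← hnorm1, hnorm2]
      field_simp
    exact_mod_cast h3
  have hScard : S.card ≤ Nat.card G := by
    rw [Nat.card_eq_fintype_card]
    exact Finset.card_le_univ S
  have hbound : ∑ χ : IrrCharacter G, c χ * c χ ≤ ((2 ^ n : ℕ) : ℤ) * ((2 ^ n : ℕ) : ℤ) := by
    have hpos : (0 : ℤ) < (Nat.card G : ℤ) := by exact_mod_cast hcardpos
    have h4 : (∑ χ : IrrCharacter G, c χ * c χ) * (Nat.card G : ℤ) ≤
        ((2 ^ n : ℕ) : ℤ) * ((2 ^ n : ℕ) : ℤ) * (Nat.card G : ℤ) := by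
      rw [hkey]
      apply mul_le_mul_of_nonneg_left
      · exact_mod_cast hScard
      · positivity
    exact le_of_mul_le_mul_right h4 hpos
  -- the set of real odd-degree characters
  set T := Finset.univ.filter (fun χ : IrrCharacter G =>
    (∀ g : G, ((χ : G → ℂ) g).im = 0) ∧ Odd (charDegree (χ : G → ℂ))) with hT
  have hcardT : Nat.card {χ : IrrCharacter G // (∀ g : G, ((χ : G → ℂ) g).im = 0) ∧
      Odd (charDegree (χ : G → ℂ))} = T.card := by
    rw [Nat.card_eq_fintype_card, Fintype.card_subtype]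
  rw [hcardT]
  have hcne0 : ∀ χ ∈ T, c χ ≠ 0 := by
    intro χ hχ
    rw [hT, Finset.mem_filter] at hχ
    intro h0
    have h5 := hinner χ
    rw [h0, hdirect χ hχ.2.1] at h5
    have h6 := sum_regular_ne_zero M hM χ hχ.2.1 hχ.2.2
    have h7 : ((2 ^ n : ℕ) : ℂ) ≠ 0 := by
      have : (2 ^ n : ℕ) ≠ 0 := by positivity
      exact_mod_cast this
    simp only [Int.cast_zero, mul_eq_zero, inv_eq_zero] at h5
    rcases h5 with h5 | h5 | h5
    · exact hcne h5
    · exact h7 h5
    · exact h6 h5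
  have h8 : (T.card : ℤ) ≤ ∑ χ ∈ T, c χ * c χ := by
    rw [Finset.card_eq_sum_ones, Nat.cast_sum]
    apply Finset.sum_le_sum
    intro χ hχ
    have := hcne0 χ hχ
    have h9 : 0 < c χ * c χ := mul_self_pos.2 this
    push_cast
    omega
  have h10 : ∑ χ ∈ T, c χ * c χ ≤ ∑ χ : IrrCharacter G, c χ * c χ := by
    apply Finset.sum_le_sum_of_subset_of_nonneg (Finset.subset_univ T)
    intro χ _ _
    exact mul_self_nonneg _
  have h11 : (T.card : ℤ) ≤ ((2 ^ (2 * n) : ℕ) : ℤ) := by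
    refine (h8.trans h10).trans (hbound.trans ?_)
    push_cast
    rw [two_mul, pow_add]
  exact_mod_cast h11

end

/-- Let G be a finite group of order 2^n·g₀ with g₀ odd, and M a maximal ideal of the algebraic integers containing 2. Every real-valued irreducible character of G of odd degree lies in the principal 2-block; consequently G has at most 2^(2n) real-valued irreducible characters of odd degree. -/
theorem result {G : Type*} [Group G] [Finite G] (M : Ideal Cfsg.AlgInt) (hM : Cfsg.IsPModular 2 M) : (∀ χ : Cfsg.IrrCharacter G, (∀ g : G, ((χ : G → ℂ) g).im = 0) → Odd (Cfsg.charDegree (χ : G → ℂ)) → χ ∈ Cfsg.principalBlock M G) ∧ Nat.card {χ : Cfsg.IrrCharacter G // (∀ g : G, ((χ : G → ℂ) g).im = 0) ∧ Odd (Cfsg.charDegree (χ : G → ℂ))} ≤ 2 ^ (2 * (Nat.card G).factorization 2) := by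
  classical
  haveI : Fintype G := Fintype.ofFinite G
  exact ⟨fun χ hreal hodd => mem_principalBlock M hM χ hreal hodd, card_le M hM⟩

end Cfsg.Agent.S4483
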