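import Cfsg.Statements.S4486
import Cfsg.Agent.Lib.Helper15.BLMain

set_option autoImplicit false
open Cfsg

namespace Cfsg.Agent.S4486

/-- Let G be a finite group and p a prime dividing its order such that every non-identity element of a Sylow p-subgroup P has the same centralizer as P; let p^n be the order of P. If G has a non-principal irreducible character χ of degree x with x² < p^n − 1, then either G has a proper normal subgroup containing P, or G has a normal subgroup of index p^n and x = 1. -/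
theorem result {G : Type*} [Group G] [Finite G] (p : ℕ) (hp : p.Prime) (hpG : p ∣ Nat.card G) (P : Sylow p G) (hstar : ∀ x ∈ (P : Subgroup G), x ≠ 1 → Subgroup.centralizer ({x} : Set G) = Subgroup.centralizer ((P : Subgroup G) : Set G)) (n : ℕ) (hn : Nat.card P = p ^ n) (χ : Cfsg.IrrCharacter G) (h1 : (χ : G → ℂ) ≠ fun _ => 1) (hdeg : Cfsg.charDegree (χ : G → ℂ) ^ 2 + 1 < p ^ n) : (∃ K : Subgroup G, K.Normal ∧ K ≠ ⊤ ∧ (P : Subgroup G) ≤ K) ∨ ((∃ N : Subgroup G, N.Normal ∧ N.index = p ^ n) ∧ Cfsg.charDegree (χ : G → ℂ) = 1) := by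
  classical
  have : Fact p.Prime := ⟨hp⟩
  have : Fintype G := Fintype.ofFinite G
  by_cases hK : ∃ K : Subgroup G, K.Normal ∧ K ≠ ⊤ ∧ (P : Subgroup G) ≤ K
  · exact Or.inl hK
  · right
    have hH : Cfsg.Agent.Helper15.BL.NoProper P := by
      intro K hKn hPK
      by_contra hne
      exact hK ⟨K, hKn, hne, hPK⟩
    have hUC : Cfsg.Agent.Helper15.BL.UC P := hstar
    have : Fintype (Cfsg.Agent.Helper15.BL.Cc P) := Fintype.ofFinite _
    have : Fintype (IrrCharacter (Cfsg.Agent.Helper15.BL.Cc P)) :=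
      @Fintype.ofFinite _ Cfsg.Agent.Helper81.irr_finite
    have : Fintype (IrrCharacter G) := @Fintype.ofFinite _ Cfsg.Agent.Helper81.irr_finite
    have hdeg' : Cfsg.charDegree (χ : G → ℂ) ^ 2 + 1 < Nat.card (P : Subgroup G) := by
      rw [hn]; exact hdeg
    obtain ⟨hNC, hx⟩ := Cfsg.Agent.Helper15.BL.main_core hUC hH χ h1 hdeg'
    refine ⟨?_, hx⟩
    have hCN : Cfsg.Agent.Helper15.BL.Cc P = Cfsg.Agent.Helper15.BL.Nn P :=
      Subgroup.eq_of_le_of_card_ge Cfsg.Agent.Helper15.BL.Cc_le_Nn (le_of_eq hNC)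
    have hP : Subgroup.normalizer ((P : Subgroup G) : Set G)
        ≤ Subgroup.centralizer ((P : Subgroup G) : Set G) := by
      intro g hg
      have : g ∈ Cfsg.Agent.Helper15.BL.Nn P := hg
      rw [← hCN] at this
      exact this
    have hcomp := MonoidHom.ker_transferSylow_isComplement' P hP
    refine ⟨(MonoidHom.transferSylow P hP).ker, MonoidHom.normal_ker _, ?_⟩
    rw [hcomp.symm.index_eq_card]
    exact hn

end Cfsg.Agent.S4486
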