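import Cfsg.Statements.S4489
import Cfsg.Agent.Lib.Helper74.FieldVal2
import Cfsg.Agent.Lib.Helper74.FieldVal3
import Cfsg.Agent.Lib.Helper79.CharBasic

set_option autoImplicit false
open Cfsg

namespace Cfsg.Agent.S4489

open Cfsg.Agent.Helper75.UA Cfsg.Agent.Helper74.JD Cfsg.Agent.Helper74.FV in
/-- Let P be a finite p-group of order p^a with a > 0, and χ a faithful irreducible character of P of degree f whose field of values ℚ(χ) has degree (p − 1)·p^t over ℚ. Then a ≤ (f − 1)/(p − 1) + (t + 1)·f; in integer form, (p − 1)·a ≤ (f − 1) + (p − 1)(t + 1)·f. -/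
theorem result {P : Type*} [Group P] [Finite P] (p a : ℕ) (hp : p.Prime) (ha : 0 < a) (hP : Nat.card P = p ^ a) (χ : Cfsg.IrrCharacter P) (hfaith : ∀ g : P, (χ : P → ℂ) g = (χ : P → ℂ) 1 → g = 1) (f t : ℕ) (hf : Cfsg.charDegree (χ : P → ℂ) = f) (hfield : Module.finrank ℚ (IntermediateField.adjoin ℚ (Set.range (χ : P → ℂ))) = (p - 1) * p ^ t) : (p - 1) * a ≤ (f - 1) + (p - 1) * (t + 1) * f := by
  classical
  haveI : Fact p.Prime := ⟨hp⟩
  obtain ⟨χf, hχ⟩ := χ
  obtain ⟨m, ρ, hirr, rfl⟩ := hχ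
  simp only at hfaith hf hfield
  have h1 : ρ.character 1 = (m : ℂ) := by
    simp [Representation.character]
  have hm : m = f := by
    rw [← hf, Cfsg.charDegree, h1]
    simp
  subst hm
  have hinj : Function.Injective ρ := by
    intro g h hgh
    have h2 : ρ (g * h⁻¹) = 1 := by
      rw [map_mul, hgh, ← map_mul, mul_inv_cancel, map_one]
    have h3 : ρ.character (g * h⁻¹) = ρ.character 1 := by
      rw [h1]
      have := (Helper79.char_eq_finrank_iff ρ (g * h⁻¹)).mpr h2
      simpa using this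
    have := hfaith _ h3
    exact mul_inv_eq_one.mp this
  have hPp : IsPGroup p P := IsPGroup.of_card hP
  have hexpP : ∀ g : P, g ^ (p ^ a) = 1 := fun g => by
    rw [← hP]
    exact pow_card_eq_one'
  obtain ⟨K, hKn, hab, hcent⟩ :=
    Cfsg.Agent.Helper53.exists_normal_abelian_self_centralizing hPp
  haveI := hKn
  have hidx := index_dvd_factorial ρ K hinj hab hcent
  have hfr : Module.finrank ℂ (Fin m → ℂ) = m := by simp
  rw [hfr] at hidx
  obtain ⟨k, hk⟩ := (hPp.to_subgroup K).exists_card_eq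
  have hmul := Subgroup.card_mul_index K
  rw [hk, hP] at hmul
  have hka : k ≤ a := by
    have hdvd : p ^ k ∣ p ^ a := Dvd.intro _ hmul
    exact (Nat.pow_dvd_pow_iff_le_right hp.one_lt).mp hdvd
  have hindex : K.index = p ^ (a - k) := by
    have h2 : p ^ k * p ^ (a - k) = p ^ a := by
      rw [← pow_add, Nat.add_sub_cancel' hka]
    have h3 : p ^ k * K.index = p ^ k * p ^ (a - k) := by rw [hmul, h2]
    exact Nat.eq_of_mul_eq_mul_left (pow_pos hp.pos k) h3
  rw [hindex] at hidx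
  -- Part A
  have hA : (p - 1) * (a - k) ≤ m - 1 := by
    rcases Nat.eq_zero_or_pos m with h0 | h0
    · subst h0
      rw [Nat.factorial_zero, Nat.dvd_one] at hidx
      have : a - k = 0 := by
        by_contra hne
        have := Nat.one_lt_pow hne hp.one_lt
        omega
      rw [this]
      simp
    · have h2 : a - k ≤ padicValNat p m.factorial :=
        (padicValNat_dvd_iff_le (Nat.factorial_ne_zero m)).mp hidx
      have h3 := sub_one_mul_padicValNat_factorial_lt_of_ne_zero p h0.ne'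
      have h4 : (p - 1) * (a - k) ≤ (p - 1) * padicValNat p m.factorial :=
        Nat.mul_le_mul_left _ h2
      omega
  -- Part B
  have hpos : 0 < (p - 1) * p ^ t :=
    Nat.mul_pos (Nat.sub_pos_of_lt hp.one_lt) (pow_pos hp.pos t)
  haveI hfd : FiniteDimensional ℚ (IntermediateField.adjoin ℚ (Set.range ρ.character)) :=
    Module.finite_of_finrank_pos (hfield ▸ hpos)
  have hcu := card_units_le ρ (p ^ a) hexpP
  rw [hfield, Nat.card_eq_fintype_card, ZMod.card_units_eq_totient,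
    Nat.totient_prime_pow hp ha] at hcu
  have hΓ : p ^ a ≤ Nat.card (stab ρ (p ^ a) hexpP) * p ^ (t + 1) := by
    set S := Nat.card (stab ρ (p ^ a) hexpP) with hS
    have h2 : p ^ (a - 1) * (p - 1) ≤ (S * p ^ t) * (p - 1) := by
      calc p ^ (a - 1) * (p - 1) ≤ S * ((p - 1) * p ^ t) := hcu
        _ = (S * p ^ t) * (p - 1) := by ring
    have h3 : p ^ (a - 1) ≤ S * p ^ t :=
      Nat.le_of_mul_le_mul_right h2 (Nat.sub_pos_of_lt hp.one_lt)
    calc p ^ a = p ^ (a - 1) * p := by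
          rw [← pow_succ, Nat.sub_add_cancel ha]
      _ ≤ (S * p ^ t) * p := Nat.mul_le_mul_right _ h3
      _ = S * p ^ (t + 1) := by rw [pow_succ, mul_assoc]
  haveI := finite_Om ρ K hab
  haveI := Fintype.ofFinite (Om ρ K)
  haveI := Fintype.ofFinite K
  choose N hN using fun μ : Om ρ K => exists_hom_of_weight ρ K μ.1 μ.2
  set Ω : Finset (K →* ℂˣ) := Finset.univ.image N with hΩ
  have hΩcard : Ω.card ≤ m := by
    calc Ω.card ≤ (Finset.univ : Finset (Om ρ K)).card := Finset.card_image_le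
      _ = Nat.card (Om ρ K) := by rw [Finset.card_univ, Nat.card_eq_fintype_card]
      _ ≤ Module.finrank ℂ (Fin m → ℂ) := card_Om_le ρ K hab
      _ = m := hfr
  have hmemΩ : ∀ ν : K →* ℂˣ, ν ∈ Ω ↔
      jointEig (fam ρ K) (fun a => ((ν a : ℂˣ) : ℂ)) ≠ ⊥ := by
    intro ν
    constructor
    · intro hν
      obtain ⟨μ, -, rfl⟩ := Finset.mem_image.mp hν
      have : (fun a => ((N μ a : ℂˣ) : ℂ)) = μ.1 := funext (hN μ)
      rw [this]
      exact μ.2
    · intro hν
      refine Finset.mem_image.mpr ⟨⟨_, hν⟩, Finset.mem_univ _, ?_⟩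
      apply MonoidHom.ext
      intro x
      apply Units.ext
      exact hN ⟨_, hν⟩ x
  have hexpK : ∀ x : K, x ^ (p ^ a) = 1 := fun x => by
    apply Subtype.ext
    rw [Subgroup.coe_pow, hexpP]
    rfl
  have hcl : ∀ μ ∈ Ω, ∀ u ∈ stab ρ (p ^ a) hexpP, μ ^ ((u : ZMod (p ^ a))).val ∈ Ω := by
    intro ν hν u hu
    rw [hmemΩ] at hν ⊢
    apply weight_pow ρ K ν hν
    · rw [hk]
      have hc : ((u : ZMod (p ^ a))).val.Coprime (p ^ a) := ZMod.val_coe_unit_coprime u
      have hc2 : ((u : ZMod (p ^ a))).val.Coprime p :=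
        Nat.Coprime.coprime_dvd_right (dvd_pow_self p ha.ne') hc
      exact (Nat.Coprime.pow_right k hc2).symm
    · intro x
      exact (mem_stab ρ hexpP u).mp hu (x : P)
  have hsep : ∀ x : K, (∀ μ ∈ Ω, μ x = 1) → x = 1 := by
    intro x hx
    apply eq_one_of_weights ρ K hinj hab x
    intro μ hμ
    have h2 := hx (N ⟨μ, hμ⟩) (Finset.mem_image_of_mem _ (Finset.mem_univ _))
    have h3 := hN ⟨μ, hμ⟩ x
    rw [h2] at h3
    simpa using h3.symm
  have hB0 := card_le_pow p a t hexpK (stab ρ (p ^ a) hexpP) hΓ Ω hcl hsep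
  rw [hk] at hB0
  have hB : k ≤ (t + 1) * m := by
    have h2 : p ^ k ≤ p ^ ((t + 1) * m) := by
      calc p ^ k ≤ (p ^ (t + 1)) ^ Ω.card := hB0
        _ ≤ (p ^ (t + 1)) ^ m :=
          Nat.pow_le_pow_right (pow_pos hp.pos _) hΩcard
        _ = p ^ ((t + 1) * m) := by rw [← pow_mul]
    exact (Nat.pow_le_pow_iff_right hp.one_lt).mp h2
  calc (p - 1) * a = (p - 1) * (a - k) + (p - 1) * k := by
        rw [← mul_add, Nat.sub_add_cancel hka]
    _ ≤ (m - 1) + (p - 1) * ((t + 1) * m) :=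
        Nat.add_le_add hA (Nat.mul_le_mul_left _ hB)
    _ = (m - 1) + (p - 1) * (t + 1) * m := by rw [mul_assoc]

end Cfsg.Agent.S4489
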