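import Cfsg.Statements.S4492
import Cfsg.Agent.Lib.Helper81.FongInvariant

set_option autoImplicit false
open Cfsg

namespace Cfsg.Agent.S4492

/-- Let G be a finite p-solvable group, N = O_{p'}(G) its largest normal subgroup of order prime to p, and θ an irreducible character of N invariant under conjugation by G; fix a maximal ideal M of the algebraic integers containing p. Then the irreducible characters of G lying over θ (those whose restriction to N contains θ) form a single p-block of G, and the defect groups of that block are exactly the Sylow p-subgroups of G. -/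
theorem result {G : Type*} [Group G] [Fintype G] (p : ℕ) [Fact p.Prime] (M : Ideal Cfsg.AlgInt) (hM : Cfsg.IsPModular p M) (hsolv : Cfsg.IsPSolvable p G) (N : Subgroup G) [hN : N.Normal] [Fintype N] (hNdef : N = Cfsg.pPrimeCore p G) (θ : Cfsg.IrrCharacter N) (hinv : ∀ (g : G) (n : N), (θ : N → ℂ) ⟨g * n * g⁻¹, hN.conj_mem n n.2 g⟩ = (θ : N → ℂ) n) : ∃ B : Set (Cfsg.IrrCharacter G), Cfsg.IsPBlock M B ∧ (∀ χ : Cfsg.IrrCharacter G, χ ∈ B ↔ Cfsg.classInner (fun n : N => (χ : G → ℂ) n) (θ : N → ℂ) ≠ 0) ∧ (∀ P : Sylow p G, Cfsg.IsDefectGroup p M B (P : Subgroup G)) ∧ ∀ D : Subgroup G, Cfsg.IsDefectGroup p M B D → ∃ P : Sylow p G, D = (P : Subgroup G) := by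
  classical
  haveI hpr := Cfsg.Agent.Helper77.isPrime_of_isPModular hM
  have hp : p.Prime := Fact.out
  have hpN : ¬ p ∣ Nat.card N := by
    rw [hNdef]
    intro h
    exact hp.one_lt.ne'
      (Nat.Coprime.eq_one_of_dvd (Cfsg.Agent.Helper55.pPrimeCore_coprime (G := G) p).symm h)
  obtain ⟨χ₀, hχ₀1, hχ₀2⟩ := Cfsg.Agent.Helper81.exists_pprime_degree_over p N hpN θ.2 hinv
  have hB : Cfsg.IsPBlock M (Cfsg.blockOf M (χ₀ : G → ℂ)) :=
    Cfsg.Agent.Helper77.isPBlock_blockOf χ₀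
  have hsyl : ∀ P : Sylow p G,
      Cfsg.IsDefectGroup p M (Cfsg.blockOf M (χ₀ : G → ℂ)) (P : Subgroup G) := fun P =>
    Cfsg.Agent.Helper81.isDefectGroup_sylow_of_not_dvd_degree hM hB χ₀
      (Cfsg.Agent.Helper77.mem_blockOf_self χ₀) hχ₀2 P
  refine ⟨Cfsg.blockOf M (χ₀ : G → ℂ), hB, ?_, hsyl, ?_⟩
  · intro χ
    constructor
    · intro hχ
      exact Cfsg.Agent.Helper81.over_of_sameBlock hM N hpN θ hinv χ₀ χ hχ₀1 hχ
    · intro hχ
      exact Cfsg.Agent.Helper81.sameBlock_of_over_invariant p M hM _ G rfl hsolv N hN hNdef θ hinv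
        χ₀ χ hχ₀1 hχ
  · intro D hD
    obtain ⟨P₀⟩ : Nonempty (Sylow p G) := inferInstance
    obtain ⟨g, hg⟩ := Cfsg.Agent.Helper78.exists_conj_eq_of_isDefectGroup hM hB hD (hsyl P₀)
    refine ⟨g • P₀, ?_⟩
    rw [Sylow.coe_subgroup_smul, ← hg]
    rfl

end Cfsg.Agent.S4492
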