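import Cfsg.Statements.S4493
import Cfsg.Agent.Lib.Helper78.ItoMichlerPSolv
import Cfsg.Agent.Lib.Helper76.SolvPSolv

set_option autoImplicit false
open Cfsg

namespace Cfsg.Agent.S4493

/-- Let G be a finite solvable group and p a prime. Then G has a normal abelian Sylow p-subgroup if and only if no irreducible character degree of G is divisible by p. -/
theorem result {G : Type*} [Group G] [Finite G] (hsolv : Group.IsSolvable G) (p : ℕ) (hp : p.Prime) : (∃ P : Subgroup G, P.Normal ∧ (∀ x ∈ P, ∀ y ∈ P, x * y = y * x) ∧ IsPGroup p P ∧ ¬ p ∣ P.index) ↔ ∀ χ : Cfsg.IrrCharacter G, ¬ p ∣ Cfsg.charDegree (χ : G → ℂ) := by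
  have : Fact p.Prime := ⟨hp⟩
  constructor
  · rintro ⟨N, hN, hcomm, hNp, hidx⟩
    exact Cfsg.Agent.Helper78.not_dvd_degree_of_hasNormalAbelianSylow p
      ⟨N, hN, hNp, hidx, hcomm⟩
  · intro hdeg
    have hps : Cfsg.IsPSolvable p G := Cfsg.Agent.Helper76.isPSolvable_of_isSolvable' p
    obtain ⟨N, hN, hNp, hidx, hcomm⟩ :=
      Cfsg.Agent.Helper78.hasNormalAbelianSylow_of_isPSolvable p hps hdeg
    exact ⟨N, hN, hcomm, hNp, hidx⟩

end Cfsg.Agent.S4493
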