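import Cfsg.Statements.S4495
import Cfsg.Agent.Lib.Helper74.SelfCent2

set_option autoImplicit false
open Cfsg

namespace Cfsg.Agent.S4495

/-- Let the finite group G contain an element x of prime order p with C_G(x) = ⟨x⟩, and let t be the number of conjugacy classes of elements of order p. If t ≠ p − 1 then the commutator subgroup has index at most (p − 1)/t; if t = p − 1 it has index exactly p. -/
theorem result {G : Type*} [Group G] [Finite G] (p : ℕ) (hp : p.Prime) (x : G) (hx : orderOf x = p) (hC : Subgroup.centralizer ({x} : Set G) = Subgroup.zpowers x) (t : ℕ) (ht : Nat.card {C : ConjClasses G // ∃ g ∈ C.carrier, orderOf g = p} = t) : (t ≠ p - 1 → (commutator G).index * t ≤ p - 1) ∧ (t = p - 1 → (commutator G).index = p) := by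
  have h : Cfsg.Agent.Helper74.SelfCent p x := ⟨hp, hx, hC⟩
  have hcount : t * Cfsg.Agent.Helper74.SelfCent.eIdx x = p - 1 := by
    rw [← ht]; exact h.card_Cl_mul_eIdx
  have hp1 : 0 < p - 1 := Nat.sub_pos_of_lt hp.one_lt
  constructor
  · intro hne
    have he : Cfsg.Agent.Helper74.SelfCent.eIdx x ≠ 1 := by
      intro he
      rw [he, mul_one] at hcount
      exact hne hcount
    have hxc := h.x_mem_commutator he
    have hdvd := h.index_dvd_eIdx (commutator G) hxc
    have : (commutator G).index * t ∣ p - 1 := by
      rw [← hcount, mul_comm]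
      exact Nat.mul_dvd_mul_left t hdvd
    exact Nat.le_of_dvd hp1 this
  · intro heq
    have he : Cfsg.Agent.Helper74.SelfCent.eIdx x = 1 := by
      rw [heq] at hcount
      have := Nat.eq_of_mul_eq_mul_left hp1 (hcount.trans (mul_one _).symm)
      exact this
    exact h.index_eq_of_commutator_le (commutator G) (h.not_dvd_card_commutator he) le_rfl

end Cfsg.Agent.S4495
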