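import Cfsg.Statements.S4498
import Cfsg.Agent.Lib.Helper16.WBO
import Cfsg.Agent.Lib.Helper77.Principal
import Cfsg.Agent.Lib.Helper80.CharBasic

set_option autoImplicit false
open Cfsg

namespace Cfsg.Agent.S4498

open scoped ComplexConjugate

/-- Let p and q be distinct primes dividing the order of the finite group G, and suppose G has no element of order p·q. Fix maximal ideals M_p over p and M_q over q of the algebraic integers. Then the principal p-block and the principal q-block of G have a non-principal irreducible character in common. -/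
theorem result {G : Type*} [Group G] [Finite G] (p q : ℕ) [Fact p.Prime] [Fact q.Prime] (hpq : p ≠ q) (hp : p ∣ Nat.card G) (hq : q ∣ Nat.card G) (hno : ∀ g : G, orderOf g ≠ p * q) (Mp Mq : Ideal Cfsg.AlgInt) (hMp : Cfsg.IsPModular p Mp) (hMq : Cfsg.IsPModular q Mq) : ∃ χ : Cfsg.IrrCharacter G, (χ : G → ℂ) ≠ (fun _ => 1) ∧ χ ∈ Cfsg.principalBlock Mp G ∧ χ ∈ Cfsg.principalBlock Mq G := by
  classical
  have hfin : Fintype G := Fintype.ofFinite G
  have hpp : p.Prime := Fact.out
  have hqp : q.Prime := Fact.out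
  have hMpP : Mp.IsPrime := Cfsg.Agent.Helper77.isPrime_of_isPModular hMp
  have hMqP : Mq.IsPrime := Cfsg.Agent.Helper77.isPrime_of_isPModular hMq
  by_contra hcon
  push Not at hcon
  -- every common character is trivial
  obtain ⟨y, hy⟩ := exists_prime_orderOf_dvd_card' p hp
  obtain ⟨g, hg⟩ := exists_prime_orderOf_dvd_card' q hq
  have hGne : (Nat.card G : ℂ) ≠ 0 := by exact_mod_cast Nat.card_pos.ne'
  -- q-singular elements are p-regular
  have hreg : ∀ h : G, q ∣ orderOf h → ¬ p ∣ orderOf h := by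
    intro h hqh hph
    have hcop : Nat.Coprime p q := (Nat.coprime_primes hpp hqp).2 hpq
    have hdvd : p * q ∣ orderOf h := hcop.mul_dvd_of_dvd_of_dvd hph hqh
    have hpos : orderOf h ≠ 0 := (orderOf_pos h).ne'
    exact hno _ (orderOf_pow_orderOf_div hpos hdvd)
  set Bp := (Set.toFinite (Cfsg.principalBlock Mp G)).toFinset with hBp
  set Bq := (Set.toFinite (Cfsg.principalBlock Mq G)).toFinset with hBq
  have hBpb := Cfsg.Agent.Helper77.isPBlock_principalBlock (G := G) Mp
  have hBqb := Cfsg.Agent.Helper77.isPBlock_principalBlock (G := G) Mq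
  -- ψ vanishes on p-regular elements
  have hψ : ∀ h : G, ¬ p ∣ orderOf h →
      ∑ χ ∈ Bp, (χ : G → ℂ) h * conj ((χ : G → ℂ) y) = 0 := fun h hh =>
    Cfsg.Agent.Helper16.weak_block_orthogonality hMp hBpb h y hh (by rw [hy])
  have hφ : ∀ h : G, ¬ q ∣ orderOf h →
      ∑ χ ∈ Bq, (χ : G → ℂ) h * conj ((χ : G → ℂ) g) = 0 := fun h hh =>
    Cfsg.Agent.Helper16.weak_block_orthogonality hMq hBqb h g hh (by rw [hg])
  -- the double sum
  have hS0 : ∑ h : G, (∑ χ ∈ Bp, (χ : G → ℂ) h * conj ((χ : G → ℂ) y)) *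
      conj (∑ χ' ∈ Bq, (χ' : G → ℂ) h * conj ((χ' : G → ℂ) g)) = 0 := by
    apply Finset.sum_eq_zero
    intro h _
    by_cases hh : q ∣ orderOf h
    · rw [hψ h (hreg h hh), zero_mul]
    · rw [hφ h hh, map_zero, mul_zero]
  have hS1 : ∑ h : G, (∑ χ ∈ Bp, (χ : G → ℂ) h * conj ((χ : G → ℂ) y)) *
      conj (∑ χ' ∈ Bq, (χ' : G → ℂ) h * conj ((χ' : G → ℂ) g)) =
      ∑ χ ∈ Bp, ∑ χ' ∈ Bq, conj ((χ : G → ℂ) y) * (χ' : G → ℂ) g *
        ∑ h : G, (χ : G → ℂ) h * conj ((χ' : G → ℂ) h) := by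
    calc ∑ h : G, (∑ χ ∈ Bp, (χ : G → ℂ) h * conj ((χ : G → ℂ) y)) *
          conj (∑ χ' ∈ Bq, (χ' : G → ℂ) h * conj ((χ' : G → ℂ) g))
        = ∑ h : G, ∑ χ ∈ Bp, ∑ χ' ∈ Bq, conj ((χ : G → ℂ) y) * (χ' : G → ℂ) g *
            ((χ : G → ℂ) h * conj ((χ' : G → ℂ) h)) := by
          apply Finset.sum_congr rfl
          intro h _
          rw [map_sum, Finset.sum_mul_sum]
          apply Finset.sum_congr rfl
          intro χ _
          apply Finset.sum_congr rfl
          intro χ' _
          rw [map_mul, Complex.conj_conj]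
          ring
      _ = ∑ χ ∈ Bp, ∑ h : G, ∑ χ' ∈ Bq, conj ((χ : G → ℂ) y) * (χ' : G → ℂ) g *
            ((χ : G → ℂ) h * conj ((χ' : G → ℂ) h)) := Finset.sum_comm
      _ = ∑ χ ∈ Bp, ∑ χ' ∈ Bq, ∑ h : G, conj ((χ : G → ℂ) y) * (χ' : G → ℂ) g *
            ((χ : G → ℂ) h * conj ((χ' : G → ℂ) h)) := by
          apply Finset.sum_congr rfl
          intro χ _
          exact Finset.sum_comm
      _ = _ := by
          apply Finset.sum_congr rfl
          intro χ _
          apply Finset.sum_congr rfl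
          intro χ' _
          rw [Finset.mul_sum]
  rw [hS1] at hS0
  simp only [Cfsg.Agent.Helper80.irr_first_orthogonality] at hS0
  have htp : Cfsg.Agent.Helper77.trivIrr G ∈ Bp := by
    rw [hBp, Set.Finite.mem_toFinset]
    exact Cfsg.Agent.Helper77.trivIrr_mem_principalBlock Mp
  have htq : Cfsg.Agent.Helper77.trivIrr G ∈ Bq := by
    rw [hBq, Set.Finite.mem_toFinset]
    exact Cfsg.Agent.Helper77.trivIrr_mem_principalBlock Mq
  have hS2 : ∑ χ ∈ Bp, ∑ χ' ∈ Bq, conj ((χ : G → ℂ) y) * (χ' : G → ℂ) g *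
      (if χ = χ' then (Nat.card G : ℂ) else 0) = (Nat.card G : ℂ) := by
    rw [Finset.sum_eq_single (Cfsg.Agent.Helper77.trivIrr G)]
    · rw [Finset.sum_eq_single (Cfsg.Agent.Helper77.trivIrr G)]
      · simp [Cfsg.Agent.Helper77.trivIrr_apply]
      · intro χ' _ hne
        rw [if_neg (Ne.symm hne), mul_zero]
      · intro h; exact absurd htq h
    · intro χ hχ hne
      apply Finset.sum_eq_zero
      intro χ' hχ' 
      by_cases heq : χ = χ'
      · exfalso
        subst heq
        rw [hBp, Set.Finite.mem_toFinset] at hχ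
        rw [hBq, Set.Finite.mem_toFinset] at hχ'
        by_cases h1 : (χ : G → ℂ) = fun _ => 1
        · apply hne
          apply Subtype.ext
          exact h1
        · exact hcon χ h1 hχ hχ'
      · rw [if_neg heq, mul_zero]
    · intro h; exact absurd htp h
  rw [hS2] at hS0
  exact hGne hS0

end Cfsg.Agent.S4498
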