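import Cfsg.Statements.S4506
import Cfsg.Agent.Lib.Helper74.PConj
import Cfsg.Agent.Lib.Helper74.DefectZero

set_option autoImplicit false
open Cfsg

namespace Cfsg.Agent.S4506

/-- Let G be a finite group, p a prime, p^a the p-part of the order of G and g′ its p′-part. Call two irreducible characters p-conjugate when one is obtained from the other by applying a field automorphism of ℂ that fixes the g′-th roots of unity, and let r be the number of characters p-conjugate to the irreducible character χ (χ included). Then the exponent of p in r·χ(1) is at most a; and if p^a divides r·χ(1) then p^a already divides χ(1). -/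
theorem result {G : Type*} [Group G] [Finite G] (p : ℕ) (hp : p.Prime) (χ : Cfsg.IrrCharacter G) (r : ℕ) (hr : Nat.card {ψ : Cfsg.IrrCharacter G // ∃ σ : ℂ ≃+* ℂ, σ (Complex.exp (2 * Real.pi * Complex.I / ((Nat.card G / p ^ (Nat.card G).factorization p) : ℕ))) = Complex.exp (2 * Real.pi * Complex.I / ((Nat.card G / p ^ (Nat.card G).factorization p) : ℕ)) ∧ (ψ : G → ℂ) = fun g => σ ((χ : G → ℂ) g)} = r) : (r * Cfsg.charDegree (χ : G → ℂ)).factorization p ≤ (Nat.card G).factorization p ∧ (p ^ (Nat.card G).factorization p ∣ r * Cfsg.charDegree (χ : G → ℂ) → p ^ (Nat.card G).factorization p ∣ Cfsg.charDegree (χ : G → ℂ)) := by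
  classical
  have hfin : Fintype G := Fintype.ofFinite G
  haveI : Fact p.Prime := ⟨hp⟩
  obtain ⟨M, hM⟩ := Cfsg.Agent.Helper74.DZ.exists_isPModular p hp
  haveI := Cfsg.Agent.Helper77.isPrime_of_isPModular hM
  have hB : Cfsg.IsPBlock M (Cfsg.blockOf M (χ : G → ℂ)) := ⟨χ, rfl⟩
  have hχ : χ ∈ Cfsg.blockOf M (χ : G → ℂ) := Cfsg.Agent.Helper77.mem_blockOf_self χ
  set Sset : Set (Cfsg.IrrCharacter G) := {ψ | ∃ σ : ℂ ≃+* ℂ, σ (Complex.exp (2 * Real.pi * Complex.I / ((Nat.card G / p ^ (Nat.card G).factorization p) : ℕ))) = Complex.exp (2 * Real.pi * Complex.I / ((Nat.card G / p ^ (Nat.card G).factorization p) : ℕ)) ∧ (ψ : G → ℂ) = fun g => σ ((χ : G → ℂ) g)} with hSset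
  set S := (Set.toFinite Sset).toFinset with hS
  have hcard : S.card = r := by
    rw [← hr, hS, ← Set.ncard_eq_toFinset_card Sset (Set.toFinite Sset), ← Nat.card_coe_set_eq]
    rfl
  have hmem : ∀ ψ, ψ ∈ S ↔ ψ ∈ Sset := fun ψ => Set.Finite.mem_toFinset _
  have hχS : χ ∈ S := by
    rw [hmem]
    exact ⟨RingEquiv.refl ℂ, rfl, rfl⟩
  have hreg : ∀ ψ ∈ S, ∀ g : G, ¬ p ∣ orderOf g → (ψ : G → ℂ) g = (χ : G → ℂ) g := by
    intro ψ hψ g hg
    obtain ⟨σ, hσ, hψσ⟩ := (hmem ψ).1 hψ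
    rw [hψσ]
    exact Cfsg.Agent.Helper74.PConj.pconj_eq_on_regular hp χ σ hσ g hg
  have hmain := Cfsg.Agent.Helper74.PConj.factorization_card_mul_le hM hB hχ S ⟨χ, hχS⟩ hreg
  rw [hcard] at hmain
  refine ⟨hmain.1, ?_⟩
  intro hdvd
  have hr0 : r ≠ 0 := by
    rw [← hcard]
    exact Finset.card_ne_zero.2 ⟨χ, hχS⟩
  have hdeg0 : Cfsg.charDegree (χ : G → ℂ) ≠ 0 := (Cfsg.Agent.Helper79.irr_one_eq χ).2.ne'
  have hge : (Nat.card G).factorization p ≤ (r * Cfsg.charDegree (χ : G → ℂ)).factorization p :=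
    (hp.pow_dvd_iff_le_factorization (mul_ne_zero hr0 hdeg0)).1 hdvd
  obtain ⟨P⟩ : Nonempty (Sylow p G) := inferInstance
  haveI : Fintype (P : Subgroup G) := Fintype.ofFinite _
  apply Cfsg.Agent.Helper74.PConj.dvd_degree_of_extremal hM hB hχ S hχS hreg P
  · intro ψ hψ
    obtain ⟨σ, hσ, hψσ⟩ := (hmem ψ).1 hψ
    obtain ⟨m, hm⟩ := Cfsg.Agent.Helper74.PConj.exists_nat_sum_char χ (P : Subgroup G)
    rw [hψσ]
    simp only
    rw [← map_sum, hm, map_mul, map_natCast, map_natCast]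
  · rw [hcard]
    exact hge

end Cfsg.Agent.S4506
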