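import Cfsg.Statements.S4508
import Mathlib
import Cfsg.Agent.Lib.Helper80.DegPm1F

set_option autoImplicit false
open Cfsg

namespace Cfsg.Agent.S4508

/-- Let the finite group G contain an element x of prime order p with C_G(x) = ⟨x⟩, and let t be the number of conjugacy classes of elements of order p. If G has an irreducible character of degree p − 1, then t is even or the commutator subgroup has even index. -/
theorem result {G : Type*} [Group G] [Finite G] (p : ℕ) (hp : p.Prime) (x : G) (hx : orderOf x = p) (hC : Subgroup.centralizer ({x} : Set G) = Subgroup.zpowers x) (t : ℕ) (ht : Nat.card {C : ConjClasses G // ∃ g ∈ C.carrier, orderOf g = p} = t) (χ : Cfsg.IrrCharacter G) (hχ : Cfsg.charDegree (χ : G → ℂ) + 1 = p) : Even t ∨ Even (commutator G).index := by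
  classical
  have h : Cfsg.Agent.Helper74.SelfCent p x := ⟨hp, hx, hC⟩
  have hte : t * Cfsg.Agent.Helper74.SelfCent.eIdx x = p - 1 := by
    rw [← ht]; exact h.card_Cl_mul_eIdx
  have hdeg : (χ : G → ℂ) 1 = ((p - 1 : ℕ) : ℂ) := by
    obtain ⟨n, ρ, hirr, hρ⟩ := χ.2
    have h1 : (χ : G → ℂ) 1 = (n : ℂ) := by
      rw [← hρ, Representation.char_one]; simp
    have h2 : Cfsg.charDegree (χ : G → ℂ) = n := by
      unfold Cfsg.charDegree; rw [h1]; simp
    rw [h1]
    congr 1
    omega
  by_cases ho : Even t
  · left; exact ho
  · right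
    rw [Nat.not_even_iff_odd] at ho
    by_cases he1 : Cfsg.Agent.Helper74.SelfCent.eIdx x = 1
    · have hm := h.card_subgroups_pos
      have h1 := h.card_commutator_of_eIdx_eq_one he1
      have h2 := h.card_eq_mul
      rw [he1, one_mul] at h2
      have h3 := Subgroup.index_mul_card (commutator G)
      rw [h1, h2, mul_comm] at h3
      have hidx : (commutator G).index = p := Nat.eq_of_mul_eq_mul_left hm h3
      rw [he1, mul_one] at hte
      have hp2 : p = 2 := by
        rcases hp.eq_two_or_odd' with h4 | h4
        · exact h4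
        · exfalso
          have h5 : Even (p - 1) := Nat.Odd.sub_odd h4 odd_one
          rw [← hte] at h5
          exact (Nat.not_even_iff_odd.mpr ho) h5
      rw [hidx, hp2]
      exact even_two
    · have he2 : 2 ≤ Cfsg.Agent.Helper74.SelfCent.eIdx x := by
        have := h.eIdx_pos
        omega
      exact Cfsg.Agent.Helper80.DegPm1.main h t hte χ χ.2 hdeg he2 ho

end Cfsg.Agent.S4508
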