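import Cfsg.Statements.S4509
import Cfsg.Agent.Lib.Helper74.SelfCent4

set_option autoImplicit false
open Cfsg

namespace Cfsg.Agent.S4509

/-- Let the finite group G contain an element x of prime order p with C_G(x) = ⟨x⟩; let t be the number of conjugacy classes of elements of order p and 1 + n·p the number of subgroups of order p. Then G has a normal subgroup of order 1 + n·p if and only if either t = p − 1, or t < p − 1 and G″ ≠ G′. Moreover, if t = p − 1 then G′ has order 1 + n·p and G/G′ is cyclic of order p; and if t < p − 1 and G″ ≠ G′ then G″ has order 1 + n·p and G′ has order p·(1 + n·p). -/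
theorem result {G : Type*} [Group G] [Finite G] (p : ℕ) (hp : p.Prime) (x : G) (hx : orderOf x = p) (hC : Subgroup.centralizer ({x} : Set G) = Subgroup.zpowers x) (t : ℕ) (ht : Nat.card {C : ConjClasses G // ∃ g ∈ C.carrier, orderOf g = p} = t) (n : ℕ) (hn : Nat.card {H : Subgroup G // Nat.card H = p} = 1 + n * p) : ((∃ S : Subgroup G, S.Normal ∧ Nat.card S = 1 + n * p) ↔ (t = p - 1 ∨ (t < p - 1 ∧ derivedSeries G 2 ≠ derivedSeries G 1))) ∧ (t = p - 1 → Nat.card (commutator G) = 1 + n * p ∧ IsCyclic (G ⧸ commutator G) ∧ (commutator G).index = p) ∧ (t < p - 1 → derivedSeries G 2 ≠ derivedSeries G 1 → Nat.card (derivedSeries G 2) = 1 + n * p ∧ Nat.card (commutator G) = p * (1 + n * p)) := by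
  have h : Cfsg.Agent.Helper74.SelfCent p x := ⟨hp, hx, hC⟩
  have hcount : t * Cfsg.Agent.Helper74.SelfCent.eIdx x = p - 1 := by
    rw [← ht]; exact h.card_Cl_mul_eIdx
  have hp1 : 0 < p - 1 := Nat.sub_pos_of_lt hp.one_lt
  have he1 : t = p - 1 → Cfsg.Agent.Helper74.SelfCent.eIdx x = 1 := by
    intro heq
    rw [heq] at hcount
    exact Nat.eq_of_mul_eq_mul_left hp1 (hcount.trans (mul_one _).symm)
  have hene : t ≠ p - 1 → Cfsg.Agent.Helper74.SelfCent.eIdx x ≠ 1 := by
    intro hne he
    rw [he, mul_one] at hcount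
    exact hne hcount
  have hle : t ≤ p - 1 := by
    rw [← hcount]
    exact Nat.le_mul_of_pos_right t h.eIdx_pos
  have hB : t = p - 1 → Nat.card (commutator G) = 1 + n * p ∧ IsCyclic (G ⧸ commutator G) ∧
      (commutator G).index = p := by
    intro heq
    have he := he1 heq
    have hidx := h.index_eq_of_commutator_le (commutator G) (h.not_dvd_card_commutator he) le_rfl
    refine ⟨by rw [h.card_commutator_of_eIdx_eq_one he, hn], ?_, hidx⟩
    have : Fact p.Prime := ⟨hp⟩
    exact isCyclic_of_prime_card (p := p) (by rw [← Subgroup.index_eq_card, hidx])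
  have hCc : t < p - 1 → derivedSeries G 2 ≠ derivedSeries G 1 →
      Nat.card (derivedSeries G 2) = 1 + n * p ∧ Nat.card (commutator G) = p * (1 + n * p) := by
    intro hlt hne
    have := h.card_derived_of_ne (hene hlt.ne) hne
    rw [hn] at this
    exact this
  refine ⟨⟨?_, ?_⟩, hB, hCc⟩
  · rintro ⟨S, hSn, hS⟩
    by_cases heq : t = p - 1
    · exact Or.inl heq
    · right
      refine ⟨lt_of_le_of_ne hle heq, ?_⟩
      exact h.derived_ne_of_normal_card (hene heq) S (by rw [hS, hn])
  · rintro (heq | ⟨hlt, hne⟩)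
    · exact ⟨commutator G, inferInstance, (hB heq).1⟩
    · exact ⟨derivedSeries G 2, derivedSeries_normal G 2, (hCc hlt hne).1⟩

end Cfsg.Agent.S4509
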