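import Cfsg.Statements.S4510
import Cfsg.Agent.Lib.Helper74.DefectOrder

set_option autoImplicit false
open Cfsg

namespace Cfsg.Agent.S4510

open Cfsg.Agent.Helper77 Cfsg.Agent.Helper74.DO in
/-- Let G be a finite group, p a prime, M a maximal ideal of the algebraic integers containing p, and call the defect of a conjugacy class the exponent of p in the order of the centralizer of its elements. Two irreducible characters lying in p-blocks of defect exactly d lie in the same block if and only if their central characters (class size times χ(x)/χ(1)) agree modulo the local ideal at M at every p-regular element x whose class has defect exactly d. -/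
theorem result {G : Type*} [Group G] [Finite G] (p : ℕ) [Fact p.Prime] (M : Ideal Cfsg.AlgInt) (hM : Cfsg.IsPModular p M) (d : ℕ) (χ ψ : Cfsg.IrrCharacter G) (hχ : Cfsg.blockDefect p (Cfsg.blockOf M (χ : G → ℂ)) = d) (hψ : Cfsg.blockDefect p (Cfsg.blockOf M (ψ : G → ℂ)) = d) : Cfsg.SameBlock M (χ : G → ℂ) (ψ : G → ℂ) ↔ ∀ x : G, ¬ p ∣ orderOf x → (Nat.card (Subgroup.centralizer ({x} : Set G))).factorization p = d → Cfsg.MemLocalIdeal M (Cfsg.centralChar (χ : G → ℂ) x - Cfsg.centralChar (ψ : G → ℂ) x) := by
  classical
  have hfin : Fintype G := Fintype.ofFinite G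
  haveI hp := isPrime_of_isPModular hM
  haveI : Fintype (ConjClasses G) := Fintype.ofFinite _
  constructor
  · intro h x _ _
    exact h x
  · intro h
    by_contra hns
    have hB : IsPBlock M (blockOf M (χ : G → ℂ)) := isPBlock_blockOf χ
    have hB' : IsPBlock M (blockOf M (ψ : G → ℂ)) := isPBlock_blockOf ψ
    have hχB : χ ∈ blockOf M (χ : G → ℂ) := mem_blockOf_self χ
    have hψB' : ψ ∈ blockOf M (ψ : G → ℂ) := mem_blockOf_self ψ
    have hψB : ψ ∉ blockOf M (χ : G → ℂ) := hns
    have ha_cl := isClassFunction_blockCoeff (blockOf M (χ : G → ℂ))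
    have hχcl := isClassFunction_of_isIrrCharacter χ.2
    have hψcl := isClassFunction_of_isIrrCharacter ψ.2
    have h1 : omega (χ : G → ℂ) (blockCoeff (blockOf M (χ : G → ℂ))) = 1 := by
      rw [omega_blockCoeff, if_pos hχB]
    have h0 : omega (ψ : G → ℂ) (blockCoeff (blockOf M (χ : G → ℂ))) = 0 := by
      rw [omega_blockCoeff, if_neg hψB]
    have hdiff : omega (χ : G → ℂ) (blockCoeff (blockOf M (χ : G → ℂ))) -
        omega (ψ : G → ℂ) (blockCoeff (blockOf M (χ : G → ℂ))) =
        ∑ K : ConjClasses G, blockCoeff (blockOf M (χ : G → ℂ)) (Quotient.out K) *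
          (centralChar (χ : G → ℂ) (Quotient.out K) - centralChar (ψ : G → ℂ) (Quotient.out K)) := by
      rw [omega_eq_sum_conjClasses hχcl ha_cl, omega_eq_sum_conjClasses hψcl ha_cl,
        ← Finset.sum_sub_distrib]
      refine Finset.sum_congr rfl fun K _ => ?_
      ring
    have hmem : MemLocalIdeal M (∑ K : ConjClasses G,
        blockCoeff (blockOf M (χ : G → ℂ)) (Quotient.out K) *
          (centralChar (χ : G → ℂ) (Quotient.out K) -
            centralChar (ψ : G → ℂ) (Quotient.out K))) := by
      refine memLocalIdeal_sum _ _ fun K _ => ?_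
      set k := Quotient.out K with hk
      have hloc : MemLocalRing M (centralChar (χ : G → ℂ) k - centralChar (ψ : G → ℂ) k) :=
        memLocalRing_sub (memLocalRing_centralChar χ.2 k) (memLocalRing_centralChar ψ.2 k)
      by_cases ha : MemLocalIdeal M (blockCoeff (blockOf M (χ : G → ℂ)) k)
      · exact memLocalIdeal_mul_right ha hloc
      · obtain ⟨hreg, hle⟩ := defect_le_of_blockCoeff hM hB k ha
        apply memLocalIdeal_mul_left (memLocalRing_blockCoeff hB k)
        by_cases heq : (Nat.card (Subgroup.centralizer ({k} : Set G))).factorization p = d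
        · exact h k hreg heq
        · rw [blockDefect_eq] at hχ hψ
          have hm1 := minVal_le_card (p := p) (nonempty_of_isPBlock hB)
          have hm2 := minVal_le_card (p := p) (nonempty_of_isPBlock hB')
          apply memLocalIdeal_sub
          · apply memLocalIdeal_centralChar_of_small hM hB hχB k
            omega
          · apply memLocalIdeal_centralChar_of_small hM hB' hψB' k
            omega
    rw [← hdiff, h1, h0, sub_zero] at hmem
    exact not_memLocalIdeal_one hmem

end Cfsg.Agent.S4510
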