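import Cfsg.Statements.S4513
import Cfsg.Agent.Lib.Helper74.TwoBlock1
import Cfsg.Agent.Lib.Helper74.TwoBlock2
import Cfsg.Agent.Lib.Helper74.DefectZero
import Cfsg.Agent.Lib.Helper77.Decomp
import Cfsg.Agent.Lib.Helper77.DefectInd
import Cfsg.Agent.S0923

set_option autoImplicit false
set_option linter.style.haveILetI false
open Cfsg

namespace Cfsg.Agent.S4513

open Cfsg.Agent.Helper77 Cfsg.Agent.Helper74 Cfsg.Agent.Helper74.DO

/-- Blocks of defect one for p = 2. Let M be a maximal ideal of the algebraic integers containing 2, B a 2-block of the finite group G whose defect group is the subgroup generated by an involution x, C = C_G(x), b a block of C inducing B and θ a member of b taking the same value at x as at 1 (there is exactly one). Then B consists of exactly two irreducible characters, which agree on every element of odd order, and they can be labelled χ₁, χ₂ with signs ε₁, ε₂ = ±1, ε₁ε₂ = −1, such that χᵢ(x y) = εᵢ θ(y) for every element y of C of odd order.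 -/
theorem result {G : Type*} [Group G] [Finite G] (M : Ideal Cfsg.AlgInt) (hM : Cfsg.IsPModular 2 M) (x : G) (hx : orderOf x = 2)
    (B : Set (Cfsg.IrrCharacter G)) (hB : Cfsg.IsPBlock M B) (hBD : Cfsg.IsDefectGroup 2 M B (Subgroup.zpowers x))
    (b : Set (Cfsg.IrrCharacter ↥(Subgroup.centralizer ({x} : Set G)))) (hb : Cfsg.IsInducedBlock M (Subgroup.centralizer ({x} : Set G)) b B)
    (θ : Cfsg.IrrCharacter ↥(Subgroup.centralizer ({x} : Set G))) (hθ : θ ∈ b)
    (hθx : ∀ z : ↥(Subgroup.centralizer ({x} : Set G)), (z : G) = x → (θ : ↥(Subgroup.centralizer ({x} : Set G)) → ℂ) z = (θ : ↥(Subgroup.centralizer ({x} : Set G)) → ℂ) 1) :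
    Nat.card B = 2 ∧ (∀ χ ∈ B, ∀ ψ ∈ B, ∀ g : G, ¬ 2 ∣ orderOf g → (χ : G → ℂ) g = (ψ : G → ℂ) g) ∧
      ∃ χ₁ ∈ B, ∃ χ₂ ∈ B, χ₁ ≠ χ₂ ∧ ∃ ε₁ ε₂ : ℤ, (ε₁ = 1 ∨ ε₁ = -1) ∧ (ε₂ = 1 ∨ ε₂ = -1) ∧ ε₁ * ε₂ = -1 ∧
        ∀ y : ↥(Subgroup.centralizer ({x} : Set G)), ¬ 2 ∣ orderOf y →
          (χ₁ : G → ℂ) (x * y) = (ε₁ : ℂ) * (θ : ↥(Subgroup.centralizer ({x} : Set G)) → ℂ) y ∧ (χ₂ : G → ℂ) (x * y) = (ε₂ : ℂ) * (θ : ↥(Subgroup.centralizer ({x} : Set G)) → ℂ) y := by
  classical
  letI : Fintype G := Fintype.ofFinite G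
  letI : Fintype (Subgroup.centralizer ({x} : Set G)) := Fintype.ofFinite _
  haveI : Fact (Nat.Prime 2) := ⟨Nat.prime_two⟩
  haveI := isPrime_of_isPModular hM
  have hxC : x ∈ Subgroup.centralizer ({x} : Set G) := by
    rw [Subgroup.mem_centralizer_iff]
    intro h hh
    rw [Set.mem_singleton_iff.1 hh]
  have hcomm : ∀ c ∈ Subgroup.centralizer ({x} : Set G), x * c = c * x := by
    intro c hc
    exact (Subgroup.mem_centralizer_iff.1 hc) x (Set.mem_singleton x)
  have hcent : ∀ t : G, x * t = t * x → t ∈ Subgroup.centralizer ({x} : Set G) := by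
    intro t ht
    rw [Subgroup.mem_centralizer_iff]
    intro h hh
    rw [Set.mem_singleton_iff.1 hh]
    exact ht
  -- the defect of `B`
  have hcardD := card_defectGroup hM hB _ hBD
  have hdB : blockDefect 2 B = 1 := by
    rw [Nat.card_zpowers, hx] at hcardD
    have : 2 ^ 1 = 2 ^ blockDefect 2 B := by simpa using hcardD
    exact (Nat.pow_right_injective (le_refl 2) this).symm
  -- the defect of `b`
  obtain ⟨Db, hDb⟩ := exists_isDefectGroup 2 hb.1
  obtain ⟨E, hE, hDE⟩ := exists_isDefectGroup_of_isInducedBlock hM _ hb Db hDb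
  have hcE := card_defectGroup hM hB E hE
  have hcDb := card_defectGroup hM hb.1 Db hDb
  have hle : blockDefect 2 b ≤ 1 := by
    have h1 : Nat.card (Db.map (Subgroup.centralizer ({x} : Set G)).subtype) ≤ Nat.card E :=
      Subgroup.card_le_of_le hDE
    have h2 : Nat.card (Db.map (Subgroup.centralizer ({x} : Set G)).subtype) = Nat.card Db :=
      Subgroup.card_map_of_injective (Subgroup.subtype_injective _)
    rw [h2, hcDb, hcE, hdB] at h1
    exact (Nat.pow_le_pow_iff_right (by norm_num)).1 h1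
  have hzord : orderOf (⟨x, hxC⟩ : Subgroup.centralizer ({x} : Set G)) = 2 := by
    rw [← Subgroup.orderOf_coe]
    exact hx
  have hge : 1 ≤ blockDefect 2 b := by
    by_contra hcon
    have h0 : blockDefect 2 b = 0 := by omega
    have h1 := blockDefect_eq (p := 2) b
    have h2 := minVal_le (p := 2) hθ
    have h3 := minVal_le_card (p := 2) (B := b) ⟨θ, hθ⟩
    have hdvd : 2 ^ (Nat.card (Subgroup.centralizer ({x} : Set G))).factorization 2 ∣
        charDegree (θ : Subgroup.centralizer ({x} : Set G) → ℂ) := by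
      have : (Nat.card (Subgroup.centralizer ({x} : Set G))).factorization 2 ≤
          (charDegree (θ : Subgroup.centralizer ({x} : Set G) → ℂ)).factorization 2 := by omega
      exact (Nat.Prime.pow_dvd_iff_le_factorization Nat.prime_two
        (Cfsg.Agent.Helper79.irr_one_eq θ).2.ne').2 this
    have hzero := DZ.irr_vanish_of_defect_zero θ 2 Nat.prime_two hdvd ⟨x, hxC⟩ (by rw [hzord])
    exact Cfsg.Agent.Helper78.irr_apply_one_ne_zero θ.2 (by rw [← hθx ⟨x, hxC⟩ rfl]; exact hzero)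
  have hdb : blockDefect 2 b = 1 := le_antisymm hle hge
  -- the structure of the two blocks
  obtain ⟨χ₀, χ₁, hne, hBeq, hreg, hsing⟩ := TB.defect_one hM hB hdB
  obtain ⟨θ₀, θ₁, hθne, hbeq, hθreg, hθsing⟩ := TB.defect_one hM hb.1 hdb
  obtain ⟨θ', hθ'ne, hb2, hθreg', hθsing'⟩ : ∃ θ' : IrrCharacter (Subgroup.centralizer ({x} : Set G)),
      θ ≠ θ' ∧ b = {θ, θ'} ∧
      (∀ c : Subgroup.centralizer ({x} : Set G), ¬ 2 ∣ orderOf c →
        (θ : Subgroup.centralizer ({x} : Set G) → ℂ) c = (θ' : Subgroup.centralizer ({x} : Set G) → ℂ) c) ∧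
      (∀ c : Subgroup.centralizer ({x} : Set G), 2 ∣ orderOf c →
        (θ : Subgroup.centralizer ({x} : Set G) → ℂ) c + (θ' : Subgroup.centralizer ({x} : Set G) → ℂ) c = 0) := by
    have hθ2 := hθ
    rw [hbeq] at hθ2
    rcases hθ2 with h | h
    · subst h
      exact ⟨θ₁, hθne, hbeq, hθreg, hθsing⟩
    · have h' : θ = θ₁ := h
      subst h'
      exact ⟨θ₀, hθne.symm, by rw [hbeq, Set.pair_comm], fun c hc => (hθreg c hc).symm,
        fun c hc => by rw [add_comm]; exact hθsing c hc⟩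
  refine ⟨?_, ?_, ?_⟩
  · rw [hBeq, Nat.card_coe_set_eq, Set.ncard_pair hne]
  · intro χ hχ ψ hψ g hg
    rw [hBeq] at hχ hψ
    rcases hχ with rfl | hχ <;> rcases hψ with rfl | hψ
    · rfl
    · rw [Set.mem_singleton_iff.1 hψ]; exact hreg g hg
    · rw [Set.mem_singleton_iff.1 hχ]; exact (hreg g hg).symm
    · rw [Set.mem_singleton_iff.1 hχ, Set.mem_singleton_iff.1 hψ]
  · -- the vanishing from the second main theorem
    have hθ1 : (θ : Subgroup.centralizer ({x} : Set G) → ℂ) 1 ≠ 0 :=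
      Cfsg.Agent.Helper78.irr_apply_one_ne_zero θ.2
    have hvan : ∀ χ : IrrCharacter G, χ ≠ χ₀ → χ ≠ χ₁ →
        classInner (fun c : Subgroup.centralizer ({x} : Set G) => (χ : G → ℂ) (x * (c : G)))
          (θ : Subgroup.centralizer ({x} : Set G) → ℂ) +
        classInner (fun c : Subgroup.centralizer ({x} : Set G) => (χ : G → ℂ) (x * (c : G)))
          (θ' : Subgroup.centralizer ({x} : Set G) → ℂ) = 0 := by
      intro χ h0 h1
      have hχB : χ ∉ B := by
        rw [hBeq]
        intro h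
        rcases h with h | h
        · exact h0 h
        · exact h1 h
      have hB' : IsPBlock M (blockOf M (χ : G → ℂ)) := ⟨χ, rfl⟩
      have hχB' : χ ∈ blockOf M (χ : G → ℂ) := mem_blockOf_self χ
      have hnot : ¬ IsInducedBlock M (Subgroup.centralizer ({x} : Set G)) b
          (blockOf M (χ : G → ℂ)) := by
        intro h
        have := isInducedBlock_unique _ hb h
        exact hχB (this ▸ hχB')
      have hmain := Cfsg.Agent.S0923.result 2 M hM x ⟨1, by rw [hx, pow_one]⟩ _ hB' χ hχB' b hb.1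
        hnot 1 (by simp)
      unfold blockPart at hmain
      rw [hb2, finsum_mem_pair hθ'ne] at hmain
      rw [← hθreg' 1 (by simp), ← add_mul] at hmain
      exact (mul_eq_zero.1 hmain).resolve_right hθ1
    obtain ⟨ε, hε, hval⟩ := TB.final (Subgroup.centralizer ({x} : Set G)) x hx hxC hcomm hcent
      χ₀ χ₁ hne hsing θ θ' hθ'ne hθreg' hθsing' (hθx ⟨x, hxC⟩ rfl) hvan
    refine ⟨χ₀, by rw [hBeq]; exact Set.mem_insert _ _, χ₁,
      by rw [hBeq]; exact Set.mem_insert_of_mem _ rfl, hne, ε, -ε, hε, ?_, ?_, ?_⟩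
    · rcases hε with h | h
      · right; rw [h]
      · left; rw [h]; norm_num
    · rcases hε with h | h <;> rw [h] <;> norm_num
    · intro y hy
      exact hval y hy

end Cfsg.Agent.S4513
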