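import Cfsg.Statements.S4518
import Cfsg.Agent.Lib.Helper75.GaloisTwist
import Cfsg.Agent.Lib.Helper81.CharClifford

set_option autoImplicit false
open Cfsg

namespace Cfsg.Agent.S4518

open scoped ComplexConjugate
open Cfsg.Agent.Helper75 Cfsg.Agent.Helper80 Cfsg.Agent.Helper81

section

variable {G : Type*} [Group G] [Fintype G] (N : Subgroup G) [hN : N.Normal] [Fintype N]

/-- the conjugation action of `G` on the irreducible characters of the normal subgroup `N` -/
@[instance_reducible] noncomputable def conjAction : MulAction G (IrrCharacter N) where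
  smul g ψ := ⟨conjFun N hN (ψ : N → ℂ) g⁻¹, conjFun_isIrrCharacter N hN ψ.2 g⁻¹⟩
  one_smul ψ := by
    apply Subtype.ext
    show conjFun N hN (ψ : N → ℂ) 1⁻¹ = ψ
    rw [inv_one, conjFun_one]
  mul_smul g h ψ := by
    apply Subtype.ext
    show conjFun N hN (ψ : N → ℂ) (g * h)⁻¹ =
      conjFun N hN (conjFun N hN (ψ : N → ℂ) h⁻¹) g⁻¹
    rw [conjFun_mul, mul_inv_rev]

theorem card_constituents_dvd (χ : IrrCharacter G) (θ : IrrCharacter N)
    (hθ : classInner (fun n : N => (χ : G → ℂ) n) (θ : N → ℂ) ≠ 0) :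
    Nat.card {ψ : IrrCharacter N // classInner (fun n : N => (χ : G → ℂ) n) (ψ : N → ℂ) ≠ 0} ∣
      N.index := by
  let _ := conjAction N
  have hχc : IsClassFunction G (χ : G → ℂ) :=
    isClassFunction_of_isCharacter (IsIrrCharacter.isCharacter χ.2)
  have hsmul : ∀ (g : G) (ψ : IrrCharacter N), ((g • ψ : IrrCharacter N) : N → ℂ) =
      conjFun N hN (ψ : N → ℂ) g⁻¹ := fun g ψ => rfl
  -- orbit = constituents
  have horb : ∀ ψ : IrrCharacter N, ψ ∈ MulAction.orbit G θ ↔
      classInner (fun n : N => (χ : G → ℂ) n) (ψ : N → ℂ) ≠ 0 := by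
    intro ψ
    constructor
    · rintro ⟨g, rfl⟩
      rw [hsmul, classInner_restrict_conjFun N hN hχc]
      exact hθ
    · intro hψ
      by_contra hcon
      apply hψ
      apply clifford_not_conj N hN χ.2 θ.2 ψ.2 hθ
      rintro ⟨g, hg⟩
      apply hcon
      refine ⟨g⁻¹, ?_⟩
      apply Subtype.ext
      rw [hsmul, inv_inv, hg]
  have hcard : Nat.card {ψ : IrrCharacter N //
      classInner (fun n : N => (χ : G → ℂ) n) (ψ : N → ℂ) ≠ 0} =
      (MulAction.orbit G θ).ncard := by
    rw [← Nat.card_coe_set_eq]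
    exact Nat.card_congr (Equiv.subtypeEquivRight (fun ψ => (horb ψ).symm))
  rw [hcard, ← MulAction.index_stabilizer]
  apply Subgroup.index_dvd_of_le
  intro n hn
  rw [MulAction.mem_stabilizer_iff]
  apply Subtype.ext
  rw [hsmul]
  ext m
  rw [conjFun_apply]
  have := irr_conj_class θ m (⟨n, hn⟩⁻¹ : N)
  convert this using 2
  apply Subtype.ext
  simp

end

/-- Let N be a normal subgroup of the finite group G whose index is not divisible by the prime p, and let k be coprime to the order of G with k ^ (p ^ e) ≡ 1 modulo the order of G for some e (so g ↦ g ^ k induces a field automorphism of p-power order on character values). If an irreducible character χ of G satisfies χ (g ^ k) = χ g for all g, then every irreducible constituent θ of the restriction of χ to N satisfies θ (n ^ k) = θ n for all n. -/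
theorem result {G : Type*} [Group G] [Fintype G] (p : ℕ) [Fact p.Prime] (N : Subgroup G) [N.Normal] [Fintype N] (hidx : ¬ p ∣ N.index) (k e : ℕ) (hk : Nat.Coprime k (Nat.card G)) (hke : k ^ (p ^ e) ≡ 1 [MOD Nat.card G]) (χ : Cfsg.IrrCharacter G) (hχ : ∀ g : G, (χ : G → ℂ) (g ^ k) = (χ : G → ℂ) g) (θ : Cfsg.IrrCharacter N) (hθ : Cfsg.classInner (fun n : N => (χ : G → ℂ) n) (θ : N → ℂ) ≠ 0) : ∀ n : N, (θ : N → ℂ) (n ^ k) = (θ : N → ℂ) n := by
  classical
  have hN : N.Normal := inferInstance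
  have hkN : k.Coprime (Nat.card N) :=
    Nat.Coprime.coprime_dvd_right (Subgroup.card_subgroup_dvd_card N) hk
  -- the twist on irreducible characters of N
  let tw : IrrCharacter N → IrrCharacter N := fun ψ =>
    ⟨fun n => (ψ : N → ℂ) (n ^ k), galois_twist_irr ψ k hkN⟩
  have htw_apply : ∀ (ψ : IrrCharacter N) (n : N), (tw ψ : N → ℂ) n = (ψ : N → ℂ) (n ^ k) :=
    fun ψ n => rfl
  have htw_iter : ∀ (j : ℕ) (ψ : IrrCharacter N) (n : N),
      ((tw^[j] ψ : IrrCharacter N) : N → ℂ) n = (ψ : N → ℂ) (n ^ (k ^ j)) := by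
    intro j
    induction j with
    | zero => intro ψ n; simp
    | succ j ih =>
      intro ψ n
      rw [Function.iterate_succ_apply, ih (tw ψ) n, htw_apply, ← pow_mul, pow_succ]
  have htw_pe : ∀ ψ : IrrCharacter N, tw^[p ^ e] ψ = ψ := by
    intro ψ
    apply Subtype.ext
    funext n
    rw [htw_iter]
    have h2 : n ^ (k ^ p ^ e) = n := by
      conv_rhs => rw [← pow_one n]
      rw [pow_eq_pow_iff_modEq]
      have h1 : orderOf n ∣ Nat.card G :=
        (orderOf_dvd_natCard n).trans (Subgroup.card_subgroup_dvd_card N)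
      exact hke.of_dvd h1
    rw [h2]
  -- the constituents
  let Ω := {ψ : IrrCharacter N // classInner (fun n : N => (χ : G → ℂ) n) (ψ : N → ℂ) ≠ 0}
  have htw_inner : ∀ ψ : IrrCharacter N,
      classInner (fun n : N => (χ : G → ℂ) n) (tw ψ : N → ℂ) =
      classInner (fun n : N => (χ : G → ℂ) n) (ψ : N → ℂ) := by
    intro ψ
    unfold classInner
    congr 1
    rw [← Equiv.sum_comp (powCoprime hkN.symm)
      (fun m : N => (χ : G → ℂ) m * conj ((ψ : N → ℂ) m))]
    apply Finset.sum_congr rfl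
    intro n _
    simp only [powCoprime_apply, htw_apply, Subgroup.coe_pow]
    rw [hχ]
  let twΩ : Ω → Ω := fun ψ => ⟨tw ψ.1, by rw [htw_inner]; exact ψ.2⟩
  have htwΩ_iter : ∀ (j : ℕ) (ψ : Ω), ((twΩ^[j] ψ : Ω) : IrrCharacter N) = tw^[j] ψ.1 := by
    intro j
    induction j with
    | zero => intro ψ; rfl
    | succ j ih => intro ψ; rw [Function.iterate_succ_apply, ih, Function.iterate_succ_apply]
  have hpe_pos : 0 < p ^ e := pow_pos (Fact.out (p := p.Prime)).pos e
  have htwΩ_pe : ∀ ψ : Ω, twΩ^[p ^ e] ψ = ψ := by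
    intro ψ
    apply Subtype.ext
    rw [htwΩ_iter, htw_pe]
  -- as a permutation
  let s : Equiv.Perm Ω :=
    { toFun := twΩ
      invFun := twΩ^[p ^ e - 1]
      left_inv := by
        intro ψ
        rw [← Function.iterate_succ_apply twΩ (p ^ e - 1) ψ, Nat.succ_eq_add_one,
          Nat.sub_add_cancel hpe_pos]
        exact htwΩ_pe ψ
      right_inv := by
        intro ψ
        rw [← Function.iterate_succ_apply' twΩ (p ^ e - 1) ψ, Nat.succ_eq_add_one,
          Nat.sub_add_cancel hpe_pos]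
        exact htwΩ_pe ψ }
  have hs_pow : ∀ j : ℕ, ∀ ψ : Ω, (s ^ j) ψ = twΩ^[j] ψ := by
    intro j
    induction j with
    | zero => intro ψ; rfl
    | succ j ih =>
      intro ψ
      rw [pow_succ, Equiv.Perm.mul_apply, ih, Function.iterate_succ_apply]
      rfl
  have hs_pe : s ^ (p ^ e) = 1 := by
    ext ψ
    rw [hs_pow, htwΩ_pe]
    rfl
  -- the p-group generated by s
  let H : Subgroup (Equiv.Perm Ω) := Subgroup.zpowers s
  have hH : IsPGroup p H := by
    intro h
    refine ⟨e, ?_⟩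
    obtain ⟨h, j, rfl⟩ := h
    apply Subtype.ext
    simp only [Subgroup.coe_pow, Subgroup.coe_one]
    rw [← zpow_natCast, ← zpow_mul, mul_comm, zpow_mul, zpow_natCast, hs_pe, one_zpow]
  have hΩfin : Finite Ω := inferInstance
  have hcardΩ : ¬ p ∣ Nat.card Ω := by
    intro hdvd
    exact hidx (hdvd.trans (card_constituents_dvd N χ θ hθ))
  obtain ⟨ψ₀, hψ₀⟩ := hH.nonempty_fixed_point_of_prime_not_dvd_card Ω hcardΩ
  have hfix : tw ψ₀.1 = ψ₀.1 := by
    have h1 := hψ₀ ⟨s, Subgroup.mem_zpowers s⟩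
    have h2 : s ψ₀ = ψ₀ := h1
    exact congrArg Subtype.val h2
  -- θ is conjugate to ψ₀
  have hconj : ∃ g : G, (θ : N → ℂ) = conjFun N hN (ψ₀.1 : N → ℂ) g := by
    by_contra hcon
    exact hθ (clifford_not_conj N hN χ.2 ψ₀.1.2 θ.2 ψ₀.2 hcon)
  obtain ⟨g, hg⟩ := hconj
  intro n
  rw [hg, conjFun_apply, conjFun_apply]
  have h1 : (⟨g * ((n ^ k : N) : G) * g⁻¹, hN.conj_mem _ (n ^ k).2 g⟩ : N) =
      (⟨g * (n : G) * g⁻¹, hN.conj_mem _ n.2 g⟩ : N) ^ k := by
    apply Subtype.ext
    simp only [Subgroup.coe_pow, conj_pow]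
  rw [h1, ← htw_apply, hfix]

end Cfsg.Agent.S4518
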