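import Cfsg.Statements.S4541
import Cfsg.Agent.Lib.Helper74.Contrib6

set_option autoImplicit false
open Cfsg

namespace Cfsg.Agent.S4541

/-- the arithmetic behind the bound -/
theorem arith (K Q L s T : ℤ) (hK : 0 ≤ K) (hQ : 1 ≤ Q) (hs : 0 ≤ s) (hs1 : s * s ≤ L)
    (hs2 : L < (s + 1) * (s + 1)) (hTodd : Odd T) (hT1 : 1 ≤ T) (h1 : K ≤ Q * T)
    (h2 : K * T ≤ Q * L) :
    (Odd s → K ≤ s * Q) ∧ (¬ Odd s → (s + 1) * K ≤ L * Q) ∧ (L ≤ 3 → K ≤ Q) := by
  have ha : Odd s → K ≤ s * Q := by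
    intro hso
    by_cases hTs : T ≤ s
    · nlinarith
    · have hne : T ≠ s + 1 := by
        intro h
        rw [h] at hTodd
        have : Even (s + 1) := Odd.add_one hso
        exact (Int.not_even_iff_odd.2 hTodd) this
      have hT2 : s + 2 ≤ T := by omega
      have h3 : K * (s + 2) ≤ (s * Q) * (s + 2) := by nlinarith
      exact le_of_mul_le_mul_right h3 (by omega)
  refine ⟨ha, ?_, ?_⟩
  · intro hse
    by_cases hTs : s + 1 ≤ T
    · nlinarith
    · have hne : T ≠ s := by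
        intro h
        rw [h] at hTodd
        exact hse hTodd
      have hT2 : T ≤ s - 1 := by omega
      have h3 : (s + 1) * K ≤ (s + 1) * (Q * T) := mul_le_mul_of_nonneg_left h1 (by omega)
      have h4 : Q * T ≤ Q * (s - 1) := mul_le_mul_of_nonneg_left hT2 (by omega)
      have h5 : (s + 1) * (Q * T) ≤ (s + 1) * (Q * (s - 1)) :=
        mul_le_mul_of_nonneg_left h4 (by omega)
      have h6 : (s + 1) * (Q * (s - 1)) = Q * (s * s - 1) := by ring
      have h7 : Q * (s * s - 1) ≤ Q * L := mul_le_mul_of_nonneg_left (by linarith) (by omega)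
      have h8 : L * Q = Q * L := mul_comm _ _
      linarith
  · intro hL
    by_cases hL0 : L ≤ 0
    · nlinarith
    · have hs_le : s ≤ 1 := by nlinarith
      have hs_ge : 1 ≤ s := by
        by_contra h
        have : s = 0 := by omega
        rw [this] at hs2
        omega
      have hs1' : s = 1 := by omega
      have := ha (by rw [hs1']; exact odd_one)
      rw [hs1'] at this
      linarith

/-- Let B be a 2-block of the finite group G (relative to a maximal ideal M of the algebraic integers containing 2), u a 2-element, and b a block of the centralizer of u inducing B (a subsection (u, b)), of defect q and 2-regular rank l; write s for the integer square root of l and k₀(B) for the number of members of B of height zero. If s is odd then k₀(B) ≤ s·2 ^ q, and otherwise (s + 1)·k₀(B) ≤ l·2 ^ q; in particular k₀(B) ≤ 2 ^ q when l ≤ 3. -/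
theorem result {G : Type*} [Group G] [Finite G] (M : Ideal Cfsg.AlgInt) (hM : Cfsg.IsPModular 2 M) (B : Set (Cfsg.IrrCharacter G)) (hB : Cfsg.IsPBlock M B) (u : G) (hu : ∃ j : ℕ, orderOf u = 2 ^ j) (b : Set (Cfsg.IrrCharacter ↥(Subgroup.centralizer ({u} : Set G)))) (hb : Cfsg.IsInducedBlock M (Subgroup.centralizer ({u} : Set G)) b B) : (Odd (Nat.sqrt (Cfsg.blockRank 2 b)) → Nat.card {χ : Cfsg.IrrCharacter G // χ ∈ B ∧ Cfsg.blockHeight 2 B (χ : G → ℂ) = 0} ≤ Nat.sqrt (Cfsg.blockRank 2 b) * 2 ^ Cfsg.blockDefect 2 b) ∧ (¬ Odd (Nat.sqrt (Cfsg.blockRank 2 b)) → (Nat.sqrt (Cfsg.blockRank 2 b) + 1) * Nat.card {χ : Cfsg.IrrCharacter G // χ ∈ B ∧ Cfsg.blockHeight 2 B (χ : G → ℂ) = 0} ≤ Cfsg.blockRank 2 b * 2 ^ Cfsg.blockDefect 2 b) ∧ (Cfsg.blockRank 2 b ≤ 3 → Nat.card {χ : Cfsg.IrrCharacter G // χ ∈ B ∧ Cfsg.blockHeight 2 B (χ : G → ℂ) = 0} ≤ 2 ^ Cfsg.blockDefect 2 b) := by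
  classical
  haveI : Fintype G := Fintype.ofFinite G
  haveI : Fintype (Subgroup.centralizer ({u} : Set G)) := Fintype.ofFinite _
  haveI : Fact (Nat.Prime 2) := ⟨Nat.prime_two⟩
  obtain ⟨S₀, hS₀def⟩ : ∃ S₀ : Finset (Cfsg.IrrCharacter G),
      S₀ = (Set.toFinite {χ : Cfsg.IrrCharacter G | χ ∈ B ∧
        Cfsg.blockHeight 2 B (χ : G → ℂ) = 0}).toFinset := ⟨_, rfl⟩
  have hcard : Nat.card {χ : Cfsg.IrrCharacter G // χ ∈ B ∧
      Cfsg.blockHeight 2 B (χ : G → ℂ) = 0} = S₀.card := by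
    change Nat.card ↥{χ : Cfsg.IrrCharacter G | χ ∈ B ∧
      Cfsg.blockHeight 2 B (χ : G → ℂ) = 0} = _
    rw [Nat.card_eq_card_toFinset, hS₀def]
    congr 1
    ext χ
    simp
  rw [hcard]
  have hS₀ : ∀ χ ∈ S₀, χ ∈ B ∧ (Cfsg.charDegree (χ : G → ℂ)).factorization 2 =
      Cfsg.Agent.Helper74.DO.minVal 2 B := by
    intro χ hχ
    rw [hS₀def, Set.Finite.mem_toFinset] at hχ
    refine ⟨hχ.1, ?_⟩
    have h1 : (Cfsg.charDegree (χ : G → ℂ)).factorization 2 -
        Cfsg.Agent.Helper74.DO.minVal 2 B = 0 := hχ.2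
    have h2 := Cfsg.Agent.Helper74.DO.minVal_le (p := 2) hχ.1
    omega
  rcases S₀.eq_empty_or_nonempty with hemp | hne
  · rw [hemp, Finset.card_empty]
    refine ⟨fun _ => Nat.zero_le _, fun _ => ?_, fun _ => Nat.zero_le _⟩
    rw [Nat.mul_zero]
    exact Nat.zero_le _
  · obtain ⟨T, hTodd, hT1, hb1, hb2⟩ :=
      Cfsg.Agent.Helper74.CT.k0_bounds hM u hu hb S₀ hS₀ hne
    have hsq1 := Nat.sqrt_le' (Cfsg.blockRank 2 b)
    have hsq2 := Nat.lt_succ_sqrt' (Cfsg.blockRank 2 b)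
    have hA := arith (S₀.card : ℤ) (2 ^ Cfsg.blockDefect 2 b) (Cfsg.blockRank 2 b : ℤ)
      (Nat.sqrt (Cfsg.blockRank 2 b) : ℤ) T (by positivity) (one_le_pow₀ (by norm_num))
      (by positivity)
      (by rw [← pow_two]; exact_mod_cast hsq1)
      (by rw [← pow_two]; exact_mod_cast hsq2)
      hTodd hT1 hb1 hb2
    refine ⟨fun ho => ?_, fun ho => ?_, fun hl => ?_⟩
    · have := hA.1 ((Int.odd_coe_nat _).2 ho)
      exact_mod_cast this
    · have := hA.2.1 (fun h => ho ((Int.odd_coe_nat _).1 h))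
      exact_mod_cast this
    · have := hA.2.2 (by exact_mod_cast hl)
      exact_mod_cast this

end Cfsg.Agent.S4541
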