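import Mathlib
import Cfsg.Statements.S4550
import Cfsg.Agent.Lib.Helper16.Osima
import Cfsg.Agent.Lib.Helper16.PIndex
import Cfsg.Agent.Lib.Helper77.Principal
import Cfsg.Agent.Lib.Helper78.CharCount
import Cfsg.Agent.Lib.Helper3.Spectral
import Cfsg.Agent.Lib.Helper75.GaloisTwist

set_option autoImplicit false
set_option linter.style.haveILetI false
set_option linter.unusedSectionVars false
open Cfsg

namespace Cfsg.Agent.S4550

open scoped ComplexConjugate
open Cfsg.Agent.Helper77 Cfsg.Agent.Helper78 Cfsg.Agent.Helper16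

section charcong
variable {G : Type*} [Group G] [Finite G] {p : ℕ} {M : Ideal AlgInt}

/-- The value of a character at a `p`-element is congruent to its degree modulo the local ideal. -/
theorem memLocalIdeal_char_sub_one (hM : IsPModular p M) {χ : G → ℂ} (hχ : IsCharacter G χ)
    (u : G) (k : ℕ) (hu : u ^ (p ^ k) = 1) : MemLocalIdeal M (χ u - χ 1) := by
  classical
  have hpr := isPrime_of_isPModular hM
  have hne := ne_top_of_isPModular hM
  obtain ⟨n, ρ, rfl⟩ := hχ
  have h1 : ρ.character 1 = ∑ᶠ μ : ℂ, (Cfsg.Agent.Helper3.mult ρ u μ : ℂ) := by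
    rw [Representation.char_one]
    exact Cfsg.Agent.Helper3.finrank_eq_finsum ρ u
  rw [Cfsg.Agent.Helper3.char_eq_finsum ρ u, h1]
  set S := (Cfsg.Agent.Helper3.finite_mult_support ρ u).toFinset with hS
  have hsub1 : Function.support (fun μ : ℂ => μ * (Cfsg.Agent.Helper3.mult ρ u μ : ℂ)) ⊆ ↑S := by
    intro μ hμ
    rw [Function.mem_support] at hμ
    rw [Finset.mem_coe, hS, Set.Finite.mem_toFinset, Function.mem_support]
    intro h0
    apply hμ
    rw [h0]
    simp
  have hsub2 : Function.support (fun μ : ℂ => (Cfsg.Agent.Helper3.mult ρ u μ : ℂ)) ⊆ ↑S := by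
    intro μ hμ
    rw [Function.mem_support] at hμ
    rw [Finset.mem_coe, hS, Set.Finite.mem_toFinset, Function.mem_support]
    intro h0
    apply hμ
    rw [h0]
    simp
  rw [finsum_eq_sum_of_support_subset _ hsub1, finsum_eq_sum_of_support_subset _ hsub2,
    ← Finset.sum_sub_distrib]
  apply memLocalIdeal_sum
  intro μ hμ
  rw [hS, Set.Finite.mem_toFinset, Function.mem_support] at hμ
  have h2 := Cfsg.Agent.Helper3.eigenvalue_pow_of_mult_ne_zero ρ u μ hμ
  have h3 : μ ^ (p ^ k) = 1 := by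
    obtain ⟨j, hj⟩ := orderOf_dvd_of_pow_eq_one hu
    rw [hj, pow_mul, h2, one_pow]
  have h4 : μ * (Cfsg.Agent.Helper3.mult ρ u μ : ℂ) - (Cfsg.Agent.Helper3.mult ρ u μ : ℂ) =
      (μ - 1) * (Cfsg.Agent.Helper3.mult ρ u μ : ℂ) := by ring
  rw [h4]
  exact memLocalIdeal_mul_right (memLocalIdeal_sub_one_of_pow_eq_one hM μ k h3)
    (memLocalRing_natCast _)

end charcong

section arith

theorem three_pow_two_pow (a : ℕ) : (2 : ℤ) ^ (a + 1) ∣ (3 : ℤ) ^ (2 ^ a) - 1 := by
  induction a with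
  | zero => norm_num
  | succ a ih =>
    have h1 : (3 : ℤ) ^ (2 ^ (a + 1)) - 1 = ((3 : ℤ) ^ (2 ^ a) - 1) * ((3 : ℤ) ^ (2 ^ a) + 1) := by
      rw [pow_succ 2 a, pow_mul]
      ring
    rw [h1, pow_succ (2 : ℤ) (a + 1)]
    apply mul_dvd_mul ih
    have h2 : Odd ((3 : ℤ) ^ (2 ^ a)) := Odd.pow (by decide)
    obtain ⟨t, ht⟩ := h2
    exact ⟨t + 1, by rw [ht]; ring⟩

variable {G : Type*} [Group G] [Finite G]

/-- Decomposition into a `2`-element and an element of odd order. -/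
theorem exists_two_decomp (g : G) : ∃ g₁ g₂ : G, Commute g₁ g₂ ∧ g = g₁ * g₂ ∧
    (∃ j : ℕ, orderOf g₁ = 2 ^ j) ∧ Odd (orderOf g₂) := by
  have ho : orderOf g ≠ 0 := (orderOf_pos g).ne'
  obtain ⟨a, m, hm, hom⟩ := Nat.exists_eq_two_pow_mul_odd ho
  have hcop : Nat.Coprime m (2 ^ a) := by
    apply Nat.Coprime.pow_right
    rw [Nat.coprime_comm, Nat.Prime.coprime_iff_not_dvd Nat.prime_two]
    exact hm.not_two_dvd_nat
  have hb := Nat.gcd_eq_gcd_ab m (2 ^ a)
  rw [hcop] at hb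
  set u := Nat.gcdA m (2 ^ a) with hu
  set v := Nat.gcdB m (2 ^ a) with hv
  refine ⟨g ^ ((m : ℤ) * u), g ^ (((2 ^ a : ℕ) : ℤ) * v), ?_, ?_, ?_, ?_⟩
  · exact (Commute.refl g).zpow_zpow _ _
  · rw [← zpow_add, ← hb]
    simp
  · have h1 : (g ^ ((m : ℤ) * u)) ^ (2 ^ a) = 1 := by
      rw [← zpow_natCast, ← zpow_mul]
      have : (m : ℤ) * u * ((2 ^ a : ℕ) : ℤ) = ((orderOf g : ℕ) : ℤ) * u := by
        rw [hom]; push_cast; ring
      rw [this, zpow_mul, zpow_natCast, pow_orderOf_eq_one, one_zpow]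
    obtain ⟨j, -, hj⟩ := (Nat.dvd_prime_pow Nat.prime_two).1 (orderOf_dvd_of_pow_eq_one h1)
    exact ⟨j, hj⟩
  · have h1 : (g ^ (((2 ^ a : ℕ) : ℤ) * v)) ^ m = 1 := by
      rw [← zpow_natCast, ← zpow_mul]
      have : ((2 ^ a : ℕ) : ℤ) * v * (m : ℤ) = ((orderOf g : ℕ) : ℤ) * v := by
        rw [hom]; push_cast; ring
      rw [this, zpow_mul, zpow_natCast, pow_orderOf_eq_one, one_zpow]
    exact Odd.of_dvd_nat hm (orderOf_dvd_of_pow_eq_one h1)

/-- Iterating the power map `g ↦ g ^ k` a suitable `2`-power number of times gives the identity. -/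
theorem pow_pow_eq_self (k : ℕ)
    (hk₁ : ∀ g : G, (∃ j : ℕ, orderOf g = 2 ^ j) → g ^ k = g ^ 3)
    (hk₂ : ∀ g : G, Odd (orderOf g) → g ^ k = g) (g : G) :
    g ^ (k ^ (2 ^ (Nat.card G))) = g := by
  obtain ⟨g₁, g₂, hc, rfl, ⟨a, ha⟩, h₂⟩ := exists_two_decomp g
  have hstep : ∀ j : ℕ, (g₁ * g₂) ^ (k ^ j) = g₁ ^ (3 ^ j) * g₂ := by
    intro j
    induction j with
    | zero => simp
    | succ j ih =>
      rw [pow_succ, pow_mul, ih, (hc.pow_left _).mul_pow, hk₂ g₂ h₂, ← pow_mul, mul_comm (3 ^ j) k,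
        pow_mul, hk₁ g₁ ⟨a, ha⟩, ← pow_mul, ← pow_succ']
  rw [hstep]
  congr 1
  -- g₁ ^ (3 ^ (2 ^ N)) = g₁
  set N := Nat.card G with hN
  have haN : a ≤ N := by
    have h1 : 2 ^ a ≤ N := by
      rw [← ha]
      exact orderOf_le_card
    exact (Nat.lt_two_pow_self).le.trans h1
  have h1 : ((2 : ℤ) ^ a) ∣ (3 : ℤ) ^ (2 ^ N) - 1 :=
    (pow_dvd_pow (2 : ℤ) (by omega : a ≤ N + 1)).trans (three_pow_two_pow N)
  obtain ⟨t, ht⟩ := h1
  have h3 : ((3 ^ (2 ^ N) : ℕ) : ℤ) = 1 + ((2 ^ a : ℕ) : ℤ) * t := by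
    push_cast
    linarith
  have h4 : g₁ ^ (3 ^ (2 ^ N)) = g₁ ^ ((3 ^ (2 ^ N) : ℕ) : ℤ) := (zpow_natCast _ _).symm
  rw [h4, h3, zpow_add, zpow_one, zpow_mul, zpow_natCast, ← ha, pow_orderOf_eq_one, one_zpow,
    mul_one]

theorem coprime_card (k : ℕ)
    (hk₁ : ∀ g : G, (∃ j : ℕ, orderOf g = 2 ^ j) → g ^ k = g ^ 3)
    (hk₂ : ∀ g : G, Odd (orderOf g) → g ^ k = g) : k.Coprime (Nat.card G) := by
  rw [Nat.coprime_iff_gcd_eq_one]
  by_contra hne
  obtain ⟨q, hq, hqd⟩ := Nat.exists_prime_and_dvd hne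
  have hqk : q ∣ k := hqd.trans (Nat.gcd_dvd_left _ _)
  have hqG : q ∣ Nat.card G := hqd.trans (Nat.gcd_dvd_right _ _)
  haveI : Fact q.Prime := ⟨hq⟩
  obtain ⟨g, hg⟩ := exists_prime_orderOf_dvd_card' q hqG
  have h1 : g ^ k = 1 := by
    obtain ⟨t, rfl⟩ := hqk
    rw [pow_mul, ← hg, pow_orderOf_eq_one, one_pow]
  have h2 := pow_pow_eq_self k hk₁ hk₂ g
  have h3 : k ^ (2 ^ Nat.card G) = k * k ^ (2 ^ Nat.card G - 1) := by
    rw [← pow_succ']
    congr 1
    have : 0 < 2 ^ Nat.card G := by positivity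
    omega
  rw [h3, pow_mul, h1, one_pow] at h2
  rw [← h2, orderOf_one] at hg
  exact hq.one_lt.ne' hg.symm

end arith

section main
variable {G : Type*} [Group G] [Fintype G] {M : Ideal AlgInt}

/-- The Galois twist of an irreducible character by the `k`-th power map. -/
noncomputable def twist (k : ℕ) (hk : k.Coprime (Nat.card G)) (χ : IrrCharacter G) :
    IrrCharacter G :=
  ⟨fun g => (χ : G → ℂ) (g ^ k), Cfsg.Agent.Helper75.galois_twist_irr χ k hk⟩

theorem twist_apply (k : ℕ) (hk : k.Coprime (Nat.card G)) (χ : IrrCharacter G) (g : G) :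
    (twist k hk χ : G → ℂ) g = (χ : G → ℂ) (g ^ k) := rfl

theorem centralizer_pow_eq (k : ℕ) (hk : k.Coprime (Nat.card G)) (g : G) :
    Subgroup.centralizer ({g ^ k} : Set G) = Subgroup.centralizer ({g} : Set G) := by
  have hcop : Nat.Coprime k (orderOf g) := hk.coprime_dvd_right (orderOf_dvd_natCard g)
  obtain ⟨m, hm⟩ := exists_pow_eq_self_of_coprime hcop
  ext z
  simp only [Subgroup.mem_centralizer_iff, Set.mem_singleton_iff, forall_eq]
  constructor
  · intro h
    have h1 : Commute (g ^ k) z := h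
    have h2 := h1.pow_left m
    rw [hm] at h2
    exact h2
  · intro h
    have h1 : Commute g z := h
    exact h1.pow_left k

theorem twist_mem_principalBlock (k : ℕ) (hk : k.Coprime (Nat.card G)) (χ : IrrCharacter G)
    (h : χ ∈ principalBlock M G) : twist k hk χ ∈ principalBlock M G := by
  intro g
  have h1 := h (g ^ k)
  unfold centralChar at h1 ⊢
  rw [centralizer_pow_eq k hk g] at h1
  simp only [twist_apply, one_pow]
  exact h1

theorem twist_charDegree (k : ℕ) (hk : k.Coprime (Nat.card G)) (χ : IrrCharacter G) :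
    charDegree (twist k hk χ : G → ℂ) = charDegree (χ : G → ℂ) := by
  unfold charDegree
  rw [twist_apply, one_pow]

open scoped Classical in
/-- The number of odd-degree characters in the principal `2`-block of a group of even order is
even. -/
theorem even_card_odd (hM : IsPModular 2 M) (hev : Even (Nat.card G)) :
    Even (Finset.univ.filter (fun χ : IrrCharacter G =>
      χ ∈ principalBlock M G ∧ Odd (charDegree (χ : G → ℂ)))).card := by
  haveI : Fact (Nat.Prime 2) := ⟨Nat.prime_two⟩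
  have hpr := isPrime_of_isPModular hM
  have hne := ne_top_of_isPModular hM
  obtain ⟨t, ht⟩ := exists_prime_orderOf_dvd_card' 2 hev.two_dvd
  set B := principalBlock M G with hBdef
  have hB : IsPBlock M B := isPBlock_principalBlock M
  have h0 := blockCoeff_eq_zero_of_singular hM hB t (by rw [ht])
  rw [blockCoeff_eq_sum] at h0
  have hcne : ((Nat.card G : ℂ))⁻¹ ≠ 0 := by
    have : 0 < Nat.card G := Nat.card_pos
    have h1 : (Nat.card G : ℂ) ≠ 0 := by exact_mod_cast this.ne'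
    exact inv_ne_zero h1
  have h1 := (mul_eq_zero.1 h0).resolve_left hcne
  set Bf := (Set.toFinite B).toFinset with hBf
  have hmemBf : ∀ θ, θ ∈ Bf ↔ θ ∈ B := fun θ => Set.Finite.mem_toFinset _
  have ht2 : t ^ (2 ^ 1) = 1 := by rw [pow_one, ← ht, pow_orderOf_eq_one]
  have htinv : t⁻¹ = t := by
    rw [inv_eq_iff_mul_eq_one, ← pow_two]
    simpa using ht2
  have hterm : ∀ χ ∈ Bf, MemLocalIdeal M ((χ : G → ℂ) 1 * conj ((χ : G → ℂ) t) -
      (if Odd (charDegree (χ : G → ℂ)) then 1 else 0)) := by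
    intro χ _
    have h2 : conj ((χ : G → ℂ) t) = (χ : G → ℂ) t := by
      rw [← IsIrrCharacter.inv χ.2 t, htinv]
    rw [h2]
    obtain ⟨hd1, hdpos⟩ := irr_charDegree χ.2
    have h3 := memLocalIdeal_char_sub_one hM (IsIrrCharacter.isCharacter χ.2) t 1 ht2
    have h4 : (χ : G → ℂ) 1 * (χ : G → ℂ) t - (if Odd (charDegree (χ : G → ℂ)) then 1 else 0) =
        (χ : G → ℂ) 1 * ((χ : G → ℂ) t - (χ : G → ℂ) 1) +
        ((χ : G → ℂ) 1 * (χ : G → ℂ) 1 - (if Odd (charDegree (χ : G → ℂ)) then 1 else 0)) := by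
      ring
    rw [h4]
    apply memLocalIdeal_add
    · apply memLocalIdeal_mul_left _ h3
      rw [hd1]
      exact memLocalRing_natCast _
    · rw [hd1]
      by_cases hodd : Odd (charDegree (χ : G → ℂ))
      · rw [if_pos hodd]
        obtain ⟨m, hm⟩ := hodd
        have : ((charDegree (χ : G → ℂ) : ℕ) : ℂ) * ((charDegree (χ : G → ℂ) : ℕ) : ℂ) - 1 =
            ((2 * (2 * m * m + 2 * m) : ℕ) : ℂ) := by
          rw [hm]; push_cast; ring
        rw [this, memLocalIdeal_natCast_iff hM]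
        exact Dvd.intro _ rfl
      · rw [if_neg hodd, sub_zero]
        rw [Nat.not_odd_iff_even] at hodd
        obtain ⟨m, hm⟩ := hodd
        have : ((charDegree (χ : G → ℂ) : ℕ) : ℂ) * ((charDegree (χ : G → ℂ) : ℕ) : ℂ) =
            ((2 * (2 * m * m) : ℕ) : ℂ) := by
          rw [hm]; push_cast; ring
        rw [this, memLocalIdeal_natCast_iff hM]
        exact Dvd.intro _ rfl
  have hsum : MemLocalIdeal M (∑ χ ∈ Bf, ((χ : G → ℂ) 1 * conj ((χ : G → ℂ) t) -
      (if Odd (charDegree (χ : G → ℂ)) then (1 : ℂ) else 0))) := memLocalIdeal_sum _ _ hterm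
  rw [Finset.sum_sub_distrib, h1, zero_sub] at hsum
  have hsum' := memLocalIdeal_neg hsum
  rw [neg_neg] at hsum'
  have hcount : ∑ χ ∈ Bf, (if Odd (charDegree (χ : G → ℂ)) then (1 : ℂ) else 0) =
      ((Finset.univ.filter (fun χ : IrrCharacter G =>
        χ ∈ principalBlock M G ∧ Odd (charDegree (χ : G → ℂ)))).card : ℂ) := by
    rw [Finset.card_eq_sum_ones, Nat.cast_sum, Finset.sum_filter]
    rw [← Finset.sum_subset (Finset.subset_univ Bf)]
    · refine Finset.sum_congr rfl fun χ hχ => ?_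
      have hχB : χ ∈ principalBlock M G := (hmemBf χ).1 hχ
      by_cases hodd : Odd (charDegree (χ : G → ℂ))
      · simp [hodd, hχB]
      · simp [hodd]
    · intro χ _ hχ
      have hχB : χ ∉ principalBlock M G := fun h => hχ ((hmemBf χ).2 h)
      simp [hχB]
  rw [hcount, memLocalIdeal_natCast_iff hM] at hsum'
  exact (even_iff_two_dvd).2 hsum'

end main

theorem result {G : Type*} [Group G] [Finite G] (M : Ideal Cfsg.AlgInt) (hM : Cfsg.IsPModular 2 M) (hev : Even (Nat.card G)) (k : ℕ) (hk₁ : ∀ g : G, (∃ j : ℕ, orderOf g = 2 ^ j) → g ^ k = g ^ 3) (hk₂ : ∀ g : G, Odd (orderOf g) → g ^ k = g) : Even (Nat.card {χ : Cfsg.IrrCharacter G // χ ∈ Cfsg.principalBlock M G ∧ Odd (Cfsg.charDegree (χ : G → ℂ)) ∧ ∀ g : G, (χ : G → ℂ) (g ^ k) = (χ : G → ℂ) g}) := by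
  classical
  haveI : Fintype G := Fintype.ofFinite G
  haveI : Fact (Nat.Prime 2) := ⟨Nat.prime_two⟩
  have hk := coprime_card k hk₁ hk₂
  set N := Nat.card G with hN
  let X := {χ : IrrCharacter G // χ ∈ principalBlock M G ∧ Odd (charDegree (χ : G → ℂ))}
  let f : Function.End X := fun x =>
    ⟨twist k hk x.1, twist_mem_principalBlock k hk x.1 x.2.1, by
      rw [twist_charDegree]; exact x.2.2⟩
  have hiter : ∀ (j : ℕ) (x : X) (g : G),
      (((f ^ j) x : X).1 : G → ℂ) g = ((x.1 : IrrCharacter G) : G → ℂ) (g ^ (k ^ j)) := by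
    intro j
    induction j with
    | zero =>
      intro x g
      rw [pow_zero, pow_zero, pow_one]
      rfl
    | succ j ih =>
      intro x g
      rw [pow_succ']
      change ((twist k hk ((f ^ j) x).1 : IrrCharacter G) : G → ℂ) g = _
      rw [twist_apply, ih, ← pow_mul, pow_succ']
  have hf : f ^ 2 ^ N = 1 := by
    funext x
    apply Subtype.ext
    apply Subtype.ext
    funext g
    rw [hiter, pow_pow_eq_self k hk₁ hk₂ g]
    rfl
  have hmod := Equiv.Perm.card_fixedPoints_modEq (p := 2) (n := N) hf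
  have hcardX : Fintype.card X = (Finset.univ.filter (fun χ : IrrCharacter G =>
      χ ∈ principalBlock M G ∧ Odd (charDegree (χ : G → ℂ)))).card := Fintype.card_subtype _
  have hevX : Even (Fintype.card X) := by
    rw [hcardX]
    exact even_card_odd hM hev
  have hevfix : Even (Fintype.card (Function.fixedPoints f)) := by
    rw [Nat.even_iff] at hevX ⊢
    rw [← hevX]
    exact hmod.symm
  have hequiv : {χ : IrrCharacter G // χ ∈ principalBlock M G ∧ Odd (charDegree (χ : G → ℂ)) ∧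
      ∀ g : G, (χ : G → ℂ) (g ^ k) = (χ : G → ℂ) g} ≃ Function.fixedPoints f :=
    { toFun := fun z => ⟨⟨z.1, z.2.1, z.2.2.1⟩, by
        apply Subtype.ext
        apply Subtype.ext
        funext g
        exact z.2.2.2 g⟩
      invFun := fun y => ⟨y.1.1, y.1.2.1, y.1.2.2, fun g => by
        have h1 : f y.1 = y.1 := y.2
        have h2 := congrArg (fun w : X => ((w.1 : IrrCharacter G) : G → ℂ) g) h1
        exact h2⟩
      left_inv := fun z => rfl
      right_inv := fun y => rfl }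
  rw [Nat.card_congr hequiv, Nat.card_eq_fintype_card]
  exact hevfix

end Cfsg.Agent.S4550
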