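import Cfsg.Statements.S4549
import Cfsg.Agent.Lib.Helper81.PrincNPC2
import Cfsg.Agent.S4550
import Cfsg.Agent.Lib.Helper16.QuotBlock
import Cfsg.Agent.Lib.Helper79.Codegree

set_option autoImplicit false
set_option linter.style.haveILetI false
open Cfsg

namespace Cfsg.Agent.S4549

open scoped ComplexConjugate

/-- Let G be a finite group and M a maximal ideal of the algebraic integers containing 2. Let k be a natural number with g ^ k = g ^ 3 for every 2-element g and g ^ k = g for every element g of odd order (such k exist); an irreducible character χ is unchanged by g ↦ g ^ k exactly when it is fixed by the field automorphism that cubes the 2-power roots of unity and fixes the roots of unity of odd order. Then G has a normal 2-complement if and only if every member χ of the principal 2-block of odd degree with χ (g ^ k) = χ g for all g has degree one. -/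
theorem result {G : Type*} [Group G] [Finite G] (M : Ideal Cfsg.AlgInt) (hM : Cfsg.IsPModular 2 M) (k : ℕ) (hk₁ : ∀ g : G, (∃ j : ℕ, orderOf g = 2 ^ j) → g ^ k = g ^ 3) (hk₂ : ∀ g : G, Odd (orderOf g) → g ^ k = g) : Cfsg.HasNormalPComplement 2 G ↔ ∀ χ ∈ Cfsg.principalBlock M G, Odd (Cfsg.charDegree (χ : G → ℂ)) → (∀ g : G, (χ : G → ℂ) (g ^ k) = (χ : G → ℂ) g) → Cfsg.charDegree (χ : G → ℂ) = 1 := by
  classical
  haveI : Fintype G := Fintype.ofFinite G
  haveI : Fact (Nat.Prime 2) := ⟨Nat.prime_two⟩
  have hprime := Cfsg.Agent.Helper77.isPrime_of_isPModular hM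
  have hne := Cfsg.Agent.Helper77.ne_top_of_isPModular hM
  constructor
  · rintro ⟨P, N, hN, hc⟩ χ hχ hodd _
    have hnd : ¬ 2 ∣ charDegree (χ : G → ℂ) := hodd.not_two_dvd_nat
    have hcard := hc.card_mul_card
    have hidx : N.index = Nat.card P := by
      have h1 := N.card_mul_index
      rw [← hcard] at h1
      exact Nat.eq_of_mul_eq_mul_left Nat.card_pos h1
    have hpN : ¬ 2 ∣ Nat.card N := by
      have h1 := (P : Subgroup G).card_mul_index
      rw [← hcard, mul_comm] at h1
      have h2 : (P : Subgroup G).index = Nat.card N :=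
        Nat.eq_of_mul_eq_mul_right Nat.card_pos h1
      rw [← h2]
      exact P.not_dvd_index
    have : Fintype N := Fintype.ofFinite _
    have hker : ∀ n : N, (χ : G → ℂ) n = (χ : G → ℂ) 1 :=
      Cfsg.Agent.Helper16.ker_of_sameBlock_of_pprime N hM hpN (Cfsg.Agent.Helper77.trivIrr G) χ hχ
        (fun n => rfl)
    have hle : N ≤ Cfsg.Agent.Helper79.irrKer χ := fun n hn =>
      (Cfsg.Agent.Helper79.mem_irrKer χ n).2 (hker ⟨n, hn⟩)
    have hdvd : charDegree (χ : G → ℂ) ∣ Nat.card P := by
      rw [← hidx]
      exact (Cfsg.Agent.Helper79.degree_dvd_index_irrKer χ).trans (Subgroup.index_dvd_of_le hle)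
    obtain ⟨a, ha⟩ := IsPGroup.iff_card.1 P.2
    rw [ha] at hdvd
    obtain ⟨j, _, hj⟩ := (Nat.dvd_prime_pow Nat.prime_two).1 hdvd
    cases j with
    | zero => rw [hj, pow_zero]
    | succ j =>
      exfalso
      apply hnd
      rw [hj]
      exact dvd_pow_self 2 (Nat.succ_ne_zero j)
  · intro hyp
    have hk := Cfsg.Agent.S4550.coprime_card k hk₁ hk₂
    obtain ⟨P⟩ : Nonempty (Sylow 2 G) := inferInstance
    apply Cfsg.Agent.Helper81.hasNormalPComplement_of_hom_extends P
    intro μ hμ
    obtain ⟨g, hgreg, hgidx, hsum⟩ := Cfsg.Agent.Helper81.exists_defect_elt_principal hM P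
    have hS := hsum μ
    by_contra hcon
    push Not at hcon
    apply hS
    clear hS hsum
    have hgodd : Odd (orderOf g) := Nat.odd_iff.2 (Nat.two_dvd_ne_zero.1 hgreg)
    set μf : P → ℂ := fun u => ((μ u : ℂˣ) : ℂ) with hμf
    have hμirr : IsIrrCharacter P μf := by
      have := (Cfsg.Agent.Helper79.linChar μ).2
      have h2 : ((Cfsg.Agent.Helper79.linChar μ : IrrCharacter P) : P → ℂ) = μf := by
        funext u
        rw [Cfsg.Agent.Helper79.linChar_apply]
      rw [← h2]
      exact this
    -- the summand
    set F : IrrCharacter G → ℂ := fun χ => conj ((χ : G → ℂ) g) *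
      classInner (fun u : P => (χ : G → ℂ) u) μf with hF
    have hmult : ∀ χ : IrrCharacter G, ∃ n : ℕ,
        classInner (fun u : P => (χ : G → ℂ) u) μf = (n : ℂ) := fun χ =>
      Cfsg.Agent.Helper81.exists_nat_classInner
        (Cfsg.Agent.Helper81.isCharacter_restrict (P : Subgroup G)
          (Cfsg.Agent.Helper81.IsIrrCharacter.isCharacter χ.2)) hμirr
    have hconjR : ∀ χ : IrrCharacter G, MemLocalRing M (conj ((χ : G → ℂ) g)) := by
      intro χ
      rw [← Cfsg.Agent.Helper79.irr_inv χ g]
      exact Cfsg.Agent.Helper77.memLocalRing_algInt hne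
        (⟨_, Cfsg.Agent.Helper79.irr_isIntegral χ g⁻¹⟩ : AlgInt)
    have hFR : ∀ χ : IrrCharacter G, MemLocalRing M (F χ) := by
      intro χ
      obtain ⟨n, hn⟩ := hmult χ
      rw [hF]
      simp only
      rw [hn]
      exact Cfsg.Agent.Helper77.memLocalRing_mul (hconjR χ)
        (Cfsg.Agent.Helper77.memLocalRing_natCast _)
    show MemLocalIdeal M (∑ χ ∈ (Set.toFinite (principalBlock M G)).toFinset, F χ)
    rw [← Finset.sum_filter_add_sum_filter_not _
      (fun χ : IrrCharacter G => Odd (charDegree (χ : G → ℂ)))]
    apply Cfsg.Agent.Helper77.memLocalIdeal_add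
    · -- odd degrees: orbit argument
      let X := {χ : IrrCharacter G // χ ∈ principalBlock M G ∧ Odd (charDegree (χ : G → ℂ))}
      have hsub : ∑ χ ∈ ((Set.toFinite (principalBlock M G)).toFinset).filter
          (fun χ : IrrCharacter G => Odd (charDegree (χ : G → ℂ))), F χ =
          ∑ x : X, F x.1 := by
        apply Finset.sum_subtype
        intro χ
        rw [Finset.mem_filter, Set.Finite.mem_toFinset]
      rw [hsub]
      let f : Function.End X := fun x =>
        ⟨Cfsg.Agent.S4550.twist k hk x.1, Cfsg.Agent.S4550.twist_mem_principalBlock k hk x.1 x.2.1,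
          by rw [Cfsg.Agent.S4550.twist_charDegree]; exact x.2.2⟩
      have hiter : ∀ (j : ℕ) (x : X) (y : G),
          (((f ^ j) x : X).1 : G → ℂ) y = ((x.1 : IrrCharacter G) : G → ℂ) (y ^ (k ^ j)) := by
        intro j
        induction j with
        | zero =>
          intro x y
          rw [pow_zero, pow_zero, pow_one]
          rfl
        | succ j ih =>
          intro x y
          rw [pow_succ']
          change ((Cfsg.Agent.S4550.twist k hk ((f ^ j) x).1 : IrrCharacter G) : G → ℂ) y = _
          rw [Cfsg.Agent.S4550.twist_apply, ih, ← pow_mul, pow_succ']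
      have hf : f ^ 2 ^ (Nat.card G) = 1 := by
        funext x
        apply Subtype.ext
        apply Subtype.ext
        funext y
        rw [hiter, Cfsg.Agent.S4550.pow_pow_eq_self k hk₁ hk₂ y]
        rfl
      apply Cfsg.Agent.Helper81.memLocalIdeal_sum_of_fixedPoints hM f (Nat.card G) hf
        (fun x : X => F x.1) (fun x => hFR x.1)
      · -- invariance
        intro x
        show F (Cfsg.Agent.S4550.twist k hk x.1) = F x.1
        rw [hF]
        simp only
        rw [Cfsg.Agent.S4550.twist_apply, hk₂ g hgodd]
        congr 1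
        -- the multiplicities agree
        unfold classInner
        congr 1
        have hcop : (Nat.card P).Coprime 3 := by
          obtain ⟨a, ha⟩ := IsPGroup.iff_card.1 P.2
          rw [ha]
          exact Nat.Coprime.pow_left a (by decide)
        refine Eq.trans ?_ (Equiv.sum_comp (powCoprime hcop)
          (fun u : P => ((x.1 : IrrCharacter G) : G → ℂ) u * conj (μf u)))
        refine Finset.sum_congr rfl fun u _ => ?_
        beta_reduce
        have hu2 : ∃ j : ℕ, orderOf (u : G) = 2 ^ j := by
          obtain ⟨j, hj⟩ := (IsPGroup.iff_orderOf.1 P.2) u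
          exact ⟨j, by rw [Subgroup.orderOf_coe, hj]⟩
        have h1 : ((powCoprime hcop u : P) : G) = (u : G) ^ 3 := by
          show ((u ^ 3 : P) : G) = (u : G) ^ 3
          rw [Subgroup.coe_pow]
        have h2 : μf (powCoprime hcop u) = μf u := by
          show ((μ (u ^ 3) : ℂˣ) : ℂ) = ((μ u : ℂˣ) : ℂ)
          rw [map_pow, pow_succ, hμ u, one_mul]
        rw [Cfsg.Agent.S4550.twist_apply, hk₁ (u : G) hu2, h1, h2]
      · -- fixed points
        intro x hx
        have hxfix : ∀ y : G, ((x.1 : IrrCharacter G) : G → ℂ) (y ^ k) =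
            ((x.1 : IrrCharacter G) : G → ℂ) y := by
          intro y
          have h1 := congrArg (fun w : X => ((w.1 : IrrCharacter G) : G → ℂ) y) hx
          exact h1
        have hdeg := hyp x.1 x.2.1 x.2.2 hxfix
        have h1 : ((x.1 : IrrCharacter G) : G → ℂ) 1 = 1 := by
          rw [(Cfsg.Agent.Helper78.irr_charDegree x.1.2).1, hdeg, Nat.cast_one]
        obtain ⟨n, hn⟩ := hmult x.1
        by_cases hn0 : n = 0
        · show MemLocalIdeal M (F x.1)
          rw [hF]
          simp only
          rw [hn, hn0, Nat.cast_zero, mul_zero]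
          exact Cfsg.Agent.Helper77.memLocalIdeal_zero hne
        · exfalso
          let lam : G →* ℂˣ := Cfsg.Agent.Helper78.linearCharHom x.1.2 h1
          obtain ⟨u, hu⟩ := hcon lam
          have hres : IsIrrCharacter P (fun u : P => ((x.1 : IrrCharacter G) : G → ℂ) u) := by
            have := (Cfsg.Agent.Helper79.linChar (lam.comp (P : Subgroup G).subtype)).2
            have h2 : ((Cfsg.Agent.Helper79.linChar (lam.comp (P : Subgroup G).subtype) :
                IrrCharacter P) : P → ℂ) = fun u : P => ((x.1 : IrrCharacter G) : G → ℂ) u := by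
              funext v
              rw [Cfsg.Agent.Helper79.linChar_apply]
              exact Cfsg.Agent.Helper78.linearCharHom_apply x.1.2 h1 (v : G)
            rw [← h2]
            exact this
          have horth := Cfsg.Agent.Helper81.irr_orthonormal hres hμirr
          rw [hn] at horth
          by_cases heq : (fun u : P => ((x.1 : IrrCharacter G) : G → ℂ) u) = μf
          · apply hu
            apply Units.ext
            have h3 := congrFun heq u
            rw [Cfsg.Agent.Helper78.linearCharHom_apply x.1.2 h1 (u : G)]
            exact h3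
          · rw [if_neg heq] at horth
            apply hn0
            exact_mod_cast horth
    · -- even degrees
      apply Cfsg.Agent.Helper77.memLocalIdeal_sum
      intro χ hχ
      rw [Finset.mem_filter] at hχ
      have hev : 2 ∣ charDegree (χ : G → ℂ) := by
        have := Nat.not_odd_iff_even.1 hχ.2
        exact even_iff_two_dvd.1 this
      obtain ⟨n, hn⟩ := hmult χ
      rw [hF]
      simp only
      rw [hn]
      have hinv : conj ((χ : G → ℂ) g) = (χ : G → ℂ) g⁻¹ :=
        (Cfsg.Agent.Helper79.irr_inv χ g).symm
      rw [hinv]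
      have hidx : (Subgroup.centralizer ({g⁻¹} : Set G)).index =
          (Subgroup.centralizer ({g} : Set G)).index := by
        congr 1
        ext z
        simp only [Subgroup.mem_centralizer_iff, Set.mem_singleton_iff, forall_eq]
        constructor
        · intro h
          have := congrArg (fun y => g * y * g) h
          simp only [mul_assoc, inv_mul_cancel, mul_one] at this
          simpa [mul_assoc] using this.symm
        · intro h
          have := congrArg (fun y => g⁻¹ * y * g⁻¹) h
          simp only [mul_assoc, mul_inv_cancel, mul_one] at this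
          simpa [mul_assoc] using this.symm
      have hgi : ¬ 2 ∣ (Subgroup.centralizer ({g⁻¹} : Set G)).index := by rw [hidx]; exact hgidx
      exact Cfsg.Agent.Helper77.memLocalIdeal_mul_right
        (Cfsg.Agent.Helper81.memLocalIdeal_apply_of_dvd_degree hM χ.2 g⁻¹ hgi _
          (Cfsg.Agent.Helper78.irr_charDegree χ.2).1 hev)
        (Cfsg.Agent.Helper77.memLocalRing_natCast _)

end Cfsg.Agent.S4549
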