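import Cfsg.Statements.S4553
import Cfsg.Agent.Lib.Helper81.CharPRes
import Cfsg.Agent.Lib.Helper16.Cover
import Cfsg.Agent.Lib.Helper16.BlockConj
import Cfsg.Agent.Lib.Helper77.Principal

set_option autoImplicit false
set_option linter.style.haveILetI false
set_option linter.unusedSectionVars false
set_option maxHeartbeats 800000
open Cfsg

namespace Cfsg.Agent.S4553

open scoped ComplexConjugate
open Cfsg.Agent.Helper77 Cfsg.Agent.Helper16

/-- `O^p(O^p(G)) = O^p(G)`. -/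
theorem pResidual_self_top (p : ℕ) (G : Type*) [Group G] :
    Cfsg.pResidual p (Cfsg.pResidual p G) = ⊤ := by
  have h : {g : ↥(Cfsg.pResidual p G) | Nat.Coprime (orderOf g) p} =
      ((↑) : Cfsg.pResidual p G → G) ⁻¹' {g : G | Nat.Coprime (orderOf g) p} := by
    ext g
    simp only [Set.mem_ofPred_eq, Set.mem_preimage, Subgroup.orderOf_coe]
  show Subgroup.closure {g : ↥(Cfsg.pResidual p G) | Nat.Coprime (orderOf g) p} = ⊤
  rw [h]
  exact Subgroup.closure_closure_coe_preimage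

/-- The exponent of the Galois twist is prime to the group order. -/
theorem coprime_of_pow_conditions {G : Type*} [Group G] [Finite G] (p : ℕ) (hp : p.Prime) (k : ℕ)
    (hk₁ : ∀ g : G, (∃ j : ℕ, orderOf g = p ^ j) → g ^ k = g ^ (1 + p))
    (hk₂ : ∀ g : G, Nat.Coprime (orderOf g) p → g ^ k = g) : k.Coprime (Nat.card G) := by
  apply Nat.coprime_of_dvd
  intro r hr hrk hrG
  haveI : Fact r.Prime := ⟨hr⟩
  obtain ⟨g, hg⟩ := exists_prime_orderOf_dvd_card' r hrG
  have hgk : g ^ k = 1 := by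
    obtain ⟨c, rfl⟩ := hrk
    rw [pow_mul, ← hg, pow_orderOf_eq_one, one_pow]
  have hg1 : g ≠ 1 := by
    intro h
    rw [h, orderOf_one] at hg
    exact hr.one_lt.ne hg
  by_cases hrp : r = p
  · have h1 := hk₁ g ⟨1, by rw [hg, hrp, pow_one]⟩
    rw [hgk] at h1
    have h2 : orderOf g ∣ 1 + p := orderOf_dvd_of_pow_eq_one h1.symm
    rw [hg, hrp] at h2
    have h3 : p ∣ 1 := (Nat.dvd_add_left (dvd_refl p)).1 h2
    exact hp.one_lt.ne' (Nat.dvd_one.1 h3)
  · have hcop : Nat.Coprime (orderOf g) p := by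
      rw [hg]
      exact (Nat.coprime_primes hr hp).2 hrp
    have h1 := hk₂ g hcop
    rw [hgk] at h1
    exact hg1 h1.symm

/-- Counting through a map with fibres of constant size. -/
theorem card_eq_mul_of_fibers {A B : Type*} [Finite A] [Finite B] (r : A → B) (c : ℕ)
    (h : ∀ b, Nat.card {x : A // r x = b} = c) : Nat.card A = c * Nat.card B := by
  classical
  haveI : Fintype B := Fintype.ofFinite B
  rw [Nat.card_congr (Equiv.sigmaFiberEquiv r).symm, Nat.card_sigma]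
  simp only [h, Finset.sum_const, Finset.card_univ, smul_eq_mul]
  rw [Nat.card_eq_fintype_card, mul_comm]

theorem result {G : Type*} [Group G] [Finite G] (p : ℕ) [Fact p.Prime] (M : Ideal Cfsg.AlgInt) (hM : Cfsg.IsPModular p M) (P : Sylow p G) (N : Subgroup G) [hN : N.Normal] (hNres : N = Cfsg.pResidual p G) (hcyc : IsCyclic (G ⧸ N)) (hnt : N ≠ ⊤) (k : ℕ) (hk₁ : ∀ g : G, (∃ j : ℕ, orderOf g = p ^ j) → g ^ k = g ^ (1 + p)) (hk₂ : ∀ g : G, Nat.Coprime (orderOf g) p → g ^ k = g) : Nat.card {χ : Cfsg.IrrCharacter G // χ ∈ Cfsg.principalBlock M G ∧ ¬ p ∣ Cfsg.charDegree (χ : G → ℂ) ∧ ∀ g : G, (χ : G → ℂ) (g ^ k) = (χ : G → ℂ) g} = p * Nat.card {θ : Cfsg.IrrCharacter ↥N // θ ∈ Cfsg.principalBlock M ↥N ∧ ¬ p ∣ Cfsg.charDegree (θ : ↥N → ℂ) ∧ (∀ x ∈ (P : Subgroup G), ∀ n : ↥N, (θ : ↥N → ℂ) ⟨x * n * x⁻¹, hN.conj_mem n n.2 x⟩ = (θ : ↥N → ℂ) n) ∧ ∀ n : ↥N, (θ : ↥N → ℂ) (n ^ k) = (θ : ↥N → ℂ) n} := by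
  classical
  haveI : Fintype G := Fintype.ofFinite G
  haveI : Fintype N := Fintype.ofFinite N
  have hp : p.Prime := Fact.out
  haveI hMprime : M.IsPrime := isPrime_of_isPModular hM
  have hkcop : k.Coprime (Nat.card G) := coprime_of_pow_conditions p hp k hk₁ hk₂
  -- group-theoretic facts
  have hPG : IsPGroup p (G ⧸ N) :=
    Cfsg.Agent.Helper47.isPGroup_quotient_of_pResidual_le N (le_of_eq hNres.symm)
  obtain ⟨a, ha⟩ := IsPGroup.exists_card_eq hPG
  have hidx : N.index = p ^ a := by rw [Subgroup.index_eq_card]; exact ha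
  have ha0 : a ≠ 0 := by
    intro h0
    rw [h0, pow_zero] at hidx
    exact hnt (Subgroup.index_eq_one.1 hidx)
  have hNtop : Cfsg.pResidual p ↥N = ⊤ := by
    subst hNres
    exact pResidual_self_top p G
  have hsup : (P : Subgroup G) ⊔ N = ⊤ := by
    rw [hNres]
    exact Cfsg.Agent.Helper47.sylow_sup_pResidual_eq_top P
  -- invariance under `G`
  have hGinv : ∀ θ : IrrCharacter N, (∀ x ∈ (P : Subgroup G), ∀ n : N,
      (θ : N → ℂ) ⟨x * n * x⁻¹, hN.conj_mem n n.2 x⟩ = (θ : N → ℂ) n) →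
      ∀ (g : G) (n : N), (θ : N → ℂ) ⟨g * n * g⁻¹, hN.conj_mem n n.2 g⟩ = (θ : N → ℂ) n := by
    intro θ hP g n
    have h1 : (P : Subgroup G) ≤ Cfsg.Agent.Helper79.inertiaGrp N hN (θ : N → ℂ) := by
      intro x hx
      rw [Cfsg.Agent.Helper79.mem_inertiaGrp]
      funext m
      rw [Cfsg.Agent.Helper81.conjFun_apply]
      exact hP x hx m
    have h2 : N ≤ Cfsg.Agent.Helper79.inertiaGrp N hN (θ : N → ℂ) :=
      Cfsg.Agent.Helper79.le_inertiaGrp N hN (isClassFunction_of_isIrrCharacter' θ.2)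
    have h3 : g ∈ Cfsg.Agent.Helper79.inertiaGrp N hN (θ : N → ℂ) := by
      have h4 : (⊤ : Subgroup G) ≤ Cfsg.Agent.Helper79.inertiaGrp N hN (θ : N → ℂ) := by
        rw [← hsup]
        exact sup_le h1 h2
      exact h4 (Subgroup.mem_top g)
    rw [Cfsg.Agent.Helper79.mem_inertiaGrp] at h3
    exact congrFun h3 n
  -- restriction is irreducible
  have hirr : ∀ χ : IrrCharacter G, ¬ p ∣ charDegree (χ : G → ℂ) →
      IsIrrCharacter N (fun n : N => (χ : G → ℂ) n) := by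
    intro χ hχ
    exact Cfsg.Agent.Helper75.restrict_irr hp N hN a hidx χ.2 (charDegree (χ : G → ℂ))
      (Cfsg.Agent.Helper80.irr_one χ) hχ
  have hdegres : ∀ χ : IrrCharacter G,
      charDegree (fun n : N => (χ : G → ℂ) n) = charDegree (χ : G → ℂ) := fun χ => rfl
  have hself : ∀ θ : IrrCharacter N, classInner (θ : N → ℂ) (θ : N → ℂ) ≠ 0 := by
    intro θ
    rw [Cfsg.Agent.Helper81.irr_orthonormal θ.2 θ.2, if_pos rfl]
    exact one_ne_zero
  -- block of the restriction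
  have hB1 : ∀ χ : IrrCharacter G, χ ∈ principalBlock M G →
      ∀ hi : IsIrrCharacter N (fun n : N => (χ : G → ℂ) n),
      (⟨fun n : N => (χ : G → ℂ) n, hi⟩ : IrrCharacter N) ∈ principalBlock M N := by
    intro χ hχ hi
    set θ : IrrCharacter N := ⟨fun n : N => (χ : G → ℂ) n, hi⟩ with hθdef
    have h1 := mem_conjClosure_of_sameBlock N hM (isPBlock_principalBlock (G := N) M)
      (trivIrr G) χ hχ (trivIrr N) θ (trivIrr_mem_principalBlock M)
      (classInner_trivIrr_ne_zero N (trivIrr G) (fun n => rfl)) (hself θ)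
    rw [mem_conjClosure] at h1
    obtain ⟨g, hg⟩ := h1
    have h2 : conjIrr N g θ = θ := by
      apply Subtype.ext
      funext n
      rw [conjIrr_apply' N g θ n (by
        have := hN.conj_mem n n.2 g⁻¹
        simpa using this)]
      show (χ : G → ℂ) (g⁻¹ * (n : G) * g) = (χ : G → ℂ) n
      have := isClassFunction_of_isIrrCharacter' χ.2 (n : G) g⁻¹
      simpa using this
    rw [h2] at hg
    exact hg
  -- block of an extension
  have hB2 : ∀ (χ : IrrCharacter G) (θ : IrrCharacter N), θ ∈ principalBlock M N →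
      (∀ n : N, (χ : G → ℂ) n = (θ : N → ℂ) n) → χ ∈ principalBlock M G := by
    intro χ θ hθ hres
    have hcon' : classInner (fun n : N => (χ : G → ℂ) n) (θ : N → ℂ) ≠ 0 := by
      have : (fun n : N => (χ : G → ℂ) n) = (θ : N → ℂ) := funext hres
      rw [this]
      exact hself θ
    exact sameBlock_of_cover_of_pIndex N hM ⟨a, hidx⟩ (trivIrr G) χ (trivIrr N) θ hθ
      (classInner_trivIrr_ne_zero N (trivIrr G) (fun n => rfl)) hcon'
  -- the restriction map
  let r : {χ : Cfsg.IrrCharacter G // χ ∈ Cfsg.principalBlock M G ∧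
      ¬ p ∣ Cfsg.charDegree (χ : G → ℂ) ∧ ∀ g : G, (χ : G → ℂ) (g ^ k) = (χ : G → ℂ) g} →
      {θ : Cfsg.IrrCharacter ↥N // θ ∈ Cfsg.principalBlock M ↥N ∧
      ¬ p ∣ Cfsg.charDegree (θ : ↥N → ℂ) ∧ (∀ x ∈ (P : Subgroup G), ∀ n : ↥N,
      (θ : ↥N → ℂ) ⟨x * n * x⁻¹, hN.conj_mem n n.2 x⟩ = (θ : ↥N → ℂ) n) ∧
      ∀ n : ↥N, (θ : ↥N → ℂ) (n ^ k) = (θ : ↥N → ℂ) n} := fun x =>
    ⟨⟨fun n : N => (x.1 : G → ℂ) n, hirr x.1 x.2.2.1⟩,
      hB1 x.1 x.2.1 (hirr x.1 x.2.2.1), by rw [hdegres]; exact x.2.2.1,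
      fun y _ n => isClassFunction_of_isIrrCharacter' x.1.2 (n : G) y,
      fun n => by
        show (x.1 : G → ℂ) ((n ^ k : N) : G) = (x.1 : G → ℂ) n
        rw [Subgroup.coe_pow]
        exact x.2.2.2 n⟩
  apply card_eq_mul_of_fibers r p
  intro b
  obtain ⟨θ, hθB, hθdeg, hθP, hθfix⟩ := b
  have hinv := hGinv θ hθP
  have hdet : Nat.Coprime (detOrder (θ : N → ℂ)) p :=
    Cfsg.Agent.Helper75.detOrder_coprime_of_pResidual_eq_top hp hNtop θ.2
  have hpd : ¬ p ∣ detOrder (θ : N → ℂ) * charDegree (θ : N → ℂ) := by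
    intro h
    rcases (Nat.Prime.dvd_mul hp).1 h with h1 | h1
    · have := Nat.Coprime.eq_one_of_dvd hdet.symm h1
      exact hp.one_lt.ne' this
    · exact hθdeg h1
  have hcount := Cfsg.Agent.Helper81.card_tw_fixed_extensions N p a ha0 hidx hcyc k hkcop hk₁ θ.2
    hinv hθfix (charDegree (θ : N → ℂ)) (Cfsg.Agent.Helper80.irr_one θ) hpd
  refine (Nat.card_congr ?_).trans hcount
  refine
    { toFun := fun x => ⟨x.1.1, fun n => ?_, x.1.2.2.2⟩
      invFun := fun y => ⟨⟨y.1, hB2 y.1 θ hθB y.2.1, ?_, y.2.2⟩, ?_⟩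
      left_inv := fun x => Subtype.ext (Subtype.ext rfl)
      right_inv := fun y => Subtype.ext rfl }
  · have h1 := x.2
    have h2 := congrArg (fun t => ((t.1 : IrrCharacter N) : N → ℂ) n) h1
    exact h2
  · have h1 : charDegree (y.1 : G → ℂ) = charDegree (θ : N → ℂ) := by
      rw [← hdegres]
      congr 1
      exact funext y.2.1
    rw [h1]
    exact hθdeg
  · apply Subtype.ext
    apply Subtype.ext
    exact funext y.2.1

end Cfsg.Agent.S4553
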