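import Cfsg.Statements.S4558
import Mathlib

set_option autoImplicit false
open Cfsg

namespace Cfsg.Agent.S4558

open Polynomial

/-- A vanishing sum of `p^j`-th roots of unity has a number of terms divisible by `p`. -/
theorem key (p : ℕ) [hp : Fact p.Prime] (j : ℕ) (S : Multiset ℂ)
    (hS : ∀ μ ∈ S, μ ^ (p ^ j) = 1) (h0 : S.sum = 0) : p ∣ Multiset.card S := by
  classical
  have hm : 0 < p ^ j := pow_pos hp.out.pos j
  set ζ : ℂ := Complex.exp (2 * Real.pi * Complex.I / (p ^ j : ℕ)) with hζdef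
  have hζ : IsPrimitiveRoot ζ (p ^ j) := Complex.isPrimitiveRoot_exp _ hm.ne'
  have hex : ∀ μ : ℂ, ∃ a : ℕ, μ ^ (p ^ j) = 1 → ζ ^ a = μ := by
    intro μ
    by_cases h : μ ^ (p ^ j) = 1
    · have : NeZero (p ^ j) := ⟨hm.ne'⟩
      obtain ⟨a, _, ha⟩ := hζ.eq_pow_of_pow_eq_one h
      exact ⟨a, fun _ => ha⟩
    · exact ⟨0, fun h' => absurd h' h⟩
  choose a ha using hex
  set f : ℤ[X] := (S.map (fun μ => (X : ℤ[X]) ^ a μ)).sum with hf
  have hfζ : aeval ζ f = 0 := by
    rw [hf, map_multiset_sum, Multiset.map_map, ← h0]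
    have : Multiset.map (⇑(aeval ζ) ∘ fun μ => (X : ℤ[X]) ^ a μ) S = Multiset.map id S := by
      apply Multiset.map_congr rfl
      intro μ hμ
      simp [ha μ (hS μ hμ)]
    rw [this, Multiset.map_id]
  have hf1 : f.eval 1 = (Multiset.card S : ℤ) := by
    rw [hf, ← coe_evalRingHom, map_multiset_sum, Multiset.map_map]
    simp
  have hdvd : cyclotomic (p ^ j) ℤ ∣ f := by
    rw [cyclotomic_eq_minpoly hζ hm]
    exact minpoly.isIntegrallyClosed_dvd (hζ.isIntegral hm) hfζ
  have h1 : (cyclotomic (p ^ j) ℤ).eval 1 ∣ f.eval 1 := by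
    obtain ⟨q, hq⟩ := hdvd
    rw [hq, eval_mul]
    exact dvd_mul_right _ _
  have h2 : (p : ℤ) ∣ (cyclotomic (p ^ j) ℤ).eval 1 := by
    rcases j with _ | j
    · simp
    · rw [eval_one_cyclotomic_prime_pow]
  have := (h2.trans h1)
  rw [hf1] at this
  exact_mod_cast this

/-- Let χ be a character of the finite group G and g an element of p-power order for the prime p. If χ g = 0, then p divides the degree of χ. -/
theorem result {G : Type*} [Group G] [Finite G] (p : ℕ) [Fact p.Prime] (χ : G → ℂ) (hχ : Cfsg.IsCharacter G χ) (g : G) (hg : ∃ j : ℕ, orderOf g = p ^ j) (h0 : χ g = 0) : p ∣ Cfsg.charDegree χ := by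
  obtain ⟨n, ρ, rfl⟩ := hχ
  obtain ⟨j, hj⟩ := hg
  have hdeg : Cfsg.charDegree ρ.character = n := by
    unfold Cfsg.charDegree
    rw [Representation.char_one]
    simp
  rw [hdeg]
  have hsplit : (LinearMap.charpoly (ρ g)).Splits := IsAlgClosed.splits _
  have htr : ρ.character g = (LinearMap.charpoly (ρ g)).roots.sum := by
    unfold Representation.character
    exact Module.End.trace_eq_sum_roots_charpoly_of_splits hsplit
  have hroots : ∀ μ ∈ (LinearMap.charpoly (ρ g)).roots, μ ^ (p ^ j) = 1 := by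
    intro μ hμ
    have hroot : (LinearMap.charpoly (ρ g)).IsRoot μ := by
      exact (Polynomial.mem_roots'.mp hμ).2
    rw [← Module.End.hasEigenvalue_iff_isRoot_charpoly] at hroot
    obtain ⟨v, hv⟩ := hroot.exists_hasEigenvector
    have h1 : ((ρ g) ^ (p ^ j)) v = μ ^ (p ^ j) • v := hv.pow_apply _
    have h2 : (ρ g) ^ (p ^ j) = 1 := by
      rw [← map_pow, ← hj, pow_orderOf_eq_one, map_one]
    rw [h2] at h1
    have h3 : (μ ^ (p ^ j) - 1) • v = 0 := by
      rw [sub_smul, ← h1]; simp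
    rcases smul_eq_zero.mp h3 with h | h
    · exact sub_eq_zero.mp h
    · exact absurd h hv.2
  have hcard : Multiset.card (LinearMap.charpoly (ρ g)).roots = n := by
    rw [← hsplit.natDegree_eq_card_roots, LinearMap.charpoly_natDegree]
    simp
  rw [← hcard]
  exact key p j _ hroots (by rw [← htr, h0])

end Cfsg.Agent.S4558
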