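import Cfsg.Statements.S4560
import Cfsg.Agent.Lib.Helper40.MT4Char
import Cfsg.Agent.Lib.Helper40.MT4Perm

set_option autoImplicit false
open Cfsg

namespace Cfsg.Agent.S4560

open Cfsg.Agent.Helper40.MT4

theorem perm4 (n : ℕ) : MulAction.IsMultiplyPretransitive (Equiv.Perm (Fin n)) (Fin n) 4 :=
  Equiv.Perm.isMultiplyPretransitive (Fin n) 4

theorem alt4 (n : ℕ) (hn : 6 ≤ n) :
    MulAction.IsMultiplyPretransitive (alternatingGroup (Fin n)) (Fin n) 4 := by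
  have := alternatingGroup.isMultiplyPretransitive (Fin n)
  exact MulAction.isMultiplyPretransitive_of_le (n := Nat.card (Fin n) - 2)
    (by simp only [Nat.card_eq_fintype_card, Fintype.card_fin]; omega) (Nat.sub_le _ _)

theorem fx_coe {n : ℕ} (x : alternatingGroup (Fin n)) :
    fx (Ω := Fin n) x = fx (Ω := Fin n) (x : Equiv.Perm (Fin n)) := rfl

theorem sw_coe {n : ℕ} (x : alternatingGroup (Fin n)) :
    sw (Ω := Fin n) x = sw (Ω := Fin n) (x : Equiv.Perm (Fin n)) := rfl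

theorem p2_coe {n : ℕ} (x : alternatingGroup (Fin n)) :
    p2 (Ω := Fin n) x = p2 (Ω := Fin n) (x : Equiv.Perm (Fin n)) := rfl

/-- packaging: an integer valued irreducible character of `A_n` and of `S_n` agreeing on `A_n`-/
theorem pack {n : ℕ} (zA : alternatingGroup (Fin n) → ℤ) (zS : Equiv.Perm (Fin n) → ℤ)
    (hA : IsIrrCharacter (alternatingGroup (Fin n)) (fun g => ((zA g : ℤ) : ℂ)))
    (hS : IsIrrCharacter (Equiv.Perm (Fin n)) (fun g => ((zS g : ℤ) : ℂ)))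
    (hcoe : ∀ x : alternatingGroup (Fin n), zA x = zS (x : Equiv.Perm (Fin n)))
    (P : alternatingGroup (Fin n) → Prop) (x : alternatingGroup (Fin n)) (hx : P x)
    (h0 : zA x = 0) :
    ∃ χ : Cfsg.IrrCharacter (alternatingGroup (Fin n)),
      (∃ x : alternatingGroup (Fin n), P x ∧ (χ : alternatingGroup (Fin n) → ℂ) x = 0) ∧
      ∃ ψ : Cfsg.IrrCharacter (Equiv.Perm (Fin n)), ∀ x : alternatingGroup (Fin n),
        (ψ : Equiv.Perm (Fin n) → ℂ) x = (χ : alternatingGroup (Fin n) → ℂ) x := by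
  refine ⟨⟨_, hA⟩, ⟨x, hx, ?_⟩, ⟨_, hS⟩, fun y => ?_⟩
  · simp only [h0, Int.cast_zero]
  · simp only [hcoe y]

/-- the three cases by the pair (fixed points, swapped pairs) -/
theorem pack_of_fx {n : ℕ} (hn : 7 ≤ n) (P : alternatingGroup (Fin n) → Prop)
    (x : alternatingGroup (Fin n)) (hx : P x)
    (h : fx (Ω := Fin n) x = 1 ∨ (fx (Ω := Fin n) x = 0 ∧ sw (Ω := Fin n) x = 0) ∨
      (fx (Ω := Fin n) x = 2 ∧ sw (Ω := Fin n) x = 0)) :
    ∃ χ : Cfsg.IrrCharacter (alternatingGroup (Fin n)),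
      (∃ x : alternatingGroup (Fin n), P x ∧ (χ : alternatingGroup (Fin n) → ℂ) x = 0) ∧
      ∃ ψ : Cfsg.IrrCharacter (Equiv.Perm (Fin n)), ∀ x : alternatingGroup (Fin n),
        (ψ : Equiv.Perm (Fin n) → ℂ) x = (χ : alternatingGroup (Fin n) → ℂ) x := by
  have hA4 := alt4 n (by omega)
  have hS4 := perm4 n
  have hΩ : 4 ≤ Fintype.card (Fin n) := by rw [Fintype.card_fin]; omega
  rcases h with h | ⟨h, h'⟩ | ⟨h, h'⟩
  · refine pack (z1 (Ω := Fin n)) (z1 (Ω := Fin n)) (isIrr_z1 hA4 hΩ) (isIrr_z1 hS4 hΩ)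
      (fun y => ?_) P x hx ?_
    · unfold z1
      rw [fx_coe]
    · unfold z1
      rw [h]
      norm_num
  · refine pack (z2 (Ω := Fin n)) (z2 (Ω := Fin n)) (isIrr_z2 hA4 hΩ) (isIrr_z2 hS4 hΩ)
      (fun y => ?_) P x hx ?_
    · unfold z2
      rw [fx_coe, p2_coe]
    · have := two_z2 (Ω := Fin n) x
      rw [h, h'] at this
      simp only [Nat.cast_zero] at this
      linarith
  · refine pack (z3 (Ω := Fin n)) (z3 (Ω := Fin n)) (isIrr_z3 hA4 hΩ) (isIrr_z3 hS4 hΩ)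
      (fun y => ?_) P x hx ?_
    · unfold z3
      rw [fx_coe, p2_coe]
    · have := two_z3 (Ω := Fin n) x
      rw [h, h'] at this
      simp only [Nat.cast_zero, Nat.cast_ofNat] at this
      linarith

theorem two_part (n : ℕ) (hn : 7 ≤ n) :
    ∃ χ : Cfsg.IrrCharacter (alternatingGroup (Fin n)),
      (∃ x : alternatingGroup (Fin n), (∃ j : ℕ, orderOf x = 2 ^ j) ∧
        (χ : alternatingGroup (Fin n) → ℂ) x = 0) ∧
      ∃ ψ : Cfsg.IrrCharacter (Equiv.Perm (Fin n)), ∀ x : alternatingGroup (Fin n),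
        (ψ : Equiv.Perm (Fin n) → ℂ) x = (χ : alternatingGroup (Fin n) → ℂ) x := by
  -- choose the cycle structure
  have hex : ∃ a b c : ℕ, 2 * a + 4 * b + 8 * c ≤ n ∧ Even (a + b + c) ∧
      (n - (2 * a + 4 * b + 8 * c) = 1 ∨ (n - (2 * a + 4 * b + 8 * c) = 0 ∧ a = 0) ∨
        (n - (2 * a + 4 * b + 8 * c) = 2 ∧ a = 0)) := by
    obtain ⟨k, r, hr, rfl⟩ : ∃ k r : ℕ, r < 8 ∧ n = 8 * k + r :=
      ⟨n / 8, n % 8, Nat.mod_lt _ (by norm_num), (Nat.div_add_mod n 8).symm⟩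
    interval_cases r
    · -- n = 8k : k four-cycle pairs
      exact ⟨0, 2 * k, 0, by omega, ⟨k, by ring⟩, Or.inr (Or.inl ⟨by omega, rfl⟩)⟩
    · -- n = 8k+1 : 4k transpositions
      exact ⟨4 * k, 0, 0, by omega, ⟨2 * k, by ring⟩, Or.inl (by omega)⟩
    · -- n = 8k+2 : 2k four-cycles, two fixed points
      exact ⟨0, 2 * k, 0, by omega, ⟨k, by ring⟩, Or.inr (Or.inr ⟨by omega, rfl⟩)⟩
    · -- n = 8k+3 : one four-cycle and 4k-1 transpositions
      exact ⟨4 * k - 1, 1, 0, by omega, ⟨2 * k, by omega⟩, Or.inl (by omega)⟩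
    · -- n = 8k+4 : one eight-cycle and 2k-1 four-cycles
      exact ⟨0, 2 * k - 1, 1, by omega, ⟨k, by omega⟩, Or.inr (Or.inl ⟨by omega, rfl⟩)⟩
    · -- n = 8k+5 : 4k+2 transpositions
      exact ⟨4 * k + 2, 0, 0, by omega, ⟨2 * k + 1, by ring⟩, Or.inl (by omega)⟩
    · -- n = 8k+6 : one eight-cycle and 2k-1 four-cycles, two fixed points
      exact ⟨0, 2 * k - 1, 1, by omega, ⟨k, by omega⟩, Or.inr (Or.inr ⟨by omega, rfl⟩)⟩
    · -- n = 8k+7 : one four-cycle and 4k+1 transpositions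
      exact ⟨4 * k + 1, 1, 0, by omega, ⟨2 * k + 1, by ring⟩, Or.inl (by omega)⟩
  obtain ⟨a, b, c, hle, heven, hcase⟩ := hex
  obtain ⟨σ, hmem, hord, hfx, hsw⟩ := exists_two_elt (α := Fin n) a b c
    (by rw [Fintype.card_fin]; exact hle) heven
  rw [Fintype.card_fin] at hfx
  refine pack_of_fx hn (fun x => ∃ j : ℕ, orderOf x = 2 ^ j) ⟨σ, hmem⟩ ?_ ?_
  · obtain ⟨j, hj⟩ := hord
    refine ⟨j, ?_⟩
    rw [← hj]
    exact (Subgroup.orderOf_coe (⟨σ, hmem⟩ : alternatingGroup (Fin n))).symm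
  · rw [fx_coe, sw_coe]
    change fx (Ω := Fin n) σ = 1 ∨ (fx (Ω := Fin n) σ = 0 ∧ sw (Ω := Fin n) σ = 0) ∨
      (fx (Ω := Fin n) σ = 2 ∧ sw (Ω := Fin n) σ = 0)
    rw [hfx]
    rcases hcase with h | ⟨h, ha⟩ | ⟨h, ha⟩
    · exact Or.inl h
    · exact Or.inr (Or.inl ⟨h, hsw ha⟩)
    · exact Or.inr (Or.inr ⟨h, hsw ha⟩)

theorem three_part (n : ℕ) (hn : 7 ≤ n) :
    ∃ χ : Cfsg.IrrCharacter (alternatingGroup (Fin n)),
      (∃ y : alternatingGroup (Fin n), orderOf y = 3 ∧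
        (χ : alternatingGroup (Fin n) → ℂ) y = 0) ∧
      ∃ ψ : Cfsg.IrrCharacter (Equiv.Perm (Fin n)), ∀ x : alternatingGroup (Fin n),
        (ψ : Equiv.Perm (Fin n) → ℂ) x = (χ : alternatingGroup (Fin n) → ℂ) x := by
  have hex : ∃ k : ℕ, 1 ≤ k ∧ 3 * k ≤ n ∧ (n - 3 * k = 1 ∨ n - 3 * k = 0 ∨ n - 3 * k = 2) := by
    refine ⟨n / 3, by omega, by omega, by omega⟩
  obtain ⟨k, hk, hle, hcase⟩ := hex
  obtain ⟨σ, hmem, hord, hfx, hsw⟩ := exists_three_elt (α := Fin n) k hk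
    (by rw [Fintype.card_fin]; exact hle)
  rw [Fintype.card_fin] at hfx
  refine pack_of_fx hn (fun y => orderOf y = 3) ⟨σ, hmem⟩ ?_ ?_
  · rw [← hord]
    exact (Subgroup.orderOf_coe (⟨σ, hmem⟩ : alternatingGroup (Fin n))).symm
  · rw [fx_coe, sw_coe]
    change fx (Ω := Fin n) σ = 1 ∨ (fx (Ω := Fin n) σ = 0 ∧ sw (Ω := Fin n) σ = 0) ∨
      (fx (Ω := Fin n) σ = 2 ∧ sw (Ω := Fin n) σ = 0)
    rw [hfx]
    rcases hcase with h | h | h
    · exact Or.inl h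
    · exact Or.inr (Or.inl ⟨h, hsw⟩)
    · exact Or.inr (Or.inr ⟨h, hsw⟩)

/-- For n ≥ 7 the alternating group on n letters has an irreducible character that vanishes at some 2-element and is the restriction of an irreducible character of the symmetric group, and an irreducible character that vanishes at some element of order 3 and is the restriction of an irreducible character of the symmetric group. -/
theorem result (n : ℕ) (hn : 7 ≤ n) : (∃ χ : Cfsg.IrrCharacter (alternatingGroup (Fin n)), (∃ x : alternatingGroup (Fin n), (∃ j : ℕ, orderOf x = 2 ^ j) ∧ (χ : alternatingGroup (Fin n) → ℂ) x = 0) ∧ ∃ ψ : Cfsg.IrrCharacter (Equiv.Perm (Fin n)), ∀ x : alternatingGroup (Fin n), (ψ : Equiv.Perm (Fin n) → ℂ) x = (χ : alternatingGroup (Fin n) → ℂ) x) ∧ (∃ χ : Cfsg.IrrCharacter (alternatingGroup (Fin n)), (∃ y : alternatingGroup (Fin n), orderOf y = 3 ∧ (χ : alternatingGroup (Fin n) → ℂ) y = 0) ∧ ∃ ψ : Cfsg.IrrCharacter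 (Equiv.Perm (Fin n)), ∀ x : alternatingGroup (Fin n), (ψ : Equiv.Perm (Fin n) → ℂ) x = (χ : alternatingGroup (Fin n) → ℂ) x) := by
  exact ⟨two_part n hn, three_part n hn⟩

end Cfsg.Agent.S4560
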