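import Cfsg.Statements.S4565
import Cfsg.Agent.S0868
import Cfsg.Agent.Lib.Helper81.CharCyc

set_option autoImplicit false
set_option linter.style.haveILetI false
set_option linter.unusedSectionVars false
open Cfsg

namespace Cfsg.Agent.S4565

open scoped ComplexConjugate
open Cfsg.Agent.Helper81

universe u

variable {H : Type u} [Group H] [Fintype H]

/-- A fully ramified character vanishes off `Z`. -/
theorem vanish_off (Z : Subgroup H) [Fintype Z]
    {χ : H → ℂ} (hχ : IsIrrCharacter H χ) {θ : Z → ℂ} (hθ : IsIrrCharacter Z θ) (e : ℕ)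
    (he : e ^ 2 = Z.index) (hχZ : ∀ z : Z, χ z = (e : ℂ) * θ z) :
    ∀ h : H, h ∉ Z → χ h = 0 := by
  classical
  rw [← vanish_off_iff]
  have h1 := classInner_restrict_self Z hχ
  have h2 : classInner (fun z : Z => χ z) (fun z : Z => χ z) = (e : ℂ) ^ 2 := by
    have : (fun z : Z => χ z) = (e : ℂ) • θ := funext fun z => by simp [hχZ]
    rw [this, classInner_smul_left, classInner_smul_right, irr_orthonormal hθ hθ, if_pos rfl]
    simp; ring
  rw [h2] at h1
  have h3 : (Nat.card Z : ℂ) * (e : ℂ) ^ 2 = Nat.card H := by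
    rw [← Subgroup.card_mul_index Z, ← he]; push_cast; ring
  rw [h3] at h1
  linear_combination h1

/-- sum over `H` of a function supported on a subgroup -/
theorem sum_ite_mem (Z : Subgroup H) [Fintype Z] [DecidablePred (· ∈ Z)] (F : H → ℂ) :
    ∑ h : H, (if h ∈ Z then F h else 0) = ∑ z : Z, F z := by
  classical
  rw [← Finset.sum_filter]
  rw [Finset.sum_subtype (Finset.univ.filter (· ∈ Z)) (p := (· ∈ Z)) (by simp) F]

/-- An irreducible character other than the fully ramified `χ` does not lie over `θ`. -/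
theorem not_over (Z : Subgroup H) [Fintype Z]
    {χ : H → ℂ} (hχ : IsIrrCharacter H χ) {θ : Z → ℂ} (hθ : IsIrrCharacter Z θ) (e : ℕ)
    (he : e ^ 2 = Z.index) (hχZ : ∀ z : Z, χ z = (e : ℂ) * θ z)
    {ψ : H → ℂ} (hψ : IsIrrCharacter H ψ) (hne : ψ ≠ χ) :
    classInner (fun z : Z => ψ z) θ = 0 := by
  classical
  have hvan := vanish_off Z hχ hθ e he hχZ
  have h1 : classInner ψ χ = 0 := by rw [irr_orthonormal hψ hχ, if_neg hne]
  unfold classInner at h1 ⊢
  have hH0 : (Nat.card H : ℂ) ≠ 0 := by exact_mod_cast (Nat.card_pos (α := H)).ne'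
  have he0 : (e : ℂ) ≠ 0 := by
    intro h0
    have : e = 0 := by exact_mod_cast h0
    rw [this] at he
    have := Z.index_ne_zero_of_finite
    simp at he
    exact this he.symm
  have h2 : ∑ g : H, ψ g * conj (χ g) = 0 := by
    rcases mul_eq_zero.mp h1 with h | h
    · exact absurd (inv_eq_zero.mp h) hH0
    · exact h
  have h3 : ∑ g : H, ψ g * conj (χ g) = ∑ z : Z, ψ z * conj (χ z) := by
    rw [← sum_ite_mem Z (fun g => ψ g * conj (χ g))]
    apply Finset.sum_congr rfl
    intro g _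
    by_cases hg : g ∈ Z
    · rw [if_pos hg]
    · rw [if_neg hg, hvan g hg]; simp
  rw [h3] at h2
  have h4 : ∑ z : Z, ψ z * conj (χ z) = (e : ℂ) * ∑ z : Z, ψ z * conj (θ z) := by
    rw [Finset.mul_sum]
    apply Finset.sum_congr rfl
    intro z _
    rw [hχZ z]; simp; ring
  rw [h4] at h2
  rcases mul_eq_zero.mp h2 with h | h
  · exact absurd h he0
  · rw [h, mul_zero]

/-- Core: internal form. -/
theorem core (Z : Subgroup H) [hZn : Z.Normal] [Fintype Z]
    {χ : H → ℂ} (hχ : IsIrrCharacter H χ) {θ : Z → ℂ} (hθ : IsIrrCharacter Z θ) (e : ℕ)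
    (he : e ^ 2 = Z.index) (hχZ : ∀ z : Z, χ z = (e : ℂ) * θ z)
    (K : Subgroup H) [Fintype K] (hZK : Z ≤ K) (c : H) (hcZ : c ∉ Z)
    (hgen : IsCyclic (↥K ⧸ Z.subgroupOf K))
    (hcent : ∀ x : H, c⁻¹ * x⁻¹ * c * x ∈ Z ↔ x ∈ K) : False := by
  classical
  have hcK : c ∈ K := (hcent c).mp (by simp [Z.one_mem])
  have hvan := vanish_off Z hχ hθ e he hχZ
  set Z' : Subgroup K := Z.subgroupOf K with hZ'
  haveI hZ'n : Z'.Normal := hZn.subgroupOf K
  haveI : Fintype Z' := Fintype.ofFinite _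
  let ι : Z' ≃* Z := Subgroup.subgroupOfEquivOfLe hZK
  have hι : ∀ n : Z', ((ι n : Z) : H) = ((n : K) : H) := fun n => rfl
  have he0 : (e : ℂ) ≠ 0 := by
    intro h0
    have : e = 0 := by exact_mod_cast h0
    rw [this] at he
    have := Z.index_ne_zero_of_finite
    simp at he
    exact this he.symm
  have hχc := isClassFunction_of_isCharacter (IsIrrCharacter.isCharacter hχ)
  have hθ' := hθ
  obtain ⟨d, ρ₀, hρ₀, hρθ⟩ := hθ
  haveI := hρ₀
  let ρ : Representation ℂ Z' (Fin d → ℂ) := ρ₀.comp ι.toMonoidHom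
  haveI hρ : ρ.IsIrreducible := isIrreducible_comp_of_surjective ρ₀ ι.toMonoidHom ι.surjective
  have hρchar : ∀ n : Z', ρ.character n = θ (ι n) := fun n => by rw [← hρθ]; rfl
  have hinv : ∀ (g : K) (n : Z'),
      ρ.character ⟨g * n * g⁻¹, hZ'n.conj_mem n n.2 g⟩ = ρ.character n := by
    intro g n
    rw [hρchar, hρchar]
    apply mul_left_cancel₀ he0
    rw [← hχZ, ← hχZ, hι, hι]
    exact hχc _ _
  obtain ⟨σ, hσ, hσρ⟩ := exists_rep_extension_cyclic Z' hZ'n hgen ρ hinv
  set φ : K → ℂ := σ.character with hφdef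
  have hφ : IsIrrCharacter K φ := ⟨d, σ, hσ, rfl⟩
  have hφZ : ∀ n : Z', φ n = θ (ι n) := by
    intro n
    rw [← hρchar]
    simp only [hφdef, Representation.character]
    rw [hσρ]
  have hφN : IsIrrCharacter Z' (fun n : Z' => φ n) :=
    ⟨d, ρ, hρ, funext fun n => by rw [hρchar, hφZ]⟩
  have hS := fun (ψ' : K → ℂ) (hψ' : IsIrrCharacter K ψ') =>
    Cfsg.Agent.S0868.result Z' φ hφ hφN ψ' hψ' _ rfl
  set cK : K := ⟨c, hcK⟩ with hcKdef
  haveI : Fintype (IrrCharacter K) := @Fintype.ofFinite _ irr_finite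
  -- Step 4: coset sums of the other irreducible characters against `φ` vanish
  have hT : ∀ ψ : H → ℂ, IsIrrCharacter H ψ → ψ ≠ χ →
      ∑ n : Z', ψ (((n : K) * cK : K) : H) * conj (φ ((n : K) * cK)) = 0 := by
    intro ψ hψ hne
    have h0 := not_over Z hχ hθ' e he hχZ hψ hne
    have hψK : IsCharacter K (fun k : K => ψ k) :=
      isCharacter_restrict K (IsIrrCharacter.isCharacter hψ)
    obtain ⟨b, hb⟩ := exists_nat_decomp hψK
    have hk : ∀ κ : IrrCharacter K, ∃ k : ℕ,
        classInner (fun n : Z' => (κ : K → ℂ) n) (fun n : Z' => φ n) = (k : ℂ) := fun κ =>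
      exists_nat_classInner (isCharacter_restrict Z' (IsIrrCharacter.isCharacter κ.2)) hφN
    choose kk hkk using hk
    have hA0 : classInner (fun n : Z' => ψ ((n : K) : H)) (fun n : Z' => φ n) = 0 := by
      have h1 := classInner_comp_equiv ι (fun z : Z => ψ z) θ
      rw [h0] at h1
      rw [← h1]
      congr 1
      funext n
      exact hφZ n
    have hA1 : classInner (fun n : Z' => ψ ((n : K) : H)) (fun n : Z' => φ n)
        = ∑ κ : IrrCharacter K, (b κ : ℂ) * (kk κ : ℂ) := by
      have h2 : (fun n : Z' => ψ ((n : K) : H))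
          = ∑ κ : IrrCharacter K, (b κ : ℂ) • (fun n : Z' => (κ : K → ℂ) n) := by
        funext n
        have := congrFun hb (n : K)
        simp only [Finset.sum_apply, Pi.smul_apply, smul_eq_mul] at this ⊢
        exact this
      rw [h2, classInner_sum_left]
      apply Finset.sum_congr rfl
      intro κ _
      rw [classInner_smul_left, hkk]
    have hsum0 : ∑ κ : IrrCharacter K, b κ * kk κ = 0 := by
      have : ((∑ κ : IrrCharacter K, b κ * kk κ : ℕ) : ℂ) = 0 := by
        rw [← hA0, hA1]; push_cast; rfl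
      exact_mod_cast this
    have hκ : ∀ κ : IrrCharacter K, b κ ≠ 0 →
        classInner (fun n : Z' => (κ : K → ℂ) n) (fun n : Z' => φ n) = 0 := by
      intro κ hbκ
      have h1 := (Finset.sum_eq_zero_iff.mp hsum0) κ (Finset.mem_univ _)
      rcases Nat.mul_eq_zero.mp h1 with h | h
      · exact absurd h hbκ
      · rw [hkk, h]; simp
    have hexp : ∀ k : K, ψ (k : H) = ∑ κ : IrrCharacter K, (b κ : ℂ) * (κ : K → ℂ) k := by
      intro k
      have := congrFun hb k
      simp only [Finset.sum_apply, Pi.smul_apply, smul_eq_mul] at this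
      exact this
    simp only [hexp, Finset.sum_mul]
    rw [Finset.sum_comm]
    apply Finset.sum_eq_zero
    intro κ _
    by_cases hbκ : b κ = 0
    · simp [hbκ]
    · have h1 := (hS (κ : K → ℂ) κ.2).2.1 (hκ κ hbκ)
      have h2 := congrFun h1 cK
      simp only [Pi.zero_apply] at h2
      have hZ'0 : (Nat.card Z' : ℂ) ≠ 0 := by exact_mod_cast (Nat.card_pos (α := Z')).ne'
      have h3 : ∑ n : Z', (κ : K → ℂ) ((n : K) * cK) * conj (φ ((n : K) * cK)) = 0 := by
        rcases mul_eq_zero.mp h2 with h | h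
        · exact absurd (inv_eq_zero.mp h) hZ'0
        · exact h
      simp only [mul_assoc]
      rw [← Finset.mul_sum, h3, mul_zero]
  -- Step 5: the class function `β`
  let β : K → ℂ := fun k => if c⁻¹ * (k : H) ∈ Z then φ k else 0
  have hcosetmem : ∀ k : K, (c⁻¹ * ((k * cK : K) : H) ∈ Z) ↔ k ∈ Z' := by
    intro k
    have e1 : c⁻¹ * ((k * cK : K) : H) = c⁻¹ * (k : H) * c⁻¹⁻¹ := by
      simp [hcKdef, mul_assoc]
    rw [e1]
    constructor
    · intro h
      have := hZn.conj_mem _ h c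
      have h2 : ((k : K) : H) ∈ Z := by simpa [mul_assoc] using this
      exact h2
    · intro h
      have h2 : ((k : K) : H) ∈ Z := h
      exact hZn.conj_mem _ h2 c⁻¹
  have hcoset : ∀ F : K → ℂ,
      ∑ k : K, (if c⁻¹ * (k : H) ∈ Z then F k else 0) = ∑ n : Z', F ((n : K) * cK) := by
    intro F
    rw [← Equiv.sum_comp (Equiv.mulRight cK)]
    simp only [Equiv.coe_mulRight, hcosetmem]
    exact sum_ite_mem Z' (fun k => F (k * cK))
  have hnotZ : ∀ n : Z', (((n : K) * cK : K) : H) ∉ Z := by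
    intro n hn
    apply hcZ
    have h1 : ((n : K) : H) ∈ Z := n.2
    have h2 : c = ((n : K) : H)⁻¹ * (((n : K) * cK : K) : H) := by
      simp [hcKdef]
    rw [h2]
    exact Z.mul_mem (Z.inv_mem h1) hn
  have hA : ∀ ψ : H → ℂ, IsIrrCharacter H ψ → classInner (indFun K β) ψ = 0 := by
    intro ψ hψ
    rw [frobenius_reciprocity K β (isClassFunction_of_isCharacter (IsIrrCharacter.isCharacter hψ))]
    unfold classInner
    have hβ : ∀ k : K, β k * conj (ψ k) =
        if c⁻¹ * (k : H) ∈ Z then φ k * conj (ψ k) else 0 := by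
      intro k
      simp only [β]
      split_ifs <;> simp
    simp only [hβ]
    rw [hcoset (fun k => φ k * conj (ψ k))]
    by_cases hne : ψ = χ
    · apply mul_eq_zero_of_right
      apply Finset.sum_eq_zero
      intro n _
      rw [hne, hvan _ (hnotZ n)]
      simp
    · have h1 := hT ψ hψ hne
      have h2 : ∑ n : Z', φ ((n : K) * cK) * conj (ψ (((n : K) * cK : K) : H))
          = conj (∑ n : Z', ψ (((n : K) * cK : K) : H) * conj (φ ((n : K) * cK))) := by
        rw [map_sum]
        apply Finset.sum_congr rfl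
        intro n _
        simp [mul_comm]
      rw [h2, h1]
      simp
  have hB : indFun K β = 0 :=
    eq_zero_of_classInner_irr_eq_zero (indFun_isClassFunction K β) hA
  have hφc := isClassFunction_of_isCharacter (IsIrrCharacter.isCharacter hφ)
  have hC : ∀ y : K, c⁻¹ * (y : H) ∈ Z → indFun K β (y : H) = φ y := by
    intro y hy
    rw [indFun_apply]
    have hterm : ∀ x : H, extendByZero K β (x⁻¹ * y * x) = if x ∈ K then φ y else 0 := by
      intro x
      have hconj : x⁻¹ * (c⁻¹ * (y : H)) * x ∈ Z := by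
        have := hZn.conj_mem _ hy x⁻¹
        simpa using this
      by_cases hx : x ∈ K
      · rw [if_pos hx]
        have hmem : x⁻¹ * (y : H) * x ∈ K := K.mul_mem (K.mul_mem (K.inv_mem hx) y.2) hx
        rw [extendByZero_apply_mem K β hmem]
        simp only [β]
        have h1 : c⁻¹ * (x⁻¹ * (y : H) * x) ∈ Z := by
          have e1 : c⁻¹ * (x⁻¹ * (y : H) * x)
              = (c⁻¹ * x⁻¹ * c * x) * (x⁻¹ * (c⁻¹ * (y : H)) * x) := by group
          rw [e1]
          exact Z.mul_mem ((hcent x).mpr hx) hconj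
        rw [if_pos h1]
        have h2 := hφc y (⟨x, hx⟩⁻¹ : K)
        rw [← h2]
        congr 1
        apply Subtype.ext
        simp
      · rw [if_neg hx]
        by_cases hmem : x⁻¹ * (y : H) * x ∈ K
        · rw [extendByZero_apply_mem K β hmem]
          simp only [β]
          rw [if_neg]
          intro h1
          apply hx
          rw [← hcent]
          have e1 : c⁻¹ * x⁻¹ * c * x
              = (c⁻¹ * (x⁻¹ * (y : H) * x)) * (x⁻¹ * (c⁻¹ * (y : H)) * x)⁻¹ := by group
          rw [e1]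
          exact Z.mul_mem h1 (Z.inv_mem hconj)
        · exact extendByZero_apply_not_mem K β hmem
    simp only [hterm]
    rw [sum_ite_mem K (fun _ => φ y)]
    simp only [Finset.sum_const, Finset.card_univ, nsmul_eq_mul]
    have hK0 : (Nat.card K : ℂ) ≠ 0 := by exact_mod_cast (Nat.card_pos (α := K)).ne'
    rw [← Nat.card_eq_fintype_card, ← mul_assoc, inv_mul_cancel₀ hK0, one_mul]
  have hvanφ : ∀ n : Z', φ ((n : K) * cK) = 0 := by
    intro n
    have hy : c⁻¹ * (((n : K) * cK : K) : H) ∈ Z := (hcosetmem n).mpr n.2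
    rw [← hC _ hy, hB]
    rfl
  have h3 := (hS φ hφ).2.2 rfl
  have h4 := congrFun h3 cK
  simp only [hvanφ] at h4
  simp at h4

/-- If `χ` is fully ramified over `Z ≠ H` then `H/Z` has no self-centralizing cyclic subgroup. -/
theorem result {H : Type*} [Group H] [Finite H] (Z : Subgroup H) [Z.Normal] (χ : Cfsg.IrrCharacter H) (hfr : ∃ (θ : Cfsg.IrrCharacter ↥Z) (e : ℕ), e ^ 2 = Z.index ∧ ∀ z : ↥Z, (χ : H → ℂ) z = (e : ℂ) * (θ : ↥Z → ℂ) z) (hZ : Z ≠ ⊤) (C : Subgroup (H ⧸ Z)) (hC : IsCyclic C) : Subgroup.centralizer (C : Set (H ⧸ Z)) ≠ C := by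
  classical
  intro hcen
  haveI : Fintype H := Fintype.ofFinite H
  haveI : Fintype Z := Fintype.ofFinite Z
  obtain ⟨θ, e, he, hχZ⟩ := hfr
  obtain ⟨q, hq⟩ := IsCyclic.exists_generator (α := C)
  obtain ⟨c, hc⟩ := QuotientGroup.mk_surjective (q : H ⧸ Z)
  have hCpow : ∀ y ∈ C, ∃ i : ℤ, y = (c : H ⧸ Z) ^ i := by
    intro y hy
    obtain ⟨i, hi⟩ := Subgroup.mem_zpowers_iff.mp (hq ⟨y, hy⟩)
    refine ⟨i, ?_⟩
    have := congrArg Subtype.val hi
    rw [hc]
    simpa using this.symm
  set K : Subgroup H := C.comap (QuotientGroup.mk' Z) with hK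
  haveI : Fintype K := Fintype.ofFinite K
  have hZK : Z ≤ K := by
    intro z hz
    rw [hK, Subgroup.mem_comap]
    have : (QuotientGroup.mk' Z z) = 1 := (QuotientGroup.eq_one_iff z).mpr hz
    rw [this]
    exact C.one_mem
  have hcZ : c ∉ Z := by
    intro hcz
    have hc1 : (c : H ⧸ Z) = 1 := (QuotientGroup.eq_one_iff c).mpr hcz
    have hCbot : C = ⊥ := by
      rw [eq_bot_iff]
      intro x hx
      obtain ⟨i, hi⟩ := hCpow x hx
      rw [hi, hc1, one_zpow]
      exact Subgroup.mem_bot.mpr rfl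
    rw [hCbot] at hcen
    apply hZ
    rw [eq_top_iff]
    intro h _
    have h1 : (h : H ⧸ Z) ∈ Subgroup.centralizer (((⊥ : Subgroup (H ⧸ Z)) : Set (H ⧸ Z))) := by
      rw [Subgroup.mem_centralizer_iff]
      intro y hy
      have : y = 1 := Subgroup.mem_bot.mp hy
      rw [this]; simp
    rw [hcen] at h1
    exact (QuotientGroup.eq_one_iff h).mp (Subgroup.mem_bot.mp h1)
  have hcomm_iff : ∀ x : H, c⁻¹ * x⁻¹ * c * x ∈ Z ↔ (c : H ⧸ Z) * (x : H ⧸ Z) = (x : H ⧸ Z) * (c : H ⧸ Z) := by
    intro x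
    rw [← QuotientGroup.eq_one_iff]
    simp only [QuotientGroup.mk_mul, QuotientGroup.mk_inv]
    constructor
    · intro h
      have : (c : H ⧸ Z) * (x : H ⧸ Z) = (x : H ⧸ Z) * (c : H ⧸ Z) *
          ((c : H ⧸ Z)⁻¹ * (x : H ⧸ Z)⁻¹ * (c : H ⧸ Z) * (x : H ⧸ Z)) := by group
      rw [this, h, mul_one]
    · intro h
      have : (c : H ⧸ Z)⁻¹ * (x : H ⧸ Z)⁻¹ * (c : H ⧸ Z) * (x : H ⧸ Z)
          = (c : H ⧸ Z)⁻¹ * (x : H ⧸ Z)⁻¹ * ((c : H ⧸ Z) * (x : H ⧸ Z)) := by group
      rw [this, h]; group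
  have hcent : ∀ x : H, c⁻¹ * x⁻¹ * c * x ∈ Z ↔ x ∈ K := by
    intro x
    rw [hcomm_iff, hK, Subgroup.mem_comap, ← hcen, Subgroup.mem_centralizer_iff]
    constructor
    · intro h y hy
      obtain ⟨i, hi⟩ := hCpow y hy
      have hcm : Commute (c : H ⧸ Z) (x : H ⧸ Z) := h
      rw [hi]
      exact (hcm.zpow_left i).eq
    · intro h
      exact h (c : H ⧸ Z) (by rw [hc]; exact q.2)
  have hgen : IsCyclic (↥K ⧸ Z.subgroupOf K) := by
    let f : K →* C := (QuotientGroup.mk' Z).subgroupComap C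
    have hf : Function.Surjective f :=
      (QuotientGroup.mk' Z).subgroupComap_surjective_of_surjective C (QuotientGroup.mk'_surjective Z)
    have hker : f.ker = Z.subgroupOf K := by
      ext k
      rw [MonoidHom.mem_ker, Subgroup.mem_subgroupOf]
      constructor
      · intro h
        have := congrArg Subtype.val h
        exact (QuotientGroup.eq_one_iff (k : H)).mp this
      · intro h
        apply Subtype.ext
        exact (QuotientGroup.eq_one_iff (k : H)).mpr h
    have e1 : K ⧸ f.ker ≃* C := QuotientGroup.quotientKerEquivOfSurjective f hf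
    have h1 : IsCyclic (K ⧸ f.ker) := isCyclic_of_surjective e1.symm e1.symm.surjective
    have e2 : K ⧸ f.ker ≃* K ⧸ Z.subgroupOf K := QuotientGroup.quotientMulEquivOfEq hker
    exact isCyclic_of_surjective e2 e2.surjective
  exact core Z χ.2 θ.2 e he hχZ K hZK c hcZ hgen hcent

end Cfsg.Agent.S4565
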