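import Cfsg.Statements.S4567
import Cfsg.Agent.S4566
import Cfsg.Agent.Lib.Helper80.CharBasic

set_option autoImplicit false
open Cfsg

namespace Cfsg.Agent.S4567

open scoped ComplexConjugate
open Cfsg.Agent.S4566 Cfsg.Agent.Helper80

/-- central scalar function attached to an irreducible character -/
theorem exists_scalar_irr {G : Type*} [Group G] [Finite G] (χ : IrrCharacter G) :
    ∃ a : G → ℂ, a 1 = 1 ∧
      (∀ c ∈ Subgroup.center G, ∀ c' ∈ Subgroup.center G, a (c * c') = a c * a c') ∧
      (∀ c ∈ Subgroup.center G, ‖a c‖ = 1) ∧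
      (∀ c ∈ Subgroup.center G, ∀ g : G, (χ : G → ℂ) (g * c) = a c * (χ : G → ℂ) g) := by
  obtain ⟨χf, n, ρ, hρ, rfl⟩ := χ
  have := hρ
  obtain ⟨a, -, ha1, hamul, hanorm, hachar, -⟩ := exists_central_scalar ρ
  exact ⟨a, ha1, hamul, hanorm, hachar⟩

/-- On a commutative group (here: a central subgroup) an irreducible character is a multiple of a
multiplicative function of norm one. -/
theorem exists_scalar_central {G : Type*} [Group G] [Finite G] (N : Subgroup G)
    (hN : N ≤ Subgroup.center G) (ψ : IrrCharacter N) :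
    ∃ b : N → ℂ, b 1 = 1 ∧ (∀ c c', b (c * c') = b c * b c') ∧ (∀ c, ‖b c‖ = 1) ∧
      (∀ c, (ψ : N → ℂ) c = b c * (ψ : N → ℂ) 1) := by
  have hcenN : ∀ c : N, c ∈ Subgroup.center N := by
    intro c
    rw [Subgroup.mem_center_iff]
    intro d
    apply Subtype.ext
    simp only [Subgroup.coe_mul]
    exact (Subgroup.mem_center_iff.mp (hN c.2) d)
  obtain ⟨b, hb1, hbmul, hbnorm, hbchar⟩ := exists_scalar_irr ψ
  refine ⟨b, hb1, fun c c' => hbmul c (hcenN c) c' (hcenN c'), fun c => hbnorm c (hcenN c),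
    fun c => ?_⟩
  have := hbchar c (hcenN c) 1
  rwa [one_mul] at this

section Main

variable {G : Type*} [Group G] [Fintype G] (N : Subgroup G) [Fintype N]

theorem K1 (hN : N ≤ Subgroup.center G) (ψ : IrrCharacter N) (b : N → ℂ)
    (hbmul : ∀ c c', b (c * c') = b c * b c')
    (hbchar : ∀ c, (ψ : N → ℂ) c = b c * (ψ : N → ℂ) 1) (χ : IrrCharacter G) (g : G) :
    ∑ n : N, conj (b n) * (χ : G → ℂ) (g * n) =
      (if classInner (fun n : N => (χ : G → ℂ) n) (ψ : N → ℂ) ≠ 0 then (Nat.card N : ℂ) else 0) *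
        (χ : G → ℂ) g := by
  obtain ⟨a, ha1, hamul, hanorm, hachar⟩ := exists_scalar_irr χ
  let F : N → ℂ := fun c => a (c : G) * conj (b c)
  have hFmul : ∀ c c', F (c * c') = F c * F c' := by
    intro c c'
    simp only [F, Subgroup.coe_mul]
    rw [hamul _ (hN c.2) _ (hN c'.2), hbmul, map_mul]
    ring
  have hLHS : ∑ n : N, conj (b n) * (χ : G → ℂ) (g * n) = (∑ n : N, F n) * (χ : G → ℂ) g := by
    rw [Finset.sum_mul]
    apply Finset.sum_congr rfl
    intro n _
    rw [hachar _ (hN n.2) g]
    simp only [F]; ring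
  have hinner : classInner (fun n : N => (χ : G → ℂ) n) (ψ : N → ℂ) =
      (Nat.card N : ℂ)⁻¹ * ((χ : G → ℂ) 1 * conj ((ψ : N → ℂ) 1)) * ∑ n : N, F n := by
    unfold classInner
    rw [mul_assoc]
    congr 1
    rw [Finset.mul_sum]
    apply Finset.sum_congr rfl
    intro n _
    have h1 := hachar _ (hN n.2) 1
    rw [one_mul] at h1
    simp only
    rw [h1, hbchar n, map_mul]
    simp only [F]; ring
  have hcardN : (Nat.card N : ℂ) ≠ 0 := by
    exact_mod_cast (Nat.card_pos (α := N)).ne'
  rw [hLHS]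
  by_cases hS : ∑ n : N, F n = 0
  · rw [hS, zero_mul]
    rw [hinner, hS, mul_zero]
    simp
  · have hF1 := sum_mul_char F hFmul hS
    have hSval : ∑ n : N, F n = (Nat.card N : ℂ) := by
      simp only [hF1]
      simp [Nat.card_eq_fintype_card]
    have hne : classInner (fun n : N => (χ : G → ℂ) n) (ψ : N → ℂ) ≠ 0 := by
      rw [hinner, hSval]
      have h1 := irr_one_ne_zero χ
      have h2 : conj ((ψ : N → ℂ) 1) ≠ 0 := by
        rw [Ne, map_eq_zero]; exact irr_one_ne_zero ψ
      field_simp
      exact mul_ne_zero h1 h2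
    rw [if_pos hne, hSval]

open Classical in
theorem K2 [Fintype (IrrCharacter G)] (hN : N ≤ Subgroup.center G) (ψ : IrrCharacter N) (b : N → ℂ)
    (hbmul : ∀ c c', b (c * c') = b c * b c')
    (hbchar : ∀ c, (ψ : N → ℂ) c = b c * (ψ : N → ℂ) 1) (g : G) :
    ∑ χ : IrrCharacter G,
      (if classInner (fun n : N => (χ : G → ℂ) n) (ψ : N → ℂ) ≠ 0 then (Nat.card N : ℂ) else 0) *
        ((χ : G → ℂ) g * conj ((χ : G → ℂ) g)) =
    ∑ n : N, conj (b n) * (if IsConj (g * (n : G)) g then
      (Nat.card (Subgroup.centralizer ({g * (n : G)} : Set G)) : ℂ) else 0) := by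
  have h1 : ∀ χ : IrrCharacter G,
      (if classInner (fun n : N => (χ : G → ℂ) n) (ψ : N → ℂ) ≠ 0 then (Nat.card N : ℂ) else 0) *
        ((χ : G → ℂ) g * conj ((χ : G → ℂ) g)) =
      ∑ n : N, conj (b n) * ((χ : G → ℂ) (g * n) * conj ((χ : G → ℂ) g)) := by
    intro χ
    rw [← mul_assoc, ← K1 N hN ψ b hbmul hbchar χ g, Finset.sum_mul]
    apply Finset.sum_congr rfl
    intro n _
    ring
  simp only [h1]
  rw [Finset.sum_comm]
  apply Finset.sum_congr rfl
  intro n _
  rw [← Finset.mul_sum]
  congr 1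
  rw [← finsum_eq_sum_of_fintype]
  convert irr_second_orthogonality (g * (n : G)) g

omit [Fintype G] in
theorem centralizer_mul_central (g c : G) (hc : c ∈ Subgroup.center G) :
    Subgroup.centralizer ({g * c} : Set G) = Subgroup.centralizer ({g} : Set G) := by
  ext x
  simp only [Subgroup.mem_centralizer_iff, Set.mem_singleton_iff, forall_eq]
  have hcx := Subgroup.mem_center_iff.mp hc x
  constructor
  · intro h
    have : g * x * c = x * g * c := by
      calc g * x * c = g * (x * c) := by group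
        _ = g * (c * x) := by rw [hcx]
        _ = g * c * x := by group
        _ = x * (g * c) := h
        _ = x * g * c := by group
    exact mul_right_cancel this
  · intro h
    calc g * c * x = g * (c * x) := by group
      _ = g * (x * c) := by rw [hcx]
      _ = (g * x) * c := by group
      _ = (x * g) * c := by rw [h]
      _ = x * (g * c) := by group

omit [Fintype G] in
theorem isConj_mul_central_iff (g c : G) (hc : c ∈ Subgroup.center G) :
    IsConj (g * c) g ↔ ∃ y : G, y⁻¹ * g⁻¹ * y * g = c := by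
  rw [isConj_iff]
  constructor
  · rintro ⟨x, hx⟩
    refine ⟨x⁻¹, ?_⟩
    have hcx := Subgroup.mem_center_iff.mp hc x⁻¹
    have h1 : x * g * x⁻¹ * c = g := by
      calc x * g * x⁻¹ * c = x * g * (x⁻¹ * c) := by group
        _ = x * g * (c * x⁻¹) := by rw [hcx]
        _ = x * (g * c) * x⁻¹ := by group
        _ = g := hx
    calc x⁻¹⁻¹ * g⁻¹ * x⁻¹ * g = (x * g * x⁻¹)⁻¹ * g := by group
      _ = (x * g * x⁻¹)⁻¹ * (x * g * x⁻¹ * c) := by rw [h1]
      _ = c := by group
  · rintro ⟨y, hy⟩
    refine ⟨y⁻¹, ?_⟩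
    have hcy := Subgroup.mem_center_iff.mp hc y
    calc y⁻¹ * (g * c) * y⁻¹⁻¹ = y⁻¹ * g * (c * y) := by group
      _ = y⁻¹ * g * (y * c) := by rw [hcy]
      _ = y⁻¹ * g * y * (y⁻¹ * g⁻¹ * y * g) := by rw [hy]; group
      _ = g := by group

omit [Fintype G] in
theorem isConj_mul_central {a b c : G} (h : IsConj a b) (hc : c ∈ Subgroup.center G) :
    IsConj (a * c) (b * c) := by
  rw [isConj_iff] at h ⊢
  obtain ⟨x, hx⟩ := h
  refine ⟨x, ?_⟩
  have hcx := Subgroup.mem_center_iff.mp hc x⁻¹
  calc x * (a * c) * x⁻¹ = x * a * (c * x⁻¹) := by group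
    _ = x * a * (x⁻¹ * c) := by rw [hcx]
    _ = x * a * x⁻¹ * c := by group
    _ = b * c := by rw [hx]

open Classical in
theorem K3 (hN : N ≤ Subgroup.center G) (b : N → ℂ) (hb1 : b 1 = 1)
    (hbmul : ∀ c c', b (c * c') = b c * b c') (hbfaith : ∀ n, b n = 1 → n = 1) (g : G) :
    ∑ n : N, conj (b n) * (if IsConj (g * (n : G)) g then
      (Nat.card (Subgroup.centralizer ({g * (n : G)} : Set G)) : ℂ) else 0) =
    if (∀ x : G, x⁻¹ * g⁻¹ * x * g ∈ N → x * g = g * x) then
      (Nat.card (Subgroup.centralizer ({g} : Set G)) : ℂ) else 0 := by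
  have hcent : ∀ n : N, Subgroup.centralizer ({g * (n : G)} : Set G) =
      Subgroup.centralizer ({g} : Set G) := fun n => centralizer_mul_central g n (hN n.2)
  simp only [hcent]
  set c : ℂ := (Nat.card (Subgroup.centralizer ({g} : Set G)) : ℂ) with hc
  by_cases hsp : ∀ x : G, x⁻¹ * g⁻¹ * x * g ∈ N → x * g = g * x
  · rw [if_pos hsp]
    have hM : ∀ n : N, IsConj (g * (n : G)) g ↔ n = 1 := by
      intro n
      constructor
      · intro h
        obtain ⟨y, hy⟩ := (isConj_mul_central_iff g n (hN n.2)).mp h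
        have h1 := hsp y (by rw [hy]; exact n.2)
        apply Subtype.ext
        rw [← hy]
        simp only [Subgroup.coe_one]
        calc y⁻¹ * g⁻¹ * y * g = y⁻¹ * g⁻¹ * (y * g) := by group
          _ = y⁻¹ * g⁻¹ * (g * y) := by rw [h1]
          _ = 1 := by group
      · rintro rfl
        simp only [Subgroup.coe_one, mul_one]
        exact IsConj.refl g
    simp only [hM]
    rw [Finset.sum_eq_single (1 : N)]
    · simp [hb1]
    · intro n _ hn
      simp [hn]
    · intro h; exact absurd (Finset.mem_univ _) h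
  · rw [if_neg hsp]
    push Not at hsp
    obtain ⟨x, hxN, hxg⟩ := hsp
    set n₀ : N := ⟨x⁻¹ * g⁻¹ * x * g, hxN⟩ with hn₀
    have hn₀ne : n₀ ≠ 1 := by
      intro h
      apply hxg
      have h1 : x⁻¹ * g⁻¹ * x * g = 1 := congrArg Subtype.val h
      calc x * g = g * x * (x⁻¹ * g⁻¹ * x * g) := by group
        _ = g * x := by rw [h1, mul_one]
    have hMn₀ : IsConj (g * (n₀ : G)) g :=
      (isConj_mul_central_iff g n₀ (hN n₀.2)).mpr ⟨x, rfl⟩
    have hMinv : IsConj (g * ((n₀⁻¹ : N) : G)) g := by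
      have := isConj_mul_central hMn₀ (hN (n₀⁻¹).2)
      simp only [Subgroup.coe_inv, mul_inv_cancel_right] at this
      exact this.symm
    have hMiff : ∀ n : N, IsConj (g * ((n * n₀ : N) : G)) g ↔ IsConj (g * (n : G)) g := by
      intro n
      constructor
      · intro h
        have := (isConj_mul_central h (hN (n₀⁻¹).2)).trans hMinv
        simpa [mul_assoc] using this
      · intro h
        have := (isConj_mul_central h (hN n₀.2)).trans hMn₀
        simpa [mul_assoc] using this
    set T := ∑ n : N, conj (b n) * (if IsConj (g * (n : G)) g then c else 0) with hT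
    have h1 : T = ∑ n : N, conj (b (n * n₀)) * (if IsConj (g * ((n * n₀ : N) : G)) g then c else 0) :=
      (Fintype.sum_equiv (Equiv.mulRight n₀) _ _ (fun n => rfl)).symm
    have h2 : T = conj (b n₀) * T := by
      conv_lhs => rw [h1]
      rw [hT, Finset.mul_sum]
      apply Finset.sum_congr rfl
      intro n _
      rw [hbmul, map_mul]
      simp only [hMiff]
      ring
    have hb : conj (b n₀) ≠ 1 := by
      intro h
      apply hn₀ne
      apply hbfaith
      have := congrArg (starRingEnd ℂ) h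
      simpa using this
    have h3 : (1 - conj (b n₀)) * T = 0 := by
      rw [sub_mul, one_mul, ← h2, sub_self]
    rcases mul_eq_zero.mp h3 with h | h
    · exact absurd (sub_eq_zero.mp h).symm hb
    · exact h

end Main

open Classical in
theorem card_classes_mul {H : Type*} [Group H] [Fintype H] (P : H → Prop)
    (hP : ∀ h x : H, P h → P (x * h * x⁻¹)) :
    Nat.card {C : ConjClasses H // ∃ h : H, ConjClasses.mk h = C ∧ P h} * Nat.card H =
      ∑ h : H, if P h then Nat.card (Subgroup.centralizer ({h} : Set H)) else 0 := by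
  have hPconj : ∀ h h' : H, ConjClasses.mk h = ConjClasses.mk h' → P h' → P h := by
    intro h h' hc hp
    rw [ConjClasses.mk_eq_mk_iff_isConj, isConj_comm, isConj_iff] at hc
    obtain ⟨x, rfl⟩ := hc
    exact hP _ _ hp
  rw [← Finset.sum_fiberwise Finset.univ (ConjClasses.mk (α := H))]
  have inner : ∀ C : ConjClasses H,
      (∑ h ∈ Finset.univ.filter (fun h => ConjClasses.mk h = C),
        if P h then Nat.card (Subgroup.centralizer ({h} : Set H)) else 0) =
      if (∃ h : H, ConjClasses.mk h = C ∧ P h) then Nat.card H else 0 := by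
    intro C
    obtain ⟨h₀, rfl⟩ := ConjClasses.mk_surjective C
    set cls := Finset.univ.filter (fun h => ConjClasses.mk h = ConjClasses.mk h₀) with hcls
    have hcard : ∀ h ∈ cls, cls.card * Nat.card (Subgroup.centralizer ({h} : Set H)) =
        Nat.card H := by
      intro h hh
      rw [hcls, Finset.mem_filter] at hh
      rw [← card_isConj_mul_card_centralizer h]
      congr 1
      rw [Nat.card_eq_fintype_card, Fintype.card_subtype]
      congr 1
      ext x
      rw [hcls]
      simp only [Finset.mem_filter, Finset.mem_univ, true_and]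
      rw [← hh.2, ConjClasses.mk_eq_mk_iff_isConj]
      exact ⟨fun h => h.symm, fun h => h.symm⟩
    have h₀mem : h₀ ∈ cls := by simp [hcls]
    have hpos : 0 < cls.card := Finset.card_pos.mpr ⟨h₀, h₀mem⟩
    by_cases hp : P h₀
    · rw [if_pos ⟨h₀, rfl, hp⟩]
      have : ∀ h ∈ cls, (if P h then Nat.card (Subgroup.centralizer ({h} : Set H)) else 0) =
          Nat.card (Subgroup.centralizer ({h₀} : Set H)) := by
        intro h hh
        have hh' := hh
        rw [hcls, Finset.mem_filter] at hh'
        rw [if_pos (hPconj h h₀ hh'.2 hp)]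
        have := (hcard h hh).trans (hcard h₀ h₀mem).symm
        exact Nat.eq_of_mul_eq_mul_left hpos this
      rw [Finset.sum_congr rfl this, Finset.sum_const, smul_eq_mul]
      exact hcard h₀ h₀mem
    · have hng : ¬ ∃ h : H, ConjClasses.mk h = ConjClasses.mk h₀ ∧ P h := by
        rintro ⟨h, hc, hph⟩
        exact hp (hPconj h₀ h hc.symm hph)
      rw [if_neg hng]
      apply Finset.sum_eq_zero
      intro h hh
      rw [hcls, Finset.mem_filter] at hh
      rw [if_neg]
      intro hph
      exact hng ⟨h, hh.2, hph⟩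
  simp only [inner]
  rw [Finset.sum_ite, Finset.sum_const, Finset.sum_const_zero, add_zero, smul_eq_mul,
    Nat.card_eq_fintype_card (α := {C : ConjClasses H // _}), Fintype.card_subtype]

open Classical in
theorem sum_comp_mk {G : Type*} [Group G] [Fintype G] (N : Subgroup G) [N.Normal]
    (F : G ⧸ N → ℕ) : ∑ g : G, F (g : G ⧸ N) = Nat.card N * ∑ q : G ⧸ N, F q := by
  rw [← Finset.sum_fiberwise Finset.univ (fun g : G => (g : G ⧸ N)), Finset.mul_sum]
  apply Finset.sum_congr rfl
  intro q _
  have h1 : ∀ g ∈ Finset.univ.filter (fun g : G => (g : G ⧸ N) = q), F (g : G ⧸ N) = F q := by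
    intro g hg
    rw [Finset.mem_filter] at hg
    rw [hg.2]
  rw [Finset.sum_congr rfl h1, Finset.sum_const, smul_eq_mul]
  congr 1
  have h2 := QuotientGroup.card_preimage_mk N ({q} : Set (G ⧸ N))
  have h3 : Nat.card ({q} : Set (G ⧸ N)) = 1 := by simp
  rw [h3, mul_one] at h2
  rw [← h2, Nat.card_eq_fintype_card, ← Fintype.card_coe]
  apply Fintype.card_congr
  exact Equiv.subtypeEquivRight (fun g => by simp)

section Special

variable {G : Type*} [Group G] (N : Subgroup G)

/-- the special elements -/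
def Sp (g : G) : Prop := ∀ x : G, x⁻¹ * g⁻¹ * x * g ∈ N → x * g = g * x

theorem sp_conj [N.Normal] {g : G} (h : Sp N g) (y : G) : Sp N (y * g * y⁻¹) := by
  intro x hx
  have h1 : (y⁻¹ * x * y)⁻¹ * g⁻¹ * (y⁻¹ * x * y) * g ∈ N := by
    have := Subgroup.Normal.conj_mem inferInstance _ hx y⁻¹
    convert this using 1
    group
  have h2 := h _ h1
  calc x * (y * g * y⁻¹) = y * (y⁻¹ * x * y * g) * y⁻¹ := by group
    _ = y * (g * (y⁻¹ * x * y)) * y⁻¹ := by rw [h2]
    _ = y * g * y⁻¹ * x := by group

theorem sp_mul_central (hN : N ≤ Subgroup.center G) {g : G} (h : Sp N g) {n : G} (hn : n ∈ N) :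
    Sp N (g * n) := by
  intro x hx
  have hnc := Subgroup.mem_center_iff.mp (hN hn)
  have hnc' := Subgroup.mem_center_iff.mp (hN (N.inv_mem hn))
  have h1 : x⁻¹ * (g * n)⁻¹ * x * (g * n) = x⁻¹ * g⁻¹ * x * g := by
    calc x⁻¹ * (g * n)⁻¹ * x * (g * n) = x⁻¹ * (n⁻¹ * (g⁻¹ * x * g)) * n := by group
      _ = x⁻¹ * ((g⁻¹ * x * g) * n⁻¹) * n := by rw [hnc' (g⁻¹ * x * g)]
      _ = x⁻¹ * g⁻¹ * x * g := by group
  rw [h1] at hx
  have h2 := h x hx
  calc x * (g * n) = x * g * n := by group
    _ = g * x * n := by rw [h2]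
    _ = g * (x * n) := by group
    _ = g * (n * x) := by rw [hnc x]
    _ = g * n * x := by group

end Special

section Count

variable {G : Type*} [Group G] [Fintype G] (N : Subgroup G) [Fintype N]

open Classical in
theorem lhs_count (hN : N ≤ Subgroup.center G) (ψ : IrrCharacter N)
    (hfaith : ∀ n : N, (ψ : N → ℂ) n = (ψ : N → ℂ) 1 → n = 1) :
    Nat.card {χ : IrrCharacter G // classInner (fun n : N => (χ : G → ℂ) n) (ψ : N → ℂ) ≠ 0} *
      Nat.card N * Nat.card G =
    ∑ g : G, if Sp N g then Nat.card (Subgroup.centralizer ({g} : Set G)) else 0 := by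
  obtain ⟨b, hb1, hbmul, hbnorm, hbchar⟩ := exists_scalar_central N hN ψ
  have hbfaith : ∀ n, b n = 1 → n = 1 := by
    intro n hn
    apply hfaith
    rw [hbchar n, hn, one_mul]
  have : Fintype (IrrCharacter G) := Fintype.ofFinite _
  have key : ((Nat.card {χ : IrrCharacter G //
      classInner (fun n : N => (χ : G → ℂ) n) (ψ : N → ℂ) ≠ 0} * Nat.card N * Nat.card G : ℕ) : ℂ) =
      ((∑ g : G, if Sp N g then Nat.card (Subgroup.centralizer ({g} : Set G)) else 0 : ℕ) : ℂ) := by
    have h1 : ∀ χ : IrrCharacter G, ∑ g : G, (χ : G → ℂ) g * conj ((χ : G → ℂ) g) =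
        (Nat.card G : ℂ) := by
      intro χ
      rw [irr_first_orthogonality χ χ, if_pos rfl]
    calc ((Nat.card {χ : IrrCharacter G //
          classInner (fun n : N => (χ : G → ℂ) n) (ψ : N → ℂ) ≠ 0} * Nat.card N * Nat.card G : ℕ) : ℂ)
        = ∑ χ : IrrCharacter G,
          (if classInner (fun n : N => (χ : G → ℂ) n) (ψ : N → ℂ) ≠ 0 then (Nat.card N : ℂ) else 0) *
            (Nat.card G : ℂ) := by
          rw [← Finset.sum_mul, Finset.sum_ite, Finset.sum_const, Finset.sum_const_zero, add_zero,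
            nsmul_eq_mul, Nat.card_eq_fintype_card (α := {χ : IrrCharacter G // _}),
            Fintype.card_subtype]
          push_cast
          ring
      _ = ∑ χ : IrrCharacter G, ∑ g : G,
          (if classInner (fun n : N => (χ : G → ℂ) n) (ψ : N → ℂ) ≠ 0 then (Nat.card N : ℂ) else 0) *
            ((χ : G → ℂ) g * conj ((χ : G → ℂ) g)) := by
          apply Finset.sum_congr rfl
          intro χ _
          rw [← Finset.mul_sum, h1]
      _ = ∑ g : G, ∑ χ : IrrCharacter G,
          (if classInner (fun n : N => (χ : G → ℂ) n) (ψ : N → ℂ) ≠ 0 then (Nat.card N : ℂ) else 0) *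
            ((χ : G → ℂ) g * conj ((χ : G → ℂ) g)) := Finset.sum_comm
      _ = ∑ g : G, (if Sp N g then (Nat.card (Subgroup.centralizer ({g} : Set G)) : ℂ) else 0) := by
          apply Finset.sum_congr rfl
          intro g _
          rw [K2 N hN ψ b hbmul hbchar g, K3 N hN b hb1 hbmul hbfaith g]
          unfold Sp
          congr
      _ = _ := by
          push_cast
          apply Finset.sum_congr rfl
          intro g _
          split_ifs <;> simp
  exact_mod_cast key

open Classical in
theorem rhs_count [N.Normal] (hN : N ≤ Subgroup.center G) :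
    Nat.card {C : ConjClasses (G ⧸ N) // ∃ g : G, ConjClasses.mk (g : G ⧸ N) = C ∧ Sp N g} *
      Nat.card N * Nat.card G =
    ∑ g : G, if Sp N g then Nat.card (Subgroup.centralizer ({g} : Set G)) else 0 := by
  let P : G ⧸ N → Prop := fun q => ∃ g : G, (g : G ⧸ N) = q ∧ Sp N g
  have hPmk : ∀ g : G, P (g : G ⧸ N) ↔ Sp N g := by
    intro g
    constructor
    · rintro ⟨g', hg', hsp⟩
      have h1 : g'⁻¹ * g ∈ N := QuotientGroup.eq.mp hg'
      have := sp_mul_central N hN hsp h1
      simpa using this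
    · intro h
      exact ⟨g, rfl, h⟩
  have hPconj : ∀ q r : G ⧸ N, P q → P (r * q * r⁻¹) := by
    intro q r hq
    obtain ⟨g, rfl, hsp⟩ := hq
    obtain ⟨y, rfl⟩ := QuotientGroup.mk_surjective r
    exact ⟨y * g * y⁻¹, by simp, sp_conj N hsp y⟩
  have h1 : Nat.card {C : ConjClasses (G ⧸ N) // ∃ g : G, ConjClasses.mk (g : G ⧸ N) = C ∧ Sp N g} =
      Nat.card {C : ConjClasses (G ⧸ N) // ∃ q : G ⧸ N, ConjClasses.mk q = C ∧ P q} := by
    apply Nat.card_congr
    apply Equiv.subtypeEquivRight
    intro C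
    constructor
    · rintro ⟨g, hg, hsp⟩
      exact ⟨g, hg, g, rfl, hsp⟩
    · rintro ⟨q, hq, g, rfl, hsp⟩
      exact ⟨g, hq, hsp⟩
  have h2 := card_classes_mul P hPconj
  set F : G ⧸ N → ℕ := fun q =>
    if P q then Nat.card (Subgroup.centralizer ({q} : Set (G ⧸ N))) else 0 with hF
  have h3 := sum_comp_mk N F
  have h4 : ∀ g : G, Nat.card N * F (g : G ⧸ N) =
      if Sp N g then Nat.card (Subgroup.centralizer ({g} : Set G)) else 0 := by
    intro g
    simp only [hF, hPmk]
    split_ifs with hsp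
    · have hset : (QuotientGroup.mk ⁻¹'
          ((Subgroup.centralizer ({(g : G ⧸ N)} : Set (G ⧸ N)) : Subgroup (G ⧸ N)) : Set (G ⧸ N)) : Set G) =
          ((Subgroup.centralizer ({g} : Set G) : Subgroup G) : Set G) := by
        ext x
        simp only [Set.mem_preimage, SetLike.mem_coe, Subgroup.mem_centralizer_iff,
          Set.mem_singleton_iff, forall_eq]
        constructor
        · intro hx
          have hx' : ((g * x : G) : G ⧸ N) = ((x * g : G) : G ⧸ N) := by
            simpa using hx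
          have h5 : (g * x)⁻¹ * (x * g) ∈ N := QuotientGroup.eq.mp hx'
          have h6 : x⁻¹ * g⁻¹ * x * g ∈ N := by
            convert h5 using 1
            group
          exact (hsp x h6).symm
        · intro hx
          have : ((g * x : G) : G ⧸ N) = ((x * g : G) : G ⧸ N) := by rw [hx]
          simpa using this
      have h7 := QuotientGroup.card_preimage_mk N
        ((Subgroup.centralizer ({(g : G ⧸ N)} : Set (G ⧸ N)) : Subgroup (G ⧸ N)) : Set (G ⧸ N))
      rw [hset] at h7
      exact h7.symm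
    · simp
  have hcardG : Nat.card G = Nat.card (G ⧸ N) * Nat.card N :=
    Subgroup.card_eq_card_quotient_mul_card_subgroup N
  calc Nat.card {C : ConjClasses (G ⧸ N) // ∃ g : G, ConjClasses.mk (g : G ⧸ N) = C ∧ Sp N g} *
      Nat.card N * Nat.card G
      = Nat.card N * (Nat.card N *
        (Nat.card {C : ConjClasses (G ⧸ N) // ∃ q : G ⧸ N, ConjClasses.mk q = C ∧ P q} *
          Nat.card (G ⧸ N))) := by rw [h1, hcardG]; ring
    _ = Nat.card N * (Nat.card N * ∑ q : G ⧸ N, F q) := by rw [h2]; congr!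
    _ = Nat.card N * ∑ g : G, F (g : G ⧸ N) := by rw [h3]
    _ = ∑ g : G, Nat.card N * F (g : G ⧸ N) := by rw [Finset.mul_sum]
    _ = _ := Finset.sum_congr rfl (fun g _ => h4 g)

end Count

/-- Let N be a central subgroup of the finite group G and ψ a faithful irreducible (hence degree-one) character of N. Call a coset g N special when every x ∈ G whose commutator x⁻¹ g⁻¹ x g lies in N actually commutes with g (this depends only on the coset). Then the number of irreducible characters of G whose restriction to N contains ψ equals the number of conjugacy classes of G/N consisting of special cosets. -/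
theorem result {G : Type*} [Group G] [Fintype G] (N : Subgroup G) [N.Normal] [Fintype N] (hN : N ≤ Subgroup.center G) (ψ : Cfsg.IrrCharacter ↥N) (hfaith : ∀ n : ↥N, (ψ : ↥N → ℂ) n = (ψ : ↥N → ℂ) 1 → n = 1) : Nat.card {χ : Cfsg.IrrCharacter G // Cfsg.classInner (fun n : ↥N => (χ : G → ℂ) n) (ψ : ↥N → ℂ) ≠ 0} = Nat.card {C : ConjClasses (G ⧸ N) // ∃ g : G, ConjClasses.mk (g : G ⧸ N) = C ∧ ∀ x : G, x⁻¹ * g⁻¹ * x * g ∈ N → x * g = g * x} := by
  have h1 := lhs_count N hN ψ hfaith
  have h2 := rhs_count N hN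
  have hNpos : 0 < Nat.card N := Nat.card_pos
  have hGpos : 0 < Nat.card G := Nat.card_pos
  have h3 := h1.trans h2.symm
  have h4 := Nat.eq_of_mul_eq_mul_right hGpos h3
  exact Nat.eq_of_mul_eq_mul_right hNpos h4

end Cfsg.Agent.S4567
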