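import Cfsg.Statements.S4574
import Cfsg.Agent.Lib.Helper75.CharGalois

set_option autoImplicit false
open Cfsg

namespace Cfsg.Agent.S4574

open Cfsg.Agent.Helper75 Module

theorem nontrivial_of_irr {G : Type*} [Group G] {V : Type*} [AddCommGroup V] [Module ℂ V]
    (ρ : Representation ℂ G V) [ρ.IsIrreducible] : Nontrivial V := by
  have h : IsSimpleModule (MonoidAlgebra ℂ G) ρ.asModule := inferInstance
  exact IsSimpleModule.nontrivial (MonoidAlgebra ℂ G) ρ.asModule

/-- real-number form of the statement -/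
theorem key {G : Type*} [Group G] [Fintype G] [DecidableEq G] (n : ℕ)
    (ρ : Representation ℂ G (Fin n → ℂ)) [ρ.IsIrreducible] :
    1 ≤ n ∧
    ((n : ℝ) ^ 2 - 1) * (Finset.univ.filter (fun g : G => ‖ρ.character g‖ = (n : ℝ))).card ≤
      (Finset.univ.filter (fun g : G => ρ.character g = 0)).card ∧
    ((∀ g : G, ‖ρ.character g‖ = 0 ∨ ‖ρ.character g‖ = 1 ∨ ‖ρ.character g‖ = (n : ℝ)) →
      ((n : ℝ) ^ 2 - 1) * (Finset.univ.filter (fun g : G => ‖ρ.character g‖ = (n : ℝ))).card =
      (Finset.univ.filter (fun g : G => ρ.character g = 0)).card) := by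
  have hn : 1 ≤ n := by
    have := nontrivial_of_irr ρ
    have h := Module.finrank_pos (R := ℂ) (M := Fin n → ℂ)
    have h' : 0 < n := by simpa using h
    exact h'
  set χ := ρ.character with hχ
  set Z := Finset.univ.filter (fun g : G => ‖χ g‖ = (n : ℝ)) with hZ
  set O := Finset.univ.filter (fun g : G => χ g = 0) with hO
  set T := Finset.univ.filter (fun g : G => χ g ≠ 0 ∧ ‖χ g‖ ≠ (n : ℝ)) with hT
  have hn' : (1 : ℝ) ≤ n := by exact_mod_cast hn
  have hZO : Disjoint Z O := by
    rw [Finset.disjoint_left]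
    intro g hgZ hgO
    simp only [hZ, hO, Finset.mem_filter, Finset.mem_univ, true_and] at hgZ hgO
    rw [hgO, norm_zero] at hgZ
    linarith
  have hZOT : Disjoint (Z ∪ O) T := by
    rw [Finset.disjoint_left]
    intro g hg hgT
    simp only [hZ, hO, hT, Finset.mem_union, Finset.mem_filter, Finset.mem_univ, true_and] at hg hgT
    rcases hg with h | h
    · exact hgT.2 h
    · exact hgT.1 h
  have huniv : (Finset.univ : Finset G) = (Z ∪ O) ∪ T := by
    ext g
    simp only [hZ, hO, hT, Finset.mem_union, Finset.mem_filter, Finset.mem_univ, true_and,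
      true_iff]
    by_cases h1 : χ g = 0
    · exact Or.inl (Or.inr h1)
    · by_cases h2 : ‖χ g‖ = (n : ℝ)
      · exact Or.inl (Or.inl h2)
      · exact Or.inr ⟨h1, h2⟩
  have hcard : (Nat.card G : ℝ) = Z.card + O.card + T.card := by
    rw [Nat.card_eq_fintype_card, ← Finset.card_univ, huniv, Finset.card_union_of_disjoint hZOT,
      Finset.card_union_of_disjoint hZO]
    push_cast; ring
  have hsum : (Nat.card G : ℝ) = (n : ℝ) ^ 2 * Z.card + ∑ g ∈ T, ‖χ g‖ ^ 2 := by
    rw [← sum_normSq_irr ρ, huniv, Finset.sum_union hZOT, Finset.sum_union hZO]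
    have h1 : ∑ g ∈ Z, ‖ρ.character g‖ ^ 2 = (n : ℝ) ^ 2 * Z.card := by
      rw [Finset.sum_congr rfl (g := fun _ => (n : ℝ) ^ 2)]
      · rw [Finset.sum_const, nsmul_eq_mul, mul_comm]
      · intro g hg
        simp only [hZ, Finset.mem_filter, Finset.mem_univ, true_and] at hg
        rw [← hg]
    have h2 : ∑ g ∈ O, ‖ρ.character g‖ ^ 2 = 0 := by
      apply Finset.sum_eq_zero
      intro g hg
      simp only [hO, Finset.mem_filter, Finset.mem_univ, true_and] at hg
      rw [← hχ, hg]; simp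
    rw [h1, h2, add_zero]
  have hfin : finrank ℂ (Fin n → ℂ) = n := by simp
  have hTclosed : ∀ g ∈ T, ∀ k : ℕ, k.Coprime (Nat.card G) → g ^ k ∈ T := by
    intro g hg k hk
    simp only [hT, Finset.mem_filter, Finset.mem_univ, true_and] at hg ⊢
    refine ⟨fun h0 => hg.1 ((char_pow_coprime_eq_zero_iff ρ g k hk).mp h0), fun h1 => hg.2 ?_⟩
    have h2 : ‖χ (g ^ k)‖ ^ 2 = ((n ^ 2 : ℕ) : ℤ) := by rw [h1]; push_cast; ring
    have h3 := (normSq_char_pow_coprime_eq_int_iff ρ g k hk _).mp h2
    have h4 : ‖χ g‖ ^ 2 = (n : ℝ) ^ 2 := by rw [h3]; push_cast; ring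
    have h5 : (0 : ℝ) ≤ n := by positivity
    exact (sq_eq_sq₀ (norm_nonneg _) h5).mp h4
  have hTne : ∀ g ∈ T, ρ.character g ≠ 0 := by
    intro g hg
    simp only [hT, Finset.mem_filter, Finset.mem_univ, true_and] at hg
    exact hg.1
  have hburn := card_le_sum_normSq ρ T hTclosed hTne
  refine ⟨hn, ?_, ?_⟩
  · have : (n : ℝ) ^ 2 * Z.card + T.card ≤ Z.card + O.card + T.card := by
      rw [← hcard, hsum]; linarith
    linarith
  · intro hall
    have hT1 : ∑ g ∈ T, ‖χ g‖ ^ 2 = T.card := by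
      rw [Finset.sum_congr rfl (g := fun _ => (1 : ℝ))]
      · simp
      · intro g hg
        simp only [hT, Finset.mem_filter, Finset.mem_univ, true_and] at hg
        rcases hall g with h | h | h
        · exact absurd (norm_eq_zero.mp h) hg.1
        · rw [h]; simp
        · exact absurd h hg.2
    have : (n : ℝ) ^ 2 * Z.card + T.card = Z.card + O.card + T.card := by
      rw [← hcard, hsum, hT1]
    linarith

/-- Let χ be an irreducible character of the finite group G, of degree d, and let Z(χ) be the set of elements g with |χ g| = d (the centre of χ). Then χ vanishes on at least (d ^ 2 - 1) · |Z(χ)| elements of G, with equality when every value |χ g| is 0, 1 or d. -/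
theorem result {G : Type*} [Group G] [Fintype G] [DecidableEq G] (χ : G → ℂ) (hχ : Cfsg.IsIrrCharacter G χ) : (Cfsg.charDegree χ ^ 2 - 1) * (Finset.univ.filter (fun g : G => ‖χ g‖ = (Cfsg.charDegree χ : ℝ))).card ≤ (Finset.univ.filter (fun g : G => χ g = 0)).card ∧ ((∀ g : G, ‖χ g‖ = 0 ∨ ‖χ g‖ = 1 ∨ ‖χ g‖ = (Cfsg.charDegree χ : ℝ)) → (Cfsg.charDegree χ ^ 2 - 1) * (Finset.univ.filter (fun g : G => ‖χ g‖ = (Cfsg.charDegree χ : ℝ))).card = (Finset.univ.filter (fun g : G => χ g = 0)).card) := by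
  obtain ⟨n, ρ, hirr, rfl⟩ := hχ
  have hdeg : Cfsg.charDegree ρ.character = n := by
    unfold Cfsg.charDegree
    rw [Representation.char_one]
    simp
  rw [hdeg]
  obtain ⟨hn, h1, h2⟩ := key n ρ
  have hcast : ((n ^ 2 - 1 : ℕ) : ℝ) = (n : ℝ) ^ 2 - 1 := by
    have : 1 ≤ n ^ 2 := Nat.one_le_pow _ _ hn
    rw [Nat.cast_sub this]; push_cast; ring
  refine ⟨?_, fun hall => ?_⟩
  · have : (((n ^ 2 - 1) * (Finset.univ.filter (fun g : G => ‖ρ.character g‖ = (n : ℝ))).card : ℕ) : ℝ)
        ≤ ((Finset.univ.filter (fun g : G => ρ.character g = 0)).card : ℝ) := by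
      rw [Nat.cast_mul, hcast]; exact h1
    exact_mod_cast this
  · have : (((n ^ 2 - 1) * (Finset.univ.filter (fun g : G => ‖ρ.character g‖ = (n : ℝ))).card : ℕ) : ℝ)
        = ((Finset.univ.filter (fun g : G => ρ.character g = 0)).card : ℝ) := by
      rw [Nat.cast_mul, hcast]; exact h2 hall
    exact_mod_cast this

end Cfsg.Agent.S4574
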