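import Cfsg.Statements.S4580
import Cfsg.Agent.S0952
import Cfsg.Agent.Lib.Helper77.Principal
import Cfsg.Agent.Lib.Helper78.CharCount
import Cfsg.Agent.Lib.Helper78.CharSchur
import Cfsg.Agent.Lib.Helper80.ConjIrr
import Cfsg.Agent.Lib.Helper81.CharGalOdd
import Cfsg.Agent.Lib.Helper81.CharDet

set_option autoImplicit false
set_option linter.style.haveILetI false
open Cfsg

namespace Cfsg.Agent.S4580

open scoped ComplexConjugate
open Cfsg.Agent.Helper77 Cfsg.Agent.Helper78

section
variable {G : Type*} [Group G] [Fintype G]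

/-- For an irreducible character of odd degree that is real-valued on the elements of odd order,
the sum of the values over the elements of odd order is nonzero. -/
theorem sum_regular_ne_zero (M : Ideal AlgInt) (hM : IsPModular 2 M) (χ : IrrCharacter G)
    (hreal : ∀ g : G, ¬ 2 ∣ orderOf g → conj ((χ : G → ℂ) g) = (χ : G → ℂ) g)
    (hodd : Odd (charDegree (χ : G → ℂ))) :
    ∑ x ∈ Finset.univ.filter (fun x : G => ¬ 2 ∣ orderOf x), (χ : G → ℂ) x ≠ 0 := by
  classical
  intro h0
  have hMmax : M.IsMaximal := hM.2.1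
  have h2M : (2 : AlgInt) ∈ M := by
    have := hM.2.2
    simpa using this
  let f : G → AlgInt := fun x => ⟨(χ : G → ℂ) x, IsIrrCharacter.isIntegral χ.2 x⟩
  have hf : ∀ x, ((f x : AlgInt) : ℂ) = (χ : G → ℂ) x := fun x => rfl
  have hinv : ∀ x : G, ¬ 2 ∣ orderOf x → f x⁻¹ = f x := by
    intro x hx
    apply Subtype.ext
    change (χ : G → ℂ) x⁻¹ = (χ : G → ℂ) x
    rw [IsIrrCharacter.inv χ.2 x]
    exact hreal x hx
  set S := Finset.univ.filter (fun x : G => ¬ 2 ∣ orderOf x) with hS
  have h1S : (1 : G) ∈ S := by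
    rw [hS, Finset.mem_filter]
    refine ⟨Finset.mem_univ _, ?_⟩
    rw [orderOf_one]
    norm_num
  have hsum0 : ∑ x ∈ S, f x = 0 := by
    apply Subtype.ext
    rw [AddSubmonoidClass.coe_finsetSum]
    simpa [hf] using h0
  have hsplit : ∑ x ∈ S, f x = f 1 + ∑ x ∈ S.erase 1, f x := by
    rw [Finset.add_sum_erase S f h1S]
  have hquot : ∑ x ∈ S.erase 1, Ideal.Quotient.mk M (f x) = 0 := by
    apply Finset.sum_involution (fun a _ => a⁻¹)
    · intro a ha
      rw [Finset.mem_erase, hS, Finset.mem_filter] at ha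
      rw [hinv a ha.2.2, ← map_add, ← two_mul, map_mul]
      rw [Ideal.Quotient.eq_zero_iff_mem.2 h2M, zero_mul]
    · intro a ha _ hcon
      rw [Finset.mem_erase, hS, Finset.mem_filter] at ha
      have h2 : a ^ 2 = 1 := by
        rw [pow_two]
        nth_rewrite 1 [← hcon]
        exact inv_mul_cancel a
      have h3 : orderOf a ∣ 2 := orderOf_dvd_of_pow_eq_one h2
      have h4 : orderOf a = 1 ∨ orderOf a = 2 := (Nat.dvd_prime Nat.prime_two).1 h3
      rcases h4 with h4 | h4
      · exact ha.1 (orderOf_eq_one_iff.1 h4)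
      · exact ha.2.2 (by rw [h4])
    · intro a _
      exact inv_inv a
    · intro a ha
      rw [Finset.mem_erase, hS, Finset.mem_filter] at ha ⊢
      refine ⟨fun h => ha.1 (inv_eq_one.1 h), Finset.mem_univ _, ?_⟩
      rw [orderOf_inv]
      exact ha.2.2
  have hmem : ∑ x ∈ S.erase 1, f x ∈ M := by
    rw [← Ideal.Quotient.eq_zero_iff_mem, map_sum]
    exact hquot
  have hf1 : f 1 ∈ M := by
    have : f 1 = - ∑ x ∈ S.erase 1, f x := by
      rw [eq_neg_iff_add_eq_zero, ← hsplit, hsum0]
    rw [this]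
    exact M.neg_mem hmem
  obtain ⟨hd, _⟩ := irr_charDegree χ.2
  obtain ⟨k, hk⟩ := hodd
  have hf1' : f 1 = (2 : AlgInt) * (k : AlgInt) + 1 := by
    apply Subtype.ext
    change (χ : G → ℂ) 1 = _
    rw [hd, hk]
    push_cast
    rfl
  have h1M : (1 : AlgInt) ∈ M := by
    have : (1 : AlgInt) = f 1 - (2 : AlgInt) * (k : AlgInt) := by
      rw [hf1']; ring
    rw [this]
    exact M.sub_mem hf1 (M.mul_mem_right _ h2M)
  exact hMmax.ne_top ((Ideal.eq_top_iff_one M).2 h1M)

/-- An irreducible character of odd degree that is real-valued on the elements of odd order lies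
in the principal `2`-block. -/
theorem mem_principalBlock_of_real_on_regular (M : Ideal AlgInt) (hM : IsPModular 2 M)
    (χ : IrrCharacter G)
    (hreal : ∀ g : G, ¬ 2 ∣ orderOf g → conj ((χ : G → ℂ) g) = (χ : G → ℂ) g)
    (hodd : Odd (charDegree (χ : G → ℂ))) :
    χ ∈ principalBlock M G := by
  classical
  by_contra hnot
  have hnot' : ¬ SameBlock M ((trivIrr G : IrrCharacter G) : G → ℂ) (χ : G → ℂ) := hnot
  haveI : Fact (Nat.Prime 2) := ⟨Nat.prime_two⟩
  have h := Cfsg.Agent.S0952.result 2 M hM (trivIrr G) χ hnot'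
  apply sum_regular_ne_zero M hM χ hreal hodd
  rw [finsum_mem_eq_finite_toFinset_sum _ (Set.toFinite _)] at h
  rw [← h]
  refine Finset.sum_congr ?_ fun x hx => ?_
  · ext x
    simp
  · rw [trivIrr_apply, one_mul]
    rw [Set.Finite.mem_toFinset] at hx
    exact (hreal x hx).symm

end

/-- Let N be a normal subgroup of the finite group G, M a maximal ideal of the algebraic integers containing 2, and θ a real-valued irreducible character of N of odd degree that extends to G (some irreducible character of G restricts to θ). Then θ has an extension to G lying in the principal 2-block of G. -/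
theorem result {G : Type*} [Group G] [Finite G] (N : Subgroup G) [N.Normal] (M : Ideal Cfsg.AlgInt) (hM : Cfsg.IsPModular 2 M) (θ : Cfsg.IrrCharacter N) (hreal : ∀ n : N, ((θ : N → ℂ) n).im = 0) (hodd : Odd (Cfsg.charDegree (θ : N → ℂ))) (hext : ∃ η : Cfsg.IrrCharacter G, ∀ n : N, (η : G → ℂ) n = (θ : N → ℂ) n) :
    ∃ η : Cfsg.IrrCharacter G, (∀ n : N, (η : G → ℂ) n = (θ : N → ℂ) n) ∧ η ∈ Cfsg.principalBlock M G := by
  classical
  haveI : Fintype G := Fintype.ofFinite G
  haveI : Fintype N := Fintype.ofFinite N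
  obtain ⟨η, hη⟩ := hext
  have hres₀ : (fun n : N => (η : G → ℂ) n) = (θ : N → ℂ) := funext hη
  have hres₁ : (fun n : N => (Cfsg.Agent.Helper80.cconjIrr η : G → ℂ) n) = (θ : N → ℂ) := by
    funext n
    rw [Cfsg.Agent.Helper80.cconjIrr_apply, hη n]
    exact Complex.conj_eq_iff_im.2 (hreal n)
  obtain ⟨β, hβ1, hβmul, hβnorm, hβeq⟩ :=
    Cfsg.Agent.Helper81.exists_linear_of_two_extensions N θ.2 η.2
      (Cfsg.Agent.Helper80.cconjIrr η).2 hres₀ hres₁
  -- the linear character as a monoid hom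
  let l : G →* ℂ :=
    { toFun := fun g => β (QuotientGroup.mk g : G ⧸ N)
      map_one' := hβ1
      map_mul' := fun x y => by
        show β ((QuotientGroup.mk (x * y) : G ⧸ N)) = _
        rw [QuotientGroup.mk_mul, hβmul] }
  have hlN : ∀ n : N, l n = 1 := by
    intro n
    show β (QuotientGroup.mk (n : G) : G ⧸ N) = 1
    rw [(QuotientGroup.eq_one_iff (n : G)).2 n.2, hβ1]
  have hlnorm : ∀ g : G, l g * conj (l g) = 1 := fun g => hβnorm _
  have hlne : ∀ g : G, l g ≠ 0 := by
    intro g h0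
    have := hlnorm g
    rw [h0, zero_mul] at this
    exact zero_ne_one this
  have hconj : ∀ g : G, conj ((η : G → ℂ) g) = l g * (η : G → ℂ) g := by
    intro g
    have := congrFun hβeq g
    rw [Cfsg.Agent.Helper80.cconjIrr_apply] at this
    exact this
  -- the order of G
  obtain ⟨a, m, hm, hcard⟩ := Nat.exists_eq_two_pow_mul_odd (Nat.card_pos (α := G)).ne'
  obtain ⟨t, ht⟩ : ∃ t, m + 1 = 2 * t := by
    obtain ⟨j, hj⟩ := hm
    exact ⟨j + 1, by omega⟩
  -- the twisted character
  have hirr : IsIrrCharacter G (((l ^ t : G →* ℂ) : G → ℂ) * (η : G → ℂ)) :=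
    Cfsg.Agent.Helper81.isIrrCharacter_hom_mul (l ^ t) η.2
  refine ⟨⟨_, hirr⟩, ?_, ?_⟩
  · intro n
    show (l ^ t) (n : G) * (η : G → ℂ) n = _
    rw [MonoidHom.pow_apply, hlN n, one_pow, one_mul, hη n]
  · apply mem_principalBlock_of_real_on_regular M hM
    · intro g hg
      show conj ((l ^ t) g * (η : G → ℂ) g) = (l ^ t) g * (η : G → ℂ) g
      rw [MonoidHom.pow_apply, map_mul, map_pow, hconj g]
      -- `(l g)^m = 1` for `g` of odd order
      have hpowm : l g ^ m = 1 := by
        have h1 : (l g ^ m) ^ (2 ^ a) = 1 := by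
          rw [← pow_mul, mul_comm, ← hcard, ← map_pow, pow_card_eq_one', map_one]
        have h2 : (l g ^ m) ^ (orderOf g) = 1 := by
          rw [← pow_mul, mul_comm, pow_mul, ← map_pow, pow_orderOf_eq_one, map_one, one_pow]
        have hcop : Nat.Coprime (2 ^ a) (orderOf g) := by
          apply Nat.Coprime.pow_left
          exact (Nat.Prime.coprime_iff_not_dvd Nat.prime_two).2 hg
        have h3 : orderOf (l g ^ m) ∣ 1 := by
          rw [← hcop]
          exact Nat.dvd_gcd (orderOf_dvd_of_pow_eq_one h1) (orderOf_dvd_of_pow_eq_one h2)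
        exact orderOf_eq_one_iff.1 (Nat.dvd_one.1 h3)
      have hne := hlne g
      have hnet : l g ^ t ≠ 0 := pow_ne_zero _ hne
      have key : conj (l g) ^ t * l g = l g ^ t := by
        apply mul_left_cancel₀ hnet
        rw [← mul_assoc, ← mul_pow, hlnorm g, one_pow, one_mul, ← pow_add, ← two_mul, ← ht,
          pow_succ, hpowm, one_mul]
      rw [← mul_assoc, key]
    · show Odd (charDegree (((l ^ t : G →* ℂ) : G → ℂ) * (η : G → ℂ)))
      have h1 : (((l ^ t : G →* ℂ) : G → ℂ) * (η : G → ℂ)) 1 = (θ : N → ℂ) 1 := by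
        show (l ^ t) (1 : G) * (η : G → ℂ) 1 = _
        rw [map_one, one_mul]
        exact hη 1
      unfold charDegree at hodd ⊢
      rw [h1]
      exact hodd

end Cfsg.Agent.S4580
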