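import Cfsg.Statements.S4582
import Cfsg.Agent.Lib.Helper76.TransferExt

set_option autoImplicit false
set_option linter.unusedSectionVars false
open Cfsg

namespace Cfsg.Agent.S4582

open Cfsg.Agent.Helper76
open scoped commutatorElement

variable {G : Type*} [Group G] [Finite G]

/-- Elements of `N ⊔ P` decompose as products when `N` is normal. -/
lemma exists_mul_of_sup_eq_top (N P : Subgroup G) [N.Normal] (hsup : N ⊔ P = ⊤) (g : G) :
    ∃ n ∈ N, ∃ y ∈ P, g = n * y := by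
  have hg : g ∈ ((N ⊔ P : Subgroup G) : Set G) := by rw [hsup]; trivial
  rw [Subgroup.normal_mul] at hg
  obtain ⟨n, hn, y, hy, rfl⟩ := Set.mem_mul.mp hg
  exact ⟨n, hn, y, hy, rfl⟩

/-- The core statement, for a group `G = NP`. -/
theorem core (N P : Subgroup G) [N.Normal] (hsup : N ⊔ P = ⊤) (hP2 : IsPGroup 2 P)
    (hidx : Odd P.index)
    (h1 : ∀ x ∈ P, ∃ q ∈ P ⊓ N, ∃ c ∈ ⁅P, P⁆, x ^ 2 = q * c)
    (h2 : ∀ y ∈ P ⊓ N, y ^ 2 ∈ ⁅P, P⁆)
    (h3 : Odd (Nat.card (Abelianization N))) :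
    ∀ x ∈ P, x ^ 2 ∈ ⁅P, P⁆ := by
  classical
  set ϕ : P →* Abelianization P := Abelianization.of with hϕ
  set V : G →* Abelianization P := MonoidHom.transfer ϕ with hV
  set m := P.index with hm
  have hcomm_mem : ∀ z : P, (z : G) ∈ ⁅P, P⁆ ↔ z ∈ commutator P := by
    intro z
    rw [← Subgroup.map_subtype_commutator]
    constructor
    · rintro ⟨w, hw, hwz⟩
      have : w = z := Subtype.ext hwz
      rw [← this]; exact hw
    · intro hz
      exact ⟨z, hz, rfl⟩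
  have hϕ_one : ∀ z : P, ϕ z = 1 ↔ z ∈ commutator P := by
    intro z
    rw [← MonoidHom.mem_ker, hϕ, Abelianization.ker_of]
  have hA2 : IsPGroup 2 (Abelianization P) := hP2.to_quotient _
  -- Fact 1
  have fact1 : ∀ n ∈ N, V n = 1 := by
    intro n hn
    set W : N →* Abelianization P := V.comp N.subtype with hW
    have e1 : V n = Abelianization.lift W (Abelianization.of ⟨n, hn⟩) := rfl
    rw [e1]
    set a := Abelianization.of (⟨n, hn⟩ : N) with ha
    have d1 : orderOf (Abelianization.lift W a) ∣ orderOf a := orderOf_map_dvd _ a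
    have d2 : orderOf a ∣ Nat.card (Abelianization N) := orderOf_dvd_natCard a
    obtain ⟨k, hk⟩ := (IsPGroup.iff_orderOf.mp hA2) (Abelianization.lift W a)
    have hodd : Odd (orderOf (Abelianization.lift W a)) := by
      obtain ⟨r, hr⟩ := d1.trans d2
      rw [hr] at h3
      exact (Nat.odd_mul.mp h3).1
    rw [hk] at hodd
    rcases Nat.eq_zero_or_pos k with h0 | h0
    · rw [h0, pow_zero, orderOf_eq_one_iff] at hk
      exact hk
    · exfalso
      have : Even (2 ^ k) := (Nat.even_pow' h0.ne').mpr even_two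
      exact (Nat.not_even_iff_odd.mpr hodd) this
  -- Fact 2
  have fact2 : ∀ c ∈ ⁅P, P⁆, V c = 1 := by
    intro c hc
    have : c ∈ commutator G := by
      rw [commutator_def]
      exact Subgroup.commutator_mono le_top le_top hc
    exact MonoidHom.mem_ker.mp (Abelianization.commutator_subset_ker V this)
  -- The extension Ψ
  set Ψ : G →* Abelianization (G ⧸ N) := Abelianization.of.comp (QuotientGroup.mk' N) with hΨ
  set κ : Abelianization P →* Abelianization (G ⧸ N) :=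
    Abelianization.lift (Ψ.comp P.subtype) with hκ
  have hκϕ : κ.comp ϕ = Ψ.comp P.subtype := by
    ext z
    rfl
  set f : P →* G ⧸ N := (QuotientGroup.mk' N).comp P.subtype with hf
  have hfsurj : Function.Surjective f := by
    intro u
    obtain ⟨g, rfl⟩ := QuotientGroup.mk'_surjective N u
    obtain ⟨n, hn, y, hy, rfl⟩ := exists_mul_of_sup_eq_top N P hsup g
    refine ⟨⟨y, hy⟩, ?_⟩
    simp only [hf, MonoidHom.coe_comp, Subgroup.coe_subtype, Function.comp_apply,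
      QuotientGroup.mk'_apply, QuotientGroup.mk_mul]
    rw [(QuotientGroup.eq_one_iff n).mpr hn, one_mul]
  have hcommQ : commutator (G ⧸ N) = (commutator P).map f := by
    rw [map_commutator_eq, f.range_eq_top_of_surjective hfsurj, commutator_def]
  -- kernel of κ
  have hkerκ : ∀ a : Abelianization P, κ a = 1 → ∃ q, ∃ hq : q ∈ P ⊓ N, a = ϕ ⟨q, hq.1⟩ := by
    intro a ha
    obtain ⟨u, rfl⟩ := QuotientGroup.mk'_surjective (commutator P) a
    have hu : Ψ (u : G) = 1 := ha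
    rw [hΨ, MonoidHom.comp_apply, ← MonoidHom.mem_ker, Abelianization.ker_of, hcommQ] at hu
    obtain ⟨c, hc, hcu⟩ := hu
    have hcu' : (QuotientGroup.mk' N) (c : G) = (QuotientGroup.mk' N) (u : G) := hcu
    rw [QuotientGroup.mk'_apply, QuotientGroup.mk'_apply, QuotientGroup.eq] at hcu'
    have hqP : (c : G)⁻¹ * (u : G) ∈ P := P.mul_mem (P.inv_mem c.2) u.2
    refine ⟨(c : G)⁻¹ * (u : G), Subgroup.mem_inf.mpr ⟨hqP, hcu'⟩, ?_⟩
    have e : (⟨(c : G)⁻¹ * (u : G), hqP⟩ : P) = c⁻¹ * u := rfl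
    rw [e, map_mul, map_inv, (hϕ_one c).mpr hc, inv_one, one_mul]
    rfl
  -- Fact 3
  have fact3 : ∀ x (hx : x ∈ P), ∃ q, ∃ hq : q ∈ P ⊓ N, V x = ϕ ⟨x, hx⟩ ^ m * ϕ ⟨q, hq.1⟩ := by
    intro x hx
    have e1 : κ (V x) = Ψ x ^ m := by
      rw [hV, ← transfer_comp, hκϕ, transfer_restrict_eq_pow]
    have e2 : κ (ϕ ⟨x, hx⟩) = Ψ x := rfl
    have e3 : κ (V x * (ϕ ⟨x, hx⟩ ^ m)⁻¹) = 1 := by
      rw [map_mul, map_inv, map_pow, e1, e2, mul_inv_cancel]
    obtain ⟨q, hq, hqa⟩ := hkerκ _ e3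
    refine ⟨q, hq, ?_⟩
    rw [← hqa]
    simp
  -- main
  intro x hx
  obtain ⟨q, hq, c, hc, hxqc⟩ := h1 x hx
  have hVx2 : V (x ^ 2) = 1 := by
    rw [hxqc, map_mul, fact1 q (Subgroup.mem_inf.mp hq).2, fact2 c hc, one_mul]
  obtain ⟨q', hq', hVx⟩ := fact3 x hx
  have hq'2 : ϕ ⟨q', hq'.1⟩ ^ 2 = 1 := by
    rw [← map_pow, hϕ_one, ← hcomm_mem]
    exact h2 q' hq'
  have hpow : ϕ (⟨x, hx⟩ ^ (2 * m)) = 1 := by
    have : V (x ^ 2) = ϕ ⟨x, hx⟩ ^ (2 * m) := by
      rw [map_pow, hVx, mul_pow, hq'2, mul_one, ← pow_mul, mul_comm]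
    rw [map_pow, ← this, hVx2]
  rw [hϕ_one] at hpow
  set z : P := ⟨x, hx⟩ ^ 2 with hz
  have hzm : z ^ m ∈ commutator P := by
    rw [hz, ← pow_mul]; exact hpow
  obtain ⟨k, hk⟩ := (IsPGroup.iff_orderOf.mp hP2) z
  have hcop : m.Coprime (orderOf z) := by
    rw [hk]
    apply Nat.Coprime.pow_right
    exact (Nat.coprime_two_right.mpr hidx)
  obtain ⟨j, hj⟩ := exists_pow_eq_self_of_coprime hcop
  have hzc : z ∈ commutator P := by
    rw [← hj]; exact Subgroup.pow_mem _ hzm j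
  have := (hcomm_mem z).mpr hzc
  simpa [hz] using this


/-- Let N be a normal subgroup of the finite group G, P a Sylow 2-subgroup of G and Q = P ∩ N. Suppose that P/QP' and Q/Q' are elementary abelian (every square of an element of P lies in the subgroup generated by Q and the derived subgroup of P, and every square of an element of Q lies in the derived subgroup of Q), and that the commutator factor group N/N' has odd order. Then P/P' is elementary abelian. -/
theorem result {G : Type*} [Group G] [Finite G] (N : Subgroup G) [N.Normal] (P : Sylow 2 G)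
    (hP : ∀ x ∈ (P : Subgroup G), x ^ 2 ∈ ((P : Subgroup G) ⊓ N) ⊔ ⁅(P : Subgroup G), (P : Subgroup G)⁆)
    (hQ : ∀ x ∈ (P : Subgroup G) ⊓ N, x ^ 2 ∈ ⁅(P : Subgroup G) ⊓ N, (P : Subgroup G) ⊓ N⁆)
    (hodd : Odd (Nat.card (Abelianization N))) :
    ∀ x ∈ (P : Subgroup G), x ^ 2 ∈ ⁅(P : Subgroup G), (P : Subgroup G)⁆ := by
  set P' : Subgroup G := (P : Subgroup G) with hP'
  set G₀ : Subgroup G := N ⊔ P' with hG₀
  have hNG₀ : N ≤ G₀ := le_sup_left
  have hPG₀ : P' ≤ G₀ := le_sup_right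
  set N₀ : Subgroup G₀ := N.subgroupOf G₀ with hN₀
  set P₀ : Subgroup G₀ := P'.subgroupOf G₀ with hP₀
  have hN₀n : N₀.Normal := inferInstance
  have hsup : N₀ ⊔ P₀ = ⊤ := by
    rw [hN₀, hP₀, ← Subgroup.subgroupOf_sup hNG₀ hPG₀, Subgroup.subgroupOf_self]
  have hP2 : IsPGroup 2 P₀ := P.isPGroup'.comap_subtype
  have hidx : Odd P₀.index := by
    have h1 : P₀.index ∣ P'.index := Subgroup.relIndex_dvd_index_of_le hPG₀
    have h2 : ¬ 2 ∣ P'.index := P.not_dvd_index
    have h3 : ¬ 2 ∣ P₀.index := fun h => h2 (h.trans h1)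
    exact Nat.odd_iff.mpr (Nat.two_dvd_ne_zero.mp h3)
  -- commutator transport
  have hmapcomm : (⁅P₀, P₀⁆).map G₀.subtype = ⁅P', P'⁆ := by
    rw [Subgroup.map_commutator, hP₀, Subgroup.subgroupOf_map_subtype, inf_of_le_left hPG₀]
  have hL : ∀ c₀ : G₀, (c₀ : G) ∈ ⁅P', P'⁆ ↔ c₀ ∈ ⁅P₀, P₀⁆ := by
    intro c₀
    rw [← hmapcomm]
    constructor
    · rintro ⟨w, hw, hwc⟩
      have : w = c₀ := Subtype.ext hwc
      rw [← this]; exact hw
    · intro h
      exact ⟨c₀, h, rfl⟩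
  have hcommP : ⁅P', P'⁆ ≤ P' := by
    rw [← Subgroup.map_subtype_commutator]
    exact Subgroup.map_subtype_le _
  -- P normalizes its commutator subgroup
  have hnormalizer : P' ≤ Subgroup.normalizer ((⁅P', P'⁆ : Subgroup G) : Set G) := by
    rw [← Subgroup.normal_subgroupOf_iff_le_normalizer hcommP]
    have : (⁅P', P'⁆).subgroupOf P' = commutator P' := by
      rw [← Subgroup.map_subtype_commutator]
      exact Subgroup.comap_map_eq_self_of_injective P'.subtype_injective _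
    rw [this]
    infer_instance
  have h1 : ∀ x ∈ P₀, ∃ q ∈ P₀ ⊓ N₀, ∃ c ∈ ⁅P₀, P₀⁆, x ^ 2 = q * c := by
    intro x hx
    rw [hP₀, Subgroup.mem_subgroupOf] at hx
    have h := hP (x : G) hx
    have hmem : (x : G) ^ 2 ∈ (((P' ⊓ N) ⊔ ⁅P', P'⁆ : Subgroup G) : Set G) := h
    rw [Subgroup.coe_mul_of_left_le_normalizer_right _ _ (inf_le_left.trans hnormalizer)] at hmem
    obtain ⟨q, hq, c, hc, hqc⟩ := Set.mem_mul.mp hmem
    have hq' : q ∈ P' ⊓ N := hq
    have hc' : c ∈ ⁅P', P'⁆ := hc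
    obtain ⟨hqP, hqN⟩ := Subgroup.mem_inf.mp hq'
    refine ⟨⟨q, hNG₀ hqN⟩, ?_, ⟨c, hPG₀ (hcommP hc')⟩, ?_, ?_⟩
    · rw [Subgroup.mem_inf, hP₀, hN₀, Subgroup.mem_subgroupOf, Subgroup.mem_subgroupOf]
      exact ⟨hqP, hqN⟩
    · rw [← hL]; exact hc'
    · apply Subtype.ext
      simp only [Subgroup.coe_pow, Subgroup.coe_mul]
      exact hqc.symm
  have h2 : ∀ y ∈ P₀ ⊓ N₀, y ^ 2 ∈ ⁅P₀, P₀⁆ := by
    intro y hy
    rw [Subgroup.mem_inf, hP₀, hN₀, Subgroup.mem_subgroupOf, Subgroup.mem_subgroupOf] at hy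
    rw [← hL]
    have := hQ (y : G) (Subgroup.mem_inf.mpr hy)
    simp only [Subgroup.coe_pow]
    exact Subgroup.commutator_mono inf_le_left inf_le_left this
  have h3 : Odd (Nat.card (Abelianization N₀)) := by
    have e : Abelianization N₀ ≃* Abelianization N :=
      (Subgroup.subgroupOfEquivOfLe hNG₀).abelianizationCongr
    rw [Nat.card_congr e.toEquiv]
    exact hodd
  have key := core N₀ P₀ hsup hP2 hidx h1 h2 h3
  intro x hx
  have hx₀ : (⟨x, hPG₀ hx⟩ : G₀) ∈ P₀ := by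
    rw [hP₀, Subgroup.mem_subgroupOf]; exact hx
  have := key ⟨x, hPG₀ hx⟩ hx₀
  rw [← hL] at this
  simpa using this

end Cfsg.Agent.S4582
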