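import Cfsg.Agent.Lib.Helper16.PRegDiv
import Cfsg.Agent.Lib.Helper16.PRegPart
import Cfsg.Agent.Lib.Helper16.BlockBasic
import Cfsg.Agent.Lib.Helper77.Principal
import Cfsg.Agent.Lib.Helper77.LocalRing
import Cfsg.Agent.Lib.Helper77.CentralChar
import Cfsg.Agent.Lib.Helper78.CharCount
import Cfsg.Agent.Lib.Helper78.CharSchur
import Cfsg.Agent.Lib.Helper81.CharCorr
import Cfsg.Agent.Lib.Helper81.PRegCount

set_option autoImplicit false
set_option linter.style.haveILetI false
open Cfsg

namespace Cfsg.Agent.S4583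

open scoped ComplexConjugate
open Cfsg.Agent.Helper77 Cfsg.Agent.Helper78 Cfsg.Agent.Helper81

section
variable {G : Type*} [Group G] [Fintype G]

open scoped Classical in
/-- Weak block orthogonality against the trivial character. -/
theorem sum_regular_eq_zero_of_not_principal {p : ℕ} [Fact p.Prime] {M : Ideal AlgInt}
    (hM : IsPModular p M) (χ : IrrCharacter G) (h : χ ∉ principalBlock M G) :
    ∑ x ∈ Finset.univ.filter (fun x : G => ¬ p ∣ orderOf x), (χ : G → ℂ) x = 0 := by
  have h' : ¬ SameBlock M ((trivIrr G : IrrCharacter G) : G → ℂ) (χ : G → ℂ) := by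
    intro hs
    apply h
    rw [principalBlock_eq]
    exact hs
  have h1 := Cfsg.Agent.Helper16.sum_regular_eq_zero_of_not_sameBlock hM (trivIrr G) χ h'
  simp only [trivIrr_apply, one_mul] at h1
  have h2 := congrArg conj h1
  rw [map_sum, map_zero] at h2
  simpa using h2

open scoped Classical in
/-- The sum over `p`-regular elements of a character of degree divisible by `p` lies in the
local ideal. -/
theorem memLocalIdeal_sum_regular_of_dvd {p : ℕ} [Fact p.Prime] {M : Ideal AlgInt}
    (hM : IsPModular p M) (χ : IrrCharacter G) (h : p ∣ charDegree (χ : G → ℂ)) :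
    MemLocalIdeal M (∑ x ∈ Finset.univ.filter (fun x : G => ¬ p ∣ orderOf x), (χ : G → ℂ) x) := by
  have hMtop := ne_top_of_isPModular hM
  haveI := isPrime_of_isPModular hM
  obtain ⟨hd1, hdpos⟩ := irr_charDegree χ.2
  have hint := Cfsg.Agent.Helper16.isIntegral_sum_regular_div p χ (trivIrr G)
  simp only [trivIrr_apply, map_one, mul_one] at hint
  have hne : (χ : G → ℂ) 1 ≠ 0 := by
    rw [hd1]; exact_mod_cast hdpos.ne'
  have h1 : (∑ x ∈ Finset.univ.filter (fun x : G => ¬ p ∣ orderOf x), (χ : G → ℂ) x) =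
      (charDegree (χ : G → ℂ) : ℂ) * ((∑ x ∈ Finset.univ.filter (fun x : G => ¬ p ∣ orderOf x),
        (χ : G → ℂ) x) / (χ : G → ℂ) 1) := by
    rw [← hd1]; field_simp
  rw [h1]
  apply memLocalIdeal_mul_right ((memLocalIdeal_natCast_iff hM _).mpr h)
  exact memLocalRing_algInt hMtop ⟨_, hint⟩

open scoped Classical in
/-- For a character in the principal block the sum over `p`-regular elements is congruent to
the degree times the number of `p`-regular elements. -/
theorem memLocalIdeal_sum_regular_sub {p : ℕ} [Fact p.Prime] {M : Ideal AlgInt}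
    (hM : IsPModular p M) (θ : IrrCharacter G) (h : θ ∈ principalBlock M G) :
    MemLocalIdeal M (∑ x ∈ Finset.univ.filter (fun x : G => ¬ p ∣ orderOf x), (θ : G → ℂ) x -
      ((charDegree (θ : G → ℂ) * (Finset.univ.filter (fun x : G => ¬ p ∣ orderOf x)).card : ℕ) : ℂ)) := by
  have hMtop := ne_top_of_isPModular hM
  haveI := isPrime_of_isPModular hM
  obtain ⟨hd1, hdpos⟩ := irr_charDegree θ.2
  have hcl := isClassFunction_of_isIrrCharacter θ.2
  set d : G → ℂ := fun x => if ¬ p ∣ orderOf x then ((θ : G → ℂ) x - (θ : G → ℂ) 1) else 0 with hd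
  have hdcl : IsClassFunction G d := by
    intro g h
    simp only [hd]
    have ho : orderOf (h * g * h⁻¹) = orderOf g := MulEquiv.orderOf_eq (MulAut.conj h) g
    rw [ho, hcl g h]
  have h1 : ∑ x ∈ Finset.univ.filter (fun x : G => ¬ p ∣ orderOf x), (θ : G → ℂ) x -
      ((charDegree (θ : G → ℂ) * (Finset.univ.filter (fun x : G => ¬ p ∣ orderOf x)).card : ℕ) : ℂ)
      = ∑ x : G, d x := by
    simp only [hd]
    rw [← Finset.sum_filter, Finset.sum_sub_distrib, Finset.sum_const, nsmul_eq_mul, hd1]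
    push_cast
    ring
  rw [h1, Cfsg.Agent.Helper16.sum_eq_sum_conjClasses d hdcl]
  apply memLocalIdeal_sum
  intro K _
  simp only [hd]
  by_cases hx : p ∣ orderOf (Quotient.out K)
  · simp only [hx, not_true_eq_false, if_false, mul_zero]
    exact memLocalIdeal_zero hMtop
  · simp only [hx, not_false_eq_true, if_true]
    have hne : (θ : G → ℂ) 1 ≠ 0 := by
      rw [hd1]; exact_mod_cast hdpos.ne'
    have h2 : ((Subgroup.centralizer ({Quotient.out K} : Set G)).index : ℂ) *
        ((θ : G → ℂ) (Quotient.out K) - (θ : G → ℂ) 1) =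
        (charDegree (θ : G → ℂ) : ℂ) * (-(centralChar ((trivIrr G : IrrCharacter G) : G → ℂ) (Quotient.out K) -
          centralChar (θ : G → ℂ) (Quotient.out K))) := by
      rw [centralChar_trivIrr]
      unfold centralChar
      rw [← hd1]
      field_simp
      ring
    rw [h2]
    apply memLocalIdeal_mul_left (memLocalRing_natCast _)
    apply memLocalIdeal_neg
    rw [principalBlock_eq] at h
    exact h (Quotient.out K)

open scoped Classical in
/-- A `p'`-degree character of the principal block has `p`-regular sum outside the local ideal. -/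
theorem not_memLocalIdeal_sum_regular {p : ℕ} [Fact p.Prime] {M : Ideal AlgInt}
    (hM : IsPModular p M) (θ : IrrCharacter G) (h : θ ∈ principalBlock M G)
    (hdeg : ¬ p ∣ charDegree (θ : G → ℂ)) :
    ¬ MemLocalIdeal M (∑ x ∈ Finset.univ.filter (fun x : G => ¬ p ∣ orderOf x), (θ : G → ℂ) x) := by
  intro hmem
  haveI := isPrime_of_isPModular hM
  have h1 := memLocalIdeal_sub hmem (memLocalIdeal_sum_regular_sub hM θ h)
  rw [sub_sub_cancel, memLocalIdeal_natCast_iff hM] at h1
  have hp : p.Prime := Fact.out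
  rcases (Nat.Prime.dvd_mul hp).mp h1 with h2 | h2
  · exact hdeg h2
  · have h3 := not_dvd_card_pRegular G p
    apply h3
    rw [Nat.card_eq_fintype_card, Fintype.card_subtype]
    exact h2

open scoped Classical in
/-- The `p`-regular sum functional and restriction: Frobenius reciprocity for the indicator
function of the `p`-regular elements. -/
theorem regular_sum_frobenius (p : ℕ) (H : Subgroup G) [Fintype H] (η : H → ℂ) :
    (H.index : ℂ) * ∑ h ∈ Finset.univ.filter (fun h : H => ¬ p ∣ orderOf h), η h =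
      ∑ χ : IrrCharacter G, classInner η (fun h : H => (χ : G → ℂ) h) *
        ∑ x ∈ Finset.univ.filter (fun x : G => ¬ p ∣ orderOf x), (χ : G → ℂ) x := by
  set r : G → ℂ := fun x => if ¬ p ∣ orderOf x then 1 else 0 with hr
  have hrcl : IsClassFunction G r := by
    intro g h
    simp only [hr]
    have ho : orderOf (h * g * h⁻¹) = orderOf g := MulEquiv.orderOf_eq (MulAut.conj h) g
    rw [ho]
  have hinner : ∀ φ : G → ℂ, classInner φ r = (Nat.card G : ℂ)⁻¹ *
      ∑ x ∈ Finset.univ.filter (fun x : G => ¬ p ∣ orderOf x), φ x := by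
    intro φ
    unfold classInner
    congr 1
    rw [Finset.sum_filter]
    refine Finset.sum_congr rfl fun x _ => ?_
    simp only [hr]
    by_cases hx : p ∣ orderOf x
    · simp [hx]
    · simp [hx]
  have hinnerH : classInner η (fun h : H => r h) = (Nat.card H : ℂ)⁻¹ *
      ∑ h ∈ Finset.univ.filter (fun h : H => ¬ p ∣ orderOf h), η h := by
    unfold classInner
    congr 1
    rw [Finset.sum_filter]
    refine Finset.sum_congr rfl fun x _ => ?_
    simp only [hr, Subgroup.orderOf_coe]
    by_cases hx : p ∣ orderOf x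
    · simp [hx]
    · simp [hx]
  have hexp := class_function_expansion (indFun_isClassFunction H η)
  have h1 : classInner (indFun H η) r =
      ∑ χ : IrrCharacter G, classInner (indFun H η) (χ : G → ℂ) * classInner (χ : G → ℂ) r := by
    conv_lhs => rw [hexp]
    rw [Cfsg.Agent.Helper81.classInner_sum_left]
    refine Finset.sum_congr rfl fun χ _ => ?_
    rw [Cfsg.Agent.Helper81.classInner_smul_left]
  rw [frobenius_reciprocity H η hrcl, hinnerH] at h1
  have hGpos : (Nat.card G : ℂ) ≠ 0 := by exact_mod_cast (Nat.card_pos (α := G)).ne'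
  have hHpos : (Nat.card H : ℂ) ≠ 0 := by exact_mod_cast (Nat.card_pos (α := H)).ne'
  have hidx : (Nat.card G : ℂ) = (Nat.card H : ℂ) * (H.index : ℂ) := by
    rw [← Nat.cast_mul, Subgroup.card_mul_index]
  have h2 : (H.index : ℂ) * ∑ h ∈ Finset.univ.filter (fun h : H => ¬ p ∣ orderOf h), η h =
      (Nat.card G : ℂ) * ((Nat.card H : ℂ)⁻¹ *
        ∑ h ∈ Finset.univ.filter (fun h : H => ¬ p ∣ orderOf h), η h) := by
    rw [hidx]; field_simp
  rw [h2, h1, Finset.mul_sum]
  refine Finset.sum_congr rfl fun χ _ => ?_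
  rw [frobenius_reciprocity H η (isClassFunction_of_isIrrCharacter χ.2), hinner]
  field_simp

end

/-- In `N ⊔ P` with `P` a `p`-group and `N` normal, `p`-regular elements lie in `N`. -/
theorem mem_of_regular_sup {G : Type*} [Group G] [Finite G] (N : Subgroup G) [N.Normal] (p : ℕ)
    [hp : Fact p.Prime] (P : Subgroup G) (hP : IsPGroup p P) (g : G) (hg : g ∈ N ⊔ P)
    (hreg : ¬ p ∣ orderOf g) : g ∈ N := by
  have h1 : (QuotientGroup.mk' N) g ∈ (N ⊔ P).map (QuotientGroup.mk' N) := ⟨g, hg, rfl⟩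
  rw [Subgroup.map_sup, QuotientGroup.map_mk'_self, bot_sup_eq] at h1
  have hPm : IsPGroup p (P.map (QuotientGroup.mk' N)) := hP.map _
  obtain ⟨k, hk⟩ := hPm ⟨_, h1⟩
  have hk' : ((QuotientGroup.mk' N) g) ^ (p ^ k) = 1 := by
    have h2 := congrArg Subtype.val hk
    rw [Subgroup.coe_pow] at h2
    exact h2
  have h3 : orderOf ((QuotientGroup.mk' N) g) ∣ p ^ k := orderOf_dvd_of_pow_eq_one hk'
  have h4 : orderOf ((QuotientGroup.mk' N) g) ∣ orderOf g := orderOf_map_dvd _ g
  have hcop : Nat.Coprime (orderOf g) (p ^ k) :=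
    Nat.Coprime.pow_right k ((Nat.Prime.coprime_iff_not_dvd hp.out).mpr hreg).symm
  have h5 : orderOf ((QuotientGroup.mk' N) g) = 1 := Nat.eq_one_of_dvd_coprimes hcop h4 h3
  have h6 : (QuotientGroup.mk' N) g = 1 := orderOf_eq_one_iff.mp h5
  exact (QuotientGroup.eq_one_iff g).mp h6

theorem result {G : Type*} [Group G] [Finite G] (N : Subgroup G) [N.Normal] (p : ℕ) [Fact p.Prime] (M : Ideal Cfsg.AlgInt) (hM : Cfsg.IsPModular p M) (P : Sylow p G)
    (θ : Cfsg.IrrCharacter N) (hθ : θ ∈ Cfsg.principalBlock M N) (hdeg : ¬ p ∣ Cfsg.charDegree (θ : N → ℂ))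
    (hext : ∃ η : Cfsg.IrrCharacter ↥(N ⊔ (P : Subgroup G)), ∀ n : N, (η : ↥(N ⊔ (P : Subgroup G)) → ℂ) (Subgroup.inclusion le_sup_left n) = (θ : N → ℂ) n) :
    ∃ χ : Cfsg.IrrCharacter G, χ ∈ Cfsg.principalBlock M G ∧ ¬ p ∣ Cfsg.charDegree (χ : G → ℂ) ∧
      haveI := Fintype.ofFinite N; Cfsg.classInner (fun n : N => (χ : G → ℂ) n) (θ : N → ℂ) ≠ 0 := by
  classical
  haveI : Fintype G := Fintype.ofFinite G
  letI hfN : Fintype N := Fintype.ofFinite N
  obtain ⟨η, hη⟩ := hext
  haveI : Fintype ↥(N ⊔ (P : Subgroup G)) := Fintype.ofFinite _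
  have hMtop := ne_top_of_isPModular hM
  haveI := isPrime_of_isPModular hM
  by_contra hcon
  push Not at hcon
  have hfrob := regular_sum_frobenius p (N ⊔ (P : Subgroup G)) (η : ↥(N ⊔ (P : Subgroup G)) → ℂ)
  have hR : MemLocalIdeal M (∑ χ : IrrCharacter G,
      classInner (η : ↥(N ⊔ (P : Subgroup G)) → ℂ) (fun h : ↥(N ⊔ (P : Subgroup G)) => (χ : G → ℂ) h) *
        ∑ x ∈ Finset.univ.filter (fun x : G => ¬ p ∣ orderOf x), (χ : G → ℂ) x) := by
    apply memLocalIdeal_sum
    intro χ _
    by_cases h0 : classInner (η : ↥(N ⊔ (P : Subgroup G)) → ℂ)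
        (fun h : ↥(N ⊔ (P : Subgroup G)) => (χ : G → ℂ) h) = 0
    · rw [h0, zero_mul]; exact memLocalIdeal_zero hMtop
    · obtain ⟨k, hk⟩ := exists_nat_classInner_char (Cfsg.Agent.Helper81.IsIrrCharacter.isCharacter η.2)
        (isCharacter_restrict (N ⊔ (P : Subgroup G)) (Cfsg.Agent.Helper81.IsIrrCharacter.isCharacter χ.2))
      have hc : classInner (indFun (N ⊔ (P : Subgroup G)) (η : ↥(N ⊔ (P : Subgroup G)) → ℂ))
          (χ : G → ℂ) ≠ 0 := by
        rw [frobenius_reciprocity _ _ (isClassFunction_of_isIrrCharacter χ.2)]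
        exact h0
      obtain ⟨k', hk'⟩ := classInner_restrict_ge N (N ⊔ (P : Subgroup G)) le_sup_left θ.2 η.2 χ.2 hc
      have hres : resTo (le_sup_left : N ≤ N ⊔ (P : Subgroup G)) (η : ↥(N ⊔ (P : Subgroup G)) → ℂ) =
          (θ : N → ℂ) := by
        funext n; exact hη n
      rw [hres, irr_orthonormal θ.2 θ.2, if_pos rfl] at hk'
      have hne : classInner (fun n : N => (χ : G → ℂ) n) (θ : N → ℂ) ≠ 0 := by
        rw [hk']
        have : ((1 + k' : ℕ) : ℂ) ≠ 0 := by exact_mod_cast (by omega : 1 + k' ≠ 0)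
        simpa using this
      rw [hk]
      apply memLocalIdeal_mul_left (memLocalRing_natCast _)
      by_cases hB : χ ∈ principalBlock M G
      · by_cases hd : p ∣ charDegree (χ : G → ℂ)
        · exact memLocalIdeal_sum_regular_of_dvd hM χ hd
        · exact absurd (hcon χ hB hd) hne
      · rw [sum_regular_eq_zero_of_not_principal hM χ hB]; exact memLocalIdeal_zero hMtop
  rw [← hfrob] at hR
  -- the sum over the p-regular elements of `N ⊔ P` is the sum over those of `N`
  have hkey : ∀ h : ↥(N ⊔ (P : Subgroup G)), ¬ p ∣ orderOf h → (h : G) ∈ N := by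
    intro h hh
    rw [← Subgroup.orderOf_coe] at hh
    exact mem_of_regular_sup N p (P : Subgroup G) P.2 (h : G) h.2 hh
  have hSH : ∑ h ∈ Finset.univ.filter (fun h : ↥(N ⊔ (P : Subgroup G)) => ¬ p ∣ orderOf h),
      (η : ↥(N ⊔ (P : Subgroup G)) → ℂ) h =
      ∑ n ∈ Finset.univ.filter (fun n : N => ¬ p ∣ orderOf n), (θ : N → ℂ) n := by
    refine Finset.sum_nbij' (fun h => if hh : (h : G) ∈ N then (⟨(h : G), hh⟩ : N) else 1)
      (fun n => Subgroup.inclusion le_sup_left n) ?_ ?_ ?_ ?_ ?_
    · intro h hh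
      rw [Finset.mem_filter] at hh ⊢
      have hmem := hkey h hh.2
      simp only [hmem, dif_pos]
      refine ⟨Finset.mem_univ _, ?_⟩
      have h1 : orderOf (⟨(h : G), hmem⟩ : N) = orderOf h := by
        rw [← Subgroup.orderOf_coe, ← Subgroup.orderOf_coe h]
      rw [h1]; exact hh.2
    · intro n hn
      rw [Finset.mem_filter] at hn ⊢
      refine ⟨Finset.mem_univ _, ?_⟩
      have h1 : orderOf (Subgroup.inclusion (le_sup_left : N ≤ N ⊔ (P : Subgroup G)) n) = orderOf n := by
        rw [← Subgroup.orderOf_coe, ← Subgroup.orderOf_coe n]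
        rfl
      rw [h1]; exact hn.2
    · intro h hh
      rw [Finset.mem_filter] at hh
      have hmem := hkey h hh.2
      simp only [hmem, dif_pos]
      rfl
    · intro n hn
      simp only [Subgroup.coe_inclusion, n.2, dif_pos]
    · intro h hh
      rw [Finset.mem_filter] at hh
      have hmem := hkey h hh.2
      simp only [hmem, dif_pos]
      rw [← hη]
      rfl
  rw [hSH] at hR
  have hS1 : MemLocalRing M (∑ n ∈ Finset.univ.filter (fun n : N => ¬ p ∣ orderOf n), (θ : N → ℂ) n) := by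
    apply memLocalRing_sum
    intro n _
    exact memLocalRing_algInt hMtop ⟨_, IsIrrCharacter.isIntegral θ.2 n⟩
  have hS2 := not_memLocalIdeal_sum_regular hM θ hθ hdeg
  have hidx : ¬ MemLocalIdeal M (((N ⊔ (P : Subgroup G)).index : ℕ) : ℂ) := by
    rw [memLocalIdeal_natCast_iff hM]
    intro hdvd
    have h1 : (N ⊔ (P : Subgroup G)).index ∣ (P : Subgroup G).index :=
      Subgroup.index_dvd_of_le le_sup_right
    exact P.not_dvd_index (hdvd.trans h1)
  exact not_memLocalIdeal_mul (memLocalRing_natCast _) hS1 hidx hS2 hR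

end Cfsg.Agent.S4583
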