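import Cfsg.Statements.S4584
import Cfsg.Agent.Lib.Helper76.OrderP4

set_option autoImplicit false
open Cfsg

namespace Cfsg.Agent.S4584

open Cfsg.Agent.Helper76

/-- Let p be a prime and P a group of order p^4. Then the derived subgroup P' has order p if and only if the centre Z(P) has index p^2 in P. -/
theorem result {P : Type*} [Group P] [Finite P] (p : ℕ) [Fact p.Prime] (hP : Nat.card P = p ^ 4) :
    Nat.card (commutator P) = p ↔ (Subgroup.center P).index = p ^ 2 := by
  have hp : p.Prime := Fact.out
  by_cases hc : IsMulCommutative P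
  · have h1 : commutator P = ⊥ := by
      rw [eq_bot_iff, ← Subgroup.Normal.quotient_commutative_iff_commutator_le]
      rw [isMulCommutative_iff]
      intro a b
      obtain ⟨a, rfl⟩ := QuotientGroup.mk_surjective a
      obtain ⟨b, rfl⟩ := QuotientGroup.mk_surjective b
      rw [← QuotientGroup.mk_mul, ← QuotientGroup.mk_mul, mul_comm' a b]
    have h2 : Subgroup.center P = ⊤ := Subgroup.center_eq_top_iff.mpr hc
    rw [h1, h2, Subgroup.index_top, Subgroup.card_bot]
    constructor
    · intro h; exact absurd h.symm hp.one_lt.ne'
    · intro h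
      exfalso
      have : 1 < p ^ 2 := Nat.one_lt_pow (by norm_num) hp.one_lt
      omega
  · have hM := card_commutator_mul_card_center_of_card_p4 p hP hc
    have hZ := Subgroup.card_mul_index (Subgroup.center P)
    rw [hP] at hZ
    constructor
    · intro h
      rw [h] at hM
      have h1 : Nat.card (Subgroup.center P) = p ^ 2 := by
        have : p * Nat.card (Subgroup.center P) = p * p ^ 2 := by rw [hM]; ring
        exact Nat.eq_of_mul_eq_mul_left hp.pos this
      rw [h1] at hZ
      have : p ^ 2 * (Subgroup.center P).index = p ^ 2 * p ^ 2 := by rw [hZ]; ring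
      exact Nat.eq_of_mul_eq_mul_left (pow_pos hp.pos 2) this
    · intro h
      rw [h] at hZ
      have h1 : Nat.card (Subgroup.center P) = p ^ 2 := by
        have : Nat.card (Subgroup.center P) * p ^ 2 = p ^ 2 * p ^ 2 := by rw [hZ]; ring
        exact Nat.eq_of_mul_eq_mul_right (pow_pos hp.pos 2) this
      rw [h1] at hM
      have : Nat.card (commutator P) * p ^ 2 = p * p ^ 2 := by rw [hM]; ring
      exact Nat.eq_of_mul_eq_mul_right (pow_pos hp.pos 2) this

end Cfsg.Agent.S4584
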