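import Cfsg.Statements.S4585
import Cfsg.Agent.Lib.Helper76.OrderP4

set_option autoImplicit false
open Cfsg

namespace Cfsg.Agent.S4585

open Cfsg.Agent.Helper76
open scoped commutatorElement

/-- class ≤ 2 iff the derived subgroup is central. -/
lemma class_le_two_iff {P : Type*} [Group P] [Group.IsNilpotent P] :
    Group.nilpotencyClass P ≤ 2 ↔ commutator P ≤ Subgroup.center P := by
  rw [← Subgroup.upperCentralSeries_eq_top_iff_nilpotencyClass_le]
  constructor
  · intro h
    rw [commutator_def, Subgroup.commutator_le]
    intro x _ y _
    have hx : x ∈ Subgroup.upperCentralSeries P (1 + 1) := by rw [h]; trivial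
    rw [Subgroup.mem_upperCentralSeries_succ_iff, Subgroup.upperCentralSeries_one] at hx
    exact hx y
  · intro h
    rw [eq_top_iff]
    intro x _
    show x ∈ Subgroup.upperCentralSeries P (1 + 1)
    rw [Subgroup.mem_upperCentralSeries_succ_iff, Subgroup.upperCentralSeries_one]
    intro y
    apply h
    rw [commutator_def]
    exact Subgroup.commutator_mem_commutator (Subgroup.mem_top x) (Subgroup.mem_top y)

/-- Let p be a prime and P a group of order p^4. Then P' has index p^2 in P if and only if P has maximal nilpotency class, that is, nilpotency class exactly 3. -/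
theorem result {P : Type*} [Group P] [Finite P] (p : ℕ) [Fact p.Prime] (hP : Nat.card P = p ^ 4) :
    (commutator P).index = p ^ 2 ↔ Group.nilpotencyClass P = 3 := by
  have hp : p.Prime := Fact.out
  have hPG : IsPGroup p P := IsPGroup.of_card hP
  have hnil : Group.IsNilpotent P := hPG.isNilpotent
  have hle3 : Group.nilpotencyClass P ≤ 3 :=
    nilpotencyClass_le_of_card_dvd p 2 P (by rw [hP])
  by_cases hc : IsMulCommutative P
  · have h1 : commutator P = ⊥ := by
      rw [eq_bot_iff, ← Subgroup.Normal.quotient_commutative_iff_commutator_le]
      rw [isMulCommutative_iff]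
      intro a b
      obtain ⟨a, rfl⟩ := QuotientGroup.mk_surjective a
      obtain ⟨b, rfl⟩ := QuotientGroup.mk_surjective b
      rw [← QuotientGroup.mk_mul, ← QuotientGroup.mk_mul, mul_comm' a b]
    have h2 : Group.nilpotencyClass P ≤ 1 := Group.IsNilpotent.nilpotencyClass_le_one_iff.mpr hc
    rw [h1, Subgroup.index_bot, hP]
    constructor
    · intro h
      exfalso
      have := Nat.pow_right_injective hp.two_le h
      omega
    · intro h; omega
  · have hM := card_commutator_mul_card_center_of_card_p4 p hP hc
    have hZ := card_center_of_card_p4 p hP hc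
    have hI := Subgroup.card_mul_index (commutator P)
    rw [hP] at hI
    have hp2 : p < p ^ 2 := by
      calc p = p ^ 1 := (pow_one p).symm
        _ < p ^ 2 := Nat.pow_lt_pow_right hp.one_lt (by norm_num)
    constructor
    · intro h
      rw [h] at hI
      have hc2 : Nat.card (commutator P) = p ^ 2 := by
        have : Nat.card (commutator P) * p ^ 2 = p ^ 2 * p ^ 2 := by rw [hI]; ring
        exact Nat.eq_of_mul_eq_mul_right (pow_pos hp.pos 2) this
      have hz : Nat.card (Subgroup.center P) = p := by
        rw [hc2] at hM
        have : p ^ 2 * Nat.card (Subgroup.center P) = p ^ 2 * p := by rw [hM]; ring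
        exact Nat.eq_of_mul_eq_mul_left (pow_pos hp.pos 2) this
      have hnot : ¬ Group.nilpotencyClass P ≤ 2 := by
        rw [class_le_two_iff]
        intro hle
        have := Subgroup.card_le_of_le hle
        rw [hc2, hz] at this
        omega
      omega
    · intro h
      have hnot : ¬ commutator P ≤ Subgroup.center P := by
        rw [← class_le_two_iff]; omega
      have hz : Nat.card (Subgroup.center P) = p := by
        rcases hZ with hz | hz
        · exact hz
        · exfalso
          apply hnot
          rw [← Subgroup.Normal.quotient_commutative_iff_commutator_le]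
          apply isMulCommutative_of_card_dvd_prime_sq p
          rw [← Subgroup.index_eq_card]
          have h1 := Subgroup.card_mul_index (Subgroup.center P)
          rw [hz, hP] at h1
          have : p ^ 2 * (Subgroup.center P).index = p ^ 2 * p ^ 2 := by rw [h1]; ring
          rw [Nat.eq_of_mul_eq_mul_left (pow_pos hp.pos 2) this]
      rw [hz] at hM
      have hc2 : Nat.card (commutator P) = p ^ 2 := by
        have : Nat.card (commutator P) * p = p ^ 2 * p := by rw [hM]; ring
        exact Nat.eq_of_mul_eq_mul_right hp.pos this
      rw [hc2] at hI
      have : p ^ 2 * (commutator P).index = p ^ 2 * p ^ 2 := by rw [hI]; ring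
      exact Nat.eq_of_mul_eq_mul_left (pow_pos hp.pos 2) this

end Cfsg.Agent.S4585
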