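import Cfsg.Statements.S4586
import Cfsg.Agent.Lib.Helper76.AbelianNormal

set_option autoImplicit false
open Cfsg

namespace Cfsg.Agent.S4586

open Cfsg.Agent.Helper76
open scoped commutatorElement

variable {P : Type*} [Group P]

/-- In a group with a subgroup `N` of prime index, an element outside `N` generates the group
together with `N`. -/
lemma sup_zpowers_eq_top (p : ℕ) [Fact p.Prime] (N : Subgroup P) (hN : N.index = p) (x : P)
    (hx : x ∉ N) : N ⊔ Subgroup.zpowers x = ⊤ := by
  have hp : p.Prime := Fact.out
  have h1 := Subgroup.relIndex_mul_index (le_sup_left : N ≤ N ⊔ Subgroup.zpowers x)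
  rw [hN] at h1
  have h2 : (N ⊔ Subgroup.zpowers x).index ∣ p := ⟨_, by rw [← h1, mul_comm]⟩
  rcases (Nat.dvd_prime hp).mp h2 with h | h
  · exact Subgroup.index_eq_one.mp h
  · exfalso
    rw [h] at h1
    have h3 : N.relIndex (N ⊔ Subgroup.zpowers x) = 1 := by
      have := hp.pos
      nlinarith
    rw [Subgroup.relIndex_eq_one] at h3
    apply hx
    apply h3
    apply (le_sup_right : Subgroup.zpowers x ≤ N ⊔ Subgroup.zpowers x)
    exact Subgroup.mem_zpowers x

variable [Finite P]

/-- The main counting identity. -/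
lemma main_count (p : ℕ) [Fact p.Prime] (N : Subgroup P) [hNn : N.Normal] (hN : N.index = p)
    (x : P) (hx : x ∉ N) :
    p * Nat.card {n : N // x * n * x⁻¹ * (n : P)⁻¹ ∈ (commutator N).map N.subtype} =
      (commutator P).index * Nat.card (commutator N) := by
  have hp : p.Prime := Fact.out
  rw [Subgroup.map_subtype_commutator]
  set K : Subgroup P := ⁅N, N⁆ with hK
  have hKn : K.Normal := Subgroup.commutator_normal N N
  have hKN : K ≤ N := Subgroup.commutator_le_right N N
  have hKP : K ≤ commutator P := by
    rw [commutator_def]; exact Subgroup.commutator_mono le_top le_top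
  set f : P →* P ⧸ K := QuotientGroup.mk' K with hf
  have hfs : Function.Surjective f := QuotientGroup.mk'_surjective K
  have hker : f.ker = K := QuotientGroup.ker_mk' K
  set A : Subgroup (P ⧸ K) := N.map f with hAdef
  have hAn : A.Normal := Subgroup.Normal.map hNn f hfs
  have hA : ∀ a ∈ A, ∀ a' ∈ A, a * a' = a' * a := by
    rintro _ ⟨n, hn, rfl⟩ _ ⟨n', hn', rfl⟩
    rw [← map_mul, ← map_mul, hf, QuotientGroup.mk'_apply, QuotientGroup.mk'_apply,
      QuotientGroup.eq]
    have : (n * n')⁻¹ * (n' * n) = ⁅n'⁻¹, n⁻¹⁆ := by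
      rw [commutatorElement_def]; group
    rw [this]
    exact Subgroup.commutator_mem_commutator (N.inv_mem hn') (N.inv_mem hn)
  have hgen : A ⊔ Subgroup.zpowers (f x) = ⊤ := by
    rw [hAdef, ← MonoidHom.map_zpowers, ← Subgroup.map_sup, sup_zpowers_eq_top p N hN x hx,
      ← MonoidHom.range_eq_map, MonoidHom.range_eq_top]
    exact hfs
  have L1 := card_eq_card_commutator_mul_card_centralizer A hAn hA (f x) hgen
  -- the various cardinalities
  have e1 : Nat.card A * p = Nat.card (P ⧸ K) := by
    rw [← hN, ← Subgroup.index_map_eq N hfs (by rw [hker]; exact hKN)]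
    exact Subgroup.card_mul_index A
  have e2 : Nat.card (commutator (P ⧸ K)) * (commutator P).index = Nat.card (P ⧸ K) := by
    have : commutator (P ⧸ K) = (commutator P).map f := by
      rw [map_commutator_eq, f.range_eq_top_of_surjective hfs, commutator_def]
    rw [this, ← Subgroup.index_map_eq (commutator P) hfs (by rw [hker]; exact hKP)]
    exact Subgroup.card_mul_index _
  set C : Subgroup (P ⧸ K) := A ⊓ Subgroup.centralizer {f x} with hC
  set S : Subgroup P := C.comap f with hS
  have e3 : Nat.card C * S.index = Nat.card (P ⧸ K) := by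
    rw [hS, Subgroup.index_comap_of_surjective C hfs]
    exact Subgroup.card_mul_index C
  have e4 : Nat.card S * S.index = Nat.card P := Subgroup.card_mul_index S
  have e5 : Nat.card P = Nat.card (P ⧸ K) * Nat.card K :=
    Subgroup.card_eq_card_quotient_mul_card_subgroup K
  have e6 : Nat.card K = Nat.card (commutator N) := by
    rw [hK, ← Subgroup.map_subtype_commutator]
    exact (Nat.card_congr
      (Subgroup.equivMapOfInjective _ N.subtype N.subtype_injective).toEquiv).symm
  have e7 : Nat.card {n : N // x * n * x⁻¹ * (n : P)⁻¹ ∈ K} = Nat.card S := by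
    have memS : ∀ g : P, g ∈ S ↔ g ∈ N ∧ x * g * x⁻¹ * g⁻¹ ∈ K := by
      intro g
      rw [hS, Subgroup.mem_comap, hC, Subgroup.mem_inf, hAdef]
      have h1 : f g ∈ N.map f ↔ g ∈ N := by
        constructor
        · rintro ⟨n, hn, hng⟩
          have : n⁻¹ * g ∈ K := by
            rw [← QuotientGroup.eq]; exact hng
          have h2 : g = n * (n⁻¹ * g) := by group
          rw [h2]
          exact N.mul_mem hn (hKN this)
        · intro hg
          exact ⟨g, hg, rfl⟩
      have h2 : f g ∈ Subgroup.centralizer {f x} ↔ x * g * x⁻¹ * g⁻¹ ∈ K := by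
        rw [Subgroup.mem_centralizer_iff]
        constructor
        · intro h
          have h3 := h (f x) rfl
          rw [← map_mul, ← map_mul, hf, QuotientGroup.mk'_apply, QuotientGroup.mk'_apply,
            QuotientGroup.eq] at h3
          have h4 := hKn.conj_mem _ h3 (x * g)
          have : x * g * ((x * g)⁻¹ * (g * x)) * (x * g)⁻¹ = (x * g * x⁻¹ * g⁻¹)⁻¹ := by group
          rw [this] at h4
          exact (K.inv_mem_iff).mp h4
        · intro h y hy
          rw [Set.mem_singleton_iff] at hy
          rw [hy, ← map_mul, ← map_mul, hf, QuotientGroup.mk'_apply, QuotientGroup.mk'_apply,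
            QuotientGroup.eq]
          have h4 := hKn.conj_mem _ (K.inv_mem h) (x * g)⁻¹
          have : (x * g)⁻¹ * (x * g * x⁻¹ * g⁻¹)⁻¹ * (x * g)⁻¹⁻¹ = (x * g)⁻¹ * (g * x) := by group
          rw [this] at h4
          exact h4
      rw [h1, h2]
    apply Nat.card_congr
    refine ⟨fun n => ⟨(n : N), (memS _).mpr ⟨(n : N).2, n.2⟩⟩,
      fun g => ⟨⟨(g : P), ((memS _).mp g.2).1⟩, ((memS _).mp g.2).2⟩, ?_, ?_⟩
    · intro n; rfl
    · intro g; rfl
  rw [e7, ← e6]
  -- arithmetic
  set q := Nat.card (P ⧸ K)
  set k := Nat.card K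
  set a := Nat.card A
  set d := Nat.card (commutator (P ⧸ K))
  set z := Nat.card C
  set i := (commutator P).index
  set s := S.index
  set c := Nat.card S
  have hq : 0 < q := Nat.card_pos
  have hs : 0 < s := by
    rcases Nat.eq_zero_or_pos s with h | h
    · rw [h, mul_zero] at e3; omega
    · exact h
  have key1 : i * s = q * p := by
    have : q * (i * s) = q * (q * p) := by
      calc q * (i * s) = (a * p) * (i * s) := by rw [e1]
        _ = (d * z) * p * (i * s) := by rw [L1]
        _ = (d * i) * (z * s) * p := by ring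
        _ = q * (q * p) := by rw [e2, e3]; ring
    exact Nat.eq_of_mul_eq_mul_left hq this
  have key2 : s * (p * c) = s * (i * k) := by
    calc s * (p * c) = p * (c * s) := by ring
      _ = p * (q * k) := by rw [e4, e5]
      _ = (q * p) * k := by ring
      _ = (i * s) * k := by rw [key1]
      _ = s * (i * k) := by ring
  exact Nat.eq_of_mul_eq_mul_left hs key2

/-- Let p be a prime, P a finite p-group and N a normal subgroup of P of index p. For x ∈ P write c(x) for the number of elements n of N whose commutator x n x⁻¹ n⁻¹ lies in the derived subgroup N' (so c(x)/#N' is the order of the centralizer of x acting on N/N'). Then [P : P'] = p² if and only if c(x) = p·#N' for every x ∈ P outside N, and also if and only if c(x) = p·#N' for some x ∈ P outside N. -/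
theorem result {P : Type*} [Group P] [Finite P] (p : ℕ) [Fact p.Prime] (hP : IsPGroup p P) (N : Subgroup P) [N.Normal] (hN : N.index = p) :
    ((commutator P).index = p ^ 2 ↔ ∀ x : P, x ∉ N →
        Nat.card {n : N // x * n * x⁻¹ * (n : P)⁻¹ ∈ (commutator N).map N.subtype} = p * Nat.card (commutator N)) ∧
    ((commutator P).index = p ^ 2 ↔ ∃ x : P, x ∉ N ∧
        Nat.card {n : N // x * n * x⁻¹ * (n : P)⁻¹ ∈ (commutator N).map N.subtype} = p * Nat.card (commutator N)) := by
  have hp : p.Prime := Fact.out
  have hk : 0 < Nat.card (commutator N) := Nat.card_pos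
  have hex : ∃ x : P, x ∉ N := by
    by_contra h
    have : N = ⊤ := by
      rw [eq_top_iff]; intro g _
      by_contra hg
      exact h ⟨g, hg⟩
    rw [this, Subgroup.index_top] at hN
    exact hp.one_lt.ne hN
  have fwd : ∀ x : P, x ∉ N → (commutator P).index = p ^ 2 →
      Nat.card {n : N // x * n * x⁻¹ * (n : P)⁻¹ ∈ (commutator N).map N.subtype} =
        p * Nat.card (commutator N) := by
    intro x hx hi
    have := main_count p N hN x hx
    rw [hi] at this
    have h2 : p * Nat.card {n : N // x * n * x⁻¹ * (n : P)⁻¹ ∈ (commutator N).map N.subtype} =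
        p * (p * Nat.card (commutator N)) := by rw [this]; ring
    exact Nat.eq_of_mul_eq_mul_left hp.pos h2
  have bwd : ∀ x : P, x ∉ N →
      Nat.card {n : N // x * n * x⁻¹ * (n : P)⁻¹ ∈ (commutator N).map N.subtype} =
        p * Nat.card (commutator N) → (commutator P).index = p ^ 2 := by
    intro x hx hc
    have := main_count p N hN x hx
    rw [hc] at this
    have h2 : Nat.card (commutator N) * (commutator P).index = Nat.card (commutator N) * p ^ 2 := by
      rw [mul_comm, ← this]; ring
    exact Nat.eq_of_mul_eq_mul_left hk h2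
  refine ⟨⟨fun hi x hx => fwd x hx hi, fun h => ?_⟩, ⟨fun hi => ?_, fun h => ?_⟩⟩
  · obtain ⟨x, hx⟩ := hex
    exact bwd x hx (h x hx)
  · obtain ⟨x, hx⟩ := hex
    exact ⟨x, hx, fwd x hx hi⟩
  · obtain ⟨x, hx, hc⟩ := h
    exact bwd x hx hc

end Cfsg.Agent.S4586
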