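import Mathlib
import Cfsg.Statements.S4593
import Cfsg.Agent.Lib.Helper69.AutCentSylowB
import Cfsg.Agent.Lib.Helper96.ZStarCond
import Cfsg.Agent.S0201

set_option autoImplicit false
open Cfsg

namespace Cfsg.Agent.S4593

/-- Let G be a finite group with trivial centre and no nontrivial normal subgroup of odd order, whose Sylow 2-subgroups are abelian, and let P be a Sylow 2-subgroup. Every automorphism of G of 2-power order that fixes P elementwise is inner. -/
theorem result {G : Type*} [Group G] [Finite G] (hZ : Subgroup.center G = ⊥) (hcore : Cfsg.pPrimeCore 2 G = ⊥) (P : Sylow 2 G) (hab : IsMulCommutative (P : Subgroup G))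
    (α : MulAut G) (h2 : ∃ j : ℕ, orderOf α = 2 ^ j) (hfix : ∀ x ∈ (P : Subgroup G), α x = x) :
    ∃ g : G, ∀ x : G, α x = g * x * g⁻¹ := by
  obtain ⟨j, hj⟩ := h2
  have hZS : Cfsg.Agent.Helper20.ZStarHyp :=
    Cfsg.Agent.Helper96.ZStar.zStarHyp_of_bs
      (fun _ _ _ S n e hO => Cfsg.Agent.S0201.result S n e hO)
  have habP : ∀ a ∈ P, ∀ b ∈ P, a * b = b * a := by
    intro a ha b hb
    have := hab.is_comm.comm (⟨a, ha⟩ : ↥(P : Subgroup G)) ⟨b, hb⟩
    exact congrArg Subtype.val this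
  obtain ⟨g, hg⟩ := Cfsg.Agent.Helper69.ACS.inner_of_fix hZS hZ hcore P habP j α hj hfix
  refine ⟨g, fun x => ?_⟩
  rw [hg, MulAut.conj_apply]

end Cfsg.Agent.S4593
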