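import Cfsg.Statements.S4601
import Cfsg.Agent.S4602
import Cfsg.Agent.Lib.Helper76.ClassSize
-- import your own Cfsg.Agent.* helpers here

set_option autoImplicit false
open Cfsg

namespace Cfsg.Agent.S4601

open Cfsg.Agent.Helper76
open Cfsg.Agent

/-- In a `p`-solvable group in which no `q`-element (`q ≠ p`) has class size divisible by `p`,
the quotient by `O_{p'}(G)` is a `q'`-group. -/
theorem not_dvd_index_pPrimeCore {G : Type*} [Group G] [Finite G] (p q : ℕ) [Fact p.Prime]
    [Fact q.Prime] (hpq : p ≠ q) (hsolv : Cfsg.IsPSolvable p G)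
    (h : ∀ y : G, (∃ k : ℕ, orderOf y = q ^ k) →
      ¬ p ∣ (Subgroup.centralizer ({y} : Set G)).index) :
    ¬ q ∣ (Cfsg.pPrimeCore p G).index := by
  have hp : p.Prime := Fact.out
  have hq : q.Prime := Fact.out
  set K := pPrimeCore p G with hK
  set π := QuotientGroup.mk' K with hπ
  have hπs : Function.Surjective π := QuotientGroup.mk'_surjective K
  have hsolv' : IsPSolvable p (G ⧸ K) := IsPSolvable.quotient hsolv K
  have hcore' : pPrimeCore p (G ⧸ K) = ⊥ := Helper55.pPrimeCore_quotient_eq_bot p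
  have HH := centralizer_pCore_le hsolv' hcore'
  intro hd
  rw [Subgroup.index_eq_card] at hd
  obtain ⟨y', hy'⟩ := exists_prime_orderOf_dvd_card' q hd
  obtain ⟨y, hyy', hy⟩ := exists_primePow_lift q π hπs y' ⟨1, by rw [hy', pow_one]⟩
  obtain ⟨T, hT⟩ := exists_sylow_le_of_not_dvd_index p _ (h y hy)
  have hcoreT : pCore p (G ⧸ K) ≤ ((T.mapSurjective hπs : Sylow p (G ⧸ K)) : Subgroup (G ⧸ K)) :=
    Helper55.pCore_le_sylow _
  have hy'C : y' ∈ Subgroup.centralizer ((pCore p (G ⧸ K) : Subgroup (G ⧸ K)) : Set (G ⧸ K)) := by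
    rw [Subgroup.mem_centralizer_iff]
    intro t ht
    have ht' := hcoreT ht
    rw [Sylow.coe_mapSurjective] at ht'
    obtain ⟨t₀, ht₀, rfl⟩ := Subgroup.mem_map.mp ht'
    have hc := Subgroup.mem_centralizer_iff.mp (hT ht₀) y (Set.mem_singleton y)
    rw [← hyy', ← map_mul, ← map_mul, hc]
  have hy'core : y' ∈ pCore p (G ⧸ K) := HH hy'C
  have hcorep : IsPGroup p (pCore p (G ⧸ K)) := Helper55.isPGroup_pCore
  obtain ⟨j, hj⟩ := (IsPGroup.iff_orderOf.mp hcorep) ⟨y', hy'core⟩
  rw [Subgroup.orderOf_mk, hy'] at hj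
  -- `q = p ^ j` is impossible
  rcases Nat.eq_zero_or_pos j with h0 | hpos
  · rw [h0, pow_zero] at hj
    exact hq.one_lt.ne' hj
  · have hpd : p ∣ q := by
      rw [hj]
      exact dvd_pow_self p hpos.ne'
    exact hpq ((Nat.prime_dvd_prime_iff_eq hp hq).mp hpd)

/-- Let p and q be primes and G a finite group that is p-solvable or q-solvable, in which no q-element has conjugacy class size divisible by p. Then some Sylow p-subgroup of G normalizes some Sylow q-subgroup of G. -/
theorem result {G : Type*} [Group G] [Finite G] (p q : ℕ) [Fact p.Prime] [Fact q.Prime] (hsolv : Cfsg.IsPSolvable p G ∨ Cfsg.IsPSolvable q G)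
    (h : ∀ y : G, (∃ k : ℕ, orderOf y = q ^ k) → ¬ p ∣ (Subgroup.centralizer ({y} : Set G)).index) :
    ∃ (P : Sylow p G) (Q : Sylow q G), (P : Subgroup G) ≤ Subgroup.normalizer ((Q : Subgroup G) : Set G) := by
  by_cases hpq : p = q
  · subst hpq
    obtain ⟨P⟩ : Nonempty (Sylow p G) := inferInstance
    exact ⟨P, P, Subgroup.le_normalizer⟩
  rcases hsolv with hsolv | hsolv
  · rw [Cfsg.Agent.S4602.result p q hpq hsolv]
    exact not_dvd_index_pPrimeCore p q hpq hsolv h
  · exact (not_dvd_card_sylow_iff p q).mp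
      (not_dvd_card_sylow_of_classHyp p q hpq _ G rfl hsolv h)

end Cfsg.Agent.S4601
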