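import Cfsg.Statements.S4604
import Cfsg.Agent.Lib.Helper78.FrobCong

set_option autoImplicit false
open Cfsg

namespace Cfsg.Agent.S4604

/-- Let G be a finite group, p a prime and p^a the p-part of the order of G. Let x, y ∈ G and let x′, y′ be their p-regular parts: x′ has order prime to p, commutes with x·x′⁻¹, and x·x′⁻¹ has p-power order (likewise for y). Then x′ and y′ are conjugate in G if and only if for every irreducible character χ of G the algebraic integer χ(x)^(p^a) − χ(y)^(p^a) is p times an algebraic integer. -/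
theorem result {G : Type*} [Group G] [Finite G] (p : ℕ) [Fact p.Prime] (x y x' y' : G)
    (hx : (∃ k : ℕ, orderOf (x * x'⁻¹) = p ^ k) ∧ Commute (x * x'⁻¹) x' ∧ ¬ p ∣ orderOf x')
    (hy : (∃ k : ℕ, orderOf (y * y'⁻¹) = p ^ k) ∧ Commute (y * y'⁻¹) y' ∧ ¬ p ∣ orderOf y') :
    IsConj x' y' ↔ ∀ χ : Cfsg.IrrCharacter G, ∃ γ : Cfsg.AlgInt,
      (χ : G → ℂ) x ^ (p ^ (Nat.card G).factorization p) - (χ : G → ℂ) y ^ (p ^ (Nat.card G).factorization p) = (p : ℂ) * (γ : ℂ) := by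
  classical
  have hp : p.Prime := Fact.out
  obtain ⟨hx1, hx2, hx3⟩ := hx
  obtain ⟨hy1, hy2, hy3⟩ := hy
  set a := (Nat.card G).factorization p with ha
  have ex := Cfsg.Agent.Helper78.pow_eq_pow_of_ppart p x x' hx1 hx2
  have ey := Cfsg.Agent.Helper78.pow_eq_pow_of_ppart p y y' hy1 hy2
  have hpd : ∀ (z : ℂ), Cfsg.Agent.Helper78.PDvd p z → ∃ γ : Cfsg.AlgInt, z = (p : ℂ) * (γ : ℂ) :=
    fun z h => h
  constructor
  · intro hc χ
    have h1 := Cfsg.Agent.Helper78.pdvd_irr_pow_sub p a χ x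
    have h2 := Cfsg.Agent.Helper78.pdvd_irr_pow_sub p a χ y
    rw [ex] at h1
    rw [ey] at h2
    obtain ⟨c, hc'⟩ := isConj_iff.1 hc
    have h3 : (χ : G → ℂ) (y' ^ p ^ a) = (χ : G → ℂ) (x' ^ p ^ a) := by
      rw [← hc', conj_pow]
      obtain ⟨n, ρ, hρ, hχ⟩ := χ.2
      rw [← hχ]
      exact Representation.char_conj ρ _ c
    rw [h3] at h2
    have h4 := h1.sub h2
    have e : (χ : G → ℂ) x ^ p ^ a - (χ : G → ℂ) (x' ^ p ^ a) -
        ((χ : G → ℂ) y ^ p ^ a - (χ : G → ℂ) (x' ^ p ^ a)) =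
        (χ : G → ℂ) x ^ p ^ a - (χ : G → ℂ) y ^ p ^ a := by ring
    rw [e] at h4
    exact h4
  · intro h
    apply Cfsg.Agent.Helper78.isConj_of_isConj_pow p a x' y' hx3 hy3
    have hcx : (orderOf x').Coprime (p ^ a) :=
      Nat.Coprime.pow_right a ((Nat.Prime.coprime_iff_not_dvd hp).2 hx3).symm
    have hcy : (orderOf y').Coprime (p ^ a) :=
      Nat.Coprime.pow_right a ((Nat.Prime.coprime_iff_not_dvd hp).2 hy3).symm
    apply Cfsg.Agent.Helper78.isConj_of_pdvd p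
    · rw [hcx.orderOf_pow]
      exact hx3
    · rw [hcy.orderOf_pow]
      exact hy3
    · intro χ
      have h1 := Cfsg.Agent.Helper78.pdvd_irr_pow_sub p a χ x
      have h2 := Cfsg.Agent.Helper78.pdvd_irr_pow_sub p a χ y
      rw [ex] at h1
      rw [ey] at h2
      have h3 : Cfsg.Agent.Helper78.PDvd p ((χ : G → ℂ) x ^ p ^ a - (χ : G → ℂ) y ^ p ^ a) := h χ
      have h4 := (h3.sub h1).add h2
      have e : (χ : G → ℂ) x ^ p ^ a - (χ : G → ℂ) y ^ p ^ a -
          ((χ : G → ℂ) x ^ p ^ a - (χ : G → ℂ) (x' ^ p ^ a)) +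
          ((χ : G → ℂ) y ^ p ^ a - (χ : G → ℂ) (y' ^ p ^ a)) =
          (χ : G → ℂ) (x' ^ p ^ a) - (χ : G → ℂ) (y' ^ p ^ a) := by ring
      rw [e] at h4
      exact h4

end Cfsg.Agent.S4604
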