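import Cfsg.Statements.S4620
import Mathlib
import Cfsg.Agent.Lib.Helper55.Cores

set_option autoImplicit false
set_option linter.unusedSectionVars false
open scoped Pointwise
open Cfsg

namespace Cfsg.Agent.S4620

open Cfsg.Agent

variable {H : Type*} [Group H] [Finite H] (p : ℕ) [Fact p.Prime]

lemma mem_norm_iff (P' : Sylow p H) (t : H) :
    t ∈ Subgroup.normalizer ((P' : Subgroup H) : Set H) ↔ t • P' = P' :=
  Sylow.smul_eq_iff_mem_normalizer.symm

/-- Conjugation-invariant form of the TI property: distinct Sylow subgroups meet trivially. -/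
def TI' : Prop := ∀ P₁ P₂ : Sylow p H, P₁ ≠ P₂ → (P₁ : Subgroup H) ⊓ (P₂ : Subgroup H) = ⊥

lemma ti'_of_ti (P : Sylow p H)
    (hTI : ∀ g : H, g ∉ Subgroup.normalizer ((P : Subgroup H) : Set H) →
      (P : Subgroup H) ⊓ (MulAut.conj g • (P : Subgroup H)) = ⊥) : TI' (H := H) p := by
  intro P₁ P₂ hne
  obtain ⟨a, ha⟩ := MulAction.exists_smul_eq H P P₁
  obtain ⟨b, hb⟩ := MulAction.exists_smul_eq H P P₂
  have hg : a⁻¹ * b ∉ Subgroup.normalizer ((P : Subgroup H) : Set H) := by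
    intro h
    rw [mem_norm_iff] at h
    apply hne
    have h3 : a • P = b • P := by
      conv_lhs => rw [← h]
      rw [← mul_smul, mul_inv_cancel_left]
    rw [← ha, ← hb, h3]
  have h1 := hTI _ hg
  have h2 : (P₁ : Subgroup H) ⊓ (P₂ : Subgroup H) =
      MulAut.conj a • ((P : Subgroup H) ⊓ (MulAut.conj (a⁻¹ * b) • (P : Subgroup H))) := by
    rw [Subgroup.smul_inf, ← ha, ← hb, Sylow.coe_subgroup_smul, Sylow.coe_subgroup_smul,
      ← mul_smul, ← map_mul, mul_inv_cancel_left]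
  rw [h2, h1, Subgroup.smul_bot]

/-- Key lemma: an element commuting with a nontrivial element of a TI Sylow subgroup
normalizes it. -/
lemma mem_normalizer_of_commute (hTI : TI' (H := H) p) (P' : Sylow p H) (x : H) (hx : x ∈ P')
    (hx1 : x ≠ 1) (t : H) (ht : t * x * t⁻¹ = x) :
    t ∈ Subgroup.normalizer ((P' : Subgroup H) : Set H) := by
  rw [mem_norm_iff]
  by_contra hne
  have h1 := hTI P' (t • P') (fun h => hne h.symm)
  have h2 : x ∈ (P' : Subgroup H) ⊓ ((t • P' : Sylow p H) : Subgroup H) := by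
    refine Subgroup.mem_inf.mpr ⟨hx, ?_⟩
    rw [Sylow.coe_subgroup_smul, ← ht]
    exact Subgroup.smul_mem_pointwise_smul x (MulAut.conj t) _ hx
  rw [h1, Subgroup.mem_bot] at h2
  exact hx1 h2

/-- A `p`-subgroup of the normalizer of a Sylow subgroup lies in it. -/
lemma le_of_le_normalizer (P' : Sylow p H) (R : Subgroup H) (hR : IsPGroup p R)
    (hRN : R ≤ Subgroup.normalizer ((P' : Subgroup H) : Set H)) : R ≤ (P' : Subgroup H) := by
  have h1 : R ⊓ Subgroup.normalizer ((P' : Subgroup H) : Set H) = R ⊓ (P' : Subgroup H) :=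
    hR.inf_normalizer_sylow P'
  have h2 : R ⊓ Subgroup.normalizer ((P' : Subgroup H) : Set H) = R := inf_eq_left.mpr hRN
  rw [h2] at h1
  exact inf_eq_left.mp h1.symm

/-- A `p`-element of the normalizer of a Sylow subgroup lies in it. -/
lemma mem_of_mem_normalizer (P' : Sylow p H) (y : H) (k : ℕ) (hy : orderOf y = p ^ k)
    (hyN : y ∈ Subgroup.normalizer ((P' : Subgroup H) : Set H)) : y ∈ (P' : Subgroup H) := by
  have hR : IsPGroup p (Subgroup.zpowers y) := by
    apply IsPGroup.of_card (n := k)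
    rw [Nat.card_zpowers, hy]
  have := le_of_le_normalizer p P' (Subgroup.zpowers y) hR (by rwa [Subgroup.zpowers_le])
  exact this (Subgroup.mem_zpowers y)

/-- Step 0: every nontrivial normal subgroup has order divisible by `p`. -/
lemma dvd_card_of_normal (hOp' : Cfsg.pPrimeCore p H = ⊥) (K : Subgroup H) (hK : K.Normal)
    (hK1 : K ≠ ⊥) : p ∣ Nat.card K := by
  have hp : p.Prime := Fact.out
  by_contra h
  apply hK1
  rw [eq_bot_iff, ← hOp']
  exact Helper55.le_pPrimeCore hK ((Nat.Prime.coprime_iff_not_dvd hp).mpr h).symm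

/-- (NP): if `T` is normalized by `M`, lies in the normalizer of a Sylow subgroup `P'` and has
order divisible by `p`, then `P' ⊓ T` is a nontrivial `p`-subgroup normalized by `M`. -/
lemma exists_normalized_pSubgroup (P' : Sylow p H) (M T : Subgroup H)
    (hMT : ∀ m ∈ M, ∀ t ∈ T, m * t * m⁻¹ ∈ T)
    (hTN : T ≤ Subgroup.normalizer ((P' : Subgroup H) : Set H)) (hpT : p ∣ Nat.card T) :
    ∃ R : Subgroup H, R ≠ ⊥ ∧ IsPGroup p R ∧ R ≤ T ∧ ∀ m ∈ M, ∀ r ∈ R, m * r * m⁻¹ ∈ R := by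
  refine ⟨(P' : Subgroup H) ⊓ T, ?_, P'.isPGroup'.to_le inf_le_left, inf_le_right, ?_⟩
  · obtain ⟨y, hy⟩ := exists_prime_orderOf_dvd_card' p hpT
    intro hbot
    have hyT : (y : H) ∈ T := y.2
    have hy' : orderOf (y : H) = p ^ 1 := by rw [Subgroup.orderOf_coe, hy, pow_one]
    have hyP := mem_of_mem_normalizer p P' (y : H) 1 hy' (hTN hyT)
    have : (y : H) ∈ (P' : Subgroup H) ⊓ T := Subgroup.mem_inf.mpr ⟨hyP, hyT⟩
    rw [hbot, Subgroup.mem_bot] at this
    rw [this, orderOf_one] at hy'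
    have hp : p.Prime := Fact.out
    rw [pow_one] at hy'
    exact hp.one_lt.ne hy'
  · intro m hm r hr
    obtain ⟨hrP, hrT⟩ := Subgroup.mem_inf.mp hr
    have h1 : m * r * m⁻¹ ∈ T := hMT m hm r hrT
    refine Subgroup.mem_inf.mpr ⟨?_, h1⟩
    obtain ⟨k, hk⟩ := (IsPGroup.iff_orderOf.mp P'.isPGroup') ⟨r, hrP⟩
    have hk' : orderOf (m * r * m⁻¹) = p ^ k := by
      have h2 : orderOf (m * r * m⁻¹) = orderOf r := by
        have := (MulAut.conj m).orderOf_eq r
        simpa using this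
      rw [h2, ← Subgroup.orderOf_mk r hrP]
      exact hk
    exact mem_of_mem_normalizer p P' _ k hk' (hTN h1)


/-- Every element of order `p` lies in some Sylow `p`-subgroup. -/
lemma exists_sylow_mem (x : H) (hx : orderOf x = p) : ∃ P' : Sylow p H, x ∈ P' := by
  have hR : IsPGroup p (Subgroup.zpowers x) := by
    apply IsPGroup.of_card (n := 1)
    rw [Nat.card_zpowers, hx, pow_one]
  obtain ⟨P', hP'⟩ := hR.exists_le_sylow
  exact ⟨P', hP' (Subgroup.mem_zpowers x)⟩

lemma ne_one_of_orderOf_eq (x : H) (hx : orderOf x = p) : x ≠ 1 := by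
  have hp : p.Prime := Fact.out
  intro h
  rw [h, orderOf_one] at hx
  exact hp.one_lt.ne hx

/-- Step 1: two nontrivial normal subgroups meet nontrivially. -/
lemma inf_ne_bot (hOp : Cfsg.pCore p H = ⊥) (hOp' : Cfsg.pPrimeCore p H = ⊥)
    (hTI : TI' (H := H) p) (K₁ K₂ : Subgroup H) (hK₁ : K₁.Normal) (hK₂ : K₂.Normal)
    (h1 : K₁ ≠ ⊥) (h2 : K₂ ≠ ⊥) : K₁ ⊓ K₂ ≠ ⊥ := by
  intro hbot
  have hp1 := dvd_card_of_normal p hOp' K₁ hK₁ h1
  have hp2 := dvd_card_of_normal p hOp' K₂ hK₂ h2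
  obtain ⟨x, hx⟩ := exists_prime_orderOf_dvd_card' p hp1
  have hx' : orderOf (x : H) = p := by rw [Subgroup.orderOf_coe, hx]
  obtain ⟨P', hxP'⟩ := exists_sylow_mem p (x : H) hx'
  have hK₂N : K₂ ≤ Subgroup.normalizer ((P' : Subgroup H) : Set H) := by
    intro t ht
    apply mem_normalizer_of_commute p hTI P' (x : H) hxP' (ne_one_of_orderOf_eq p _ hx') t
    have hc : t * (x : H) * t⁻¹ * (x : H)⁻¹ ∈ K₁ ⊓ K₂ := by
      refine Subgroup.mem_inf.mpr ⟨?_, ?_⟩
      · exact K₁.mul_mem (hK₁.conj_mem _ x.2 t) (K₁.inv_mem x.2)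
      · have : t * (x : H) * t⁻¹ * (x : H)⁻¹ = t * ((x : H) * t⁻¹ * (x : H)⁻¹) := by group
        rw [this]
        exact K₂.mul_mem ht (hK₂.conj_mem _ (K₂.inv_mem ht) x)
    rw [hbot, Subgroup.mem_bot, mul_inv_eq_one] at hc
    exact hc
  obtain ⟨R, hR1, hRp, hRT, hRn⟩ := exists_normalized_pSubgroup p P' ⊤ K₂
    (fun m _ t ht => hK₂.conj_mem t ht m) hK₂N hp2
  have hRnormal : R.Normal := ⟨fun r hr g => hRn g (Subgroup.mem_top g) r hr⟩
  apply hR1
  rw [eq_bot_iff, ← hOp]
  exact Helper55.le_pCore hRnormal hRp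

/-- Step 2: there is a nontrivial normal subgroup contained in every nontrivial normal
subgroup. -/
lemma exists_min_normal (hOp : Cfsg.pCore p H = ⊥) (hOp' : Cfsg.pPrimeCore p H = ⊥)
    (hTI : TI' (H := H) p) (hnt : (⊤ : Subgroup H) ≠ ⊥) :
    ∃ N : Subgroup H, N.Normal ∧ N ≠ ⊥ ∧ ∀ K : Subgroup H, K.Normal → K ≠ ⊥ → N ≤ K := by
  classical
  set 𝒮 : Set (Subgroup H) := {K | K.Normal ∧ K ≠ ⊥} with h𝒮
  have hfin : 𝒮.Finite := Set.toFinite 𝒮
  have hne : 𝒮.Nonempty := ⟨⊤, inferInstance, hnt⟩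
  obtain ⟨N, hN, hmin⟩ := Set.exists_min_image 𝒮 (fun K => Nat.card K) hfin hne
  refine ⟨N, hN.1, hN.2, ?_⟩
  intro K hK hK1
  have h1 : N ⊓ K ∈ 𝒮 := by
    refine ⟨?_, inf_ne_bot p hOp hOp' hTI N K hN.1 hK hN.2 hK1⟩
    have := hN.1
    infer_instance
  have h2 := hmin _ h1
  have h3 : N ⊓ K = N := Subgroup.eq_of_le_of_card_ge inf_le_left h2
  rw [← h3]
  exact inf_le_right


lemma normal_subgroupOf_of_normalized (S N : Subgroup H)
    (h : ∀ n ∈ N, ∀ m ∈ S, n * m * n⁻¹ ∈ S) : (S.subgroupOf N).Normal := by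
  constructor
  intro m hm n
  rw [Subgroup.mem_subgroupOf] at hm ⊢
  simp only [Subgroup.coe_mul, Subgroup.coe_inv]
  exact h n n.2 m hm

lemma card_subgroupOf_of_le (S N : Subgroup H) (h : S ≤ N) :
    Nat.card (S.subgroupOf N) = Nat.card S :=
  Nat.card_congr (Subgroup.subgroupOfEquivOfLe h).toEquiv

lemma eq_bot_of_subgroupOf_eq_bot (S N : Subgroup H) (h : S ≤ N) (hb : S.subgroupOf N = ⊥) :
    S = ⊥ := by
  rw [Subgroup.subgroupOf_eq_bot, disjoint_iff, inf_of_le_left h] at hb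
  exact hb

/-- Step 3 (core): a nontrivial subgroup of `N` normalized by `N` is `N`. -/
lemma eq_of_normalized (hOp : Cfsg.pCore p H = ⊥) (hOp' : Cfsg.pPrimeCore p H = ⊥)
    (hTI : TI' (H := H) p) (N : Subgroup H) (hNn : N.Normal)
    (hNmin : ∀ K : Subgroup H, K.Normal → K ≠ ⊥ → N ≤ K)
    (M : Subgroup H) (hMN : M ≤ N) (hMnorm : ∀ n ∈ N, ∀ m ∈ M, n * m * n⁻¹ ∈ M) (hM1 : M ≠ ⊥) :
    M = N := by
  classical
  have hp : p.Prime := Fact.out
  have := hNn
  have hOpN : Cfsg.pCore p N = ⊥ := by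
    have h1 := Helper55.pCore_map_le p N
    rw [hOp, le_bot_iff] at h1
    exact (Subgroup.map_eq_bot_iff_of_injective _ N.subtype_injective).mp h1
  have hOp'N : Cfsg.pPrimeCore p N = ⊥ := Helper55.pPrimeCore_eq_bot_of_normal p N hOp'
  set 𝒮 : Set (Subgroup H) :=
    {S | S ≤ N ∧ (∀ n ∈ N, ∀ m ∈ S, n * m * n⁻¹ ∈ S) ∧ S ≠ ⊥} with h𝒮
  have hfin : 𝒮.Finite := Set.toFinite 𝒮
  have hne : 𝒮.Nonempty := ⟨M, hMN, hMnorm, hM1⟩
  obtain ⟨S, hS, hmin⟩ := Set.exists_min_image 𝒮 (fun K => Nat.card K) hfin hne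
  obtain ⟨hSN, hSnorm, hS1⟩ := hS
  suffices hSeq : S = N by
    have h1 := hmin M ⟨hMN, hMnorm, hM1⟩
    rw [hSeq] at h1
    exact Subgroup.eq_of_le_of_card_ge hMN h1
  by_contra hSne
  -- (a) some conjugate of S differs from S
  have hex : ∃ g : H, MulAut.conj g • S ≠ S := by
    by_contra hall
    push Not at hall
    have hSnormal : S.Normal := by
      constructor
      intro s hs g
      have := Subgroup.smul_mem_pointwise_smul s (MulAut.conj g) S hs
      rw [hall g] at this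
      simpa [MulAut.smul_def] using this
    exact hSne (le_antisymm hSN (hNmin S hSnormal hS1))
  obtain ⟨g, hg⟩ := hex
  set T := MulAut.conj g • S with hT
  have hTmem : ∀ y, y ∈ T ↔ ∃ s ∈ S, y = g * s * g⁻¹ := by
    intro y
    rw [hT, Subgroup.mem_pointwise_smul_iff_inv_smul_mem]
    constructor
    · intro h
      refine ⟨_, h, ?_⟩
      simp [MulAut.smul_def, mul_assoc]
    · rintro ⟨s, hs, rfl⟩
      have : (MulAut.conj g)⁻¹ • (g * s * g⁻¹) = s := by simp [MulAut.smul_def, mul_assoc]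
      rw [this]; exact hs
  have hTcard : Nat.card T = Nat.card S :=
    (Nat.card_congr (Subgroup.equivSMul (MulAut.conj g) S).toEquiv).symm
  have hTN : T ≤ N := by
    intro y hy
    obtain ⟨s, hs, rfl⟩ := (hTmem y).mp hy
    exact hNn.conj_mem s (hSN hs) g
  have hTnorm : ∀ n ∈ N, ∀ m ∈ T, n * m * n⁻¹ ∈ T := by
    intro n hn y hy
    obtain ⟨s, hs, rfl⟩ := (hTmem y).mp hy
    rw [hTmem]
    refine ⟨(g⁻¹ * n * g) * s * (g⁻¹ * n * g)⁻¹, hSnorm _ ?_ s hs, by group⟩
    have := hNn.conj_mem n hn g⁻¹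
    simpa using this
  -- (c) S ⊓ T = ⊥
  have hST : S ⊓ T = ⊥ := by
    by_contra hne'
    have h1 : S ⊓ T ∈ 𝒮 := by
      refine ⟨inf_le_left.trans hSN, ?_, hne'⟩
      intro n hn m hm
      obtain ⟨hm1, hm2⟩ := Subgroup.mem_inf.mp hm
      exact Subgroup.mem_inf.mpr ⟨hSnorm n hn m hm1, hTnorm n hn m hm2⟩
    have h2 := hmin _ h1
    have h3 : S ⊓ T = S := Subgroup.eq_of_le_of_card_ge inf_le_left h2
    have h4 : S ≤ T := by rw [← h3]; exact inf_le_right
    have h5 : S = T := Subgroup.eq_of_le_of_card_ge h4 hTcard.le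
    exact hg h5.symm
  -- (d) p divides |S|
  have hpS : p ∣ Nat.card S := by
    by_contra h
    apply hS1
    apply eq_bot_of_subgroupOf_eq_bot S N hSN
    rw [eq_bot_iff, ← hOp'N]
    apply Helper55.le_pPrimeCore (normal_subgroupOf_of_normalized S N hSnorm)
    rw [card_subgroupOf_of_le S N hSN]
    exact ((Nat.Prime.coprime_iff_not_dvd hp).mpr h).symm
  -- (e)
  obtain ⟨x, hx⟩ := exists_prime_orderOf_dvd_card' p hpS
  have hx' : orderOf (x : H) = p := by rw [Subgroup.orderOf_coe, hx]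
  obtain ⟨P', hxP'⟩ := exists_sylow_mem p (x : H) hx'
  have hTNP : T ≤ Subgroup.normalizer ((P' : Subgroup H) : Set H) := by
    intro t ht
    apply mem_normalizer_of_commute p hTI P' (x : H) hxP' (ne_one_of_orderOf_eq p _ hx') t
    have hc : t * (x : H) * t⁻¹ * (x : H)⁻¹ ∈ S ⊓ T := by
      refine Subgroup.mem_inf.mpr ⟨?_, ?_⟩
      · exact S.mul_mem (hSnorm t (hTN ht) x x.2) (S.inv_mem x.2)
      · have : t * (x : H) * t⁻¹ * (x : H)⁻¹ = t * ((x : H) * t⁻¹ * (x : H)⁻¹) := by group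
        rw [this]
        exact T.mul_mem ht (hTnorm x (hSN x.2) _ (T.inv_mem ht))
    rw [hST, Subgroup.mem_bot, mul_inv_eq_one] at hc
    exact hc
  -- (f)
  obtain ⟨R, hR1, hRp, hRT, hRn⟩ := exists_normalized_pSubgroup p P' N T hTnorm hTNP
    (by rw [hTcard]; exact hpS)
  apply hR1
  apply eq_bot_of_subgroupOf_eq_bot R N (hRT.trans hTN)
  rw [eq_bot_iff, ← hOpN]
  apply Helper55.le_pCore (normal_subgroupOf_of_normalized R N hRn)
  exact hRp.comap_subtype


/-- Let H be a finite group with no nontrivial normal p-subgroup and no nontrivial normal subgroup of order prime to p, whose Sylow p-subgroup P is nontrivial and a trivial-intersection set (P meets its conjugates by elements outside N_H(P) trivially). Then H has a unique minimal normal subgroup N; N is non-abelian simple with trivial centralizer in H (so H embeds in Aut(N)), and a Sylow p-subgroup of N is again a nontrivial trivial-intersection set in N. -/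
theorem result {H : Type*} [Group H] [Finite H] (p : ℕ) [Fact p.Prime] (hOp : Cfsg.pCore p H = ⊥) (hOp' : Cfsg.pPrimeCore p H = ⊥) (P : Sylow p H) (hP1 : (P : Subgroup H) ≠ ⊥)
    (hTI : ∀ g : H, g ∉ Subgroup.normalizer ((P : Subgroup H) : Set H) → (P : Subgroup H) ⊓ (MulAut.conj g • (P : Subgroup H)) = ⊥) :
    ∃ N : Subgroup H, N.Normal ∧ N ≠ ⊥ ∧ (∀ K : Subgroup H, K.Normal → K ≠ ⊥ → N ≤ K) ∧
      IsSimpleGroup N ∧ ¬ IsMulCommutative N ∧ Subgroup.centralizer (N : Set H) = ⊥ ∧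
      ∀ Q : Sylow p N, (Q : Subgroup N) ≠ ⊥ ∧
        ∀ n : N, n ∉ Subgroup.normalizer ((Q : Subgroup N) : Set N) → (Q : Subgroup N) ⊓ (MulAut.conj n • (Q : Subgroup N)) = ⊥ := by
  have hp : p.Prime := Fact.out
  have hTI' := ti'_of_ti p P hTI
  have hnt : (⊤ : Subgroup H) ≠ ⊥ := by
    intro h
    apply hP1
    rw [eq_bot_iff, ← h]
    exact le_top
  obtain ⟨N, hNn, hN1, hNmin⟩ := exists_min_normal p hOp hOp' hTI' hnt
  have hpN : p ∣ Nat.card N := dvd_card_of_normal p hOp' N hNn hN1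
  have hsimple : IsSimpleGroup N := by
    have hNnt : Nontrivial N := (Subgroup.nontrivial_iff_ne_bot N).mpr hN1
    refine ⟨fun M₀ hM₀ => ?_⟩
    by_cases h : M₀ = ⊥
    · left; exact h
    · right
      set M := M₀.map N.subtype with hM
      have hMN : M ≤ N := Subgroup.map_subtype_le M₀
      have hMnorm : ∀ n ∈ N, ∀ m ∈ M, n * m * n⁻¹ ∈ M := by
        rintro n hn _ ⟨m, hm, rfl⟩
        exact ⟨⟨n, hn⟩ * m * ⟨n, hn⟩⁻¹, hM₀.conj_mem m hm ⟨n, hn⟩, by simp⟩
      have hM1 : M ≠ ⊥ := by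
        intro hb
        apply h
        exact (Subgroup.map_eq_bot_iff_of_injective _ N.subtype_injective).mp hb
      have hMeq := eq_of_normalized p hOp hOp' hTI' N hNn hNmin M hMN hMnorm hM1
      rw [eq_top_iff]
      intro y _
      have hy : (y : H) ∈ M := by rw [hMeq]; exact y.2
      obtain ⟨m, hm, hmy⟩ := hy
      have : m = y := Subtype.ext hmy
      rw [← this]; exact hm
  have hnc : ¬ IsMulCommutative N := by
    intro hc
    obtain ⟨x, hx⟩ := exists_prime_orderOf_dvd_card' p hpN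
    have hx' : orderOf (x : H) = p := by rw [Subgroup.orderOf_coe, hx]
    set M := Subgroup.zpowers (x : H) with hM
    have hMN : M ≤ N := by rw [hM, Subgroup.zpowers_le]; exact x.2
    have hMnorm : ∀ n ∈ N, ∀ m ∈ M, n * m * n⁻¹ ∈ M := by
      intro n hn m hm
      have h1 := mul_comm' (⟨n, hn⟩ : N) ⟨m, hMN hm⟩
      have h2 : n * m = m * n := by simpa using congrArg Subtype.val h1
      rw [h2, mul_inv_cancel_right]
      exact hm
    have hM1 : M ≠ ⊥ := by
      intro hb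
      have : (x : H) ∈ M := Subgroup.mem_zpowers _
      rw [hb, Subgroup.mem_bot] at this
      exact ne_one_of_orderOf_eq p _ hx' this
    have hMeq := eq_of_normalized p hOp hOp' hTI' N hNn hNmin M hMN hMnorm hM1
    have hNp : IsPGroup p N := by
      apply IsPGroup.of_card (n := 1)
      rw [← hMeq, hM, Nat.card_zpowers, hx', pow_one]
    apply hN1
    rw [eq_bot_iff, ← hOp]
    exact Helper55.le_pCore hNn hNp
  have hcent : Subgroup.centralizer (N : Set H) = ⊥ := by
    by_contra hne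
    have := hNn
    have hCn : (Subgroup.centralizer (N : Set H)).Normal := inferInstance
    have hNC := hNmin _ hCn hne
    apply hnc
    rw [isMulCommutative_iff]
    intro a b
    apply Subtype.ext
    simp only [Subgroup.coe_mul]
    have := hNC a.2
    rw [Subgroup.mem_centralizer_iff] at this
    exact (this b b.2).symm
  refine ⟨N, hNn, hN1, hNmin, hsimple, hnc, hcent, ?_⟩
  intro Q
  constructor
  · exact Q.ne_bot_of_dvd_card hpN
  · intro n hn
    obtain ⟨P', hQP'⟩ := (Q.isPGroup'.map N.subtype).exists_le_sylow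
    have hconv : ∀ y : N, y ∈ (Q : Subgroup N) → (y : H) ∈ (P' : Subgroup H) :=
      fun y hy => hQP' ⟨y, hy, rfl⟩
    have hclaim : ∀ y : N, (y : H) ∈ (P' : Subgroup H) → y ∈ (Q : Subgroup N) := by
      intro y hy
      set Q₂ : Subgroup N := (P' : Subgroup H).subgroupOf N with hQ₂
      have hQ₂p : IsPGroup p Q₂ := P'.isPGroup'.comap_subtype
      have hQQ₂ : (Q : Subgroup N) ≤ Q₂ := by
        intro z hz
        rw [hQ₂, Subgroup.mem_subgroupOf]
        exact hconv z hz
      have h1 := Q.is_maximal' hQ₂p hQQ₂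
      rw [← h1, hQ₂, Subgroup.mem_subgroupOf]
      exact hy
    have hnN : (n : H) ∉ Subgroup.normalizer ((P' : Subgroup H) : Set H) := by
      intro h
      apply hn
      rw [Subgroup.mem_normalizer_iff] at h ⊢
      intro y
      constructor
      · intro hy
        apply hclaim
        have := (h (y : H)).mp (hconv y hy)
        simpa using this
      · intro hy
        apply hclaim
        have h2 := hconv _ hy
        simp only [Subgroup.coe_mul, Subgroup.coe_inv] at h2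
        exact (h (y : H)).mpr h2
    rw [mem_norm_iff] at hnN
    have hdis := hTI' P' ((n : H) • P') (fun h => hnN h.symm)
    rw [eq_bot_iff]
    intro y hy
    obtain ⟨hy1, hy2⟩ := Subgroup.mem_inf.mp hy
    rw [Subgroup.mem_pointwise_smul_iff_inv_smul_mem] at hy2
    have h1 : (y : H) ∈ (P' : Subgroup H) := hconv y hy1
    have h2 : (y : H) ∈ (((n : H) • P' : Sylow p H) : Subgroup H) := by
      rw [Sylow.coe_subgroup_smul, Subgroup.mem_pointwise_smul_iff_inv_smul_mem]
      have h3 := hconv _ hy2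
      simpa [MulAut.smul_def] using h3
    have h3 : (y : H) ∈ (P' : Subgroup H) ⊓ (((n : H) • P' : Sylow p H) : Subgroup H) :=
      Subgroup.mem_inf.mpr ⟨h1, h2⟩
    rw [hdis, Subgroup.mem_bot] at h3
    rw [Subgroup.mem_bot]
    exact Subtype.ext h3

end Cfsg.Agent.S4620
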