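import Cfsg.Statements.S4626
import Cfsg.Agent.Lib.Helper79.Inflation
import Cfsg.Agent.Lib.Helper77.LocalRing
-- import your own Cfsg.Agent.* helpers here

set_option autoImplicit false
open Cfsg

namespace Cfsg.Agent.S4626

open Cfsg.Agent.Helper77 Cfsg.Agent.Helper79

/-- If the centralizer of `g` has index prime to `p`, then some conjugate of `g` centralizes the
Sylow `p`-subgroup `P`; hence `g` lies in any normal subgroup containing `C_G(P)`. -/
theorem mem_of_not_dvd_index_centralizer {G : Type*} [Group G] [Finite G] (p : ℕ) [Fact p.Prime]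
    (P : Sylow p G) (N : Subgroup G) [N.Normal]
    (hC : Subgroup.centralizer ((P : Subgroup G) : Set G) ≤ N) (g : G)
    (hg : ¬ p ∣ (Subgroup.centralizer ({g} : Set G)).index) : g ∈ N := by
  have hP : IsPGroup p (P : Subgroup G) := P.isPGroup'
  have hcard : ¬ p ∣ Nat.card (G ⧸ Subgroup.centralizer ({g} : Set G)) := hg
  obtain ⟨a, ha⟩ := hP.nonempty_fixed_point_of_prime_not_dvd_card
    (G ⧸ Subgroup.centralizer ({g} : Set G)) hcard
  obtain ⟨x, rfl⟩ := QuotientGroup.mk_surjective a
  -- x g x⁻¹ centralizes P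
  have hx : x * g * x⁻¹ ∈ Subgroup.centralizer ((P : Subgroup G) : Set G) := by
    rw [Subgroup.mem_centralizer_iff]
    intro s hs
    have h1 := ha ⟨s, hs⟩
    have h2 : ((s * x : G) : G ⧸ Subgroup.centralizer ({g} : Set G)) = (x : G ⧸ _) := h1
    rw [eq_comm, QuotientGroup.eq] at h2
    rw [Subgroup.mem_centralizer_iff] at h2
    have h3 := h2 g (Set.mem_singleton g)
    -- h3 : g * (x⁻¹ * (s * x)) = x⁻¹ * (s * x) * g
    have h4 : x * (g * (x⁻¹ * (s * x))) * x⁻¹ = x * (x⁻¹ * (s * x) * g) * x⁻¹ := by rw [h3]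
    calc s * (x * g * x⁻¹) = x * (x⁻¹ * (s * x) * g) * x⁻¹ := by group
      _ = x * (g * (x⁻¹ * (s * x))) * x⁻¹ := h4.symm
      _ = x * g * x⁻¹ * s := by group
  have hN : x * g * x⁻¹ ∈ N := hC hx
  have := ‹N.Normal›.conj_mem _ hN x⁻¹
  simpa [mul_assoc] using this

/-- the degree of an irreducible character with `N` in its kernel is prime to `p` when `|G:N|` is -/
theorem not_dvd_degree {G : Type*} [Group G] [Finite G] (p : ℕ) (N : Subgroup G) [N.Normal]
    (hidx : ¬ p ∣ N.index) (χ : Cfsg.IrrCharacter G)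
    (hker : ∀ n ∈ N, (χ : G → ℂ) n = (χ : G → ℂ) 1) : ¬ p ∣ charDegree (χ : G → ℂ) := by
  have hle : N ≤ irrKer χ := fun n hn => (mem_irrKer χ n).2 (hker n hn)
  obtain ⟨ψ, hψ⟩ := exists_deflate N χ hle
  intro hdvd
  apply hidx
  have h1 : charDegree (χ : G → ℂ) = charDegree (ψ : G ⧸ N → ℂ) := by
    rw [← hψ, charDegree_inflate]
  have h2 : charDegree (ψ : G ⧸ N → ℂ) ∣ Nat.card (G ⧸ N) := irr_degree_dvd_card ψ
  rw [h1] at hdvd
  exact dvd_trans hdvd h2

/-- Let G be a finite group, p a prime, M a maximal ideal of the algebraic integers containing p, P a Sylow p-subgroup of G and N a normal subgroup of index prime to p containing the centralizer C_G(P). Then every irreducible character of G whose kernel contains N lies in the principal p-block of G. -/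
theorem result {G : Type*} [Group G] [Finite G] (p : ℕ) [Fact p.Prime] (M : Ideal Cfsg.AlgInt) (hM : Cfsg.IsPModular p M) (P : Sylow p G) (N : Subgroup G) [N.Normal] (hidx : ¬ p ∣ N.index)
    (hC : Subgroup.centralizer ((P : Subgroup G) : Set G) ≤ N) (χ : Cfsg.IrrCharacter G) (hker : ∀ n ∈ N, (χ : G → ℂ) n = (χ : G → ℂ) 1) :
    χ ∈ Cfsg.principalBlock M G := by
  have : M.IsPrime := isPrime_of_isPModular hM
  have hMtop : M ≠ ⊤ := ne_top_of_isPModular hM
  have hχ1 := (irr_one_eq χ).1
  have hχ1ne : (χ : G → ℂ) 1 ≠ 0 := irr_one_ne_zero χ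
  have hdeg : ¬ p ∣ charDegree (χ : G → ℂ) := not_dvd_degree p N hidx χ hker
  show SameBlock M (fun _ : G => (1 : ℂ)) (χ : G → ℂ)
  intro g
  unfold centralChar
  by_cases hg : g ∈ N
  · rw [hker g hg]
    have : ((Subgroup.centralizer ({g} : Set G)).index : ℂ) * 1 / 1 -
        ((Subgroup.centralizer ({g} : Set G)).index : ℂ) * (χ : G → ℂ) 1 / (χ : G → ℂ) 1 = 0 := by
      field_simp
      ring
    rw [this]
    exact memLocalIdeal_zero hMtop
  · have hp : p ∣ (Subgroup.centralizer ({g} : Set G)).index := by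
      by_contra h
      exact hg (mem_of_not_dvd_index_centralizer p P N hC g h)
    have hidxI : MemLocalIdeal M ((Subgroup.centralizer ({g} : Set G)).index : ℂ) :=
      (memLocalIdeal_natCast_iff hM _).2 hp
    have hχg : MemLocalRing M ((χ : G → ℂ) g) :=
      memLocalRing_algInt hMtop ⟨(χ : G → ℂ) g, irr_isIntegral χ g⟩
    have hdegR : MemLocalRing M ((χ : G → ℂ) 1) := by
      rw [hχ1]; exact memLocalRing_natCast _
    have hdegNI : ¬ MemLocalIdeal M ((χ : G → ℂ) 1) := by
      rw [hχ1, memLocalIdeal_natCast_iff hM]; exact hdeg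
    have hinv : MemLocalRing M ((χ : G → ℂ) 1)⁻¹ := memLocalRing_inv hdegR hdegNI
    have hfac : MemLocalRing M (1 - (χ : G → ℂ) g * ((χ : G → ℂ) 1)⁻¹) :=
      memLocalRing_sub (memLocalRing_one hMtop) (memLocalRing_mul hχg hinv)
    have := memLocalIdeal_mul_right hidxI hfac
    have heq : ((Subgroup.centralizer ({g} : Set G)).index : ℂ) * 1 / 1 -
        ((Subgroup.centralizer ({g} : Set G)).index : ℂ) * (χ : G → ℂ) g / (χ : G → ℂ) 1 =
        ((Subgroup.centralizer ({g} : Set G)).index : ℂ) *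
          (1 - (χ : G → ℂ) g * ((χ : G → ℂ) 1)⁻¹) := by
      field_simp
    rw [heq]
    exact this

end Cfsg.Agent.S4626
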