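import Cfsg.Statements.S4633
-- import your own Cfsg.Agent.* helpers here
import Cfsg.Agent.Lib.Helper76.CycAut
import Cfsg.Agent.Lib.Helper74.Klein1
import Cfsg.Agent.Lib.Helper77.Inertial
import Cfsg.Agent.Lib.Helper77.AbelianDefect
import Cfsg.Agent.Lib.Helper77.PairConjugacy

set_option autoImplicit false
set_option linter.style.haveILetI false
open Cfsg

namespace Cfsg.Agent.S4633

/-- Let B be a block of the finite group G relative to a maximal ideal M of the algebraic integers containing the prime p, with a nontrivial cyclic defect group P. Let c be a block of C_G(P) inducing B and T the stabilizer of c in N_G(P) (the elements of N_G(P) conjugating c to itself); T contains C_G(P). Then T/C_G(P) is cyclic of order dividing p − 1, and it acts freely on the non-identity elements of P: an element of T fixing some non-identity element of P under conjugation lies in C_G(P). -/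
theorem result {G : Type*} [Group G] [Finite G] (p : ℕ) [Fact p.Prime] (M : Ideal Cfsg.AlgInt) (hM : Cfsg.IsPModular p M) (B : Set (Cfsg.IrrCharacter G)) (hB : Cfsg.IsPBlock M B) (P : Subgroup G) (hPD : Cfsg.IsDefectGroup p M B P) (hP1 : P ≠ ⊥) (hcyc : IsCyclic P) (c : Set (Cfsg.IrrCharacter (Subgroup.centralizer (P : Set G)))) (hc : Cfsg.IsInducedBlock M (Subgroup.centralizer (P : Set G)) c B) (T : Subgroup G) (hT : ∀ g : G, g ∈ T ↔ (g ∈ Subgroup.normalizer (P : Set G) ∧ Cfsg.StabilizesBlock (Subgroup.centralizer (P : Set G)) c g)) [hn : ((Subgroup.centralizer (P : Set G)).subgroupOf T).Normal] : IsCyclic (T ⧸ (Subgroup.centralizer (P : Set G)).subgroupOf T) ∧ (Subgroup.centralizer (P : Set G)).relIndex T ∣ p - 1 ∧ ∀ g ∈ T, ∀ x ∈ P, x ≠ 1 → g * x * g⁻¹ = x → g ∈ Subgroup.centralizer (P : Set G) := by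
  classical
  haveI : Fintype G := Fintype.ofFinite G
  haveI : Fintype (Subgroup.centralizer (P : Set G)) := Fintype.ofFinite _
  have hPp : IsPGroup p P := by
    obtain ⟨g, hg, S, rfl⟩ := hPD
    exact Cfsg.Agent.Helper77.sylow_map_isPGroup g S
  have hPab : P ≤ Subgroup.centralizer (P : Set G) := by
    intro x hx
    rw [Subgroup.mem_centralizer_iff]
    intro y hy
    letI : CommGroup P := IsCyclic.commGroup
    have h0 := mul_comm (⟨y, hy⟩ : P) ⟨x, hx⟩
    exact congrArg Subtype.val h0
  have hpair : IsBrauerPairOf p M B P c :=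
    Cfsg.Agent.Helper74.KL.isBrauerPairOf_of_isInducedBlock hM P hPp hPab hc
  obtain ⟨P', e', hmax, hle⟩ :=
    Cfsg.Agent.Helper77.exists_maximal_above (p := p) (M := M) B _ P c hpair rfl
  have hP'D := Cfsg.Agent.Helper77.isDefectGroup_of_isMaximalBrauerPair hM hmax
  have hcard := Cfsg.Agent.Helper77.card_eq_of_isDefectGroup hM hB hPD hP'D
  have hmaxP := Cfsg.Agent.Helper77.isMaximalBrauerPair_of_card_eq hM hmax hpair hcard
  have hTN : T ≤ Subgroup.normalizer (P : Set G) := fun g hg => ((hT g).mp hg).1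
  have hH : ∀ y ∈ T, ∀ k : ℕ, y ^ (p ^ k) = 1 → y ∈ Subgroup.centralizer (P : Set G) := by
    intro y hy k hyk
    have h1 := Cfsg.Agent.Helper77.mem_sup_centralizer_of_isMaximalBrauerPair hM hmaxP
      ((hT y).mp hy).1 ((hT y).mp hy).2 hyk
    rwa [sup_eq_right.mpr hPab] at h1
  exact Cfsg.Agent.Helper76.CycAut.main p P T hPp hP1 hcyc hTN hH

end Cfsg.Agent.S4633
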