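import Cfsg.Statements.S4636

set_option autoImplicit false
open scoped Pointwise
open Cfsg

namespace Cfsg.Agent.S4636

variable {G : Type*} [Group G] [Finite G]

lemma mem_iff_of_card (p : ℕ) [Fact p.Prime] (P : Subgroup G) (hcyc : IsCyclic P)
    (Z : Subgroup G) (hZ : Z ≤ P) (hZcard : Nat.card Z = p) (x : G) :
    x ∈ Z ↔ x ∈ P ∧ x ^ p = 1 := by
  classical
  have := Fintype.ofFinite P
  constructor
  · intro hx
    refine ⟨hZ hx, ?_⟩
    have : (⟨x, hx⟩ : Z) ^ p = 1 := by
      rw [← hZcard]; exact pow_card_eq_one'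
    simpa using congrArg Subtype.val this
  · rintro ⟨hxP, hxp⟩
    have hp : 0 < p := (Fact.out : p.Prime).pos
    have hle := IsCyclic.card_pow_eq_one_le (α := P) hp
    set S : Finset P := Finset.univ.filter (fun a : P => a ^ p = 1) with hS
    let T : Finset P := Finset.univ.filter (fun a : P => (a : G) ∈ Z)
    have hTS : T ⊆ S := by
      intro a ha
      simp only [T, Finset.mem_filter, Finset.mem_univ, true_and] at ha
      simp only [hS, Finset.mem_filter, Finset.mem_univ, true_and]
      have : (⟨a, ha⟩ : Z) ^ p = 1 := by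
        rw [← hZcard]; exact pow_card_eq_one'
      have h2 := congrArg Subtype.val this
      apply Subtype.ext
      simpa using h2
    have hTcard : T.card = p := by
      rw [← hZcard]
      have : Nat.card Z = Nat.card (Z.subgroupOf P) :=
        Nat.card_congr (Subgroup.subgroupOfEquivOfLe hZ).symm.toEquiv
      rw [this, Nat.card_eq_fintype_card]
      rw [Fintype.card_subtype]
      rfl
    have hST : S = T := by
      symm
      apply Finset.eq_of_subset_of_card_le hTS
      rw [hTcard]; exact hle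
    have hxS : (⟨x, hxP⟩ : P) ∈ S := by
      simp only [hS, Finset.mem_filter, Finset.mem_univ, true_and]
      apply Subtype.ext
      simpa using hxp
    rw [hST] at hxS
    simpa [T] using hxS

lemma eq_of_card (p : ℕ) [Fact p.Prime] (P : Subgroup G) (hcyc : IsCyclic P)
    (Z Z' : Subgroup G) (hZ : Z ≤ P) (hZcard : Nat.card Z = p) (hZ' : Z' ≤ P)
    (hZ'card : Nat.card Z' = p) : Z = Z' := by
  ext x
  rw [mem_iff_of_card p P hcyc Z hZ hZcard, mem_iff_of_card p P hcyc Z' hZ' hZ'card]

lemma le_of_ne_bot (p : ℕ) [Fact p.Prime] (P : Subgroup G) (hP : IsPGroup p P) (hcyc : IsCyclic P)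
    (Z : Subgroup G) (hZ : Z ≤ P) (hZcard : Nat.card Z = p) (R : Subgroup G) (hR : R ≤ P)
    (hR1 : R ≠ ⊥) : Z ≤ R := by
  have hRp : IsPGroup p R := hP.to_le hR
  have : Nontrivial R := (Subgroup.nontrivial_iff_ne_bot R).mpr hR1
  obtain ⟨n, hn0, hn⟩ := hRp.nontrivial_iff_card.mp inferInstance
  have hdvd : p ∣ Nat.card R := by
    rw [hn]; exact dvd_pow_self p (by omega)
  obtain ⟨r, hr⟩ := exists_prime_orderOf_dvd_card' p hdvd
  have h1 : Nat.card (Subgroup.zpowers (r : G)) = p := by
    rw [Nat.card_zpowers, Subgroup.orderOf_coe, hr]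
  have h2 : Subgroup.zpowers (r : G) ≤ R := by
    rw [Subgroup.zpowers_le]; exact r.2
  have := eq_of_card p P hcyc Z (Subgroup.zpowers (r : G)) hZ hZcard (h2.trans hR) h1
  rw [this]; exact h2

lemma conj_eq (p : ℕ) [Fact p.Prime] (P : Subgroup G) (hcyc : IsCyclic P)
    (Z : Subgroup G) (hZcard : Nat.card Z = p) (x : G) (h1 : Z ≤ P) (h2 : MulAut.conj x • Z ≤ P) :
    MulAut.conj x • Z = Z := by
  apply eq_of_card p P hcyc _ _ h2 _ h1 hZcard
  rw [← hZcard]
  exact Nat.card_congr (Subgroup.equivSMul (MulAut.conj x) Z).symm.toEquiv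

omit [Finite G] in
lemma mem_normalizer_of_smul_eq (Z : Subgroup G) (x : G) (h : MulAut.conj x • Z = Z) :
    x ∈ Subgroup.normalizer (Z : Set G) := by
  rw [Subgroup.mem_normalizer_iff]
  intro y
  constructor
  · intro hy
    have := Subgroup.smul_mem_pointwise_smul y (MulAut.conj x) Z hy
    rw [h] at this
    simpa [MulAut.smul_def] using this
  · intro hy
    rw [← h, Subgroup.mem_pointwise_smul_iff_inv_smul_mem] at hy
    simpa [MulAut.smul_def, mul_assoc] using hy

/-- Let P be a nontrivial cyclic p-subgroup of the finite group G and Z its subgroup of order p. For every x outside N_G(Z), P meets its conjugate xPx⁻¹ trivially; consequently N_G(Q) ≤ N_G(Z) for every nontrivial subgroup Q of P. -/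
theorem result {G : Type*} [Group G] [Finite G] (p : ℕ) [Fact p.Prime] (P : Subgroup G) (hP : IsPGroup p P) (hP1 : P ≠ ⊥) (hcyc : IsCyclic P) (Z : Subgroup G) (hZ : Z ≤ P) (hZcard : Nat.card Z = p) : (∀ x : G, x ∉ Subgroup.normalizer (Z : Set G) → P ⊓ MulAut.conj x • P = ⊥) ∧ ∀ Q : Subgroup G, Q ≤ P → Q ≠ ⊥ → Subgroup.normalizer (Q : Set G) ≤ Subgroup.normalizer (Z : Set G) := by
  constructor
  · intro x hx
    by_contra hne
    apply hx
    have hZR : Z ≤ P ⊓ MulAut.conj x • P :=
      le_of_ne_bot p P hP hcyc Z hZ hZcard _ inf_le_left hne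
    have hcyc' : IsCyclic (MulAut.conj x • P : Subgroup G) :=
      (Subgroup.equivSMul (MulAut.conj x) P).isCyclic.mp hcyc
    apply mem_normalizer_of_smul_eq
    apply conj_eq p (MulAut.conj x • P) hcyc' Z hZcard x (hZR.trans inf_le_right)
    exact Subgroup.pointwise_smul_le_pointwise_smul_iff.mpr hZ
  · intro Q hQ hQ1 g hg
    apply mem_normalizer_of_smul_eq
    have hZQ : Z ≤ Q := le_of_ne_bot p P hP hcyc Z hZ hZcard Q hQ hQ1
    apply conj_eq p P hcyc Z hZcard g hZ
    have hgQ : MulAut.conj g • Q = Q := by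
      ext y
      rw [Subgroup.mem_pointwise_smul_iff_inv_smul_mem]
      rw [Subgroup.mem_normalizer_iff] at hg
      have h3 := hg (g⁻¹ * y * g)
      have h4 : (MulAut.conj g)⁻¹ • y = g⁻¹ * y * g := by simp [MulAut.smul_def]
      rw [h4, h3]
      simp [mul_assoc]
    calc MulAut.conj g • Z ≤ MulAut.conj g • Q := Subgroup.pointwise_smul_le_pointwise_smul_iff.mpr hZQ
      _ = Q := hgQ
      _ ≤ P := hQ

end Cfsg.Agent.S4636
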