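import Cfsg.Statements.S4640
import Mathlib
import Cfsg.Agent.Lib.Helper74.PIndexAb2
import Cfsg.Agent.Lib.Helper74.PIndexAb3

set_option autoImplicit false
open Cfsg

namespace Cfsg.Agent.S4640

/-- Let N be a normal subgroup of the finite group G of index a power of the prime p, M a maximal ideal of the algebraic integers containing p, b a block of N stabilized by every element of G, and B a block of G covering b (some member of B has a member of b as a constituent of its restriction to N). Suppose that B has a commutative defect group P. Then G = NP and P ∩ N is a defect group of b; every member of B restricts to a member of b; every member of b is the restriction of exactly [G : N] members of B; B contains exactly [G : N] times as many irreducible characters as b; and B and b have the same p-regular rank. -/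
theorem result {G : Type*} [Group G] [Fintype G] (p : ℕ) [Fact p.Prime] (M : Ideal Cfsg.AlgInt) (hM : Cfsg.IsPModular p M) (N : Subgroup G) [N.Normal] [Fintype N] (hNi : ∃ k : ℕ, N.index = p ^ k) (b : Set (Cfsg.IrrCharacter N)) (hb : Cfsg.IsPBlock M b) (hstab : ∀ g : G, Cfsg.StabilizesBlock N b g) (B : Set (Cfsg.IrrCharacter G)) (hB : Cfsg.IsPBlock M B) (hcov : ∃ χ ∈ B, ∃ θ ∈ b, Cfsg.classInner (fun n : N => (χ : G → ℂ) n) (θ : N → ℂ) ≠ 0) (P : Subgroup G) (hPD : Cfsg.IsDefectGroup p M B P) (hPab : ∀ x ∈ P, ∀ y ∈ P, x * y = y * x) : N ⊔ P = ⊤ ∧ Cfsg.IsDefectGroup p M b ((P ⊓ N).subgroupOf N) ∧ (∀ χ ∈ B, ∃ θ ∈ b, ∀ n : N, (χ : G → ℂ) n = (θ : N → ℂ) n) ∧ (∀ θ ∈ b, Nat.card {χ : Cfsg.IrrCharacter G // χ ∈ B ∧ ∀ n : N, (χ : G → ℂ) n = (θ : N → ℂ) n} = N.index) ∧ Nat.card B = N.index * Nat.card b ∧ Cfsg.blockRank p B = Cfsg.blockRank p b := by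
  classical
  have hBc := Cfsg.Agent.Helper74.PIA.blockCoeff_eq_of_cover hM N hNi hb hstab hB hcov
  obtain ⟨hNP, hdef⟩ := Cfsg.Agent.Helper77.pIndex_defect hM N hNi hb hstab hB hBc hPD
  have hrep : ∀ x : G, ∃ x₁ ∈ P, (x : G ⧸ N) = (x₁ : G ⧸ N) := by
    intro x
    have hx : x ∈ ((N ⊔ P : Subgroup G) : Set G) := by
      rw [hNP]
      exact Set.mem_univ _
    rw [Subgroup.normal_mul] at hx
    obtain ⟨n, hn, x₁, hx₁, rfl⟩ := Set.mem_mul.mp hx
    refine ⟨x₁, hx₁, ?_⟩
    rw [QuotientGroup.mk_mul, (QuotientGroup.eq_one_iff n).mpr hn, one_mul]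
  have hcomm : ∀ a b : G ⧸ N, a * b = b * a := by
    intro a b
    induction a using QuotientGroup.induction_on with
    | H x =>
      induction b using QuotientGroup.induction_on with
      | H y =>
        obtain ⟨x₁, hx₁, hx⟩ := hrep x
        obtain ⟨y₁, hy₁, hy⟩ := hrep y
        rw [hx, hy, ← QuotientGroup.mk_mul, ← QuotientGroup.mk_mul, hPab x₁ hx₁ y₁ hy₁]
  letI : CommGroup (G ⧸ N) := { (inferInstance : Group (G ⧸ N)) with mul_comm := hcomm }
  have hπ : Function.Surjective (QuotientGroup.mk' N) := QuotientGroup.mk'_surjective N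
  have hker : ∀ g : G, QuotientGroup.mk' N g = 1 ↔ g ∈ N := fun g => QuotientGroup.eq_one_iff g
  have h3 : ∀ χ ∈ B, ∃ θ ∈ b, ∀ n : N, (χ : G → ℂ) n = (θ : N → ℂ) n := by
    intro χ hχ
    have hirr := Cfsg.Agent.Helper74.PIA.restrict_irr hM N (QuotientGroup.mk' N) hπ hker hB hBc
      hPD hPab hNP hχ
    exact ⟨⟨_, hirr⟩, Cfsg.Agent.Helper74.PIA.restrict_mem hM N (QuotientGroup.mk' N) hπ hker hB
      hBc hPD hPab hNP hχ hirr, fun n => rfl⟩
  refine ⟨hNP, hdef, h3, ?_, ?_, ?_⟩
  · intro θ hθ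
    exact Cfsg.Agent.Helper74.PIA.card_fibre hM N (QuotientGroup.mk' N) hπ hker hB hBc
      hPD hPab hNP hθ
  · exact Cfsg.Agent.Helper74.PIA.card_block hM N (QuotientGroup.mk' N) hπ hker hB hBc
      hPD hPab hNP
  · refine Cfsg.Agent.Helper74.PIA.blockRank_eq_of_restrict N
      (fun g hg => Cfsg.Agent.Helper74.PIA.mem_of_isPRegular N hNi hg) h3 ?_
    intro θ hθ
    obtain ⟨χ₀, hχ₀, hres⟩ := Cfsg.Agent.Helper74.PIA.exists_ext hM N (QuotientGroup.mk' N) hπ
      hker hB hBc hPD hPab hNP hθ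
    exact ⟨χ₀, hχ₀, fun n => congrFun hres n⟩

end Cfsg.Agent.S4640
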