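import Cfsg.Statements.S4675
import Cfsg.Agent.S4666
import Cfsg.Agent.Lib.Helper16.DefectNum2
import Cfsg.Agent.Lib.Helper16.WBO
import Mathlib

set_option autoImplicit false
set_option linter.style.haveILetI false
set_option linter.unusedSectionVars false
open Cfsg
open scoped ComplexConjugate

namespace Cfsg.Agent.S4675

open Cfsg.Agent.Helper16 Cfsg.Agent.Helper77 Cfsg.Agent.Helper78

section

variable {G : Type*} [Group G] [Fintype G]

theorem isPRegular_one (p : ℕ) (hp : p.Prime) : IsPRegular p (1 : G) := by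
  unfold IsPRegular
  rw [orderOf_one]
  exact hp.one_lt.ne' ∘ Nat.dvd_one.1

/-- Rank one: all `p`-regular parts are proportional. -/
theorem prop_of_blockRank_one (p : ℕ) (hp : p.Prime) (B : Set (IrrCharacter G))
    (hl : blockRank p B = 1) (χ₀ : IrrCharacter G) (hχ₀ : χ₀ ∈ B) (χ : IrrCharacter G)
    (hχ : χ ∈ B) (x : G) (hx : IsPRegular p x) :
    (χ : G → ℂ) x * (χ₀ : G → ℂ) 1 = (χ : G → ℂ) 1 * (χ₀ : G → ℂ) x := by
  classical
  unfold blockRank at hl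
  set S := Submodule.span ℂ ((fun χ : IrrCharacter G => pRegularPart p (χ : G → ℂ)) '' B) with hS
  have h1 : IsPRegular p (1 : G) := isPRegular_one p hp
  have hdeg := (irr_charDegree χ₀.2)
  have hne : (χ₀ : G → ℂ) 1 ≠ 0 := by
    rw [hdeg.1]
    exact_mod_cast hdeg.2.ne'
  let v₀ : S := ⟨pRegularPart p (χ₀ : G → ℂ), Submodule.subset_span ⟨χ₀, hχ₀, rfl⟩⟩
  let w : S := ⟨pRegularPart p (χ : G → ℂ), Submodule.subset_span ⟨χ, hχ, rfl⟩⟩
  have hv₀ : v₀ ≠ 0 := by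
    intro h
    have h2 : (v₀ : G → ℂ) 1 = 0 := by rw [h]; rfl
    have h3 : (v₀ : G → ℂ) 1 = (χ₀ : G → ℂ) 1 := by
      show pRegularPart p (χ₀ : G → ℂ) 1 = _
      unfold pRegularPart
      rw [if_pos h1]
    exact hne (h3 ▸ h2)
  obtain ⟨r, hr⟩ := (finrank_eq_one_iff_of_nonzero' v₀ hv₀).1 hl w
  have hr' : ∀ y : G, r * pRegularPart p (χ₀ : G → ℂ) y = pRegularPart p (χ : G → ℂ) y := by
    intro y
    have := congrArg (fun u : S => (u : G → ℂ) y) hr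
    exact this
  have e1 := hr' 1
  have ex := hr' x
  unfold pRegularPart at e1 ex
  rw [if_pos h1, if_pos h1] at e1
  rw [if_pos hx, if_pos hx] at ex
  rw [← e1, ← ex]
  ring

/-- The key numerical statement: the Cartan invariant `∑ d_χ²` is `p ^ d(B)`. -/
theorem sum_sq_eq (p : ℕ) [Fact p.Prime] (M : Ideal AlgInt) (hM : IsPModular p M)
    (B : Set (IrrCharacter G)) (hB : IsPBlock M B) (g₀ : ℕ) (hg₀ : 0 < g₀)
    (d : IrrCharacter G → ℕ)
    (hdeg : ∀ χ ∈ B, charDegree (χ : G → ℂ) = g₀ * d χ)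
    (n : IrrCharacter G → ℤ)
    (hbez : ∑ χ ∈ (Set.toFinite B).toFinset, n χ * (d χ : ℤ) = 1)
    (φ : G → ℂ)
    (hχφ : ∀ χ ∈ B, ∀ x : G, IsPRegular p x → (χ : G → ℂ) x = (d χ : ℂ) * φ x) :
    ∑ χ ∈ (Set.toFinite B).toFinset, d χ ^ 2 = p ^ blockDefect p B := by
  classical
  have hp : p.Prime := Fact.out
  have hpr := isPrime_of_isPModular hM
  obtain ⟨χ₀, hχ₀⟩ := nonempty_of_isPBlock hB
  set Bf := (Set.toFinite B).toFinset with hBf
  have hmemBf : ∀ θ, θ ∈ Bf ↔ θ ∈ B := fun θ => Set.Finite.mem_toFinset _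
  set dd := blockDefect p B with hdd
  set c : ℕ := ∑ χ ∈ Bf, d χ ^ 2 with hc
  have h1reg : ¬ p ∣ orderOf (1 : G) := isPRegular_one p hp
  have hone : ∀ χ ∈ B, (χ : G → ℂ) 1 = (g₀ : ℂ) * (d χ : ℂ) := by
    intro χ hχ
    rw [(irr_charDegree χ.2).1, hdeg χ hχ]
    push_cast
    rfl
  have hdpos : ∀ χ ∈ B, 0 < d χ := by
    intro χ hχ
    have h1 := (irr_charDegree χ.2).2
    rw [hdeg χ hχ] at h1
    exact Nat.pos_of_mul_pos_left h1 |>.trans_le le_rfl |> fun _ => Nat.pos_of_ne_zero (by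
      rintro h0
      rw [h0, mul_zero] at h1
      exact lt_irrefl _ h1)
  have hg₀C : (g₀ : ℂ) ≠ 0 := by exact_mod_cast hg₀.ne'
  have hpC : ((p : ℂ) ^ dd) ≠ 0 := pow_ne_zero _ (by exact_mod_cast hp.ne_zero)
  -- κ
  set κ : ℂ := (Nat.card G : ℂ)⁻¹ *
    ∑ x ∈ Finset.univ.filter (fun x : G => ¬ p ∣ orderOf x), φ x * conj (φ x) with hκ
  -- inner products
  have hinner : ∀ χ ∈ B, ∀ ψ ∈ B, classInner (pRegScaled p ((p : ℂ) ^ dd) (χ : G → ℂ)) (ψ : G → ℂ) =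
      (p : ℂ) ^ dd * (d χ : ℂ) * (d ψ : ℂ) * κ := by
    intro χ hχ ψ hψ
    rw [classInner_pRegScaled, hκ]
    have : ∑ x ∈ Finset.univ.filter (fun x : G => ¬ p ∣ orderOf x),
        (χ : G → ℂ) x * conj ((ψ : G → ℂ) x) =
        (d χ : ℂ) * (d ψ : ℂ) *
          ∑ x ∈ Finset.univ.filter (fun x : G => ¬ p ∣ orderOf x), φ x * conj (φ x) := by
      rw [Finset.mul_sum]
      refine Finset.sum_congr rfl fun x hx => ?_
      have hx' : IsPRegular p x := (Finset.mem_filter.1 hx).2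
      rw [hχφ χ hχ x hx', hχφ ψ hψ x hx', map_mul, Complex.conj_natCast]
      ring
    rw [this]
    ring
  -- decompositions
  have hdecomp : ∀ χ ∈ B, ∃ cc : IrrCharacter G → ℤ, (∀ θ, θ ∉ B → cc θ = 0) ∧
      (∀ ψ ∈ B, ((cc ψ : ℤ) : ℂ) = (p : ℂ) ^ dd * (d χ : ℂ) * (d ψ : ℂ) * κ) ∧
      ∀ x : G, pRegScaled p ((p : ℂ) ^ dd) (χ : G → ℂ) x =
        ∑ ψ ∈ Bf, ((cc ψ : ℤ) : ℂ) * (ψ : G → ℂ) x := by
    intro χ hχ
    obtain ⟨cc, hcc0, hcc⟩ := Cfsg.Agent.S4666.exists_int_decomp_block p hM hB χ hχ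
    refine ⟨cc, hcc0, ?_, ?_⟩
    · intro ψ hψ
      rw [← hinner χ hχ ψ hψ, hcc]
      exact (classInner_decomp (fun θ => ((cc θ : ℤ) : ℂ)) ψ).symm
    · intro x
      rw [hcc, Finset.sum_apply]
      rw [← Finset.sum_subset (Finset.subset_univ Bf)]
      · rfl
      · intro θ _ hθ
        have : θ ∉ B := fun h => hθ ((hmemBf θ).2 h)
        rw [hcc0 θ this]
        simp
  -- κ * c = 1
  have hκc : κ * (c : ℂ) = 1 := by
    obtain ⟨cc, hcc0, hcc1, hcc2⟩ := hdecomp χ₀ hχ₀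
    have h1 := hcc2 1
    unfold pRegScaled at h1
    rw [if_neg h1reg, hone χ₀ hχ₀] at h1
    have h2 : ∑ ψ ∈ Bf, ((cc ψ : ℤ) : ℂ) * (ψ : G → ℂ) 1 =
        (p : ℂ) ^ dd * (d χ₀ : ℂ) * κ * (g₀ : ℂ) * (c : ℂ) := by
      rw [hc]
      push_cast
      rw [Finset.mul_sum]
      refine Finset.sum_congr rfl fun ψ hψ => ?_
      rw [hcc1 ψ ((hmemBf ψ).1 hψ), hone ψ ((hmemBf ψ).1 hψ)]
      ring
    rw [h2] at h1
    have hd0 : (d χ₀ : ℂ) ≠ 0 := by exact_mod_cast (hdpos χ₀ hχ₀).ne'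
    have h3 : (p : ℂ) ^ dd * (g₀ : ℂ) * (d χ₀ : ℂ) * (κ * (c : ℂ)) =
        (p : ℂ) ^ dd * (g₀ : ℂ) * (d χ₀ : ℂ) * 1 := by
      linear_combination (-1 : ℂ) * h1
    exact mul_left_cancel₀ (mul_ne_zero (mul_ne_zero hpC hg₀C) hd0) h3
  -- divisibility c ∣ p^dd * d χ * d ψ
  have hdvd1 : ∀ χ ∈ B, ∀ ψ ∈ B, (c : ℤ) ∣ (p : ℤ) ^ dd * (d χ : ℤ) * (d ψ : ℤ) := by
    intro χ hχ ψ hψ
    obtain ⟨cc, hcc0, hcc1, hcc2⟩ := hdecomp χ hχ
    refine ⟨cc ψ, ?_⟩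
    have : (((p : ℤ) ^ dd * (d χ : ℤ) * (d ψ : ℤ) : ℤ) : ℂ) = (((c : ℤ) * cc ψ : ℤ) : ℂ) := by
      push_cast
      rw [hcc1 ψ hψ]
      calc (p : ℂ) ^ dd * (d χ : ℂ) * (d ψ : ℂ)
          = (p : ℂ) ^ dd * (d χ : ℂ) * (d ψ : ℂ) * (κ * (c : ℂ)) := by rw [hκc, mul_one]
        _ = (c : ℂ) * ((p : ℂ) ^ dd * (d χ : ℂ) * (d ψ : ℂ) * κ) := by ring
    exact_mod_cast this
  have hdvd2 : (c : ℤ) ∣ (p : ℤ) ^ dd := by
    have h1 : (p : ℤ) ^ dd = ∑ χ ∈ Bf, ∑ ψ ∈ Bf,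
        n χ * n ψ * ((p : ℤ) ^ dd * (d χ : ℤ) * (d ψ : ℤ)) := by
      have h2 : (p : ℤ) ^ dd = (p : ℤ) ^ dd * ((∑ χ ∈ Bf, n χ * (d χ : ℤ)) *
          (∑ ψ ∈ Bf, n ψ * (d ψ : ℤ))) := by
        rw [hbez, mul_one, mul_one]
      refine h2.trans ?_
      rw [Finset.sum_mul_sum, Finset.mul_sum]
      refine Finset.sum_congr rfl fun χ _ => ?_
      rw [Finset.mul_sum]
      refine Finset.sum_congr rfl fun ψ _ => ?_
      ring
    rw [h1]
    refine Finset.dvd_sum fun χ hχ => Finset.dvd_sum fun ψ hψ => ?_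
    exact Dvd.dvd.mul_left (hdvd1 χ ((hmemBf χ).1 hχ) ψ ((hmemBf ψ).1 hψ)) _
  have hdvd3 : c ∣ p ^ dd := by
    have : ((c : ℕ) : ℤ) ∣ ((p ^ dd : ℕ) : ℤ) := by
      push_cast
      exact hdvd2
    exact Int.natCast_dvd_natCast.1 this
  obtain ⟨j, hjle, hcj⟩ := (Nat.dvd_prime_pow hp).1 hdvd3
  -- vanishing on singular elements
  have hvan : ∀ y : G, p ∣ orderOf y → ∑ χ ∈ Bf, (d χ : ℂ) * (χ : G → ℂ) y = 0 := by
    intro y hy
    have h1 := weak_block_orthogonality hM hB 1 y h1reg hy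
    have h2 : ∑ χ ∈ Bf, (χ : G → ℂ) 1 * conj ((χ : G → ℂ) y) =
        (g₀ : ℂ) * conj (∑ χ ∈ Bf, (d χ : ℂ) * (χ : G → ℂ) y) := by
      rw [map_sum, Finset.mul_sum]
      refine Finset.sum_congr rfl fun χ hχ => ?_
      rw [hone χ ((hmemBf χ).1 hχ), map_mul, Complex.conj_natCast]
      ring
    rw [h2] at h1
    have h3 := (mul_eq_zero.1 h1).resolve_left hg₀C
    exact (map_eq_zero _).1 h3
  -- Sylow sum
  obtain ⟨S⟩ : Nonempty (Sylow p G) := inferInstance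
  haveI : Fintype (S : Subgroup G) := Fintype.ofFinite _
  have hScard : Nat.card (S : Subgroup G) = p ^ (Nat.card G).factorization p :=
    Sylow.card_eq_multiplicity S
  have hm : ∀ χ : IrrCharacter G, ∃ m : ℕ, ∑ w : (S : Subgroup G), (χ : G → ℂ) (w : G) =
      (Nat.card (S : Subgroup G) : ℂ) * (m : ℂ) := fun χ =>
    IsCharacter.sum_subgroup (IsIrrCharacter.isCharacter χ.2) _
  choose m hm using hm
  have hsum : ∑ w : (S : Subgroup G), ∑ χ ∈ Bf, (d χ : ℂ) * (χ : G → ℂ) (w : G) =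
      (g₀ : ℂ) * (c : ℂ) := by
    rw [Finset.sum_eq_single (1 : (S : Subgroup G))]
    · rw [Subgroup.coe_one, hc]
      push_cast
      rw [Finset.mul_sum]
      refine Finset.sum_congr rfl fun χ hχ => ?_
      rw [hone χ ((hmemBf χ).1 hχ)]
      ring
    · intro w _ hw
      apply hvan
      have hpg : IsPGroup p (S : Subgroup G) := S.isPGroup'
      rw [Subgroup.orderOf_coe]
      exact hpg.dvd_orderOf hw
    · intro h
      exact absurd (Finset.mem_univ _) h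
  have hsum2 : ∑ w : (S : Subgroup G), ∑ χ ∈ Bf, (d χ : ℂ) * (χ : G → ℂ) (w : G) =
      (Nat.card (S : Subgroup G) : ℂ) * ((∑ χ ∈ Bf, d χ * m χ : ℕ) : ℂ) := by
    rw [Finset.sum_comm]
    push_cast
    rw [Finset.mul_sum]
    refine Finset.sum_congr rfl fun χ _ => ?_
    rw [← Finset.mul_sum, hm χ]
    ring
  have hdvd4 : p ^ (Nat.card G).factorization p ∣ g₀ * c := by
    refine ⟨∑ χ ∈ Bf, d χ * m χ, ?_⟩
    have : ((g₀ * c : ℕ) : ℂ) =
        ((p ^ (Nat.card G).factorization p * ∑ χ ∈ Bf, d χ * m χ : ℕ) : ℂ) := by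
      rw [Nat.cast_mul, ← hsum, hsum2, hScard]
      push_cast
      ring
    exact_mod_cast this
  -- final numerics
  obtain ⟨χm, hχm, hχmv⟩ := exists_minVal_eq (p := p) (nonempty_of_isPBlock hB)
  have hg₀v : g₀.factorization p ≤ minVal p B := by
    rw [← hχmv]
    have hdv : g₀ ∣ charDegree (χm : G → ℂ) := ⟨d χm, hdeg χm hχm⟩
    exact (Nat.factorization_le_iff_dvd hg₀.ne' (irr_charDegree χm.2).2.ne').2 hdv p
  have hc0 : c ≠ 0 := by
    rw [hcj]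
    exact pow_ne_zero _ hp.ne_zero
  have ha : (Nat.card G).factorization p ≤ g₀.factorization p + j := by
    have h1 : g₀ * c ≠ 0 := mul_ne_zero hg₀.ne' hc0
    have h2 := (hp.pow_dvd_iff_le_factorization h1).1 hdvd4
    rw [Nat.factorization_mul hg₀.ne' hc0, hcj, hp.factorization_pow] at h2
    simpa using h2
  have hle : dd ≤ j := by
    rw [hdd, blockDefect_eq]
    omega
  have hj : j = dd := le_antisymm hjle hle
  rw [hcj, hj]

end

/-- Fix a prime p and a maximal ideal M of the algebraic integers containing p. Let B be a p-block of the finite group G with defect group P and p-regular rank one (a single irreducible Brauer character). Then there are a function φ on G that is, on the p-regular elements, an integer combination of the members of B, and natural numbers d_χ (χ ∈ B), such that every χ ∈ B agrees with d_χ·φ on the p-regular elements and Σ_{χ ∈ B} d_χ² equals the order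 of P (the single Cartan invariant of B is the order of P). -/
theorem result {G : Type*} [Group G] [Fintype G] (p : ℕ) [Fact p.Prime] (M : Ideal Cfsg.AlgInt) (hM : Cfsg.IsPModular p M) (B : Set (Cfsg.IrrCharacter G)) (hB : Cfsg.IsPBlock M B) (P : Subgroup G) (hP : Cfsg.IsDefectGroup p M B P) (hl : Cfsg.blockRank p B = 1) : ∃ φ : G → ℂ, ∃ d : Cfsg.IrrCharacter G → ℕ, (∃ n : Cfsg.IrrCharacter G → ℤ, ∀ x : G, Cfsg.IsPRegular p x → φ x = ∑ᶠ ψ ∈ B, (n ψ : ℂ) * (ψ : G → ℂ) x) ∧ (∀ χ ∈ B, ∀ x : G, Cfsg.IsPRegular p x → (χ : G → ℂ) x = (d χ : ℂ) * φ x) ∧ ∑ᶠ χ ∈ B, d χ ^ 2 = Nat.card P := by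
  classical
  have hp : p.Prime := Fact.out
  have hpr := isPrime_of_isPModular hM
  obtain ⟨χ₀, hχ₀⟩ := nonempty_of_isPBlock hB
  set Bf := (Set.toFinite B).toFinset with hBf
  have hmemBf : ∀ θ, θ ∈ Bf ↔ θ ∈ B := fun θ => Set.Finite.mem_toFinset _
  set f : IrrCharacter G → ℤ := fun χ => (charDegree (χ : G → ℂ) : ℤ) with hf
  set g₀ : ℕ := (Bf.gcd f).natAbs with hg₀
  have hg₀z : (g₀ : ℤ) = Bf.gcd f := by
    rw [hg₀, Int.natCast_natAbs, Int.abs_eq_normalize, Finset.normalize_gcd]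
  have hg₀dvd : ∀ χ ∈ B, g₀ ∣ charDegree (χ : G → ℂ) := by
    intro χ hχ
    have h1 : Bf.gcd f ∣ f χ := Finset.gcd_dvd ((hmemBf χ).2 hχ)
    rw [← hg₀z] at h1
    exact Int.natCast_dvd_natCast.1 h1
  have hdeg : ∀ χ : IrrCharacter G, (χ : G → ℂ) 1 = (charDegree (χ : G → ℂ) : ℂ) ∧
      0 < charDegree (χ : G → ℂ) := fun χ => irr_charDegree χ.2
  have hg₀pos : 0 < g₀ := Nat.pos_of_dvd_of_pos (hg₀dvd χ₀ hχ₀) (hdeg χ₀).2
  obtain ⟨n, hn⟩ := Finset.gcd_eq_sum_mul Bf f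
  set d : IrrCharacter G → ℕ := fun χ => charDegree (χ : G → ℂ) / g₀ with hd
  have hdmul : ∀ χ ∈ B, charDegree (χ : G → ℂ) = g₀ * d χ := fun χ hχ =>
    (Nat.mul_div_cancel' (hg₀dvd χ hχ)).symm
  have hbez : ∑ χ ∈ Bf, n χ * (d χ : ℤ) = 1 := by
    have h1 : (g₀ : ℤ) * ∑ χ ∈ Bf, n χ * (d χ : ℤ) = (g₀ : ℤ) * 1 := by
      rw [mul_one, Finset.mul_sum]
      conv_rhs => rw [hg₀z, hn]
      refine Finset.sum_congr rfl fun χ hχ => ?_
      have h2 := hdmul χ ((hmemBf χ).1 hχ)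
      simp only [hf]
      rw [h2]
      push_cast
      ring
    exact mul_left_cancel₀ (by exact_mod_cast hg₀pos.ne') h1
  have hne : (χ₀ : G → ℂ) 1 ≠ 0 := by
    rw [(hdeg χ₀).1]
    exact_mod_cast (hdeg χ₀).2.ne'
  set φ : G → ℂ := fun x => (g₀ : ℂ) / (χ₀ : G → ℂ) 1 * (χ₀ : G → ℂ) x with hφ
  have hχφ : ∀ χ ∈ B, ∀ x : G, IsPRegular p x → (χ : G → ℂ) x = (d χ : ℂ) * φ x := by
    intro χ hχ x hx
    have h1 := prop_of_blockRank_one p hp B hl χ₀ hχ₀ χ hχ x hx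
    have h3 : (χ : G → ℂ) 1 = (g₀ : ℂ) * (d χ : ℂ) := by
      rw [(hdeg χ).1, hdmul χ hχ]
      push_cast
      rfl
    simp only [hφ]
    rw [h3] at h1
    field_simp
    linear_combination h1
  have hcard := card_of_isDefectGroup hM hB P hP
  refine ⟨φ, d, ⟨n, ?_⟩, hχφ, ?_⟩
  · intro x hx
    rw [finsum_mem_eq_finite_toFinset_sum _ (Set.toFinite B)]
    have h1 : ∑ ψ ∈ Bf, (n ψ : ℂ) * (ψ : G → ℂ) x =
        (∑ ψ ∈ Bf, (n ψ : ℂ) * (d ψ : ℂ)) * φ x := by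
      rw [Finset.sum_mul]
      refine Finset.sum_congr rfl fun ψ hψ => ?_
      rw [hχφ ψ ((hmemBf ψ).1 hψ) x hx]
      ring
    rw [h1]
    have h2 : (∑ ψ ∈ Bf, (n ψ : ℂ) * (d ψ : ℂ)) = 1 := by exact_mod_cast hbez
    rw [h2, one_mul]
  · rw [finsum_mem_eq_finite_toFinset_sum _ (Set.toFinite B), hcard]
    exact sum_sq_eq p M hM B hB g₀ hg₀pos d hdmul n hbez φ hχφ

end Cfsg.Agent.S4675
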