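import Cfsg.Statements.S4646
import Cfsg.Agent.S4675
import Cfsg.Agent.Lib.Helper77.ThirdMain
import Cfsg.Agent.Lib.Helper77.ConjAct
import Cfsg.Agent.Lib.Helper16.QuotBlock
import Cfsg.Agent.Lib.Helper16.Osima
import Cfsg.Agent.Lib.Helper2.Frobenius
import Cfsg.Agent.Lib.Helper31.GTPNil

set_option autoImplicit false
set_option linter.style.haveILetI false
set_option linter.unusedSectionVars false
open Cfsg

namespace Cfsg.Agent.S4646

open scoped ComplexConjugate
open Cfsg.Agent.Helper16 Cfsg.Agent.Helper77 Cfsg.Agent.Helper78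

section

universe u

variable {G : Type u} [Group G] [Fintype G] {p : ℕ} {M : Ideal AlgInt}

/-- A nilpotent principal block forces Frobenius' condition. -/
theorem frobCond_of_isNilpotentBlock [Fact p.Prime] (hM : IsPModular p M)
    (hnil : IsNilpotentBlock p M (principalBlock M G)) : Cfsg.Agent.Helper2.FrobCond p G := by
  classical
  haveI hpr := isPrime_of_isPModular hM
  have hp : p.Prime := hM.1
  intro X hX g hg hcop
  have hpair := isBrauerPairOf_principal hM X hX
  have hgK : g ∈ Subgroup.normalizer ((Subgroup.centralizer (X : Set G) : Subgroup G) : Set G) :=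
    Cfsg.Agent.Helper77.normalizer_le_normalizer_centralizer X hg
  have hstab : StabilizesBlock (Subgroup.centralizer (X : Set G))
      (principalBlock M (Subgroup.centralizer (X : Set G))) g :=
    (stabilizesBlock_iff_conjSet_eq _ g hgK (isPBlock_principalBlock M)).2
      (conjSet_principalBlock _ g hgK)
  have hreg : IsPRegular p g := by
    intro hdvd
    have := Nat.Coprime.eq_one_of_dvd hcop.symm hdvd
    exact hp.one_lt.ne' this
  exact hnil.2 X _ hpair g hg hstab hreg

/-- A `p`-regular element lies in every normal subgroup of `p`-power index. -/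
theorem mem_of_isPRegular_of_index_pow [Fact p.Prime] (N : Subgroup G) [N.Normal] (k : ℕ)
    (hk : N.index = p ^ k) (g : G) (hg : IsPRegular p g) : g ∈ N := by
  have hp : p.Prime := Fact.out
  rw [← QuotientGroup.eq_one_iff]
  have h1 : orderOf (QuotientGroup.mk g : G ⧸ N) ∣ orderOf g :=
    orderOf_dvd_of_pow_eq_one (by rw [← QuotientGroup.mk_pow, pow_orderOf_eq_one]; rfl)
  have h2 : orderOf (QuotientGroup.mk g : G ⧸ N) ∣ p ^ k := by
    rw [← hk, Subgroup.index_eq_card]
    exact orderOf_dvd_natCard _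
  obtain ⟨j, -, hj⟩ := (Nat.dvd_prime_pow hp).1 h2
  rcases Nat.eq_zero_or_pos j with rfl | hjpos
  · rw [pow_zero] at hj
    exact orderOf_eq_one_iff.1 hj
  · exfalso
    apply hg
    refine dvd_trans ?_ h1
    rw [hj]
    exact dvd_pow_self p hjpos.ne'

/-- With a normal `p'`-subgroup of `p`-power index, the principal block has rank one. -/
theorem blockRank_eq_one_of_complement [Fact p.Prime] (hM : IsPModular p M) (N : Subgroup G)
    [N.Normal] (hcop : (Nat.card N).Coprime p) (k : ℕ) (hk : N.index = p ^ k) :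
    blockRank p (principalBlock M G) = 1 := by
  classical
  haveI hpr := isPrime_of_isPModular hM
  have hp : p.Prime := hM.1
  have hpN : ¬ p ∣ Nat.card N := fun h => hp.one_lt.ne' (Nat.Coprime.eq_one_of_dvd hcop.symm h)
  have hval : ∀ χ ∈ principalBlock M G, ∀ g : G, IsPRegular p g →
      (χ : G → ℂ) g = (χ : G → ℂ) 1 := by
    intro χ hχ g hg
    have hgN := mem_of_isPRegular_of_index_pow N k hk g hg
    have h1 : SameBlock M ((trivIrr G : IrrCharacter G) : G → ℂ) (χ : G → ℂ) := hχ
    exact ker_of_sameBlock_of_pprime (N := N) hM hpN (trivIrr G) χ h1 (fun n => rfl) ⟨g, hgN⟩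
  unfold blockRank
  have hv₀ : pRegularPart p ((trivIrr G : IrrCharacter G) : G → ℂ) ≠ 0 := by
    intro h
    have := congrFun h 1
    unfold pRegularPart at this
    rw [if_pos (Cfsg.Agent.S4675.isPRegular_one p hp)] at this
    simp [trivIrr_apply] at this
  have hspan : Submodule.span ℂ ((fun χ : IrrCharacter G => pRegularPart p (χ : G → ℂ)) ''
      principalBlock M G) =
      Submodule.span ℂ {pRegularPart p ((trivIrr G : IrrCharacter G) : G → ℂ)} := by
    apply le_antisymm
    · rw [Submodule.span_le]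
      rintro _ ⟨χ, hχ, rfl⟩
      rw [SetLike.mem_coe, Submodule.mem_span_singleton]
      refine ⟨(χ : G → ℂ) 1, ?_⟩
      funext g
      show (χ : G → ℂ) 1 * pRegularPart p ((trivIrr G : IrrCharacter G) : G → ℂ) g =
        pRegularPart p (χ : G → ℂ) g
      unfold pRegularPart
      by_cases hg : IsPRegular p g
      · rw [if_pos hg, if_pos hg, hval χ hχ g hg, trivIrr_apply, mul_one]
      · rw [if_neg hg, if_neg hg, mul_zero]
    · rw [Submodule.span_le, Set.singleton_subset_iff]
      exact Submodule.subset_span ⟨trivIrr G, trivIrr_mem_principalBlock M, rfl⟩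
  rw [hspan]
  exact finrank_span_singleton hv₀

/-- Rank one of the principal block gives a normal `p'`-subgroup containing all `p`-regular
elements. -/
theorem exists_complement_of_blockRank_one [Fact p.Prime] (hM : IsPModular p M)
    (hl : blockRank p (principalBlock M G) = 1) :
    ∃ K : Subgroup G, K.Normal ∧ (Nat.card K).Coprime p ∧ ∀ g : G, IsPRegular p g → g ∈ K := by
  classical
  haveI hpr := isPrime_of_isPModular hM
  have hp : p.Prime := hM.1
  have hval : ∀ χ ∈ principalBlock M G, ∀ g : G, IsPRegular p g →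
      (χ : G → ℂ) g = (χ : G → ℂ) 1 := by
    intro χ hχ g hg
    have := Cfsg.Agent.S4675.prop_of_blockRank_one p hp _ hl (trivIrr G)
      (trivIrr_mem_principalBlock M) χ hχ g hg
    simpa [trivIrr_apply] using this
  let K : Subgroup G := ⨅ χ : {χ : IrrCharacter G // χ ∈ principalBlock M G},
    Cfsg.Agent.Helper79.irrKer χ.1
  have hKmem : ∀ g : G, g ∈ K ↔ ∀ χ ∈ principalBlock M G, (χ : G → ℂ) g = (χ : G → ℂ) 1 := by
    intro g
    simp only [K, Subgroup.mem_iInf, Cfsg.Agent.Helper79.mem_irrKer, Subtype.forall]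
  refine ⟨K, Subgroup.normal_iInf_normal fun χ => inferInstance, ?_, ?_⟩
  · rw [Nat.coprime_comm, Nat.Prime.coprime_iff_not_dvd hp]
    intro hdvd
    obtain ⟨u, hu⟩ := exists_prime_orderOf_dvd_card' p hdvd
    have huG : orderOf (u : G) = p := by rw [Subgroup.orderOf_coe, hu]
    have h0 := blockCoeff_eq_zero_of_singular hM (isPBlock_principalBlock M (G := G)) (u : G)
      (by rw [huG])
    unfold blockCoeff at h0
    have hcard : (Nat.card G : ℂ)⁻¹ ≠ 0 := inv_ne_zero (by exact_mod_cast Nat.card_pos.ne')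
    have h1 := (mul_eq_zero.1 h0).resolve_left hcard
    rw [finsum_mem_eq_finite_toFinset_sum _ (Set.toFinite _)] at h1
    have hpos : 0 < ∑ χ ∈ (Set.toFinite (principalBlock M G)).toFinset,
        ((charDegree (χ : G → ℂ) : ℝ)) ^ 2 := by
      apply Finset.sum_pos
      · intro χ _
        have := (Cfsg.Agent.Helper79.irr_one_eq χ).2
        positivity
      · exact ⟨trivIrr G, by
          rw [Set.Finite.mem_toFinset]; exact trivIrr_mem_principalBlock M⟩
    have h2 : ∑ χ ∈ (Set.toFinite (principalBlock M G)).toFinset,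
        (χ : G → ℂ) 1 * conj ((χ : G → ℂ) (u : G)) =
        ((∑ χ ∈ (Set.toFinite (principalBlock M G)).toFinset,
          ((charDegree (χ : G → ℂ) : ℝ)) ^ 2 : ℝ) : ℂ) := by
      push_cast
      refine Finset.sum_congr rfl fun χ hχ => ?_
      rw [Set.Finite.mem_toFinset] at hχ
      rw [(hKmem (u : G)).1 u.2 χ hχ, (Cfsg.Agent.Helper79.irr_one_eq χ).1]
      simp [sq]
    rw [h2] at h1
    have h3 : (∑ χ ∈ (Set.toFinite (principalBlock M G)).toFinset,
        ((charDegree (χ : G → ℂ) : ℝ)) ^ 2 : ℝ) = 0 := by exact_mod_cast h1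
    exact hpos.ne' h3
  · intro g hg
    rw [hKmem]
    intro χ hχ
    exact hval χ hχ g hg

/-- A normal `p'`-subgroup containing all `p`-regular elements makes every block nilpotent. -/
theorem isNilpotentBlock_of_complement [Fact p.Prime] (hM : IsPModular p M) (K : Subgroup G)
    [hKn : K.Normal] (hcop : (Nat.card K).Coprime p) (hK : ∀ g : G, IsPRegular p g → g ∈ K)
    {B : Set (IrrCharacter G)} (hB : IsPBlock M B) : IsNilpotentBlock p M B := by
  classical
  have hp : p.Prime := hM.1
  refine ⟨hB, ?_⟩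
  intro Q e hQe x hx _ hreg
  have hQ : IsPGroup p Q := hQe.1.1
  have hxK : x ∈ K := hK x hreg
  rw [Subgroup.mem_centralizer_iff]
  intro q hq
  have hc1 : x * q * x⁻¹ * q⁻¹ ∈ K := by
    have : q * x⁻¹ * q⁻¹ ∈ K := hKn.conj_mem _ (K.inv_mem hxK) q
    have h2 := K.mul_mem hxK this
    have : x * (q * x⁻¹ * q⁻¹) = x * q * x⁻¹ * q⁻¹ := by group
    rwa [this] at h2
  have hc2 : x * q * x⁻¹ * q⁻¹ ∈ Q := by
    have : x * q * x⁻¹ ∈ Q := (Subgroup.mem_normalizer_iff.1 hx q).1 hq
    exact Q.mul_mem this (Q.inv_mem hq)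
  have hc : x * q * x⁻¹ * q⁻¹ = 1 := by
    obtain ⟨j, hj⟩ := (IsPGroup.iff_orderOf.1 hQ) ⟨_, hc2⟩
    rw [Subgroup.orderOf_mk] at hj
    have hdvd : orderOf (x * q * x⁻¹ * q⁻¹) ∣ Nat.card K := by
      have := orderOf_dvd_natCard (⟨_, hc1⟩ : K)
      rwa [Subgroup.orderOf_mk] at this
    rw [hj] at hdvd
    rcases Nat.eq_zero_or_pos j with rfl | hjpos
    · rw [pow_zero] at hj
      exact orderOf_eq_one_iff.1 hj
    · exfalso
      have hpd : p ∣ Nat.card K := dvd_trans (dvd_pow_self p hjpos.ne') hdvd
      exact hp.one_lt.ne' (Nat.Coprime.eq_one_of_dvd hcop.symm hpd)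
  have : x * q = q * x := by
    have h2 : x * q * x⁻¹ * q⁻¹ * (q * x) = 1 * (q * x) := by rw [hc]
    rw [one_mul] at h2
    rw [← h2]
    group
  exact this.symm

end

/-- For a finite group G, a prime p and a maximal ideal M of the algebraic integers containing p: the principal block of G is nilpotent if and only if its p-regular rank is 1 (the trivial Brauer character is its only irreducible Brauer character). -/
theorem result {G : Type*} [Group G] [Finite G] (p : ℕ) [Fact p.Prime] (M : Ideal Cfsg.AlgInt) (hM : Cfsg.IsPModular p M) : Cfsg.IsNilpotentBlock p M (Cfsg.principalBlock M G) ↔ Cfsg.blockRank p (Cfsg.principalBlock M G) = 1 := by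
  classical
  haveI : Fintype G := Fintype.ofFinite G
  constructor
  · intro hnil
    have hF := frobCond_of_isNilpotentBlock hM hnil
    have hnpc := Cfsg.Agent.Helper2.frobenius p hF
    obtain ⟨N, hNn, hcop, k, hk⟩ := Cfsg.Agent.Helper31.GT.hnpc_iff.1 hnpc
    haveI := hNn
    exact blockRank_eq_one_of_complement hM N hcop k hk
  · intro hl
    obtain ⟨K, hKn, hcop, hK⟩ := exists_complement_of_blockRank_one hM hl
    haveI := hKn
    exact isNilpotentBlock_of_complement hM K hcop hK (isPBlock_principalBlock M)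

end Cfsg.Agent.S4646
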