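import Cfsg.Statements.S4650
-- import your own Cfsg.Agent.* helpers here
import Cfsg.Agent.Lib.Helper76.CycAut
import Cfsg.Agent.Lib.Helper76.InBlock2

set_option autoImplicit false
set_option linter.style.haveILetI false
open Cfsg

namespace Cfsg.Agent.S4650

/-- Let B be a block of the finite group G relative to a maximal ideal M of the algebraic integers containing the prime p, with a nontrivial commutative defect group P; let c be a block of C_G(P) inducing B and T the stabilizer of c in N_G(P). Then T/C_G(P) acts freely on the non-identity elements of P (an element of T fixing a non-identity element of P under conjugation lies in C_G(P)) if and only if, for every nontrivial subgroup Q of P, the block of C_G(Q) induced by c inside C_G(Q) is a nilpotent block of C_G(Q). -/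
theorem result {G : Type*} [Group G] [Finite G] (p : ℕ) [Fact p.Prime] (M : Ideal Cfsg.AlgInt) (hM : Cfsg.IsPModular p M) (B : Set (Cfsg.IrrCharacter G)) (hB : Cfsg.IsPBlock M B) (P : Subgroup G) (hPD : Cfsg.IsDefectGroup p M B P) (hPab : ∀ x ∈ P, ∀ y ∈ P, x * y = y * x) (hP1 : P ≠ ⊥) (c : Set (Cfsg.IrrCharacter (Subgroup.centralizer (P : Set G)))) (hc : Cfsg.IsInducedBlock M (Subgroup.centralizer (P : Set G)) c B) (T : Subgroup G) (hT : ∀ g : G, g ∈ T ↔ (g ∈ Subgroup.normalizer (P : Set G) ∧ Cfsg.StabilizesBlock (Subgroup.centralizer (P : Set G)) c g)) : (∀ g ∈ T, ∀ x ∈ P, x ≠ 1 → g * x * g⁻¹ = x → g ∈ Subgroup.centralizer (P : Set G)) ↔ ∀ Q : Subgroup G, Q ≤ P → Q ≠ ⊥ → ∀ f : Set (Cfsg.IrrCharacter (Subgroup.centralizer (Q : Set G))), Cfsg.IsInducedBlockIn M (Subgroup.centralizer (Q : Set G)) (Subgroup.centralizer (P : Set G)) c f → Cfsg.IsNilpotentBlock p M f := by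
  classical
  haveI : Fintype G := Fintype.ofFinite G
  haveI : Fintype (Subgroup.centralizer (P : Set G)) := Fintype.ofFinite _
  haveI hpr := Cfsg.Agent.Helper77.isPrime_of_isPModular hM
  have hp : p.Prime := Fact.out
  have hPp : IsPGroup p P := by
    obtain ⟨g, hg, S, rfl⟩ := hPD
    exact Cfsg.Agent.Helper77.sylow_map_isPGroup g S
  have hPK : P ≤ Subgroup.centralizer (P : Set G) := by
    intro x hx
    rw [Subgroup.mem_centralizer_iff]
    intro y hy
    exact hPab y hy x hx
  have hpair : IsBrauerPairOf p M B P c :=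
    Cfsg.Agent.Helper74.KL.isBrauerPairOf_of_isInducedBlock hM P hPp hPK hc
  obtain ⟨P', e', hmax, hle⟩ :=
    Cfsg.Agent.Helper77.exists_maximal_above (p := p) (M := M) B _ P c hpair rfl
  have hP'D := Cfsg.Agent.Helper77.isDefectGroup_of_isMaximalBrauerPair hM hmax
  have hcard := Cfsg.Agent.Helper77.card_eq_of_isDefectGroup hM hB hPD hP'D
  have hmaxP := Cfsg.Agent.Helper77.isMaximalBrauerPair_of_card_eq hM hmax hpair hcard
  have hTp : ∀ y ∈ T, ∀ k : ℕ, y ^ (p ^ k) = 1 → y ∈ Subgroup.centralizer (P : Set G) := by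
    intro y hy k hyk
    have h1 := Cfsg.Agent.Helper77.mem_sup_centralizer_of_isMaximalBrauerPair hM hmaxP
      ((hT y).mp hy).1 ((hT y).mp hy).2 hyk
    rwa [sup_eq_right.mpr hPK] at h1
  constructor
  · intro hfree Q hQP hQ1 f hf
    have hKC : Subgroup.centralizer (P : Set G) ≤ Subgroup.centralizer (Q : Set G) :=
      Subgroup.centralizer_le (by exact_mod_cast hQP)
    have hPC : P ≤ Subgroup.centralizer (Q : Set G) := hPK.trans hKC
    haveI : Fintype (Subgroup.centralizer (Q : Set G)) := Fintype.ofFinite _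
    have h1 := (Cfsg.Agent.Helper76.InBlock.inducedBlockIn_iff _ _ hKC c f).mp hf
    have h2 := Cfsg.Agent.Helper76.InBlock.induced_trans _ _ hKC h1 hc
    have hK' := Cfsg.Agent.Helper76.InBlock.centralizer_subgroupOf_eq P _ hPC
    have hP'p : IsPGroup p (P.subgroupOf (Subgroup.centralizer (Q : Set G))) :=
      hPp.comap_subtype
    have hab' : P.subgroupOf (Subgroup.centralizer (Q : Set G)) ≤
        (Subgroup.centralizer (P : Set G)).subgroupOf (Subgroup.centralizer (Q : Set G)) :=
      fun x hx => Subgroup.mem_subgroupOf.mpr (hPK (Subgroup.mem_subgroupOf.mp hx))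
    refine (Cfsg.Agent.Helper76.InBlock.abs_pair hM _ _ hK' hP'p hab' h1).2 ?_ ?_
    · intro D hD
      obtain ⟨E, hE, hDE⟩ :=
        Cfsg.Agent.Helper77.exists_isDefectGroup_of_isInducedBlock hM _ h2 D hD
      have h3 := Cfsg.Agent.Helper77.card_eq_of_isDefectGroup hM hB hE hPD
      have h4 := Subgroup.card_le_of_le hDE
      rw [Subgroup.card_map_of_injective (Subgroup.subtype_injective _), h3] at h4
      rwa [Cfsg.Agent.Helper77.card_subgroupOf_of_le hPC]
    · intro x hxN hxst
      have hxN' := (Cfsg.Agent.Helper76.InBlock.mem_normalizer_subgroupOf_iff P _ hPC x).mp hxN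
      have hxst' := Cfsg.Agent.Helper76.InBlock.stabilizesBlock_of_downSet _ _ hKC x hxst
      have hxT : (x : G) ∈ T := (hT _).mpr ⟨hxN', hxst'⟩
      obtain ⟨⟨y, hyQ⟩, hy1⟩ := (Subgroup.ne_bot_iff_exists_ne_one).mp hQ1
      have hy1' : y ≠ 1 := fun h => hy1 (Subtype.ext h)
      have hxy : (x : G) * y * (x : G)⁻¹ = y := by
        have h5 := (Subgroup.mem_centralizer_iff.mp x.2) y hyQ
        rw [← h5]
        group
      exact Subgroup.mem_subgroupOf.mpr (hfree _ hxT y (hQP hyQ) hy1' hxy)
  · intro hnil g hgT x hxP hx1 hgx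
    have hQP : Subgroup.zpowers x ≤ P := (Subgroup.zpowers_le).mpr hxP
    have hQ1 : Subgroup.zpowers x ≠ ⊥ := by
      intro h
      exact hx1 ((Subgroup.zpowers_eq_bot).mp h)
    have hKC : Subgroup.centralizer (P : Set G) ≤
        Subgroup.centralizer ((Subgroup.zpowers x : Subgroup G) : Set G) :=
      Subgroup.centralizer_le (by exact_mod_cast hQP)
    have hPC : P ≤ Subgroup.centralizer ((Subgroup.zpowers x : Subgroup G) : Set G) :=
      hPK.trans hKC
    haveI : Fintype (Subgroup.centralizer ((Subgroup.zpowers x : Subgroup G) : Set G)) :=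
      Fintype.ofFinite _
    have hK' := Cfsg.Agent.Helper76.InBlock.centralizer_subgroupOf_eq P _ hPC
    have hP'p : IsPGroup p (P.subgroupOf
        (Subgroup.centralizer ((Subgroup.zpowers x : Subgroup G) : Set G))) :=
      hPp.comap_subtype
    have hab' : P.subgroupOf (Subgroup.centralizer ((Subgroup.zpowers x : Subgroup G) : Set G)) ≤
        (Subgroup.centralizer (P : Set G)).subgroupOf
          (Subgroup.centralizer ((Subgroup.zpowers x : Subgroup G) : Set G)) :=
      fun x hx => Subgroup.mem_subgroupOf.mpr (hPK (Subgroup.mem_subgroupOf.mp hx))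
    have hc' := Cfsg.Agent.Helper77.isPBlock_downSet
      (Subgroup.centralizer ((Subgroup.zpowers x : Subgroup G) : Set G)) _ hKC hc.1
    obtain ⟨f, hf⟩ := Cfsg.Agent.Helper76.InBlock.abs_exists hM _ _ hK' hP'p hab' hc'
    have hfnil := hnil _ hQP hQ1 f
      ((Cfsg.Agent.Helper76.InBlock.inducedBlockIn_iff _ _ hKC c f).mpr hf)
    have hreg := (Cfsg.Agent.Helper76.InBlock.abs_pair hM _ _ hK' hP'p hab' hf).1 hfnil
    have hgC : g ∈ Subgroup.centralizer ((Subgroup.zpowers x : Subgroup G) : Set G) := by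
      rw [Subgroup.mem_centralizer_iff]
      intro y hy
      obtain ⟨i, rfl⟩ := Subgroup.mem_zpowers_iff.mp hy
      have hcm : Commute g x := by
        have : g * x = x * g := by
          calc g * x = g * x * g⁻¹ * g := by group
            _ = x * g := by rw [hgx]
        exact this
      exact ((hcm.zpow_right i).eq).symm
    obtain ⟨a, r, hr, ho⟩ := Nat.exists_eq_pow_mul_and_not_dvd (orderOf_pos g).ne' p hp.ne_one
    apply Cfsg.Agent.Helper76.CycAut.mem_of_pow_mem_of_ppart _ T hTp hgT (m := a)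
    have hgpT : g ^ (p ^ a) ∈ T := T.pow_mem hgT _
    have hgpC : g ^ (p ^ a) ∈
        Subgroup.centralizer ((Subgroup.zpowers x : Subgroup G) : Set G) :=
      Subgroup.pow_mem _ hgC _
    obtain ⟨hN, hst⟩ := (hT _).mp hgpT
    have h3 := hreg ⟨g ^ (p ^ a), hgpC⟩
      ((Cfsg.Agent.Helper76.InBlock.mem_normalizer_subgroupOf_iff P _ hPC _).mpr hN)
      (Cfsg.Agent.Helper77.stabilizesBlock_downSet _ _ hKC ⟨_, hgpC⟩ hst) (by
        unfold IsPRegular
        rw [Subgroup.orderOf_mk, orderOf_pow_of_dvd (pow_pos hp.pos a).ne' ⟨r, ho⟩, ho,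
          Nat.mul_div_cancel_left _ (pow_pos hp.pos a)]
        exact hr)
    exact Subgroup.mem_subgroupOf.mp h3

end Cfsg.Agent.S4650
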