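import Cfsg.Statements.S4651
import Cfsg.Agent.Lib.Helper16.KRClaim
import Cfsg.Agent.Lib.Helper16.KRChainSum

set_option autoImplicit false
set_option linter.style.haveILetI false
open Cfsg

namespace Cfsg.Agent.S4651

open Cfsg.Agent.Helper16.KR

/-- exchanging two dependent `finsum`s over finite types -/
theorem finsum_mem_swap {α β A : Type*} [Fintype α] [Fintype β] [AddCommMonoid A]
    (S : Set α) (c : β → Prop) (R : α → β → Prop) (g : α → β → A) :
    ∑ᶠ a ∈ S, ∑ᶠ b ∈ {b | R a b ∧ c b}, g a b =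
      ∑ᶠ b ∈ {b | c b}, ∑ᶠ a ∈ {a | a ∈ S ∧ R a b}, g a b := by
  classical
  have hL : ∑ᶠ a ∈ S, ∑ᶠ b ∈ {b | R a b ∧ c b}, g a b =
      ∑ a : α, ∑ b : β, if (a ∈ S ∧ R a b ∧ c b) then g a b else 0 := by
    rw [finsum_mem_eq_sum_ite]
    refine Finset.sum_congr rfl fun a _ => ?_
    by_cases ha : a ∈ S
    · rw [if_pos ha, finsum_mem_eq_sum_ite]
      refine Finset.sum_congr rfl fun b _ => ?_
      by_cases hb : R a b ∧ c b
      · rw [if_pos (show b ∈ {b | R a b ∧ c b} from hb),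
          if_pos (show a ∈ S ∧ R a b ∧ c b from ⟨ha, hb⟩)]
      · rw [if_neg (show b ∉ {b | R a b ∧ c b} from hb),
          if_neg (show ¬ (a ∈ S ∧ R a b ∧ c b) from fun h => hb h.2)]
    · rw [if_neg ha]
      symm
      refine Finset.sum_eq_zero fun b _ => ?_
      rw [if_neg (show ¬ (a ∈ S ∧ R a b ∧ c b) from fun h => ha h.1)]
  have hR : ∑ᶠ b ∈ {b | c b}, ∑ᶠ a ∈ {a | a ∈ S ∧ R a b}, g a b =
      ∑ b : β, ∑ a : α, if (a ∈ S ∧ R a b ∧ c b) then g a b else 0 := by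
    rw [finsum_mem_eq_sum_ite]
    refine Finset.sum_congr rfl fun b _ => ?_
    by_cases hb : c b
    · rw [if_pos (show b ∈ {b | c b} from hb), finsum_mem_eq_sum_ite]
      refine Finset.sum_congr rfl fun a _ => ?_
      by_cases ha : a ∈ S ∧ R a b
      · rw [if_pos (show a ∈ {a | a ∈ S ∧ R a b} from ha),
          if_pos (show a ∈ S ∧ R a b ∧ c b from ⟨ha.1, ha.2, hb⟩)]
      · rw [if_neg (show a ∉ {a | a ∈ S ∧ R a b} from ha),
          if_neg (show ¬ (a ∈ S ∧ R a b ∧ c b) from fun h => ha ⟨h.1, h.2.1⟩)]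
    · rw [if_neg (show b ∉ {b | c b} from hb)]
      symm
      refine Finset.sum_eq_zero fun a _ => ?_
      rw [if_neg (show ¬ (a ∈ S ∧ R a b ∧ c b) from fun h => hb h.2.2)]
  rw [hL, hR, Finset.sum_comm]

/-- An alternating-sum identity over chains of p-subgroups (the character-count form behind the chain reformulation of Alperin's weight conjecture, which holds unconditionally for the difference k − l). Let b be a block of the finite group G relative to a maximal ideal M of the algebraic integers containing the prime p. Consider the nonempty chains s = {Q_0 < Q_1 < ⋯ < Q_m} of nontrivial p-subgroups of G in which every member is normal in the largest member; let N_G(s) be the intersection of the normalizers of the members (the stabilizer of the chain), and let b_s be the set of irreducible characters of N_G(s) lying in blocks of N_G(s) that induce b. Then #G · (k(b) − l(b)) equals the sum over all such chains s of (−1)^m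 · #N_G(s) · (k(b_s) − l(b_s)), where k counts irreducible characters and l is the p-regular rank; equivalently, k(b) − l(b) is the alternating sum of k(b_s) − l(b_s) over representatives of the conjugacy classes of such chains. -/
theorem result {G : Type*} [Group G] [Finite G] (p : ℕ) [Fact p.Prime] (M : Ideal Cfsg.AlgInt) (hM : Cfsg.IsPModular p M) (b : Set (Cfsg.IrrCharacter G)) (hb : Cfsg.IsPBlock M b) : (Nat.card G : ℤ) * ((Nat.card b : ℤ) - (Cfsg.blockRank p b : ℤ)) = ∑ᶠ s ∈ {s : Finset (Subgroup G) | s.Nonempty ∧ (∀ Q ∈ s, ∀ R ∈ s, Q ≤ R ∨ R ≤ Q) ∧ (∀ Q ∈ s, Q ≠ ⊥ ∧ IsPGroup p Q) ∧ ∃ T ∈ s, ∀ Q ∈ s, Q ≤ T ∧ T ≤ Subgroup.normalizer ((Q : Subgroup G) : Set G)}, (-1 : ℤ) ^ (s.card - 1) * (Nat.card (((⨅ Q ∈ s, Subgroup.normalizer ((Q : Subgroup G) : Set G) : Subgroup G))) : ℤ) * ((Nat.card {ψ : Cfsg.IrrCharacter (((⨅ Q ∈ s, Subgroup.normalizer ((Q : Subgroup G) : Set G) : Subgroup G))) | ∃ β : Set (Cfsg.IrrCharacter (((⨅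 Q ∈ s, Subgroup.normalizer ((Q : Subgroup G) : Set G) : Subgroup G)))), ψ ∈ β ∧ Cfsg.IsInducedBlock M (((⨅ Q ∈ s, Subgroup.normalizer ((Q : Subgroup G) : Set G) : Subgroup G))) β b} : ℤ) - (Cfsg.blockRank p {ψ : Cfsg.IrrCharacter (((⨅ Q ∈ s, Subgroup.normalizer ((Q : Subgroup G) : Set G) : Subgroup G))) | ∃ β : Set (Cfsg.IrrCharacter (((⨅ Q ∈ s, Subgroup.normalizer ((Q : Subgroup G) : Set G) : Subgroup G)))), ψ ∈ β ∧ Cfsg.IsInducedBlock M (((⨅ Q ∈ s, Subgroup.normalizer ((Q : Subgroup G) : Set G) : Subgroup G))) β b} : ℤ)) := by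
  classical
  haveI : Fintype G := Fintype.ofFinite G
  haveI : Fintype (Subgroup G) := Fintype.ofFinite _
  -- each term, via `claimB`
  have hterm : ∀ s : Finset (Subgroup G),
      (-1 : ℤ) ^ (s.card - 1) * (Nat.card (((⨅ Q ∈ s, Subgroup.normalizer ((Q : Subgroup G) : Set G) : Subgroup G))) : ℤ) * ((Nat.card {ψ : Cfsg.IrrCharacter (((⨅ Q ∈ s, Subgroup.normalizer ((Q : Subgroup G) : Set G) : Subgroup G))) | ∃ β : Set (Cfsg.IrrCharacter (((⨅ Q ∈ s, Subgroup.normalizer ((Q : Subgroup G) : Set G) : Subgroup G)))), ψ ∈ β ∧ Cfsg.IsInducedBlock M (((⨅ Q ∈ s, Subgroup.normalizer ((Q : Subgroup G) : Set G) : Subgroup G))) β b} : ℤ) - (Cfsg.blockRank p {ψ : Cfsg.IrrCharacter (((⨅ Q ∈ s, Subgroup.normalizer ((Q : Subgroup G) : Set G) : Subgroup G))) | ∃ β : Set (Cfsg.IrrCharacter (((⨅ Q ∈ s, Subgroup.normalizer ((Q : Subgroup G) : Set G) : Subgroup G)))), ψ ∈ β ∧ Cfsg.IsInducedBlock M (((⨅ Q ∈ s, Subgroup.normalizer ((Q : Subgroup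 G) : Set G) : Subgroup G))) β b} : ℤ)) =
      ∑ᶠ u ∈ {u : G | u ∈ Nst s ∧ (u ≠ 1 ∧ ∃ k : ℕ, orderOf u = p ^ k)},
        (-1 : ℤ) ^ (s.card - 1) *
          wt M p b (Nst s ⊓ Subgroup.centralizer ({u} : Set G)) := by
    intro s
    rw [mul_assoc]
    have h := claimB (p := p) hM (b := b)
      (⨅ Q ∈ s, Subgroup.normalizer ((Q : Subgroup G) : Set G) : Subgroup G)
    rw [h, mul_finsum_mem' _ _ (Set.toFinite _)]
    rfl
  rw [finsum_mem_congr rfl (fun s _ => hterm s)]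
  rw [finsum_mem_swap
    {s : Finset (Subgroup G) | s.Nonempty ∧ (∀ Q ∈ s, ∀ R ∈ s, Q ≤ R ∨ R ≤ Q) ∧ (∀ Q ∈ s, Q ≠ ⊥ ∧ IsPGroup p Q) ∧ ∃ T ∈ s, ∀ Q ∈ s, Q ≤ T ∧ T ≤ Subgroup.normalizer ((Q : Subgroup G) : Set G)}
    (fun u : G => u ≠ 1 ∧ ∃ k : ℕ, orderOf u = p ^ k)
    (fun s u => u ∈ Nst s)
    (fun s u => (-1 : ℤ) ^ (s.card - 1) *
      wt M p b (Nst s ⊓ Subgroup.centralizer ({u} : Set G)))]
  rw [claimA hM hb]
  refine finsum_mem_congr rfl fun u hu => ?_
  exact (chain_sum u hu.1 hu.2 (wt M p b)).symm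

end Cfsg.Agent.S4651
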