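import Cfsg.Statements.S4652
import Mathlib
import Cfsg.Agent.Lib.Helper77.Principal

set_option autoImplicit false
open Cfsg

namespace Cfsg.Agent.S4652

open Cfsg.Agent.Helper77

/-- A Sylow `p`-subgroup of a subgroup of index prime to `p` has the order of a Sylow `p`-subgroup
of the whole group. -/
theorem card_map_sylow {G : Type*} [Group G] [Finite G] {p : ℕ} [Fact p.Prime] (H : Subgroup G)
    (hH : ¬ p ∣ H.index) (P : Sylow p H) :
    Nat.card ((P : Subgroup H).map H.subtype) = p ^ (Nat.card G).factorization p := by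
  rw [Subgroup.card_map_of_injective H.subtype_injective, P.card_eq_multiplicity,
    ← Subgroup.card_mul_index H,
    Nat.factorization_mul Nat.card_pos.ne' (Subgroup.index_ne_zero_of_finite),
    Finsupp.add_apply, Nat.factorization_eq_zero_of_not_dvd hH, add_zero]

theorem not_dvd_index_of_isDefectClass {G : Type*} [Group G] [Fintype G] {p : ℕ}
    {M : Ideal Cfsg.AlgInt} (hM : Cfsg.IsPModular p M) {g : G}
    (hg : Cfsg.IsDefectClass M (Cfsg.principalBlock M G) g) :
    ¬ p ∣ (Subgroup.centralizer ({g} : Set G)).index := by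
  have := isPrime_of_isPModular hM
  have h := hg.2.2 (trivIrr G) (trivIrr_mem_principalBlock M)
  rw [centralChar_trivIrr, memLocalIdeal_natCast_iff hM] at h
  exact h

/-- Fix a prime p and a maximal ideal M of the algebraic integers containing p. The defect groups of the principal p-block of a finite group G are exactly the Sylow p-subgroups of G: a subgroup D is a defect group of the principal block if and only if D is a Sylow p-subgroup. -/
theorem result {G : Type*} [Group G] [Fintype G] (p : ℕ) [Fact p.Prime] (M : Ideal Cfsg.AlgInt) (hM : Cfsg.IsPModular p M) (D : Subgroup G) : Cfsg.IsDefectGroup p M (Cfsg.principalBlock M G) D ↔ ∃ S : Sylow p G, (S : Subgroup G) = D := by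
  have := isPrime_of_isPModular hM
  constructor
  · rintro ⟨g, hg, P, rfl⟩
    exact ⟨Sylow.ofCard _ (card_map_sylow _ (not_dvd_index_of_isDefectClass hM hg) P), rfl⟩
  · rintro ⟨S, rfl⟩
    obtain ⟨g, hg⟩ := exists_isDefectClass (isPBlock_principalBlock (G := G) M)
    have hidx := not_dvd_index_of_isDefectClass hM hg
    obtain ⟨P₀⟩ : Nonempty (Sylow p (Subgroup.centralizer ({g} : Set G))) := inferInstance
    let Q : Sylow p G := Sylow.ofCard _ (card_map_sylow _ hidx P₀)
    obtain ⟨x, hx⟩ := MulAction.exists_smul_eq G Q S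
    have hg' := isDefectClass_conj hg x
    have hle : (S : Subgroup G) ≤ Subgroup.centralizer ({x * g * x⁻¹} : Set G) := by
      intro s hs
      rw [← hx, Sylow.coe_subgroup_smul, Subgroup.mem_smul_pointwise_iff_exists] at hs
      obtain ⟨q, hq, rfl⟩ := hs
      have hq' : q ∈ ((P₀ : Subgroup _).map (Subgroup.centralizer ({g} : Set G)).subtype) := hq
      obtain ⟨c, _, rfl⟩ := Subgroup.mem_map.mp hq'
      have hc := c.2
      rw [Subgroup.mem_centralizer_iff] at hc ⊢
      intro y hy
      rw [Set.mem_singleton_iff] at hy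
      subst hy
      have h1 : g * (c : G) = (c : G) * g := hc g rfl
      simp only [Subgroup.coe_subtype, MulAut.smul_def, MulAut.conj_apply]
      calc x * g * x⁻¹ * (x * ↑c * x⁻¹) = x * (g * ↑c) * x⁻¹ := by group
        _ = x * (↑c * g) * x⁻¹ := by rw [h1]
        _ = x * ↑c * x⁻¹ * (x * g * x⁻¹) := by group
    refine ⟨x * g * x⁻¹, hg', S.subtype hle, ?_⟩
    rw [Sylow.coe_subtype, Subgroup.subgroupOf_map_subtype, inf_of_le_left hle]

end Cfsg.Agent.S4652
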