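import Cfsg.Statements.S4665
import Mathlib
import Cfsg.Agent.Lib.Helper77.BlockIdem

set_option autoImplicit false
open Cfsg

namespace Cfsg.Agent.S4665

open Cfsg.Agent.Helper77 Cfsg.Agent.Helper79

theorem sum_subgroup_irr {G : Type*} [Group G] [Fintype G] (S : Subgroup G) [Fintype S]
    (ψ : G → ℂ) (hψ : IsIrrCharacter G ψ) :
    ∃ m : ℕ, ∑ s : S, ψ (s : G) = (Nat.card S : ℂ) * m := by
  classical
  obtain ⟨n, ρ, -, rfl⟩ := hψ
  let σ : Representation ℂ S (Fin n → ℂ) := ρ.comp S.subtype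
  have hne : (Nat.card S : ℂ) ≠ 0 := by
    have : 0 < Nat.card S := Nat.card_pos
    exact_mod_cast this.ne'
  have : Invertible (Nat.card S : ℂ) := invertibleOfNonzero hne
  have h := Representation.card_inv_mul_sum_char_eq_finrank σ
  refine ⟨Module.finrank ℂ (Representation.invariants σ), ?_⟩
  rw [← h, ← mul_assoc, mul_inv_cancel₀ hne, one_mul]
  rfl

theorem pRegularPart_one {G : Type*} [Group G] (p : ℕ) [Fact p.Prime] (χ : G → ℂ) :
    pRegularPart p χ 1 = χ 1 := by
  classical
  unfold pRegularPart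
  rw [if_pos]
  unfold IsPRegular
  rw [orderOf_one]
  exact (Fact.out : p.Prime).one_lt.ne' ∘ Nat.dvd_one.mp

theorem pRegularPart_of_pGroup {G : Type*} [Group G] [Fintype G] (p : ℕ) [Fact p.Prime] (χ : G → ℂ)
    (S : Subgroup G) (hS : IsPGroup p S) (s : S) (hs : s ≠ 1) :
    pRegularPart p χ (s : G) = 0 := by
  classical
  unfold pRegularPart
  rw [if_neg]
  unfold IsPRegular
  rw [not_not]
  obtain ⟨k, hk⟩ := hS s
  have h1 : orderOf s ∣ p ^ k := orderOf_dvd_of_pow_eq_one hk
  obtain ⟨j, hj, hj2⟩ := (Nat.dvd_prime_pow (Fact.out : p.Prime)).mp h1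
  have hne : orderOf s ≠ 1 := by
    rw [Ne, orderOf_eq_one_iff]; exact hs
  rw [Subgroup.orderOf_coe, hj2]
  rcases j with _ | j
  · simp [hj2] at hne
  · exact dvd_pow_self p (Nat.succ_ne_zero j)

/-- Fix a prime p, a maximal ideal M of the algebraic integers containing p, and a p-block B of the finite group G, and let p^a be the p-part of the order of G. Let χ be an integer combination of the irreducible characters in B. If the function that agrees with χ on p-regular elements and vanishes on p-singular elements is again an integer combination of the irreducible characters in B, then p^a divides χ(1). -/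
theorem result {G : Type*} [Group G] [Fintype G] (p : ℕ) [Fact p.Prime] (M : Ideal Cfsg.AlgInt) (hM : Cfsg.IsPModular p M) (B : Set (Cfsg.IrrCharacter G)) (hB : Cfsg.IsPBlock M B) (χ : G → ℂ) (hχ : (∃ n : Cfsg.IrrCharacter G → ℤ, ∀ g : G, χ g = ∑ᶠ ψ ∈ B, (n ψ : ℂ) * (ψ : G → ℂ) g)) (h0 : (∃ n : Cfsg.IrrCharacter G → ℤ, ∀ g : G, Cfsg.pRegularPart p χ g = ∑ᶠ ψ ∈ B, (n ψ : ℂ) * (ψ : G → ℂ) g)) : ∃ k : ℤ, χ 1 = (p ^ (Nat.card G).factorization p : ℂ) * k := by
  classical
  obtain ⟨n, hn⟩ := h0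
  obtain ⟨S⟩ : Nonempty (Sylow p G) := inferInstance
  have hcard : Nat.card (S : Subgroup G) = p ^ (Nat.card G).factorization p := S.card_eq_multiplicity
  choose m hm using fun ψ : IrrCharacter G => sum_subgroup_irr (S : Subgroup G) ψ.1 ψ.2
  have h1 : ∑ s : (S : Subgroup G), pRegularPart p χ (s : G) = χ 1 := by
    rw [Finset.sum_eq_single (1 : (S : Subgroup G))]
    · rw [Subgroup.coe_one, pRegularPart_one]
    · intro s _ hs
      exact pRegularPart_of_pGroup p χ _ S.isPGroup' s hs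
    · intro h; exact absurd (Finset.mem_univ _) h
  have h2 : ∑ s : (S : Subgroup G), pRegularPart p χ (s : G) =
      ∑ ψ ∈ (Set.toFinite B).toFinset, (n ψ : ℂ) * ((Nat.card (S : Subgroup G) : ℂ) * m ψ) := by
    simp_rw [hn, finsum_mem_eq_finite_toFinset_sum _ (Set.toFinite B)]
    rw [Finset.sum_comm]
    refine Finset.sum_congr rfl fun ψ _ => ?_
    rw [← Finset.mul_sum, hm]
  refine ⟨∑ ψ ∈ (Set.toFinite B).toFinset, n ψ * m ψ, ?_⟩
  rw [← h1, h2, hcard]
  push_cast
  rw [Finset.mul_sum]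
  refine Finset.sum_congr rfl fun ψ _ => ?_
  ring

end Cfsg.Agent.S4665
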