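import Cfsg.Statements.S4669
import Cfsg.Agent.Lib.Helper78.CentralDefect

set_option autoImplicit false
open Cfsg

namespace Cfsg.Agent.S4669

/-- Fix a prime p and a maximal ideal M of the algebraic integers containing p. If the p-block B of the finite group G has a defect group P contained in the centre of G, then B has p-regular rank one (a single irreducible Brauer character). -/
theorem result {G : Type*} [Group G] [Fintype G] (p : ℕ) [Fact p.Prime] (M : Ideal Cfsg.AlgInt) (hM : Cfsg.IsPModular p M) (B : Set (Cfsg.IrrCharacter G)) (hB : Cfsg.IsPBlock M B) (P : Subgroup G) (hD : Cfsg.IsDefectGroup p M B P) (hPZ : P ≤ Subgroup.center G) : Cfsg.blockRank p B = 1 := by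
  classical
  have hp : p.Prime := Fact.out
  have hpr := Cfsg.Agent.Helper77.isPrime_of_isPModular hM
  have hPn : P.Normal := by
    constructor
    intro n hn g
    have := (Subgroup.mem_center_iff.1 (hPZ hn)) g
    rw [this, mul_inv_cancel_right]
    exact hn
  have hcard := Cfsg.Agent.Helper74.DO.card_defectGroup hM hB P hD
  have hPp : IsPGroup p P := IsPGroup.of_card hcard
  obtain ⟨ξ, hξ, hker⟩ :=
    Cfsg.Agent.Helper78.exists_mem_block_const_on_normal_pgroup hM P hPp hB
  have hle : P ≤ Cfsg.Agent.Helper79.irrKer ξ := fun n hn =>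
    (Cfsg.Agent.Helper79.mem_irrKer ξ n).2 (hker ⟨n, hn⟩)
  obtain ⟨ψ₀, rfl⟩ := Cfsg.Agent.Helper79.exists_deflate P ξ hle
  have h₀ : Cfsg.Agent.Helper79.inflate P ψ₀ ∈ B := hξ
  have hq0 : (Nat.card (G ⧸ P) : ℂ) ≠ 0 := by exact_mod_cast Nat.card_pos.ne'
  unfold Cfsg.blockRank
  have hspan : Submodule.span ℂ
      ((fun χ : Cfsg.IrrCharacter G => Cfsg.pRegularPart p (χ : G → ℂ)) '' B) =
      Submodule.span ℂ {Cfsg.pRegularPart p (Cfsg.Agent.Helper79.inflate P ψ₀ : G → ℂ)} := by
    apply le_antisymm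
    · rw [Submodule.span_le]
      rintro _ ⟨χ, hχ, rfl⟩
      show Cfsg.pRegularPart p (χ : G → ℂ) ∈
        ((Submodule.span ℂ {Cfsg.pRegularPart p (Cfsg.Agent.Helper79.inflate P ψ₀ : G → ℂ)} : Submodule ℂ (G → ℂ)) : Set (G → ℂ))
      rw [SetLike.mem_coe, Submodule.mem_span_singleton]
      refine ⟨(Nat.card (G ⧸ P) : ℂ)⁻¹ *
        ∑ y ∈ Finset.univ.filter (fun y : G => ¬ p ∣ orderOf y),
          (χ : G → ℂ) y * (starRingEnd ℂ) ((Cfsg.Agent.Helper79.inflate P ψ₀ : G → ℂ) y), ?_⟩
      funext x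
      by_cases hx : p ∣ orderOf x
      · rw [Pi.smul_apply, Cfsg.Agent.Helper78.pRegularPart_of_singular p _ hx,
          Cfsg.Agent.Helper78.pRegularPart_of_singular p _ hx, smul_zero]
      · rw [Pi.smul_apply, Cfsg.Agent.Helper78.pRegularPart_of_regular p _ hx,
          Cfsg.Agent.Helper78.pRegularPart_of_regular p _ hx, smul_eq_mul]
        have key := Cfsg.Agent.Helper78.scalar_regular_of_central hM P hPZ hB hD ψ₀ h₀ χ hχ x hx
        rw [mul_assoc, ← key, ← mul_assoc, inv_mul_cancel₀ hq0, one_mul]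
    · apply Submodule.span_mono
      rintro _ rfl
      exact ⟨_, hξ, rfl⟩
  rw [hspan]
  apply finrank_span_singleton
  intro h0
  have h1 := congrFun h0 1
  rw [Cfsg.Agent.Helper78.pRegularPart_one] at h1
  exact Cfsg.Agent.Helper77.irrChar_one_ne_zero (Cfsg.Agent.Helper79.inflate P ψ₀).2 h1

end Cfsg.Agent.S4669
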