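import Cfsg.Statements.S4683
import Cfsg.Agent.Lib.Helper16.BlockPartReg
import Cfsg.Agent.Lib.Helper16.SecondMain
import Cfsg.Agent.Lib.Helper16.PPart
import Cfsg.Agent.Lib.Helper78.BlockRank
import Cfsg.Agent.Lib.Helper78.CharSchur
import Cfsg.Agent.Lib.Helper77.BrauerMap

set_option autoImplicit false
set_option linter.style.haveILetI false
set_option linter.unusedSectionVars false
open Cfsg

namespace Cfsg.Agent.S4683

open scoped ComplexConjugate
open Cfsg.Agent.Helper16 Cfsg.Agent.Helper77 Cfsg.Agent.Helper78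

section aux

variable {G : Type*} [Group G] [Fintype G] (p : ℕ) [Fact p.Prime]

/-- Column orthogonality on the `p`-section of `u`: for `p`-regular `a, a''` in `C = C_G(u)`,
`∑_χ χ(u a) χ(u⁻¹ a'') = ∑_ψ ψ(a) ψ(a'')`. -/
theorem sum_irr_section (u : G) (hu : ∃ k : ℕ, orderOf u = p ^ k) (C : Subgroup G) [Fintype C]
    (hCmem : ∀ z : G, z ∈ C ↔ u * z = z * u) (a a'' : C) (ha : ¬ p ∣ orderOf a)
    (ha'' : ¬ p ∣ orderOf a'') :
    ∑ χ : IrrCharacter G, (χ : G → ℂ) (u * (a : G)) * (χ : G → ℂ) (u⁻¹ * (a'' : G)) =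
      ∑ ψ : IrrCharacter C, (ψ : C → ℂ) a * (ψ : C → ℂ) a'' := by
  classical
  have hp : p.Prime := Fact.out
  rw [sum_irr_mul, sum_irr_mul]
  congr 1
  symm
  have hcomm : ∀ c : C, u * (c : G) = (c : G) * u := fun c => (hCmem c).1 c.2
  refine Finset.card_bij (fun t _ => (t : G)) ?_ ?_ ?_
  · intro t ht
    simp only [Finset.mem_filter, Finset.mem_univ, true_and] at ht ⊢
    have h1 : (t : G) * (a : G) * (t : G)⁻¹ * (a'' : G) = 1 := by
      have := congrArg (Subtype.val) ht
      simpa using this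
    have htu := hcomm t
    have hau := hcomm a
    calc (t : G) * (u * (a : G)) * (t : G)⁻¹ * (u⁻¹ * (a'' : G))
        = ((t : G) * u) * (a : G) * (t : G)⁻¹ * u⁻¹ * (a'' : G) := by group
      _ = (u * (t : G)) * (a : G) * (t : G)⁻¹ * u⁻¹ * (a'' : G) := by rw [htu]
      _ = u * ((t : G) * (a : G) * (t : G)⁻¹) * u⁻¹ * (a'' : G) := by group
      _ = ((t : G) * (a : G) * (t : G)⁻¹) * u * u⁻¹ * (a'' : G) := by
          rw [show u * ((t : G) * (a : G) * (t : G)⁻¹) = ((t : G) * (a : G) * (t : G)⁻¹) * u from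
            hcomm (t * a * t⁻¹)]
      _ = (t : G) * (a : G) * (t : G)⁻¹ * (a'' : G) := by group
      _ = 1 := h1
  · intro t₁ _ t₂ _ h
    exact Subtype.ext h
  · intro t ht
    simp only [Finset.mem_filter, Finset.mem_univ, true_and] at ht
    -- `t` commutes with `u`
    have hpa : IsPPart p (u * (a : G)) u :=
      ⟨(a : G), rfl, hcomm a, hu, by rwa [Subgroup.orderOf_coe]⟩
    have ha''inv : ¬ p ∣ orderOf ((a'' : G)⁻¹) := by
      rw [orderOf_inv, Subgroup.orderOf_coe]; exact ha''
    have hcomm'' : u * (a'' : G)⁻¹ = (a'' : G)⁻¹ * u := by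
      have := hcomm a''⁻¹
      simpa using this
    have hpa'' : IsPPart p (u * (a'' : G)⁻¹) u := ⟨(a'' : G)⁻¹, rfl, hcomm'', hu, ha''inv⟩
    have hconj : t * (u * (a : G)) ^ 1 = (u * (a'' : G)⁻¹) ^ 1 * t := by
      rw [pow_one, pow_one]
      have h2 : t * (u * (a : G)) * t⁻¹ = (u⁻¹ * (a'' : G))⁻¹ := by
        rw [eq_inv_iff_mul_eq_one]; exact ht
      have h3 : (u⁻¹ * (a'' : G))⁻¹ = u * (a'' : G)⁻¹ := by
        rw [mul_inv_rev, inv_inv, ← hcomm'']
      rw [h3] at h2
      rw [← h2]; group
    have htu : t * u = u * t :=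
      semiconj_ppart hp hpa hpa'' (i := 1) (by
        intro h; exact hp.one_lt.ne' (Nat.dvd_one.1 h)) hconj
    have htC : t ∈ C := (hCmem t).2 htu.symm
    refine ⟨⟨t, htC⟩, ?_, rfl⟩
    simp only [Finset.mem_filter, Finset.mem_univ, true_and]
    apply Subtype.ext
    push_cast
    have hau := hcomm a
    have h4 : u * (t * (a : G) * t⁻¹) = (t * (a : G) * t⁻¹) * u :=
      hcomm (⟨t, htC⟩ * a * ⟨t, htC⟩⁻¹)
    have : t * (u * (a : G)) * t⁻¹ * (u⁻¹ * (a'' : G)) = t * (a : G) * t⁻¹ * (a'' : G) := by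
      calc t * (u * (a : G)) * t⁻¹ * (u⁻¹ * (a'' : G))
          = (t * u) * (a : G) * t⁻¹ * u⁻¹ * (a'' : G) := by group
        _ = (u * t) * (a : G) * t⁻¹ * u⁻¹ * (a'' : G) := by rw [htu]
        _ = u * (t * (a : G) * t⁻¹) * u⁻¹ * (a'' : G) := by group
        _ = (t * (a : G) * t⁻¹) * u * u⁻¹ * (a'' : G) := by rw [h4]
        _ = t * (a : G) * t⁻¹ * (a'' : G) := by group
    rw [← this]
    exact ht


/-- Expanding a product of two "twisted block parts" bilinearly. -/
theorem bilin_expand {C : Type*} [Group C] [Fintype C] {ι : Type*} [Fintype ι] (A : C → ℂ)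
    (R : C → Prop) [DecidablePred R] (f g : ι → C → ℂ) (s s' : C) :
    ∑ i : ι, (∑ k : C, A k * (if R (k * s) then f i (k * s) else 0)) *
        (∑ k' : C, A k' * (if R (k' * s') then g i (k' * s') else 0)) =
      ∑ k : C, ∑ k' : C, A k * A k' *
        (if R (k * s) ∧ R (k' * s') then ∑ i : ι, f i (k * s) * g i (k' * s') else 0) := by
  simp_rw [Finset.sum_mul_sum]
  rw [Finset.sum_comm]
  refine Finset.sum_congr rfl fun k _ => ?_
  rw [Finset.sum_comm]
  refine Finset.sum_congr rfl fun k' _ => ?_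
  by_cases h1 : R (k * s)
  · by_cases h2 : R (k' * s')
    · simp only [h1, h2, if_true, and_self]
      rw [Finset.mul_sum]
      refine Finset.sum_congr rfl fun i _ => ?_
      ring
    · simp [h1, h2]
  · simp [h1]

variable {p}

/-- Translates of a class function of `G` by an element centralized by `C` are class functions
on `C`. -/
theorem isClassFunction_translate (C : Subgroup G) (w : G) (hw : ∀ c : C, w * (c : G) = (c : G) * w)
    (χ : IrrCharacter G) : IsClassFunction C (fun c : C => (χ : G → ℂ) (w * (c : G))) := by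
  have hχcl := isClassFunction_of_isIrrCharacter χ.2
  intro c k'
  show (χ : G → ℂ) (w * ((k' * c * k'⁻¹ : C) : G)) = (χ : G → ℂ) (w * (c : G))
  have hkx := hw k'
  have : w * ((k' * c * k'⁻¹ : C) : G) = (k' : G) * (w * (c : G)) * (k' : G)⁻¹ := by
    push_cast
    calc w * ((k' : G) * (c : G) * (k' : G)⁻¹) = (w * (k' : G)) * (c : G) * (k' : G)⁻¹ := by
          group
      _ = ((k' : G) * w) * (c : G) * (k' : G)⁻¹ := by rw [hkx]
      _ = (k' : G) * (w * (c : G)) * (k' : G)⁻¹ := by group
  rw [this, hχcl]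

theorem isClassFunction_pRegularPart {X : Type*} [Group X] (q : ℕ) {F : X → ℂ}
    (hF : IsClassFunction X F) : IsClassFunction X (pRegularPart q F) := by
  intro g h
  unfold pRegularPart IsPRegular
  have h1 : orderOf (h * g * h⁻¹) = orderOf g := by
    have : h * g * h⁻¹ = MulAut.conj h g := by simp [MulAut.conj_apply]
    rw [this]
    exact orderOf_injective (MulAut.conj h).toMonoidHom (MulAut.conj h).injective g
  rw [h1, hF g h]

/-- Expansion of a block part at a `p`-regular element through the idempotent and the `p`-regular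
truncation. -/
theorem blockPart_expand {X : Type*} [Group X] [Fintype X] {M : Ideal AlgInt}
    (hM : IsPModular p M) {e : Set (IrrCharacter X)} (he : IsPBlock M e) {F : X → ℂ}
    (hF : IsClassFunction X F) (s : X) (hs : ¬ p ∣ orderOf s) :
    blockPart e F s =
      ∑ k : X, blockCoeff e k * (if ¬ p ∣ orderOf (k * s) then F (k * s) else 0) := by
  classical
  rw [blockPart_pRegularPart hM he F s hs,
    blockPart_eq_sum_blockCoeff e (isClassFunction_pRegularPart p hF) s]
  refine Finset.sum_congr rfl fun k _ => ?_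
  unfold pRegularPart IsPRegular
  by_cases h : p ∣ orderOf (k * s) <;> simp [h]

/-- The general form. -/
theorem aux (M : Ideal AlgInt) (hM : IsPModular p M) (B : Set (IrrCharacter G)) (u : G)
    (hu : ∃ k : ℕ, orderOf u = p ^ k) (C : Subgroup G) [Fintype C]
    (hCmem : ∀ z : G, z ∈ C ↔ u * z = z * u) (e : Set (IrrCharacter C))
    (hind : IsInducedBlock M C e B) :
    ∑ᶠ χ ∈ B, ∑ᶠ s : C, pRegularPart p (blockPart e (fun c : C => (χ : G → ℂ) (u * c))) s *
        blockPart e (fun c : C => (χ : G → ℂ) (u⁻¹ * c)) s⁻¹ =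
      (Nat.card C : ℂ) * (blockRank p e : ℂ) := by
  classical
  haveI hpr := isPrime_of_isPModular hM
  have hp : p.Prime := hM.1
  have he := hind.1
  have hB := hind.2.1
  have hcomm : ∀ c : C, u * (c : G) = (c : G) * u := fun c => (hCmem c).1 c.2
  have hcomm' : ∀ c : C, u⁻¹ * (c : G) = (c : G) * u⁻¹ := by
    intro c
    have := hcomm c
    calc u⁻¹ * (c : G) = u⁻¹ * ((c : G) * u) * u⁻¹ := by group
      _ = u⁻¹ * (u * (c : G)) * u⁻¹ := by rw [this]
      _ = (c : G) * u⁻¹ := by group
  have huC : u ∈ C := (hCmem u).2 rfl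
  have hϑcl := fun χ : IrrCharacter G => isClassFunction_translate C u hcomm χ
  have hϑ'cl := fun χ : IrrCharacter G => isClassFunction_translate C u⁻¹ hcomm' χ
  -- the key identity at a pair of `p`-regular elements
  have key : ∀ s s' : C, ¬ p ∣ orderOf s → ¬ p ∣ orderOf s' →
      ∑ χ : IrrCharacter G, blockPart e (fun c : C => (χ : G → ℂ) (u * c)) s *
          blockPart e (fun c : C => (χ : G → ℂ) (u⁻¹ * c)) s' =
        ∑ ψ : IrrCharacter C, blockPart e (ψ : C → ℂ) s * blockPart e (ψ : C → ℂ) s' := by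
    intro s s' hs hs'
    have h1 : ∀ χ : IrrCharacter G, blockPart e (fun c : C => (χ : G → ℂ) (u * c)) s *
          blockPart e (fun c : C => (χ : G → ℂ) (u⁻¹ * c)) s' =
        (∑ k : C, blockCoeff e k * (if ¬ p ∣ orderOf (k * s) then
            (χ : G → ℂ) (u * ((k * s : C) : G)) else 0)) *
        (∑ k' : C, blockCoeff e k' * (if ¬ p ∣ orderOf (k' * s') then
            (χ : G → ℂ) (u⁻¹ * ((k' * s' : C) : G)) else 0)) := by
      intro χ
      rw [blockPart_expand hM he (hϑcl χ) s hs, blockPart_expand hM he (hϑ'cl χ) s' hs']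
    have h2 : ∀ ψ : IrrCharacter C, blockPart e (ψ : C → ℂ) s * blockPart e (ψ : C → ℂ) s' =
        (∑ k : C, blockCoeff e k * (if ¬ p ∣ orderOf (k * s) then
            (ψ : C → ℂ) (k * s) else 0)) *
        (∑ k' : C, blockCoeff e k' * (if ¬ p ∣ orderOf (k' * s') then
            (ψ : C → ℂ) (k' * s') else 0)) := by
      intro ψ
      rw [blockPart_expand hM he (isClassFunction_of_isIrrCharacter ψ.2) s hs,
        blockPart_expand hM he (isClassFunction_of_isIrrCharacter ψ.2) s' hs']
    have hG := bilin_expand (blockCoeff e) (fun c : C => ¬ p ∣ orderOf c)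
      (fun (χ : IrrCharacter G) (c : C) => (χ : G → ℂ) (u * (c : G)))
      (fun (χ : IrrCharacter G) (c : C) => (χ : G → ℂ) (u⁻¹ * (c : G))) s s'
    have hC := bilin_expand (blockCoeff e) (fun c : C => ¬ p ∣ orderOf c)
      (fun (ψ : IrrCharacter C) (c : C) => (ψ : C → ℂ) c)
      (fun (ψ : IrrCharacter C) (c : C) => (ψ : C → ℂ) c) s s'
    beta_reduce at hG hC
    rw [Finset.sum_congr rfl (fun χ _ => h1 χ), Finset.sum_congr rfl (fun ψ _ => h2 ψ), hG, hC]
    refine Finset.sum_congr rfl fun k _ => ?_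
    refine Finset.sum_congr rfl fun k' _ => ?_
    by_cases hR : ¬ p ∣ orderOf (k * s) ∧ ¬ p ∣ orderOf (k' * s')
    · rw [if_pos hR, if_pos hR]
      congr 1
      exact sum_irr_section p u hu C hCmem (k * s) (k' * s') hR.1 hR.2
    · rw [if_neg hR, if_neg hR]
  -- assemble
  rw [finsum_mem_eq_finite_toFinset_sum _ (Set.toFinite B)]
  simp_rw [finsum_eq_sum_of_fintype]
  rw [card_mul_blockRank hM he, Finset.sum_comm]
  refine Finset.sum_congr rfl fun s _ => ?_
  by_cases hs : p ∣ orderOf s
  · have h0 : ∀ F : C → ℂ, pRegularPart p F s = 0 := by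
      intro F
      unfold pRegularPart IsPRegular
      simp [hs]
    simp_rw [h0, zero_mul]
    simp
  · have h0 : ∀ F : C → ℂ, pRegularPart p F s = F s := by
      intro F
      unfold pRegularPart IsPRegular
      simp [hs]
    simp_rw [h0]
    have hs' : ¬ p ∣ orderOf s⁻¹ := by rwa [orderOf_inv]
    -- extend the sum over `B` to all characters
    have hB1 : ∑ χ ∈ (Set.toFinite B).toFinset,
          blockPart e (fun c : C => (χ : G → ℂ) (u * c)) s *
            blockPart e (fun c : C => (χ : G → ℂ) (u⁻¹ * c)) s⁻¹ =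
        ∑ χ : IrrCharacter G, blockPart e (fun c : C => (χ : G → ℂ) (u * c)) s *
            blockPart e (fun c : C => (χ : G → ℂ) (u⁻¹ * c)) s⁻¹ := by
      apply Finset.sum_subset (Finset.subset_univ _)
      intro χ _ hχ
      rw [Set.Finite.mem_toFinset] at hχ
      have hzero : blockPart e (fun c : C => (χ : G → ℂ) (u * c)) s = 0 := by
        rw [blockPart_eq_sum_blockCoeff e (hϑcl χ) s]
        set h : C := ⟨u, huC⟩ * s with hh
        have hpart : IsPPart p (h : G) u :=
          ⟨(s : G), by rw [hh]; rfl, hcomm s, hu, by rwa [Subgroup.orderOf_coe]⟩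
        have hC : ∀ z : G, IsPPart p (h : G) z →
            Subgroup.centralizer ({z} : Set G) ≤ C := by
          intro z hz
          rw [isPPart_unique hp hz hpart]
          intro w hw
          exact (hCmem w).2 ((mem_centralizer_singleton_iff' u w).1 hw)
        have hmain := second_main_idem hM C hind h hC χ hχ
        rw [← hmain]
        refine Finset.sum_congr rfl fun k _ => ?_
        congr 1
        have hkx := hcomm k
        have heq : u * ((k * s : C) : G) = (k : G) * (h : G) := by
          rw [hh]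
          push_cast
          calc u * ((k : G) * (s : G)) = (u * (k : G)) * (s : G) := by group
            _ = ((k : G) * u) * (s : G) := by rw [hkx]
            _ = (k : G) * (u * (s : G)) := by group
        show (χ : G → ℂ) (u * ((k * s : C) : G)) = (χ : G → ℂ) ((k : G) * (h : G))
        rw [heq]
      rw [hzero, zero_mul]
    rw [hB1, key s s⁻¹ hs hs']
    simp_rw [blockPart_irr]
    rw [← Finset.sum_subset (Finset.subset_univ (Set.toFinite e).toFinset)]
    · refine Finset.sum_congr rfl fun ψ hψ => ?_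
      rw [Set.Finite.mem_toFinset] at hψ
      rw [if_pos hψ, if_pos hψ]
    · intro ψ _ hψ
      rw [Set.Finite.mem_toFinset] at hψ
      rw [if_neg hψ, zero_mul]

end aux

/-- Fix a prime p and a maximal ideal M of the algebraic integers containing p, a p-block B of the finite group G, a p-element u and a p-block e of C = C_G(u) such that (⟨u⟩, e) is a Brauer pair of B (a Brauer element of B). For χ ∈ B let χ_u be the e-part of the class function c ↦ χ(u c) on C and χ_u' the e-part of c ↦ χ(u⁻¹ c). Then the sum over χ ∈ B and over the p-regular elements s of C of χ_u(s)·χ_u'(s⁻¹) equals the order of C times the p-regular rank of e (the number of irreducible Brauer characters of e). -/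
theorem result {G : Type*} [Group G] [Fintype G] (p : ℕ) [Fact p.Prime] (M : Ideal Cfsg.AlgInt) (hM : Cfsg.IsPModular p M) (B : Set (Cfsg.IrrCharacter G)) (u : G) (hu : ∃ k : ℕ, orderOf u = p ^ k) (e : Set (Cfsg.IrrCharacter (Subgroup.centralizer (Subgroup.zpowers u : Set G)))) (hBe : Cfsg.IsBrauerPairOf p M B (Subgroup.zpowers u) e) : ∑ᶠ χ ∈ B, ∑ᶠ s : Subgroup.centralizer (Subgroup.zpowers u : Set G), Cfsg.pRegularPart p (Cfsg.blockPart e (fun c : Subgroup.centralizer (Subgroup.zpowers u : Set G) => (χ : G → ℂ) (u * c))) s * Cfsg.blockPart e (fun c : Subgroup.centralizer (Subgroup.zpowers u : Set G) => (χ : G → ℂ) (u⁻¹ * c)) s⁻¹ = (Nat.card (Subgroup.centralizer (Subgroup.zpowers u : Set G)) : ℂ) * (Cfsg.blockRank p e : ℂ) := by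
  classical
  haveI : Fintype (Subgroup.centralizer ((Subgroup.zpowers u : Subgroup G) : Set G)) :=
    Fintype.ofFinite _
  haveI hpr := isPrime_of_isPModular hM
  obtain ⟨⟨hP, he⟩, hB, hbr⟩ := hBe
  have hPH : Subgroup.zpowers u ≤
      Subgroup.centralizer ((Subgroup.zpowers u : Subgroup G) : Set G) := by
    intro z hz
    rw [mem_centralizer_zpowers_iff]
    obtain ⟨k, rfl⟩ := Subgroup.mem_zpowers_iff.1 hz
    exact ((Commute.refl u).zpow_right k)
  obtain ⟨ξ, hξ⟩ := nonempty_of_isPBlock he
  have hw := isModHom_wOf hM (Subgroup.zpowers u) _ hP hPH le_rfl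
    (Subgroup.centralizer_le_normalizer _) ξ.2
  have hB1 : MemLocalIdeal M (wsum (wOf (Subgroup.centralizer
      ((Subgroup.zpowers u : Subgroup G) : Set G)) (ξ : _ → ℂ)) (blockCoeff B) - 1) := by
    have := hbr ξ hξ
    rw [brauerOmega_eq_omega] at this
    rw [wsum_wOf]
    exact this
  have hind := isInducedBlock_of_isModHom _ he hξ hw hB hB1
  exact aux M hM B u hu _ (mem_centralizer_zpowers_iff u) e hind

end Cfsg.Agent.S4683
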