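import Cfsg.Statements.S4691
import Mathlib
import Cfsg.Agent.S0071
import Cfsg.Agent.Lib.Helper77.ThirdMain

set_option autoImplicit false
open Cfsg

namespace Cfsg.Agent.S4691

/-- Fix a prime p and a maximal ideal M of the algebraic integers containing p. A finite group G has a normal p-complement if and only if its principal p-block is nilpotent. -/
theorem result {G : Type*} [Group G] [Fintype G] (p : ℕ) [Fact p.Prime] (M : Ideal Cfsg.AlgInt) (hM : Cfsg.IsPModular p M) : Cfsg.HasNormalPComplement p G ↔ Cfsg.IsNilpotentBlock p M (Cfsg.principalBlock M G) := by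
  classical
  haveI hpr := Cfsg.Agent.Helper77.isPrime_of_isPModular hM
  have hp : p.Prime := Fact.out
  constructor
  · rintro ⟨P, N, hNn, hNc⟩
    haveI := hNn
    refine ⟨Cfsg.Agent.Helper77.isPBlock_principalBlock M, ?_⟩
    intro Q e hQe x hxN _ hxreg
    have hQ : IsPGroup p Q := hQe.1.1
    have hxco : Nat.Coprime (orderOf x) p :=
      Nat.Coprime.symm ((Nat.Prime.coprime_iff_not_dvd hp).mpr hxreg)
    have hxmem : x ∈ N := (Cfsg.Agent.Helper2.mem_normalPComplement_iff P N hNc x).mpr hxco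
    rw [Subgroup.mem_centralizer_iff]
    intro q hq
    have h1 : x * q * x⁻¹ * q⁻¹ ∈ N := by
      have : x * q * x⁻¹ * q⁻¹ = x * (q * x⁻¹ * q⁻¹) := by group
      rw [this]
      exact N.mul_mem hxmem (hNn.conj_mem _ (N.inv_mem hxmem) q)
    have h2 : x * q * x⁻¹ * q⁻¹ ∈ Q :=
      Q.mul_mem ((Subgroup.mem_normalizer_iff.mp hxN q).mp hq) (Q.inv_mem hq)
    have hco := (Cfsg.Agent.Helper2.mem_normalPComplement_iff P N hNc _).mp h1
    obtain ⟨k, hk⟩ := hQ ⟨_, h2⟩
    have hdvd : orderOf (x * q * x⁻¹ * q⁻¹) ∣ p ^ k := by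
      apply orderOf_dvd_of_pow_eq_one
      have := congrArg Subtype.val hk
      simpa using this
    have hone : orderOf (x * q * x⁻¹ * q⁻¹) = 1 :=
      Nat.Coprime.eq_one_of_dvd (hco.pow_right k) hdvd
    have h3 : x * q * x⁻¹ * q⁻¹ = 1 := orderOf_eq_one_iff.mp hone
    calc q * x = (x * q * x⁻¹ * q⁻¹) * (q * x) := by rw [h3, one_mul]
      _ = x * q := by group
  · rintro ⟨_, hnil⟩
    obtain ⟨P⟩ : Nonempty (Sylow p G) := inferInstance
    obtain ⟨N, hNn, hNc⟩ := (Cfsg.Agent.S0071.result P).mpr (fun Q hQP g hg hgo => by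
      have hQ : IsPGroup p Q := P.isPGroup'.to_le hQP
      have hpair := Cfsg.Agent.Helper77.isBrauerPairOf_principal hM Q hQ
      haveI : Fintype (Subgroup.centralizer (Q : Set G)) := Fintype.ofFinite _
      refine hnil Q _ hpair g hg ?_ ?_
      · exact (Cfsg.Agent.Helper77.stabilizesBlock_iff_conjSet_eq _ g
          (Cfsg.Agent.Helper77.normalizer_le_normalizer_centralizer Q hg)
          (Cfsg.Agent.Helper77.isPBlock_principalBlock M)).mpr
          (Cfsg.Agent.Helper77.conjSet_principalBlock _ g _)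
      · intro hdvd
        exact (Nat.Prime.coprime_iff_not_dvd hp).mp hgo.symm hdvd)
    exact ⟨P, N, hNn, hNc⟩

end Cfsg.Agent.S4691
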