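import Cfsg.Statements.S4694
-- import your own Cfsg.Agent.* helpers here
import Cfsg.Agent.Lib.Helper76.Weight2
import Cfsg.Agent.Lib.Helper76.InBlock2
import Cfsg.Agent.Lib.Helper77.StabBlock
import Cfsg.Agent.Lib.Helper77.Cover

set_option autoImplicit false
set_option linter.style.haveILetI false
set_option maxHeartbeats 1600000
open Cfsg

namespace Cfsg.Agent.S4694

/-- Fix a prime p and a maximal ideal M of the algebraic integers containing p, a p-block B of the finite group G and a Brauer pair (Q, e) of B. Let T be the stabilizer of e in N_G(Q) and suppose that (Q, e) carries a weight: the block of T whose idempotent is that of e contains an irreducible character χ that is constant on the cosets of Q and whose degree has p-part equal to the p-part of the index of Q in T. Then Z(Q) is a defect group of e as a block of C_G(Q), and Q is the largest normal p-subgroup of T: every p-subgroup of T normalized by T lies in Q. -/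
theorem result {G : Type*} [Group G] [Fintype G] (p : ℕ) [Fact p.Prime] (M : Ideal Cfsg.AlgInt) (hM : Cfsg.IsPModular p M) (B : Set (Cfsg.IrrCharacter G)) (Q : Subgroup G) (e : Set (Cfsg.IrrCharacter (Subgroup.centralizer (Q : Set G)))) (hQe : Cfsg.IsBrauerPairOf p M B Q e) (T : Subgroup G) (hT : ∀ y : G, y ∈ T ↔ y ∈ Subgroup.normalizer (Q : Set G) ∧ Cfsg.StabilizesBlock (Subgroup.centralizer (Q : Set G)) e y) (F' : Set (Cfsg.IrrCharacter T)) (hF' : Cfsg.IsPBlock M F') (hF'e : ∀ t : T, Cfsg.blockCoeff F' t = Cfsg.subgroupBlockCoeff (Subgroup.centralizer (Q : Set G)) e (t : G)) (χ : Cfsg.IrrCharacter T) (hχ : χ ∈ F') (hχQ : ∀ q : G, q ∈ Q → ∀ t : T, ∀ t' : T, (t' : G) = q * (t : G) → (χ : T → ℂ) t' = (χ : T → ℂ) t) (hdeg : (Cfsg.charDegree (χ : T → ℂ)).factorization p + (Nat.card Q).factorization p = (Nat.card T).factorization p) : Cfsg.IsDefectGroup p M e ((Q ⊓ Subgroup.centralizer (Q : Set G)).subgroupOf (Subgroup.centralizer (Q : Set G))) ∧ ∀ R : Subgroup G, R ≤ T → IsPGroup p R → (∀ t ∈ T,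 t ∈ Subgroup.normalizer (R : Set G)) → R ≤ Q := by
  classical
  open Cfsg.Agent.Helper77 Cfsg.Agent.Helper79 Cfsg.Agent.Helper76 in
  have hp : p.Prime := Fact.out
  haveI hpr := Cfsg.Agent.Helper77.isPrime_of_isPModular hM
  obtain ⟨⟨hQp, he⟩, hB, hbr⟩ := hQe
  have hCT : Subgroup.centralizer (Q : Set G) ≤ T :=
    Cfsg.Agent.Helper77.centralizer_le_of_hT he hT
  have hQT : Q ≤ T := Cfsg.Agent.Helper77.self_le_of_hT he hT
  have hTN : T ≤ Subgroup.normalizer (Q : Set G) := Cfsg.Agent.Helper77.le_normalizer_of_hT hT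
  haveI : Fintype T := Fintype.ofFinite _
  haveI : Fintype (Subgroup.centralizer (Q : Set G)) := Fintype.ofFinite _
  have normal_of : ∀ (S : Subgroup G), (∀ t ∈ T, t ∈ Subgroup.normalizer (S : Set G)) →
      (S.subgroupOf T).Normal := by
    intro S hS
    constructor
    intro n hn t
    rw [Subgroup.mem_subgroupOf] at hn ⊢
    have := (Subgroup.mem_normalizer_iff.mp (hS t t.2) (n : G)).mp hn
    simpa using this
  have hNC : ∀ t ∈ T, t ∈ Subgroup.normalizer
      ((Subgroup.centralizer (Q : Set G) : Subgroup G) : Set G) := by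
    have key : ∀ t : G, t ∈ Subgroup.normalizer (Q : Set G) →
        ∀ c ∈ Subgroup.centralizer (Q : Set G), t * c * t⁻¹ ∈ Subgroup.centralizer (Q : Set G) := by
      intro t ht c hc
      rw [Subgroup.mem_centralizer_iff]
      intro q hq
      have hq' : t⁻¹ * q * t ∈ Q := by
        have := (Subgroup.mem_normalizer_iff.mp (inv_mem ht) q).mp hq
        simpa using this
      have hc' := (Subgroup.mem_centralizer_iff.mp hc) (t⁻¹ * q * t) hq'
      calc q * (t * c * t⁻¹) = t * (t⁻¹ * q * t * c) * t⁻¹ := by group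
        _ = t * (c * (t⁻¹ * q * t)) * t⁻¹ := by rw [hc']
        _ = t * c * t⁻¹ * q := by group
    intro t ht
    rw [Subgroup.mem_normalizer_iff]
    intro c
    constructor
    · exact key t (hTN ht) c
    · intro h
      have := key t⁻¹ (inv_mem (hTN ht)) _ h
      have h2 : t⁻¹ * (t * c * t⁻¹) * t⁻¹⁻¹ = c := by group
      rwa [h2] at this
  haveI hQn : (Q.subgroupOf T).Normal := normal_of Q (fun t ht => hTN ht)
  haveI hCn : ((Subgroup.centralizer (Q : Set G)).subgroupOf T).Normal :=
    normal_of _ hNC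
  haveI : Fintype ((Subgroup.centralizer (Q : Set G)).subgroupOf T) := Fintype.ofFinite _
  have hker : Q.subgroupOf T ≤ Cfsg.Agent.Helper79.irrKer χ := by
    intro q hq
    rw [Cfsg.Agent.Helper79.mem_irrKer]
    exact hχQ (q : G) (Subgroup.mem_subgroupOf.mp hq) 1 q (by simp)
  have hcardQn : Nat.card (Q.subgroupOf T) = Nat.card Q :=
    Cfsg.Agent.Helper77.card_subgroupOf_of_le hQT
  have hdeg' : (Cfsg.charDegree (χ : T → ℂ)).factorization p +
      (Nat.card (Q.subgroupOf T)).factorization p = (Nat.card T).factorization p := by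
    rw [hcardQn]
    exact hdeg
  constructor
  · obtain ⟨θ', hne, hθ'ker, hθ'deg⟩ :=
      Cfsg.Agent.Helper76.Weight2.exists_constituent_defect_zero (p := p) (Q.subgroupOf T)
        ((Subgroup.centralizer (Q : Set G)).subgroupOf T) χ hker hdeg'
    let ι : ((Subgroup.centralizer (Q : Set G)).subgroupOf T) ≃* Subgroup.centralizer (Q : Set G) :=
      Subgroup.subgroupOfEquivOfLe hCT
    let θ : Cfsg.IrrCharacter (Subgroup.centralizer (Q : Set G)) :=
      Cfsg.Agent.Helper77.mapIrr ι θ'
    have hθ' : Cfsg.Agent.Helper77.mapIrr ι.symm θ = θ' :=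
      Cfsg.Agent.Helper77.mapIrr_symm_mapIrr ι θ'
    have hθe : θ ∈ e := by
      have h1 : Cfsg.Agent.Helper77.omega (χ : T → ℂ) (Cfsg.blockCoeff F') = 1 := by
        rw [Cfsg.Agent.Helper77.omega_blockCoeff, if_pos hχ]
      have hsupp : ∀ t : T, t ∉ (Subgroup.centralizer (Q : Set G)).subgroupOf T →
          Cfsg.blockCoeff F' t = 0 := by
        intro t ht
        rw [hF'e]
        unfold Cfsg.subgroupBlockCoeff
        rw [dif_neg]
        exact fun h => ht (Subgroup.mem_subgroupOf.mpr h)
      have h2 := Cfsg.Agent.Helper77.omega_eq_of_constituent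
        ((Subgroup.centralizer (Q : Set G)).subgroupOf T) χ θ' hne
        (Cfsg.Agent.Helper77.isClassFunction_blockCoeff F') hsupp
      have h3 : Cfsg.Agent.Helper77.restr ((Subgroup.centralizer (Q : Set G)).subgroupOf T)
          (Cfsg.blockCoeff F') =
          Cfsg.Agent.Helper77.restr ((Subgroup.centralizer (Q : Set G)).subgroupOf T)
            (Cfsg.Agent.Helper77.restr T
              (Cfsg.subgroupBlockCoeff (Subgroup.centralizer (Q : Set G)) e)) := by
        funext c
        exact hF'e _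
      have h4 := Cfsg.Agent.Helper76.InBlock.omega_down T (Subgroup.centralizer (Q : Set G)) hCT θ
        (Cfsg.subgroupBlockCoeff (Subgroup.centralizer (Q : Set G)) e)
      rw [hθ'] at h4
      have h5 : Cfsg.Agent.Helper77.restr (Subgroup.centralizer (Q : Set G))
          (Cfsg.subgroupBlockCoeff (Subgroup.centralizer (Q : Set G)) e) = Cfsg.blockCoeff e := by
        funext c
        show Cfsg.subgroupBlockCoeff (Subgroup.centralizer (Q : Set G)) e (c : G) =
          Cfsg.blockCoeff e c
        unfold Cfsg.subgroupBlockCoeff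
        rw [dif_pos c.2]
      rw [h2, h3, h4, h5, Cfsg.Agent.Helper77.omega_blockCoeff] at h1
      by_contra hcon
      rw [if_neg hcon] at h1
      exact zero_ne_one h1
    have hkerθ : Cfsg.Agent.Helper77.zsub Q ≤ Cfsg.Agent.Helper79.irrKer θ := by
      intro z hz
      rw [Cfsg.Agent.Helper79.mem_irrKer]
      show (θ' : ((Subgroup.centralizer (Q : Set G)).subgroupOf T) → ℂ) (ι.symm z) =
        (θ' : ((Subgroup.centralizer (Q : Set G)).subgroupOf T) → ℂ) (ι.symm 1)
      rw [map_one]
      apply hθ'ker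
      exact Subgroup.mem_subgroupOf.mp hz
    have hdegθ : Cfsg.charDegree (θ : Subgroup.centralizer (Q : Set G) → ℂ) =
        Cfsg.charDegree (θ' : ((Subgroup.centralizer (Q : Set G)).subgroupOf T) → ℂ) := by
      unfold Cfsg.charDegree
      show ⌊((θ' : ((Subgroup.centralizer (Q : Set G)).subgroupOf T) → ℂ) (ι.symm 1)).re⌋₊ = _
      rw [map_one]
    have hcardCn : Nat.card ((Subgroup.centralizer (Q : Set G)).subgroupOf T) =
        Nat.card (Subgroup.centralizer (Q : Set G)) :=
      Cfsg.Agent.Helper77.card_subgroupOf_of_le hCT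
    have hinf : Nat.card ↥(Q.subgroupOf T ⊓ (Subgroup.centralizer (Q : Set G)).subgroupOf T) =
        Nat.card (Cfsg.Agent.Helper77.zsub Q) := by
      rw [Cfsg.Agent.Helper77.card_zsub]
      have : Q.subgroupOf T ⊓ (Subgroup.centralizer (Q : Set G)).subgroupOf T =
          (Q ⊓ Subgroup.centralizer (Q : Set G)).subgroupOf T := (Subgroup.comap_inf _ _ _).symm
      rw [this]
      exact Cfsg.Agent.Helper77.card_subgroupOf_of_le (inf_le_left.trans hQT)
    obtain ⟨ψ₀, hψ₀⟩ := Cfsg.Agent.Helper79.exists_deflate (Cfsg.Agent.Helper77.zsub Q) θ hkerθ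
    have hdz := Cfsg.Agent.Helper76.Weight2.not_dvd_of_factorization_eq (p := p)
      (Cfsg.Agent.Helper77.zsub Q) ψ₀ (by
        rw [← Cfsg.Agent.Helper79.charDegree_inflate, hψ₀, hdegθ, ← hinf, ← hcardCn]
        exact hθ'deg)
    have hZp : IsPGroup p (Cfsg.Agent.Helper77.zsub Q) := hQp.comap_subtype
    obtain ⟨D, hD⟩ := Cfsg.Agent.Helper77.exists_isDefectGroup (M := M) p he
    have hDZ : D ≤ Cfsg.Agent.Helper77.zsub Q :=
      Cfsg.Agent.Helper77.defectGroup_le_of_defect_zero_quotient hM (Cfsg.Agent.Helper77.zsub Q) hZp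
        (Cfsg.Agent.Helper77.zsub_le_center Q) he ψ₀ (by rw [hψ₀]; exact hθe) hdz hD
    have hZD : Cfsg.Agent.Helper77.zsub Q ≤ D :=
      Cfsg.Agent.Helper77.normal_le_of_isDefectGroup hM he hD (Cfsg.Agent.Helper77.zsub Q) hZp
    have hDeq : D = Cfsg.Agent.Helper77.zsub Q := le_antisymm hDZ hZD
    rw [Subgroup.inf_subgroupOf_right]
    rw [hDeq] at hD
    exact hD
  · intro R hRT hRp hRN
    obtain ⟨ψ, hψ⟩ := Cfsg.Agent.Helper79.exists_deflate (Q.subgroupOf T) χ hker
    have hdz := Cfsg.Agent.Helper76.Weight2.not_dvd_of_factorization_eq (p := p)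
      (Q.subgroupOf T) ψ (by
        rw [← Cfsg.Agent.Helper79.charDegree_inflate, hψ]
        exact hdeg')
    haveI hRn : (R.subgroupOf T).Normal := normal_of R hRN
    haveI : ((R.subgroupOf T).map (QuotientGroup.mk' (Q.subgroupOf T))).Normal :=
      Subgroup.Normal.map hRn _ (QuotientGroup.mk'_surjective (Q.subgroupOf T))
    have hRbp : IsPGroup p ((R.subgroupOf T).map (QuotientGroup.mk' (Q.subgroupOf T))) :=
      (hRp.comap_subtype).map _
    haveI : Fintype (T ⧸ Q.subgroupOf T) := Fintype.ofFinite _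
    have hbot := Cfsg.Agent.Helper76.Weight1.normal_pgroup_eq_bot_of_defect_zero hM ψ hdz
      ((R.subgroupOf T).map (QuotientGroup.mk' (Q.subgroupOf T))) hRbp
    intro r hr
    have h1 : (QuotientGroup.mk' (Q.subgroupOf T)) ⟨r, hRT hr⟩ ∈
        (R.subgroupOf T).map (QuotientGroup.mk' (Q.subgroupOf T)) :=
      Subgroup.mem_map_of_mem _ (Subgroup.mem_subgroupOf.mpr hr)
    rw [hbot, Subgroup.mem_bot, QuotientGroup.mk'_apply, QuotientGroup.eq_one_iff] at h1
    exact Subgroup.mem_subgroupOf.mp h1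

end Cfsg.Agent.S4694
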