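import Cfsg.Statements.S4702
import Cfsg.Agent.Lib.Helper19.Zass2Final

set_option autoImplicit false
open Cfsg

namespace Cfsg.Agent.S4702

/-- Let G be a triply transitive permutation group on a finite set of odd size m ≥ 3 in which only the identity fixes three or more points. Then m = 2^a + 1 for some a ≥ 1 and G is isomorphic to SL(2, 2^a). -/
theorem result {α : Type*} [Fintype α] [DecidableEq α] (hm : 3 ≤ Fintype.card α) (hodd : Odd (Fintype.card α)) (G : Subgroup (Equiv.Perm α)) (h3 : MulAction.IsMultiplyPretransitive G α 3) (hfix : ∀ g : G, 3 ≤ Nat.card (MulAction.fixedBy α g) → g = 1) : ∃ a : ℕ, 1 ≤ a ∧ Fintype.card α = 2 ^ a + 1 ∧ ∃ (F : Type) (_ : Field F) (_ : Fintype F), Fintype.card F = 2 ^ a ∧ Nonempty (G ≃* Matrix.SpecialLinearGroup (Fin 2) F) := by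
  have hsharp : ∀ x : Fin 3 ↪ α, MulAction.stabilizer G x = ⊥ := by
    intro x
    rw [eq_bot_iff]
    intro g hg
    rw [Subgroup.mem_bot]
    apply hfix
    rw [MulAction.mem_stabilizer_iff] at hg
    have hgx : ∀ j : Fin 3, g • x j = x j := fun j => by
      have := congrArg (fun e : Fin 3 ↪ α => e j) hg
      exact this
    have hinj : Function.Injective (fun j : Fin 3 => (⟨x j, hgx j⟩ : MulAction.fixedBy α g)) := by
      intro j k hjk
      exact x.injective (congrArg Subtype.val hjk)
    have := Nat.card_le_card_of_injective _ hinj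
    rw [Nat.card_eq_fintype_card (α := Fin 3), Fintype.card_fin] at this
    exact this
  obtain ⟨a, ha1, hcard2, F, hF, hFin, hFcard, _, hsl⟩ :=
    Cfsg.Agent.Helper19.Zass2.zassenhaus_char_two G h3 hsharp hodd hm
  exact ⟨a, ha1, hcard2, F, hF, hFin, hFcard, hsl⟩

end Cfsg.Agent.S4702
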