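import Cfsg.Statements.S4706
import Cfsg.Agent.Lib.Helper17.ItoG
import Cfsg.Agent.Lib.Helper17.ItoD
import Cfsg.Agent.Lib.Helper17.SelfCent
import Cfsg.Agent.S1013
import Cfsg.Agent.S0676

set_option autoImplicit false
set_option linter.style.haveILetI false
open Cfsg

namespace Cfsg.Agent.S4706

open Cfsg.Agent.Helper17 MulAction

set_option maxHeartbeats 1000000 in
/-- Let p > 2 be a prime and G a permutation group on p letters whose Sylow p-subgroup P has normalizer of order 2p. Then either P is normal in G, or p − 1 = 2^a for some a and G is isomorphic to SL(2, 2^a). -/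
theorem result {α : Type*} [Fintype α] [DecidableEq α] {p : ℕ} [Fact p.Prime] (hp : 2 < p) (hα : Fintype.card α = p) (G : Subgroup (Equiv.Perm α)) (P : Sylow p G) (hN : Nat.card (Subgroup.normalizer ((P : Subgroup G) : Set G)) = 2 * p) : (P : Subgroup G).Normal ∨ ∃ (a : ℕ) (F : Type) (_ : Field F) (_ : Fintype F), p = 2 ^ a + 1 ∧ Fintype.card F = 2 ^ a ∧ Nonempty (G ≃* Matrix.SpecialLinearGroup (Fin 2) F) := by
  classical
  have hpp : p.Prime := Fact.out
  by_cases hPn : (P : Subgroup G).Normal
  · exact Or.inl hPn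
  right
  haveI : Fintype ↥G := Fintype.ofFinite _
  have hαn : Nat.card α = p := by rw [Nat.card_eq_fintype_card, hα]
  have hfaith : ∀ x : ↥G, (∀ a : α, x • a = a) → x = 1 :=
    fun x hx => Subtype.ext (Equiv.ext hx)
  have hle : (P : Subgroup G) ≤ Subgroup.normalizer ((P : Subgroup G) : Set G) :=
    Subgroup.le_normalizer
  -- |P| = p
  have hP : Nat.card (P : Subgroup G) = p := by
    have hdvd : Nat.card (P : Subgroup G) ∣ 2 * p := by
      rw [← hN]; exact Subgroup.card_dvd_of_le hle
    have hpG : p ∣ Nat.card ↥G := by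
      have h1 : p ∣ Nat.card (Subgroup.normalizer ((P : Subgroup G) : Set G)) := by
        rw [hN]; exact dvd_mul_left p 2
      exact h1.trans (Subgroup.card_subgroup_dvd_card _)
    obtain ⟨k, hk⟩ := (P.2 : IsPGroup p (P : Subgroup G)).exists_card_eq
    have hk0 : k ≠ 0 := by
      rintro rfl
      rw [pow_zero] at hk
      have hbot : (P : Subgroup G) = ⊥ := Subgroup.card_eq_one.1 hk
      exact P.ne_bot_of_dvd_card hpG hbot
    have hk1 : k ≤ 1 := by
      by_contra h
      push Not at h
      have h2 : p ^ 2 ∣ 2 * p := by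
        rw [hk] at hdvd
        exact (pow_dvd_pow p h).trans hdvd
      rw [pow_two] at h2
      have h3 : p ∣ 2 := Nat.dvd_of_mul_dvd_mul_right hpp.pos h2
      have := Nat.le_of_dvd (by norm_num) h3
      omega
    have : k = 1 := by omega
    rw [hk, this, pow_one]
  -- transitivity
  haveI htrans : IsPretransitive ↥G α :=
    ⟨fun ω ω' => by
      obtain ⟨k, _, hk⟩ := ItoA.exists_mem_smul_eq hαn hfaith (P : Subgroup G) hP ω ω'
      exact ⟨k, hk⟩⟩
  -- more than one Sylow subgroup
  have hn : 1 < Nat.card (Sylow p ↥G) := by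
    by_contra h
    push Not at h
    have hpos : 0 < Nat.card (Sylow p ↥G) := Nat.card_pos
    have h1 : Nat.card (Sylow p ↥G) = 1 := by omega
    haveI : Subsingleton (Sylow p ↥G) := (Nat.card_eq_one_iff_unique.1 h1).1
    exact hPn (Sylow.normal_of_subsingleton P)
  have hidx : ((P : Subgroup ↥G).subgroupOf
      (Subgroup.normalizer ((P : Subgroup ↥G) : Set ↥G))).index = 2 := by
    have h1 := ((P : Subgroup ↥G).subgroupOf
      (Subgroup.normalizer ((P : Subgroup ↥G) : Set ↥G))).card_mul_index
    have h2 : Nat.card ((P : Subgroup ↥G).subgroupOf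
        (Subgroup.normalizer ((P : Subgroup ↥G) : Set ↥G))) = Nat.card (P : Subgroup ↥G) :=
      Nat.card_congr (Subgroup.subgroupOfEquivOfLe hle).toEquiv
    rw [h2, hP, hN, mul_comm 2 p] at h1
    exact Nat.eq_of_mul_eq_mul_left hpp.pos h1
  haveI hsimple : IsSimpleGroup ↥G :=
    Cfsg.Agent.S1013.result hα G P hn (by rw [hidx]; exact Nat.prime_two)
  have hsolv : ¬ Group.IsSolvable ↥G := by
    intro hs
    have hcomm := IsSimpleGroup.comm_iff_isSolvable.2 hs
    apply hPn
    exact ⟨fun n hn g => by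
      have : g * n * g⁻¹ = n := by rw [hcomm g n, mul_inv_cancel_right]
      rw [this]; exact hn⟩
  have heven : Even (Nat.card (Subgroup.normalizer ((P : Subgroup G) : Set G))) := by
    rw [hN]; exact even_two_mul p
  have h3 : IsMultiplyPretransitive ↥G α 3 := Cfsg.Agent.S0676.result hα G hsolv P heven
  have h2p_le : 2 * p ≤ Nat.card ↥G := by
    rw [← hN]; exact Subgroup.card_le_card_group _
  have hC : Subgroup.centralizer (((P : Subgroup G)) : Set G) = (P : Subgroup G) :=
    centralizer_eq_of_card_normalizer P hP (by omega) Nat.prime_two (by rw [hN, mul_comm])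
  -- p ≥ 5
  have hp5 : 5 ≤ p := by
    by_contra h
    push Not at h
    have hp3 : p = 3 := by
      have : p ≠ 4 := by
        rintro rfl
        norm_num at hpp
      omega
    apply hPn
    rw [← Subgroup.normalizer_eq_top_iff]
    apply Subgroup.eq_top_of_card_eq
    have hGle : Nat.card ↥G ≤ 6 := by
      have h1 : Nat.card ↥G ∣ Nat.card (Equiv.Perm α) := Subgroup.card_subgroup_dvd_card G
      rw [Nat.card_eq_fintype_card (α := Equiv.Perm α), Fintype.card_perm, hα, hp3] at h1
      exact Nat.le_of_dvd (by norm_num) h1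
    rw [hN, hp3]
    rw [hp3] at h2p_le
    omega
  -- an involution in the normalizer
  haveI : Fact (Nat.Prime 2) := ⟨Nat.prime_two⟩
  obtain ⟨s, hs⟩ := exists_prime_orderOf_dvd_card' (G := ↥(Subgroup.normalizer ((P : Subgroup G) : Set G)))
    2 (by rw [hN]; exact dvd_mul_right 2 p)
  set τ : ↥G := (s : ↥G) with hτdef
  have hτ : orderOf τ = 2 := by rw [hτdef, Subgroup.orderOf_coe]; exact hs
  have hτfix : Nat.card (fixedBy α τ) = 1 :=
    ItoA.card_fixedBy_involution_normalizer (by omega) hαn hfaith (P : Subgroup G) hP hC τ s.2 hτ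
  have hα3 : 3 ≤ Nat.card α := by omega
  have h2 : IsMultiplyPretransitive ↥G α 2 :=
    isMultiplyPretransitive_of_le' (by norm_num : 2 ≤ 3) (by
      rw [ENat.card_eq_coe_natCard]; exact_mod_cast hα3)
  have hinv : ∀ u : ↥G, orderOf u = 2 → Nat.card (fixedBy α u) = 1 := by
    intro u hu
    have hconj := ItoD.isConj_involution hfaith hp5 hαn h2 (P : Subgroup G) hP hC hN τ hτ hτfix u hu
    obtain ⟨c, hc⟩ := isConj_iff.1 hconj
    rw [← hτfix, ← hc, ItoB.card_fixedBy_conj']
  have hp4 : p % 4 = 1 := by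
    have h := Parity.card_fixedBy_mod_four (G := ↥G) (by omega) (α := α) τ hτ
    rw [hτfix, hαn] at h
    have : 1 % 4 = p % 4 := h
    omega
  have hsharp : ∀ x : Fin 3 ↪ α, stabilizer ↥G x = ⊥ := fun x =>
    ItoG.stabilizer_eq_bot hfaith hp5 hαn h3 (P : Subgroup G) hP hC hN hp4 hinv x
  have hodd : Odd (Fintype.card α) := by
    rw [hα]; exact hpp.odd_of_ne_two (by omega)
  obtain ⟨a, _, hcard, F, hF1, hF2, hFc, _, hiso⟩ :=
    Cfsg.Agent.Helper19.Zass2.zassenhaus_char_two G h3 hsharp hodd (by rw [hα]; omega)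
  exact ⟨a, F, hF1, hF2, by rw [← hα, hcard], hFc, hiso⟩

end Cfsg.Agent.S4706
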