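import Cfsg.Statements.S4708
import Cfsg.Agent.Lib.Helper78.PrincipalNormal

set_option autoImplicit false
open Cfsg

namespace Cfsg.Agent.S4708

/-- Let p be a prime, M a maximal ideal of the algebraic integers containing p, G a finite group and H a normal subgroup. Write λ(X) for the sum of the squares of the degrees of the irreducible characters in the principal p-block of a group X. Then λ(H) ≤ λ(G) ≤ [G : H]·λ(H). -/
theorem result {G : Type*} [Group G] [Finite G] (p : ℕ) [Fact p.Prime] (M : Ideal Cfsg.AlgInt) (hM : Cfsg.IsPModular p M) (H : Subgroup G) [H.Normal] : (∑ᶠ θ ∈ Cfsg.principalBlock M H, Cfsg.charDegree (θ : H → ℂ) ^ 2) ≤ (∑ᶠ χ ∈ Cfsg.principalBlock M G, Cfsg.charDegree (χ : G → ℂ) ^ 2) ∧ (∑ᶠ χ ∈ Cfsg.principalBlock M G, Cfsg.charDegree (χ : G → ℂ) ^ 2) ≤ H.index * ∑ᶠ θ ∈ Cfsg.principalBlock M H, Cfsg.charDegree (θ : H → ℂ) ^ 2 := by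
  classical
  have : Fintype G := Fintype.ofFinite G
  have : Fintype H := Fintype.ofFinite H
  have hpr := Cfsg.Agent.Helper77.isPrime_of_isPModular hM
  rw [finsum_mem_eq_finite_toFinset_sum _ (Set.toFinite _),
    finsum_mem_eq_finite_toFinset_sum _ (Set.toFinite _)]
  obtain ⟨CH, hCHdef⟩ : ∃ C : Finset (IrrCharacter H),
      C = (Set.toFinite (principalBlock M H)).toFinset := ⟨_, rfl⟩
  obtain ⟨CG, hCGdef⟩ : ∃ C : Finset (IrrCharacter G),
      C = (Set.toFinite (principalBlock M G)).toFinset := ⟨_, rfl⟩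
  rw [← hCHdef, ← hCGdef]
  have hmemH : ∀ θ : IrrCharacter H, θ ∈ CH ↔ θ ∈ principalBlock M H := by
    intro θ; rw [hCHdef, Set.Finite.mem_toFinset]
  have hmemG : ∀ χ : IrrCharacter G, χ ∈ CG ↔ χ ∈ principalBlock M G := by
    intro χ; rw [hCGdef, Set.Finite.mem_toFinset]
  -- degrees
  have hdG : ∀ χ : IrrCharacter G, (χ : G → ℂ) 1 = (charDegree (χ : G → ℂ) : ℂ) :=
    fun χ => (Cfsg.Agent.Helper79.irr_one_eq χ).1
  have hdH : ∀ θ : IrrCharacter H, (θ : H → ℂ) 1 = (charDegree (θ : H → ℂ) : ℂ) :=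
    fun θ => (Cfsg.Agent.Helper79.irr_one_eq θ).1
  -- decomposition of restrictions
  have hdec : ∀ χ : IrrCharacter G, ∃ m : IrrCharacter H → ℕ,
      (fun n : H => (χ : G → ℂ) n) = ∑ θ : IrrCharacter H, (m θ : ℂ) • (θ : H → ℂ) := by
    intro χ
    have hχH : IsCharacter H (fun n : H => (χ : G → ℂ) n) :=
      Cfsg.Agent.Helper16.isCharacter_restrict H (Cfsg.Agent.Helper78.IsIrrCharacter.isCharacter χ.2)
    obtain ⟨m, hm⟩ := Cfsg.Agent.Helper78.IsCharacter.exists_irr_decomp hχH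
    exact ⟨m, hm⟩
  choose m hm using hdec
  have hmin : ∀ (χ : IrrCharacter G) (θ : IrrCharacter H),
      classInner (fun n : H => (χ : G → ℂ) n) (θ : H → ℂ) = (m χ θ : ℂ) := by
    intro χ θ
    rw [hm χ]
    exact Cfsg.Agent.Helper78.classInner_decomp (fun θ' => (m χ θ' : ℂ)) θ
  have hdeg : ∀ χ : IrrCharacter G, charDegree (χ : G → ℂ) =
      ∑ θ : IrrCharacter H, m χ θ * charDegree (θ : H → ℂ) := by
    intro χ
    have h1 := congrFun (hm χ) 1
    simp only [Finset.sum_apply, Pi.smul_apply, smul_eq_mul] at h1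
    rw [Subgroup.coe_one, hdG] at h1
    simp only [hdH] at h1
    exact_mod_cast h1
  -- (A): constituents of principal block characters
  have hA : ∀ χ ∈ CG, ∀ θ : IrrCharacter H, m χ θ ≠ 0 → θ ∈ CH := by
    intro χ hχ θ hθ
    rw [hmemH]
    rw [hmemG] at hχ
    apply Cfsg.Agent.Helper78.constituent_mem_principalBlock H hM hχ θ
    rw [hmin]
    exact_mod_cast hθ
  have hdeg' : ∀ χ ∈ CG, charDegree (χ : G → ℂ) =
      ∑ θ ∈ CH, m χ θ * charDegree (θ : H → ℂ) := by
    intro χ hχ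
    rw [hdeg χ]
    symm
    apply Finset.sum_subset (Finset.subset_univ _)
    intro θ _ hθ
    by_cases h0 : m χ θ = 0
    · rw [h0, zero_mul]
    · exact absurd (hA χ hχ θ h0) hθ
  refine ⟨?_, ?_⟩
  · -- lower bound
    have h1 : ∑ χ ∈ CG, charDegree (χ : G → ℂ) ^ 2 =
        ∑ θ ∈ CH, charDegree (θ : H → ℂ) * ∑ χ ∈ CG, m χ θ * charDegree (χ : G → ℂ) := by
      have h2 : ∀ χ ∈ CG, charDegree (χ : G → ℂ) ^ 2 =
          ∑ θ ∈ CH, charDegree (θ : H → ℂ) * (m χ θ * charDegree (χ : G → ℂ)) := by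
        intro χ hχ
        rw [sq]
        nth_rewrite 1 [hdeg' χ hχ]
        rw [Finset.sum_mul]
        refine Finset.sum_congr rfl fun θ _ => ?_
        ring
      rw [Finset.sum_congr rfl h2, Finset.sum_comm]
      refine Finset.sum_congr rfl fun θ _ => ?_
      rw [Finset.mul_sum]
    rw [h1]
    apply Finset.sum_le_sum
    intro θ hθ
    rw [sq]
    apply Nat.mul_le_mul_left
    rw [hmemH] at hθ
    obtain ⟨χ, hχ, hχθ⟩ := Cfsg.Agent.Helper78.exists_principal_over (G := G) H hM hθ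
    rw [hmin] at hχθ
    have hm0 : m χ θ ≠ 0 := by exact_mod_cast hχθ
    have hχ' : χ ∈ CG := (hmemG χ).2 hχ
    have h3 : m χ θ * charDegree (χ : G → ℂ) ≤ ∑ χ' ∈ CG, m χ' θ * charDegree (χ' : G → ℂ) :=
      Finset.single_le_sum (f := fun χ' => m χ' θ * charDegree (χ' : G → ℂ))
        (fun _ _ => Nat.zero_le _) hχ'
    have h4 : m χ θ * charDegree (θ : H → ℂ) ≤ charDegree (χ : G → ℂ) := by
      rw [hdeg χ]
      exact Finset.single_le_sum (f := fun θ' => m χ θ' * charDegree (θ' : H → ℂ))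
        (fun _ _ => Nat.zero_le _) (Finset.mem_univ θ)
    have h5 : 1 ≤ m χ θ := Nat.one_le_iff_ne_zero.2 hm0
    calc charDegree (θ : H → ℂ) = 1 * charDegree (θ : H → ℂ) := (one_mul _).symm
      _ ≤ m χ θ * charDegree (θ : H → ℂ) := Nat.mul_le_mul_right _ h5
      _ ≤ charDegree (χ : G → ℂ) := h4
      _ = 1 * charDegree (χ : G → ℂ) := (one_mul _).symm
      _ ≤ m χ θ * charDegree (χ : G → ℂ) := Nat.mul_le_mul_right _ h5
      _ ≤ _ := h3
  · -- upper bound
    have hC : ∀ x : G, ∀ θ' ∈ CH, Cfsg.Agent.Helper16.conjIrr H x θ' ∈ CH := by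
      intro x θ' hθ'
      rw [hmemH] at hθ' ⊢
      exact Cfsg.Agent.Helper78.conjIrr_mem_principalBlock H x hθ'
    have hex : ∀ χ : IrrCharacter G, ∃ θ : IrrCharacter H, m χ θ ≠ 0 := by
      intro χ
      obtain ⟨θ, hθ⟩ := Cfsg.Agent.Helper16.exists_constituent H χ
      rw [hmin] at hθ
      exact ⟨θ, by exact_mod_cast hθ⟩
    choose c hc using hex
    have hom : ∀ χ : IrrCharacter G,
        Cfsg.Agent.Helper77.omega (χ : G → ℂ) (Cfsg.Agent.Helper16.idemFun H CH) =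
          ((if c χ ∈ CH then 1 else 0 : ℕ) : ℂ) := by
      intro χ
      have hcon : classInner (fun n : H => (χ : G → ℂ) n) (c χ : H → ℂ) ≠ 0 := by
        rw [hmin]
        exact_mod_cast hc χ
      rw [Cfsg.Agent.Helper16.omega_idemFun_of_constituent H CH hC χ (c χ) hcon]
      split_ifs <;> simp
    have hsum := Cfsg.Agent.Helper78.sum_sq_mul_omega (Cfsg.Agent.Helper16.idemFun H CH)
    have hone : Cfsg.Agent.Helper16.idemFun H CH (1 : G) =
        ∑ θ ∈ CH, (θ : H → ℂ) 1 * (starRingEnd ℂ) ((θ : H → ℂ) 1) / (Nat.card H : ℂ) :=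
      Cfsg.Agent.Helper16.idemFun_coe H CH (1 : H)
    rw [hone] at hsum
    simp only [hom, hdG, hdH, Complex.conj_natCast] at hsum
    have hH0 : (Nat.card H : ℂ) ≠ 0 := by exact_mod_cast Nat.card_pos.ne'
    have hcard : (Nat.card G : ℂ) = (H.index : ℂ) * (Nat.card H : ℂ) := by
      rw [← Subgroup.index_mul_card H]
      push_cast
      ring
    have hsum' : ((∑ χ : IrrCharacter G, charDegree (χ : G → ℂ) ^ 2 *
        (if c χ ∈ CH then 1 else 0) : ℕ) : ℂ) =
        ((H.index * ∑ θ ∈ CH, charDegree (θ : H → ℂ) ^ 2 : ℕ) : ℂ) := by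
      push_cast
      push_cast at hsum
      rw [hsum, hcard, Finset.mul_sum, Finset.mul_sum]
      refine Finset.sum_congr rfl fun θ _ => ?_
      field_simp
    have hnat := Nat.cast_injective hsum'
    rw [← hnat]
    calc ∑ χ ∈ CG, charDegree (χ : G → ℂ) ^ 2
        = ∑ χ ∈ CG, charDegree (χ : G → ℂ) ^ 2 * (if c χ ∈ CH then 1 else 0) := by
          refine Finset.sum_congr rfl fun χ hχ => ?_
          rw [if_pos (hA χ hχ (c χ) (hc χ)), mul_one]
      _ ≤ ∑ χ : IrrCharacter G, charDegree (χ : G → ℂ) ^ 2 * (if c χ ∈ CH then 1 else 0) :=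
          Finset.sum_le_sum_of_subset (Finset.subset_univ _)

end Cfsg.Agent.S4708
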