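import Cfsg.Statements.S4709
import Cfsg.Agent.Lib.Helper46.BL7

set_option autoImplicit false
set_option linter.style.haveILetI false
set_option maxHeartbeats 1600000
open Cfsg

namespace Cfsg.Agent.S4709

/-- Let p be a prime, M a maximal ideal of the algebraic integers containing p, and G a finite group with a nontrivial abelian Sylow p-subgroup P; put N = N_G(P), C = C_G(P). Suppose N/C is cyclic of order m with 1 < m < #P − 1 (C has index m in N and N is generated by C and one element), and C_G(y) ∩ N = C for every non-identity y ∈ P. Put r = (#P − 1)/m. Then there is s ≤ m such that the principal p-block is the disjoint union of a set X of s characters containing the principal character and a set Y of r characters, with integers a_χ ≠ 0 (χ ∈ X), d and a sign δ = ±1, such that: every χ ∈ X takes the value a_χ at every element whose p-part is a non-identity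 element of P; there is a map ζ from the non-principal linear characters ψ of P onto Y, constant on N-conjugacy classes, with ζ_ψ(z) = d + δ·Σ ψ'(y) for every z whose p-part y is a non-identity element of P, the sum running over the N-conjugates ψ' of ψ; (d − δ)^2 + (r − 1) d^2 + Σ_{χ ∈ X} a_χ^2 = m + 1; all members of Y agree on p-regular elements; and (r d − δ) η(g) + Σ_{χ ∈ X} a_χ χ(g) = 0 for every η ∈ Y and every p-regular g. -/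
theorem result {G : Type*} [Group G] [Finite G] (p : ℕ) [Fact p.Prime] (M : Ideal Cfsg.AlgInt) (hM : Cfsg.IsPModular p M) (P : Sylow p G) (hab : IsMulCommutative P) (hP1 : Nat.card P ≠ 1) (m : ℕ) (hm1 : 1 < m) (hm2 : m + 1 < Nat.card P) (hCN : (Subgroup.centralizer ((P : Subgroup G) : Set G)).relIndex (Subgroup.normalizer ((P : Subgroup G) : Set G)) = m) (hcyc : ∃ g : G, g ∈ Subgroup.normalizer ((P : Subgroup G) : Set G) ∧ Subgroup.centralizer ((P : Subgroup G) : Set G) ⊔ Subgroup.zpowers g = Subgroup.normalizer ((P : Subgroup G) : Set G)) (hfrob : ∀ y : G, y ∈ (P : Subgroup G) → y ≠ 1 → Subgroup.centralizer ({y} : Set G) ⊓ Subgroup.normalizer ((P : Subgroup G) : Set G) = Subgroup.centralizer ((P : Subgroup G) : Set G)) : ∃ (s : ℕ) (X Y : Set (Cfsg.IrrCharacter G)), s ≤ m ∧ Cfsg.principalBlock M G = X ∪ Y ∧ Disjoint X Y ∧ Nat.card X = s ∧ Nat.card Y = (Nat.card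 P - 1) / m ∧ (∃ χ₁ ∈ X, (χ₁ : G → ℂ) = fun _ => 1) ∧ ∃ (a : Cfsg.IrrCharacter G → ℤ) (d δ : ℤ) (ζ : (↥(P : Subgroup G) →* ℂˣ) → Cfsg.IrrCharacter G), (δ = 1 ∨ δ = -1) ∧ (∀ χ ∈ X, a χ ≠ 0 ∧ ∀ z y : G, Cfsg.IsPPart p z y → y ∈ (P : Subgroup G) → y ≠ 1 → (χ : G → ℂ) z = (a χ : ℂ)) ∧ (∀ ψ : ↥(P : Subgroup G) →* ℂˣ, ψ ≠ 1 → ζ ψ ∈ Y) ∧ (∀ η ∈ Y, ∃ ψ : ↥(P : Subgroup G) →* ℂˣ, ψ ≠ 1 ∧ ζ ψ = η) ∧ (∀ ψ ψ' : ↥(P : Subgroup G) →* ℂˣ, ψ ≠ 1 → (∃ n : G, n ∈ Subgroup.normalizer ((P : Subgroup G) : Set G) ∧ ∀ w w' : ↥(P : Subgroup G), (w' : G) = n * w * n⁻¹ → ψ' w' = ψ w) → ζ ψ' = ζ ψ) ∧ (∀ ψ : ↥(P : Subgroup G) →* ℂˣ, ψ ≠ 1 → ∀ (z : G) (y : ↥(P : Subgroup G)), Cfsg.IsPPart p z (y : G) → (y : G) ≠ 1 → (ζ ψ : G → ℂ) z = (d : ℂ) + (δ : ℂ) * ∑ᶠ ψ' ∈ {ψ' : ↥(P : Subgroup G) →* ℂˣ | ∃ n : G, n ∈ Subgroup.normalizer ((P : Subgroup G) : Set G) ∧ ∀ w w' : ↥(P : Subgroup G), (w'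 : G) = n * w * n⁻¹ → ψ' w' = ψ w}, ((ψ' y : ℂˣ) : ℂ)) ∧ ((d - δ) ^ 2 + ((Nat.card P - 1) / m - 1 : ℤ) * d ^ 2 + ∑ᶠ χ ∈ X, a χ ^ 2 = (m : ℤ) + 1) ∧ (∀ η ∈ Y, ∀ η' ∈ Y, ∀ g : G, ¬ p ∣ orderOf g → (η : G → ℂ) g = (η' : G → ℂ) g) ∧ (∀ η ∈ Y, ∀ g : G, ¬ p ∣ orderOf g → ((((Nat.card P - 1) / m : ℕ) : ℂ) * d - δ) * (η : G → ℂ) g + ∑ᶠ χ ∈ X, (a χ : ℂ) * (χ : G → ℂ) g = 0) := by
  classical
  haveI : Fintype G := Fintype.ofFinite G
  haveI : Fintype ↥(P : Subgroup G) := Fintype.ofFinite _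
  haveI : Fintype ↥(Subgroup.normalizer ((P : Subgroup G) : Set G)) := Fintype.ofFinite _
  haveI hfinHom : Finite (↥(P : Subgroup G) →* ℂˣ) := by
    apply Nat.finite_of_card_ne_zero
    rw [Cfsg.Agent.Helper45.BLGT.card_hom_sylow p P hab hfrob]
    exact Nat.card_pos.ne'
  haveI : Fintype (↥(P : Subgroup G) →* ℂˣ) := Fintype.ofFinite _
  haveI := Cfsg.Agent.Helper77.isPrime_of_isPModular hM
  obtain ⟨D⟩ := Cfsg.Agent.Helper46.BL.exists_blData P hab hfrob hM hP1 m hm2 hCN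
  set T := (Set.toFinite (principalBlock M G)).toFinset with hT
  have hTmem : ∀ χ, χ ∈ T ↔ χ ∈ principalBlock M G := fun χ => Set.Finite.mem_toFinset _
  have hcard := D.card_Yf hab hfrob m hCN
  have hm0 : 0 < m := by omega
  have hr : (Nat.card ↥(P : Subgroup G) - 1) / m = D.Yf.card := by
    rw [← hcard]; exact Nat.mul_div_cancel _ hm0
  have hr2 : 2 ≤ D.Yf.card := by
    by_contra hlt
    have h1 : D.Yf.card ≤ 1 := by omega
    have h2 : D.Yf.card * m ≤ 1 * m := Nat.mul_le_mul_right m h1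
    omega
  have hnorm := D.norm hab hfrob hM m hCN
    (Cfsg.Agent.Helper46.BL.exists_nontrivial_hom P hab hfrob hP1)
  have hε2 : D.ε ^ 2 = 1 := by
    rcases D.hε with h | h <;> rw [h] <;> norm_num
  have hsplitZ : ∀ f : IrrCharacter G → ℤ,
      ∑ χ ∈ T \ D.Yf, f χ + ∑ χ ∈ D.Yf, f χ = ∑ χ ∈ T, f χ :=
    fun f => Finset.sum_sdiff D.Yf_subset
  have hsplitC : ∀ f : IrrCharacter G → ℂ,
      ∑ χ ∈ T \ D.Yf, f χ + ∑ χ ∈ D.Yf, f χ = ∑ χ ∈ T, f χ :=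
    fun f => Finset.sum_sdiff D.Yf_subset
  have hYd : ∀ η ∈ D.Yf, D.a₀ η = D.d₀ := by
    intro η hη
    obtain ⟨ψ, hψ, rfl⟩ := (D.mem_Yf η).1 hη
    exact D.hd ψ hψ
  have hsumY : ∑ χ ∈ D.Yf, D.a₀ χ ^ 2 = (D.Yf.card : ℤ) * D.d₀ ^ 2 := by
    rw [Finset.sum_congr rfl (fun η hη => by rw [hYd η hη]), Finset.sum_const, nsmul_eq_mul]
  have hXmem : ∀ χ, χ ∈ T \ D.Yf ↔ χ ∈ principalBlock M G ∧ χ ∉ D.Yf := by
    intro χ
    rw [Finset.mem_sdiff, hTmem]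
  have hXne : ∀ χ ∈ T \ D.Yf, D.a₀ χ ≠ 0 := by
    intro χ hχ
    exact D.a₀_ne_zero hab hfrob hM hP1 χ ((hXmem χ).1 hχ).1 ((hXmem χ).1 hχ).2
  have hsumX : ((T \ D.Yf).card : ℤ) ≤ ∑ χ ∈ T \ D.Yf, D.a₀ χ ^ 2 := by
    have h1 : ((T \ D.Yf).card : ℤ) = ∑ χ ∈ T \ D.Yf, (1 : ℤ) := by
      rw [Finset.sum_const, nsmul_eq_mul, mul_one]
    rw [h1]
    refine Finset.sum_le_sum fun χ hχ => ?_
    have := hXne χ hχ
    have h2 : 0 < D.a₀ χ ^ 2 := by positivity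
    omega
  have hnorm2 : ∑ χ ∈ T \ D.Yf, D.a₀ χ ^ 2 + (D.Yf.card : ℤ) * D.d₀ ^ 2 + 2 * D.ε * D.d₀ =
      (m : ℤ) := by
    rw [← hsumY, hsplitZ]; exact hnorm
  have hcastr : ((Nat.card ↥(P : Subgroup G) : ℤ) - 1) / (m : ℤ) = (D.Yf.card : ℤ) := by
    have hpos : 0 < Nat.card ↥(P : Subgroup G) := Nat.card_pos
    have h1 : ((Nat.card ↥(P : Subgroup G) : ℤ) - 1) =
        ((Nat.card ↥(P : Subgroup G) - 1 : ℕ) : ℤ) := by
      rw [Nat.cast_sub (by omega), Nat.cast_one]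
    rw [h1, ← Int.natCast_div, hr]
  have hsetRel : ∀ ψ : ↥(P : Subgroup G) →* ℂˣ,
      {ψ' : ↥(P : Subgroup G) →* ℂˣ | ∃ n : G, n ∈ Subgroup.normalizer ((P : Subgroup G) : Set G) ∧
        ∀ w w' : ↥(P : Subgroup G), (w' : G) = n * w * n⁻¹ → ψ' w' = ψ w} =
      ↑(Finset.univ.filter (fun ψ' : ↥(P : Subgroup G) →* ℂˣ =>
        Cfsg.Agent.Helper45.BLGT.Rel p P ψ ψ')) := by
    intro ψ
    ext ψ'
    simp only [Set.mem_setOf_eq, Finset.coe_filter, Finset.mem_univ, true_and]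
  refine ⟨(T \ D.Yf).card, ↑(T \ D.Yf), ↑D.Yf, ?_, ?_, ?_, ?_, ?_, ?_,
    fun χ => -D.a₀ χ, -D.d₀, D.ε, D.ζ, D.hε, ?_, ?_, ?_, ?_, ?_, ?_, ?_, ?_⟩
  · -- s ≤ m
    have hkey : 0 ≤ (D.Yf.card : ℤ) * D.d₀ ^ 2 + 2 * D.ε * D.d₀ := by
      have hr2' : (2 : ℤ) ≤ (D.Yf.card : ℤ) := by exact_mod_cast hr2
      by_cases hd0 : D.d₀ = 0
      · rw [hd0]; simp
      · have h1 : 1 ≤ D.d₀ ^ 2 := by
          have : 0 < D.d₀ ^ 2 := by positivity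
          omega
        nlinarith [sq_nonneg (D.d₀ + D.ε), sq_nonneg D.d₀]
    have : ((T \ D.Yf).card : ℤ) ≤ (m : ℤ) := by linarith
    exact_mod_cast this
  · rw [← Finset.coe_union, Finset.sdiff_union_of_subset D.Yf_subset]
    exact (Set.Finite.coe_toFinset _).symm
  · exact Finset.disjoint_coe.2 Finset.sdiff_disjoint
  · rw [Nat.card_coe_set_eq, Set.ncard_coe_finset]
  · rw [Nat.card_coe_set_eq, Set.ncard_coe_finset, hr]
  · refine ⟨Cfsg.Agent.Helper77.trivIrr G, ?_, rfl⟩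
    exact Finset.mem_coe.2 ((hXmem _).2 ⟨Cfsg.Agent.Helper77.trivIrr_mem_principalBlock M,
      D.triv_not_mem_Yf hab hfrob hM m hm2 hCN⟩)
  · intro χ hχ
    have hχ' := (hXmem χ).1 (Finset.mem_coe.1 hχ)
    refine ⟨neg_ne_zero.2 (hXne χ (Finset.mem_coe.1 hχ)), ?_⟩
    intro z y hzy hy hy1
    exact D.val_X hab hfrob hM χ hχ'.1 hχ'.2 z y hzy hy hy1
  · intro ψ hψ
    exact Finset.mem_coe.2 ((D.mem_Yf _).2 ⟨ψ, hψ, rfl⟩)
  · intro η hη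
    exact (D.mem_Yf η).1 (Finset.mem_coe.1 hη)
  · intro ψ ψ' hψ hrel
    have hψ' : ψ' ≠ 1 := by
      rintro rfl
      exact hψ ((Cfsg.Agent.Helper45.BLGT.rel_one p P hab hfrob ψ).1 hrel)
    exact ((D.hinj ψ ψ' hψ hψ').2 hrel).symm
  · intro ψ hψ z y hzy hy1
    rw [hsetRel ψ, finsum_mem_coe_finset]
    exact D.val_Y hab hfrob hM ψ hψ z y hzy hy1
  · rw [hcastr, finsum_mem_coe_finset]
    have h1 : ∑ χ ∈ T \ D.Yf, (-D.a₀ χ) ^ 2 = ∑ χ ∈ T \ D.Yf, D.a₀ χ ^ 2 :=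
      Finset.sum_congr rfl fun χ _ => by ring
    rw [h1]
    linear_combination hnorm2 + hε2
  · intro η hη η' hη' g hg
    obtain ⟨ψ, hψ, rfl⟩ := (D.mem_Yf η).1 (Finset.mem_coe.1 hη)
    obtain ⟨ψ', hψ', rfl⟩ := (D.mem_Yf η').1 (Finset.mem_coe.1 hη')
    exact D.reg_agree hM g hg ψ ψ' hψ hψ'
  · intro η hη g hg
    obtain ⟨ψ, hψ, rfl⟩ := (D.mem_Yf η).1 (Finset.mem_coe.1 hη)
    rw [finsum_mem_coe_finset, hr]
    have h0 := D.reg hM g hg ψ hψ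
    rw [← hsplitC] at h0
    have hY : ∑ χ ∈ D.Yf, (D.a₀ χ : ℂ) * (χ : G → ℂ) g =
        (D.Yf.card : ℂ) * ((D.d₀ : ℂ) * (D.ζ ψ : G → ℂ) g) := by
      rw [← nsmul_eq_mul, ← Finset.sum_const]
      refine Finset.sum_congr rfl fun η' hη' => ?_
      obtain ⟨ψ', hψ', rfl⟩ := (D.mem_Yf η').1 hη'
      rw [D.hd ψ' hψ', D.reg_agree hM g hg ψ' ψ hψ' hψ]
    rw [hY] at h0
    have h1 : ∑ χ ∈ T \ D.Yf, (((-D.a₀ χ : ℤ)) : ℂ) * (χ : G → ℂ) g =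
        -∑ χ ∈ T \ D.Yf, (D.a₀ χ : ℂ) * (χ : G → ℂ) g := by
      rw [← Finset.sum_neg_distrib]
      refine Finset.sum_congr rfl fun χ _ => ?_
      push_cast; ring
    rw [h1]
    push_cast
    linear_combination -h0

end Cfsg.Agent.S4709
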