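import Cfsg.Statements.S4710
import Cfsg.Agent.Lib.Helper74.BrauerFeit7

set_option autoImplicit false
open Cfsg

namespace Cfsg.Agent.S4710

open Cfsg.Agent.Helper77 Cfsg.Agent.Helper74.DO Cfsg.Agent.Helper74.BF in
/-- Let p be a prime, M a maximal ideal of the algebraic integers containing p, and B a p-block of defect d of the finite group G containing k irreducible characters. If B contains a character of positive height then 2k ≤ p^(2d − 2); and every character in B has height 0 when d ≤ 1 and height at most d − 2 when d ≥ 2. -/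
theorem result {G : Type*} [Group G] [Finite G] (p : ℕ) [Fact p.Prime] (M : Ideal Cfsg.AlgInt) (hM : Cfsg.IsPModular p M) (B : Set (Cfsg.IrrCharacter G)) (hB : Cfsg.IsPBlock M B) (d : ℕ) (hd : Cfsg.blockDefect p B = d) : ((∃ χ ∈ B, 0 < Cfsg.blockHeight p B (χ : G → ℂ)) → 2 * Nat.card B ≤ p ^ (2 * d - 2)) ∧ ∀ χ ∈ B, (d ≤ 1 → Cfsg.blockHeight p B (χ : G → ℂ) = 0) ∧ (2 ≤ d → Cfsg.blockHeight p B (χ : G → ℂ) ≤ d - 2) := by
  classical
  have hfin : Fintype G := Fintype.ofFinite G
  haveI hp := isPrime_of_isPModular hM
  have hdef : ∀ χ : IrrCharacter G, blockHeight p B (χ : G → ℂ) =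
      (charDegree (χ : G → ℂ)).factorization p - minVal p B := fun _ => rfl
  subst hd
  constructor
  · rintro ⟨χ, hχ, hpos⟩
    rw [hdef] at hpos
    have h := pos_height_count hM hB ⟨χ, hχ, by omega⟩
    rw [Nat.card_coe_set_eq, Set.ncard_eq_toFinset_card B (Set.toFinite B)]
    exact h
  · intro χ hχ
    obtain ⟨n, hn⟩ := exists_contrib hM hB
    rw [hdef]
    have hle := minVal_le (p := p) hχ
    by_cases hlt : minVal p B < (charDegree (χ : G → ℂ)).factorization p
    · have h := hn.height_add_two_le hM hB hχ hlt
      constructor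
      · intro h1; omega
      · intro h2; omega
    · constructor
      · intro _; omega
      · intro _; omega

end Cfsg.Agent.S4710
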