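import Cfsg.Statements.S4713
import Cfsg.Agent.Lib.Helper78.ItoMichlerPSolv

set_option autoImplicit false
open Cfsg

namespace Cfsg.Agent.S4713

/-- Let p be a prime and G a finite p-solvable group. Then G has a normal abelian Sylow p-subgroup if and only if the degree of every irreducible character of G is prime to p. -/
theorem result {G : Type*} [Group G] [Finite G] (p : ℕ) [Fact p.Prime] (hsolv : Cfsg.IsPSolvable p G) (P : Sylow p G) : ((P : Subgroup G).Normal ∧ IsMulCommutative P) ↔ ∀ χ : Cfsg.IrrCharacter G, ¬ p ∣ Cfsg.charDegree (χ : G → ℂ) := by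
  constructor
  · rintro ⟨hPn, hPc⟩
    refine Cfsg.Agent.Helper78.not_dvd_degree_of_hasNormalAbelianSylow p
      ⟨(P : Subgroup G), hPn, P.isPGroup', P.not_dvd_index, ?_⟩
    intro a ha b hb
    have h := hPc.is_comm.comm (⟨a, ha⟩ : P) ⟨b, hb⟩
    exact congrArg Subtype.val h
  · intro hdeg
    obtain ⟨N, hN, hNp, hidx, hcomm⟩ :=
      Cfsg.Agent.Helper78.hasNormalAbelianSylow_of_isPSolvable p hsolv hdeg
    have hPN := Cfsg.Agent.Helper78.sylow_eq_of_normal_pgroup p N hN hNp hidx P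
    refine ⟨hPN ▸ hN, ⟨⟨?_⟩⟩⟩
    rintro ⟨a, ha⟩ ⟨b, hb⟩
    apply Subtype.ext
    have ha' : a ∈ N := hPN ▸ ha
    have hb' : b ∈ N := hPN ▸ hb
    exact hcomm a ha' b hb'

end Cfsg.Agent.S4713
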