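import Cfsg.Statements.S4714
import Cfsg.Agent.Lib.Helper78.PCentral2

set_option autoImplicit false
open Cfsg

namespace Cfsg.Agent.S4714

/-- Let p be a prime, M a maximal ideal of the algebraic integers containing p, D a p-subgroup of the finite group G with G = D·C_G(D), and B a p-block with defect group D. Let χ be a member of B having D in its kernel (there is exactly one, the canonical character of B). Then the irreducible characters in B are exactly the functions θ on G for which there is an irreducible character ζ of D such that θ(yx) = ζ(y)χ(x) whenever y ∈ D, x has order prime to p and x commutes with y, and θ(z) = 0 whenever the p-part of z does not lie in D. -/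
theorem result {G : Type*} [Group G] [Finite G] (p : ℕ) [Fact p.Prime] (M : Ideal Cfsg.AlgInt) (hM : Cfsg.IsPModular p M) (D : Subgroup G) (hD : IsPGroup p D) (hG : D ⊔ Subgroup.centralizer (D : Set G) = ⊤) (B : Set (Cfsg.IrrCharacter G)) (hB : Cfsg.IsPBlock M B) (hBD : Cfsg.IsDefectGroup p M B D) (χ : Cfsg.IrrCharacter G) (hχ : χ ∈ B) (hχD : ∀ y ∈ D, (χ : G → ℂ) y = (χ : G → ℂ) 1) : (∀ θ : Cfsg.IrrCharacter G, θ ∈ B ↔ ∃ ζ : Cfsg.IrrCharacter D, (∀ (y : D) (x : G), ¬ p ∣ orderOf x → Commute (y : G) x → (θ : G → ℂ) ((y : G) * x) = (ζ : D → ℂ) y * (χ : G → ℂ) x) ∧ (∀ z : G, (∀ y : G, Cfsg.IsPPart p z y → y ∉ D) → (θ : G → ℂ) z = 0)) ∧ ∀ ζ : Cfsg.IrrCharacter D, ∃ θ ∈ B, (∀ (y : D) (x : G), ¬ p ∣ orderOf x → Commute (y : G) x → (θ : G → ℂ) ((y : G) * x) = (ζ : D → ℂ) y * (χ : G → ℂ) x) ∧ (∀ z : G, (∀ y : G, Cfsg.IsPPart p z y → y ∉ D) → (θ : G → ℂ) z = 0) := by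
  classical
  have := Fintype.ofFinite G
  have hp : p.Prime := Fact.out
  have hDn := Cfsg.Agent.Helper78.normal_of_sup_centralizer D hG
  obtain ⟨ψ₀, f, h₀, huniq, -, hbij, hform, hvan⟩ :=
    Cfsg.Agent.Helper78.pcentral_main hM D hD hG hB hBD
  have hχeq := huniq χ hχ hχD
  have hχval : ∀ x : G, (χ : G → ℂ) x = (ψ₀ : G ⧸ D → ℂ) (QuotientGroup.mk x) := by
    intro x
    rw [hχeq, Cfsg.Agent.Helper79.inflate_apply]
  -- the two properties for members of `B`
  have hprop : ∀ θ ∈ B, (∀ (y : D) (x : G), ¬ p ∣ orderOf x → Commute (y : G) x →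
      (θ : G → ℂ) ((y : G) * x) = (f θ : D → ℂ) y * (χ : G → ℂ) x) ∧
      (∀ z : G, (∀ y : G, Cfsg.IsPPart p z y → y ∉ D) → (θ : G → ℂ) z = 0) := by
    intro θ hθ
    constructor
    · intro y x hx _
      rw [hform θ hθ y x hx, hχval]
    · intro z hz
      apply hvan θ hθ
      obtain ⟨y, hy⟩ := Cfsg.Agent.Helper16.exists_isPPart hp z
      have hyD := hz y hy
      by_contra hnd
      apply hyD
      obtain ⟨m, hm⟩ := Cfsg.Agent.Helper78.isPPart_exists_pow hy
      obtain ⟨x, -, -, ⟨k, hk⟩, -⟩ := hy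
      rw [← QuotientGroup.eq_one_iff, ← orderOf_eq_one_iff]
      have h1 : orderOf (QuotientGroup.mk y : G ⧸ D) ∣ p ^ k := by
        rw [← hk]
        exact orderOf_map_dvd (QuotientGroup.mk' D) y
      have h2 : orderOf (QuotientGroup.mk y : G ⧸ D) ∣ orderOf (QuotientGroup.mk z : G ⧸ D) := by
        rw [← hm, QuotientGroup.mk_pow]
        exact orderOf_pow_dvd m
      obtain ⟨j, -, hj⟩ := (Nat.dvd_prime_pow hp).1 h1
      rcases Nat.eq_zero_or_pos j with hj0 | hj0
      · rw [hj, hj0, pow_zero]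
      · exfalso
        apply hnd
        apply dvd_trans _ h2
        rw [hj]
        exact dvd_pow_self p hj0.ne'
  have hsurj : ∀ ζ : Cfsg.IrrCharacter D, ∃ θ ∈ B,
      (∀ (y : D) (x : G), ¬ p ∣ orderOf x → Commute (y : G) x →
        (θ : G → ℂ) ((y : G) * x) = (ζ : D → ℂ) y * (χ : G → ℂ) x) ∧
      (∀ z : G, (∀ y : G, Cfsg.IsPPart p z y → y ∉ D) → (θ : G → ℂ) z = 0) := by
    intro ζ
    obtain ⟨θ, hθ, hfθ⟩ := hbij.surjOn (Set.mem_univ ζ)
    refine ⟨θ, hθ, ?_⟩
    have := hprop θ hθ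
    rw [hfθ] at this
    exact this
  refine ⟨?_, hsurj⟩
  intro θ
  constructor
  · intro hθ
    exact ⟨f θ, hprop θ hθ⟩
  · rintro ⟨ζ, h1, h2⟩
    obtain ⟨θ', hθ', h1', h2'⟩ := hsurj ζ
    have heq : θ = θ' := by
      apply Subtype.ext
      funext z
      obtain ⟨y, hy⟩ := Cfsg.Agent.Helper16.exists_isPPart hp z
      by_cases hyD : y ∈ D
      · obtain ⟨x, hyx, hc, -, hx⟩ := hy
        rw [← hyx]
        exact (h1 ⟨y, hyD⟩ x hx hc).trans (h1' ⟨y, hyD⟩ x hx hc).symm
      · have hall : ∀ y' : G, Cfsg.IsPPart p z y' → y' ∉ D := by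
          intro y' hy'
          have hw : (1 : G) * z ^ 1 = z ^ 1 * 1 := by simp
          have := Cfsg.Agent.Helper16.semiconj_ppart hp hy' hy (i := 1)
            (by intro h; exact hp.one_lt.ne' (Nat.dvd_one.1 h)) hw
          rw [one_mul, mul_one] at this
          rw [this]
          exact hyD
        rw [h2 z hall, h2' z hall]
    rw [heq]
    exact hθ'

end Cfsg.Agent.S4714
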