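import Cfsg.Statements.S4720
import Cfsg.Agent.S0925
import Cfsg.Agent.Lib.Helper16.PrincipalCol

set_option autoImplicit false
set_option linter.style.haveILetI false
set_option linter.unusedSectionVars false
set_option linter.unusedVariables false
open Cfsg

namespace Cfsg.Agent.S4720

open scoped ComplexConjugate
open Cfsg.Agent.Helper16 Cfsg.Agent.Helper77 Cfsg.Agent.Helper78

section

variable {G : Type*} [Group G] [Fintype G] {p : ℕ} {M : Ideal AlgInt}

theorem isPPart_self (hp : p.Prime) (y : G) (hy : ∃ k : ℕ, orderOf y = p ^ k) : IsPPart p y y :=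
  ⟨1, mul_one y, Commute.one_right y, hy, by
    rw [orderOf_one]; exact fun h => hp.one_lt.ne' (Nat.dvd_one.1 h)⟩

open scoped Classical in
/-- The principal-block column product at two `p`-elements. -/
theorem col_principal [Fact p.Prime] (hM : IsPModular p M) (y z : G)
    (hy : ∃ k : ℕ, orderOf y = p ^ k) (hz : ∃ k : ℕ, orderOf z = p ^ k)
    [Fintype (Subgroup.centralizer ({y} : Set G))] :
    ∑ χ ∈ Finset.univ.filter (fun χ : IrrCharacter G => χ ∈ principalBlock M G),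
        (χ : G → ℂ) z * (χ : G → ℂ) y⁻¹ =
      if IsConj z y then
        (Nat.card (Subgroup.centralizer ({y} : Set G)) : ℂ) *
          blockCoeff (principalBlock M (Subgroup.centralizer ({y} : Set G))) 1
      else 0 := by
  have hp : p.Prime := hM.1
  by_cases hc : IsConj z y
  · rw [if_pos hc, ← sum_mul_conj_principal hM y hy]
    refine Finset.sum_congr rfl fun χ _ => ?_
    obtain ⟨c, hc'⟩ := isConj_iff.1 hc
    have hcl := isClassFunction_of_isIrrCharacter χ.2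
    have h1 : (χ : G → ℂ) z = (χ : G → ℂ) y := by rw [← hc', hcl]
    rw [h1, Cfsg.Agent.Helper79.irr_inv]
  · rw [if_neg hc]
    have h := (Cfsg.Agent.S0925.result p M hM).2 z y z y (isPPart_self hp z hz)
      (isPPart_self hp y hy) hc (principalBlock M G) (isPBlock_principalBlock M)
    rw [finsum_mem_eq_finite_toFinset_sum _ (Set.toFinite _)] at h
    rw [← h]
    refine Finset.sum_congr ?_ fun _ _ => rfl
    ext χ
    simp

/-- The fibres of `x ↦ x y x⁻¹` on `N` have the size of `C_N(y)`. -/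
theorem card_fiber (N : Subgroup G) (y : G) (x₀ : N) :
    Nat.card {x : N // (x : G) * y * (x : G)⁻¹ = (x₀ : G) * y * (x₀ : G)⁻¹} =
      Nat.card ↥(N ⊓ Subgroup.centralizer ({y} : Set G)) := by
  refine Nat.card_congr
    { toFun := fun x => ⟨(x₀ : G)⁻¹ * (x.1 : G), ⟨N.mul_mem (N.inv_mem x₀.2) x.1.2, ?_⟩⟩
      invFun := fun c => ⟨⟨(x₀ : G) * (c : G), N.mul_mem x₀.2 c.2.1⟩, ?_⟩
      left_inv := ?_
      right_inv := ?_ }
  · show (x₀ : G)⁻¹ * (x.1 : G) ∈ Subgroup.centralizer ({y} : Set G)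
    rw [mem_centralizer_singleton_iff']
    have h := x.2
    calc y * ((x₀ : G)⁻¹ * (x.1 : G))
        = (x₀ : G)⁻¹ * ((x₀ : G) * y * (x₀ : G)⁻¹) * (x.1 : G) := by group
      _ = (x₀ : G)⁻¹ * ((x.1 : G) * y * (x.1 : G)⁻¹) * (x.1 : G) := by rw [h]
      _ = (x₀ : G)⁻¹ * (x.1 : G) * y := by group
  · have hc : y * (c : G) = (c : G) * y := (mem_centralizer_singleton_iff' y (c : G)).1 c.2.2
    show (x₀ : G) * (c : G) * y * ((x₀ : G) * (c : G))⁻¹ = (x₀ : G) * y * (x₀ : G)⁻¹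
    calc (x₀ : G) * (c : G) * y * ((x₀ : G) * (c : G))⁻¹
        = (x₀ : G) * ((c : G) * y) * (c : G)⁻¹ * (x₀ : G)⁻¹ := by group
      _ = (x₀ : G) * (y * (c : G)) * (c : G)⁻¹ * (x₀ : G)⁻¹ := by rw [hc]
      _ = (x₀ : G) * y * (x₀ : G)⁻¹ := by group
  · intro x
    apply Subtype.ext
    apply Subtype.ext
    show (x₀ : G) * ((x₀ : G)⁻¹ * (x.1 : G)) = (x.1 : G)
    group
  · intro c
    apply Subtype.ext
    show (x₀ : G)⁻¹ * ((x₀ : G) * (c : G)) = (c : G)
    group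

open scoped Classical in
/-- Summing an extended-by-zero function over the `N`-conjugates of `y ∈ P`. -/
theorem sum_conj_extend (P N : Subgroup G) (hNN : N ≤ Subgroup.normalizer (P : Set G))
    (η : P → ℂ) (y : P) :
    ∑ x : N, extendByZero P η ((x : G) * (y : G) * (x : G)⁻¹) =
      (Nat.card ↥(N ⊓ Subgroup.centralizer ({(y : G)} : Set G)) : ℂ) *
        ∑ z ∈ Finset.univ.filter (fun z : P => ∃ n : N, (n : G) * (y : G) * (n : G)⁻¹ = (z : G)),
          η z := by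
  have hmem : ∀ x : N, (x : G) * (y : G) * (x : G)⁻¹ ∈ P := fun x =>
    (Subgroup.mem_normalizer_iff.1 (hNN x.2) (y : G)).1 y.2
  have h1 : ∀ x : N, extendByZero P η ((x : G) * (y : G) * (x : G)⁻¹) =
      η ⟨(x : G) * (y : G) * (x : G)⁻¹, hmem x⟩ := by
    intro x
    unfold extendByZero
    exact Subtype.val_injective.extend_apply η 0 ⟨(x : G) * (y : G) * (x : G)⁻¹, hmem x⟩
  simp_rw [h1]
  rw [Finset.sum_comp η (fun x : N => (⟨(x : G) * (y : G) * (x : G)⁻¹, hmem x⟩ : P))]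
  rw [Finset.mul_sum]
  have himg : Finset.univ.image (fun x : N => (⟨(x : G) * (y : G) * (x : G)⁻¹, hmem x⟩ : P)) =
      Finset.univ.filter (fun z : P => ∃ n : N, (n : G) * (y : G) * (n : G)⁻¹ = (z : G)) := by
    ext z
    simp only [Finset.mem_image, Finset.mem_univ, true_and, Finset.mem_filter]
    constructor
    · rintro ⟨x, rfl⟩
      exact ⟨x, rfl⟩
    · rintro ⟨n, hn⟩
      exact ⟨n, Subtype.ext hn⟩
  rw [himg]
  refine Finset.sum_congr rfl fun z hz => ?_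
  simp only [Finset.mem_filter, Finset.mem_univ, true_and] at hz
  obtain ⟨x₀, hx₀⟩ := hz
  rw [nsmul_eq_mul]
  congr 1
  rw [← card_fiber N (y : G) x₀]
  rw [Nat.card_eq_fintype_card, Fintype.card_subtype]
  congr 2
  ext x
  simp only [Finset.mem_filter, Finset.mem_univ, true_and]
  rw [hx₀]
  exact ⟨fun h => congrArg Subtype.val h, fun h => Subtype.ext h⟩

/-- The coefficient at `1` of a block idempotent through the degrees. -/
theorem card_mul_blockCoeff_one {X : Type*} [Group X] [Fintype X] (e : Set (IrrCharacter X)) :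
    (Nat.card X : ℂ) * blockCoeff e 1 =
      ((∑ᶠ ψ ∈ e, ((charDegree (ψ : X → ℂ) : ℕ) : ℚ) ^ 2 : ℚ) : ℂ) := by
  classical
  unfold blockCoeff
  have hcard : (Nat.card X : ℂ) ≠ 0 := by exact_mod_cast Nat.card_pos.ne'
  rw [← mul_assoc, mul_inv_cancel₀ hcard, one_mul]
  rw [finsum_mem_eq_finite_toFinset_sum _ (Set.toFinite _),
    finsum_mem_eq_finite_toFinset_sum _ (Set.toFinite _)]
  push_cast
  refine Finset.sum_congr rfl fun ψ _ => ?_
  rw [(Cfsg.Agent.Helper79.irr_one_eq ψ).1]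
  simp [sq]

/-- The general form, for a finite type with decidable data. -/
theorem aux [Fact p.Prime] (hM : IsPModular p M) (P : Subgroup G) (hP : IsPGroup p P)
    (N : Subgroup G) (hNN : N ≤ Subgroup.normalizer (P : Set G)) (U : Set G)
    (hfus : ∀ u ∈ U, ∀ g : G, g * u * g⁻¹ ∈ (P : Set G) → ∃ n ∈ N, n * u * n⁻¹ = g * u * g⁻¹)
    (w : ℚ)
    (hw : ∀ y ∈ U, ((∑ᶠ ψ ∈ principalBlock M ↥(Subgroup.centralizer ({y} : Set G)),
      ((charDegree (ψ : ↥(Subgroup.centralizer ({y} : Set G)) → ℂ) : ℕ) : ℚ) ^ 2) : ℚ) =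
        w * (Nat.card ↥(N ⊓ Subgroup.centralizer ({y} : Set G)) : ℚ))
    (θ η : ↥P → ℂ) (hθU : ∀ y : ↥P, (y : G) ∉ U → θ y = 0) :
    ∑ᶠ χ ∈ principalBlock M G,
        ((Nat.card ↥P : ℂ)⁻¹ * ∑ᶠ y : ↥P, (χ : G → ℂ) (y : G) * θ y⁻¹) *
          (starRingEnd ℂ) ((Nat.card ↥P : ℂ)⁻¹ * ∑ᶠ y : ↥P, (χ : G → ℂ) (y : G) * η y⁻¹) =
      ((w : ℂ) / ((Nat.card ↥P : ℂ) ^ 2)) *
        ∑ᶠ y : ↥P, θ y * (starRingEnd ℂ)
          (∑ᶠ x : ↥N, extendByZero P η ((x : G) * (y : G) * (x : G)⁻¹)) := by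
  classical
  have hp : p.Prime := hM.1
  rw [finsum_mem_eq_finite_toFinset_sum _ (Set.toFinite _)]
  simp_rw [finsum_eq_sum_of_fintype]
  have hfilter : (Set.toFinite (principalBlock M G)).toFinset =
      Finset.univ.filter (fun χ : IrrCharacter G => χ ∈ principalBlock M G) := by
    ext χ; simp
  rw [hfilter]
  have hterm : ∀ χ : IrrCharacter G,
      ((Nat.card ↥P : ℂ)⁻¹ * ∑ y : ↥P, (χ : G → ℂ) (y : G) * θ y⁻¹) *
          (starRingEnd ℂ) ((Nat.card ↥P : ℂ)⁻¹ * ∑ y : ↥P, (χ : G → ℂ) (y : G) * η y⁻¹) =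
        (Nat.card ↥P : ℂ)⁻¹ * (Nat.card ↥P : ℂ)⁻¹ *
          ∑ y : ↥P, ∑ z : ↥P, θ y * conj (η z) *
            ((χ : G → ℂ) (z : G) * (χ : G → ℂ) ((y : G))⁻¹) := by
    intro χ
    have h1 : ∑ y : ↥P, (χ : G → ℂ) (y : G) * θ y⁻¹ =
        ∑ y : ↥P, (χ : G → ℂ) ((y : G))⁻¹ * θ y := by
      refine Fintype.sum_equiv (Equiv.inv ↥P) _ _ (fun y => ?_)
      simp
    have h2 : (starRingEnd ℂ) ((Nat.card ↥P : ℂ)⁻¹ * ∑ y : ↥P, (χ : G → ℂ) (y : G) * η y⁻¹) =
        (Nat.card ↥P : ℂ)⁻¹ * ∑ z : ↥P, (χ : G → ℂ) (z : G) * conj (η z) := by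
      rw [map_mul, map_inv₀, Complex.conj_natCast, map_sum]
      congr 1
      refine Fintype.sum_equiv (Equiv.inv ↥P) _ _ (fun z => ?_)
      rw [map_mul, ← Cfsg.Agent.Helper79.irr_inv]
      simp
    rw [h1, h2]
    have h3 : ((Nat.card ↥P : ℂ)⁻¹ * ∑ y : ↥P, (χ : G → ℂ) ((y : G))⁻¹ * θ y) *
        ((Nat.card ↥P : ℂ)⁻¹ * ∑ z : ↥P, (χ : G → ℂ) (z : G) * conj (η z)) =
        (Nat.card ↥P : ℂ)⁻¹ * (Nat.card ↥P : ℂ)⁻¹ *
          ((∑ y : ↥P, (χ : G → ℂ) ((y : G))⁻¹ * θ y) *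
            (∑ z : ↥P, (χ : G → ℂ) (z : G) * conj (η z))) := by ring
    rw [h3, Finset.sum_mul_sum]
    congr 1
    refine Finset.sum_congr rfl fun y _ => ?_
    refine Finset.sum_congr rfl fun z _ => ?_
    ring
  simp_rw [hterm]
  rw [← Finset.mul_sum, Finset.sum_comm]
  simp_rw [Finset.sum_comm (s := Finset.univ.filter (fun χ : IrrCharacter G =>
    χ ∈ principalBlock M G)), ← Finset.mul_sum]
  have hPel : ∀ y : ↥P, ∃ k : ℕ, orderOf (y : G) = p ^ k := by
    intro y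
    obtain ⟨k, hk⟩ := (IsPGroup.iff_orderOf.1 hP) y
    exact ⟨k, by rw [Subgroup.orderOf_coe, hk]⟩
  simp_rw [fun y z : ↥P => col_principal hM (y : G) (z : G) (hPel y) (hPel z)]
  have hscal : ((w : ℂ) / ((Nat.card ↥P : ℂ) ^ 2)) =
      (Nat.card ↥P : ℂ)⁻¹ * (Nat.card ↥P : ℂ)⁻¹ * (w : ℂ) := by
    rw [div_eq_mul_inv, sq, mul_inv]
    ring
  rw [hscal, mul_assoc ((Nat.card ↥P : ℂ)⁻¹ * (Nat.card ↥P : ℂ)⁻¹), Finset.mul_sum (a := (w : ℂ))]
  congr 1
  refine Finset.sum_congr rfl fun y _ => ?_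
  by_cases hyU : (y : G) ∈ U
  · -- the value on `U`
    have hK : (Nat.card (Subgroup.centralizer ({(y : G)} : Set G)) : ℂ) *
        blockCoeff (principalBlock M (Subgroup.centralizer ({(y : G)} : Set G))) 1 =
        (w : ℂ) * (Nat.card ↥(N ⊓ Subgroup.centralizer ({(y : G)} : Set G)) : ℂ) := by
      rw [card_mul_blockCoeff_one, hw (y : G) hyU]
      push_cast
      rfl
    rw [hK, sum_conj_extend P N hNN η y, map_mul, Complex.conj_natCast, map_sum]
    have hfil : Finset.univ.filter (fun z : ↥P => ∃ n : ↥N, (n : G) * (y : G) * (n : G)⁻¹ = (z : G)) =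
        Finset.univ.filter (fun z : ↥P => IsConj (z : G) (y : G)) := by
      ext z
      simp only [Finset.mem_filter, Finset.mem_univ, true_and]
      constructor
      · rintro ⟨n, hn⟩
        rw [isConj_iff]
        refine ⟨(n : G)⁻¹, ?_⟩
        rw [← hn]
        group
      · intro hc
        obtain ⟨c, hc⟩ := isConj_iff.1 hc
        have hz : c⁻¹ * (y : G) * c⁻¹⁻¹ = (z : G) := by
          rw [← hc]; group
        obtain ⟨n, hnN, hn⟩ := hfus (y : G) hyU c⁻¹ (by rw [hz]; exact z.2)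
        exact ⟨⟨n, hnN⟩, by rw [← hz, ← hn]⟩
    rw [hfil, Finset.sum_filter]
    rw [Finset.mul_sum, Finset.mul_sum, Finset.mul_sum]
    refine Finset.sum_congr rfl fun z _ => ?_
    by_cases hzc : IsConj (z : G) (y : G)
    · rw [if_pos hzc, if_pos hzc]
      ring
    · rw [if_neg hzc, if_neg hzc]
      ring
  · rw [hθU y hyU]
    simp

end

/-- Let p be a prime, M a maximal ideal of the algebraic integers containing p, P a p-subgroup of the finite group G, N a subgroup with P ≤ N ≤ N_G(P), and U a nonempty subset of P normalized by N such that an element of U and an element of P that are conjugate in G are already conjugate in N, and such that λ(C_G(y)) = w·#C_N(y) for every y ∈ U with one rational number w, where λ(X) denotes the sum of the squares of the degrees of the irreducible characters in the principal p-block of X. For a complex function θ on P and χ in the principal block of G put a_χ(θ) = #P⁻¹ Σ_{y ∈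 P} χ(y) θ(y⁻¹). Then for generalized characters θ, η of P with θ vanishing outside U, Σ_χ a_χ(θ)·conj(a_χ(η)) = (w/#P²)·Σ_{y ∈ P} θ(y)·conj(Σ_{x ∈ N} η(x y x⁻¹)) (η extended by zero off P; the conjugates lie in P), the first sum over the principal p-block of G. -/
theorem result {G : Type*} [Group G] [Finite G] (p : ℕ) [Fact p.Prime] (M : Ideal Cfsg.AlgInt) (hM : Cfsg.IsPModular p M) (P : Subgroup G) (hP : IsPGroup p P) (N : Subgroup G) (hPN : P ≤ N) (hNN : N ≤ Subgroup.normalizer (P : Set G)) (U : Set G) (hUne : U.Nonempty) (hUP : U ⊆ (P : Set G)) (hUN : ∀ n ∈ N, ∀ u ∈ U, n * u * n⁻¹ ∈ U) (hfus : ∀ u ∈ U, ∀ g : G, g * u * g⁻¹ ∈ (P : Set G) → ∃ n ∈ N, n * u * n⁻¹ = g * u * g⁻¹) (w : ℚ) (hw : ∀ y ∈ U, ((∑ᶠ ψ ∈ Cfsg.principalBlock M ↥(Subgroup.centralizer ({y} : Set G)), Cfsg.charDegree (ψ : ↥(Subgroup.centralizer ({y} : Set G)) → ℂ) ^ 2) : ℚ) = w * Nat.card ↥(N ⊓ Subgroup.centralizer ({y} : Set G))) (θ η : ↥P → ℂ)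 (hθ : Cfsg.IsGeneralizedCharacter ↥P θ) (hη : Cfsg.IsGeneralizedCharacter ↥P η) (hθU : ∀ y : ↥P, (y : G) ∉ U → θ y = 0) : ∑ᶠ χ ∈ Cfsg.principalBlock M G, ((Nat.card ↥P : ℂ)⁻¹ * ∑ᶠ y : ↥P, (χ : G → ℂ) (y : G) * θ y⁻¹) * (starRingEnd ℂ) ((Nat.card ↥P : ℂ)⁻¹ * ∑ᶠ y : ↥P, (χ : G → ℂ) (y : G) * η y⁻¹) = ((w : ℂ) / ((Nat.card ↥P : ℂ) ^ 2)) * ∑ᶠ y : ↥P, θ y * (starRingEnd ℂ) (∑ᶠ x : ↥N, Cfsg.extendByZero P η ((x : G) * (y : G) * (x : G)⁻¹)) := by
  classical
  haveI : Fintype G := Fintype.ofFinite G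
  exact aux hM P hP N hNN U hfus w hw θ η hθU

end Cfsg.Agent.S4720
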