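import Cfsg.Statements.S4721
import Cfsg.Agent.Lib.Helper46.BL11
import Cfsg.Agent.Lib.Helper46.BL12
import Cfsg.Agent.Lib.Helper46.BL13
import Cfsg.Agent.Lib.Helper23.BLNoInvolProd
import Cfsg.Agent.Lib.Helper16.BLRot

set_option autoImplicit false
set_option linter.style.haveILetI false
set_option maxHeartbeats 3200000
open Cfsg

namespace Cfsg.Agent.S4721

open scoped Pointwise in
/-- a `p`-element is conjugate into a given Sylow `p`-subgroup -/
theorem exists_conj_mem_sylow {G : Type*} [Group G] [Finite G] {p : ℕ} [Fact p.Prime]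
    (P : Sylow p G) (t : G) (k : ℕ) (ht : orderOf t = p ^ k) :
    ∃ g : G, g * t * g⁻¹ ∈ (P : Subgroup G) := by
  have hpg : IsPGroup p (Subgroup.zpowers t) := by
    apply IsPGroup.of_card (n := k)
    rw [Nat.card_zpowers, ht]
  obtain ⟨Q, hQ⟩ := hpg.exists_le_sylow
  obtain ⟨g, hg⟩ := MulAction.exists_smul_eq G Q P
  refine ⟨g, ?_⟩
  have h1 : t ∈ (Q : Subgroup G) := hQ (Subgroup.mem_zpowers t)
  have h2 : MulAut.conj g • t ∈ MulAut.conj g • (Q : Subgroup G) :=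
    Subgroup.smul_mem_pointwise_smul _ _ _ h1
  rw [← Sylow.coe_subgroup_smul, hg] at h2
  simpa using h2


/-- Let p be a prime, M a maximal ideal of the algebraic integers containing p, and G a finite group with a nontrivial abelian Sylow p-subgroup P, N = N_G(P), C = C_G(P), such that N/C is cyclic of order 3, #P > 4, and C_G(y) ∩ N = C for every non-identity y ∈ P. Then the principal p-block is the disjoint union of a set X of exactly 3 characters containing the principal character and a set Y of (#P − 1)/3 characters, with signs a_χ = ±1 (χ ∈ X, a = 1 at the principal character) and δ = ±1 such that every χ ∈ X takes the value a_χ at every element whose p-part is a non-identity element of P, and there is a map ζ from the non-principal linear characters of P onto Y, constant on N-conjugacy classes, with ζ_ψ(z) = δ·Σ ψ'(y) over the N-orbit of ψ, for z with p-part y ≠ 1 in P. If moreover G has an involution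 lying in no proper normal subgroup of G, then exactly two of the three numbers −δ and a_χ (χ ∈ X non-principal) equal −1, and the product of the degrees of the two non-principal members of X and of any member of Y is a perfect square. -/
theorem result {G : Type*} [Group G] [Finite G] (p : ℕ) [Fact p.Prime] (M : Ideal Cfsg.AlgInt) (hM : Cfsg.IsPModular p M) (P : Sylow p G) (hab : IsMulCommutative P) (hP1 : Nat.card P ≠ 1) (hCN : (Subgroup.centralizer ((P : Subgroup G) : Set G)).relIndex (Subgroup.normalizer ((P : Subgroup G) : Set G)) = 3) (hcyc : ∃ g : G, g ∈ Subgroup.normalizer ((P : Subgroup G) : Set G) ∧ Subgroup.centralizer ((P : Subgroup G) : Set G) ⊔ Subgroup.zpowers g = Subgroup.normalizer ((P : Subgroup G) : Set G)) (hm2 : 3 + 1 < Nat.card P) (hfrob : ∀ y : G, y ∈ (P : Subgroup G) → y ≠ 1 → Subgroup.centralizer ({y} : Set G) ⊓ Subgroup.normalizer ((P : Subgroup G) : Set G) = Subgroup.centralizer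 ((P : Subgroup G) : Set G)) : ∃ (X Y : Set (Cfsg.IrrCharacter G)), Cfsg.principalBlock M G = X ∪ Y ∧ Disjoint X Y ∧ Nat.card X = 3 ∧ Nat.card Y = (Nat.card P - 1) / 3 ∧ (∃ χ₁ ∈ X, (χ₁ : G → ℂ) = fun _ => 1) ∧ ∃ (a : Cfsg.IrrCharacter G → ℤ) (δ : ℤ) (ζ : (↥(P : Subgroup G) →* ℂˣ) → Cfsg.IrrCharacter G), (δ = 1 ∨ δ = -1) ∧ (∀ χ ∈ X, (a χ = 1 ∨ a χ = -1) ∧ ∀ z y : G, Cfsg.IsPPart p z y → y ∈ (P : Subgroup G) → y ≠ 1 → (χ : G → ℂ) z = (a χ : ℂ)) ∧ (∀ ψ : ↥(P : Subgroup G) →* ℂˣ, ψ ≠ 1 → ζ ψ ∈ Y) ∧ (∀ η ∈ Y, ∃ ψ : ↥(P : Subgroup G) →* ℂˣ, ψ ≠ 1 ∧ ζ ψ = η) ∧ (∀ ψ ψ' : ↥(P : Subgroup G) →* ℂˣ, ψ ≠ 1 → (∃ n : G, n ∈ Subgroup.normalizer ((P : Subgroup G) : Set G) ∧ ∀ w w' : ↥(P : Subgroup G), (w' : G) = n * w * n⁻¹ → ψ' w' = ψ w) → ζ ψ' = ζ ψ) ∧ (∀ ψ : ↥(P : Subgroup G) →* ℂˣ, ψ ≠ 1 → ∀ (z : G) (y : ↥(P : Subgroup G)), Cfsg.IsPPart p z (y : G) → (y : G) ≠ 1 → (ζ ψ : G → ℂ) z = (δ : ℂ) * ∑ᶠ ψ' ∈ {ψ' : ↥(P : Subgroup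 G) →* ℂˣ | ∃ n : G, n ∈ Subgroup.normalizer ((P : Subgroup G) : Set G) ∧ ∀ w w' : ↥(P : Subgroup G), (w' : G) = n * w * n⁻¹ → ψ' w' = ψ w}, ((ψ' y : ℂˣ) : ℂ)) ∧ ((∃ t : G, orderOf t = 2 ∧ ∀ K : Subgroup G, K.Normal → t ∈ K → K = ⊤) → Nat.card {χ : Cfsg.IrrCharacter G // χ ∈ X ∧ (χ : G → ℂ) ≠ (fun _ => 1) ∧ a χ = -1} + (if δ = 1 then 1 else 0) = 2 ∧ ∀ η ∈ Y, IsSquare (Cfsg.charDegree (η : G → ℂ) * ∏ᶠ χ ∈ {χ : Cfsg.IrrCharacter G | χ ∈ X ∧ (χ : G → ℂ) ≠ fun _ => 1}, Cfsg.charDegree (χ : G → ℂ))) := by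
  classical
  haveI : Fintype G := Fintype.ofFinite G
  haveI : Fintype ↥(P : Subgroup G) := Fintype.ofFinite _
  haveI : Fintype ↥(Subgroup.normalizer ((P : Subgroup G) : Set G)) := Fintype.ofFinite _
  haveI hfinHom : Finite (↥(P : Subgroup G) →* ℂˣ) := by
    apply Nat.finite_of_card_ne_zero
    rw [Cfsg.Agent.Helper45.BLGT.card_hom_sylow p P hab hfrob]
    exact Nat.card_pos.ne'
  haveI : Fintype (↥(P : Subgroup G) →* ℂˣ) := Fintype.ofFinite _
  haveI := Cfsg.Agent.Helper77.isPrime_of_isPModular hM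
  obtain ⟨D₀⟩ := Cfsg.Agent.Helper46.BL.exists_blData P hab hfrob hM hP1 3 hm2 hCN
  obtain ⟨D, hd⟩ := D₀.exists_d₀_zero hab hfrob hM hm2 hCN
  set T := (Set.toFinite (principalBlock M G)).toFinset with hT
  have hTmem : ∀ χ, χ ∈ T ↔ χ ∈ principalBlock M G := fun χ => Set.Finite.mem_toFinset _
  obtain ⟨hX3, hpm⟩ := D.m3_X hab hfrob hM hm2 hCN hd
  have hcard := D.card_Yf hab hfrob 3 hCN
  have hr : (Nat.card ↥(P : Subgroup G) - 1) / 3 = D.Yf.card := by
    rw [← hcard]; exact Nat.mul_div_cancel _ (by norm_num)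
  have hXmem : ∀ χ, χ ∈ T \ D.Yf ↔ χ ∈ principalBlock M G ∧ χ ∉ D.Yf := by
    intro χ
    rw [Finset.mem_sdiff, hTmem]
  have htrivX : Cfsg.Agent.Helper77.trivIrr G ∈ T \ D.Yf :=
    (hXmem _).2 ⟨Cfsg.Agent.Helper77.trivIrr_mem_principalBlock M,
      D.triv_not_mem_Yf hab hfrob hM 3 hm2 hCN⟩
  have hsetRel : ∀ ψ : ↥(P : Subgroup G) →* ℂˣ,
      {ψ' : ↥(P : Subgroup G) →* ℂˣ | ∃ n : G, n ∈ Subgroup.normalizer ((P : Subgroup G) : Set G) ∧
        ∀ w w' : ↥(P : Subgroup G), (w' : G) = n * w * n⁻¹ → ψ' w' = ψ w} =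
      ↑(Finset.univ.filter (fun ψ' : ↥(P : Subgroup G) →* ℂˣ =>
        Cfsg.Agent.Helper45.BLGT.Rel p P ψ ψ')) := by
    intro ψ
    ext ψ'
    simp only [Set.mem_setOf_eq, Finset.coe_filter, Finset.mem_univ, true_and]
  have hne1 : ∀ χ : IrrCharacter G, (χ : G → ℂ) ≠ (fun _ => 1) ↔ χ ≠ Cfsg.Agent.Helper77.trivIrr G := by
    intro χ
    constructor
    · intro h h'
      exact h (by rw [h']; rfl)
    · intro h h'
      exact h (Subtype.ext h')
  refine ⟨↑(T \ D.Yf), ↑D.Yf, ?_, ?_, ?_, ?_, ?_,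
    fun χ => -D.a₀ χ, D.ε, D.ζ, D.hε, ?_, ?_, ?_, ?_, ?_, ?_⟩
  · rw [← Finset.coe_union, Finset.sdiff_union_of_subset D.Yf_subset]
    exact (Set.Finite.coe_toFinset _).symm
  · exact Finset.disjoint_coe.2 Finset.sdiff_disjoint
  · rw [Nat.card_coe_set_eq, Set.ncard_coe_finset, hX3]
  · rw [Nat.card_coe_set_eq, Set.ncard_coe_finset, hr]
  · exact ⟨Cfsg.Agent.Helper77.trivIrr G, Finset.mem_coe.2 htrivX, rfl⟩
  · intro χ hχ
    have hχ' := (hXmem χ).1 (Finset.mem_coe.1 hχ)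
    refine ⟨?_, ?_⟩
    · show -D.a₀ χ = 1 ∨ -D.a₀ χ = -1
      rcases hpm χ (Finset.mem_coe.1 hχ) with h | h <;> rw [h] <;> norm_num
    · intro z y hzy hy hy1
      exact D.val_X hab hfrob hM χ hχ'.1 hχ'.2 z y hzy hy hy1
  · intro ψ hψ
    exact Finset.mem_coe.2 ((D.mem_Yf _).2 ⟨ψ, hψ, rfl⟩)
  · intro η hη
    exact (D.mem_Yf η).1 (Finset.mem_coe.1 hη)
  · intro ψ ψ' hψ hrel
    have hψ' : ψ' ≠ 1 := by
      rintro rfl
      exact hψ ((Cfsg.Agent.Helper45.BLGT.rel_one p P hab hfrob ψ).1 hrel)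
    exact ((D.hinj ψ ψ' hψ hψ').2 hrel).symm
  · intro ψ hψ z y hzy hy1
    rw [hsetRel ψ, finsum_mem_coe_finset, D.val_Y hab hfrob hM ψ hψ z y hzy hy1, hd]
    simp
  · rintro ⟨t, ht2, htn⟩
    -- the relations at the involution
    have hrel : ∃ (v : IrrCharacter G → ℤ) (v₄ : ℤ), D.InvolRel v v₄ := by
      by_cases hp2 : p = 2
      · -- conjugate `t` into `P`
        obtain ⟨g, hg⟩ := exists_conj_mem_sylow P t 1 (by rw [ht2, hp2, pow_one])
        have ht2' : orderOf (g * t * g⁻¹) = 2 := by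
          rw [← ht2]
          exact (MulEquiv.orderOf_eq (MulAut.conj g) t)
        have htn' : ∀ K : Subgroup G, K.Normal → g * t * g⁻¹ ∈ K → K = ⊤ := by
          intro K hK hmem
          apply htn K hK
          have := hK.conj_mem _ hmem g⁻¹
          simpa [mul_assoc] using this
        obtain ⟨c, -, hcprod, hcconj, -, hcls⟩ :=
          Cfsg.Agent.Helper16.BLRot.exists_rot p P hab hCN hfrob
        exact D.rel_two hab hfrob hM hm2 hCN hd hp2 c hcprod hcconj hcls ⟨g * t * g⁻¹, hg⟩ ht2' htn'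
          (fun y hy hy1 hyt a b x hx =>
            Cfsg.Agent.Helper23.BLNoInvolProd.no_invol_prod p P hab hCN hfrob (g * t * g⁻¹) ht2' y hy hy1
              hyt a b x hx)
      · refine D.rel_odd hab hfrob hM hm2 hCN hd hp2 t ht2 htn ?_
        intro y hy hy1 a b x hx
        refine Cfsg.Agent.Helper23.BLNoInvolProd.no_invol_prod p P hab hCN hfrob t ht2 y hy hy1 ?_ a b x hx
        intro t₁ t₂ ht₁ _ hc₁ _ _
        -- no conjugate of `t` lies in `P`
        obtain ⟨k, hk⟩ := Cfsg.Agent.Helper46.BL.pelement_of_mem P ht₁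
        obtain ⟨c, hc⟩ := isConj_iff.1 hc₁
        have ho : orderOf t₁ = 2 := by
          rw [← hc, ← ht2]
          exact (MulEquiv.orderOf_eq (MulAut.conj c) t)
        rw [ho] at hk
        have hk0 : k ≠ 0 := by
          rintro rfl
          simp at hk
        have h2 : p ∣ 2 := by rw [hk]; exact dvd_pow_self p hk0
        exact hp2 ((Nat.prime_dvd_prime_iff_eq (Fact.out) Nat.prime_two).1 h2)
    obtain ⟨v, v₄, hrel⟩ := hrel
    obtain ⟨hcount, hsq⟩ := D.m3_final hab hfrob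
      (fun e₂ e₃ e₄ he₂ he₃ he₄ f₂ f₃ f₄ v₂ v₃ v₄ hv₂ hv₃ hv₄ hf₂ hf₃ hf₄ h1 h2 h3 =>
        Cfsg.Agent.Helper46.BL.bl_signs_square e₂ e₃ e₄ he₂ he₃ he₄ f₂ f₃ f₄ v₂ v₃ v₄ hv₂ hv₃
          hv₄ hf₂ hf₃ hf₄ h1 h2 h3) hM hm2 hCN hd v v₄ hrel
    refine ⟨?_, ?_⟩
    · rw [← hcount]
      congr 1
      have e : {χ : IrrCharacter G // χ ∈ (↑(T \ D.Yf) : Set (IrrCharacter G)) ∧
          (χ : G → ℂ) ≠ (fun _ => 1) ∧ (fun χ => -D.a₀ χ) χ = -1} ≃
          {χ : IrrCharacter G // χ ∈ (T \ D.Yf).filter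
            (fun χ => χ ≠ Cfsg.Agent.Helper77.trivIrr G ∧ -D.a₀ χ = -1)} :=
        Equiv.subtypeEquivRight (fun χ => by
          rw [Finset.mem_filter, Finset.mem_coe, hne1])
      rw [Nat.card_congr e, Nat.card_eq_fintype_card, Fintype.card_coe]
    · intro η hη
      have hset : {χ : IrrCharacter G | χ ∈ (↑(T \ D.Yf) : Set (IrrCharacter G)) ∧
          (χ : G → ℂ) ≠ fun _ => 1} = ↑((T \ D.Yf).erase (Cfsg.Agent.Helper77.trivIrr G)) := by
        ext χ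
        simp only [Set.mem_setOf_eq, Finset.mem_coe, Finset.mem_erase, hne1]
        tauto
      rw [hset, finprod_mem_coe_finset]
      exact hsq η (Finset.mem_coe.1 hη)

end Cfsg.Agent.S4721
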