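import Cfsg.Statements.S4722
import Cfsg.Agent.S0925
import Cfsg.Agent.S0944
import Cfsg.Agent.S4611
import Cfsg.Agent.Lib.Helper16.PPart
import Cfsg.Agent.Lib.Helper16.SecondMain
import Cfsg.Agent.Lib.Helper16.QuotBlock
import Cfsg.Agent.Lib.Helper77.Principal
import Cfsg.Agent.Lib.Helper80.CharBasic
import Cfsg.Agent.Lib.Helper82.GenChar
import Cfsg.Agent.Lib.Helper16.NormalSub

set_option autoImplicit false
set_option linter.style.haveILetI false
set_option linter.unusedSectionVars false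
set_option linter.unusedVariables false
open Cfsg

namespace Cfsg.Agent.S4722

open scoped ComplexConjugate
open Cfsg.Agent.Helper16 Cfsg.Agent.Helper77 Cfsg.Agent.Helper78

section

variable {G : Type*} [Group G] [Fintype G] {p : ℕ} {M : Ideal AlgInt}

theorem isPPart_self (hp : p.Prime) (y : G) (hy : ∃ k : ℕ, orderOf y = p ^ k) : IsPPart p y y :=
  ⟨1, mul_one y, Commute.one_right y, hy, by
    rw [orderOf_one]; exact fun h => hp.one_lt.ne' (Nat.dvd_one.1 h)⟩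

open scoped Classical in
/-- Block orthogonality for the principal block in Finset form. -/
theorem sum_principal_eq_zero [Fact p.Prime] (hM : IsPModular p M) (y h v : G)
    (hy : ∃ k : ℕ, orderOf y = p ^ k) (hv : IsPPart p h v) (hnc : ¬ IsConj y v) :
    ∑ χ ∈ Finset.univ.filter (fun χ : IrrCharacter G => χ ∈ principalBlock M G),
      (χ : G → ℂ) y * (χ : G → ℂ) h⁻¹ = 0 := by
  have hp : p.Prime := hM.1
  have h0 := (Cfsg.Agent.S0925.result p M hM).2 y h y v (isPPart_self hp y hy) hv hnc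
    (principalBlock M G) (isPBlock_principalBlock M)
  rw [finsum_mem_eq_finite_toFinset_sum _ (Set.toFinite _)] at h0
  rw [← h0]
  refine Finset.sum_congr ?_ fun _ _ => rfl
  ext χ
  simp

/-- If an involution-conjugate `t₁` and `t` multiply to `z`, then `t` inverts the `p`-part of
`z⁻¹`; so an element conjugate to that `p`-part is inverted by a conjugate of `t`. -/
theorem exists_conj_invert (hp : p.Prime) (t : G) (ht : t * t = 1) (x : G) (v y : G)
    (hv : IsPPart p (x * t * x⁻¹ * t)⁻¹ v) (hc : IsConj y v) :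
    ∃ g : G, (g * t * g⁻¹) * y * (g * t * g⁻¹)⁻¹ = y⁻¹ := by
  have htinv : t⁻¹ = t := inv_eq_of_mul_eq_one_right ht
  set z := (x * t * x⁻¹ * t)⁻¹ with hz
  -- `t` inverts `z`
  have h1 : t * z * t⁻¹ = z⁻¹ := by
    have hz' : z = t * x * t * x⁻¹ := by
      rw [hz, mul_inv_rev, mul_inv_rev, mul_inv_rev, inv_inv, htinv]
      group
    have hzi : z⁻¹ = x * t * x⁻¹ * t := by rw [hz, inv_inv]
    rw [hzi, hz', htinv]
    calc t * (t * x * t * x⁻¹) * t = (t * t) * x * t * x⁻¹ * t := by group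
      _ = x * t * x⁻¹ * t := by rw [ht, one_mul]
  obtain ⟨k, hk⟩ := isPPart_eq_pow hp hv
  have h2 : t * v * t⁻¹ = v⁻¹ := by
    rw [hk, ← inv_pow, ← h1]
    simp [conj_pow]
  obtain ⟨c, hc⟩ := isConj_iff.1 hc
  -- `c * y * c⁻¹ = v`
  refine ⟨c⁻¹, ?_⟩
  have hy : y = c⁻¹ * v * c := by rw [← hc]; group
  rw [hy]
  have : c⁻¹ * t * c⁻¹⁻¹ * (c⁻¹ * v * c) * (c⁻¹ * t * c⁻¹⁻¹)⁻¹ = c⁻¹ * (t * v * t⁻¹) * c := by
    group
  rw [this, h2]
  group

open scoped Classical in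
/-- The three vanishing column sums at a `p`-element `y` not inverted by any conjugate of the
involution `t`. -/
theorem three_sums [Fact p.Prime] (hM : IsPModular p M) (t : G) (ht : t * t = 1)
    (ht1 : ∃ k : ℕ, orderOf t = p ^ k) (y : G) (hy : ∃ k : ℕ, orderOf y = p ^ k) (hy1 : y ≠ 1)
    (hinv : ∀ g : G, (g * t * g⁻¹) * y * (g * t * g⁻¹)⁻¹ ≠ y⁻¹) :
    (∑ χ ∈ Finset.univ.filter (fun χ : IrrCharacter G => χ ∈ principalBlock M G),
      (χ : G → ℂ) y * (χ : G → ℂ) 1 = 0) ∧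
    (∑ χ ∈ Finset.univ.filter (fun χ : IrrCharacter G => χ ∈ principalBlock M G),
      (χ : G → ℂ) y * (χ : G → ℂ) t = 0) ∧
    (∑ χ ∈ Finset.univ.filter (fun χ : IrrCharacter G => χ ∈ principalBlock M G),
      (χ : G → ℂ) y * ((χ : G → ℂ) t ^ 2 / (χ : G → ℂ) 1) = 0) := by
  have hp : p.Prime := hM.1
  have htinv : t⁻¹ = t := inv_eq_of_mul_eq_one_right ht
  refine ⟨?_, ?_, ?_⟩
  · have h := sum_principal_eq_zero hM y 1 1 hy
      (isPPart_self hp 1 ⟨0, by rw [orderOf_one, pow_zero]⟩)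
      (fun hc => hy1 (isConj_one_left.1 hc))
    simpa using h
  · have hnc : ¬ IsConj y t := by
      intro hc
      obtain ⟨c, hc⟩ := isConj_iff.1 hc
      have hyt : y = c⁻¹ * t * c := by rw [← hc]; group
      have hyy : y * y = 1 := by
        rw [hyt]
        calc c⁻¹ * t * c * (c⁻¹ * t * c) = c⁻¹ * (t * t) * c := by group
          _ = 1 := by rw [ht]; group
      have hyinv : y⁻¹ = y := inv_eq_of_mul_eq_one_right hyy
      apply hinv c⁻¹
      have : c⁻¹ * t * c⁻¹⁻¹ = y := by rw [hyt]; group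
      rw [this, hyinv, hyy, one_mul]
    have h := sum_principal_eq_zero hM y t t hy (isPPart_self hp t ht1) hnc
    rwa [htinv] at h
  · have hG : (Nat.card G : ℂ) ≠ 0 := by exact_mod_cast Nat.card_pos.ne'
    have h1 : ∀ χ : IrrCharacter G, (χ : G → ℂ) t ^ 2 / (χ : G → ℂ) 1 =
        (Nat.card G : ℂ)⁻¹ * ∑ x : G, (χ : G → ℂ) (x * t * x⁻¹ * t) := by
      intro χ
      rw [Cfsg.Agent.Helper80.irr_sum_conj_mul χ t t]
      field_simp
    simp_rw [h1]
    have h2 : ∀ χ : IrrCharacter G, (χ : G → ℂ) y *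
        ((Nat.card G : ℂ)⁻¹ * ∑ x : G, (χ : G → ℂ) (x * t * x⁻¹ * t)) =
        (Nat.card G : ℂ)⁻¹ * ∑ x : G, (χ : G → ℂ) y * (χ : G → ℂ) (x * t * x⁻¹ * t) := by
      intro χ
      rw [Finset.mul_sum, Finset.mul_sum, Finset.mul_sum]
      refine Finset.sum_congr rfl fun x _ => ?_
      ring
    simp_rw [h2]
    rw [← Finset.mul_sum, Finset.sum_comm]
    rw [Finset.sum_eq_zero, mul_zero]
    intro x _
    obtain ⟨v, hv⟩ := exists_isPPart hp ((x * t * x⁻¹ * t)⁻¹)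
    have hnc : ¬ IsConj y v := by
      intro hc
      obtain ⟨g, hg⟩ := exists_conj_invert hp t ht x v y hv hc
      exact hinv g hg
    have h := sum_principal_eq_zero hM y _ v hy hv hnc
    rwa [inv_inv] at h

/-- The sign argument: three linear relations with at most one positive coefficient force a
nontrivial index with `k = d`. -/
theorem exists_kernel_index {ι : Type*} (B : Finset ι) (m d k : ι → ℝ) (i₀ : ι) (hi₀ : i₀ ∈ B)
    (hd : ∀ i ∈ B, 0 < d i) (hd0 : d i₀ = 1) (hk0 : k i₀ = 1) (hm0 : m i₀ ≠ 0)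
    (R1 : ∑ i ∈ B, m i * d i = 0) (R2 : ∑ i ∈ B, m i * k i = 0)
    (R3 : ∑ i ∈ B, m i * (k i ^ 2 / d i) = 0)
    (huniq : ∀ i ∈ B, ∀ j ∈ B, 0 < m i → 0 < m j → i = j) :
    ∃ i ∈ B, i ≠ i₀ ∧ k i = d i := by
  classical
  -- a positive coefficient exists
  have hpos : ∃ j ∈ B, 0 < m j := by
    by_contra hno
    push Not at hno
    have hterm : ∀ i ∈ B, m i * d i ≤ 0 := fun i hi =>
      mul_nonpos_of_nonpos_of_nonneg (hno i hi) (hd i hi).le
    have := (Finset.sum_eq_zero_iff_of_nonpos hterm).1 R1 i₀ hi₀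
    rw [hd0, mul_one] at this
    exact hm0 this
  obtain ⟨j, hj, hmj⟩ := hpos
  have hneg : ∀ i ∈ B, i ≠ j → m i ≤ 0 := by
    intro i hi hij
    by_contra h
    push Not at h
    exact hij (huniq i hi j hj h hmj)
  -- the quadratic combination
  have hQ : ∑ i ∈ B, m i * ((k j * d i - d j * k i) ^ 2 / d i) = 0 := by
    have hexp : ∀ i ∈ B, m i * ((k j * d i - d j * k i) ^ 2 / d i) =
        k j ^ 2 * (m i * d i) - 2 * k j * d j * (m i * k i) +
          d j ^ 2 * (m i * (k i ^ 2 / d i)) := by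
      intro i hi
      have hdi : d i ≠ 0 := (hd i hi).ne'
      field_simp
      ring
    rw [Finset.sum_congr rfl hexp, Finset.sum_add_distrib, Finset.sum_sub_distrib,
      ← Finset.mul_sum, ← Finset.mul_sum, ← Finset.mul_sum, R1, R2, R3]
    ring
  have hterm : ∀ i ∈ B, m i * ((k j * d i - d j * k i) ^ 2 / d i) ≤ 0 := by
    intro i hi
    by_cases hij : i = j
    · subst hij
      have : k i * d i - d i * k i = 0 := by ring
      rw [this]
      simp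
    · exact mul_nonpos_of_nonpos_of_nonneg (hneg i hi hij)
        (div_nonneg (sq_nonneg _) (hd i hi).le)
  have hzero := (Finset.sum_eq_zero_iff_of_nonpos hterm).1 hQ
  by_cases hji : j = i₀
  · subst hji
    -- some other index has a negative coefficient
    have hex : ∃ i ∈ B, i ≠ j ∧ m i < 0 := by
      by_contra hno
      push Not at hno
      have hz : ∀ i ∈ B, i ≠ j → m i * d i = 0 := by
        intro i hi hij
        have h1 := hneg i hi hij
        have h2 := hno i hi hij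
        have : m i = 0 := le_antisymm h1 h2
        rw [this, zero_mul]
      rw [Finset.sum_eq_single_of_mem j hj hz] at R1
      have := mul_pos hmj (hd j hj)
      exact this.ne' R1
    obtain ⟨i, hi, hij, hmi⟩ := hex
    refine ⟨i, hi, hij, ?_⟩
    have h0 := hzero i hi
    rw [hk0, hd0, one_mul, one_mul] at h0
    have hdi := hd i hi
    have h1 : (d i - k i) ^ 2 / d i = 0 := by
      rcases mul_eq_zero.1 h0 with h | h
      · exact absurd h hmi.ne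
      · exact h
    have h2 : (d i - k i) ^ 2 = 0 := by
      rcases div_eq_zero_iff.1 h1 with h | h
      · exact h
      · exact absurd h hdi.ne'
    have h3 : d i - k i = 0 := by
      exact pow_eq_zero_iff (two_ne_zero) |>.1 h2
    linarith
  · refine ⟨j, hj, hji, ?_⟩
    have hm0' : m i₀ < 0 := lt_of_le_of_ne (hneg i₀ hi₀ (Ne.symm hji)) hm0
    have h0 := hzero i₀ hi₀
    rw [hd0, hk0, mul_one, mul_one, div_one] at h0
    have h2 : (k j - d j) ^ 2 = 0 := by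
      rcases mul_eq_zero.1 h0 with h | h
      · exact absurd h hm0'.ne
      · exact h
    have h3 : k j - d j = 0 := pow_eq_zero_iff (two_ne_zero) |>.1 h2
    linarith

open scoped Classical in
/-- A nontrivial character of the principal block with `t` in its kernel gives the normal
subgroup of the statement. -/
theorem exists_normal_of_kernel [Fact p.Prime] (hM : IsPModular p M) (t : G)
    (χ₁ : IrrCharacter G) (hχ₁ : χ₁ ∈ principalBlock M G) (hne : χ₁ ≠ trivIrr G)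
    (ht : (χ₁ : G → ℂ) t = (χ₁ : G → ℂ) 1) :
    ∃ K : Subgroup G, K.Normal ∧ K ≠ ⊤ ∧ pPrimeCore p G ≤ K ∧ t ∈ K := by
  haveI hpr := isPrime_of_isPModular hM
  have hp : p.Prime := hM.1
  refine ⟨Cfsg.Agent.Helper79.irrKer χ₁, inferInstance, ?_, ?_, ?_⟩
  · intro htop
    apply hne
    have h1 := Cfsg.Agent.S4611.eq_one_of_irrKer_eq_top χ₁ htop
    apply Subtype.ext
    funext g
    rw [h1, trivIrr_apply]
  · unfold pPrimeCore
    apply sSup_le
    rintro N ⟨hNn, hcop⟩ n hn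
    haveI := hNn
    rw [Cfsg.Agent.Helper79.mem_irrKer]
    have hpN : ¬ p ∣ Nat.card N := fun h =>
      hp.one_lt.ne' (Nat.Coprime.eq_one_of_dvd hcop.symm h)
    have h1 : SameBlock M ((trivIrr G : IrrCharacter G) : G → ℂ) (χ₁ : G → ℂ) := hχ₁
    exact ker_of_sameBlock_of_pprime (N := N) hM hpN (trivIrr G) χ₁ h1 (fun n => rfl) ⟨n, hn⟩
  · rw [Cfsg.Agent.Helper79.mem_irrKer]
    exact ht

/-- The inner products `a_χ` are integers. -/
theorem exists_int_coeff (P : Subgroup G) [Fintype ↥P] (θ : ↥P → ℂ) (hθ : IsGeneralizedCharacter ↥P θ)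
    (χ : IrrCharacter G) :
    ∃ n : ℤ, (Nat.card ↥P : ℂ)⁻¹ * ∑ y : ↥P, (χ : G → ℂ) (y : G) * θ y⁻¹ = (n : ℂ) := by
  classical
  have hres : IsGeneralizedCharacter ↥P (fun y : ↥P => (χ : G → ℂ) y) :=
    Cfsg.Agent.Helper82.isGeneralizedCharacter_of_isCharacter
      (isCharacter_restrict P (Cfsg.Agent.Helper78.IsIrrCharacter.isCharacter χ.2))
  obtain ⟨k, hk⟩ := Cfsg.Agent.Helper82.genChar_inner_int hres hθ
  refine ⟨k, ?_⟩
  have hconj : conj ((Nat.card ↥P : ℂ)⁻¹ * ∑ y : ↥P, (χ : G → ℂ) (y : G) * θ y⁻¹) =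
      classInner (fun y : ↥P => (χ : G → ℂ) y) θ := by
    unfold classInner
    rw [map_mul, map_inv₀, Complex.conj_natCast, map_sum]
    congr 1
    refine Fintype.sum_equiv (Equiv.inv ↥P) _ _ (fun y => ?_)
    rw [map_mul, ← Cfsg.Agent.Helper79.irr_inv]
    simp
  rw [hk] at hconj
  have := congrArg conj hconj
  rw [Complex.conj_conj] at this
  rw [this]
  simp

/-- The general form. -/
theorem aux (hM : IsPModular 2 M) (P : Subgroup G) (hP : IsPGroup 2 P) (U : Set G) (t : G)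
    (ht : orderOf t = 2)
    (hinv : ∀ u ∈ U, ∀ g : G, (g * t * g⁻¹) * u * (g * t * g⁻¹)⁻¹ ≠ u⁻¹) (θ : ↥P → ℂ)
    (hθ : IsGeneralizedCharacter ↥P θ) (hθU : ∀ y : ↥P, (y : G) ∉ U → θ y = 0) :
    (∑ᶠ χ ∈ principalBlock M G, ((Nat.card ↥P : ℂ)⁻¹ * ∑ᶠ y : ↥P, (χ : G → ℂ) (y : G) * θ y⁻¹) *
      (χ : G → ℂ) t ^ 2 / (χ : G → ℂ) 1 = 0) ∧
    (∑ᶠ χ ∈ principalBlock M G, ((Nat.card ↥P : ℂ)⁻¹ * ∑ᶠ y : ↥P, (χ : G → ℂ) (y : G) * θ y⁻¹) *
      (χ : G → ℂ) 1 = 0) ∧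
    (∑ᶠ χ ∈ principalBlock M G, ((Nat.card ↥P : ℂ)⁻¹ * ∑ᶠ y : ↥P, (χ : G → ℂ) (y : G) * θ y⁻¹) *
      (χ : G → ℂ) t = 0) ∧
    ((Nat.card ↥P : ℂ)⁻¹ * ∑ᶠ y : ↥P, θ y ≠ 0 →
      (2 ≤ Nat.card {χ : IrrCharacter G // χ ∈ principalBlock M G ∧
          0 < (((Nat.card ↥P : ℂ)⁻¹ * ∑ᶠ y : ↥P, (χ : G → ℂ) (y : G) * θ y⁻¹)).re} ∧
        2 ≤ Nat.card {χ : IrrCharacter G // χ ∈ principalBlock M G ∧
          (((Nat.card ↥P : ℂ)⁻¹ * ∑ᶠ y : ↥P, (χ : G → ℂ) (y : G) * θ y⁻¹)).re < 0}) ∨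
      ∃ K : Subgroup G, K.Normal ∧ K ≠ ⊤ ∧ pPrimeCore 2 G ≤ K ∧ t ∈ K) := by
  classical
  haveI : Fact (Nat.Prime 2) := ⟨Nat.prime_two⟩
  haveI hpr := isPrime_of_isPModular hM
  have htt : t * t = 1 := by
    have := pow_orderOf_eq_one t
    rwa [ht, pow_two] at this
  have ht1 : ∃ k : ℕ, orderOf t = 2 ^ k := ⟨1, by rw [ht, pow_one]⟩
  have hfilter : (Set.toFinite (principalBlock M G)).toFinset =
      Finset.univ.filter (fun χ : IrrCharacter G => χ ∈ principalBlock M G) := by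
    ext χ; simp
  have hin : ∀ f : ↥P → ℂ, ∑ᶠ y : ↥P, f y = ∑ y : ↥P, f y :=
    fun f => finsum_eq_sum_of_fintype f
  simp_rw [hin]
  -- the key vanishing
  have hkey : ∀ F : IrrCharacter G → ℂ,
      (∀ y : G, (∃ k : ℕ, orderOf y = 2 ^ k) → y ≠ 1 →
        (∀ g : G, (g * t * g⁻¹) * y * (g * t * g⁻¹)⁻¹ ≠ y⁻¹) →
        ∑ χ ∈ Finset.univ.filter (fun χ : IrrCharacter G => χ ∈ principalBlock M G),
          (χ : G → ℂ) y * F χ = 0) →
      ∑ χ ∈ Finset.univ.filter (fun χ : IrrCharacter G => χ ∈ principalBlock M G),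
        ((Nat.card ↥P : ℂ)⁻¹ * ∑ y : ↥P, (χ : G → ℂ) (y : G) * θ y⁻¹) * F χ = 0 := by
    intro F hF
    have h1 : ∀ χ : IrrCharacter G,
        ((Nat.card ↥P : ℂ)⁻¹ * ∑ y : ↥P, (χ : G → ℂ) (y : G) * θ y⁻¹) * F χ =
          (Nat.card ↥P : ℂ)⁻¹ * ∑ y : ↥P, θ y⁻¹ * ((χ : G → ℂ) (y : G) * F χ) := by
      intro χ
      rw [mul_assoc, Finset.sum_mul]
      congr 1
      refine Finset.sum_congr rfl fun y _ => ?_
      ring
    simp_rw [h1]
    rw [← Finset.mul_sum, Finset.sum_comm]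
    simp_rw [← Finset.mul_sum]
    rw [Finset.sum_eq_zero, mul_zero]
    intro y _
    by_cases hy : ((y⁻¹ : ↥P) : G) ∈ U
    · have hyord : ∃ k : ℕ, orderOf (y : G) = 2 ^ k := by
        obtain ⟨k, hk⟩ := (IsPGroup.iff_orderOf.1 hP) y
        exact ⟨k, by rw [Subgroup.orderOf_coe, hk]⟩
      have hcoe : ((y⁻¹ : ↥P) : G) = (y : G)⁻¹ := Subgroup.coe_inv P y
      rw [hcoe] at hy
      have hy1 : (y : G) ≠ 1 := by
        intro h
        rw [h, inv_one] at hy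
        apply hinv 1 hy 1
        simp
      have hinv' : ∀ g : G, (g * t * g⁻¹) * (y : G) * (g * t * g⁻¹)⁻¹ ≠ (y : G)⁻¹ := by
        intro g hg
        apply hinv _ hy g
        rw [inv_inv]
        have : g * t * g⁻¹ * (y : G)⁻¹ * (g * t * g⁻¹)⁻¹ =
            (g * t * g⁻¹ * (y : G) * (g * t * g⁻¹)⁻¹)⁻¹ := by group
        rw [this, hg, inv_inv]
      rw [hF (y : G) hyord hy1 hinv', mul_zero]
    · rw [hθU y⁻¹ hy, zero_mul]
  have hP2 : ∑ᶠ χ ∈ principalBlock M G,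
      ((Nat.card ↥P : ℂ)⁻¹ * ∑ y : ↥P, (χ : G → ℂ) (y : G) * θ y⁻¹) * (χ : G → ℂ) 1 = 0 := by
    rw [finsum_mem_eq_finite_toFinset_sum _ (Set.toFinite _), hfilter]
    exact hkey (fun χ => (χ : G → ℂ) 1)
      (fun y hy hy1 hi => (three_sums hM t htt ht1 y hy hy1 hi).1)
  have hP3 : ∑ᶠ χ ∈ principalBlock M G,
      ((Nat.card ↥P : ℂ)⁻¹ * ∑ y : ↥P, (χ : G → ℂ) (y : G) * θ y⁻¹) * (χ : G → ℂ) t = 0 := by
    rw [finsum_mem_eq_finite_toFinset_sum _ (Set.toFinite _), hfilter]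
    exact hkey (fun χ => (χ : G → ℂ) t)
      (fun y hy hy1 hi => (three_sums hM t htt ht1 y hy hy1 hi).2.1)
  have hP1 : ∑ᶠ χ ∈ principalBlock M G,
      ((Nat.card ↥P : ℂ)⁻¹ * ∑ y : ↥P, (χ : G → ℂ) (y : G) * θ y⁻¹) * (χ : G → ℂ) t ^ 2 /
        (χ : G → ℂ) 1 = 0 := by
    rw [finsum_mem_eq_finite_toFinset_sum _ (Set.toFinite _), hfilter]
    simp_rw [mul_div_assoc]
    exact hkey (fun χ => (χ : G → ℂ) t ^ 2 / (χ : G → ℂ) 1)
      (fun y hy hy1 hi => (three_sums hM t htt ht1 y hy hy1 hi).2.2)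
  refine ⟨hP1, hP2, hP3, ?_⟩
  intro ha1
  by_cases hK : ∃ χ₁ ∈ principalBlock M G, χ₁ ≠ trivIrr G ∧
      (χ₁ : G → ℂ) t = (χ₁ : G → ℂ) 1
  · obtain ⟨χ₁, h1, h2, h3⟩ := hK
    exact Or.inr (exists_normal_of_kernel hM t χ₁ h1 h2 h3)
  left
  set B := Finset.univ.filter (fun χ : IrrCharacter G => χ ∈ principalBlock M G) with hB
  have hmemB : ∀ χ : IrrCharacter G, χ ∈ B ↔ χ ∈ principalBlock M G := by
    intro χ; simp [hB]
  choose n hn using fun χ => exists_int_coeff P θ hθ χ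
  choose k hk using fun χ : IrrCharacter G => Cfsg.Agent.S0944.result χ t ht
  let d : IrrCharacter G → ℝ := fun χ => (charDegree (χ : G → ℂ) : ℝ)
  have hd1 : ∀ χ : IrrCharacter G, (χ : G → ℂ) 1 = ((d χ : ℝ) : ℂ) := fun χ => by
    rw [(Cfsg.Agent.Helper79.irr_one_eq χ).1]; simp [d]
  have hdpos : ∀ χ : IrrCharacter G, 0 < d χ := fun χ => by
    have := (Cfsg.Agent.Helper79.irr_one_eq χ).2
    simp only [d]
    exact_mod_cast this
  have hkt : ∀ χ : IrrCharacter G, (χ : G → ℂ) t = (((k χ : ℤ) : ℝ) : ℂ) := fun χ => by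
    rw [(hk χ).1]; simp
  have hnr : ∀ χ : IrrCharacter G,
      (Nat.card ↥P : ℂ)⁻¹ * ∑ y : ↥P, (χ : G → ℂ) (y : G) * θ y⁻¹ = (((n χ : ℤ) : ℝ) : ℂ) :=
    fun χ => by rw [hn χ]; simp
  have R1 : ∑ χ ∈ B, (n χ : ℝ) * d χ = 0 := by
    have h := hP2
    rw [finsum_mem_eq_finite_toFinset_sum _ (Set.toFinite _), hfilter] at h
    simp_rw [hnr, hd1] at h
    exact_mod_cast h
  have R2 : ∑ χ ∈ B, (n χ : ℝ) * (k χ : ℝ) = 0 := by
    have h := hP3
    rw [finsum_mem_eq_finite_toFinset_sum _ (Set.toFinite _), hfilter] at h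
    simp_rw [hnr, hkt] at h
    exact_mod_cast h
  have R3 : ∑ χ ∈ B, (n χ : ℝ) * ((k χ : ℝ) ^ 2 / d χ) = 0 := by
    have h := hP1
    rw [finsum_mem_eq_finite_toFinset_sum _ (Set.toFinite _), hfilter] at h
    simp_rw [hnr, hkt, hd1, mul_div_assoc] at h
    exact_mod_cast h
  have hi₀ : trivIrr G ∈ B := (hmemB _).2 (trivIrr_mem_principalBlock M)
  have hd0 : d (trivIrr G) = 1 := by
    have h := hd1 (trivIrr G)
    rw [trivIrr_apply] at h
    exact_mod_cast h.symm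
  have hk0 : ((k (trivIrr G) : ℤ) : ℝ) = 1 := by
    have h := hkt (trivIrr G)
    rw [trivIrr_apply] at h
    exact_mod_cast h.symm
  have hn0 : ((n (trivIrr G) : ℤ) : ℝ) ≠ 0 := by
    intro h0
    apply ha1
    have h := hnr (trivIrr G)
    rw [h0, Complex.ofReal_zero] at h
    rw [← h]
    congr 1
    refine (Fintype.sum_equiv (Equiv.inv ↥P) _ _ (fun y => ?_)).symm
    rw [trivIrr_apply, one_mul]
    simp
  -- the sign argument for either sign
  have hside : ∀ s : ℝ, s = 1 ∨ s = -1 →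
      ¬ (∀ i ∈ B, ∀ j ∈ B, 0 < s * (n i : ℝ) → 0 < s * (n j : ℝ) → i = j) := by
    intro s hs huniq
    have hs0 : s ≠ 0 := by rcases hs with rfl | rfl <;> norm_num
    obtain ⟨χ₁, h1, h2, h3⟩ := exists_kernel_index B (fun χ => s * (n χ : ℝ)) d
      (fun χ => (k χ : ℝ)) (trivIrr G) hi₀ (fun i _ => hdpos i) hd0 hk0
      (mul_ne_zero hs0 hn0)
      (by simp_rw [mul_assoc]; rw [← Finset.mul_sum, R1, mul_zero])
      (by simp_rw [mul_assoc]; rw [← Finset.mul_sum, R2, mul_zero])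
      (by simp_rw [mul_assoc]; rw [← Finset.mul_sum, R3, mul_zero])
      huniq
    apply hK
    refine ⟨χ₁, (hmemB _).1 h1, h2, ?_⟩
    rw [hkt, hd1]
    exact_mod_cast h3
  constructor
  · by_contra hlt
    push Not at hlt
    have hle : Nat.card {χ : IrrCharacter G // χ ∈ principalBlock M G ∧
        0 < (((Nat.card ↥P : ℂ)⁻¹ * ∑ y : ↥P, (χ : G → ℂ) (y : G) * θ y⁻¹)).re} ≤ 1 := by
      omega
    have hsub := Finite.card_le_one_iff_subsingleton.1 hle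
    apply hside 1 (Or.inl rfl)
    intro i hi j hj hmi hmj
    rw [one_mul] at hmi hmj
    have hi' : i ∈ principalBlock M G := (hmemB _).1 hi
    have hj' : j ∈ principalBlock M G := (hmemB _).1 hj
    have := hsub.elim ⟨i, hi', by rw [hnr i, Complex.ofReal_re]; exact hmi⟩
      ⟨j, hj', by rw [hnr j, Complex.ofReal_re]; exact hmj⟩
    exact congrArg Subtype.val this
  · by_contra hlt
    push Not at hlt
    have hle : Nat.card {χ : IrrCharacter G // χ ∈ principalBlock M G ∧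
        (((Nat.card ↥P : ℂ)⁻¹ * ∑ y : ↥P, (χ : G → ℂ) (y : G) * θ y⁻¹)).re < 0} ≤ 1 := by
      omega
    have hsub := Finite.card_le_one_iff_subsingleton.1 hle
    apply hside (-1) (Or.inr rfl)
    intro i hi j hj hmi hmj
    have hmi' : ((n i : ℤ) : ℝ) < 0 := by linarith
    have hmj' : ((n j : ℤ) : ℝ) < 0 := by linarith
    have hi' : i ∈ principalBlock M G := (hmemB _).1 hi
    have hj' : j ∈ principalBlock M G := (hmemB _).1 hj
    have := hsub.elim ⟨i, hi', by rw [hnr i, Complex.ofReal_re]; exact hmi'⟩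
      ⟨j, hj', by rw [hnr j, Complex.ofReal_re]; exact hmj'⟩
    exact congrArg Subtype.val this

end

/-- Let M be a maximal ideal of the algebraic integers containing 2, P a 2-subgroup of the finite group G, U a subset of P, and t an involution of G such that no element of U is inverted by any conjugate of t. Let θ be a generalized character of P vanishing outside U, and for χ in the principal 2-block B₀ put a_χ = #P⁻¹ Σ_{y ∈ P} χ(y) θ(y⁻¹). Then Σ_{χ ∈ B₀} a_χ χ(t)^2/χ(1) = 0, Σ_{χ ∈ B₀} a_χ χ(1) = 0 and Σ_{χ ∈ B₀} a_χ χ(t) = 0. If moreover #P⁻¹ Σ_{y ∈ P} θ(y) ≠ 0, then either at least two of the a_χ have positive real part and at least two have negative real part, or G has a proper normal subgroup containing O_2'(G) and t. -/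
theorem result {G : Type*} [Group G] [Finite G] (M : Ideal Cfsg.AlgInt) (hM : Cfsg.IsPModular 2 M) (P : Subgroup G) (hP : IsPGroup 2 P) (U : Set G) (hUP : U ⊆ (P : Set G)) (t : G) (ht : orderOf t = 2) (hinv : ∀ u ∈ U, ∀ g : G, (g * t * g⁻¹) * u * (g * t * g⁻¹)⁻¹ ≠ u⁻¹) (θ : ↥P → ℂ) (hθ : Cfsg.IsGeneralizedCharacter ↥P θ) (hθU : ∀ y : ↥P, (y : G) ∉ U → θ y = 0) : (∑ᶠ χ ∈ Cfsg.principalBlock M G, ((Nat.card ↥P : ℂ)⁻¹ * ∑ᶠ y : ↥P, (χ : G → ℂ) (y : G) * θ y⁻¹) * (χ : G → ℂ) t ^ 2 / (χ : G → ℂ) 1 = 0) ∧ (∑ᶠ χ ∈ Cfsg.principalBlock M G, ((Nat.card ↥P : ℂ)⁻¹ * ∑ᶠ y : ↥P, (χ : G → ℂ) (y : G) * θ y⁻¹) * (χ : G → ℂ) 1 = 0) ∧ (∑ᶠ χ ∈ Cfsg.principalBlock M G, ((Nat.card ↥P : ℂ)⁻¹ * ∑ᶠ y : ↥P, (χ : G → ℂ) (y : G) * θ y⁻¹) * (χ : G → ℂ) t = 0) ∧ ((Nat.card ↥P : ℂ)⁻¹ * ∑ᶠ y : ↥P, θ y ≠ 0 → (2 ≤ Nat.card {χ : Cfsg.IrrCharacter G // χ ∈ Cfsg.principalBlock M G ∧ 0 < (((Nat.card ↥P : ℂ)⁻¹ * ∑ᶠ y : ↥P, (χ : G → ℂ) (y :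 G) * θ y⁻¹)).re} ∧ 2 ≤ Nat.card {χ : Cfsg.IrrCharacter G // χ ∈ Cfsg.principalBlock M G ∧ (((Nat.card ↥P : ℂ)⁻¹ * ∑ᶠ y : ↥P, (χ : G → ℂ) (y : G) * θ y⁻¹)).re < 0}) ∨ ∃ K : Subgroup G, K.Normal ∧ K ≠ ⊤ ∧ Cfsg.pPrimeCore 2 G ≤ K ∧ t ∈ K) := by
  haveI : Fintype G := Fintype.ofFinite G
  exact aux hM P hP U t ht hinv θ hθ hθU

end Cfsg.Agent.S4722
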