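import Cfsg.Statements.S4723
import Cfsg.Agent.Lib.Helper75.StableHeightZero

set_option autoImplicit false
open Cfsg

namespace Cfsg.Agent.S4723

/-- Let p be a prime, M a maximal ideal of the algebraic integers containing p, H a normal subgroup of the finite group G and b a p-block of H. Let T be the stabilizer of b in G. Then b contains a character θ of height zero whose own stabilizer in G (the elements g with θ(g h g⁻¹) = θ(h) for all h ∈ H) has index prime to p in T, i.e. contains a Sylow p-subgroup of T. -/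
theorem result {G : Type*} [Group G] [Finite G] (p : ℕ) [Fact p.Prime] (M : Ideal Cfsg.AlgInt) (hM : Cfsg.IsPModular p M) (H : Subgroup G) [H.Normal] (b : Set (Cfsg.IrrCharacter ↥H)) (hb : Cfsg.IsPBlock M b) (T : Subgroup G) (hT : (∀ g : G, g ∈ T ↔ ∀ θ ∈ b, ∀ θ' : Cfsg.IrrCharacter ↥H, (∀ h h' : ↥H, (h' : G) = g * h * g⁻¹ → (θ' : ↥H → ℂ) h' = (θ : ↥H → ℂ) h) → θ' ∈ b)) : ∃ θ ∈ b, Cfsg.blockHeight p b (θ : ↥H → ℂ) = 0 ∧ ∃ S : Subgroup G, S ≤ T ∧ (∀ g : G, g ∈ S ↔ (g ∈ T ∧ ∀ h h' : ↥H, (h' : G) = g * h * g⁻¹ → (θ : ↥H → ℂ) h' = (θ : ↥H → ℂ) h)) ∧ ¬ p ∣ S.relIndex T := by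
  classical
  have hrel : ∀ (g : G) (θ θ' : Cfsg.IrrCharacter ↥H),
      (∀ h h' : ↥H, (h' : G) = g * h * g⁻¹ → (θ' : ↥H → ℂ) h' = (θ : ↥H → ℂ) h) ↔
        θ' = Cfsg.Agent.Helper16.conjIrr H g θ := by
    intro g θ θ'
    constructor
    · intro h
      apply Subtype.ext
      funext n
      rw [Cfsg.Agent.Helper16.conjIrr_apply]
      exact h ((MulAut.conjNormal g⁻¹ : MulAut ↥H) n) n (by simp [mul_assoc])
    · rintro rfl h h' hh'
      rw [Cfsg.Agent.Helper16.conjIrr_apply]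
      exact congrArg (θ : ↥H → ℂ) (Subtype.ext (by simp [hh', mul_assoc]))
  have hTmem : ∀ g : G, g ∈ T ↔ ∀ θ ∈ b, Cfsg.Agent.Helper16.conjIrr H g θ ∈ b := by
    intro g
    rw [hT]
    constructor
    · intro h θ hθ
      exact h θ hθ _ ((hrel g θ _).mpr rfl)
    · intro h θ hθ θ' hθ'
      rw [(hrel g θ θ').mp hθ']
      exact h θ hθ
  obtain ⟨P₁⟩ : Nonempty (Sylow p ↥T) := inferInstance
  set Q : Subgroup G := (P₁ : Subgroup ↥T).map T.subtype with hQ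
  have hQp : IsPGroup p ↥Q := P₁.isPGroup'.map T.subtype
  have hQT : Q ≤ T := by
    rw [hQ]
    exact Subgroup.map_subtype_le _
  obtain ⟨θ, hθb, hht, hfix⟩ := Cfsg.Agent.Helper75.SHZ.exists_fixed_height_zero H hM hb Q hQp
    (fun x hx θ hθ => (hTmem x).mp (hQT hx) θ hθ)
  refine ⟨θ, hθb, hht, ?_⟩
  let S : Subgroup G :=
    { carrier := {g | g ∈ T ∧ Cfsg.Agent.Helper16.conjIrr H g θ = θ}
      one_mem' := ⟨T.one_mem, Cfsg.Agent.Helper16.conjIrr_one H θ⟩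
      mul_mem' := by
        rintro x y ⟨hx, hx'⟩ ⟨hy, hy'⟩
        exact ⟨T.mul_mem hx hy, by rw [Cfsg.Agent.Helper16.conjIrr_mul, hy', hx']⟩
      inv_mem' := by
        rintro x ⟨hx, hx'⟩
        refine ⟨T.inv_mem hx, ?_⟩
        conv_lhs => rw [← hx']
        exact Cfsg.Agent.Helper16.conjIrr_inv_conjIrr H x θ }
  have hSmem : ∀ g : G, g ∈ S ↔ (g ∈ T ∧ Cfsg.Agent.Helper16.conjIrr H g θ = θ) := fun g => Iff.rfl
  refine ⟨S, fun g hg => ((hSmem g).mp hg).1, ?_, ?_⟩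
  · intro g
    rw [hSmem, hrel g θ θ]
    constructor
    · rintro ⟨h1, h2⟩
      exact ⟨h1, h2.symm⟩
    · rintro ⟨h1, h2⟩
      exact ⟨h1, h2.symm⟩
  · have h1 : (P₁ : Subgroup ↥T) ≤ S.subgroupOf T := by
      intro x hx
      rw [Subgroup.mem_subgroupOf, hSmem]
      have hxQ : (x : G) ∈ Q := ⟨x, hx, rfl⟩
      exact ⟨x.2, hfix _ hxQ⟩
    have h2 := Subgroup.index_dvd_of_le h1
    intro hdvd
    exact P₁.not_dvd_index (hdvd.trans h2)

end Cfsg.Agent.S4723
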