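import Cfsg.Statements.S4726
-- import your own Cfsg.Agent.* helpers here
import Cfsg.Agent.Lib.Helper76.InBlock3

set_option autoImplicit false
set_option linter.style.haveILetI false
open Cfsg

namespace Cfsg.Agent.S4726

/-- Let p be a prime, M a maximal ideal of the algebraic integers containing p, H a subgroup of the finite group G and b a p-block of H with defect group D₀ such that C_G(D₀) ≤ H. Then b induces a block of G, and for every block B of G induced by b there is a defect group D of B with Z(D) ≤ Z(D₀) ≤ D₀ ≤ D (as subgroups of G). In particular, if the defect groups of B are abelian then D₀ is a defect group of B. -/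
theorem result {G : Type*} [Group G] [Finite G] (p : ℕ) [Fact p.Prime] (M : Ideal Cfsg.AlgInt) (hM : Cfsg.IsPModular p M) (H : Subgroup G) (b : Set (Cfsg.IrrCharacter ↥H)) (hb : Cfsg.IsPBlock M b) (D₀ : Subgroup ↥H) (hD₀ : Cfsg.IsDefectGroup p M b D₀) (hC : Subgroup.centralizer ((D₀.map H.subtype : Subgroup G) : Set G) ≤ H) : Cfsg.InducedBlockDefined M H b ∧ ∀ B : Set (Cfsg.IrrCharacter G), Cfsg.IsInducedBlock M H b B → (∃ D : Subgroup G, Cfsg.IsDefectGroup p M B D ∧ (Subgroup.center ↥D).map D.subtype ≤ ((Subgroup.center ↥D₀).map D₀.subtype).map H.subtype ∧ ((Subgroup.center ↥D₀).map D₀.subtype).map H.subtype ≤ D₀.map H.subtype ∧ D₀.map H.subtype ≤ D) ∧ (∀ D : Subgroup G, Cfsg.IsDefectGroup p M B D → IsMulCommutative ↥D → Cfsg.IsDefectGroup p M B (D₀.map H.subtype)) := by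
  classical
  haveI : Fintype G := Fintype.ofFinite G
  haveI : Fintype H := Fintype.ofFinite _
  haveI hpr := Cfsg.Agent.Helper77.isPrime_of_isPModular hM
  obtain ⟨Q, hQ⟩ : ∃ Q : Subgroup G, Q = D₀.map H.subtype := ⟨_, rfl⟩
  rw [← hQ] at hC ⊢
  have hQH : Q ≤ H := by
    rw [hQ]
    exact Subgroup.map_subtype_le D₀
  have hQsub : Q.subgroupOf H = D₀ := by
    rw [hQ]
    exact Subgroup.comap_map_eq_self_of_injective (Subgroup.subtype_injective H) D₀
  have hK' : (Subgroup.centralizer (Q : Set G)).subgroupOf H =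
      Subgroup.centralizer (D₀ : Set ↥H) := by
    rw [Cfsg.Agent.Helper76.InBlock.centralizer_subgroupOf_eq Q H hQH, hQsub]
  have hQp : IsPGroup p Q := by
    rw [hQ]
    exact (Cfsg.Agent.Helper77.isPGroup_of_isDefectGroup hD₀).map _
  obtain ⟨β', hβ', hind', huniq⟩ := Cfsg.Agent.Helper76.InBlock.abs_defect hM hb hD₀ _ hK'
  haveI : Fintype (Subgroup.centralizer (Q : Set G)) := Fintype.ofFinite _
  obtain ⟨β, hβdef⟩ : ∃ β : Set (IrrCharacter (Subgroup.centralizer (Q : Set G))),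
      β = Cfsg.Agent.Helper77.mapSet (Subgroup.subgroupOfEquivOfLe hC) β' := ⟨_, rfl⟩
  have hdown : Cfsg.Agent.Helper77.downSet H _ hC β = β' := by
    rw [hβdef]
    exact Cfsg.Agent.Helper77.mapSet_symm_mapSet (Subgroup.subgroupOfEquivOfLe hC) β'
  have hβ : IsPBlock M β := by
    rw [hβdef]
    exact Cfsg.Agent.Helper77.isPBlock_mapSet _ hβ'
  have hind1 : IsInducedBlock M ((Subgroup.centralizer (Q : Set G)).subgroupOf H)
      (Cfsg.Agent.Helper77.downSet H _ hC β) b := by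
    rw [hdown]
    exact hind'
  obtain ⟨B₀, ⟨hB₀, hB₀1⟩, -⟩ :=
    Cfsg.Agent.Helper77.existsUnique_block_of_brauerPair hM Q hQp β hβ
  have hβB₀ : IsInducedBlock M (Subgroup.centralizer (Q : Set G)) β B₀ :=
    Cfsg.Agent.Helper76.InBlock.isInducedBlock_of_isBrauerPairOf_gen hM Q
      ⟨⟨hQp, hβ⟩, hB₀, hB₀1⟩
  have hbB₀ : IsInducedBlock M H b B₀ :=
    Cfsg.Agent.Helper76.InBlock.induced_trans H _ hC hind1 hβB₀
  refine ⟨⟨B₀, hbB₀⟩, ?_⟩
  intro B hB
  have hβB : IsInducedBlock M (Subgroup.centralizer (Q : Set G)) β B :=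
    Cfsg.Agent.Helper76.InBlock.induced_trans' H _ hC hind1 hB
  have hpair : IsBrauerPairOf p M B Q β :=
    Cfsg.Agent.Helper76.InBlock.isBrauerPairOf_of_isInducedBlock_gen hM Q hQp hβB
  obtain ⟨D, eD, hmax, hle⟩ :=
    Cfsg.Agent.Helper77.exists_maximal_above (p := p) (M := M) B _ Q β hpair rfl
  have hDD := Cfsg.Agent.Helper77.isDefectGroup_of_isMaximalBrauerPair hM hmax
  have hQD : Q ≤ D := Cfsg.Agent.Helper77.le_of_reflTransGen hle
  obtain ⟨Δ, hΔ, hΔge⟩ :=
    Cfsg.Agent.Helper77.exists_isDefectGroup_ge_centralizer hM hmax.1.1 hQD hβ hle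
  -- `Δ` is `Z(Q)`
  have hΔQ : ∀ x : Subgroup.centralizer (Q : Set G), x ∈ Δ → (x : G) ∈ Q := by
    intro x hx
    have h1 := Cfsg.Agent.Helper77.isDefectGroup_mapSet
      (Subgroup.subgroupOfEquivOfLe hC).symm hΔ
    have h2 : Cfsg.Agent.Helper77.mapSet (Subgroup.subgroupOfEquivOfLe hC).symm β = β' := by
      rw [hβdef]
      exact Cfsg.Agent.Helper77.mapSet_symm_mapSet (Subgroup.subgroupOfEquivOfLe hC) β'
    rw [h2] at h1
    have h3 := huniq _ h1
    have h4 : (Subgroup.subgroupOfEquivOfLe hC).symm x ∈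
        Δ.map (((Subgroup.subgroupOfEquivOfLe hC).symm :
          _ ≃* _) : _ →* _) := Subgroup.mem_map_of_mem _ hx
    rw [h3, Subgroup.mem_subgroupOf] at h4
    have h5 : (x : G) ∈ Subgroup.map H.subtype D₀ := ⟨_, h4, rfl⟩
    rw [← hQ] at h5
    exact h5
  have hDC : ∀ x ∈ D, x ∈ Subgroup.centralizer (Q : Set G) → x ∈ Q := by
    intro x hxD hxK
    exact hΔQ ⟨x, hxK⟩ (hΔge (Subgroup.mem_subgroupOf.mpr ⟨hxD, hxK⟩))
  refine ⟨⟨D, hDD, ?_, ?_, hQD⟩, ?_⟩
  · rintro _ ⟨⟨x, hxD⟩, hxc, rfl⟩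
    have hxc' := Subgroup.mem_center_iff.mp hxc
    have hxK : x ∈ Subgroup.centralizer (Q : Set G) := by
      rw [Subgroup.mem_centralizer_iff]
      intro q hq
      have := hxc' ⟨q, hQD hq⟩
      exact congrArg Subtype.val this
    have hxQ := hDC x hxD hxK
    rw [hQ] at hxQ
    obtain ⟨d, hd, hdx⟩ := hxQ
    refine ⟨d, ⟨⟨d, hd⟩, ?_, rfl⟩, hdx⟩
    rw [SetLike.mem_coe, Subgroup.mem_center_iff]
    intro d'
    apply Subtype.ext
    apply Subtype.ext
    have hd'Q : ((d' : ↥H) : G) ∈ Q := by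
      rw [hQ]
      exact ⟨_, d'.2, rfl⟩
    have := hxc' ⟨_, hQD hd'Q⟩
    have h5 := congrArg Subtype.val this
    simp only [Subgroup.coe_mul] at h5 ⊢
    rw [← hdx] at h5
    exact h5
  · rw [hQ]
    exact Subgroup.map_mono (Subgroup.map_subtype_le _)
  · intro D' hD' hD'ab
    obtain ⟨y, hy⟩ := Cfsg.Agent.Helper77.exists_conj_eq_of_isDefectGroup hM hB.2.1 hDD hD'
    have hDab : ∀ u ∈ D, ∀ v ∈ D, u * v = v * u := by
      intro u hu v hv
      rw [← hy] at hu hv
      obtain ⟨u', hu', rfl⟩ := hu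
      obtain ⟨v', hv', rfl⟩ := hv
      have h6 : u' * v' = v' * u' := by
        have := hD'ab.is_comm.comm (⟨u', hu'⟩ : ↥D') ⟨v', hv'⟩
        exact congrArg Subtype.val this
      show (MulAut.conj y) u' * (MulAut.conj y) v' = (MulAut.conj y) v' * (MulAut.conj y) u'
      rw [← map_mul, ← map_mul, h6]
    have hDQ : D ≤ Q := by
      intro x hxD
      apply hDC x hxD
      rw [Subgroup.mem_centralizer_iff]
      intro q hq
      exact hDab q (hQD hq) x hxD
    have hQeq : Q = D := le_antisymm hQD hDQ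
    rw [hQeq]
    exact hDD

end Cfsg.Agent.S4726
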