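import Cfsg.Statements.S4729
import Cfsg.Agent.Lib.Helper78.SmallDegCent

set_option autoImplicit false
open Cfsg

namespace Cfsg.Agent.S4729

/-- Let p be a prime, M a maximal ideal of the algebraic integers containing p, G a finite perfect group and P a Sylow p-subgroup. If the principal p-block of G contains a faithful irreducible character of degree less than 2p, then the centralizer of P is a p-group. -/
theorem result {G : Type*} [Group G] [Finite G] (p : ℕ) [Fact p.Prime] (M : Ideal Cfsg.AlgInt) (hM : Cfsg.IsPModular p M) (hperf : commutator G = ⊤) (P : Sylow p G) (χ : Cfsg.IrrCharacter G) (hχ : χ ∈ Cfsg.principalBlock M G) (hfaith : ∀ g : G, (χ : G → ℂ) g = (χ : G → ℂ) 1 → g = 1) (hdeg : Cfsg.charDegree (χ : G → ℂ) < 2 * p) : IsPGroup p ↥(Subgroup.centralizer ((P : Subgroup G) : Set G)) := by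
  classical
  have : Fintype G := Fintype.ofFinite G
  have hp : p.Prime := Fact.out
  -- every `p`-regular element of the centralizer is trivial
  have hreg : ∀ y : G, y ∈ Subgroup.centralizer ((P : Subgroup G) : Set G) → ¬ p ∣ orderOf y →
      y = 1 := by
    intro y hy hyp
    exact hfaith y (Cfsg.Agent.Helper78.eq_degree_of_principal_small_degree hM hperf P χ hχ hdeg
      y hy hyp)
  intro g
  obtain ⟨k, m, hm, hkm⟩ := Nat.exists_eq_pow_mul_and_not_dvd (orderOf_pos (g : G)).ne' p
    hp.ne_one
  refine ⟨k, ?_⟩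
  have h1 : orderOf ((g : G) ^ p ^ k) = m := by
    rw [orderOf_pow' (g : G) (pow_ne_zero k hp.ne_zero), hkm, Nat.gcd_eq_right (dvd_mul_right _ _),
      Nat.mul_div_cancel_left m (pow_pos hp.pos k)]
  have h2 := hreg ((g : G) ^ p ^ k) (Subgroup.pow_mem _ g.2 _) (by rw [h1]; exact hm)
  apply Subtype.ext
  rw [Subgroup.coe_pow, h2, Subgroup.coe_one]

end Cfsg.Agent.S4729
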