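import Cfsg.Statements.S4730
import Cfsg.Agent.S0142
import Cfsg.Agent.S0138
import Cfsg.Agent.Lib.Helper77.LocalRing
import Cfsg.Agent.Lib.Helper78.CharCount

set_option autoImplicit false
open Cfsg

namespace Cfsg.Agent.S4730

open Cfsg.Agent.Helper78 Cfsg.Agent.Helper77

/-- A faithful irreducible character of a group with trivial centre, of `p`-power degree,
vanishes at the nonidentity elements centralizing a Sylow `p`-subgroup that contains them. -/
theorem vanish_of_central_in_sylow {G : Type*} [Group G] [Finite G] (p : ℕ) [Fact p.Prime]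
    (hZ : Subgroup.center G = ⊥) (P : Sylow p G) (χ : Cfsg.IrrCharacter G)
    (hfaith : ∀ g : G, (χ : G → ℂ) g = (χ : G → ℂ) 1 → g = 1) (n : ℕ)
    (hdeg : Cfsg.charDegree (χ : G → ℂ) = p ^ n)
    (z : G) (hzP : ∀ x ∈ (P : Subgroup G), x * z = z * x) (hz1 : z ≠ 1) :
    (χ : G → ℂ) z = 0 := by
  have hpp : p.Prime := Fact.out
  obtain ⟨m, ρ, hρ, hχρ⟩ := χ.2
  have hd := irr_charDegree χ.2
  have hfin : Module.finrank ℂ (Fin m → ℂ) = p ^ n := by
    have h1 : ((Module.finrank ℂ (Fin m → ℂ) : ℕ) : ℂ) = (p ^ n : ℕ) := by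
      rw [← Representation.char_one ρ, hχρ, hd.1, hdeg]
    exact_mod_cast h1
  have hPle : (P : Subgroup G) ≤ Subgroup.centralizer ({z} : Set G) := by
    intro x hx
    rw [Subgroup.mem_centralizer_iff]
    intro u hu
    rw [Set.mem_singleton_iff] at hu
    subst hu
    exact (hzP x hx).symm
  have hcop : Nat.Coprime (Module.finrank ℂ (Fin m → ℂ))
      (Subgroup.centralizer ({z} : Set G)).index := by
    rw [hfin]
    apply Nat.Coprime.pow_left
    rw [Nat.Prime.coprime_iff_not_dvd hpp]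
    intro h
    exact P.not_dvd_index (h.trans (Subgroup.index_dvd_of_le hPle))
  have := hρ
  rcases Cfsg.Agent.S0142.result ρ z hcop with h0 | h0
  · rw [← hχρ]; exact h0
  · exfalso
    obtain ⟨ω, hω⟩ := (Cfsg.Agent.S0138.result ρ z).mp h0
    apply hz1
    have hzc : z ∈ Subgroup.center G := by
      rw [Subgroup.mem_center_iff]
      intro g
      have hcomm : ρ g * ρ z = ρ z * ρ g := by
        rw [hω]
        ext v
        simp
      have h1 : ρ (g * z * g⁻¹ * z⁻¹) = 1 := by
        calc ρ (g * z * g⁻¹ * z⁻¹) = ρ g * ρ z * ρ g⁻¹ * ρ z⁻¹ := by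
              rw [map_mul, map_mul, map_mul]
          _ = ρ z * (ρ g * ρ g⁻¹) * ρ z⁻¹ := by rw [hcomm, mul_assoc (ρ z)]
          _ = 1 := by
              rw [← map_mul ρ g, mul_inv_cancel, map_one, mul_one, ← map_mul, mul_inv_cancel,
                map_one]
      have h2 : (χ : G → ℂ) (g * z * g⁻¹ * z⁻¹) = (χ : G → ℂ) 1 := by
        rw [← hχρ]
        unfold Representation.character
        rw [h1, map_one ρ]
      have h3 := hfaith _ h2
      have h4 : g * z * g⁻¹ = z := mul_inv_eq_one.mp h3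
      calc g * z = (g * z * g⁻¹) * g := by group
        _ = z * g := by rw [h4]
    rw [hZ] at hzc
    exact Subgroup.mem_bot.mp hzc

/-- Every member of the block of `χ` has degree divisible by `|Z(P)|`. -/
theorem le_factorization_of_mem_block {G : Type*} [Group G] [Finite G] (p : ℕ) [Fact p.Prime]
    (M : Ideal Cfsg.AlgInt) (hM : Cfsg.IsPModular p M)
    (hZ : Subgroup.center G = ⊥) (P : Sylow p G) (b : ℕ)
    (hb : Nat.card (Subgroup.center ↥(P : Subgroup G)) = p ^ b)
    (χ : Cfsg.IrrCharacter G)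
    (hfaith : ∀ g : G, (χ : G → ℂ) g = (χ : G → ℂ) 1 → g = 1) (n : ℕ)
    (hdeg : Cfsg.charDegree (χ : G → ℂ) = p ^ n)
    (ψ : Cfsg.IrrCharacter G) (hψ : ψ ∈ Cfsg.blockOf M (χ : G → ℂ)) :
    b ≤ (Cfsg.charDegree (ψ : G → ℂ)).factorization p := by
  classical
  have hpp : p.Prime := Fact.out
  have hprime : M.IsPrime := isPrime_of_isPModular hM
  set Zp : Subgroup G := (Subgroup.center ↥(P : Subgroup G)).map (P : Subgroup G).subtype with hZp
  have hZpcard : Nat.card Zp = p ^ b := by
    rw [← hb]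
    exact Nat.card_congr (Subgroup.equivMapOfInjective _ _
      (Subgroup.subtype_injective _)).symm.toEquiv
  have hZpmem : ∀ z ∈ Zp, ∀ x ∈ (P : Subgroup G), x * z = z * x := by
    rintro _ ⟨z', hz', rfl⟩ x hx
    have := Subgroup.mem_center_iff.mp hz' ⟨x, hx⟩
    exact congrArg Subtype.val this
  have hZpP : ∀ z ∈ Zp, z ∈ (P : Subgroup G) := by
    rintro _ ⟨z', -, rfl⟩
    exact z'.2
  have : Fintype Zp := Fintype.ofFinite Zp
  have hdψ := irr_charDegree ψ.2
  set d := Cfsg.charDegree (ψ : G → ℂ) with hd_def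
  have hd0 : (d : ℂ) ≠ 0 := by
    have := hdψ.2
    exact_mod_cast this.ne'
  -- each nonidentity term lies in the local ideal
  have hterm : ∀ z : Zp, z ≠ 1 → MemLocalIdeal M ((ψ : G → ℂ) (z : G) / (ψ : G → ℂ) 1) := by
    intro z hz
    have hz1 : (z : G) ≠ 1 := fun h => hz (Subtype.ext h)
    have hχz := vanish_of_central_in_sylow p hZ P χ hfaith n hdeg (z : G) (hZpmem z z.2) hz1
    have hsb := hψ (z : G)
    unfold centralChar at hsb
    rw [hχz, mul_zero, zero_div, zero_sub] at hsb
    have hsb' := memLocalIdeal_neg hsb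
    rw [neg_neg] at hsb'
    set idx := (Subgroup.centralizer ({(z : G)} : Set G)).index with hidx
    have hPle : (P : Subgroup G) ≤ Subgroup.centralizer ({(z : G)} : Set G) := by
      intro x hx
      rw [Subgroup.mem_centralizer_iff]
      intro u hu
      rw [Set.mem_singleton_iff] at hu
      subst hu
      exact (hZpmem z z.2 x hx).symm
    have hndvd : ¬ p ∣ idx := by
      intro h
      exact P.not_dvd_index (h.trans (Subgroup.index_dvd_of_le hPle))
    have hidx_unit : ¬ MemLocalIdeal M (idx : ℂ) := by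
      rw [memLocalIdeal_natCast_iff hM]
      exact hndvd
    have hinv : MemLocalRing M ((idx : ℂ)⁻¹) :=
      memLocalRing_inv (memLocalRing_natCast idx) hidx_unit
    have hidx0 : (idx : ℂ) ≠ 0 := by
      intro h0
      apply hndvd
      have : idx = 0 := by exact_mod_cast h0
      rw [this]; exact dvd_zero p
    have := memLocalIdeal_mul_left hinv hsb'
    have e : (idx : ℂ)⁻¹ * ((idx : ℂ) * (ψ : G → ℂ) (z : G) / (ψ : G → ℂ) 1) =
        (ψ : G → ℂ) (z : G) / (ψ : G → ℂ) 1 := by
      field_simp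
    rw [e] at this
    exact this
  -- the sum over Zp
  obtain ⟨mψ, hmψ⟩ := IsCharacter.sum_subgroup (IsIrrCharacter.isCharacter ψ.2) Zp
  have hsum : ∑ z : Zp, (ψ : G → ℂ) (z : G) / (ψ : G → ℂ) 1 =
      1 + ∑ z ∈ Finset.univ.erase (1 : Zp), (ψ : G → ℂ) (z : G) / (ψ : G → ℂ) 1 := by
    rw [← Finset.add_sum_erase _ _ (Finset.mem_univ (1 : Zp))]
    congr 1
    rw [OneMemClass.coe_one, hdψ.1, div_self hd0]
  have hε : MemLocalIdeal M
      (∑ z ∈ Finset.univ.erase (1 : Zp), (ψ : G → ℂ) (z : G) / (ψ : G → ℂ) 1) := by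
    apply memLocalIdeal_sum
    intro z hz
    exact hterm z (Finset.ne_of_mem_erase hz)
  have hsum2 : ∑ z : Zp, (ψ : G → ℂ) (z : G) / (ψ : G → ℂ) 1 =
      ((p : ℂ) ^ b * (mψ : ℂ)) / (d : ℂ) := by
    rw [← Finset.sum_div, hmψ, hZpcard, hdψ.1]
    push_cast
    rfl
  by_contra hlt
  push Not at hlt
  set v := d.factorization p with hv
  have hdu : p ^ v * (ordCompl[p] d) = d := Nat.ordProj_mul_ordCompl_eq_self d p
  set u := ordCompl[p] d with hu
  have hup : ¬ p ∣ u := Nat.not_dvd_ordCompl hpp hdψ.2.ne'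
  have hu_unit : ¬ MemLocalIdeal M (u : ℂ) := by
    rw [memLocalIdeal_natCast_iff hM]; exact hup
  have hu0 : (u : ℂ) ≠ 0 := by
    intro h0
    apply hup
    have : u = 0 := by exact_mod_cast h0
    rw [this]; exact dvd_zero p
  have huinv : MemLocalRing M ((u : ℂ)⁻¹) := memLocalRing_inv (memLocalRing_natCast u) hu_unit
  have hpM : MemLocalIdeal M (p : ℂ) := (memLocalIdeal_natCast_iff hM p).mpr dvd_rfl
  have hval : ((p : ℂ) ^ b * (mψ : ℂ)) / (d : ℂ) =
      (p : ℂ) * ((p : ℂ) ^ (b - v - 1) * (mψ : ℂ) * (u : ℂ)⁻¹) := by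
    have hdc : (d : ℂ) = (p : ℂ) ^ v * (u : ℂ) := by
      rw [← hdu]; push_cast; rfl
    have hp0 : (p : ℂ) ≠ 0 := by exact_mod_cast hpp.ne_zero
    have hb' : b = v + (b - v - 1) + 1 := by omega
    rw [hdc]
    conv_lhs => rw [hb']
    field_simp
    ring
  have hmem : MemLocalIdeal M (((p : ℂ) ^ b * (mψ : ℂ)) / (d : ℂ)) := by
    rw [hval]
    apply memLocalIdeal_mul_right hpM
    apply memLocalRing_mul _ huinv
    apply memLocalRing_mul _ (memLocalRing_natCast mψ)
    apply memLocalRing_pow (memLocalRing_natCast p)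
  rw [← hsum2, hsum] at hmem
  have h1 := memLocalIdeal_sub hmem hε
  rw [add_sub_cancel_right] at h1
  exact not_memLocalIdeal_one h1

/-- Let p be a prime, M a maximal ideal of the algebraic integers containing p, and G a finite group with trivial centre, Sylow p-subgroup P of order p^a and centre Z(P) of order p^b. If χ is a faithful irreducible character of G whose degree is a power of p, then the p-block of χ has defect at most a − b; in particular, if P is abelian then χ lies in a block of defect zero. -/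
theorem result {G : Type*} [Group G] [Finite G] (p : ℕ) [Fact p.Prime] (M : Ideal Cfsg.AlgInt) (hM : Cfsg.IsPModular p M) (hZ : Subgroup.center G = ⊥) (P : Sylow p G) (a b : ℕ) (ha : Nat.card P = p ^ a) (hb : Nat.card (Subgroup.center ↥(P : Subgroup G)) = p ^ b) (χ : Cfsg.IrrCharacter G) (hfaith : ∀ g : G, (χ : G → ℂ) g = (χ : G → ℂ) 1 → g = 1) (n : ℕ) (hdeg : Cfsg.charDegree (χ : G → ℂ) = p ^ n) : Cfsg.blockDefect p (Cfsg.blockOf M (χ : G → ℂ)) ≤ a - b ∧ (IsMulCommutative ↥(P : Subgroup G) → Cfsg.blockDefect p (Cfsg.blockOf M (χ : G → ℂ)) = 0) := by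
  have hpp : p.Prime := Fact.out
  have hprime : M.IsPrime := isPrime_of_isPModular hM
  have hfac : (Nat.card G).factorization p = a := by
    have h1 := Sylow.card_eq_multiplicity P
    rw [ha] at h1
    exact (Nat.pow_right_injective hpp.two_le h1).symm
  have hχmem : χ ∈ Cfsg.blockOf M (χ : G → ℂ) := by
    intro g
    rw [sub_self]
    exact memLocalIdeal_zero hprime.ne_top
  have hmain : Cfsg.blockDefect p (Cfsg.blockOf M (χ : G → ℂ)) ≤ a - b := by
    unfold blockDefect
    rw [hfac]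
    have hne : ((fun ψ : IrrCharacter G => (charDegree (ψ : G → ℂ)).factorization p) ''
        Cfsg.blockOf M (χ : G → ℂ)).Nonempty := ⟨_, χ, hχmem, rfl⟩
    obtain ⟨ψ, hψ, hψeq⟩ := Nat.sInf_mem hne
    rw [← hψeq]
    have := le_factorization_of_mem_block p M hM hZ P b hb χ hfaith n hdeg ψ hψ
    simp only
    omega
  refine ⟨hmain, ?_⟩
  intro hcomm
  have hab : a = b := by
    have h1 : Subgroup.center ↥(P : Subgroup G) = ⊤ := by
      rw [eq_top_iff]
      intro x _
      rw [Subgroup.mem_center_iff]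
      intro y
      exact (isMulCommutative_iff.mp hcomm) y x
    rw [h1, Subgroup.card_top, ha] at hb
    exact Nat.pow_right_injective hpp.two_le hb
  rw [hab, Nat.sub_self] at hmain
  exact Nat.le_zero.mp hmain

end Cfsg.Agent.S4730
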