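import Cfsg.Statements.S4731
import Cfsg.Agent.Lib.Helper15.BlockPQ

set_option autoImplicit false
open Cfsg
open scoped ComplexConjugate

namespace Cfsg.Agent.S4731

/-- Let p ≠ q be primes, M_p and M_q maximal ideals of the algebraic integers containing p and q respectively, and G a finite group with no element of order pq; let q^b be the q-part of the order of G. For a p-block B_p (relative to M_p), a q-block B_q (relative to M_q) and a p-singular element y, the sum of χ(1)χ(y) over the irreducible characters χ lying in both B_p and B_q is q^b times an algebraic integer. -/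
theorem result {G : Type*} [Group G] [Finite G] (p q : ℕ) [Fact p.Prime] [Fact q.Prime] (hpq : p ≠ q) (Mp Mq : Ideal Cfsg.AlgInt) (hMp : Cfsg.IsPModular p Mp) (hMq : Cfsg.IsPModular q Mq) (hno : ∀ g : G, orderOf g ≠ p * q) (b : ℕ) (hb : (Nat.card G).factorization q = b) (Bp : Set (Cfsg.IrrCharacter G)) (hBp : Cfsg.IsPBlock Mp Bp) (Bq : Set (Cfsg.IrrCharacter G)) (hBq : Cfsg.IsPBlock Mq Bq) (y : G) (hy : p ∣ orderOf y) : ∃ ω : Cfsg.AlgInt, ∑ᶠ χ ∈ Bp ∩ Bq, (Cfsg.charDegree (χ : G → ℂ) : ℂ) * (χ : G → ℂ) y = (q : ℂ) ^ b * (ω : ℂ) := by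
  classical
  have : Fintype G := Fintype.ofFinite G
  obtain Q : Sylow q G := default
  set S := (Set.toFinite Bp).toFinset ∩ (Set.toFinite Bq).toFinset with hS
  have hvan : ∀ z : G, q ∣ orderOf z →
      ∑ χ ∈ S, conj ((χ : G → ℂ) y) * (χ : G → ℂ) z = 0 := fun z hz =>
    Cfsg.Agent.Helper15.inter_blocks_vanish hpq hMp hMq hno hBp hBq y hy z hz
  obtain ⟨ω, hω⟩ := Cfsg.Agent.Helper15.degree_of_vanishing_on_singular S
    (fun χ => conj ((χ : G → ℂ) y))
    (fun χ _ => Cfsg.Agent.Helper15.conj_mem_algInt (Cfsg.Agent.Helper79.irr_isIntegral χ y))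
    hvan Q
  have hQ : Nat.card (Q : Subgroup G) = q ^ b := by
    rw [← hb]
    exact Q.card_eq_multiplicity
  refine ⟨⟨conj (ω : ℂ), Cfsg.Agent.Helper15.conj_mem_algInt ω.2⟩, ?_⟩
  rw [finsum_mem_eq_finite_toFinset_sum _ (Set.toFinite (Bp ∩ Bq))]
  have hSeq : (Set.toFinite (Bp ∩ Bq)).toFinset = S := by
    ext χ
    simp [hS]
  rw [hSeq]
  have h1 := congrArg conj hω
  rw [map_sum, map_mul, Complex.conj_natCast, hQ] at h1
  push_cast at h1
  change _ = (q : ℂ) ^ b * conj (ω : ℂ)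
  rw [← h1]
  refine Finset.sum_congr rfl fun χ _ => ?_
  rw [map_mul, Complex.conj_conj, (Cfsg.Agent.Helper79.irr_one_eq χ).1, Complex.conj_natCast]
  ring
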