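import Cfsg.Statements.S4733
import Cfsg.Agent.Lib.Helper78.BlockRank
import Cfsg.Agent.S0914
import Cfsg.Agent.Lib.Helper79.Integrality

set_option autoImplicit false
open Cfsg

namespace Cfsg.Agent.S4733

section

open Cfsg.Agent.Helper77 Cfsg.Agent.Helper78

variable {G : Type*} [Group G] [Finite G]

omit [Finite G] in
/-- defect zero means every member has the full `p`-part in its degree -/
theorem blockDefect_eq_zero_iff (p : ℕ) [Fact p.Prime] (B : Set (IrrCharacter G)) (hne : B.Nonempty) :
    blockDefect p B = 0 ↔ ∀ χ ∈ B, (Nat.card G).factorization p ≤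
      (charDegree (χ : G → ℂ)).factorization p := by
  unfold blockDefect
  rw [Nat.sub_eq_zero_iff_le]
  constructor
  · intro h χ hχ
    exact le_trans h (Nat.sInf_le ⟨χ, hχ, rfl⟩)
  · intro h
    have hne' : ((fun χ : IrrCharacter G => (charDegree (χ : G → ℂ)).factorization p) '' B).Nonempty :=
      hne.image _
    obtain ⟨χ, hχ, hχe⟩ := Nat.sInf_mem hne'
    rw [← hχe]
    exact h χ hχ

/-- the full `p`-part in the degree means `p ∤ |G| / χ(1)` -/
theorem not_dvd_div_iff (p : ℕ) [Fact p.Prime] (χ : IrrCharacter G) :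
    ¬ p ∣ Nat.card G / charDegree (χ : G → ℂ) ↔
      (Nat.card G).factorization p ≤ (charDegree (χ : G → ℂ)).factorization p := by
  have hp : p.Prime := Fact.out
  have hdvd := Cfsg.Agent.Helper79.irr_degree_dvd_card χ
  have hpos : 0 < charDegree (χ : G → ℂ) := (irr_charDegree χ.2).2
  obtain ⟨m, hm⟩ := hdvd
  have hG0 : Nat.card G ≠ 0 := Nat.card_pos.ne'
  have hm0 : m ≠ 0 := by
    rintro rfl
    rw [mul_zero] at hm
    exact hG0 hm
  rw [hm, Nat.mul_div_cancel_left _ hpos, Nat.factorization_mul hpos.ne' hm0]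
  simp only [Finsupp.coe_add, Pi.add_apply]
  constructor
  · intro h
    have : m.factorization p = 0 := Nat.factorization_eq_zero_of_not_dvd h
    omega
  · intro h hd
    have : 0 < m.factorization p := hp.factorization_pos_of_dvd hm0 hd
    omega

end

/-- Let p be a prime, M a maximal ideal of the algebraic integers containing p, and B a p-block of the finite group G with k irreducible characters and p-regular rank l (the number of irreducible Brauer characters). Then l ≤ k, and the following are equivalent: B has defect 0; k = l = 1; k = l. -/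
theorem result {G : Type*} [Group G] [Finite G] (p : ℕ) [Fact p.Prime] (M : Ideal Cfsg.AlgInt) (hM : Cfsg.IsPModular p M) (B : Set (Cfsg.IrrCharacter G)) (hB : Cfsg.IsPBlock M B) : Cfsg.blockRank p B ≤ Nat.card B ∧ (Cfsg.blockDefect p B = 0 ↔ (Nat.card B = 1 ∧ Cfsg.blockRank p B = 1)) ∧ (Cfsg.blockDefect p B = 0 ↔ Nat.card B = Cfsg.blockRank p B) := by
  classical
  have := Fintype.ofFinite G
  have hprime := Cfsg.Agent.Helper77.isPrime_of_isPModular hM
  obtain ⟨χ₀, hχ₀⟩ := hB
  have hmem : χ₀ ∈ B := hχ₀ ▸ Cfsg.Agent.Helper77.mem_blockOf_self χ₀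
  have hne : B.Nonempty := ⟨χ₀, hmem⟩
  have hB' : Cfsg.IsPBlock M B := ⟨χ₀, hχ₀⟩
  have : Fintype B := (Set.toFinite B).fintype
  have hrank := Cfsg.Agent.Helper78.blockRank_eq_finrank_range p B
  have hcard : Nat.card B = Fintype.card B := Nat.card_eq_fintype_card
  -- defect zero gives a singleton block of rank one
  have hzero : Cfsg.blockDefect p B = 0 → Nat.card B = 1 ∧ Cfsg.blockRank p B = 1 := by
    intro h0
    have h1 := (blockDefect_eq_zero_iff p B hne).1 h0 χ₀ hmem
    have h2 := (Cfsg.Agent.S0914.result p M hM χ₀).1 ((not_dvd_div_iff p χ₀).2 h1)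
    have hBs : B = {χ₀} := hχ₀.trans h2
    constructor
    · rw [hBs]
      simp
    · unfold Cfsg.blockRank
      rw [hBs, Set.image_singleton]
      apply finrank_span_singleton
      intro hz
      have h3 := congrFun hz 1
      rw [Cfsg.Agent.Helper78.pRegularPart_one] at h3
      exact Cfsg.Agent.Helper78.irr_apply_one_ne_zero χ₀.2 h3
  refine ⟨?_, ⟨hzero, ?_⟩, ⟨?_, ?_⟩⟩
  · rw [hrank, hcard]
    exact finrank_range_le_card _
  · rintro ⟨h1, -⟩
    rw [blockDefect_eq_zero_iff p B hne]
    intro χ hχ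
    obtain ⟨a, ha⟩ := Nat.card_eq_one_iff_exists.1 h1
    have e1 : χ = χ₀ := by
      have := (ha ⟨χ, hχ⟩).trans (ha ⟨χ₀, hmem⟩).symm
      exact congrArg Subtype.val this
    have hBs : Cfsg.blockOf M (χ₀ : G → ℂ) = {χ₀} := by
      rw [← hχ₀]
      ext θ
      constructor
      · intro hθ
        have := (ha ⟨θ, hθ⟩).trans (ha ⟨χ₀, hmem⟩).symm
        exact congrArg Subtype.val this
      · rintro rfl
        exact hmem
    rw [e1]
    exact (not_dvd_div_iff p χ₀).1 ((Cfsg.Agent.S0914.result p M hM χ₀).2 hBs)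
  · intro h0
    obtain ⟨h1, h2⟩ := hzero h0
    rw [h1, h2]
  · intro heq
    rw [hrank, hcard] at heq
    have hli := linearIndependent_iff_card_eq_finrank_span.2 heq
    rw [blockDefect_eq_zero_iff p B hne]
    intro χ hχ
    have hv := Cfsg.Agent.Helper78.vanish_of_linearIndependent hM hB' hli χ hχ
    have hd := Cfsg.Agent.Helper78.pow_dvd_charDegree_of_vanish χ.2 hv
    have hp : p.Prime := Fact.out
    exact (hp.pow_dvd_iff_le_factorization
      (Cfsg.Agent.Helper78.irr_charDegree χ.2).2.ne').1 hd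

end Cfsg.Agent.S4733
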