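import Cfsg.Statements.S4735
import Cfsg.Agent.Lib.Helper78.PrincipalSum
import Cfsg.Agent.Lib.Helper78.PrincipalQuot

set_option autoImplicit false
open Cfsg

namespace Cfsg.Agent.S4735

/-- Let p be a prime, M a maximal ideal of the algebraic integers containing p, G a finite group, H = O_p'(G) and Ḡ = G/H. For x ∈ G write λ(G, x) for the sum of |χ(x)|^2 over the irreducible characters χ in the principal p-block of G. Then λ(G, x) is a positive integer, λ(G, x) = λ(Ḡ, x̄) where x̄ is the image of x, and λ(G, x) ≤ #C_Ḡ(x̄). Moreover λ(G, 1) = [G : H] if and only if the principal block is the only p-block of Ḡ. -/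
theorem result {G : Type*} [Group G] [Finite G] (p : ℕ) [Fact p.Prime] (M : Ideal Cfsg.AlgInt) (hM : Cfsg.IsPModular p M) (x : G) : (∃ n : ℕ, 0 < n ∧ ∑ᶠ χ ∈ Cfsg.principalBlock M G, Complex.normSq ((χ : G → ℂ) x) = n) ∧ ∑ᶠ χ ∈ Cfsg.principalBlock M G, Complex.normSq ((χ : G → ℂ) x) = ∑ᶠ ψ ∈ Cfsg.principalBlock M (G ⧸ Cfsg.pPrimeCore p G), Complex.normSq ((ψ : G ⧸ Cfsg.pPrimeCore p G → ℂ) (QuotientGroup.mk x)) ∧ ∑ᶠ χ ∈ Cfsg.principalBlock M G, Complex.normSq ((χ : G → ℂ) x) ≤ (Nat.card ↥(Subgroup.centralizer ({(QuotientGroup.mk x : G ⧸ Cfsg.pPrimeCore p G)} : Set (G ⧸ Cfsg.pPrimeCore p G))) : ℝ) ∧ ((∑ᶠ χ ∈ Cfsg.principalBlock M G, Cfsg.charDegree (χ : G → ℂ) ^ 2) = (Cfsg.pPrimeCore p G).index ↔ ∀ B : Set (Cfsg.IrrCharacter (G ⧸ Cfsg.pPrimeCore p G)), Cfsg.IsPBlock M B → B = Cfsg.principalBlock M (G ⧸ Cfsg.pPrimeCore p G)) := by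
  classical
  have := Fintype.ofFinite G
  have : Fintype (G ⧸ Cfsg.pPrimeCore p G) := Fintype.ofFinite _
  have hprime := Cfsg.Agent.Helper77.isPrime_of_isPModular hM
  have hpN : ¬ p ∣ Nat.card (Cfsg.pPrimeCore p G) := Cfsg.Agent.Helper78.not_dvd_card_pPrimeCore p
  have hbij := Cfsg.Agent.Helper78.inflate_bijOn_principalBlock p M hM (Cfsg.pPrimeCore p G) hpN
  -- (2)
  have h2 : ∑ᶠ χ ∈ Cfsg.principalBlock M G, Complex.normSq ((χ : G → ℂ) x) =
      ∑ᶠ ψ ∈ Cfsg.principalBlock M (G ⧸ Cfsg.pPrimeCore p G),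
        Complex.normSq ((ψ : G ⧸ Cfsg.pPrimeCore p G → ℂ) (QuotientGroup.mk x)) :=
    (finsum_mem_eq_of_bijOn (Cfsg.Agent.Helper79.inflate (Cfsg.pPrimeCore p G)) hbij
      (fun ψ _ => rfl)).symm
  refine ⟨?_, h2, ?_, ?_⟩
  · -- (1)
    obtain ⟨n, hn, h⟩ := Cfsg.Agent.Helper78.principal_sum_nat hM x
    refine ⟨n, hn, ?_⟩
    rw [finsum_mem_eq_finite_toFinset_sum _ (Set.toFinite (Cfsg.principalBlock M G))]
    apply Complex.ofReal_injective
    push_cast
    rw [← h]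
    refine Finset.sum_congr rfl fun χ _ => ?_
    rw [Complex.mul_conj]
  · -- (3)
    rw [h2, finsum_mem_eq_finite_toFinset_sum _
      (Set.toFinite (Cfsg.principalBlock M (G ⧸ Cfsg.pPrimeCore p G)))]
    have h3 : ∑ ψ : Cfsg.IrrCharacter (G ⧸ Cfsg.pPrimeCore p G),
        Complex.normSq ((ψ : G ⧸ Cfsg.pPrimeCore p G → ℂ) (QuotientGroup.mk x)) =
        (Nat.card ↥(Subgroup.centralizer ({(QuotientGroup.mk x : G ⧸ Cfsg.pPrimeCore p G)} :
          Set (G ⧸ Cfsg.pPrimeCore p G))) : ℝ) := by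
      have h4 := Cfsg.Agent.Helper78.sum_irr_mul_conj
        (QuotientGroup.mk x : G ⧸ Cfsg.pPrimeCore p G) (QuotientGroup.mk x)
      rw [if_pos (IsConj.refl _)] at h4
      apply Complex.ofReal_injective
      push_cast
      rw [← h4]
      refine Finset.sum_congr rfl fun χ _ => ?_
      rw [Complex.mul_conj]
    rw [← h3]
    exact Finset.sum_le_sum_of_subset_of_nonneg (Finset.subset_univ _)
      (fun ψ _ _ => Complex.normSq_nonneg _)
  · -- (4)
    have h5 : ∑ᶠ χ ∈ Cfsg.principalBlock M G, Cfsg.charDegree (χ : G → ℂ) ^ 2 =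
        ∑ᶠ ψ ∈ Cfsg.principalBlock M (G ⧸ Cfsg.pPrimeCore p G),
          Cfsg.charDegree (ψ : G ⧸ Cfsg.pPrimeCore p G → ℂ) ^ 2 :=
      (finsum_mem_eq_of_bijOn (Cfsg.Agent.Helper79.inflate (Cfsg.pPrimeCore p G)) hbij
        (fun ψ _ => by rw [Cfsg.Agent.Helper79.charDegree_inflate])).symm
    have h6 : (Cfsg.pPrimeCore p G).index =
        ∑ ψ : Cfsg.IrrCharacter (G ⧸ Cfsg.pPrimeCore p G),
          Cfsg.charDegree (ψ : G ⧸ Cfsg.pPrimeCore p G → ℂ) ^ 2 := by
      rw [Cfsg.Agent.Helper79.sum_sq_degree_nat, Subgroup.index_eq_card]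
    rw [h5, h6, finsum_mem_eq_finite_toFinset_sum _
      (Set.toFinite (Cfsg.principalBlock M (G ⧸ Cfsg.pPrimeCore p G)))]
    constructor
    · intro heq B hB
      have huniv : (Set.toFinite (Cfsg.principalBlock M (G ⧸ Cfsg.pPrimeCore p G))).toFinset =
          Finset.univ := by
        by_contra hne
        have hss : (Set.toFinite (Cfsg.principalBlock M (G ⧸ Cfsg.pPrimeCore p G))).toFinset ⊂
            Finset.univ := Finset.ssubset_univ_iff.2 hne
        obtain ⟨ψ, -, hψ⟩ := Finset.exists_of_ssubset hss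
        have hlt := Finset.sum_lt_sum_of_subset (f := fun ψ : Cfsg.IrrCharacter
          (G ⧸ Cfsg.pPrimeCore p G) => Cfsg.charDegree (ψ : G ⧸ Cfsg.pPrimeCore p G → ℂ) ^ 2)
          (Finset.subset_univ _) (Finset.mem_univ ψ) hψ
          (pow_pos (Cfsg.Agent.Helper79.irr_one_eq ψ).2 2) (fun _ _ _ => Nat.zero_le _)
        omega
      obtain ⟨ψ, hψ⟩ := Cfsg.Agent.Helper77.nonempty_of_isPBlock hB
      have hψ0 : ψ ∈ Cfsg.principalBlock M (G ⧸ Cfsg.pPrimeCore p G) := by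
        rw [← Set.Finite.mem_toFinset (Set.toFinite _), huniv]
        exact Finset.mem_univ _
      exact Cfsg.Agent.Helper77.eq_of_isPBlock_of_mem hB
        (Cfsg.Agent.Helper77.isPBlock_principalBlock M) hψ hψ0
    · intro hall
      have huniv : (Set.toFinite (Cfsg.principalBlock M (G ⧸ Cfsg.pPrimeCore p G))).toFinset =
          Finset.univ := by
        apply Finset.eq_univ_of_forall
        intro ψ
        rw [Set.Finite.mem_toFinset, ← hall _ (Cfsg.Agent.Helper77.isPBlock_blockOf ψ)]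
        exact Cfsg.Agent.Helper77.mem_blockOf_self ψ
      rw [huniv]

end Cfsg.Agent.S4735
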