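import Cfsg.Statements.S4737
import Cfsg.Agent.Lib.Helper74.DZThree2

set_option autoImplicit false
open Cfsg

namespace Cfsg.Agent.S4737

/-- Let G be a finite group of order divisible by 6. Then the number of irreducible characters of G whose degree has the same 2-part as the order of G (the characters of 2-defect zero, each forming a 2-block of defect zero on its own) is at least the number of conjugacy classes of elements of order 3 that normalize no nontrivial 2-subgroup of G. In particular G has a 2-block of defect zero as soon as some element of order 3 normalizes no nontrivial 2-subgroup. -/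
theorem result {G : Type*} [Group G] [Finite G] (h6 : 6 ∣ Nat.card G) : Nat.card {C : ConjClasses G // ∃ g ∈ C.carrier, orderOf g = 3 ∧ ∀ Q : Subgroup G, IsPGroup 2 ↥Q → g ∈ Subgroup.normalizer (Q : Set G) → Q = ⊥} ≤ Nat.card {χ : Cfsg.IrrCharacter G // (Cfsg.charDegree (χ : G → ℂ)).factorization 2 = (Nat.card G).factorization 2} := by
  classical
  haveI : Fintype G := Fintype.ofFinite G
  haveI : Fintype {C : ConjClasses G // ∃ g ∈ C.carrier, orderOf g = 3 ∧ ∀ Q : Subgroup G, IsPGroup 2 ↥Q → g ∈ Subgroup.normalizer (Q : Set G) → Q = ⊥} := Fintype.ofFinite _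
  choose x hx using (fun C : {C : ConjClasses G // ∃ g ∈ C.carrier, orderOf g = 3 ∧ ∀ Q : Subgroup G, IsPGroup 2 ↥Q → g ∈ Subgroup.normalizer (Q : Set G) → Q = ⊥} => C.2)
  have key := Cfsg.Agent.Helper74.DZ3.card_le_card_dz x
    (fun C => by rw [← (hx C).2.1]; exact pow_orderOf_eq_one _)
    (fun C => (hx C).2.2)
    (fun C C' h => by
      apply Subtype.ext
      have h1 := ConjClasses.mem_carrier_iff_mk_eq.1 (hx C).1
      have h2 := ConjClasses.mem_carrier_iff_mk_eq.1 (hx C').1
      rw [← h1, ← h2]
      exact ConjClasses.mk_eq_mk_iff_isConj.2 h)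
  rw [Nat.card_eq_fintype_card]
  exact key

end Cfsg.Agent.S4737
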