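import Cfsg.Statements.S4742
import Cfsg.Agent.Lib.Helper78.CharCount
import Cfsg.Agent.Lib.Helper79.Integrality

set_option autoImplicit false
open Cfsg

namespace Cfsg.Agent.S4742

open Cfsg.Agent.Helper78

/-- In a finite group where centralizers of nonidentity `p`-elements are `q'`-groups, the
centralizer of a nonidentity `q`-element has order prime to `p`. -/
theorem not_dvd_card_centralizer {G : Type*} [Group G] [Finite G] (p q : ℕ) [Fact p.Prime]
    [Fact q.Prime]
    (hC : ∀ g : G, g ≠ 1 → (∃ k : ℕ, orderOf g = p ^ k) →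
      ¬ q ∣ Nat.card ↥(Subgroup.centralizer ({g} : Set G)))
    (z : G) (hz : z ≠ 1) (hzq : ∃ k : ℕ, orderOf z = q ^ k) :
    ¬ p ∣ Nat.card ↥(Subgroup.centralizer ({z} : Set G)) := by
  intro hp
  obtain ⟨w, hw⟩ := exists_prime_orderOf_dvd_card' p hp
  have hw1 : (w : G) ≠ 1 := by
    intro h
    have : orderOf (w : G) = p := by rw [Subgroup.orderOf_coe]; exact hw
    rw [h, orderOf_one] at this
    exact (Fact.out : p.Prime).one_lt.ne this
  have hw2 : ∃ k : ℕ, orderOf (w : G) = p ^ k := ⟨1, by rw [Subgroup.orderOf_coe, pow_one]; exact hw⟩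
  have h1 := hC w hw1 hw2
  apply h1
  -- z lies in the centralizer of w
  have hzw : z ∈ Subgroup.centralizer ({(w : G)} : Set G) := by
    rw [Subgroup.mem_centralizer_iff]
    intro x hx
    rw [Set.mem_singleton_iff] at hx
    subst hx
    have := w.2
    rw [Subgroup.mem_centralizer_iff] at this
    exact (this z (Set.mem_singleton z)).symm
  obtain ⟨k, hk⟩ := hzq
  have hk0 : k ≠ 0 := by
    intro h0
    rw [h0, pow_zero, orderOf_eq_one_iff] at hk
    exact hz hk
  have h2 : orderOf (⟨z, hzw⟩ : Subgroup.centralizer ({(w : G)} : Set G)) = q ^ k := by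
    rw [← Subgroup.orderOf_coe]
    exact hk
  have h3 := orderOf_dvd_natCard (⟨z, hzw⟩ : Subgroup.centralizer ({(w : G)} : Set G))
  rw [h2] at h3
  exact (dvd_pow_self q hk0).trans h3

/-- Let p ≠ q be primes dividing the order of the finite group G, and suppose the centralizer of every non-identity p-element of G has order prime to q. Then either G has an irreducible character of p-defect zero, or for every non-identity q-element z of G there are conjugates g, h of z such that g h⁻¹ is a non-identity p-element. -/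
theorem result {G : Type*} [Group G] [Finite G] (p q : ℕ) [Fact p.Prime] [Fact q.Prime] (hppq : p ≠ q) (hpG : p ∣ Nat.card G) (hqG : q ∣ Nat.card G) (hC : ∀ g : G, g ≠ 1 → (∃ k : ℕ, orderOf g = p ^ k) → ¬ q ∣ Nat.card ↥(Subgroup.centralizer ({g} : Set G))) : (∃ χ : Cfsg.IrrCharacter G, (Cfsg.charDegree (χ : G → ℂ)).factorization p = (Nat.card G).factorization p) ∨ ∀ z : G, z ≠ 1 → (∃ k : ℕ, orderOf z = q ^ k) → ∃ g h : G, IsConj z g ∧ IsConj z h ∧ g * h⁻¹ ≠ 1 ∧ ∃ k : ℕ, orderOf (g * h⁻¹) = p ^ k := by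
  classical
  have : Fintype G := Fintype.ofFinite G
  have hpp : p.Prime := Fact.out
  by_contra hcon
  rw [not_or] at hcon
  obtain ⟨hno, hz⟩ := hcon
  push Not at hno hz
  obtain ⟨z, hz1, hzq, hzc⟩ := hz
  obtain ⟨P⟩ : Nonempty (Sylow p G) := inferInstance
  have hPcard : Nat.card (P : Subgroup G) = p ^ (Nat.card G).factorization p :=
    Sylow.card_eq_multiplicity P
  have hK : 0 < Nat.card (Subgroup.centralizer ({z} : Set G)) := Nat.card_pos
  have hne : ∀ w ∈ (P : Subgroup G), w ≠ 1 → ∀ a b : G,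
      a * z * a⁻¹ * (b * z⁻¹ * b⁻¹) ≠ w := by
    intro w hw hw1 a b hab
    have h1 : a * z * a⁻¹ * (b * z * b⁻¹)⁻¹ = w := by
      rw [← hab]; group
    have h2 := hzc (a * z * a⁻¹) (b * z * b⁻¹) (isConj_iff.mpr ⟨a, rfl⟩) (isConj_iff.mpr ⟨b, rfl⟩)
      (by rw [h1]; exact hw1)
    obtain ⟨k, hk⟩ := (P.2 ⟨w, hw⟩ : ∃ k : ℕ, (⟨w, hw⟩ : (P : Subgroup G)) ^ p ^ k = 1)
    have hk' : w ^ p ^ k = 1 := by
      have := congrArg Subtype.val hk
      simpa using this
    obtain ⟨j, -, hj⟩ := (Nat.dvd_prime_pow hpp).mp (orderOf_dvd_of_pow_eq_one hk')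
    exact h2 j (by rw [h1]; exact hj)
  obtain ⟨χ, hχ⟩ := exists_irr_pow_dvd_of_count p (P : Subgroup G) _ hPcard z z⁻¹ _ hK hne
    (card_pairs_inv z)
  have hnd := not_dvd_card_centralizer p q hC z hz1 hzq
  have h0 : (Nat.card (Subgroup.centralizer ({z} : Set G))).factorization p = 0 :=
    Nat.factorization_eq_zero_of_not_dvd hnd
  rw [h0, Nat.sub_zero] at hχ
  apply hno χ
  have hd := irr_charDegree χ.2
  have hdvd := Cfsg.Agent.Helper79.irr_degree_dvd_card χ
  apply le_antisymm
  · exact (Nat.factorization_le_iff_dvd hd.2.ne' Nat.card_pos.ne').mpr hdvd p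
  · exact (hpp.pow_dvd_iff_le_factorization hd.2.ne').mp hχ

end Cfsg.Agent.S4742
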