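import Cfsg.Statements.S4744
import Cfsg.Agent.S4742
import Cfsg.Agent.Lib.Helper78.InvSylow

set_option autoImplicit false
open Cfsg

namespace Cfsg.Agent.S4744

open Cfsg.Agent.Helper78

/-- From the second alternative of S4742 (with `q = 2`): every Sylow `p`-subgroup is inverted
elementwise by a conjugate of any given involution. -/
theorem exists_conj_inverting_sylow {G : Type*} [Group G] [Finite G] (p : ℕ) [Fact p.Prime]
    (hC : ∀ g : G, g ≠ 1 → (∃ k : ℕ, orderOf g = p ^ k) →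
      Odd (Nat.card ↥(Subgroup.centralizer ({g} : Set G))))
    (h : ∀ z : G, z ≠ 1 → (∃ k : ℕ, orderOf z = 2 ^ k) → ∃ g h : G, IsConj z g ∧ IsConj z h ∧
      g * h⁻¹ ≠ 1 ∧ ∃ k : ℕ, orderOf (g * h⁻¹) = p ^ k)
    (z : G) (hz : orderOf z = 2) (P : Sylow p G) :
    ∃ s : G, IsConj z s ∧ s * s = 1 ∧ s ≠ 1 ∧ ∀ y ∈ P, s * y * s⁻¹ = y⁻¹ := by
  have hz1 : z ≠ 1 := by
    intro h0
    rw [h0, orderOf_one] at hz
    omega
  have hzz : z * z = 1 := by
    have := pow_orderOf_eq_one z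
    rwa [hz, pow_two] at this
  obtain ⟨g, h', hzg, hzh, hne, hk⟩ := h z hz1 ⟨1, by rw [hz, pow_one]⟩
  have hinvol : ∀ x : G, IsConj z x → x * x = 1 ∧ x ≠ 1 := by
    intro x hx
    obtain ⟨c, rfl⟩ := isConj_iff.mp hx
    constructor
    · calc c * z * c⁻¹ * (c * z * c⁻¹) = c * (z * z) * c⁻¹ := by group
        _ = 1 := by rw [hzz]; group
    · intro h0
      apply hz1
      calc z = c⁻¹ * (c * z * c⁻¹) * c := by group
        _ = 1 := by rw [h0]; group
  obtain ⟨hgg, hg1⟩ := hinvol g hzg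
  obtain ⟨hhh, -⟩ := hinvol h' hzh
  have hhinv : h'⁻¹ = h' := inv_eq_of_mul_eq_one_right hhh
  have hginv : g⁻¹ = g := inv_eq_of_mul_eq_one_right hgg
  have htw : g * (g * h'⁻¹) * g⁻¹ = (g * h'⁻¹)⁻¹ := by
    rw [hhinv, mul_inv_rev, hhinv, hginv]
    calc g * (g * h') * g = (g * g) * h' * g := by group
      _ = h' * g := by rw [hgg, one_mul]
  obtain ⟨P₁, hP₁⟩ := exists_inverted_sylow p hC (g * h'⁻¹) hne hk g hgg hg1 htw
  obtain ⟨c, hc⟩ := exists_conj_inverting p P₁ P g hP₁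
  refine ⟨c * g * c⁻¹, ?_, ?_, ?_, hc⟩
  · exact hzg.trans (isConj_iff.mpr ⟨c, rfl⟩)
  · exact (hinvol _ (hzg.trans (isConj_iff.mpr ⟨c, rfl⟩))).1
  · exact (hinvol _ (hzg.trans (isConj_iff.mpr ⟨c, rfl⟩))).2

/-- Let p be an odd prime and G a finite group of even order divisible by p in which the centralizer of every non-identity p-element has odd order. Then either G has an irreducible character of p-defect zero, or the normalizer of every Sylow p-subgroup P of G has even order and P is abelian. -/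
theorem result {G : Type*} [Group G] [Finite G] (p : ℕ) [Fact p.Prime] (hp2 : p ≠ 2) (hpG : p ∣ Nat.card G) (h2G : 2 ∣ Nat.card G) (hC : ∀ g : G, g ≠ 1 → (∃ k : ℕ, orderOf g = p ^ k) → Odd (Nat.card ↥(Subgroup.centralizer ({g} : Set G)))) : (∃ χ : Cfsg.IrrCharacter G, (Cfsg.charDegree (χ : G → ℂ)).factorization p = (Nat.card G).factorization p) ∨ ∀ P : Sylow p G, Even (Nat.card ↥(Subgroup.normalizer ((P : Subgroup G) : Set G))) ∧ IsMulCommutative ↥(P : Subgroup G) := by
  have : Fact (Nat.Prime 2) := ⟨Nat.prime_two⟩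
  have hC₂ : ∀ g : G, g ≠ 1 → (∃ k : ℕ, orderOf g = p ^ k) →
      ¬ 2 ∣ Nat.card ↥(Subgroup.centralizer ({g} : Set G)) := by
    intro g hg hk h2
    rw [← even_iff_two_dvd] at h2
    exact (Nat.not_even_iff_odd.mpr (hC g hg hk)) h2
  rcases Cfsg.Agent.S4742.result p 2 hp2 hpG h2G hC₂ with h | h
  · left; exact h
  · right
    intro P
    obtain ⟨z, hz⟩ := exists_prime_orderOf_dvd_card' 2 h2G
    obtain ⟨s, -, hss, hs1, hs⟩ := exists_conj_inverting_sylow p hC h z hz P
    refine ⟨?_, comm_of_inverted (P : Subgroup G) s hs⟩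
    have hsn : s ∈ Subgroup.normalizer ((P : Subgroup G) : Set G) := by
      apply mem_normalizer_of_conj_mem (P : Subgroup G) s hss
      intro y hy
      rw [hs y hy]
      exact (P : Subgroup G).inv_mem hy
    rw [even_iff_two_dvd]
    exact two_dvd_card_of_involution_mem _ s hsn hss hs1

end Cfsg.Agent.S4744
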