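import Cfsg.Statements.S4738
import Cfsg.Agent.S4744
import Cfsg.Agent.Lib.Helper79.Integrality

set_option autoImplicit false
open Cfsg

namespace Cfsg.Agent.S4738

open Cfsg.Agent.Helper78

theorem irr_nonempty {G : Type*} [Group G] [Finite G] : Nonempty (Cfsg.IrrCharacter G) := by
  classical
  have : Fintype G := Fintype.ofFinite G
  by_contra hemp
  rw [not_nonempty_iff] at hemp
  have h1 := sum_irr_one_mul (1 : G)
  rw [if_pos rfl, Finset.univ_eq_empty, Finset.sum_empty] at h1
  exact natCard_ne_zero_complex h1.symm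

/-- No element of order `2p` forces centralizers of nonidentity `p`-elements to have odd
order. -/
theorem odd_card_centralizer {G : Type*} [Group G] [Finite G] (p : ℕ) [hp : Fact p.Prime]
    (hp2 : p ≠ 2) (h2p : ∀ g : G, orderOf g ≠ 2 * p) (y : G) (hy1 : y ≠ 1)
    (hyp : ∃ k : ℕ, orderOf y = p ^ k) :
    Odd (Nat.card ↥(Subgroup.centralizer ({y} : Set G))) := by
  have : Fact (Nat.Prime 2) := ⟨Nat.prime_two⟩
  rw [← Nat.not_even_iff_odd, even_iff_two_dvd]
  intro h2
  obtain ⟨u, hu⟩ := exists_prime_orderOf_dvd_card' 2 h2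
  have hu' : orderOf (u : G) = 2 := by rw [Subgroup.orderOf_coe]; exact hu
  have hcomm : Commute (u : G) y := by
    have := u.2
    rw [Subgroup.mem_centralizer_iff] at this
    exact (this y (Set.mem_singleton y)).symm
  obtain ⟨k, hk⟩ := hyp
  have hk0 : k ≠ 0 := by
    intro h0
    rw [h0, pow_zero, orderOf_eq_one_iff] at hk
    exact hy1 hk
  obtain ⟨j, rfl⟩ : ∃ j, k = j + 1 := ⟨k - 1, by omega⟩
  have hy' : orderOf (y ^ p ^ j) = p := by
    rw [orderOf_pow' y (pow_pos hp.out.pos j).ne', hk, pow_succ,
      Nat.gcd_eq_right (Dvd.intro _ rfl), Nat.mul_div_cancel_left _ (pow_pos hp.out.pos j)]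
  have hcomm' : Commute (u : G) (y ^ p ^ j) := hcomm.pow_right _
  have hcop : Nat.Coprime (orderOf (u : G)) (orderOf (y ^ p ^ j)) := by
    rw [hu', hy']
    exact (Nat.coprime_primes Nat.prime_two hp.out).mpr (Ne.symm hp2)
  have := hcomm'.orderOf_mul_eq_mul_orderOf_of_coprime hcop
  rw [hu', hy'] at this
  exact h2p _ this

/-- Let p be an odd prime and G a finite group of even order containing no element of order 2p. Then either G has an irreducible character of p-defect zero (its degree has the same p-part as the order of G), or every Sylow p-subgroup of G is abelian and all involutions of G are conjugate. -/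
theorem result {G : Type*} [Group G] [Finite G] (p : ℕ) [Fact p.Prime] (hp2 : p ≠ 2) (hG : Even (Nat.card G)) (h2p : ∀ g : G, orderOf g ≠ 2 * p) : (∃ χ : Cfsg.IrrCharacter G, (Cfsg.charDegree (χ : G → ℂ)).factorization p = (Nat.card G).factorization p) ∨ ((∀ P : Sylow p G, IsMulCommutative ↥(P : Subgroup G)) ∧ ∀ s t : G, orderOf s = 2 → orderOf t = 2 → IsConj s t) := by
  have hpp : p.Prime := Fact.out
  have : Fact (Nat.Prime 2) := ⟨Nat.prime_two⟩
  by_cases hpG : p ∣ Nat.card G
  · have hC := odd_card_centralizer p hp2 h2p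
    have h2G : 2 ∣ Nat.card G := even_iff_two_dvd.mp hG
    have hC₂ : ∀ g : G, g ≠ 1 → (∃ k : ℕ, orderOf g = p ^ k) →
        ¬ 2 ∣ Nat.card ↥(Subgroup.centralizer ({g} : Set G)) := by
      intro g hg hk h2
      rw [← even_iff_two_dvd] at h2
      exact (Nat.not_even_iff_odd.mpr (hC g hg hk)) h2
    rcases Cfsg.Agent.S4742.result p 2 hp2 hpG h2G hC₂ with h | h
    · left; exact h
    · right
      constructor
      · intro P
        obtain ⟨z, hz⟩ := exists_prime_orderOf_dvd_card' 2 h2G
        obtain ⟨s, -, -, -, hs⟩ := Cfsg.Agent.S4744.exists_conj_inverting_sylow p hC h z hz P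
        exact comm_of_inverted (P : Subgroup G) s hs
      · intro s t hs ht
        obtain ⟨P⟩ : Nonempty (Sylow p G) := inferInstance
        obtain ⟨s', hss', hs's', -, hs'⟩ :=
          Cfsg.Agent.S4744.exists_conj_inverting_sylow p hC h s hs P
        obtain ⟨t', htt', ht't', -, ht'⟩ :=
          Cfsg.Agent.S4744.exists_conj_inverting_sylow p hC h t ht P
        have hPne : (P : Subgroup G) ≠ ⊥ := P.ne_bot_of_dvd_card hpG
        obtain ⟨y, hyP, hy1⟩ : ∃ y : G, y ∈ (P : Subgroup G) ∧ y ≠ 1 := by
          obtain ⟨y0, hy0⟩ := Subgroup.ne_bot_iff_exists_ne_one.mp hPne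
          exact ⟨(y0 : G), y0.2, fun h0 => hy0 (Subtype.ext h0)⟩
        have hyp := orderOf_pow_of_mem_pGroup p _ P.2 y hyP
        have hodd := hC y hy1 hyp
        have hmem : s' * t' ∈ Subgroup.centralizer ({y} : Set G) := by
          rw [Subgroup.mem_centralizer_iff]
          intro x hx
          rw [Set.mem_singleton_iff] at hx
          subst hx
          have h1 := ht' x hyP
          have h2 := hs' x⁻¹ ((P : Subgroup G).inv_mem hyP)
          rw [inv_inv] at h2
          have h3 : (s' * t') * x * (s' * t')⁻¹ = x := by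
            calc (s' * t') * x * (s' * t')⁻¹ = s' * (t' * x * t'⁻¹) * s'⁻¹ := by group
              _ = s' * x⁻¹ * s'⁻¹ := by rw [h1]
              _ = x := h2
          calc x * (s' * t') = ((s' * t') * x * (s' * t')⁻¹) * (s' * t') := by rw [h3]
            _ = s' * t' * x := by group
        have hoddord : Odd (orderOf (s' * t')) := by
          have h1 : orderOf (⟨s' * t', hmem⟩ : Subgroup.centralizer ({y} : Set G)) ∣
              Nat.card (Subgroup.centralizer ({y} : Set G)) := orderOf_dvd_natCard _
          rw [← Subgroup.orderOf_coe] at h1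
          exact hodd.of_dvd_nat h1
        have hconj := isConj_of_odd_orderOf_mul s' t' hs's' ht't' hoddord
        exact (hss'.trans hconj).trans htt'.symm
  · left
    obtain ⟨χ⟩ := irr_nonempty (G := G)
    refine ⟨χ, ?_⟩
    have hdvd := Cfsg.Agent.Helper79.irr_degree_dvd_card χ
    have h1 : ¬ p ∣ charDegree (χ : G → ℂ) := fun h => hpG (h.trans hdvd)
    rw [Nat.factorization_eq_zero_of_not_dvd h1, Nat.factorization_eq_zero_of_not_dvd hpG]

end Cfsg.Agent.S4738
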