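import Cfsg.Statements.S4740
import Cfsg.Agent.Lib.Helper78.CharCount

set_option autoImplicit false
open Cfsg

namespace Cfsg.Agent.S4740

open Cfsg.Agent.Helper78

/-- Let p be an odd prime, G a finite group of even order, x an involution of G and P a subgroup of G of order p ^ c such that no conjugate of x inverts a non-identity element of P. If p ^ a is the p-part of the order of C_G(x), then some irreducible character of G has degree divisible by p ^ (c - a). -/
theorem result {G : Type*} [Group G] [Finite G] (p : ℕ) [Fact p.Prime] (hp2 : p ≠ 2) (hG : Even (Nat.card G)) (x : G) (hx : orderOf x = 2) (P : Subgroup G) (c : ℕ) (hP : Nat.card ↥P = p ^ c) (hinv : ∀ g : G, IsConj x g → ∀ z ∈ P, z ≠ 1 → g * z * g⁻¹ ≠ z⁻¹) (a : ℕ) (ha : (Nat.card ↥(Subgroup.centralizer ({x} : Set G))).factorization p = a) : ∃ χ : Cfsg.IrrCharacter G, p ^ (c - a) ∣ Cfsg.charDegree (χ : G → ℂ) := by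
  classical
  have : Fintype G := Fintype.ofFinite G
  have hxx : x * x = 1 := by
    have := pow_orderOf_eq_one x
    rw [hx, pow_two] at this
    exact this
  have hxinv : x⁻¹ = x := inv_eq_of_mul_eq_one_right hxx
  have hK : 0 < Nat.card (Subgroup.centralizer ({x} : Set G)) := Nat.card_pos
  have hne : ∀ w ∈ P, w ≠ 1 → ∀ a b : G, a * x * a⁻¹ * (b * x⁻¹ * b⁻¹) ≠ w := by
    intro w hw hw1 a b hab
    rw [hxinv] at hab
    apply hinv (a * x * a⁻¹) (isConj_iff.mpr ⟨a, rfl⟩) w hw hw1
    rw [← hab]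
    have key : ∀ u v : G, u * u = 1 → v * v = 1 → u * (u * v) * u⁻¹ = (u * v)⁻¹ := by
      intro u v hu hv
      have e3 : u⁻¹ = u := inv_eq_of_mul_eq_one_right hu
      have e4 : v⁻¹ = v := inv_eq_of_mul_eq_one_right hv
      rw [mul_inv_rev, e3, e4, ← mul_assoc, hu, one_mul]
    apply key
    · calc (a * x * a⁻¹) * (a * x * a⁻¹) = a * (x * x) * a⁻¹ := by group
        _ = 1 := by rw [hxx]; group
    · calc (b * x * b⁻¹) * (b * x * b⁻¹) = b * (x * x) * b⁻¹ := by group
        _ = 1 := by rw [hxx]; group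
  obtain ⟨χ, hχ⟩ := exists_irr_pow_dvd_of_count p P c hP x x⁻¹ _ hK hne (card_pairs_inv x)
  rw [ha] at hχ
  exact ⟨χ, hχ⟩

end Cfsg.Agent.S4740
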