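import Cfsg.Statements.S4743
import Cfsg.Agent.S4742
import Cfsg.Agent.Lib.Helper76.PSolvable
import Cfsg.Agent.Lib.Helper49.PPrimeCore
import Cfsg.Agent.Lib.Helper79.Inflation

set_option autoImplicit false
open Cfsg

namespace Cfsg.Agent.S4743

section

variable {G : Type*} [Group G] [Finite G]

/-- the centralizer hypothesis follows from the absence of elements of order divisible by `pq` -/
theorem hC_of_no_pq (p q : ℕ) [Fact p.Prime] [Fact q.Prime] (hpq : p ≠ q)
    (hno : ∀ y : G, ¬ p * q ∣ orderOf y) :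
    ∀ g : G, g ≠ 1 → (∃ k : ℕ, orderOf g = p ^ k) →
      ¬ q ∣ Nat.card (Subgroup.centralizer ({g} : Set G)) := by
  have hp : p.Prime := Fact.out
  have hq : q.Prime := Fact.out
  rintro g hg ⟨k, hk⟩ hqd
  obtain ⟨x, hx⟩ := exists_prime_orderOf_dvd_card' q hqd
  have hk1 : k ≠ 0 := by
    rintro rfl
    rw [pow_zero, orderOf_eq_one_iff] at hk
    exact hg hk
  have hu : orderOf (g ^ (p ^ (k - 1))) = p := by
    have h1 := orderOf_pow_orderOf_div (x := g) (n := p) (by rw [hk]; exact (pow_pos hp.pos k).ne')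
      (by rw [hk]; exact dvd_pow_self p hk1)
    rw [hk] at h1
    have e : p ^ k / p = p ^ (k - 1) := by
      obtain ⟨j, rfl⟩ := Nat.exists_eq_succ_of_ne_zero hk1
      rw [pow_succ, Nat.mul_div_cancel _ hp.pos]
      rfl
    rwa [e] at h1
  have hgx : g * (x : G) = (x : G) * g := Subgroup.mem_centralizer_iff.1 x.2 g rfl
  have hcomm : Commute (g ^ (p ^ (k - 1))) (x : G) := Commute.pow_left hgx _
  have hord : orderOf (g ^ (p ^ (k - 1)) * (x : G)) = p * q := by
    rw [hcomm.orderOf_mul_eq_mul_orderOf_of_coprime, hu, Subgroup.orderOf_coe, hx]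
    rw [hu, Subgroup.orderOf_coe, hx]
    exact (Nat.coprime_primes hp hq).2 hpq
  exact hno _ (by rw [hord])

/-- the centralizer hypothesis excludes elements of order divisible by `pq` -/
theorem no_pq_of_hC (p q : ℕ) [Fact p.Prime] [Fact q.Prime]
    (hC : ∀ g : G, g ≠ 1 → (∃ k : ℕ, orderOf g = p ^ k) →
      ¬ q ∣ Nat.card (Subgroup.centralizer ({g} : Set G)))
    (y : G) : ¬ p * q ∣ orderOf y := by
  have hp : p.Prime := Fact.out
  have hq : q.Prime := Fact.out
  intro hdvd
  have hn : orderOf y ≠ 0 := (orderOf_pos y).ne'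
  have hpd : p ∣ orderOf y := dvd_trans (dvd_mul_right p q) hdvd
  have hqd : q ∣ orderOf y := dvd_trans (dvd_mul_left q p) hdvd
  have hu : orderOf (y ^ (orderOf y / p)) = p := orderOf_pow_orderOf_div hn hpd
  have hv : orderOf (y ^ (orderOf y / q)) = q := orderOf_pow_orderOf_div hn hqd
  have hu1 : y ^ (orderOf y / p) ≠ 1 := by
    intro h
    rw [h, orderOf_one] at hu
    exact hp.one_lt.ne hu
  apply hC (y ^ (orderOf y / p)) hu1 ⟨1, by rw [pow_one]; exact hu⟩
  have hvmem : y ^ (orderOf y / q) ∈ Subgroup.centralizer ({y ^ (orderOf y / p)} : Set G) := by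
    rw [Subgroup.mem_centralizer_iff]
    intro z hz
    rw [Set.mem_singleton_iff] at hz
    subst hz
    exact (Commute.pow_pow_self y _ _).eq
  have h1 : orderOf (⟨y ^ (orderOf y / q), hvmem⟩ :
      Subgroup.centralizer ({y ^ (orderOf y / p)} : Set G)) ∣ _ := orderOf_dvd_natCard _
  rwa [Subgroup.orderOf_mk, hv] at h1

omit [Finite G] in
/-- the hypothesis passes to quotients -/
theorem no_pq_quotient (p q : ℕ) (K : Subgroup G) [K.Normal]
    (hno : ∀ y : G, ¬ p * q ∣ orderOf y) (y : G ⧸ K) : ¬ p * q ∣ orderOf y := by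
  obtain ⟨x, rfl⟩ := QuotientGroup.mk_surjective y
  intro h
  exact hno x (dvd_trans h (orderOf_map_dvd (QuotientGroup.mk' K) x))

theorem main (p q : ℕ) [Fact p.Prime] [Fact q.Prime] (hpq : p ≠ q) (hpG : p ∣ Nat.card G)
    (hqG : q ∣ Nat.card G) (hno : ∀ y : G, ¬ p * q ∣ orderOf y) (hsolv : IsPSolvable p G) :
    (∃ χ : IrrCharacter G,
      (charDegree (χ : G → ℂ)).factorization p = (Nat.card G).factorization p) ∨
    (∃ χ : IrrCharacter G,
      (charDegree (χ : G → ℂ)).factorization q = (Nat.card G).factorization q) := by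
  classical
  have hp : p.Prime := Fact.out
  have hq : q.Prime := Fact.out
  have hKn : (pPrimeCore p G).Normal := Cfsg.Agent.Helper49.pPrimeCore_normal' p
  have hKp : (Nat.card (pPrimeCore p G)).Coprime p := Cfsg.Agent.Helper49.pPrimeCore_card_coprime p
  have hpK : ¬ p ∣ Nat.card (pPrimeCore p G) := fun h =>
    hp.one_lt.ne' (Nat.Coprime.eq_one_of_dvd hKp.symm h)
  by_cases hqK : q ∣ Nat.card (pPrimeCore p G)
  · left
    rcases Cfsg.Agent.S4742.result p q hpq hpG hqG (hC_of_no_pq p q hpq hno) with h | h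
    · exact h
    · exfalso
      obtain ⟨z, hz⟩ := exists_prime_orderOf_dvd_card' q hqK
      have hzq : orderOf (z : G) = q := by rw [Subgroup.orderOf_coe, hz]
      have hz1 : (z : G) ≠ 1 := by
        intro h1
        rw [h1, orderOf_one] at hzq
        exact hq.one_lt.ne hzq
      obtain ⟨g, h', hg, hh, hne, k, hk⟩ := h (z : G) hz1 ⟨1, by rw [pow_one]; exact hzq⟩
      have hgK : g ∈ pPrimeCore p G := by
        obtain ⟨c, hc⟩ := isConj_iff.1 hg
        rw [← hc]
        exact hKn.conj_mem _ z.2 c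
      have hhK : h' ∈ pPrimeCore p G := by
        obtain ⟨c, hc⟩ := isConj_iff.1 hh
        rw [← hc]
        exact hKn.conj_mem _ z.2 c
      have hmem : g * h'⁻¹ ∈ pPrimeCore p G := mul_mem hgK (inv_mem hhK)
      have hk1 : k ≠ 0 := by
        rintro rfl
        rw [pow_zero, orderOf_eq_one_iff] at hk
        exact hne hk
      apply hpK
      have h1 : orderOf (⟨g * h'⁻¹, hmem⟩ : pPrimeCore p G) ∣ Nat.card (pPrimeCore p G) :=
        orderOf_dvd_natCard _
      rw [Subgroup.orderOf_mk, hk] at h1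
      exact dvd_trans (dvd_pow_self p hk1) h1
  · right
    have hbar_solv := Cfsg.Agent.Helper76.IsPSolvable.quotient hsolv (pPrimeCore p G)
    have hcore : pPrimeCore p (G ⧸ pPrimeCore p G) = ⊥ :=
      Cfsg.Agent.Helper49.pPrimeCore_quotient_eq_bot p
    have hcard : Nat.card G = Nat.card (G ⧸ pPrimeCore p G) * Nat.card (pPrimeCore p G) :=
      Subgroup.card_eq_card_quotient_mul_card_subgroup _
    have hpbar : p ∣ Nat.card (G ⧸ pPrimeCore p G) := by
      rw [hcard] at hpG
      exact (hp.dvd_mul.1 hpG).resolve_right hpK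
    have hqbar : q ∣ Nat.card (G ⧸ pPrimeCore p G) := by
      rw [hcard] at hqG
      exact (hq.dvd_mul.1 hqG).resolve_right hqK
    have hnobar : ∀ y : G ⧸ pPrimeCore p G, ¬ q * p ∣ orderOf y := by
      intro y
      rw [mul_comm]
      exact no_pq_quotient p q _ hno y
    rcases Cfsg.Agent.S4742.result (G := G ⧸ pPrimeCore p G) q p hpq.symm hqbar hpbar
      (hC_of_no_pq q p hpq.symm hnobar) with h | h
    · obtain ⟨χ, hχ⟩ := h
      refine ⟨Cfsg.Agent.Helper79.inflate (pPrimeCore p G) χ, ?_⟩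
      have hdeg : charDegree (Cfsg.Agent.Helper79.inflate (pPrimeCore p G) χ : G → ℂ) =
          charDegree (χ : G ⧸ pPrimeCore p G → ℂ) := by
        unfold charDegree
        rw [Cfsg.Agent.Helper79.inflate_apply]
        rfl
      have hne1 : Nat.card (G ⧸ pPrimeCore p G) ≠ 0 := Nat.card_pos.ne'
      have hne2 : Nat.card (pPrimeCore p G) ≠ 0 := Nat.card_pos.ne'
      rw [hdeg, hχ, hcard, Nat.factorization_mul hne1 hne2, Finsupp.add_apply,
        Nat.factorization_eq_zero_of_not_dvd hqK, add_zero]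
    · exfalso
      have hlt : (⊥ : Subgroup (G ⧸ pPrimeCore p G)) < ⊤ := by
        rw [bot_lt_iff_ne_bot]
        intro h1
        have h2 : Nat.card (G ⧸ pPrimeCore p G) = 1 := by
          rw [← Subgroup.card_top, h1, Subgroup.card_bot]
        rw [h2] at hpbar
        exact hp.one_lt.ne' (Nat.dvd_one.1 hpbar)
      obtain ⟨L, hLn, hL, -, hLidx⟩ :=
        Cfsg.Agent.Helper76.IsPSolvable.exists_step hbar_solv ⊥ ⊤ hlt
      rw [Subgroup.relIndex_bot_left] at hLidx
      rcases hLidx with ⟨m, hm⟩ | hco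
      · obtain ⟨z, hzL, hz1⟩ := SetLike.exists_of_lt hL
        rw [Subgroup.mem_bot] at hz1
        have hzord : ∃ j : ℕ, orderOf z = p ^ j := by
          have h1 : orderOf (⟨z, hzL⟩ : L) ∣ Nat.card L := orderOf_dvd_natCard _
          rw [Subgroup.orderOf_mk, hm] at h1
          obtain ⟨j, -, hj⟩ := (Nat.dvd_prime_pow hp).1 h1
          exact ⟨j, hj⟩
        obtain ⟨j, hj⟩ := hzord
        obtain ⟨g, h', hg, hh, hne, k, hk⟩ := h z hz1 ⟨j, hj⟩
        have hgL : g ∈ L := by
          obtain ⟨c, hc⟩ := isConj_iff.1 hg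
          rw [← hc]
          exact hLn.conj_mem _ hzL c
        have hhL : h' ∈ L := by
          obtain ⟨c, hc⟩ := isConj_iff.1 hh
          rw [← hc]
          exact hLn.conj_mem _ hzL c
        have hmem : g * h'⁻¹ ∈ L := mul_mem hgL (inv_mem hhL)
        have hk1 : k ≠ 0 := by
          rintro rfl
          rw [pow_zero, orderOf_eq_one_iff] at hk
          exact hne hk
        have h1 : orderOf (⟨g * h'⁻¹, hmem⟩ : L) ∣ Nat.card L := orderOf_dvd_natCard _
        rw [Subgroup.orderOf_mk, hk, hm] at h1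
        have h2 : q ∣ p ^ m := dvd_trans (dvd_pow_self q hk1) h1
        have h3 : q ∣ p := hq.dvd_of_dvd_pow h2
        exact hpq ((Nat.prime_dvd_prime_iff_eq hq hp).1 h3).symm
      · have hle := Cfsg.Agent.Helper49.le_pPrimeCore p L hLn hco
        rw [hcore] at hle
        exact absurd (le_antisymm hle bot_le) hL.ne'

end

/-- p ≠ q dividing #G, nontrivial p-elements with q'-centralizers, G p- or q-solvable: G has a p-block or a q-block of defect zero. -/
theorem result {G : Type*} [Group G] [Finite G] (p q : ℕ) [Fact p.Prime] [Fact q.Prime] (hppq : p ≠ q) (hpG : p ∣ Nat.card G) (hqG : q ∣ Nat.card G) (hC : ∀ g : G, g ≠ 1 → (∃ k : ℕ, orderOf g = p ^ k) → ¬ q ∣ Nat.card ↥(Subgroup.centralizer ({g} : Set G))) (hsolv : Cfsg.IsPSolvable p G ∨ Cfsg.IsPSolvable q G) : (∃ χ : Cfsg.IrrCharacter G, (Cfsg.charDegree (χ : G → ℂ)).factorization p = (Nat.card G).factorization p) ∨ (∃ χ : Cfsg.IrrCharacter G, (Cfsg.charDegree (χ : G → ℂ)).factorization q = (Nat.card G).factorization q)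 := by
  have hno := no_pq_of_hC p q hC
  rcases hsolv with h | h
  · exact main p q hppq hpG hqG hno h
  · have hno' : ∀ y : G, ¬ q * p ∣ orderOf y := by
      intro y
      rw [mul_comm]
      exact hno y
    exact (main q p hppq.symm hqG hpG hno' h).symm

end Cfsg.Agent.S4743
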