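import Cfsg.Statements.S4746
-- import your own Cfsg.Agent.* helpers here
import Cfsg.Agent.Lib.Helper76.RealOdd
import Cfsg.Agent.Lib.Helper76.DefZeroSep

set_option autoImplicit false
set_option linter.style.haveILetI false
open Cfsg

namespace Cfsg.Agent.S4746

/-- Let p be an odd prime and G a finite group of even order divisible by p in which the centralizer of every non-identity p-element has odd order. Then G has an irreducible character of p-defect zero or an irreducible character of even degree. -/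
theorem result {G : Type*} [Group G] [Finite G] (p : ℕ) [Fact p.Prime] (hp2 : p ≠ 2) (hpG : p ∣ Nat.card G) (h2G : 2 ∣ Nat.card G) (hC : ∀ g : G, g ≠ 1 → (∃ k : ℕ, orderOf g = p ^ k) → Odd (Nat.card ↥(Subgroup.centralizer ({g} : Set G)))) : (∃ χ : Cfsg.IrrCharacter G, (Cfsg.charDegree (χ : G → ℂ)).factorization p = (Nat.card G).factorization p) ∨ ∃ χ : Cfsg.IrrCharacter G, Even (Cfsg.charDegree (χ : G → ℂ)) := by
  classical
  by_contra hcon
  push Not at hcon
  obtain ⟨h0, hoddall⟩ := hcon
  have hp : p.Prime := Fact.out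
  haveI : Fact (Nat.Prime 2) := ⟨Nat.prime_two⟩
  obtain ⟨t, ht⟩ := exists_prime_orderOf_dvd_card' 2 h2G
  have htt : t * t = 1 := by
    rw [← pow_two, ← ht, pow_orderOf_eq_one]
  by_cases hA : ∃ s y : G, y ≠ 1 ∧ (∃ k : ℕ, orderOf y = p ^ k) ∧ s * y * s⁻¹ = y⁻¹
  · obtain ⟨s, y, hy1, hyp, hinv⟩ := hA
    obtain ⟨χ, hχ⟩ := Cfsg.Agent.Helper76.RealOdd.exists_even_degree y s hy1 hinv (hC y hy1 hyp)
    exact hoddall χ hχ
  · push Not at hA
    have hx : ¬ p ∣ Nat.card (Subgroup.centralizer ({t} : Set G)) := by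
      intro hdvd
      obtain ⟨u, hu⟩ := exists_prime_orderOf_dvd_card' p hdvd
      have hu' : orderOf (u : G) = p := by
        rw [Subgroup.orderOf_coe]
        exact hu
      have hu1 : (u : G) ≠ 1 := by
        intro h
        rw [h, orderOf_one] at hu'
        exact hp.ne_one hu'.symm
      have hoddC := hC (u : G) hu1 ⟨1, by rw [hu', pow_one]⟩
      have htC : t ∈ Subgroup.centralizer ({(u : G)} : Set G) := by
        rw [Subgroup.mem_centralizer_singleton_iff]
        have := Subgroup.mem_centralizer_singleton_iff.1 u.2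
        exact this.symm
      have h2dvd : 2 ∣ Nat.card (Subgroup.centralizer ({(u : G)} : Set G)) := by
        have := Subgroup.orderOf_dvd_natCard _ htC
        rwa [ht] at this
      exact (Nat.not_even_iff_odd.2 hoddC) (even_iff_two_dvd.2 h2dvd)
    have hsq : ∀ g : G, IsConj t g → g * g = 1 := by
      intro g hg
      obtain ⟨c, hc⟩ := isConj_iff.1 hg
      rw [← hc]
      have : c * t * c⁻¹ * (c * t * c⁻¹) = c * (t * t) * c⁻¹ := by group
      rw [this, htt]
      group
    obtain ⟨χ, hχ⟩ := Cfsg.Agent.Helper76.DefZeroSep.exists_defect_zero p t hx (by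
      intro g h hg hh k hk hord
      have hgg := hsq g hg
      have hhh := hsq h hh
      have hhinv : h⁻¹ = h := inv_eq_of_mul_eq_one_left hhh
      refine hA g (g * h⁻¹) ?_ ⟨k, hord⟩ ?_
      · intro h1
        rw [h1, orderOf_one] at hord
        have : 1 < p ^ k := Nat.one_lt_pow hk.ne' hp.one_lt
        omega
      · calc g * (g * h⁻¹) * g⁻¹ = (g * g) * h⁻¹ * g⁻¹ := by group
          _ = h⁻¹ * g⁻¹ := by rw [hgg, one_mul]
          _ = (g * h⁻¹)⁻¹ := by rw [mul_inv_rev, inv_inv, hhinv])
    exact h0 χ hχ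

end Cfsg.Agent.S4746
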