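import Cfsg.Statements.S4754
import Cfsg.Agent.Lib.Helper78.CharSchur

set_option autoImplicit false
open Cfsg

namespace Cfsg.Agent.S4754

open Cfsg.Agent.Helper78

/-- For elements x, y of a finite group G, the conjugacy class of x y equals the set of all products of a conjugate of x with a conjugate of y if and only if χ(1) χ(a x a⁻¹ b y b⁻¹) = χ(x) χ(y) for all a, b ∈ G and every irreducible character χ. -/
theorem result {G : Type*} [Group G] [Finite G] (x y : G) : (∀ z : G, IsConj (x * y) z ↔ ∃ a b : G, z = a * x * a⁻¹ * (b * y * b⁻¹)) ↔ ∀ (a b : G) (χ : Cfsg.IrrCharacter G), (χ : G → ℂ) 1 * (χ : G → ℂ) (a * x * a⁻¹ * (b * y * b⁻¹)) = (χ : G → ℂ) x * (χ : G → ℂ) y := by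
  classical
  have : Fintype G := Fintype.ofFinite G
  constructor
  · intro H a b χ
    have hχ1 : (χ : G → ℂ) 1 ≠ 0 := irr_apply_one_ne_zero χ.2
    have hconst : ∀ a' b' : G, (χ : G → ℂ) (a' * x * a'⁻¹ * (b' * y * b'⁻¹)) =
        (χ : G → ℂ) (x * y) := by
      intro a' b'
      have hc : IsConj (x * y) (a' * x * a'⁻¹ * (b' * y * b'⁻¹)) := (H _).mpr ⟨a', b', rfl⟩
      exact ((isConj_iff_forall_irr_eq _ _).mp hc χ).symm
    have h2 := sum_sum_irr_conj_mul χ.2 x y 1
    simp only [mul_one, hconst, Finset.sum_const, Finset.card_univ, nsmul_eq_mul] at h2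
    rw [← Nat.card_eq_fintype_card] at h2
    have hG : (Nat.card G : ℂ) ≠ 0 := natCard_ne_zero_complex
    rw [hconst]
    field_simp at h2
    rw [mul_comm]
    exact h2
  · intro K z
    constructor
    · intro hc
      obtain ⟨c, rfl⟩ := isConj_iff.mp hc
      exact ⟨c, c, by group⟩
    · rintro ⟨a, b, rfl⟩
      apply isConj_of_forall_irr_eq
      intro χ
      have hχ1 : (χ : G → ℂ) 1 ≠ 0 := irr_apply_one_ne_zero χ.2
      have h1 := K a b χ
      have h2 := K 1 1 χ
      simp only [one_mul, inv_one, mul_one] at h2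
      exact mul_left_cancel₀ hχ1 (h2.trans h1.symm)

end Cfsg.Agent.S4754
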