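import Cfsg.Statements.S4755
import Cfsg.Agent.S4754
import Cfsg.Agent.Lib.Helper78.CharLinear

set_option autoImplicit false
open Cfsg

namespace Cfsg.Agent.S4755

open Cfsg.Agent.Helper78
open scoped ComplexConjugate commutatorElement

/-- Let x, y be non-identity elements of the finite group G such that χ(x' y') = χ(x') χ(y') for all conjugates x' of x, y' of y and every irreducible character χ. Then the conjugacy class of x y is the set of all products of a conjugate of x with a conjugate of y; every irreducible character of degree greater than 1 vanishes at x y; and the conjugacy class of x y is the coset of the commutator subgroup containing x y. -/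
theorem result {G : Type*} [Group G] [Finite G] (x y : G) (hx : x ≠ 1) (hy : y ≠ 1) (h : ∀ (a b : G) (χ : Cfsg.IrrCharacter G), (χ : G → ℂ) (a * x * a⁻¹ * (b * y * b⁻¹)) = (χ : G → ℂ) (a * x * a⁻¹) * (χ : G → ℂ) (b * y * b⁻¹)) : (∀ z : G, IsConj (x * y) z ↔ ∃ a b : G, z = a * x * a⁻¹ * (b * y * b⁻¹)) ∧ (∀ χ : Cfsg.IrrCharacter G, (χ : G → ℂ) 1 ≠ 1 → (χ : G → ℂ) (x * y) = 0) ∧ (∀ z : G, IsConj (x * y) z ↔ (x * y)⁻¹ * z ∈ commutator G) := by
  classical
  have : Fintype G := Fintype.ofFinite G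
  have hcf : ∀ (χ : IrrCharacter G) (g c : G), (χ : G → ℂ) (c * g * c⁻¹) = (χ : G → ℂ) g :=
    fun χ g c => IsCharacter.isClassFunction (IsIrrCharacter.isCharacter χ.2) g c
  have h' : ∀ (a b : G) (χ : IrrCharacter G),
      (χ : G → ℂ) (a * x * a⁻¹ * (b * y * b⁻¹)) = (χ : G → ℂ) x * (χ : G → ℂ) y := by
    intro a b χ
    rw [h a b χ, hcf, hcf]
  -- (A) χ(x) χ(y) (χ(1) - 1) = 0
  have hA : ∀ χ : IrrCharacter G,
      (χ : G → ℂ) x * (χ : G → ℂ) y * ((χ : G → ℂ) 1 - 1) = 0 := by
    intro χ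
    have hχ1 : (χ : G → ℂ) 1 ≠ 0 := irr_apply_one_ne_zero χ.2
    have h2 := sum_sum_irr_conj_mul χ.2 x y 1
    simp only [mul_one, h', Finset.sum_const, Finset.card_univ, nsmul_eq_mul] at h2
    rw [← Nat.card_eq_fintype_card] at h2
    have hG : (Nat.card G : ℂ) ≠ 0 := natCard_ne_zero_complex
    field_simp at h2
    linear_combination h2
  have hB : ∀ (a b : G) (χ : IrrCharacter G),
      (χ : G → ℂ) 1 * (χ : G → ℂ) (a * x * a⁻¹ * (b * y * b⁻¹)) =
        (χ : G → ℂ) x * (χ : G → ℂ) y := by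
    intro a b χ
    rw [h' a b χ]
    linear_combination hA χ
  have hpart1 := (Cfsg.Agent.S4754.result x y).mpr hB
  have hpart2 : ∀ χ : IrrCharacter G, (χ : G → ℂ) 1 ≠ 1 → (χ : G → ℂ) (x * y) = 0 := by
    intro χ hne
    have h1 := h' 1 1 χ
    simp only [one_mul, inv_one, mul_one] at h1
    rw [h1]
    rcases mul_eq_zero.mp (hA χ) with h4 | h4
    · exact h4
    · exact absurd (sub_eq_zero.mp h4) hne
  refine ⟨hpart1, hpart2, ?_⟩
  intro z
  constructor
  · intro hc
    obtain ⟨c, rfl⟩ := isConj_iff.mp hc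
    have : (x * y)⁻¹ * (c * (x * y) * c⁻¹) = ⁅(x * y)⁻¹, c⁆ := by
      rw [commutatorElement_def]; group
    rw [this, commutator_def]
    exact Subgroup.commutator_mem_commutator (Subgroup.mem_top _) (Subgroup.mem_top _)
  · intro hz
    by_contra hnc
    have h1 := sum_irr_mul_conj (x * y) z
    rw [if_neg hnc] at h1
    have h2 := sum_irr_mul_conj (x * y) (x * y)
    rw [if_pos (IsConj.refl _)] at h2
    have h3 : ∀ χ : IrrCharacter G, (χ : G → ℂ) (x * y) * conj ((χ : G → ℂ) z) =
        (χ : G → ℂ) (x * y) * conj ((χ : G → ℂ) (x * y)) := by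
      intro χ
      by_cases hχ1 : (χ : G → ℂ) 1 = 1
      · have h4 : (χ : G → ℂ) z = (χ : G → ℂ) (x * y) := by
          have : z = (x * y) * ((x * y)⁻¹ * z) := by group
          rw [this, linear_char_mul χ.2 hχ1,
            linear_char_eq_one_of_mem_commutator χ.2 hχ1 _ hz, mul_one]
        rw [h4]
      · rw [hpart2 χ hχ1, zero_mul, zero_mul]
    simp only [h3] at h1
    rw [h1] at h2
    have h5 : Nat.card (Subgroup.centralizer ({x * y} : Set G)) ≠ 0 := Nat.card_pos.ne'
    exact h5 (by exact_mod_cast h2.symm)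

end Cfsg.Agent.S4755
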