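import Cfsg.Statements.S4757
import Cfsg.Agent.Lib.Helper79.LinearChars
import Cfsg.Agent.Lib.Helper79.InvolutionAux

set_option autoImplicit false
open Cfsg

namespace Cfsg.Agent.S4757

open Cfsg.Agent.Helper79
open scoped ComplexConjugate

section Aux

variable {G : Type*} [Group G] [Finite G]

theorem sum_split_two {ι : Type*} [Fintype ι] [DecidableEq ι] (f : ι → ℂ) (a b : ι)
    (hab : a ≠ b) :
    ∑ i, f i = f a + f b + ∑ i ∈ (Finset.univ.erase a).erase b, f i := by
  rw [← Finset.add_sum_erase Finset.univ f (Finset.mem_univ a),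
    ← Finset.add_sum_erase (Finset.univ.erase a) f
      (Finset.mem_erase.2 ⟨hab.symm, Finset.mem_univ b⟩)]
  ring

/-- positivity contradiction from the regular character -/
theorem false_of_re_nonneg (u : G) (hu : u ≠ 1)
    (h : ∀ χ : IrrCharacter G, χ ≠ trivChar G →
      0 ≤ ((χ : G → ℂ) 1 * (χ : G → ℂ) u).re) : False := by
  classical
  have := Fintype.ofFinite G
  have h1 := sum_degree_mul u hu
  have h2 := Finset.add_sum_erase Finset.univ
    (fun χ : IrrCharacter G => (χ : G → ℂ) 1 * (χ : G → ℂ) u) (Finset.mem_univ (trivChar G))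
  rw [h1] at h2
  simp only [trivChar_apply, mul_one] at h2
  have h3 := congrArg Complex.re h2
  rw [Complex.add_re, Complex.re_sum, Complex.one_re, Complex.zero_re] at h3
  have h4 : 0 ≤ ∑ χ ∈ Finset.univ.erase (trivChar G), ((χ : G → ℂ) 1 * (χ : G → ℂ) u).re :=
    Finset.sum_nonneg (fun χ hχ => h χ (Finset.ne_of_mem_erase hχ))
  linarith

theorem re_nat_mul_sub (d : ℕ) : ((d : ℂ) * ((d : ℂ) - 2)).re = (d : ℝ) * ((d : ℝ) - 2) := by
  have : (d : ℂ) * ((d : ℂ) - 2) = (((d : ℝ) * ((d : ℝ) - 2) : ℝ) : ℂ) := by push_cast; ring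
  rw [this, Complex.ofReal_re]

theorem re_nat_mul_self (d : ℕ) : ((d : ℂ) * (d : ℂ)).re = (d : ℝ) * (d : ℝ) := by
  have : (d : ℂ) * (d : ℂ) = (((d : ℝ) * (d : ℝ) : ℝ) : ℂ) := by push_cast; ring
  rw [this, Complex.ofReal_re]

end Aux

theorem result {G : Type*} [Group G] [Finite G] (u : G) (hu : u ≠ 1) (c : ℂ) (hyp : ∀ χ : Cfsg.IrrCharacter G, (χ : G → ℂ) ≠ (fun _ => (1 : ℂ)) → ((χ : G → ℂ) 1 - (χ : G → ℂ) u = c ∨ (χ : G → ℂ) u = 0)) : ((orderOf u = 2 ∧ Subgroup.zpowers u ⊔ Cfsg.oddCore G = ⊤ ∧ Subgroup.centralizer ({u} : Set G) = Subgroup.zpowers u) ↔ commutator G ≠ ⊤) ∧ (commutator G ≠ ⊤ ↔ c = 2) := by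
  classical
  have := Fintype.ofFinite G
  have hyp' : ∀ χ : IrrCharacter G, χ ≠ trivChar G →
      ((χ : G → ℂ) 1 - (χ : G → ℂ) u = c ∨ (χ : G → ℂ) u = 0) := by
    intro χ hχ
    exact hyp χ (fun h => hχ ((eq_trivChar_iff χ).2 h))
  have hdeg : ∀ χ : IrrCharacter G, (χ : G → ℂ) 1 = (charDegree (χ : G → ℂ) : ℂ) :=
    fun χ => (irr_one_eq χ).1
  -- (c) ⇒ (b)
  have hcb : c = 2 → commutator G ≠ ⊤ := by
    intro hc htop
    apply false_of_re_nonneg u hu
    intro χ hχ
    have hd1 : charDegree (χ : G → ℂ) ≠ 1 := by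
      intro h1
      exact commutator_ne_top_of_linear χ h1 hχ htop
    have hd2 : 2 ≤ charDegree (χ : G → ℂ) := by have := (irr_one_eq χ).2; omega
    rcases hyp' χ hχ with h | h
    · have h5 : (χ : G → ℂ) u = (charDegree (χ : G → ℂ) : ℂ) - 2 := by
        rw [← hdeg, ← hc, ← h]; ring
      rw [h5, hdeg, re_nat_mul_sub]
      have : (2 : ℝ) ≤ (charDegree (χ : G → ℂ) : ℝ) := by exact_mod_cast hd2
      nlinarith
    · rw [h, mul_zero]; simp
  -- (b) ⇒ (c) and the centralizer
  have hb : commutator G ≠ ⊤ → c = 2 ∧ Nat.card (Subgroup.centralizer ({u} : Set G)) = 2 := by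
    intro hne
    obtain ⟨l, hl1, hlt⟩ := exists_nontrivial_linear hne
    have hlnorm := fun a => (irr_mul_of_degree_one l hl1 a 1).2
    have hl0 : ∀ a, (l : G → ℂ) a ≠ 0 := by
      intro a h0
      have := hlnorm a
      rw [h0, zero_mul] at this
      exact zero_ne_one this
    have hlin : ∀ ν : IrrCharacter G, charDegree (ν : G → ℂ) = 1 → ν ≠ trivChar G →
        1 - (ν : G → ℂ) u = c := by
      intro ν hν1 hνt
      rcases hyp' ν hνt with h | h
      · rw [hdeg, hν1] at h; simpa using h
      · exfalso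
        have := (irr_mul_of_degree_one ν hν1 u 1).2
        rw [h, zero_mul] at this
        exact zero_ne_one this
    have hlu := hlin l hl1 hlt
    have hc02 : c = 0 ∨ c = 2 := by
      have hm1 : charDegree (mulLinear l l hl1 : G → ℂ) = 1 := by
        rw [charDegree_mulLinear, hl1]
      by_cases hmt : mulLinear l l hl1 = trivChar G
      · have h1 : (mulLinear l l hl1 : G → ℂ) u = 1 := by rw [hmt, trivChar_apply]
        rw [mulLinear_apply] at h1
        have h2 : ((l : G → ℂ) u - 1) * ((l : G → ℂ) u + 1) = 0 := by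
          linear_combination h1
        rcases mul_eq_zero.1 h2 with h3 | h3
        · left; rw [← hlu]; linear_combination -h3
        · right; rw [← hlu]; linear_combination -h3
      · have h1 := hlin _ hm1 hmt
        rw [mulLinear_apply] at h1
        left
        have h2 : (l : G → ℂ) u * ((l : G → ℂ) u - 1) = 0 := by
          linear_combination hlu - h1
        rcases mul_eq_zero.1 h2 with h3 | h3
        · exact absurd h3 (hl0 u)
        · rw [← hlu]; linear_combination -h3
    have hc0 : c ≠ 0 := by
      intro hc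
      apply false_of_re_nonneg u hu
      intro χ hχ
      rcases hyp' χ hχ with h | h
      · have h5 : (χ : G → ℂ) u = (χ : G → ℂ) 1 := by
          rw [hc] at h; linear_combination -h
        rw [h5, hdeg, re_nat_mul_self]
        positivity
      · rw [h, mul_zero]; simp
    have hc2 : c = 2 := hc02.resolve_left hc0
    refine ⟨hc2, ?_⟩
    have hlu' : (l : G → ℂ) u = -1 := by
      rw [hc2] at hlu; linear_combination -hlu
    have huniq : ∀ ν : IrrCharacter G, charDegree (ν : G → ℂ) = 1 → ν ≠ trivChar G → ν = l := by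
      intro ν hν1 hνt
      have hνu : (ν : G → ℂ) u = -1 := by
        have := hlin ν hν1 hνt
        rw [hc2] at this; linear_combination -this
      have h1 : mulLinear l ν hl1 = trivChar G := by
        by_contra hne'
        have := hlin (mulLinear l ν hl1) (by rw [charDegree_mulLinear, hν1]) hne'
        rw [mulLinear_apply, hlu', hνu, hc2] at this
        norm_num at this
      have h2 : mulLinear l l hl1 = trivChar G := by
        by_contra hne'
        have := hlin (mulLinear l l hl1) (by rw [charDegree_mulLinear, hl1]) hne'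
        rw [mulLinear_apply, hlu', hc2] at this
        norm_num at this
      apply Subtype.ext
      funext g
      have h3 : (l : G → ℂ) g * (ν : G → ℂ) g = 1 := by
        rw [← mulLinear_apply l ν hl1, h1, trivChar_apply]
      have h4 : (l : G → ℂ) g * (l : G → ℂ) g = 1 := by
        rw [← mulLinear_apply l l hl1, h2, trivChar_apply]
      exact mul_left_cancel₀ (hl0 g) (h3.trans h4.symm)
    -- the other characters vanish at u
    have hothers : ∀ χ ∈ (Finset.univ.erase (trivChar G)).erase l, (χ : G → ℂ) u = 0 := by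
      have hF1 := sum_degree_mul u hu
      rw [sum_split_two (fun χ : IrrCharacter G => (χ : G → ℂ) 1 * (χ : G → ℂ) u)
        (trivChar G) l hlt.symm] at hF1
      simp only [trivChar_apply, mul_one] at hF1
      rw [hlu', hdeg l, hl1] at hF1
      have hF1' : ∑ χ ∈ (Finset.univ.erase (trivChar G)).erase l,
          (χ : G → ℂ) 1 * (χ : G → ℂ) u = 0 := by
        linear_combination hF1
      have hre := congrArg Complex.re hF1'
      rw [Complex.re_sum, Complex.zero_re] at hre
      have hd2 : ∀ χ ∈ (Finset.univ.erase (trivChar G)).erase l,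
          2 ≤ charDegree (χ : G → ℂ) := by
        intro χ hχ
        have hχl : χ ≠ l := Finset.ne_of_mem_erase hχ
        have hχt : χ ≠ trivChar G := Finset.ne_of_mem_erase (Finset.mem_of_mem_erase hχ)
        have h1 : charDegree (χ : G → ℂ) ≠ 1 := fun h1 => hχl (huniq χ h1 hχt)
        have := (irr_one_eq χ).2
        omega
      have hnonneg : ∀ χ ∈ (Finset.univ.erase (trivChar G)).erase l,
          0 ≤ ((χ : G → ℂ) 1 * (χ : G → ℂ) u).re := by
        intro χ hχ
        have hχt : χ ≠ trivChar G := Finset.ne_of_mem_erase (Finset.mem_of_mem_erase hχ)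
        rcases hyp' χ hχt with h | h
        · have h5 : (χ : G → ℂ) u = (charDegree (χ : G → ℂ) : ℂ) - 2 := by
            rw [← hdeg, ← hc2, ← h]; ring
          rw [h5, hdeg, re_nat_mul_sub]
          have : (2 : ℝ) ≤ (charDegree (χ : G → ℂ) : ℝ) := by exact_mod_cast hd2 χ hχ
          nlinarith
        · rw [h, mul_zero]; simp
      have hzero := (Finset.sum_eq_zero_iff_of_nonneg hnonneg).1 hre
      intro χ hχ
      have hχt : χ ≠ trivChar G := Finset.ne_of_mem_erase (Finset.mem_of_mem_erase hχ)
      rcases hyp' χ hχt with h | h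
      · have h5 : (χ : G → ℂ) u = (charDegree (χ : G → ℂ) : ℂ) - 2 := by
          rw [← hdeg, ← hc2, ← h]; ring
        have h6 := hzero χ hχ
        rw [h5, hdeg, re_nat_mul_sub] at h6
        have h7 : (2 : ℝ) ≤ (charDegree (χ : G → ℂ) : ℝ) := by exact_mod_cast hd2 χ hχ
        have h8 : (charDegree (χ : G → ℂ) : ℝ) - 2 = 0 := by
          rcases mul_eq_zero.1 h6 with h9 | h9
          · linarith
          · exact h9
        rw [h5]
        have : (charDegree (χ : G → ℂ) : ℝ) = 2 := by linarith
        have h10 : ((charDegree (χ : G → ℂ) : ℝ) : ℂ) = ((2 : ℝ) : ℂ) := by rw [this]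
        push_cast at h10
        rw [h10]; ring
      · exact h
    -- second orthogonality
    have h2nd := col_orth_self u
    rw [sum_split_two (fun χ : IrrCharacter G => (χ : G → ℂ) u * conj ((χ : G → ℂ) u))
      (trivChar G) l hlt.symm] at h2nd
    rw [Finset.sum_eq_zero (fun χ hχ => by rw [hothers χ hχ, zero_mul])] at h2nd
    simp only [trivChar_apply, hlu', map_one, map_neg, mul_one, add_zero] at h2nd
    have h3 : ((2 : ℕ) : ℂ) = (Nat.card (Subgroup.centralizer ({u} : Set G)) : ℂ) := by
      rw [← h2nd]; norm_num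
    exact_mod_cast h3.symm
  -- assemble
  constructor
  · constructor
    · rintro ⟨h2, -, hC⟩
      obtain ⟨K, hKn, hKi, -, -⟩ := exists_normal_complement_of_involution u h2 hC
      intro htop
      have h1 := commutator_le_of_index_two K hKi
      rw [htop, top_le_iff] at h1
      rw [h1, Subgroup.index_top] at hKi
      omega
    · intro hne
      obtain ⟨-, hcard⟩ := hb hne
      have hle : Subgroup.zpowers u ≤ Subgroup.centralizer ({u} : Set G) := by
        rw [Subgroup.zpowers_le, Subgroup.mem_centralizer_iff]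
        intro y hy
        rw [Set.mem_singleton_iff] at hy
        rw [hy]
      have ho : orderOf u = 2 := by
        have h1 : Nat.card (Subgroup.zpowers u) ≤ 2 := hcard ▸ Subgroup.card_le_of_le hle
        rw [Nat.card_zpowers] at h1
        have h2 : orderOf u ≠ 1 := by rw [Ne, orderOf_eq_one_iff]; exact hu
        have h3 : 0 < orderOf u := orderOf_pos u
        omega
      have hC : Subgroup.centralizer ({u} : Set G) = Subgroup.zpowers u := by
        symm
        apply Subgroup.eq_of_le_of_card_ge hle
        rw [hcard, Nat.card_zpowers, ho]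
      refine ⟨ho, ?_, hC⟩
      obtain ⟨K, hKn, hKi, hKodd, hKsup⟩ := exists_normal_complement_of_involution u ho hC
      have hKle : K ≤ Cfsg.oddCore G := by
        apply le_sSup
        exact ⟨hKn, Nat.Coprime.symm ((Nat.Prime.coprime_iff_not_dvd Nat.prime_two).2 hKodd)⟩
      rw [eq_top_iff, ← hKsup, sup_comm]
      exact sup_le_sup_left hKle _
  · constructor
    · intro hne; exact (hb hne).1
    · exact hcb

end Cfsg.Agent.S4757
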