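import Cfsg.Statements.S4762
import Cfsg.Agent.Lib.Helper79.NilpUnique

set_option autoImplicit false
open Cfsg

namespace Cfsg.Agent.S4762

open Cfsg.Agent.Helper79

theorem result {G : Type*} [Group G] [Finite G] [Group.IsNilpotent G] (p : ℕ) [Fact p.Prime] : Nat.card {χ : Cfsg.IrrCharacter G // p ∣ Cfsg.charDegree (χ : G → ℂ)} = 1 ↔ (p = 2 ∧ Cfsg.IsExtraspecial 2 G) := by
  constructor
  · intro h
    exact extraspecial_of_unique_nonlinear p (isPGroup_of_unique_nilpotent p h) h
  · rintro ⟨rfl, hE⟩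
    exact card_even_degree_of_extraspecial hE

end Cfsg.Agent.S4762
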