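import Cfsg.Statements.S4765
import Mathlib
import Cfsg.Agent.Lib.Helper38.SL2Deg

set_option autoImplicit false
set_option linter.unusedSectionVars false
open Cfsg

namespace Cfsg.Agent.S4765

open Matrix Cfsg.Agent.Helper38 Cfsg.Agent.Helper81 Cfsg.Agent.Helper79

section

variable {F : Type*} [Field F] [Fintype F] [DecidableEq F]

local notation "SL2" => Matrix.SpecialLinearGroup (Fin 2) F

/-- degrees divisible by the characteristic are equal to `q` -/
lemma degree_eq_q (p : ℕ) (hp : p.Prime) (hpq : p ∣ Fintype.card F) {χ : SL2 → ℂ}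
    (hχ : IsIrrCharacter SL2 χ) (hdvd : p ∣ charDegree χ) :
    χ 1 = (Fintype.card F : ℂ) ∧ charDegree χ = Fintype.card F := by
  obtain ⟨k, hk, hcases⟩ := SL2_degrees hχ
  have hck := charDegree_of_eq χ k hk
  rw [hck] at hdvd ⊢
  have hp1 : ¬ p ∣ 1 := by
    intro h
    exact hp.one_lt.ne' (Nat.dvd_one.mp h)
  rcases hcases with h | h | h | h | h | h
  · exfalso; rw [h] at hdvd; exact hp1 hdvd
  · rw [hk, h]; exact ⟨rfl, rfl⟩
  · exfalso; rw [h] at hdvd; exact hp1 ((Nat.dvd_add_right hpq).mp hdvd)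
  · exfalso; rw [← h] at hpq; exact hp1 ((Nat.dvd_add_right hdvd).mp hpq)
  · exfalso
    have h2 : p ∣ 2 * k := Dvd.dvd.mul_left hdvd 2
    rw [h] at h2
    exact hp1 ((Nat.dvd_add_right hpq).mp h2)
  · exfalso
    have h2 : p ∣ 2 * k := Dvd.dvd.mul_left hdvd 2
    rw [← h] at hpq
    exact hp1 ((Nat.dvd_add_right h2).mp hpq)

end

/-- Let F be a finite field of characteristic p with at least 4 elements. Then PSL(2,F) has exactly one irreducible complex character of degree divisible by p, and its degree is the order of F. -/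
theorem result (p : ℕ) [Fact p.Prime] (F : Type*) [Field F] [Fintype F] [CharP F p] (hF : 4 ≤ Fintype.card F) : Nat.card {χ : Cfsg.IrrCharacter (Matrix.ProjectiveSpecialLinearGroup (Fin 2) F) // p ∣ Cfsg.charDegree (χ : Matrix.ProjectiveSpecialLinearGroup (Fin 2) F → ℂ)} = 1 ∧ ∀ χ : Cfsg.IrrCharacter (Matrix.ProjectiveSpecialLinearGroup (Fin 2) F), p ∣ Cfsg.charDegree (χ : Matrix.ProjectiveSpecialLinearGroup (Fin 2) F → ℂ) → Cfsg.charDegree (χ : Matrix.ProjectiveSpecialLinearGroup (Fin 2) F → ℂ) = Fintype.card F := by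
  classical
  have : Fintype (N F) := Fintype.ofFinite _
  have hp : p.Prime := Fact.out
  have hpq : p ∣ Fintype.card F := by
    obtain ⟨n, -, hn⟩ := FiniteField.card F p
    rw [hn]
    exact dvd_pow_self p n.ne_zero
  set Z := Subgroup.center (Matrix.SpecialLinearGroup (Fin 2) F) with hZ
  have hB : ∀ χ : Cfsg.IrrCharacter (Matrix.ProjectiveSpecialLinearGroup (Fin 2) F),
      p ∣ Cfsg.charDegree (χ : Matrix.ProjectiveSpecialLinearGroup (Fin 2) F → ℂ) →
      (inflate Z χ : Matrix.SpecialLinearGroup (Fin 2) F → ℂ) 1 = (Fintype.card F : ℂ) ∧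
      Cfsg.charDegree (χ : Matrix.ProjectiveSpecialLinearGroup (Fin 2) F → ℂ) = Fintype.card F := by
    intro χ hdvd
    rw [← charDegree_inflate Z χ] at hdvd ⊢
    exact degree_eq_q p hp hpq (inflate Z χ).2 hdvd
  have huniq := SL2_unique_q (F := F) hF
  obtain ⟨hsub, hne⟩ := Nat.card_eq_one_iff_unique.mp huniq
  refine ⟨?_, fun χ hχ => (hB χ hχ).2⟩
  rw [Nat.card_eq_one_iff_unique]
  constructor
  · constructor
    rintro ⟨χ₁, h₁⟩ ⟨χ₂, h₂⟩
    apply Subtype.ext
    apply inflate_injective Z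
    have := @Subsingleton.elim _ hsub ⟨inflate Z χ₁, (hB χ₁ h₁).1⟩ ⟨inflate Z χ₂, (hB χ₂ h₂).1⟩
    exact congrArg Subtype.val this
  · obtain ⟨⟨St, hSt⟩⟩ := hne
    have hker : Z ≤ irrKer St := by
      intro z hz
      rw [mem_irrKer]
      exact steinberg_central St.2 hSt z hz
    obtain ⟨ψ, hψ⟩ := exists_deflate Z St hker
    refine ⟨⟨ψ, ?_⟩⟩
    rw [← charDegree_inflate Z ψ, hψ, charDegree_of_eq _ _ hSt]
    exact hpq

end Cfsg.Agent.S4765
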