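import Cfsg.Statements.S4812
import Mathlib
import Cfsg.Agent.Lib.Helper38.SL2Deg
import Cfsg.Agent.Lib.Helper38.SL2Sum

set_option autoImplicit false
set_option linter.unusedSectionVars false
open Cfsg

namespace Cfsg.Agent.S4812

open Matrix Cfsg.Agent.Helper38 Cfsg.Agent.Helper81 Cfsg.Agent.Helper79

section

universe u v

/-- character degrees are invariant under isomorphism -/
lemma charDegrees_congr {S : Type u} {T : Type v} [Group S] [Group T] (e : S ≃* T) :
    charDegrees S = charDegrees T := by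
  ext d
  constructor
  · rintro ⟨χ, hχ⟩
    refine ⟨⟨fun x => (χ : S → ℂ) (e.symm x), isIrrCharacter_comp_equiv e.symm χ.2⟩, ?_⟩
    rw [← hχ]
    unfold charDegree
    simp
  · rintro ⟨χ, hχ⟩
    refine ⟨⟨fun x => (χ : T → ℂ) (e x), isIrrCharacter_comp_equiv e χ.2⟩, ?_⟩
    rw [← hχ]
    unfold charDegree
    simp

variable {F : Type*} [Field F] [Fintype F] [DecidableEq F]

local notation "SL2" => Matrix.SpecialLinearGroup (Fin 2) F

/-- in characteristic two the centre of `SL₂` is trivial -/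
lemma center_eq_bot [CharP F 2] : Subgroup.center SL2 = ⊥ := by
  rw [eq_bot_iff]
  intro z hz
  rw [Subgroup.mem_bot]
  obtain ⟨a, ha, hza⟩ := center_SL2_toGL z hz
  have ha1 : a = 1 := Cfsg.Agent.S2300.sq_inj a 1 (by rw [ha, mul_one])
  rw [ha1, sc_one] at hza
  apply Matrix.SpecialLinearGroup.toGL_injective
  rw [hza, map_one]

/-- the character degrees of `PSL₂` and `SL₂` agree in characteristic two -/
lemma charDegrees_PSL [CharP F 2] :
    charDegrees (Matrix.ProjectiveSpecialLinearGroup (Fin 2) F) = charDegrees SL2 := by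
  ext d
  constructor
  · rintro ⟨ψ, hψ⟩
    refine ⟨inflate (Subgroup.center SL2) ψ, ?_⟩
    rw [charDegree_inflate, hψ]
  · rintro ⟨χ, hχ⟩
    have hker : Subgroup.center SL2 ≤ irrKer χ := by
      rw [center_eq_bot]; exact bot_le
    obtain ⟨ψ, hψ⟩ := exists_deflate (Subgroup.center SL2) χ hker
    refine ⟨ψ, ?_⟩
    rw [← charDegree_inflate, hψ, hχ]

/-- the character degrees of `SL₂(q)`, `q ≥ 4` even -/
lemma charDegrees_SL2 [CharP F 2] (h4 : 4 ≤ Fintype.card F) :
    charDegrees SL2 = {1, Fintype.card F - 1, Fintype.card F, Fintype.card F + 1} := by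
  have heven : Even (Fintype.card F) := by
    have h2 : (2 : ℕ) ∣ Fintype.card F := by
      have := CharP.cast_eq_zero_iff F 2 (Fintype.card F)
      rw [← this]
      exact Nat.cast_card_eq_zero F
    exact even_iff_two_dvd.mpr h2
  obtain ⟨m, hm⟩ := heven
  obtain ⟨c1, c2, c3, c4⟩ := (Cfsg.Agent.S2300.result (F := F)).2 h4
  ext d
  simp only [Set.mem_insert_iff, Set.mem_singleton_iff]
  constructor
  · rintro ⟨χ, hχ⟩
    obtain ⟨k, hk, hcases⟩ := SL2_degrees χ.2
    rw [charDegree_of_eq _ k hk] at hχ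
    subst hχ
    rcases hcases with h | h | h | h | h | h
    · left; exact h
    · right; right; left; exact h
    · right; right; right; exact h
    · right; left; omega
    · omega
    · omega
  · have key : ∀ k : ℂ, ∀ k' : ℕ, k = (k' : ℂ) →
        0 < Nat.card {χ : IrrCharacter SL2 // (χ : SL2 → ℂ) 1 = k} → k' ∈ charDegrees SL2 := by
      intro k k' hk hpos
      obtain ⟨⟨χ, hχ⟩⟩ := (Nat.card_pos_iff.mp hpos).1
      exact ⟨χ, charDegree_of_eq _ k' (hχ.trans hk)⟩
    rintro (h | h | h | h)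
    · rw [h]; exact key 1 1 (by simp) (by rw [c1]; norm_num)
    · rw [h]
      refine key ((Fintype.card F : ℂ) - 1) _ ?_ (by rw [c4]; omega)
      have : 1 ≤ Fintype.card F := by omega
      push_cast [Nat.cast_sub this]
      ring
    · rw [h]; exact key (Fintype.card F : ℂ) _ rfl (by rw [c2]; norm_num)
    · rw [h]
      refine key ((Fintype.card F : ℂ) + 1) _ (by push_cast; ring) (by rw [c3]; omega)

end

/-- Let F be a finite field of characteristic 2 with q ≥ 4 elements and let S be isomorphic to PSL(2,F) or to SL(2,F). Then the vertices of the character degree graph of S are the primes dividing q(q²−1), and two distinct primes are adjacent exactly when both divide q + 1 or both divide q − 1; so the graph has the three connected components {2}, the primes dividing q + 1 and the primes dividing q − 1, each complete. -/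
theorem result (F : Type*) [Field F] [Fintype F] [CharP F 2] (q : ℕ) (hq : Fintype.card F = q) (h4 : 4 ≤ q) {S : Type*} [Group S] [Finite S] (hS : Nonempty (S ≃* Matrix.ProjectiveSpecialLinearGroup (Fin 2) F) ∨ Nonempty (S ≃* Matrix.SpecialLinearGroup (Fin 2) F)) : Cfsg.degreePrimes S = {r : ℕ | r.Prime ∧ r ∣ q * (q ^ 2 - 1)} ∧ ∀ r s : ℕ, (Cfsg.degreeGraph S).Adj r s ↔ (r ≠ s ∧ r.Prime ∧ s.Prime ∧ ((r ∣ q + 1 ∧ s ∣ q + 1) ∨ (r ∣ q - 1 ∧ s ∣ q - 1))) := by
  classical
  subst hq
  have hdeg : charDegrees S = {1, Fintype.card F - 1, Fintype.card F, Fintype.card F + 1} := by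
    rcases hS with ⟨⟨e⟩⟩ | ⟨⟨e⟩⟩
    · rw [charDegrees_congr e, charDegrees_PSL, charDegrees_SL2 h4]
    · rw [charDegrees_congr e, charDegrees_SL2 h4]
  obtain ⟨n, -, hn⟩ := FiniteField.card F 2
  set Q := Fintype.card F with hQ
  have hfac : Q * (Q ^ 2 - 1) = Q * ((Q - 1) * (Q + 1)) := by
    congr 1
    have : 1 ≤ Q := by omega
    obtain ⟨k, hk⟩ : ∃ k, Q = k + 1 := ⟨Q - 1, by omega⟩
    rw [hk]
    simp only [Nat.add_sub_cancel]
    have : (k + 1) ^ 2 = k * (k + 1 + 1) + 1 := by ring
    rw [this, Nat.add_sub_cancel]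
  constructor
  · ext r
    unfold degreePrimes
    simp only [Set.mem_ofPred_eq, hdeg, Set.mem_insert_iff, Set.mem_singleton_iff]
    constructor
    · rintro ⟨hr, d, hd, hrd⟩
      refine ⟨hr, ?_⟩
      rw [hfac]
      rcases hd with rfl | rfl | rfl | rfl
      · exact absurd (Nat.dvd_one.mp hrd) hr.one_lt.ne'
      · exact Dvd.dvd.mul_left (Dvd.dvd.mul_right hrd _) _
      · exact Dvd.dvd.mul_right hrd _
      · exact Dvd.dvd.mul_left (Dvd.dvd.mul_left hrd _) _
    · rintro ⟨hr, hrd⟩
      refine ⟨hr, ?_⟩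
      rw [hfac] at hrd
      rcases (Nat.Prime.dvd_mul hr).mp hrd with h | h
      · exact ⟨Q, Or.inr (Or.inr (Or.inl rfl)), h⟩
      · rcases (Nat.Prime.dvd_mul hr).mp h with h | h
        · exact ⟨Q - 1, Or.inr (Or.inl rfl), h⟩
        · exact ⟨Q + 1, Or.inr (Or.inr (Or.inr rfl)), h⟩
  · intro r s
    unfold degreeGraph
    simp only [hdeg, Set.mem_insert_iff, Set.mem_singleton_iff]
    constructor
    · rintro ⟨hne, hr, hs, d, hd, hrs⟩
      refine ⟨hne, hr, hs, ?_⟩
      rcases hd with rfl | rfl | rfl | rfl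
      · exfalso
        have := Nat.dvd_one.mp (dvd_of_mul_right_dvd hrs)
        exact hr.one_lt.ne' this
      · right
        exact ⟨dvd_of_mul_right_dvd hrs, dvd_of_mul_left_dvd hrs⟩
      · exfalso
        rw [hn] at hrs
        have h1 : r = 2 := (Nat.prime_dvd_prime_iff_eq hr Nat.prime_two).mp
          (hr.dvd_of_dvd_pow (dvd_of_mul_right_dvd hrs))
        have h2 : s = 2 := (Nat.prime_dvd_prime_iff_eq hs Nat.prime_two).mp
          (hs.dvd_of_dvd_pow (dvd_of_mul_left_dvd hrs))
        exact hne (h1.trans h2.symm)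
      · left
        exact ⟨dvd_of_mul_right_dvd hrs, dvd_of_mul_left_dvd hrs⟩
    · rintro ⟨hne, hr, hs, h⟩
      refine ⟨hne, hr, hs, ?_⟩
      have hcop : Nat.Coprime r s := (Nat.coprime_primes hr hs).mpr hne
      rcases h with ⟨h1, h2⟩ | ⟨h1, h2⟩
      · exact ⟨Q + 1, Or.inr (Or.inr (Or.inr rfl)), hcop.mul_dvd_of_dvd_of_dvd h1 h2⟩
      · exact ⟨Q - 1, Or.inr (Or.inl rfl), hcop.mul_dvd_of_dvd_of_dvd h1 h2⟩

end Cfsg.Agent.S4812
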