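import Cfsg.Statements.S4774
import Mathlib
import Cfsg.Agent.Lib.Helper38.SL2Even
import Cfsg.Agent.S4812

set_option autoImplicit false
set_option linter.unusedSectionVars false
open Cfsg

namespace Cfsg.Agent.S4774

open Matrix Cfsg.Agent.Helper38 Cfsg.Agent.Helper81 Cfsg.Agent.Helper79

section

variable {F : Type*} [Field F] [Fintype F] [DecidableEq F]

local notation "SL2" => Matrix.SpecialLinearGroup (Fin 2) F

/-- the shape of the character degrees of `SL₂(q)` and `PSL₂(q)`, `q ≥ 7` odd -/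
def GoodDegrees (D : Set ℕ) (q : ℕ) : Prop :=
  (∀ d ∈ D, d = 1 ∨ d = q ∨ d = q + 1 ∨ d + 1 = q ∨ 2 * d = q + 1 ∨ 2 * d + 1 = q) ∧
    q ∈ D ∧ q + 1 ∈ D ∧ q - 1 ∈ D

lemma good_SL2 (hodd : Odd (Fintype.card F)) (h7 : 7 ≤ Fintype.card F) :
    GoodDegrees (charDegrees SL2) (Fintype.card F) := by
  have : Fintype (N F) := Fintype.ofFinite _
  refine ⟨?_, ?_, ?_, ?_⟩
  · rintro d ⟨χ, hχ⟩
    obtain ⟨k, hk, hcases⟩ := SL2_degrees χ.2
    rw [charDegree_of_eq _ k hk] at hχ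
    subst hχ
    exact hcases
  · have := SL2_unique_q (F := F) (by omega)
    obtain ⟨-, ⟨⟨χ, hχ⟩⟩⟩ := Nat.card_eq_one_iff_unique.mp this
    exact ⟨χ, charDegree_of_eq _ _ hχ⟩
  · obtain ⟨⟨χ, -, hχ⟩, -⟩ := exists_even_SL2 hodd h7
    exact ⟨χ, charDegree_of_eq _ _ hχ⟩
  · obtain ⟨-, ⟨χ, -, hχ⟩⟩ := exists_even_SL2 hodd h7
    exact ⟨χ, charDegree_of_eq _ _ hχ⟩

lemma good_PSL2 (hodd : Odd (Fintype.card F)) (h7 : 7 ≤ Fintype.card F) :
    GoodDegrees (charDegrees (Matrix.ProjectiveSpecialLinearGroup (Fin 2) F)) (Fintype.card F) := by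
  have : Fintype (N F) := Fintype.ofFinite _
  refine ⟨?_, ?_, ?_, ?_⟩
  · rintro d ⟨ψ, hψ⟩
    obtain ⟨k, hk, hcases⟩ := SL2_degrees (inflate (Subgroup.center SL2) ψ).2
    rw [← charDegree_inflate, charDegree_of_eq _ k hk] at hψ
    subst hψ
    exact hcases
  · have := SL2_unique_q (F := F) (by omega)
    obtain ⟨-, ⟨⟨χ, hχ⟩⟩⟩ := Nat.card_eq_one_iff_unique.mp this
    have hker : Subgroup.center SL2 ≤ irrKer χ := by
      intro z hz
      rw [mem_irrKer]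
      exact steinberg_central χ.2 hχ z hz
    obtain ⟨ψ, hψ⟩ := exists_deflate (Subgroup.center SL2) χ hker
    refine ⟨ψ, ?_⟩
    rw [← charDegree_inflate, hψ]
    exact charDegree_of_eq _ _ hχ
  · obtain ⟨⟨χ, hker, hχ⟩, -⟩ := exists_even_SL2 hodd h7
    obtain ⟨ψ, hψ⟩ := exists_deflate (Subgroup.center SL2) χ hker
    refine ⟨ψ, ?_⟩
    rw [← charDegree_inflate, hψ]
    exact charDegree_of_eq _ _ hχ
  · obtain ⟨-, ⟨χ, hker, hχ⟩⟩ := exists_even_SL2 hodd h7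
    obtain ⟨ψ, hψ⟩ := exists_deflate (Subgroup.center SL2) χ hker
    refine ⟨ψ, ?_⟩
    rw [← charDegree_inflate, hψ]
    exact charDegree_of_eq _ _ hχ

end

/-- the arithmetic of the graph -/
theorem graph_of_good (D : Set ℕ) (q t k : ℕ) (ht : t.Prime) (ht2 : t ≠ 2) (hqt : q = t ^ k) (h5 : 5 < q)
    (hD : GoodDegrees D q) :
    {p : ℕ | p.Prime ∧ ∃ d ∈ D, p ∣ d} = {r : ℕ | r.Prime ∧ r ∣ q * (q ^ 2 - 1)} ∧
    ∀ r s : ℕ, (r ≠ s ∧ r.Prime ∧ s.Prime ∧ ∃ d ∈ D, r * s ∣ d) ↔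
      (r ≠ s ∧ r.Prime ∧ s.Prime ∧ r ∣ q ^ 2 - 1 ∧ s ∣ q ^ 2 - 1 ∧
        (r = 2 ∨ s = 2 ∨ (r ∣ q + 1 ∧ s ∣ q + 1) ∨ (r ∣ q - 1 ∧ s ∣ q - 1))) := by
  obtain ⟨D1, Dq, Dq1, Dq2⟩ := hD
  have hoddq : Odd q := by
    rw [hqt]
    exact Odd.pow (ht.odd_of_ne_two ht2)
  obtain ⟨m, hm⟩ := hoddq
  have hfac : q ^ 2 - 1 = (q - 1) * (q + 1) := by
    obtain ⟨j, hj⟩ : ∃ j, q = j + 1 := ⟨q - 1, by omega⟩
    rw [hj]
    simp only [Nat.add_sub_cancel]
    have : (j + 1) ^ 2 = j * (j + 1 + 1) + 1 := by ring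
    rw [this, Nat.add_sub_cancel]
  have h2m : (2 : ℕ) ∣ q - 1 := ⟨m, by omega⟩
  have h2p : (2 : ℕ) ∣ q + 1 := ⟨m + 1, by omega⟩
  -- a prime divisor of a degree divides `q`, `q - 1` or `q + 1`
  have hdiv : ∀ d ∈ D, ∀ r : ℕ, r.Prime → r ∣ d → (d = q ∧ r ∣ q) ∨ r ∣ q - 1 ∨ r ∣ q + 1 := by
    intro d hd r hr hrd
    rcases D1 d hd with h | h | h | h | h | h
    · exfalso; rw [h] at hrd; exact hr.one_lt.ne' (Nat.dvd_one.mp hrd)
    · left; exact ⟨h, h ▸ hrd⟩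
    · right; right; exact h ▸ hrd
    · right; left
      have : d = q - 1 := by omega
      exact this ▸ hrd
    · right; right
      rw [← h]; exact Dvd.dvd.mul_left hrd 2
    · right; left
      have : q - 1 = 2 * d := by omega
      rw [this]; exact Dvd.dvd.mul_left hrd 2
  constructor
  · ext r
    simp only [Set.mem_ofPred_eq]
    constructor
    · rintro ⟨hr, d, hd, hrd⟩
      refine ⟨hr, ?_⟩
      rw [hfac]
      rcases hdiv d hd r hr hrd with ⟨-, h⟩ | h | h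
      · exact Dvd.dvd.mul_right h _
      · exact Dvd.dvd.mul_left (Dvd.dvd.mul_right h _) _
      · exact Dvd.dvd.mul_left (Dvd.dvd.mul_left h _) _
    · rintro ⟨hr, hrd⟩
      refine ⟨hr, ?_⟩
      rw [hfac] at hrd
      rcases (Nat.Prime.dvd_mul hr).mp hrd with h | h
      · exact ⟨q, Dq, h⟩
      · rcases (Nat.Prime.dvd_mul hr).mp h with h | h
        · exact ⟨q - 1, Dq2, h⟩
        · exact ⟨q + 1, Dq1, h⟩
  · intro r s
    constructor
    · rintro ⟨hne, hr, hs, d, hd, hrs⟩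
      have hrd : r ∣ d := dvd_of_mul_right_dvd hrs
      have hsd : s ∣ d := dvd_of_mul_left_dvd hrs
      refine ⟨hne, hr, hs, ?_⟩
      rw [hfac]
      rcases D1 d hd with h | h | h | h | h | h
      · exfalso; rw [h] at hrd; exact hr.one_lt.ne' (Nat.dvd_one.mp hrd)
      · exfalso
        rw [h, hqt] at hrd hsd
        have h1 : r = t := (Nat.prime_dvd_prime_iff_eq hr ht).mp (hr.dvd_of_dvd_pow hrd)
        have h2 : s = t := (Nat.prime_dvd_prime_iff_eq hs ht).mp (hs.dvd_of_dvd_pow hsd)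
        exact hne (h1.trans h2.symm)
      · rw [h] at hrd hsd
        exact ⟨Dvd.dvd.mul_left hrd _, Dvd.dvd.mul_left hsd _, Or.inr (Or.inr (Or.inl ⟨hrd, hsd⟩))⟩
      · have : d = q - 1 := by omega
        rw [this] at hrd hsd
        exact ⟨Dvd.dvd.mul_right hrd _, Dvd.dvd.mul_right hsd _, Or.inr (Or.inr (Or.inr ⟨hrd, hsd⟩))⟩
      · have hr' : r ∣ q + 1 := by rw [← h]; exact Dvd.dvd.mul_left hrd 2
        have hs' : s ∣ q + 1 := by rw [← h]; exact Dvd.dvd.mul_left hsd 2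
        exact ⟨Dvd.dvd.mul_left hr' _, Dvd.dvd.mul_left hs' _, Or.inr (Or.inr (Or.inl ⟨hr', hs'⟩))⟩
      · have hq1 : q - 1 = 2 * d := by omega
        have hr' : r ∣ q - 1 := by rw [hq1]; exact Dvd.dvd.mul_left hrd 2
        have hs' : s ∣ q - 1 := by rw [hq1]; exact Dvd.dvd.mul_left hsd 2
        exact ⟨Dvd.dvd.mul_right hr' _, Dvd.dvd.mul_right hs' _, Or.inr (Or.inr (Or.inr ⟨hr', hs'⟩))⟩
    · rintro ⟨hne, hr, hs, hr1, hs1, h⟩
      refine ⟨hne, hr, hs, ?_⟩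
      have hcop : Nat.Coprime r s := (Nat.coprime_primes hr hs).mpr hne
      rw [hfac] at hr1 hs1
      rcases h with h | h | ⟨h1, h2⟩ | ⟨h1, h2⟩
      · subst h
        rcases (Nat.Prime.dvd_mul hs).mp hs1 with h' | h'
        · exact ⟨q - 1, Dq2, hcop.mul_dvd_of_dvd_of_dvd h2m h'⟩
        · exact ⟨q + 1, Dq1, hcop.mul_dvd_of_dvd_of_dvd h2p h'⟩
      · subst h
        rcases (Nat.Prime.dvd_mul hr).mp hr1 with h' | h'
        · exact ⟨q - 1, Dq2, hcop.mul_dvd_of_dvd_of_dvd h' h2m⟩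
        · exact ⟨q + 1, Dq1, hcop.mul_dvd_of_dvd_of_dvd h' h2p⟩
      · exact ⟨q + 1, Dq1, hcop.mul_dvd_of_dvd_of_dvd h1 h2⟩
      · exact ⟨q - 1, Dq2, hcop.mul_dvd_of_dvd_of_dvd h1 h2⟩

/-- Let F be a finite field of odd characteristic t with q > 5 elements and let S be isomorphic to PSL(2,F) or to SL(2,F). Then the vertices of the character degree graph of S are the primes dividing q(q²−1); the prime t is adjacent to no vertex; two distinct primes dividing q² − 1 are adjacent exactly when one of them is 2, or both divide q + 1, or both divide q − 1. -/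
theorem result (F : Type*) [Field F] [Fintype F] (t : ℕ) [Fact t.Prime] [CharP F t] (ht : t ≠ 2) (q : ℕ) (hq : Fintype.card F = q) (h5 : 5 < q) {S : Type*} [Group S] [Finite S] (hS : Nonempty (S ≃* Matrix.ProjectiveSpecialLinearGroup (Fin 2) F) ∨ Nonempty (S ≃* Matrix.SpecialLinearGroup (Fin 2) F)) : Cfsg.degreePrimes S = {r : ℕ | r.Prime ∧ r ∣ q * (q ^ 2 - 1)} ∧ ∀ r s : ℕ, (Cfsg.degreeGraph S).Adj r s ↔ (r ≠ s ∧ r.Prime ∧ s.Prime ∧ r ∣ q ^ 2 - 1 ∧ s ∣ q ^ 2 - 1 ∧ (r = 2 ∨ s = 2 ∨ (r ∣ q + 1 ∧ s ∣ q + 1) ∨ (r ∣ q - 1 ∧ s ∣ q - 1))) := by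
  classical
  subst hq
  have htp : t.Prime := Fact.out
  obtain ⟨k, -, hk⟩ := FiniteField.card F t
  have hodd : Odd (Fintype.card F) := by
    rw [hk]
    exact Odd.pow (htp.odd_of_ne_two ht)
  have h7 : 7 ≤ Fintype.card F := by
    obtain ⟨m, hm⟩ := hodd
    omega
  have hgood : GoodDegrees (charDegrees S) (Fintype.card F) := by
    rcases hS with ⟨⟨e⟩⟩ | ⟨⟨e⟩⟩
    · rw [Cfsg.Agent.S4812.charDegrees_congr e]; exact good_PSL2 hodd h7
    · rw [Cfsg.Agent.S4812.charDegrees_congr e]; exact good_SL2 hodd h7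
  obtain ⟨g1, g2⟩ := graph_of_good (charDegrees S) (Fintype.card F) t k htp ht hk h5 hgood
  exact ⟨g1, g2⟩

end Cfsg.Agent.S4774
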