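import Cfsg.Statements.S4784
import Cfsg.Agent.Lib.Helper79.CosetSums
import Cfsg.Agent.Lib.Helper79.LinearChars
import Cfsg.Agent.Lib.Helper81.CharInd
import Cfsg.Agent.Lib.Helper80.FrobSchur2
import Cfsg.Agent.S0161

set_option autoImplicit false
open Cfsg

namespace Cfsg.Agent.S4784

open Cfsg.Agent.Helper79
open scoped ComplexConjugate

section Aux

variable {G : Type*} [Group G] [Fintype G]

/-- the permutation character on the cosets of `H` -/
noncomputable def permChar (H : Subgroup G) : G → ℂ := Cfsg.indFun H (fun _ : H => (1 : ℂ))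

open Classical in
theorem extend_one_apply (H : Subgroup G) (z : G) :
    Cfsg.extendByZero H (fun _ : H => (1 : ℂ)) z = if z ∈ H then 1 else 0 := by
  split_ifs with hz
  · rw [Cfsg.Agent.Helper81.extendByZero_apply_mem H _ hz]
  · rw [Cfsg.Agent.Helper81.extendByZero_apply_not_mem H _ hz]

open Classical in
theorem permChar_apply (H : Subgroup G) (g : G) :
    permChar H g = (Nat.card H : ℂ)⁻¹ * ∑ x : G, (if x⁻¹ * g * x ∈ H then (1 : ℂ) else 0) := by
  unfold permChar
  rw [Cfsg.Agent.Helper81.indFun_apply]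
  congr 1
  apply Finset.sum_congr rfl
  intro x _
  exact extend_one_apply H _

/-- the permutation character is constant on cosets of the core -/
theorem permChar_mul_core (H : Subgroup G) (g k : G) (hk : k ∈ H.normalCore) :
    permChar H (g * k) = permChar H g := by
  classical
  rw [permChar_apply, permChar_apply]
  congr 1
  apply Finset.sum_congr rfl
  intro x _
  have h1 : x⁻¹ * k * x ∈ H := by
    have := Subgroup.Normal.conj_mem (Subgroup.normalCore_normal H) k hk x⁻¹
    rw [inv_inv] at this
    exact Subgroup.normalCore_le H this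
  have h2 : x⁻¹ * (g * k) * x = (x⁻¹ * g * x) * (x⁻¹ * k * x) := by group
  have h3 : x⁻¹ * (g * k) * x ∈ H ↔ x⁻¹ * g * x ∈ H := by
    rw [h2]
    exact Subgroup.mul_mem_cancel_right H h1
  simp only [h3]

/-- multiplicity of the principal character -/
theorem classInner_permChar_one (H : Subgroup G) :
    Cfsg.classInner (permChar H) (fun _ : G => (1 : ℂ)) = 1 := by
  classical
  have : Fintype H := Fintype.ofFinite H
  unfold permChar
  rw [Cfsg.Agent.Helper81.frobenius_reciprocity H _ (χ := fun _ : G => (1 : ℂ)) (fun _ _ => rfl)]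
  unfold Cfsg.classInner
  simp only [map_one, mul_one, Finset.sum_const, Finset.card_univ, nsmul_eq_mul]
  rw [Nat.card_eq_fintype_card]
  have : (Fintype.card H : ℂ) ≠ 0 := by exact_mod_cast Fintype.card_ne_zero
  field_simp

/-- a constituent of the permutation character has the core in its kernel -/
theorem core_le_irrKer (H : Subgroup G) (χ : IrrCharacter G)
    (hχ : Cfsg.classInner (permChar H) (χ : G → ℂ) ≠ 0) : H.normalCore ≤ irrKer χ := by
  classical
  have : Finite G := Finite.of_fintype G
  by_contra hle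
  apply hχ
  have hKn : (H.normalCore).Normal := Subgroup.normalCore_normal H
  set F : G → ℂ := fun g => permChar H g * conj ((χ : G → ℂ) g) with hF
  have h1 : ∀ k : G, ∑ g : G, F g = ∑ g : G, F (g * k) := by
    intro k
    exact (Equiv.sum_comp (Equiv.mulRight k) F).symm
  have h2 : (Nat.card H.normalCore : ℂ) * ∑ g : G, F g
      = ∑ k : G, (if k ∈ H.normalCore then ∑ g : G, F (g * k) else 0) := by
    have h3 : ∀ k : G, (if k ∈ H.normalCore then ∑ g : G, F (g * k) else 0)
        = (if k ∈ H.normalCore then ∑ g : G, F g else 0) := by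
      intro k
      split_ifs
      · exact (h1 k).symm
      · rfl
    simp_rw [h3]
    rw [← Finset.sum_filter, Finset.sum_const, nsmul_eq_mul]
    congr 2
    rw [Nat.card_eq_fintype_card, Fintype.card_subtype]
  have h4 : ∑ k : G, (if k ∈ H.normalCore then ∑ g : G, F (g * k) else 0) = 0 := by
    have h5 : ∀ k : G, (if k ∈ H.normalCore then ∑ g : G, F (g * k) else 0)
        = ∑ g : G, (if k ∈ H.normalCore then F (g * k) else 0) := by
      intro k
      split_ifs
      · rfl
      · simp
    simp_rw [h5]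
    rw [Finset.sum_comm]
    apply Finset.sum_eq_zero
    intro g _
    have h6 : ∀ k : G, (if k ∈ H.normalCore then F (g * k) else 0)
        = permChar H g * conj (if k ∈ H.normalCore then (χ : G → ℂ) (g * k) else 0) := by
      intro k
      split_ifs with hk
      · simp only [hF]
        rw [permChar_mul_core H g k hk]
      · simp
    simp_rw [h6]
    rw [← Finset.mul_sum, ← map_sum, sum_coset_eq_zero H.normalCore χ hle g, map_zero, mul_zero]
  rw [h4] at h2
  have hK0 : (Nat.card H.normalCore : ℂ) ≠ 0 := by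
    exact_mod_cast (Nat.card_pos (α := H.normalCore)).ne'
  have h7 : ∑ g : G, F g = 0 := by
    rcases mul_eq_zero.1 h2 with h | h
    · exact absurd h hK0
    · exact h
  unfold Cfsg.classInner
  rw [show (∑ g : G, permChar H g * conj ((χ : G → ℂ) g)) = ∑ g : G, F g from rfl, h7, mul_zero]

/-- a real-valued irreducible character with a normal subgroup of odd index in its kernel is
trivial -/
theorem eq_trivChar_of_real_of_odd (K : Subgroup G) [K.Normal] (hodd : Odd K.index)
    (χ : IrrCharacter G) (hK : K ≤ irrKer χ)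
    (hreal : ∀ g : G, conj ((χ : G → ℂ) g) = (χ : G → ℂ) g) : χ = trivChar G := by
  have : Finite G := Finite.of_fintype G
  obtain ⟨ψ, hψ⟩ := exists_deflate K χ hK
  have hoddQ : Odd (Nat.card (G ⧸ K)) := by rw [← Subgroup.index_eq_card]; exact hodd
  have hψreal : ∀ q : G ⧸ K, ((ψ : G ⧸ K → ℂ) q).im = 0 := by
    intro q
    obtain ⟨g, rfl⟩ := QuotientGroup.mk_surjective q
    rw [← inflate_apply K ψ g, hψ]
    exact Complex.conj_eq_iff_im.1 (hreal g)
  have h1 := Cfsg.Agent.S0161.result hoddQ ψ hψreal
  rw [eq_trivChar_iff]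
  funext g
  rw [← hψ, inflate_apply, h1]

end Aux

/-- Let H be a subgroup of the finite group G and consider the permutation character of G on the cosets of H (the function induced from the principal character of H). Then exactly one irreducible constituent of it is real-valued with Frobenius–Schur indicator +1 (namely the principal character) if and only if the normal core of H has odd index in G. -/
theorem result {G : Type*} [Group G] [Fintype G] (H : Subgroup G) : Nat.card {χ : Cfsg.IrrCharacter G // Cfsg.classInner (Cfsg.indFun H (fun _ : H => (1 : ℂ))) (χ : G → ℂ) ≠ 0 ∧ (∀ g : G, (starRingEnd ℂ) ((χ : G → ℂ) g) = (χ : G → ℂ) g) ∧ (Nat.card G : ℂ)⁻¹ * ∑ g : G, (χ : G → ℂ) (g * g) = 1} = 1 ↔ Odd H.normalCore.index := by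
  classical
  have hfin : Finite G := Finite.of_fintype G
  have hG0 : (Nat.card G : ℂ) ≠ 0 := by exact_mod_cast (Nat.card_pos (α := G)).ne'
  have hKn : H.normalCore.Normal := Subgroup.normalCore_normal H
  have htfun : ((trivChar G : IrrCharacter G) : G → ℂ) = fun _ => (1 : ℂ) :=
    (eq_trivChar_iff (trivChar G)).1 rfl
  have htmem : Cfsg.classInner (permChar H) ((trivChar G : IrrCharacter G) : G → ℂ) ≠ 0 ∧
      (∀ g : G, (starRingEnd ℂ) ((trivChar G : G → ℂ) g) = (trivChar G : G → ℂ) g) ∧
      (Nat.card G : ℂ)⁻¹ * ∑ g : G, (trivChar G : G → ℂ) (g * g) = 1 := by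
    refine ⟨?_, ?_, ?_⟩
    · rw [htfun, classInner_permChar_one]; exact one_ne_zero
    · intro g; rw [trivChar_apply]; simp
    · simp only [trivChar_apply, Finset.sum_const, Finset.card_univ, nsmul_eq_mul, mul_one]
      rw [Nat.card_eq_fintype_card]
      have : (Fintype.card G : ℂ) ≠ 0 := by exact_mod_cast Fintype.card_ne_zero
      field_simp
  show Nat.card {χ : IrrCharacter G // Cfsg.classInner (permChar H) (χ : G → ℂ) ≠ 0 ∧
      (∀ g : G, (starRingEnd ℂ) ((χ : G → ℂ) g) = (χ : G → ℂ) g) ∧
      (Nat.card G : ℂ)⁻¹ * ∑ g : G, (χ : G → ℂ) (g * g) = 1} = 1 ↔ _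
  constructor
  · intro hcard
    rw [Nat.card_eq_one_iff_unique] at hcard
    obtain ⟨hsub, -⟩ := hcard
    by_contra hodd
    rw [Nat.not_odd_iff_even] at hodd
    have h2dvd : 2 ∣ Nat.card (G ⧸ H.normalCore) := by
      rw [← Subgroup.index_eq_card]; exact hodd.two_dvd
    have : Fact (Nat.Prime 2) := ⟨Nat.prime_two⟩
    obtain ⟨q, hq⟩ := exists_prime_orderOf_dvd_card' 2 h2dvd
    obtain ⟨t₀, rfl⟩ := QuotientGroup.mk_surjective q
    have ht1 : t₀ ∉ H.normalCore := by
      intro h
      have : (QuotientGroup.mk t₀ : G ⧸ H.normalCore) = 1 := (QuotientGroup.eq_one_iff t₀).2 h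
      rw [this, orderOf_one] at hq
      omega
    have ht2 : t₀ * t₀ ∈ H.normalCore := by
      rw [← QuotientGroup.eq_one_iff, QuotientGroup.mk_mul, ← sq, ← hq, pow_orderOf_eq_one]
    have hex : ∃ y : G, y ∉ H ∧ y * y ∈ H := by
      have h1 : ¬ ∀ b : G, b * t₀ * b⁻¹ ∈ H := fun h => ht1 h
      push Not at h1
      obtain ⟨b, hb⟩ := h1
      refine ⟨b * t₀ * b⁻¹, hb, ?_⟩
      have h2 : b * t₀ * b⁻¹ * (b * t₀ * b⁻¹) = b * (t₀ * t₀) * b⁻¹ := by group
      rw [h2]
      exact Subgroup.normalCore_le H (hKn.conj_mem _ ht2 b)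
    obtain ⟨y₀, hy1, hy2⟩ := hex
    set r : ℕ := (Finset.univ.filter (fun y : G => y * y ∈ H)).card with hr
    have hr_gt : Nat.card H < r := by
      have hsub' : Finset.univ.filter (fun y : G => y ∈ H) ⊂
          Finset.univ.filter (fun y : G => y * y ∈ H) := by
        rw [Finset.ssubset_iff_of_subset (fun y hy => by
          rw [Finset.mem_filter] at hy ⊢
          exact ⟨hy.1, H.mul_mem hy.2 hy.2⟩)]
        exact ⟨y₀, by simp [hy2], by simp [hy1]⟩
      have h1 := Finset.card_lt_card hsub'
      rwa [← Fintype.card_subtype, ← Nat.card_eq_fintype_card] at h1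
    have hH0 : (Nat.card H : ℂ) ≠ 0 := by exact_mod_cast (Nat.card_pos (α := H)).ne'
    have hS1 : ∑ g : G, permChar H (g * g) = (Nat.card G : ℂ) * (r : ℂ) / (Nat.card H : ℂ) := by
      simp_rw [permChar_apply]
      rw [← Finset.mul_sum, Finset.sum_comm]
      have h1 : ∀ x : G, ∑ g : G, (if x⁻¹ * (g * g) * x ∈ H then (1 : ℂ) else 0) = (r : ℂ) := by
        intro x
        rw [← Equiv.sum_comp (MulAut.conj x).toEquiv]
        have h2 : ∀ g : G, x⁻¹ * (((MulAut.conj x).toEquiv g) * ((MulAut.conj x).toEquiv g)) * x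
            = g * g := by
          intro g
          simp only [MulEquiv.toEquiv_eq_coe, MulEquiv.coe_toEquiv, MulAut.conj_apply]
          group
        simp_rw [h2]
        rw [Finset.sum_boole]
      simp_rw [h1]
      rw [Finset.sum_const, Finset.card_univ, nsmul_eq_mul]
      simp only [Nat.card_eq_fintype_card]
      ring
    have hchar : Cfsg.IsCharacter G (permChar H) :=
      Cfsg.Agent.Helper81.isCharacter_indFun H
        (Cfsg.Agent.Helper81.IsIrrCharacter.isCharacter Cfsg.Agent.Helper80.isIrrCharacter_one)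
    obtain ⟨m, hm⟩ := Cfsg.Agent.Helper81.exists_nat_decomp hchar
    have hmχ : ∀ χ : IrrCharacter G, Cfsg.classInner (permChar H) (χ : G → ℂ) = (m χ : ℂ) := by
      intro χ
      rw [hm]
      exact Cfsg.Agent.Helper81.classInner_nat_decomp (fun χ => (m χ : ℂ)) χ
    set ν : IrrCharacter G → ℂ := fun χ => (Nat.card G : ℂ)⁻¹ * ∑ g : G, (χ : G → ℂ) (g * g)
      with hν
    have hS2 : ∑ g : G, permChar H (g * g)
        = (Nat.card G : ℂ) * ∑ χ : IrrCharacter G, (m χ : ℂ) * ν χ := by
      have h1 : ∀ g : G, permChar H (g * g)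
          = ∑ χ : IrrCharacter G, (m χ : ℂ) * (χ : G → ℂ) (g * g) := by
        intro g
        have := congrFun hm (g * g)
        rw [this, Finset.sum_apply]
        apply Finset.sum_congr rfl
        intro χ _
        rfl
      simp_rw [h1]
      rw [Finset.sum_comm, Finset.mul_sum]
      apply Finset.sum_congr rfl
      intro χ _
      simp only [hν]
      rw [← Finset.mul_sum]
      field_simp
    have hS : ∑ χ : IrrCharacter G, (m χ : ℂ) * ν χ = (r : ℂ) / (Nat.card H : ℂ) := by
      have h1 := hS1.symm.trans hS2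
      have h2 : (Nat.card G : ℂ) * ((r : ℂ) / (Nat.card H : ℂ))
          = (Nat.card G : ℂ) * ∑ χ : IrrCharacter G, (m χ : ℂ) * ν χ := by
        rw [← h1]; ring
      exact (mul_left_cancel₀ hG0 h2).symm
    have hbound : (∑ χ : IrrCharacter G, (m χ : ℂ) * ν χ).re ≤ 1 := by
      rw [Complex.re_sum, ← Finset.add_sum_erase _ _ (Finset.mem_univ (trivChar G))]
      have h1 : ((m (trivChar G) : ℂ) * ν (trivChar G)).re = 1 := by
        have h2 : (m (trivChar G) : ℂ) = 1 := by
          rw [← hmχ, htfun, classInner_permChar_one]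
        rw [h2, show ν (trivChar G) = 1 from htmem.2.2]
        simp
      have h2 : ∑ χ ∈ Finset.univ.erase (trivChar G), ((m χ : ℂ) * ν χ).re ≤ 0 := by
        apply Finset.sum_nonpos
        intro χ hχ
        have hne := Finset.ne_of_mem_erase hχ
        obtain ⟨h3, h4, -⟩ := Cfsg.Agent.Helper80.irr_fs χ
        rcases h3 with h | h | h
        · rw [show ν χ = 0 from h, mul_zero]; simp
        · by_cases hm0 : m χ = 0
          · rw [hm0]; simp
          · exfalso
            apply hne
            have hreal : ∀ g : G, (starRingEnd ℂ) ((χ : G → ℂ) g) = (χ : G → ℂ) g := by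
              intro g
              apply Complex.conj_eq_iff_im.2
              by_contra him
              have h5 := h4.2 ⟨g, him⟩
              rw [h5] at h
              exact zero_ne_one h
            have hmem : Cfsg.classInner (permChar H) (χ : G → ℂ) ≠ 0 ∧
                (∀ g : G, (starRingEnd ℂ) ((χ : G → ℂ) g) = (χ : G → ℂ) g) ∧
                (Nat.card G : ℂ)⁻¹ * ∑ g : G, (χ : G → ℂ) (g * g) = 1 :=
              ⟨by rw [hmχ]; exact_mod_cast hm0, hreal, h⟩
            exact congrArg Subtype.val (hsub.elim ⟨χ, hmem⟩ ⟨trivChar G, htmem⟩)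
        · rw [show ν χ = -1 from h]
          simp
      linarith
    rw [hS] at hbound
    have h3 : ((r : ℂ) / (Nat.card H : ℂ)).re = (r : ℝ) / (Nat.card H : ℝ) := by
      have : ((r : ℂ) / (Nat.card H : ℂ)) = (((r : ℝ) / (Nat.card H : ℝ) : ℝ) : ℂ) := by
        push_cast; ring
      rw [this, Complex.ofReal_re]
    rw [h3] at hbound
    have hHpos : (0 : ℝ) < Nat.card H := by exact_mod_cast (Nat.card_pos (α := H))
    rw [div_le_one hHpos] at hbound
    have : (Nat.card H : ℝ) < r := by exact_mod_cast hr_gt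
    linarith
  · intro hodd
    rw [Nat.card_eq_one_iff_unique]
    refine ⟨⟨?_⟩, ⟨⟨trivChar G, htmem⟩⟩⟩
    rintro ⟨χ, h1, h2, h3⟩ ⟨ψ, h4, h5, h6⟩
    apply Subtype.ext
    show χ = ψ
    rw [eq_trivChar_of_real_of_odd H.normalCore hodd χ (core_le_irrKer H χ h1) h2,
      eq_trivChar_of_real_of_odd H.normalCore hodd ψ (core_le_irrKer H ψ h4) h5]

end Cfsg.Agent.S4784
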