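import Cfsg.Statements.S4797
import Cfsg.Agent.Lib.Helper79.Linear

set_option autoImplicit false
set_option linter.style.haveILetI false
open Cfsg

namespace Cfsg.Agent.S4797


/-- a perfect group has only trivial homomorphisms to commutative groups -/
theorem hom_trivial_of_perfect {H A : Type*} [Group H] [Group A]
    (hA : ∀ a b : A, a * b = b * a)
    (hperf : commutator H = ⊤) (f : H →* A) (h : H) : f h = 1 := by
  have h1 : commutator H ≤ f.ker := by
    rw [commutator_eq_closure, Subgroup.closure_le]
    rintro x ⟨a, b, rfl⟩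
    rw [SetLike.mem_coe, MonoidHom.mem_ker, commutatorElement_def]
    simp only [map_mul, map_inv]
    rw [hA (f a) (f b)]
    group
  rw [hperf] at h1
  exact MonoidHom.mem_ker.1 (h1 (Subgroup.mem_top h))

theorem no_perfect_of_card {H : Type*} [Group H] [Finite H] (hperf : commutator H = ⊤)
    (p d : ℕ) (hp : p.Prime) (hd : 0 < d) (hdp : d < p) (hcard : Nat.card H = p * d) : False := by
  haveI := Fact.mk hp
  let P : Sylow p H := default
  have hpd : ¬ p ∣ d := fun h => absurd (Nat.le_of_dvd hd h) (by omega)
  -- |P| = p
  have hPcard : Nat.card P = p := by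
    have h1 := Sylow.card_eq_multiplicity P
    rw [hcard, Nat.factorization_mul hp.ne_zero hd.ne'] at h1
    simp only [Finsupp.coe_add, Pi.add_apply] at h1
    rw [Nat.Prime.factorization_self hp, Nat.factorization_eq_zero_of_not_dvd hpd] at h1
    simpa using h1
  have hidx : (P : Subgroup H).index = d := by
    have h1 := Subgroup.card_mul_index (P : Subgroup H)
    rw [hPcard, hcard] at h1
    exact Nat.eq_of_mul_eq_mul_left hp.pos h1
  -- number of Sylow subgroups is one
  have hn1 : Nat.card (Sylow p H) = 1 := by
    have h1 := card_sylow_modEq_one p H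
    have h2 := Sylow.card_dvd_index P
    rw [hidx] at h2
    have h3 : Nat.card (Sylow p H) ≤ d := Nat.le_of_dvd hd h2
    have h4 : Nat.card (Sylow p H) < p := by omega
    unfold Nat.ModEq at h1
    rw [Nat.mod_eq_of_lt h4, Nat.mod_eq_of_lt hp.one_lt] at h1
    exact h1
  haveI : Subsingleton (Sylow p H) := (Nat.card_eq_one_iff_unique.1 hn1).1
  haveI hPn : (P : Subgroup H).Normal := Sylow.normal_of_subsingleton P
  -- P is cyclic
  haveI hcyc : IsCyclic (P : Subgroup H) := isCyclic_of_prime_card hPcard
  -- conjugation action is trivial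
  have hcentral : ∀ h : H, ∀ x ∈ (P : Subgroup H), h * x * h⁻¹ = x := by
    intro h x hx
    let φ : H →* MulAut (P : Subgroup H) := MulAut.conjNormal
    let ψ : H →* (ZMod (Nat.card (P : Subgroup H)))ˣ :=
      (IsCyclic.mulAutMulEquiv (P : Subgroup H)).toMonoidHom.comp φ
    have h1 : ψ h = 1 := hom_trivial_of_perfect mul_comm hperf ψ h
    have h2 : φ h = 1 := by
      have : (IsCyclic.mulAutMulEquiv (P : Subgroup H)) (φ h) = 1 := h1
      exact (MulEquiv.map_eq_one_iff _).1 this
    have h3 : φ h ⟨x, hx⟩ = ⟨x, hx⟩ := by rw [h2]; rfl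
    have h4 := congrArg Subtype.val h3
    simpa [φ, MulAut.conjNormal_apply] using h4
  -- Burnside transfer
  have hNC : Subgroup.normalizer ((P : Subgroup H) : Set H) ≤
      Subgroup.centralizer ((P : Subgroup H) : Set H) := by
    intro h _
    rw [Subgroup.mem_centralizer_iff]
    intro x hx
    have := hcentral h x hx
    calc x * h = (h * x * h⁻¹) * h := by rw [this]
      _ = h * x := by group
  have hcompl := MonoidHom.ker_transferSylow_isComplement' P hNC
  have hker : (MonoidHom.transferSylow P hNC).ker = ⊤ := by
    have hPc : ∀ a b : (P : Subgroup H), a * b = b * a :=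
      fun a b => Subtype.ext (hNC (Subgroup.le_normalizer b.2) a a.2)
    ext h
    simp only [MonoidHom.mem_ker, Subgroup.mem_top, iff_true]
    exact hom_trivial_of_perfect hPc hperf (MonoidHom.transferSylow P hNC) h
  rw [hker] at hcompl
  have h5 := hcompl.card_mul_card
  rw [hPcard, Subgroup.card_top, hcard] at h5
  have : d = 1 ∧ False := by
    have h6 : p * d * p = p * d := h5
    have h7 : p * d * p = p * d * 1 := by rw [h6]; ring
    have h8 : p = 1 := Nat.eq_of_mul_eq_mul_left (Nat.mul_pos hp.pos hd) h7
    exact absurd h8 hp.one_lt.ne'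
  exact this.2



/-- a finite group that is not perfect has a homomorphism to `ℂˣ` whose kernel has prime index -/
theorem exists_hom_prime_index {G : Type*} [Group G] [Finite G] (h : commutator G ≠ ⊤) :
    ∃ (l : G →* ℂˣ) (p : ℕ), p.Prime ∧ l.ker.index = p := by
  -- an element outside the commutator subgroup
  have hex : ∃ g : G, g ∉ commutator G := by
    by_contra hcon
    push Not at hcon
    exact h (eq_top_iff.2 (fun g _ => hcon g))
  obtain ⟨g, hg⟩ := hex
  have ha : (Abelianization.of g : Abelianization G) ≠ 1 := by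
    intro h1
    apply hg
    have : (QuotientGroup.mk g : G ⧸ commutator G) = 1 := h1
    exact (QuotientGroup.eq_one_iff g).1 this
  obtain ⟨φ, hφ⟩ := CommGroup.exists_apply_ne_one_of_hasEnoughRootsOfUnity (Abelianization G) ℂ ha
  let l0 : G →* ℂˣ := φ.comp Abelianization.of
  have hl0 : l0 g ≠ 1 := hφ
  let R : Subgroup ℂˣ := l0.range
  haveI : Finite R := Finite.of_surjective _ l0.rangeRestrict_surjective
  set n := Nat.card R with hn
  have hn1 : n ≠ 1 := by
    intro h1
    have hsub : Subsingleton R := (Nat.card_eq_one_iff_unique.1 h1).1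
    have : (⟨l0 g, ⟨g, rfl⟩⟩ : R) = 1 := Subsingleton.elim _ _
    apply hl0
    exact congrArg Subtype.val this
  let p := n.minFac
  have hp : p.Prime := Nat.minFac_prime hn1
  have hpn : p ∣ n := Nat.minFac_dvd n
  let k := n / p
  let l1 : G →* R := l0.rangeRestrict
  let l2 : G →* R := (powMonoidHom k : R →* R).comp l1
  have hrange : l2.range = (powMonoidHom k : R →* R).range := by
    rw [MonoidHom.range_comp, MonoidHom.range_eq_top.2 l0.rangeRestrict_surjective,
      ← MonoidHom.range_eq_map]
  have hcard : Nat.card l2.range = p := by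
    rw [hrange, IsCyclic.card_powMonoidHom_range]
    have hnpos : 0 < n := Nat.card_pos
    have hk : k ∣ n := Nat.div_dvd_of_dvd hpn
    have hkpos : 0 < k := Nat.div_pos (Nat.le_of_dvd hnpos hpn) hp.pos
    rw [← hn, Nat.gcd_eq_right hk]
    exact Nat.div_div_self hpn hnpos.ne'
  refine ⟨R.subtype.comp l2, p, hp, ?_⟩
  have hker : (R.subtype.comp l2).ker = l2.ker := by
    ext x
    simp only [MonoidHom.mem_ker, MonoidHom.comp_apply]
    constructor
    · intro hx
      exact Subtype.ext hx
    · intro hx
      rw [hx]; rfl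
  rw [hker, Subgroup.index_ker, hcard]


open Cfsg.Agent.Helper79

/-- a quotient of a perfect group is perfect -/
theorem quotient_perfect {G : Type*} [Group G] (hperf : commutator G = ⊤) (K : Subgroup G)
    [K.Normal] : commutator (G ⧸ K) = ⊤ := by
  rw [commutator_def] at hperf ⊢
  have h1 := Subgroup.map_commutator (⊤ : Subgroup G) ⊤ (QuotientGroup.mk' K)
  rw [hperf, Subgroup.map_top_of_surjective _ (QuotientGroup.mk'_surjective K)] at h1
  exact h1.symm

/-- the degree of an irreducible character is smaller than any prime `p` with `|G| = p * d` -/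
theorem degree_lt_of_card {H : Type*} [Group H] [Finite H] (ψ : IrrCharacter H) (p : ℕ)
    (hp : p.Prime) (hcard : Nat.card H = p * charDegree (ψ : H → ℂ)) :
    charDegree (ψ : H → ℂ) < p := by
  haveI := Fintype.ofFinite H
  have hsum := sum_sq_degree_nat (G := H)
  set d := charDegree (ψ : H → ℂ) with hd
  have hdpos : 0 < d := (irr_one_eq ψ).2
  by_cases hψ : ψ = trivChar H
  · have h1 : d = 1 := by
      rw [hd, hψ]
      exact charDegree_linChar _
    rw [h1]
    exact hp.one_lt
  · have h2 : ({ψ, trivChar H} : Finset (IrrCharacter H)) ⊆ Finset.univ := Finset.subset_univ _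
    have h3 := Finset.sum_le_sum_of_subset (f := fun χ : IrrCharacter H =>
      (charDegree (χ : H → ℂ)) ^ 2) h2
    rw [Finset.sum_pair hψ, hsum, hcard] at h3
    have h4 : charDegree (trivChar H : H → ℂ) = 1 := charDegree_linChar _
    simp only [h4] at h3
    have h5 : d ^ 2 + 1 ≤ p * d := by simpa using h3
    by_contra hge
    push Not at hge
    have : p * d ≤ d * d := Nat.mul_le_mul_right d hge
    nlinarith

/-- The codegree of an irreducible complex character χ of a finite group G is [G : ker χ] / χ(1), where ker χ is the set of elements at which χ takes the value χ(1). A non-trivial finite group is perfect if and only if no irreducible complex character of it has prime codegree. -/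
theorem result {G : Type*} [Group G] [Finite G] [Nontrivial G] : commutator G = ⊤ ↔ ∀ χ : Cfsg.IrrCharacter G, ¬ ((Nat.card G / (Nat.card {g : G // (χ : G → ℂ) g = (χ : G → ℂ) 1} * Cfsg.charDegree (χ : G → ℂ)))).Prime := by
  constructor
  · intro hperf χ hprime
    set p := Nat.card G / (Nat.card {g : G // (χ : G → ℂ) g = (χ : G → ℂ) 1} *
      Cfsg.charDegree (χ : G → ℂ)) with hp
    have hmul : p * charDegree (χ : G → ℂ) = (irrKer χ).index := codegree_mul χ
    obtain ⟨ψ, hψ⟩ := exists_deflate (irrKer χ) χ le_rfl
    have hdeg : charDegree (ψ : G ⧸ irrKer χ → ℂ) = charDegree (χ : G → ℂ) := by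
      have h1 := charDegree_inflate (irrKer χ) ψ
      rw [hψ] at h1
      exact h1.symm
    have hcard : Nat.card (G ⧸ irrKer χ) = p * charDegree (ψ : G ⧸ irrKer χ → ℂ) := by
      rw [hdeg, hmul, Subgroup.index_eq_card]
    have hlt := degree_lt_of_card ψ p hprime hcard
    exact no_perfect_of_card (quotient_perfect hperf (irrKer χ)) p _ hprime (irr_one_eq ψ).2 hlt
      hcard
  · intro hall
    by_contra hnp
    obtain ⟨l, p, hp, hidx⟩ := exists_hom_prime_index hnp
    apply hall (linChar l)
    rw [card_irrKer, irrKer_linChar, charDegree_linChar, mul_one]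
    have h1 := Subgroup.card_mul_index l.ker
    rw [← h1, Nat.mul_div_cancel_left _ Nat.card_pos, hidx]
    exact hp

end Cfsg.Agent.S4797
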