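import Cfsg.Statements.S4796
import Cfsg.Agent.Lib.Helper79.Restrict
import Cfsg.Agent.Lib.Helper96.Frobenius
import Cfsg.Agent.S4797

set_option autoImplicit false
open Cfsg

namespace Cfsg.Agent.S4796

open Cfsg.Agent.Helper79
open scoped Pointwise

/-- a group of order `p * d` with `d < p` has a normal subgroup of order `p` -/
theorem exists_normal_of_card {H : Type*} [Group H] [Finite H]
    (p d : ℕ) (hp : p.Prime) (hd : 0 < d) (hdp : d < p) (hcard : Nat.card H = p * d) :
    ∃ P : Subgroup H, P.Normal ∧ Nat.card P = p ∧ P.index = d := by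
  have := Fact.mk hp
  let P : Sylow p H := default
  have hpd : ¬ p ∣ d := fun h => absurd (Nat.le_of_dvd hd h) (by omega)
  have hPcard : Nat.card P = p := by
    have h1 := Sylow.card_eq_multiplicity P
    rw [hcard, Nat.factorization_mul hp.ne_zero hd.ne'] at h1
    simp only [Finsupp.coe_add, Pi.add_apply] at h1
    rw [Nat.Prime.factorization_self hp, Nat.factorization_eq_zero_of_not_dvd hpd] at h1
    simpa using h1
  have hidx : (P : Subgroup H).index = d := by
    have h1 := Subgroup.card_mul_index (P : Subgroup H)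
    rw [hPcard, hcard] at h1
    exact Nat.eq_of_mul_eq_mul_left hp.pos h1
  have hn1 : Nat.card (Sylow p H) = 1 := by
    have h1 := card_sylow_modEq_one p H
    have h2 := Sylow.card_dvd_index P
    rw [hidx] at h2
    have h3 : Nat.card (Sylow p H) ≤ d := Nat.le_of_dvd hd h2
    have h4 : Nat.card (Sylow p H) < p := by omega
    unfold Nat.ModEq at h1
    rw [Nat.mod_eq_of_lt h4, Nat.mod_eq_of_lt hp.one_lt] at h1
    exact h1
  have : Subsingleton (Sylow p H) := (Nat.card_eq_one_iff_unique.1 hn1).1
  exact ⟨P, Sylow.normal_of_subsingleton P, hPcard, hidx⟩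

/-- a complement of a self-centralizing normal subgroup of prime order is a Frobenius complement -/
theorem isFrobeniusComplement_of {G : Type*} [Group G] [Finite G] (P H : Subgroup G) [hPn : P.Normal]
    (p : ℕ) [Fact p.Prime] (hP : Nat.card P = p) (hC : Subgroup.centralizer (P : Set G) ≤ P)
    (hcompl : P.IsComplement' H) (hH : H ≠ ⊥) : Cfsg.IsFrobeniusComplement H := by
  have hdisj : P ⊓ H = ⊥ := hcompl.disjoint.eq_bot
  refine ⟨hH, ?_, ?_⟩
  · intro htop
    rw [htop, inf_top_eq] at hdisj
    rw [hdisj, Subgroup.card_bot] at hP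
    exact (Fact.out : p.Prime).one_lt.ne' hP.symm
  · intro g hg
    rw [eq_bot_iff]
    intro y hy
    have hyH : y ∈ H := (Subgroup.mem_inf.1 hy).1
    have hyc : y ∈ MulAut.conj g • H := (Subgroup.mem_inf.1 hy).2
    rw [Cfsg.Agent.Helper96.mem_conj_smul_iff] at hyc
    rw [Subgroup.mem_bot]
    obtain ⟨⟨⟨x, hx⟩, ⟨h, hh⟩⟩, hxh, -⟩ := (Subgroup.isComplement'_def.1 hcompl).existsUnique g
    simp only at hxh
    have hx1 : x ≠ 1 := by
      rintro rfl
      apply hg
      rw [← hxh, one_mul]; exact hh
    -- x⁻¹ y x ∈ H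
    have h1 : x⁻¹ * y * x ∈ H := by
      have : x⁻¹ * y * x = h * (g⁻¹ * y * g) * h⁻¹ := by rw [← hxh]; group
      rw [this]
      exact H.mul_mem (H.mul_mem hh hyc) (H.inv_mem hh)
    have h2 : y⁻¹ * (x⁻¹ * y * x) ∈ P ⊓ H := by
      refine ⟨?_, H.mul_mem (H.inv_mem hyH) h1⟩
      have h3 : y⁻¹ * x⁻¹ * y⁻¹⁻¹ ∈ P := hPn.conj_mem _ (P.inv_mem hx) y⁻¹
      have : y⁻¹ * (x⁻¹ * y * x) = (y⁻¹ * x⁻¹ * y⁻¹⁻¹) * x := by group
      rw [this]
      exact P.mul_mem h3 hx
    rw [hdisj, Subgroup.mem_bot] at h2
    have hcomm : x * y = y * x := by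
      have := congrArg (fun w => x * y * w) h2
      simp only [mul_one] at this
      rw [← this]; group
    -- y centralizes P
    have hyC : y ∈ Subgroup.centralizer (P : Set G) := by
      rw [Subgroup.mem_centralizer_iff]
      intro z hz
      have htop := zpowers_eq_top_of_prime_card hP (g := (⟨x, hx⟩ : P))
        (fun h' => hx1 (congrArg Subtype.val h'))
      have hmem : (⟨z, hz⟩ : P) ∈ Subgroup.zpowers (⟨x, hx⟩ : P) := by rw [htop]; trivial
      obtain ⟨i, hi⟩ := Subgroup.mem_zpowers_iff.1 hmem
      have hz' : z = x ^ i := by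
        have := congrArg Subtype.val hi
        simpa using this.symm
      rw [hz']
      have hc : Commute x y := hcomm
      exact (hc.zpow_left i).eq
    have hyP : y ∈ P ⊓ H := ⟨hC hyC, hyH⟩
    rw [hdisj, Subgroup.mem_bot] at hyP
    exact hyP

/-- Let G be a finite group with a faithful irreducible complex character χ whose codegree #G / χ(1) is a prime p (for a faithful character the kernel is trivial, so the codegree is #G / χ(1)). Then either G is cyclic of order p, or G is a Frobenius group whose Frobenius kernel has order p: some proper non-trivial subgroup H satisfies H ∩ gHg⁻¹ = 1 for every element g outside H, and the set of elements lying in no conjugate of H, together with the identity, has exactly p elements. -/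
theorem result {G : Type*} [Group G] [Finite G] (χ : Cfsg.IrrCharacter G) (hfaith : ∀ g : G, (χ : G → ℂ) g = (χ : G → ℂ) 1 → g = 1) (p : ℕ) (hp : p.Prime) (hcod : Nat.card G = p * Cfsg.charDegree (χ : G → ℂ)) : (IsCyclic G ∧ Nat.card G = p) ∨ ∃ H : Subgroup G, Cfsg.IsFrobeniusComplement H ∧ Nat.card ↥(Cfsg.frobeniusKernel H) = p := by
  have := Fact.mk hp
  set d := Cfsg.charDegree (χ : G → ℂ) with hd
  have hdpos : 0 < d := (irr_one_eq χ).2
  have hdp : d < p := Cfsg.Agent.S4797.degree_lt_of_card χ p hp hcod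
  obtain ⟨P, hPn, hPcard, hPidx⟩ := exists_normal_of_card p d hp hdpos hdp hcod
  by_cases hd1 : d = 1
  · left
    rw [hd1, mul_one] at hcod
    exact ⟨isCyclic_of_prime_card hcod, hcod⟩
  right
  have hPcyc : IsCyclic P := isCyclic_of_prime_card hPcard
  have hPC : P ≤ Subgroup.centralizer (P : Set G) := by
    intro a ha
    rw [Subgroup.mem_centralizer_iff]
    intro b hb
    obtain ⟨c, hc⟩ := IsCyclic.exists_generator (α := P)
    obtain ⟨i, hi⟩ := Subgroup.mem_zpowers_iff.1 (hc ⟨a, ha⟩)
    obtain ⟨j, hj⟩ := Subgroup.mem_zpowers_iff.1 (hc ⟨b, hb⟩)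
    have ha' : a = (c : G) ^ i := by simpa using (congrArg Subtype.val hi).symm
    have hb' : b = (c : G) ^ j := by simpa using (congrArg Subtype.val hj).symm
    rw [ha', hb', ← zpow_add, ← zpow_add, add_comm]
  have hle := card_centralizer_le χ P p hp.pos hPcard hPC hcod
  have hCP : Subgroup.centralizer (P : Set G) ≤ P := by
    have := Subgroup.eq_of_le_of_card_ge hPC (by rw [hPcard]; exact hle)
    rw [← this]
  have hcop : (Nat.card P).Coprime P.index := by
    rw [hPcard, hPidx]
    exact (Nat.Prime.coprime_iff_not_dvd hp).2 (fun h => absurd (Nat.le_of_dvd hdpos h) (by omega))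
  obtain ⟨H, hH⟩ := Subgroup.exists_right_complement'_of_coprime hcop
  have hHcard : Nat.card H = d := by
    have := hH.card_mul_card
    rw [hPcard, hcod] at this
    exact Nat.eq_of_mul_eq_mul_left hp.pos this
  have hHbot : H ≠ ⊥ := by
    intro h
    rw [h, Subgroup.card_bot] at hHcard
    exact hd1 hHcard.symm
  have hFrob := isFrobeniusComplement_of P H p hPcard hCP hH hHbot
  refine ⟨H, hFrob, ?_⟩
  rw [Cfsg.Agent.Helper96.card_frobeniusKernel hFrob]
  have := Subgroup.card_mul_index H
  rw [hHcard, hcod, mul_comm] at this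
  exact Nat.eq_of_mul_eq_mul_right hdpos this

end Cfsg.Agent.S4796
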