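import Cfsg.Statements.S4801
import Cfsg.Agent.Lib.Helper79.Codegree
import Cfsg.Agent.Lib.Helper79.LinearChars

set_option autoImplicit false
open Cfsg

namespace Cfsg.Agent.S4801

open Cfsg.Agent.Helper79

/-- if `p` divides the order, some nontrivial irreducible character has degree prime to `p` -/
theorem exists_nontrivial_coprime_degree {S : Type*} [Group S] [Finite S] (p : ℕ)
    (hp : p.Prime) (hpS : p ∣ Nat.card S) :
    ∃ χ : IrrCharacter S, χ ≠ trivChar S ∧ ¬ p ∣ charDegree (χ : S → ℂ) := by
  classical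
  have := Fintype.ofFinite S
  by_contra hcon
  push Not at hcon
  have h1 := sum_sq_degree_nat (G := S)
  rw [← Finset.add_sum_erase _ _ (Finset.mem_univ (trivChar S)), charDegree_trivChar] at h1
  have h2 : p ∣ ∑ χ ∈ Finset.univ.erase (trivChar S), (charDegree (χ : S → ℂ)) ^ 2 := by
    apply Finset.dvd_sum
    intro χ hχ
    exact dvd_pow (hcon χ (Finset.ne_of_mem_erase hχ)) two_ne_zero
  have h3 : p ∣ 1 ^ 2 := by
    have := (Nat.dvd_add_iff_left h2).2 (h1 ▸ hpS)
    exact this
  rw [one_pow] at h3
  exact hp.one_lt.ne' (Nat.dvd_one.1 h3)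

/-- The codegree of an irreducible complex character χ of a finite group G is [G : ker χ] / χ(1), where ker χ is the set of elements at which χ takes the value χ(1). Let S be a finite simple group and G a finite group such that every codegree of an irreducible character of S is a codegree of an irreducible character of G. Then the order of S divides the order of G. -/
theorem result {S : Type*} [Group S] [Finite S] (hS : IsSimpleGroup S) {G : Type*} [Group G] [Finite G] (hsub : ∀ χ : Cfsg.IrrCharacter S, ∃ ψ : Cfsg.IrrCharacter G, (Nat.card S / (Nat.card {g : S // (χ : S → ℂ) g = (χ : S → ℂ) 1} * Cfsg.charDegree (χ : S → ℂ))) = (Nat.card G / (Nat.card {g : G // (ψ : G → ℂ) g = (ψ : G → ℂ) 1} * Cfsg.charDegree (ψ : G → ℂ)))) : Nat.card S ∣ Nat.card G := by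
  classical
  have hS0 : Nat.card S ≠ 0 := Nat.card_pos.ne'
  have hG0 : Nat.card G ≠ 0 := Nat.card_pos.ne'
  rw [← Nat.factorization_le_iff_dvd hS0 hG0]
  intro p
  by_cases hp : p.Prime
  swap
  · rw [Nat.factorization_eq_zero_of_not_prime _ hp]; exact Nat.zero_le _
  rw [← hp.pow_dvd_iff_le_factorization hG0]
  set k := (Nat.card S).factorization p with hk
  by_cases hk0 : k = 0
  · rw [hk0, pow_zero]; exact one_dvd _
  have hpS : p ∣ Nat.card S := by
    have : p ^ k ∣ Nat.card S := Nat.ordProj_dvd _ _
    exact (dvd_pow_self p hk0).trans this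
  obtain ⟨χ, hχt, hχp⟩ := exists_nontrivial_coprime_degree p hp hpS
  -- the kernel is trivial
  have hker : irrKer χ = ⊥ := by
    rcases (irrKer_normal χ).eq_bot_or_eq_top with h | h
    · exact h
    · exfalso
      apply hχt
      have hd : charDegree (χ : S → ℂ) = 1 :=
        degree_one_of_commutator_le_irrKer χ (by rw [h]; exact le_top)
      rw [eq_trivChar_iff]
      funext g
      have hg : g ∈ irrKer χ := by rw [h]; exact Subgroup.mem_top g
      rw [mem_irrKer, (irr_one_eq χ).1, hd] at hg
      rw [hg]; simp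
  have hmul := codegree_mul χ
  rw [hker, Subgroup.index_bot] at hmul
  obtain ⟨ψ, hψ⟩ := hsub χ
  have hdvd := codegree_dvd_card ψ
  rw [← hψ] at hdvd
  have h1 : p ^ k ∣ (Nat.card S / (Nat.card {g : S // (χ : S → ℂ) g = (χ : S → ℂ) 1} *
      charDegree (χ : S → ℂ))) * charDegree (χ : S → ℂ) := by
    rw [hmul]; exact Nat.ordProj_dvd _ _
  have hcop : Nat.Coprime (p ^ k) (charDegree (χ : S → ℂ)) :=
    Nat.Coprime.pow_left k ((Nat.Prime.coprime_iff_not_dvd hp).2 hχp)
  exact (hcop.dvd_of_dvd_mul_right h1).trans hdvd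

end Cfsg.Agent.S4801
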