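import Cfsg.Statements.S4802
import Cfsg.Agent.Lib.Helper79.NormalSums

set_option autoImplicit false
open Cfsg

namespace Cfsg.Agent.S4802

open Cfsg.Agent.Helper79
open scoped ComplexConjugate

section Aux

variable {G : Type*} [Group G] [Fintype G]

omit [Fintype G] in
/-- conjugates of `g` lie in `M \ N` -/
theorem conj_mem {N M : Subgroup G} [N.Normal] [M.Normal] {g h : G} (hgM : g ∈ M)
    (hgN : g ∉ N) (hc : IsConj g h) : h ∈ M ∧ h ∉ N := by
  rw [isConj_iff] at hc
  obtain ⟨c, rfl⟩ := hc
  refine ⟨‹M.Normal›.conj_mem g hgM c, ?_⟩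
  intro h
  apply hgN
  have := ‹N.Normal›.conj_mem _ h c⁻¹
  simpa [mul_assoc] using this

open Classical in
/-- the pairing of the indicator of the class of `g` with an irreducible character -/
theorem pair_class (g : G) (χ : IrrCharacter G) :
    pair (fun x => if IsConj g x then (1 : ℂ) else 0) (χ : G → ℂ) =
      (Nat.card G : ℂ)⁻¹ * ((∑ x : G, if IsConj g x then (1 : ℂ) else 0) * (χ : G → ℂ) g⁻¹) := by
  unfold pair
  congr 1
  rw [Finset.sum_mul]
  apply Finset.sum_congr rfl
  intro x _
  beta_reduce
  by_cases hx : IsConj g x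
  · rw [if_pos hx]
    rw [isConj_iff] at hx
    obtain ⟨c, rfl⟩ := hx
    rw [show (c * g * c⁻¹)⁻¹ = c * g⁻¹ * c⁻¹ by group, irr_class]
  · rw [if_neg hx, zero_mul, zero_mul]

open Classical in
theorem sum_class_ne_zero (g : G) : (∑ x : G, if IsConj g x then (1 : ℂ) else 0) ≠ 0 := by
  have h1 : (∑ x : G, if IsConj g x then (1 : ℂ) else 0) =
      ((∑ x : G, if IsConj g x then (1 : ℕ) else 0 : ℕ) : ℂ) := by
    push_cast; rfl
  rw [h1]
  have h2 : 0 < ∑ x : G, if IsConj g x then (1 : ℕ) else 0 := by
    apply Finset.sum_pos'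
    · intro x _; positivity
    · exact ⟨g, Finset.mem_univ _, by rw [if_pos (IsConj.refl g)]; norm_num⟩
  exact_mod_cast h2.ne'

open Classical in
/-- the pairing of the indicator of `M \ N` with a character not containing `N` in its kernel -/
theorem pair_diff_of_not_le (N M : Subgroup G) [N.Normal] [M.Normal] (hNM : N ≤ M)
    (χ : IrrCharacter G) (h : ¬ N ≤ irrKer χ) :
    pair (fun x => if x ∈ M ∧ x ∉ N then (1 : ℂ) else 0) (χ : G → ℂ) = 0 := by
  unfold pair
  have hM : ¬ M ≤ irrKer χ := fun h' => h (hNM.trans h')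
  have h1 := sum_normal_inv_eq_zero N χ h
  have h2 := sum_normal_inv_eq_zero M χ hM
  have h3 : ∀ x : G, (if x ∈ M ∧ x ∉ N then (1 : ℂ) else 0) * (χ : G → ℂ) x⁻¹ =
      (if x ∈ M then (χ : G → ℂ) x⁻¹ else 0) - (if x ∈ N then (χ : G → ℂ) x⁻¹ else 0) := by
    intro x
    by_cases hxN : x ∈ N
    · have hxM : x ∈ M := hNM hxN
      simp [hxN, hxM]
    · by_cases hxM : x ∈ M
      · simp [hxN, hxM]
      · simp [hxN, hxM]
  simp_rw [h3]
  rw [Finset.sum_sub_distrib, h1, h2]
  simp

open Classical in
/-- the pairing of the indicator of `M \ N` with a character constant on `M \ N` -/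
theorem pair_diff_of_const (N M : Subgroup G) (g : G) (hgM : g ∈ M) (hgN : g ∉ N)
    (χ : IrrCharacter G)
    (h : ∀ x ∈ M, x ∉ N → ∀ y ∈ M, y ∉ N → (χ : G → ℂ) x = (χ : G → ℂ) y) :
    pair (fun x => if x ∈ M ∧ x ∉ N then (1 : ℂ) else 0) (χ : G → ℂ) =
      (Nat.card G : ℂ)⁻¹ *
        ((∑ x : G, if x ∈ M ∧ x ∉ N then (1 : ℂ) else 0) * (χ : G → ℂ) g⁻¹) := by
  unfold pair
  congr 1
  rw [Finset.sum_mul]
  apply Finset.sum_congr rfl
  intro x _
  beta_reduce
  by_cases hx : x ∈ M ∧ x ∉ N
  · rw [if_pos hx]
    congr 1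
    apply h
    · exact M.inv_mem hx.1
    · intro h'; exact hx.2 (by simpa using N.inv_mem h')
    · exact M.inv_mem hgM
    · intro h'; exact hgN (by simpa using N.inv_mem h')
  · rw [if_neg hx, zero_mul, zero_mul]

end Aux

/-- Let N < M be normal subgroups of the finite group G and g ∈ M ∖ N. Then the conjugacy class of g is exactly M ∖ N if and only if every irreducible complex character of G whose kernel contains N takes the same value at all elements of M ∖ N, and every irreducible complex character of G whose kernel does not contain N vanishes at g. -/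
theorem result {G : Type*} [Group G] [Finite G] (N M : Subgroup G) [N.Normal] [M.Normal] (hNM : N < M) (g : G) (hgM : g ∈ M) (hgN : g ∉ N) : {h : G | IsConj g h} = (M : Set G) \ (N : Set G) ↔ ((∀ χ : Cfsg.IrrCharacter G, (∀ x ∈ N, (χ : G → ℂ) x = (χ : G → ℂ) 1) → ∀ x ∈ M, x ∉ N → ∀ y ∈ M, y ∉ N → (χ : G → ℂ) x = (χ : G → ℂ) y) ∧ (∀ χ : Cfsg.IrrCharacter G, (∃ x ∈ N, (χ : G → ℂ) x ≠ (χ : G → ℂ) 1) → (χ : G → ℂ) g = 0)) := by
  classical
  have := Fintype.ofFinite G
  have hker : ∀ χ : IrrCharacter G, (N ≤ irrKer χ ↔ ∀ x ∈ N, (χ : G → ℂ) x = (χ : G → ℂ) 1) :=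
    fun χ => Iff.rfl
  constructor
  · intro hcl
    have hmem : ∀ x : G, IsConj g x ↔ (x ∈ M ∧ x ∉ N) := by
      intro x
      have := Set.ext_iff.1 hcl x
      simpa using this
    constructor
    · intro χ _ x hxM hxN y hyM hyN
      have hx : IsConj g x := (hmem x).2 ⟨hxM, hxN⟩
      have hy : IsConj g y := (hmem y).2 ⟨hyM, hyN⟩
      rw [isConj_iff] at hx hy
      obtain ⟨c, rfl⟩ := hx
      obtain ⟨d, rfl⟩ := hy
      rw [irr_class, irr_class]
    · intro χ hχ
      have hnle : ¬ N ≤ irrKer χ := by
        rw [hker]; push Not; exact hχ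
      have h1 := pair_diff_of_not_le N M hNM.le χ hnle
      have h2 := pair_class g χ
      have hfun : (fun x => if x ∈ M ∧ x ∉ N then (1 : ℂ) else 0) =
          (fun x => if IsConj g x then (1 : ℂ) else 0) := by
        ext x
        simp only [hmem x]
      rw [hfun, h2] at h1
      have h3 : (χ : G → ℂ) g⁻¹ = 0 := by
        rcases mul_eq_zero.1 h1 with h | h
        · exact absurd (inv_eq_zero.1 h) card_ne_zero_complex
        · rcases mul_eq_zero.1 h with h' | h'
          · exact absurd h' (sum_class_ne_zero g)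
          · exact h'
      rw [irr_inv] at h3
      simpa using h3
  · rintro ⟨h1, h2⟩
    ext h
    simp only [Set.mem_ofPred_eq, Set.mem_sdiff, SetLike.mem_coe]
    constructor
    · intro hc
      exact conj_mem hgM hgN hc
    · intro hh
      set f : G → ℂ := fun x => if x ∈ M ∧ x ∉ N then (1 : ℂ) else 0 with hf
      set c : G → ℂ := fun x => if IsConj g x then (1 : ℂ) else 0 with hc
      set A : ℂ := ∑ x : G, if x ∈ M ∧ x ∉ N then (1 : ℂ) else 0 with hA
      set B : ℂ := ∑ x : G, if IsConj g x then (1 : ℂ) else 0 with hB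
      have hfcl : ∀ x k : G, f (k * x * k⁻¹) = f x := by
        intro x k
        simp only [hf]
        have : (k * x * k⁻¹ ∈ M ∧ k * x * k⁻¹ ∉ N) ↔ (x ∈ M ∧ x ∉ N) := by
          constructor
          · rintro ⟨a, b⟩
            constructor
            · have := ‹M.Normal›.conj_mem _ a k⁻¹
              simpa [mul_assoc] using this
            · intro hx; exact b (‹N.Normal›.conj_mem _ hx k)
          · rintro ⟨a, b⟩
            constructor
            · exact ‹M.Normal›.conj_mem _ a k
            · intro hx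
              apply b
              have := ‹N.Normal›.conj_mem _ hx k⁻¹
              simpa [mul_assoc] using this
        simp only [this]
      have hccl : ∀ x k : G, c (k * x * k⁻¹) = c x := by
        intro x k
        simp only [hc]
        have : IsConj g (k * x * k⁻¹) ↔ IsConj g x := by
          constructor
          · intro h'
            exact h'.trans (isConj_iff.2 ⟨k⁻¹, by group⟩)
          · intro h'
            exact h'.trans (isConj_iff.2 ⟨k, rfl⟩)
        simp only [this]
      have hpairs : ∀ χ : IrrCharacter G, B * pair f (χ : G → ℂ) = A * pair c (χ : G → ℂ) := by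
        intro χ
        by_cases hχ : N ≤ irrKer χ
        · rw [pair_diff_of_const N M g hgM hgN χ (h1 χ ((hker χ).1 hχ)), pair_class g χ]
          ring
        · have hex : ∃ x ∈ N, (χ : G → ℂ) x ≠ (χ : G → ℂ) 1 := by
            rw [hker] at hχ; push Not at hχ; exact hχ
          have hg0 : (χ : G → ℂ) g⁻¹ = 0 := by
            rw [irr_inv, h2 χ hex]; simp
          rw [pair_diff_of_not_le N M hNM.le χ hχ, pair_class g χ, hg0]
          ring
      have hexp1 := classfun_expansion f hfcl
      have hexp2 := classfun_expansion c hccl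
      have hfc : B • f = A • c := by
        rw [hexp1, hexp2, Finset.smul_sum, Finset.smul_sum]
        apply Finset.sum_congr rfl
        intro χ _
        rw [smul_smul, smul_smul, hpairs χ]
      have hval := congrFun hfc h
      simp only [Pi.smul_apply, smul_eq_mul, hf, hc, if_pos hh, mul_one] at hval
      by_contra hnc
      rw [if_neg hnc, mul_zero] at hval
      exact sum_class_ne_zero g hval

end Cfsg.Agent.S4802
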