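import Cfsg.Statements.S4808
import Cfsg.Agent.Lib.Helper79.Codegree

set_option autoImplicit false
open Cfsg

namespace Cfsg.Agent.S4808

open Cfsg.Agent.Helper79

universe u

theorem forward (p : ℕ) (hp : p.Prime) (n : ℕ) :
    ∀ (G : Type u) [Group G] [Finite G], Nat.card G = n → p ∣ Nat.card G →
      ∃ χ : Cfsg.IrrCharacter G, p ∣ (Nat.card G /
        (Nat.card {g : G // (χ : G → ℂ) g = (χ : G → ℂ) 1} * Cfsg.charDegree (χ : G → ℂ))) := by
  induction n using Nat.strong_induction_on with
  | _ n ih =>
    intro G _ _ hn hdvd
    classical
    have hnt : Nontrivial G := by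
      rw [← Finite.one_lt_card_iff_nontrivial]
      have := hp.two_le
      have h2 := Nat.le_of_dvd Nat.card_pos hdvd
      omega
    obtain ⟨N, hNn, hNbot, hNmin⟩ := exists_minimal_normal (G := G)
    have := hNn
    by_cases hidx : p ∣ N.index
    · -- induction on the quotient
      have hlt : Nat.card (G ⧸ N) < n := by
        rw [← hn, ← Subgroup.index_eq_card]
        have h1 := Subgroup.card_mul_index N
        have h2 : 1 < Nat.card N := by
          rw [Subgroup.one_lt_card_iff_ne_bot]; exact hNbot
        have h3 : 0 < N.index := Nat.pos_of_ne_zero Subgroup.index_ne_zero_of_finite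
        nlinarith
      obtain ⟨ψ, hψ⟩ := ih _ hlt (G ⧸ N) rfl (by rw [← Subgroup.index_eq_card]; exact hidx)
      refine ⟨inflate N ψ, ?_⟩
      rw [codegree_inflate]
      exact hψ
    · -- some character not containing N in its kernel has degree prime to p
      have hsum := sum_sq_degree_of_not_le_ker N
      have hndvd : ¬ p ∣ Nat.card G - N.index := by
        intro h
        apply hidx
        have h1 : N.index ≤ Nat.card G := Nat.le_of_dvd Nat.card_pos (Subgroup.index_dvd_card N)
        have := (Nat.dvd_sub_iff_right h1 hdvd).1 h
        exact this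
      have hex : ∃ χ : IrrCharacter G, ¬ N ≤ irrKer χ ∧ ¬ p ∣ charDegree (χ : G → ℂ) := by
        by_contra hcon
        push Not at hcon
        apply hndvd
        rw [← hsum]
        apply Finset.dvd_sum
        intro χ hχ
        rw [Finset.mem_filter] at hχ
        exact dvd_pow (hcon χ hχ.2) (by norm_num)
      obtain ⟨χ, hχN, hχp⟩ := hex
      refine ⟨χ, ?_⟩
      have hinf : irrKer χ ⊓ N = ⊥ := by
        by_contra hne
        have := hNmin (irrKer χ ⊓ N) inferInstance hne inf_le_right
        apply hχN
        rw [← this]
        exact inf_le_left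
      -- p divides |N|
      have hpN : p ∣ Nat.card N := by
        have h1 := Subgroup.card_mul_index N
        rw [← h1] at hdvd
        rcases (Nat.Prime.dvd_mul hp).1 hdvd with h | h
        · exact h
        · exact absurd h hidx
      -- |N| divides the index of the kernel
      have hNK : Nat.card N ∣ (irrKer χ).index := by
        rw [Subgroup.index_eq_card]
        let f : N →* G ⧸ irrKer χ := (QuotientGroup.mk' (irrKer χ)).comp N.subtype
        apply Subgroup.card_dvd_of_injective f
        rw [injective_iff_map_eq_one]
        intro x hx
        have h1 : (x : G) ∈ irrKer χ := by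
          have : (QuotientGroup.mk (x : G) : G ⧸ irrKer χ) = 1 := hx
          exact (QuotientGroup.eq_one_iff _).1 this
        have h2 : (x : G) ∈ irrKer χ ⊓ N := ⟨h1, x.2⟩
        rw [hinf] at h2
        exact Subtype.ext ((Subgroup.mem_bot).1 h2)
      have hpK : p ∣ (irrKer χ).index := dvd_trans hpN hNK
      rw [← codegree_mul χ] at hpK
      rcases (Nat.Prime.dvd_mul hp).1 hpK with h | h
      · exact h
      · exact absurd h hχp

/-- The codegree of an irreducible complex character χ of a finite group G is [G : ker χ] / χ(1), where ker χ is the set of elements at which χ takes the value χ(1). A prime divides the order of G if and only if it divides the codegree of some irreducible complex character of G. -/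
theorem result {G : Type*} [Group G] [Finite G] (p : ℕ) (hp : p.Prime) : p ∣ Nat.card G ↔ ∃ χ : Cfsg.IrrCharacter G, p ∣ (Nat.card G / (Nat.card {g : G // (χ : G → ℂ) g = (χ : G → ℂ) 1} * Cfsg.charDegree (χ : G → ℂ))) := by
  constructor
  · intro h
    exact forward p hp _ G rfl h
  · rintro ⟨χ, hχ⟩
    exact dvd_trans hχ (codegree_dvd_card χ)

end Cfsg.Agent.S4808
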