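import Cfsg.Statements.S4814
import Cfsg.Agent.Lib.Helper79.Convolution

set_option autoImplicit false
set_option linter.style.haveILetI false
open Cfsg

namespace Cfsg.Agent.S4814

open Cfsg.Agent.Helper79

section Aux

variable {G : Type*} [Group G] [Fintype G]

/-- if `z` is not a commutator then `∑ χ, χ z / χ 1 = 0` -/
theorem sum_div_eq_zero_of_not_comm (z : G) (hz : ∀ a b : G, a * b * a⁻¹ * b⁻¹ ≠ z) :
    ∑ χ : IrrCharacter G, (χ : G → ℂ) z / (χ : G → ℂ) 1 = 0 := by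
  classical
  have h1 : ∀ χ : IrrCharacter G, (Nat.card G : ℂ) * ((χ : G → ℂ) z / (χ : G → ℂ) 1) =
      ∑ a : G, (χ : G → ℂ) a * (χ : G → ℂ) (a⁻¹ * z) := by
    intro χ
    rw [irr_convolution χ χ z, if_pos rfl, mul_div_assoc]
  have h2 : (Nat.card G : ℂ) * ∑ χ : IrrCharacter G, (χ : G → ℂ) z / (χ : G → ℂ) 1 = 0 := by
    rw [Finset.mul_sum]
    simp_rw [h1]
    rw [Finset.sum_comm]
    apply Finset.sum_eq_zero
    intro a _
    have h3 := col_orth (a⁻¹ * z) a⁻¹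
    rw [inv_inv] at h3
    have h4 : ∑ χ : IrrCharacter G, (χ : G → ℂ) a * (χ : G → ℂ) (a⁻¹ * z) =
        ∑ χ : IrrCharacter G, (χ : G → ℂ) (a⁻¹ * z) * (χ : G → ℂ) a :=
      Finset.sum_congr rfl (fun χ _ => mul_comm _ _)
    rw [h4, h3]
    have : IsEmpty {x : G // x * a⁻¹ * x⁻¹ = a⁻¹ * z} := by
      constructor
      rintro ⟨x, hx⟩
      apply hz a x
      calc a * x * a⁻¹ * x⁻¹ = a * (x * a⁻¹ * x⁻¹) := by group
        _ = a * (a⁻¹ * z) := by rw [hx]
        _ = z := by group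
    rw [Nat.card_of_isEmpty]
    simp
  rcases mul_eq_zero.1 h2 with h | h
  · exact absurd h card_ne_zero_complex
  · exact h

/-- the double convolution identity -/
theorem sum_mul_sum (g : G) :
    ∑ z : G, (∑ χ : IrrCharacter G, (χ : G → ℂ) z / (χ : G → ℂ) 1) *
      (∑ ψ : IrrCharacter G, (ψ : G → ℂ) (z⁻¹ * g) / (ψ : G → ℂ) 1) =
    (Nat.card G : ℂ) * ∑ χ : IrrCharacter G, (χ : G → ℂ) g / (χ : G → ℂ) 1 ^ 3 := by
  classical
  simp_rw [Finset.sum_mul_sum]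
  rw [Finset.sum_comm]
  rw [Finset.mul_sum]
  apply Finset.sum_congr rfl
  intro χ _
  rw [Finset.sum_comm]
  have h1 : ∀ ψ : IrrCharacter G,
      ∑ z : G, (χ : G → ℂ) z / (χ : G → ℂ) 1 * ((ψ : G → ℂ) (z⁻¹ * g) / (ψ : G → ℂ) 1) =
      (1 / ((χ : G → ℂ) 1 * (ψ : G → ℂ) 1)) *
        (if χ = ψ then (Nat.card G : ℂ) * (χ : G → ℂ) g / (χ : G → ℂ) 1 else 0) := by
    intro ψ
    rw [← irr_convolution χ ψ g, Finset.mul_sum]
    apply Finset.sum_congr rfl
    intro z _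
    field_simp
  simp_rw [h1]
  rw [Finset.sum_eq_single χ]
  · rw [if_pos rfl]
    have := irr_one_ne_zero χ
    field_simp
  · intro ψ _ hψ
    rw [if_neg (Ne.symm hψ), mul_zero]
  · intro hχ; exact absurd (Finset.mem_univ χ) hχ

end Aux

/-- Let G be a finite group such that the sum, over the irreducible complex characters χ of G, of 1/χ(1)² is less than 2. Then every element of G is a product of two commutators. -/
theorem result {G : Type*} [Group G] [Finite G]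
    (h : ∑ᶠ χ : Cfsg.IrrCharacter G, 1 / ‖(χ : G → ℂ) 1‖ ^ 2 < (2 : ℝ)) (g : G) :
    ∃ a b c d : G, (a * b * a⁻¹ * b⁻¹) * (c * d * c⁻¹ * d⁻¹) = g := by
  classical
  haveI := Fintype.ofFinite G
  by_contra hcon
  push Not at hcon
  -- the double sum vanishes
  have hzero : ∀ z : G, (∑ χ : IrrCharacter G, (χ : G → ℂ) z / (χ : G → ℂ) 1) *
      (∑ ψ : IrrCharacter G, (ψ : G → ℂ) (z⁻¹ * g) / (ψ : G → ℂ) 1) = 0 := by
    intro z
    by_cases h1 : ∀ a b : G, a * b * a⁻¹ * b⁻¹ ≠ z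
    · rw [sum_div_eq_zero_of_not_comm z h1, zero_mul]
    · by_cases h2 : ∀ c d : G, c * d * c⁻¹ * d⁻¹ ≠ z⁻¹ * g
      · rw [sum_div_eq_zero_of_not_comm (z⁻¹ * g) h2, mul_zero]
      · exfalso
        push Not at h1 h2
        obtain ⟨a, b, hab⟩ := h1
        obtain ⟨c, d, hcd⟩ := h2
        apply hcon a b c d
        rw [hab, hcd]; group
  have hsum := sum_mul_sum g
  rw [Finset.sum_eq_zero (fun z _ => hzero z)] at hsum
  have hS : ∑ χ : IrrCharacter G, (χ : G → ℂ) g / (χ : G → ℂ) 1 ^ 3 = 0 := by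
    rcases mul_eq_zero.1 hsum.symm with h0 | h0
    · exact absurd h0 card_ne_zero_complex
    · exact h0
  -- split off the trivial character
  rw [finsum_eq_sum_of_fintype] at h
  have hnorm : ∀ χ : IrrCharacter G, ‖(χ : G → ℂ) 1‖ = (charDegree (χ : G → ℂ) : ℝ) := by
    intro χ
    rw [(irr_one_eq χ).1]
    simp
  have hsplit := Finset.add_sum_erase Finset.univ
    (fun χ : IrrCharacter G => (χ : G → ℂ) g / (χ : G → ℂ) 1 ^ 3) (Finset.mem_univ (trivChar G))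
  have hsplit2 := Finset.add_sum_erase Finset.univ
    (fun χ : IrrCharacter G => 1 / ‖(χ : G → ℂ) 1‖ ^ 2) (Finset.mem_univ (trivChar G))
  simp only [trivChar_apply] at hsplit hsplit2
  rw [hS] at hsplit
  rw [← hsplit2] at h
  have hbound : ‖∑ χ ∈ Finset.univ.erase (trivChar G), (χ : G → ℂ) g / (χ : G → ℂ) 1 ^ 3‖ ≤
      ∑ χ ∈ Finset.univ.erase (trivChar G), 1 / ‖(χ : G → ℂ) 1‖ ^ 2 := by
    refine (norm_sum_le _ _).trans ?_
    apply Finset.sum_le_sum
    intro χ _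
    rw [norm_div, norm_pow, hnorm]
    have hd : (0 : ℝ) < (charDegree (χ : G → ℂ) : ℝ) := by exact_mod_cast (irr_one_eq χ).2
    have hle := irr_norm_le χ g
    rw [div_le_div_iff₀ (by positivity) (by positivity)]
    calc ‖(χ : G → ℂ) g‖ * (charDegree (χ : G → ℂ) : ℝ) ^ 2
        ≤ (charDegree (χ : G → ℂ) : ℝ) * (charDegree (χ : G → ℂ) : ℝ) ^ 2 :=
          mul_le_mul_of_nonneg_right hle (by positivity)
      _ = 1 * (charDegree (χ : G → ℂ) : ℝ) ^ 3 := by ring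
  have heq : ∑ χ ∈ Finset.univ.erase (trivChar G), (χ : G → ℂ) g / (χ : G → ℂ) 1 ^ 3 = -1 := by
    have : (1 : ℂ) / 1 ^ 3 = 1 := by norm_num
    rw [this] at hsplit
    exact eq_neg_of_add_eq_zero_right hsplit
  rw [heq] at hbound
  simp only [norm_neg, norm_one] at hbound
  have : (1 : ℝ) / ‖(1 : ℂ)‖ ^ 2 = 1 := by simp
  rw [this] at h
  linarith

end Cfsg.Agent.S4814
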