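import Cfsg.Statements.S4825
import Cfsg.Agent.Lib.Helper75.GalPrincipalE

set_option autoImplicit false
open Cfsg

namespace Cfsg.Agent.S4825

/-- Let p be a prime, G a finite group with Sylow p-subgroup P, M a maximal ideal of the algebraic integers containing p, and B a p-block of G with defect group P. Let N be a normal subgroup of G not containing P and θ an irreducible character of N. Then the number of irreducible characters in B of degree prime to p lying over θ (having θ as a constituent on restriction to N) is either 0 or at least 2, and when p ≤ 3 it is divisible by p. -/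
theorem result {G : Type*} [Group G] [Fintype G] (p : ℕ) [Fact p.Prime] (P : Sylow p G) (M : Ideal Cfsg.AlgInt) (hM : Cfsg.IsPModular p M) (B : Set (Cfsg.IrrCharacter G)) (hB : Cfsg.IsPBlock M B) (hBP : Cfsg.IsDefectGroup p M B P) (N : Subgroup G) [N.Normal] [Fintype N] (hPN : ¬ (P : Subgroup G) ≤ N) (θ : Cfsg.IrrCharacter N) :
    (Nat.card {χ : Cfsg.IrrCharacter G // χ ∈ B ∧ ¬ p ∣ Cfsg.charDegree (χ : G → ℂ) ∧ Cfsg.classInner (fun n : N => (χ : G → ℂ) n) (θ : N → ℂ) ≠ 0} = 0 ∨
      2 ≤ Nat.card {χ : Cfsg.IrrCharacter G // χ ∈ B ∧ ¬ p ∣ Cfsg.charDegree (χ : G → ℂ) ∧ Cfsg.classInner (fun n : N => (χ : G → ℂ) n) (θ : N → ℂ) ≠ 0}) ∧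
    (p ≤ 3 → p ∣ Nat.card {χ : Cfsg.IrrCharacter G // χ ∈ B ∧ ¬ p ∣ Cfsg.charDegree (χ : G → ℂ) ∧ Cfsg.classInner (fun n : N => (χ : G → ℂ) n) (θ : N → ℂ) ≠ 0}) := by
  classical
  haveI := Cfsg.Agent.Helper77.isPrime_of_isPModular hM
  haveI : Fintype (Cfsg.IrrCharacter G) := @Fintype.ofFinite _ Cfsg.Agent.Helper81.irr_finite
  have hp : p.Prime := Fact.out
  -- `p` divides the index of `N`
  have hpidx : p ∣ N.index := by
    by_contra hnd
    apply hPN
    intro x hx
    obtain ⟨j, hj⟩ := P.2 ⟨x, hx⟩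
    have hxj : x ^ p ^ j = 1 := by
      have := congrArg Subtype.val hj
      simpa using this
    have h1 : ((x : G ⧸ N)) ^ p ^ j = 1 := by
      rw [← QuotientGroup.mk_pow, hxj]
      rfl
    have h2 : ((x : G ⧸ N)) ^ N.index = 1 := by
      rw [Subgroup.index_eq_card]
      exact pow_card_eq_one'
    have h3 : orderOf (x : G ⧸ N) ∣ Nat.gcd (p ^ j) N.index :=
      Nat.dvd_gcd (orderOf_dvd_of_pow_eq_one h1) (orderOf_dvd_of_pow_eq_one h2)
    have h4 : Nat.gcd (p ^ j) N.index = 1 :=
      Nat.Coprime.pow_left j ((Nat.Prime.coprime_iff_not_dvd hp).mpr hnd)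
    rw [h4, Nat.dvd_one, orderOf_eq_one_iff] at h3
    exact (QuotientGroup.eq_one_iff x).mp h3
  -- natural weights
  choose m hm using fun ψ : Cfsg.IrrCharacter G => Cfsg.Agent.Helper75.GP.exists_nat_wt N ψ θ
  set a : N → ℂ := fun n => Cfsg.blockCoeff B (n : G) with ha
  have hI0 : (N.index : ℂ) ≠ 0 := by
    have : N.index ≠ 0 := Subgroup.index_ne_zero_of_finite
    exact_mod_cast this
  have hecl := Cfsg.Agent.Helper77.isClassFunction_blockCoeff B
  have hacl : Cfsg.IsClassFunction N a := fun y x => hecl (y : G) (x : G)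
  have haR : Cfsg.Agent.Helper77.IsRValued M a := fun n =>
    Cfsg.Agent.Helper77.memLocalRing_blockCoeff hB _
  have hsum : ((∑ ψ ∈ (Set.toFinite B).toFinset, m ψ : ℕ) : ℂ)
      = (N.index : ℂ) * Cfsg.Agent.Helper77.omega (θ : N → ℂ) a := by
    rw [ha, Cfsg.Agent.Helper75.GP.omega_restrict_blockCoeff N B θ, ← mul_assoc,
      mul_inv_cancel₀ hI0, one_mul]
    push_cast
    simp only [hm]
  have hdvd : p ∣ ∑ ψ ∈ (Set.toFinite B).toFinset, m ψ := by
    rw [← Cfsg.Agent.Helper77.memLocalIdeal_natCast_iff hM, hsum]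
    apply Cfsg.Agent.Helper77.memLocalIdeal_mul_right
    · rw [Cfsg.Agent.Helper77.memLocalIdeal_natCast_iff hM]
      exact hpidx
    · exact Cfsg.Agent.Helper77.memLocalRing_omega θ.2 hacl haR
  -- multiplicities
  have hex : ∀ ψ : Cfsg.IrrCharacter G, ∃ e : ℕ,
      Cfsg.classInner (fun n : N => (ψ : G → ℂ) n) (θ : N → ℂ) = (e : ℂ) := fun ψ =>
    Cfsg.Agent.Helper81.exists_nat_classInner (Cfsg.Agent.Helper81.isCharacter_restrict N
      (Cfsg.Agent.Helper81.IsIrrCharacter.isCharacter ψ.2)) θ.2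
  choose ε hε using hex
  set t := Cfsg.Agent.Helper75.GP.conjCount N θ with ht
  set d := Cfsg.charDegree (θ : N → ℂ) with hd
  have hm0 : ∀ ψ, ε ψ = 0 → m ψ = 0 := by
    intro ψ h
    have h1 := Cfsg.Agent.Helper75.GP.wt_eq_zero_of_not_over N ψ θ
      (by rw [hε, h, Nat.cast_zero])
    rw [hm] at h1
    exact_mod_cast h1
  have hm1 : ∀ ψ, ε ψ ≠ 0 →
      m ψ = ε ψ * t * ε ψ ∧ Cfsg.charDegree (ψ : G → ℂ) = ε ψ * t * d := by
    intro ψ h
    obtain ⟨h1, h2⟩ := Cfsg.Agent.Helper75.GP.wt_eq_of_over N ψ θ (ε ψ) (hε ψ) h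
    rw [hm] at h1
    exact ⟨by exact_mod_cast h1, h2⟩
  have hover_iff : ∀ ψ : Cfsg.IrrCharacter G,
      Cfsg.classInner (fun n : N => (ψ : G → ℂ) n) (θ : N → ℂ) ≠ 0 ↔ ε ψ ≠ 0 := by
    intro ψ
    rw [hε]
    exact Nat.cast_ne_zero
  -- the counted set as a finset
  set Q : Cfsg.IrrCharacter G → Prop := fun χ => χ ∈ B ∧ ¬ p ∣ Cfsg.charDegree (χ : G → ℂ) ∧
    Cfsg.classInner (fun n : N => (χ : G → ℂ) n) (θ : N → ℂ) ≠ 0 with hQ
  set S : Finset (Cfsg.IrrCharacter G) := Finset.univ.filter Q with hS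
  have hcard : Nat.card {χ : Cfsg.IrrCharacter G // χ ∈ B ∧ ¬ p ∣ Cfsg.charDegree (χ : G → ℂ) ∧
      Cfsg.classInner (fun n : N => (χ : G → ℂ) n) (θ : N → ℂ) ≠ 0} = S.card := by
    rw [Nat.card_eq_fintype_card, Fintype.card_subtype]
  rw [hcard]
  -- main claims
  have main : S.card ≠ 1 ∧ (p ≤ 3 → p ∣ S.card) := by
    by_cases hpd : p ∣ d
    · -- no character of degree prime to p lies over θ
      have hS0 : S = ∅ := by
        rw [Finset.eq_empty_iff_forall_notMem]
        intro ψ hψ
        rw [hS, Finset.mem_filter] at hψ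
        obtain ⟨-, -, hdeg, hov⟩ := hψ
        apply hdeg
        rw [(hm1 ψ ((hover_iff ψ).mp hov)).2]
        exact dvd_mul_of_dvd_right hpd _
      rw [hS0, Finset.card_empty]
      exact ⟨by norm_num, fun _ => dvd_zero _⟩
    · have hQB : ∀ ψ, Q ψ → ψ ∈ (Set.toFinite B).toFinset := by
        intro ψ hψ
        rw [Set.Finite.mem_toFinset]
        exact hψ.1
      have hnotQ : ∀ ψ ∈ (Set.toFinite B).toFinset, ¬ Q ψ → p ∣ m ψ := by
        intro ψ hψ hnQ
        rw [Set.Finite.mem_toFinset] at hψ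
        by_cases he : ε ψ = 0
        · rw [hm0 ψ he]
          exact dvd_zero _
        · obtain ⟨h1, h2⟩ := hm1 ψ he
          have hdeg : p ∣ Cfsg.charDegree (ψ : G → ℂ) := by
            by_contra hnd
            exact hnQ ⟨hψ, hnd, (hover_iff ψ).mpr he⟩
          rw [h2] at hdeg
          have h3 : p ∣ ε ψ * t := by
            rcases (Nat.Prime.dvd_mul hp).mp hdeg with h | h
            · exact h
            · exact absurd h hpd
          rw [h1]
          exact dvd_mul_of_dvd_left h3 _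
      have hQm : ∀ ψ, Q ψ → m ψ = ε ψ * t * ε ψ ∧ ¬ p ∣ ε ψ ∧ ¬ p ∣ t := by
        intro ψ hψ
        obtain ⟨-, hdeg, hov⟩ := hψ
        obtain ⟨h1, h2⟩ := hm1 ψ ((hover_iff ψ).mp hov)
        refine ⟨h1, ?_, ?_⟩
        · intro h
          apply hdeg
          rw [h2, mul_assoc]
          exact dvd_mul_of_dvd_left h _
        · intro h
          apply hdeg
          rw [h2]
          exact dvd_mul_of_dvd_left (dvd_mul_of_dvd_right h _) _
      have hSfilter : S = (Set.toFinite B).toFinset.filter Q := by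
        rw [hS]
        ext ψ
        simp only [Finset.mem_filter, Finset.mem_univ, true_and]
        exact ⟨fun h => ⟨hQB ψ h, h⟩, fun h => h.2⟩
      have hSdvd : p ∣ ∑ ψ ∈ S, m ψ := by
        have h1 := Finset.sum_filter_add_sum_filter_not (Set.toFinite B).toFinset Q m
        have h2 : p ∣ ∑ ψ ∈ (Set.toFinite B).toFinset.filter (fun ψ => ¬ Q ψ), m ψ := by
          apply Finset.dvd_sum
          intro ψ hψ
          rw [Finset.mem_filter] at hψ
          exact hnotQ ψ hψ.1 hψ.2
        rw [← h1, ← hSfilter] at hdvd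
        exact (Nat.dvd_add_left h2).mp hdvd
      constructor
      · intro h1
        obtain ⟨ψ₀, hψ₀⟩ := Finset.card_eq_one.mp h1
        rw [hψ₀, Finset.sum_singleton] at hSdvd
        have hQψ₀ : Q ψ₀ := by
          have : ψ₀ ∈ S := by rw [hψ₀]; exact Finset.mem_singleton_self _
          rw [hS, Finset.mem_filter] at this
          exact this.2
        obtain ⟨h2, h3, h4⟩ := hQm ψ₀ hQψ₀
        rw [h2] at hSdvd
        rcases (Nat.Prime.dvd_mul hp).mp hSdvd with h | h
        · rcases (Nat.Prime.dvd_mul hp).mp h with h | h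
          · exact h3 h
          · exact h4 h
        · exact h3 h
      · intro hp3
        rcases S.eq_empty_or_nonempty with hemp | ⟨ψ₁, hψ₁⟩
        · rw [hemp, Finset.card_empty]
          exact dvd_zero _
        · have hQψ₁ : Q ψ₁ := by
            rw [hS, Finset.mem_filter] at hψ₁
            exact hψ₁.2
          have htp : ¬ p ∣ t := (hQm ψ₁ hQψ₁).2.2
          have hsq : ∀ x : ZMod p, x ≠ 0 → x * x = 1 := by
            have hp2 : 2 ≤ p := hp.two_le
            have hp23 : p = 2 ∨ p = 3 := by omega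
            intro x hx
            have h5 := ZMod.pow_card_sub_one_eq_one hx
            rcases hp23 with h | h
            · subst h
              have h6 : x = 1 := by simpa using h5
              rw [h6, mul_one]
            · subst h
              have h6 : x ^ 2 = 1 := h5
              rw [← pow_two, h6]
          have hz : ((∑ ψ ∈ S, m ψ : ℕ) : ZMod p) = 0 :=
            (ZMod.natCast_eq_zero_iff _ p).mpr hSdvd
          have hterm : ∀ ψ ∈ S, ((m ψ : ℕ) : ZMod p) = (t : ZMod p) := by
            intro ψ hψ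
            rw [hS, Finset.mem_filter] at hψ
            obtain ⟨h2, h3, -⟩ := hQm ψ hψ.2
            have hx : ((ε ψ : ℕ) : ZMod p) ≠ 0 := by
              intro h
              exact h3 ((ZMod.natCast_eq_zero_iff _ p).mp h)
            rw [h2]
            push_cast
            rw [mul_comm ((ε ψ : ℕ) : ZMod p) (t : ZMod p), mul_assoc, hsq _ hx, mul_one]
          rw [Nat.cast_sum, Finset.sum_congr rfl hterm, Finset.sum_const, nsmul_eq_mul] at hz
          have htz : (t : ZMod p) ≠ 0 := by
            intro h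
            exact htp ((ZMod.natCast_eq_zero_iff _ p).mp h)
          rcases mul_eq_zero.mp hz with h | h
          · exact (ZMod.natCast_eq_zero_iff _ p).mp h
          · exact absurd h htz
  obtain ⟨h1, h2⟩ := main
  refine ⟨?_, h2⟩
  omega

end Cfsg.Agent.S4825
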