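import Cfsg.Statements.S4836
import Mathlib
import Cfsg.Agent.Lib.Helper80.Gagola

set_option autoImplicit false
open Cfsg

namespace Cfsg.Agent.S4836

open scoped ComplexConjugate
open Cfsg.Agent.Helper80

theorem faithful {G : Type*} [Group G] [Finite G] (hG : 2 < Nat.card G) (χ : Cfsg.IrrCharacter G) (hχ : Nat.card {C : ConjClasses G // ∃ g ∈ C.carrier, (χ : G → ℂ) g ≠ 0} = 2) :
    ∀ g : G, (χ : G → ℂ) g = (χ : G → ℂ) 1 → g = 1 := by
  obtain ⟨g₀, hg₀1, hsupp, hb, hker⟩ := gagola_basic hG χ hχ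
  intro g hg
  have hne : (χ : G → ℂ) g ≠ 0 := by rw [hg]; exact irr_one_ne_zero χ
  rcases (hsupp g).1 hne with h | h
  · exact h
  · exfalso
    rw [irr_eq_of_isConj χ h] at hg
    rw [hg] at hb
    have h1 : (χ : G → ℂ) 1 * ((Nat.card {x : G // IsConj g₀ x} : ℂ) + 1) = 0 := by
      rw [mul_add, hb]; ring
    rcases mul_eq_zero.1 h1 with h2 | h2
    · exact irr_one_ne_zero χ h2
    · have : ((Nat.card {x : G // IsConj g₀ x} + 1 : ℕ) : ℂ) = 0 := by push_cast; exact h2
      exact (Nat.cast_ne_zero.2 (Nat.succ_ne_zero _)) this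

/-- Let G be a finite group of order greater than 2 with an irreducible character χ that is nonzero on exactly two conjugacy classes. Then χ is faithful (it takes the value χ(1) only at the identity), it is the only faithful irreducible character of G, and it is the only irreducible character of G that is nonzero on exactly two conjugacy classes. -/
theorem result {G : Type*} [Group G] [Finite G] (hG : 2 < Nat.card G) (χ : Cfsg.IrrCharacter G) (hχ : Nat.card {C : ConjClasses G // ∃ g ∈ C.carrier, (χ : G → ℂ) g ≠ 0} = 2) :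
    (∀ g : G, (χ : G → ℂ) g = (χ : G → ℂ) 1 → g = 1) ∧
      (∀ ψ : Cfsg.IrrCharacter G, (∀ g : G, (ψ : G → ℂ) g = (ψ : G → ℂ) 1 → g = 1) → ψ = χ) ∧
      (∀ ψ : Cfsg.IrrCharacter G, Nat.card {C : ConjClasses G // ∃ g ∈ C.carrier, (ψ : G → ℂ) g ≠ 0} = 2 → ψ = χ) := by
  refine ⟨faithful hG χ hχ, ?_, ?_⟩
  · intro ψ hψ
    obtain ⟨g₀, hg₀1, hsupp, hb, hker⟩ := gagola_basic hG χ hχ
    by_contra hne
    exact hg₀1 (hψ g₀ (hker ψ hne))
  · intro ψ hψ
    obtain ⟨g₁, hg₁1, hsupp, hb, hker⟩ := gagola_basic hG ψ hψ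
    by_contra hne
    exact hg₁1 (faithful hG χ hχ g₁ (hker χ (Ne.symm hne)))

end Cfsg.Agent.S4836
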