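import Cfsg.Statements.S4840
import Mathlib
import Cfsg.Agent.Lib.Helper80.Gagola4
import Cfsg.Agent.Lib.Helper80.GagSolvG

set_option autoImplicit false
open Cfsg

namespace Cfsg.Agent.S4840

/-- Let G be a finite solvable group of order greater than 2 with an irreducible character nonzero on exactly two conjugacy classes. Then there is exactly one prime p with O_p(G) ≠ 1, and the quotient G/O_p(G) has a normal p-complement and commutative Sylow p-subgroups. -/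
theorem result {G : Type*} [Group G] [Finite G] [hs : Group.IsSolvable G] (hG : 2 < Nat.card G) (χ : Cfsg.IrrCharacter G) (hχ : Nat.card {C : ConjClasses G // ∃ g ∈ C.carrier, (χ : G → ℂ) g ≠ 0} = 2) :
    ∃ p : ℕ, p.Prime ∧ (∀ q : ℕ, q.Prime → (Cfsg.pCore q G ≠ ⊥ ↔ q = p)) ∧
      Cfsg.HasNormalPComplement p (G ⧸ Cfsg.pCore p G) ∧ ∀ Q : Sylow p (G ⧸ Cfsg.pCore p G), IsMulCommutative (Q : Subgroup (G ⧸ Cfsg.pCore p G)) := by
  classical
  obtain ⟨p, hp, hEA⟩ := Cfsg.Agent.Helper80.gagola_elementaryAbelian hG χ hχ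
  haveI : Fact p.Prime := ⟨hp⟩
  refine ⟨p, hp, ?_⟩
  have hN : ∀ g : G, g ∈ Cfsg.Agent.Helper80.gagolaSubgroup χ ↔ (χ : G → ℂ) g ≠ 0 :=
    fun g => (Cfsg.Agent.Helper80.gagola_mem_iff hG χ hχ g).symm
  have hN1 := Cfsg.Agent.Helper80.gagolaSubgroup_ne_bot hG χ hχ
  have hNp : ∀ x ∈ Cfsg.Agent.Helper80.gagolaSubgroup χ, x ^ p = 1 := hEA.2
  have hNpg : IsPGroup p (Cfsg.Agent.Helper80.gagolaSubgroup χ) := fun x => ⟨1, by
    rw [pow_one]; exact Subtype.ext (by simpa using hNp x x.2)⟩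
  obtain ⟨β, c, hcpos, hcard, -, -, -, hcent⟩ :=
    Cfsg.Agent.Helper80.gagola_setup hG χ hχ (Cfsg.Agent.Helper80.gagolaSubgroup χ) hN
  have hc : c = Nat.card (Cfsg.Agent.Helper80.gagolaSubgroup χ) - 1 := by omega
  refine Cfsg.Agent.Helper80.GagSolvG.gt_main p (Cfsg.Agent.Helper80.gagolaSubgroup χ) hN1 ?_ hNp
    ?_ ?_ ?_
  · intro x hx y hy
    have := hEA.1.is_comm.comm (⟨x, hx⟩ : Cfsg.Agent.Helper80.gagolaSubgroup χ) ⟨y, hy⟩
    exact congrArg Subtype.val this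
  · intro K hKn hK
    exact Cfsg.Agent.Helper80.gagola_le_of_normal hG χ hχ K hKn hK
  · intro x hx hx1
    exact Cfsg.Agent.Helper80.gagola_card_centralizer hG χ hχ p
      (Cfsg.Agent.Helper80.gagolaSubgroup χ) hN hNpg hN1 x hx hx1
  · intro x hx hx1
    rw [← hc]
    exact hcent x hx hx1

end Cfsg.Agent.S4840
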