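import Cfsg.Statements.S4843
import Mathlib
import Cfsg.Agent.Lib.Helper80.ProdIrr4

set_option autoImplicit false
open Cfsg

namespace Cfsg.Agent.S4843

/-- Let G be a finite group with a faithful irreducible character χ (taking the value χ(1) only at the identity) and let k be prime to the order of G, so that g ↦ χ(g^k) is a Galois conjugate of χ. If the pointwise product g ↦ χ(g)·χ(g^k) is again an irreducible character, then the Fitting subgroup of G equals its centre. -/
theorem result {G : Type*} [Group G] [Finite G] (χ : Cfsg.IrrCharacter G) (hfaith : ∀ g : G, (χ : G → ℂ) g = (χ : G → ℂ) 1 → g = 1) (k : ℕ) (hk : Nat.Coprime k (Nat.card G)) (hirr : Cfsg.IsIrrCharacter G (fun g => (χ : G → ℂ) g * (χ : G → ℂ) (g ^ k))) : Cfsg.fittingSubgroup G = Subgroup.center G := by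
  classical
  letI : Fintype G := Fintype.ofFinite G
  have hχ : Cfsg.IsIrrCharacter G (χ : G → ℂ) := χ.2
  have hprim : ∀ (T : Subgroup G) (η : T → ℂ), Cfsg.IsIrrCharacter T η →
      Cfsg.indFun T η = (χ : G → ℂ) → T = ⊤ :=
    fun T η hη hind => Cfsg.Agent.Helper80.top_of_prod_irr hχ k hk hirr T hη hind
  have habel : ∀ B : Subgroup G, B.Normal → (∀ a b : B, a * b = b * a) →
      B ≤ Subgroup.center G :=
    fun B hBn hBc => Cfsg.Agent.Helper80.abelian_normal_le_center hχ hfaith hprim B hBn hBc
  have hcl2 : ∀ A : Subgroup G, A.Normal →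
      (∀ a ∈ A, ∀ b ∈ A, a * b * a⁻¹ * b⁻¹ ∈ Subgroup.center G) → A ≤ Subgroup.center G :=
    fun A hA hA2 =>
      Cfsg.Agent.Helper80.class_two_normal_le_center hχ hfaith k hk hirr habel A hA hA2
  have hnil : ∀ N : Subgroup G, N.Normal → Group.IsNilpotent N → N ≤ Subgroup.center G := by
    intro N hN hNnil
    obtain ⟨c, hc⟩ := (Subgroup.isNilpotent_iff_lowerCentralSeries N).mp hNnil
    have hnorm : ∀ i, (N.lowerCentralSeries i).Normal := by
      intro i
      induction i with
      | zero => simpa using hN
      | succ i ih =>
        rw [Subgroup.lowerCentralSeries_succ]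
        haveI := ih
        haveI := hN
        infer_instance
    have key : ∀ i, i ≤ c → N.lowerCentralSeries (c - i) ≤ Subgroup.center G := by
      intro i
      induction i with
      | zero =>
        intro _
        rw [Nat.sub_zero, hc]
        exact bot_le
      | succ i ih =>
        intro hi
        have hstep : c - i = (c - (i + 1)) + 1 := by omega
        have ih' := ih (by omega)
        rw [hstep] at ih'
        apply hcl2 _ (hnorm _)
        intro a ha b hb
        apply ih'
        rw [Subgroup.lowerCentralSeries_succ]
        have hbN : b ∈ N := Subgroup.lowerCentralSeries_antitone N (Nat.zero_le _) hb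
        have := Subgroup.commutator_mem_commutator ha hbN
        rwa [commutatorElement_def] at this
    have := key c le_rfl
    simpa using this
  apply le_antisymm
  · apply sSup_le
    rintro N ⟨hN, hNnil⟩
    exact hnil N hN hNnil
  · apply le_sSup
    refine ⟨inferInstance, ?_⟩
    rw [Subgroup.isNilpotent_iff_lowerCentralSeries]
    refine ⟨1, ?_⟩
    rw [Subgroup.lowerCentralSeries_succ, Subgroup.lowerCentralSeries_zero, eq_bot_iff,
      Subgroup.commutator_le]
    intro a ha b hb
    rw [Subgroup.mem_bot, commutatorElement_eq_one_iff_mul_comm]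
    exact (Subgroup.mem_center_iff.mp ha b).symm

end Cfsg.Agent.S4843
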