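import Cfsg.Statements.S4859
import Mathlib
import Cfsg.Agent.Lib.Helper80.FrobSchur

set_option autoImplicit false
open Cfsg

namespace Cfsg.Agent.S4859

open scoped ComplexConjugate
open Cfsg.Agent.Helper80

theorem not_square {G : Type*} [Group G] [Finite G] (p : ℕ) [Fact p.Prime] (hp : p ≠ 2) (x : G)
    (hx : ∃ k : ℕ, orderOf x = p ^ k)
    (heven : Even (Nat.card (Subgroup.centralizer ({x} : Set G)))) (y : G)
    (hy : y ∈ Subgroup.centralizer ({x} : Set G)) (hy2 : ∃ k : ℕ, orderOf y = 2 ^ k)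
    (hmax : ∀ z ∈ Subgroup.centralizer ({x} : Set G), (∃ k : ℕ, orderOf z = 2 ^ k) →
      orderOf z ≤ orderOf y) : ¬ ∃ u : G, u * u = x * y := by
  rintro ⟨u, hu⟩
  obtain ⟨k, hk⟩ := hx
  obtain ⟨m, hm⟩ := hy2
  have hpp : p.Prime := Fact.out
  have hxy : Commute x y := by
    rw [Subgroup.mem_centralizer_iff] at hy
    exact (hy x rfl)
  have hcop : Nat.Coprime (p ^ k) (2 ^ m) := by
    apply Nat.Coprime.pow
    rw [Nat.coprime_primes hpp Nat.prime_two]
    exact hp
  -- u commutes with x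
  have huw : Commute u (x * y) := by
    rw [← hu]
    exact (Commute.refl u).mul_right (Commute.refl u)
  have hwpow : (x * y) ^ (2 ^ m) = x ^ (2 ^ m) := by
    rw [hxy.mul_pow, ← hm, pow_orderOf_eq_one, mul_one]
  obtain ⟨b, hb⟩ := exists_pow_eq_self_of_coprime (x := x) (n := 2 ^ m) (by rw [hk]; exact hcop.symm)
  have hux : Commute u x := by
    rw [← hb, ← hwpow]
    exact (huw.pow_right _).pow_right _
  -- v = u ^ (p^k)
  set n := p ^ k with hn
  set v := u ^ n with hv
  have hvx : v ∈ Subgroup.centralizer ({x} : Set G) := by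
    rw [Subgroup.mem_centralizer_iff]
    intro z hz
    rw [Set.mem_singleton_iff] at hz
    subst hz
    exact (hux.pow_left n).symm.eq
  have hv2 : v * v = y ^ n := by
    have h1 : v * v = (u * u) ^ n := by
      rw [hv, (Commute.refl u).mul_pow]
    rw [h1, hu, hxy.mul_pow, ← hk, pow_orderOf_eq_one, one_mul]
  have hv2' : v ^ 2 = y ^ n := by rw [sq, hv2]
  have hvpow : v ^ (2 ^ (m + 1)) = 1 := by
    rw [pow_succ, mul_comm, pow_mul, hv2', ← pow_mul, mul_comm, pow_mul, ← hm, pow_orderOf_eq_one,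
      one_pow]
  obtain ⟨j, hj, hvj⟩ := (Nat.dvd_prime_pow Nat.prime_two).1 (orderOf_dvd_of_pow_eq_one hvpow)
  have hle := hmax v hvx ⟨j, hvj⟩
  rw [hvj, hm] at hle
  have hjm : j ≤ m := (Nat.pow_le_pow_iff_right (by norm_num)).1 hle
  have hvm : v ^ (2 ^ m) = 1 := by
    apply orderOf_dvd_iff_pow_eq_one.1
    rw [hvj]
    exact pow_dvd_pow 2 hjm
  obtain ⟨c, hc⟩ := exists_pow_eq_self_of_coprime (x := y) (n := n) (by rw [hm]; exact hcop)
  rcases Nat.eq_zero_or_pos m with hm0 | hmpos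
  · -- y = 1, Cauchy gives an involution
    subst hm0
    have h2 : 2 ∣ Nat.card (Subgroup.centralizer ({x} : Set G)) := heven.two_dvd
    have : Fact (Nat.Prime 2) := ⟨Nat.prime_two⟩
    obtain ⟨z, hz⟩ := exists_prime_orderOf_dvd_card' (G := Subgroup.centralizer ({x} : Set G)) 2 h2
    have hz' : orderOf (z : G) = 2 := by
      rw [Subgroup.orderOf_coe]; exact hz
    have := hmax z z.2 ⟨1, by rw [hz']; norm_num⟩
    rw [hz', hm] at this
    norm_num at this
  · have h1 : (y ^ n) ^ (2 ^ (m - 1)) = 1 := by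
      rw [← hv2', ← pow_mul, ← pow_succ', Nat.sub_add_cancel hmpos, hvm]
    have h2 : y ^ (2 ^ (m - 1)) = 1 := by
      rw [← hc, ← pow_mul, mul_comm, pow_mul, h1, one_pow]
    have h3 := orderOf_dvd_of_pow_eq_one h2
    rw [hm] at h3
    have h4 := (Nat.pow_dvd_pow_iff_le_right (by norm_num : 1 < 2)).1 h3
    omega

/-- Let p be an odd prime, G a finite group and x an element of G whose order is a power of p (possibly 1) and whose centralizer has even order. Let y be a 2-element of the centralizer of x whose order is largest among the 2-elements of that centralizer. Then x * y is not a square in G, and some non-principal real-valued irreducible character of G does not vanish at x * y. -/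
theorem result {G : Type*} [Group G] [Finite G] (p : ℕ) [Fact p.Prime] (hp : p ≠ 2) (x : G) (hx : ∃ k : ℕ, orderOf x = p ^ k) (heven : Even (Nat.card (Subgroup.centralizer ({x} : Set G)))) (y : G) (hy : y ∈ Subgroup.centralizer ({x} : Set G)) (hy2 : ∃ k : ℕ, orderOf y = 2 ^ k) (hmax : ∀ z ∈ Subgroup.centralizer ({x} : Set G), (∃ k : ℕ, orderOf z = 2 ^ k) → orderOf z ≤ orderOf y) : (¬ ∃ u : G, u * u = x * y) ∧ ∃ χ : Cfsg.IrrCharacter G, ¬ ((χ : G → ℂ) = fun _ => (1 : ℂ)) ∧ (∀ g : G, ((χ : G → ℂ) g).im = 0) ∧ (χ : G → ℂ) (x * y) ≠ 0 := by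
  classical
  have hns := not_square p hp x hx heven y hy hy2 hmax
  refine ⟨hns, ?_⟩
  have := Fintype.ofFinite G
  have hne : (Nat.card G : ℂ) ≠ 0 := by exact_mod_cast Nat.card_pos.ne'
  by_contra hcon
  push Not at hcon
  have hcard : (Nat.card {u : G // u * u = x * y} : ℂ) = 0 := by
    have : IsEmpty {u : G // u * u = x * y} := ⟨fun u => hns ⟨u.1, u.2⟩⟩
    simp
  have hexp := card_sqrt_eq (x * y)
  rw [hcard] at hexp
  have hsingle : ∑ᶠ χ : IrrCharacter G,
      conj ((Nat.card G : ℂ)⁻¹ * ∑ u : G, (χ : G → ℂ) (u * u)) * (χ : G → ℂ) (x * y) =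
      conj ((Nat.card G : ℂ)⁻¹ * ∑ u : G, (trivialIrr G : G → ℂ) (u * u)) *
        (trivialIrr G : G → ℂ) (x * y) := by
    apply finsum_eq_single
    intro χ hχ
    by_cases hreal : ∀ g : G, ((χ : G → ℂ) g).im = 0
    · have hχ1 : ¬ ((χ : G → ℂ) = fun _ => (1 : ℂ)) := by
        intro h
        apply hχ
        exact Subtype.ext h
      rw [hcon χ hχ1 hreal, mul_zero]
    · rw [irr_sum_sq_eq_zero_of_not_real χ hreal]
      simp
  rw [hsingle] at hexp
  simp only [trivialIrr_apply, Finset.sum_const, Finset.card_univ, nsmul_eq_mul, mul_one] at hexp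
  rw [← Nat.card_eq_fintype_card, inv_mul_cancel₀ hne] at hexp
  simp at hexp

end Cfsg.Agent.S4859
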