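import Cfsg.Statements.S4866
import Mathlib
import Cfsg.Agent.Lib.Helper80.BrauerOdd

set_option autoImplicit false
open Cfsg

namespace Cfsg.Agent.S4866

open Cfsg.Agent.Helper80

/-- Let K be a normal subgroup of odd index in the finite group G. Then G has as many orbits on the real-valued irreducible complex characters of K (acting by conjugation) as it has orbits on the conjugacy classes of K that are real in K; equivalently, the number of G-orbits of real-valued irreducible characters of K equals the number of G-conjugacy classes of elements of K that are conjugate in K to their inverses. -/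
theorem result {G : Type*} [Group G] [Finite G] (K : Subgroup G) [K.Normal] (hodd : Odd K.index) : Nat.card (Quot (fun θ η : {θ : Cfsg.IrrCharacter ↥K // (∀ k : ↥K, ((θ : ↥K → ℂ) k).im = 0)} => ∃ g : G, ∀ k k' : ↥K, (k' : G) = g * (k : G) * g⁻¹ → (η.1 : ↥K → ℂ) k' = (θ.1 : ↥K → ℂ) k)) = Nat.card (Quot (fun x y : {x : ↥K // IsConj x x⁻¹} => ∃ g : G, (y.1 : G) = g * x.1 * g⁻¹)) := by
  have hK : K.Normal := inferInstance
  have e1 : Quot (fun θ η : {θ : Cfsg.IrrCharacter ↥K // (∀ k : ↥K, ((θ : ↥K → ℂ) k).im = 0)} => ∃ g : G, ∀ k k' : ↥K, (k' : G) = g * (k : G) * g⁻¹ → (η.1 : ↥K → ℂ) k' = (θ.1 : ↥K → ℂ) k) ≃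
      Quotient (@MulAction.orbitRel G _ _ (realIrrAction K)) := by
    refine Quot.congrRight (fun θ η => ?_)
    letI := realIrrAction K
    change _ ↔ θ ∈ MulAction.orbit G η
    rw [MulAction.mem_orbit_iff]
    constructor
    · rintro ⟨g, hg⟩
      refine ⟨g⁻¹, ?_⟩
      apply Subtype.ext
      rw [realIrrAction_smul_coe]
      apply Subtype.ext
      rw [irrConjAction_smul_coe]
      funext k
      rw [Cfsg.Agent.Helper81.conjFun_apply]
      apply hg
      simp
    · rintro ⟨h, hh⟩
      refine ⟨h⁻¹, ?_⟩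
      intro k k' hk'
      have h1 := congrArg (fun ψ : {θ : Cfsg.IrrCharacter ↥K // (∀ k : ↥K, ((θ : ↥K → ℂ) k).im = 0)} => (ψ.1 : ↥K → ℂ) k) hh
      simp only [realIrrAction_smul_coe, irrConjAction_smul_coe,
        Cfsg.Agent.Helper81.conjFun_apply] at h1
      rw [← h1]
      apply congrArg
      apply Subtype.ext
      simp only [hk']
  have e2 : Quot (fun x y : {x : ↥K // IsConj x x⁻¹} => ∃ g : G, (y.1 : G) = g * x.1 * g⁻¹) ≃
      Quotient (@MulAction.orbitRel G _ _ (realEltAction K)) := by
    refine Quot.congrRight (fun x y => ?_)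
    letI := realEltAction K
    change _ ↔ x ∈ MulAction.orbit G y
    rw [MulAction.mem_orbit_iff]
    constructor
    · rintro ⟨g, hg⟩
      refine ⟨g⁻¹, ?_⟩
      apply Subtype.ext
      apply Subtype.ext
      rw [realEltAction_smul_coe, hg]
      group
    · rintro ⟨h, hh⟩
      refine ⟨h⁻¹, ?_⟩
      have h1 := congrArg (fun z : {x : ↥K // IsConj x x⁻¹} => ((z : ↥K) : G)) hh
      simp only [realEltAction_smul_coe] at h1
      rw [← h1]
      group
  rw [Nat.card_congr e1, Nat.card_congr e2]
  exact card_orbits_real_irr_eq K hodd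

end Cfsg.Agent.S4866
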