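import Cfsg.Statements.S4871
import Mathlib
import Cfsg.Agent.Lib.Helper80.AvgDegA
import Cfsg.Agent.Lib.Helper80.AvgDegE

set_option autoImplicit false
open Cfsg

namespace Cfsg.Agent.S4871

/-- Let G be a finite group that is the semidirect product of a normal elementary abelian subgroup N of odd order by a non-trivial 2-subgroup P, with N the unique minimal normal subgroup of G. Consider the strongly real irreducible complex characters of G (Frobenius–Schur indicator +1) whose degree is 1 or even. Then their average degree is at least 4/3: four times their number is at most three times the sum of their degrees. -/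
theorem result {G : Type*} [Group G] [Finite G] (N P : Subgroup G) (hN : N.Normal) (q : ℕ) [Fact q.Prime] (hq : q ≠ 2) (hNel : Cfsg.IsElementaryAbelian q N) (hP : IsPGroup 2 ↥P) (hP1 : P ≠ ⊥) (hdisj : N ⊓ P = ⊥) (hprod : N ⊔ P = ⊤) (hmin : N ≠ ⊥ ∧ ∀ M : Subgroup G, M.Normal → M ≠ ⊥ → N ≤ M) : 4 * Nat.card {χ : Cfsg.IrrCharacter G // (Cfsg.charDegree (χ : G → ℂ) = 1 ∨ 2 ∣ Cfsg.charDegree (χ : G → ℂ)) ∧ (Nat.card G : ℂ)⁻¹ * ∑ᶠ g : G, (χ : G → ℂ) (g * g) = 1} ≤ 3 * (∑ᶠ χ : {χ : Cfsg.IrrCharacter G // (Cfsg.charDegree (χ : G → ℂ) = 1 ∨ 2 ∣ Cfsg.charDegree (χ : G → ℂ)) ∧ (Nat.card G : ℂ)⁻¹ * ∑ᶠ g : G, (χ : G → ℂ) (g * g) = 1}, Cfsg.charDegree (χ.1 : G → ℂ)) := by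
  classical
  have hcommN : ∀ a ∈ N, ∀ b ∈ N, a * b = b * a := by
    intro a ha b hb
    have h1 := hNel.1
    have h2 := mul_comm' (⟨a, ha⟩ : ↥N) ⟨b, hb⟩
    exact congrArg Subtype.val h2
  obtain ⟨r, hrP, hrp, hr, hrN⟩ := Helper80.AvgDegA.exists_retraction N P hN hdisj hprod
  obtain ⟨z, hzP, hzz, hzc, hzinv⟩ := Helper80.AvgDegA.exists_inverting_involution N P hN hcommN
    hP hP1 hdisj hprod hmin.1 hmin.2
  have hNnt : Nontrivial ↥N := (Subgroup.nontrivial_iff_ne_bot N).2 hmin.1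
  obtain ⟨l, hl⟩ := Helper80.AvgDegA.exists_hom_ne_one (A := ↥N)
    (fun a b => Subtype.ext (hcommN a a.2 b b.2))
  let D : Helper80.AvgDegB.Data N := ⟨hN, hcommN, r, hr, hrN, l⟩
  have hz : D.Inverts z := by
    intro n
    have h1 : (⟨z * n * z⁻¹, D.hN.conj_mem n n.2 z⟩ : ↥N) = n⁻¹ := Subtype.ext (hzinv n n.2)
    rw [h1, map_inv]
  have hqodd : Odd q := (Fact.out : q.Prime).odd_of_ne_two hq
  obtain ⟨k, hk⟩ := hqodd
  have hodd : ∀ n ∈ N, ∃ k : ℕ, n ^ (2 * k + 1) = 1 := by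
    intro n hn
    exact ⟨k, by rw [← hk]; exact hNel.2 n hn⟩
  have hzT : z ∉ D.T := by
    intro hzT
    apply hl
    ext n
    have h1 := (D.mem_T_iff z).1 hzT n
    have h2 := hz n
    have h3 : l n = (l n)⁻¹ := h1.symm.trans h2
    have h4 : l n ^ 2 = 1 := by
      rw [pow_two]
      nth_rewrite 1 [h3]
      exact inv_mul_cancel _
    have h5 : l n ^ (2 * k + 1) = 1 := by
      rw [← map_pow, ← hk]
      have : n ^ q = 1 := Subtype.ext (by simpa using hNel.2 n n.2)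
      rw [this, map_one]
    rw [pow_succ, pow_mul, h4, one_pow, one_mul] at h5
    rw [h5]; rfl
  have hidx : 2 ∣ D.T.index := by
    have h1 : D.T.index ∣ N.index := Subgroup.index_dvd_of_le D.N_le_T
    rw [Helper80.AvgDegA.index_eq_card N P hN hdisj hprod] at h1
    obtain ⟨e, he⟩ := hP.exists_card_eq
    rw [he] at h1
    obtain ⟨j, -, hj⟩ := (Nat.dvd_prime_pow Nat.prime_two).1 h1
    rcases Nat.eq_zero_or_pos j with h0 | hpos
    · exfalso
      rw [h0, pow_zero, Subgroup.index_eq_one] at hj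
      apply hzT
      rw [hj]
      exact Subgroup.mem_top z
    · rw [hj]
      exact dvd_pow_self 2 hpos.ne'
  have hcount := D.card_real_linear_le hz hodd
  set m := D.T.index with hm
  have hm0 : 0 < m := Nat.pos_of_ne_zero Subgroup.index_ne_zero_of_finite
  have hm2 : 2 ≤ m := Nat.le_of_dvd hm0 hidx
  have hS : Fintype {χ : Cfsg.IrrCharacter G // (Cfsg.charDegree (χ : G → ℂ) = 1 ∨
      2 ∣ Cfsg.charDegree (χ : G → ℂ)) ∧
      (Nat.card G : ℂ)⁻¹ * ∑ᶠ g : G, (χ : G → ℂ) (g * g) = 1} := Fintype.ofFinite _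
  rw [finsum_eq_sum_of_fintype, Nat.card_eq_fintype_card]
  have hpt : ∀ χ : {χ : Cfsg.IrrCharacter G // (Cfsg.charDegree (χ : G → ℂ) = 1 ∨
      2 ∣ Cfsg.charDegree (χ : G → ℂ)) ∧
      (Nat.card G : ℂ)⁻¹ * ∑ᶠ g : G, (χ : G → ℂ) (g * g) = 1},
      4 + (if Cfsg.charDegree (χ.1 : G → ℂ) = m then 1 else 0) * m ≤
        3 * Cfsg.charDegree (χ.1 : G → ℂ) +
          (if Cfsg.charDegree (χ.1 : G → ℂ) = 1 then 1 else 0) := by
    intro χ
    have hpos : 0 < Cfsg.charDegree (χ.1.1 : G → ℂ) := Helper80.charDegree_pos χ.1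
    rcases χ.2.1 with h1 | h2
    · rw [if_pos h1, if_neg (by omega)]
      omega
    · have h3 : 2 ≤ Cfsg.charDegree (χ.1.1 : G → ℂ) := Nat.le_of_dvd hpos h2
      split_ifs <;> omega
  have hsum := Finset.sum_le_sum (s := Finset.univ) (fun χ _ => hpt χ)
  rw [Finset.sum_add_distrib, Finset.sum_add_distrib, Finset.sum_const, ← Finset.mul_sum,
    ← Finset.sum_mul, Finset.sum_boole, Finset.sum_boole, Finset.card_univ, smul_eq_mul] at hsum
  -- the two filters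
  have hA : (Finset.univ.filter fun χ : {χ : Cfsg.IrrCharacter G //
      (Cfsg.charDegree (χ : G → ℂ) = 1 ∨ 2 ∣ Cfsg.charDegree (χ : G → ℂ)) ∧
      (Nat.card G : ℂ)⁻¹ * ∑ᶠ g : G, (χ : G → ℂ) (g * g) = 1} =>
      Cfsg.charDegree (χ.1 : G → ℂ) = 1).card ≤
      Nat.card {χ : Cfsg.IrrCharacter G // Cfsg.charDegree (χ : G → ℂ) = 1 ∧
        Helper80.AvgDegB.fsum (χ : G → ℂ) = 1} := by
    rw [← Fintype.card_subtype, ← Nat.card_eq_fintype_card]
    apply Nat.card_le_card_of_injective (fun χ => ⟨χ.1.1, χ.2, χ.1.2.2⟩)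
    intro a b hab
    have h' : a.1.1 = b.1.1 := congrArg (fun x : {χ : Cfsg.IrrCharacter G //
      Cfsg.charDegree (χ : G → ℂ) = 1 ∧ Helper80.AvgDegB.fsum (χ : G → ℂ) = 1} => x.1) hab
    exact Subtype.ext (Subtype.ext h')
  have hB : Nat.card {χ : Cfsg.IrrCharacter G // Cfsg.charDegree (χ : G → ℂ) = m ∧
        Helper80.AvgDegB.fsum (χ : G → ℂ) = 1} ≤
      (Finset.univ.filter fun χ : {χ : Cfsg.IrrCharacter G //
      (Cfsg.charDegree (χ : G → ℂ) = 1 ∨ 2 ∣ Cfsg.charDegree (χ : G → ℂ)) ∧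
      (Nat.card G : ℂ)⁻¹ * ∑ᶠ g : G, (χ : G → ℂ) (g * g) = 1} =>
      Cfsg.charDegree (χ.1 : G → ℂ) = m).card := by
    rw [← Fintype.card_subtype, ← Nat.card_eq_fintype_card]
    apply Nat.card_le_card_of_injective
      (fun χ => ⟨⟨χ.1, Or.inr (by rw [χ.2.1]; exact hidx), χ.2.2⟩, χ.2.1⟩)
    intro a b hab
    have h' := congrArg (fun x : {χ : {χ : Cfsg.IrrCharacter G //
      (Cfsg.charDegree (χ : G → ℂ) = 1 ∨ 2 ∣ Cfsg.charDegree (χ : G → ℂ)) ∧
      (Nat.card G : ℂ)⁻¹ * ∑ᶠ g : G, (χ : G → ℂ) (g * g) = 1} //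
      Cfsg.charDegree (χ.1 : G → ℂ) = m} => x.1.1) hab
    exact Subtype.ext h'
  have h6 := Nat.mul_le_mul_right m hB
  have h7 : Nat.card {χ : Cfsg.IrrCharacter G // Cfsg.charDegree (χ : G → ℂ) = 1 ∧
        Helper80.AvgDegB.fsum (χ : G → ℂ) = 1} ≤ Nat.card {χ : Cfsg.IrrCharacter G //
        Cfsg.charDegree (χ : G → ℂ) = m ∧ Helper80.AvgDegB.fsum (χ : G → ℂ) = 1} * m := by
    rw [mul_comm]; exact hcount
  simp only [Nat.cast_id] at hsum
  omega

end Cfsg.Agent.S4871
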