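import Cfsg.Statements.S4873
import Mathlib
import Cfsg.Agent.Lib.Helper80.OddIndexReal

set_option autoImplicit false
open Cfsg

namespace Cfsg.Agent.S4873

/-- Let N be a normal subgroup of odd index in the finite group G. Then every irreducible complex character of N with Frobenius–Schur indicator +1 lies under exactly one irreducible character of G with Frobenius–Schur indicator +1. -/
theorem result {G : Type*} [Group G] [Finite G] (N : Subgroup G) [N.Normal] (hodd : Odd N.index) (φ : Cfsg.IrrCharacter ↥N) (hφ : (Nat.card ↥N : ℂ)⁻¹ * ∑ᶠ g : ↥N, (φ : ↥N → ℂ) (g * g) = 1) : ∃! χ : Cfsg.IrrCharacter G, (Nat.card G : ℂ)⁻¹ * ∑ᶠ g : G, (χ : G → ℂ) (g * g) = 1 ∧ (∑ᶠ n : ↥N, (χ : G → ℂ) n * (starRingEnd ℂ) ((φ : ↥N → ℂ) n)) ≠ 0 := by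
  classical
  have := Fintype.ofFinite G
  have : Fintype ↥N := Fintype.ofFinite _
  rw [finsum_eq_sum_of_fintype] at hφ
  obtain ⟨χ₁, ⟨h1, h2⟩, huniq⟩ := Cfsg.Agent.Helper80.exists_unique_fs_one_over N hodd φ hφ
  have hN0 : (Nat.card ↥N : ℂ) ≠ 0 := by exact_mod_cast Nat.card_pos.ne'
  have hiff : ∀ χ : Cfsg.IrrCharacter G,
      ((∑ᶠ n : ↥N, (χ : G → ℂ) n * (starRingEnd ℂ) ((φ : ↥N → ℂ) n)) ≠ 0) ↔
        Cfsg.classInner (fun n : ↥N => (χ : G → ℂ) n) (φ : ↥N → ℂ) ≠ 0 := by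
    intro χ
    rw [finsum_eq_sum_of_fintype]
    unfold Cfsg.classInner
    constructor
    · intro h
      exact mul_ne_zero (inv_ne_zero hN0) h
    · intro h h0
      apply h
      rw [h0, mul_zero]
  refine ⟨χ₁, ⟨?_, (hiff χ₁).2 h2⟩, ?_⟩
  · rw [finsum_eq_sum_of_fintype]
    exact h1
  · rintro χ ⟨hν, he⟩
    apply huniq χ
    refine ⟨?_, (hiff χ).1 he⟩
    rw [finsum_eq_sum_of_fintype] at hν
    exact hν

end Cfsg.Agent.S4873
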