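import Cfsg.Statements.S4888
import Cfsg.Agent.Lib.Helper81.PrincNPC
import Cfsg.Agent.Lib.Helper78.FongPrincipal
import Cfsg.Agent.Lib.Helper16.QuotBlock
import Cfsg.Agent.Lib.Helper79.Codegree

set_option autoImplicit false
open Cfsg

namespace Cfsg.Agent.S4888

/-- Let G be a finite group, p a prime and M a maximal ideal of the algebraic integers containing p. Then all height-zero irreducible characters of the principal p-block of G (equivalently, all its characters of degree prime to p) have the same degree if and only if G has a normal p-complement. -/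
theorem result {G : Type*} [Group G] [Finite G] (p : ℕ) [Fact p.Prime] (M : Ideal Cfsg.AlgInt) (hM : Cfsg.IsPModular p M) : (∃ d : ℕ, ∀ χ : Cfsg.IrrCharacter G, χ ∈ (Cfsg.principalBlock M G) → Cfsg.blockHeight p (Cfsg.principalBlock M G) (χ : G → ℂ) = 0 → Cfsg.charDegree (χ : G → ℂ) = d) ↔ Cfsg.HasNormalPComplement p G := by
  classical
  have := Fintype.ofFinite G
  have hprime := Cfsg.Agent.Helper77.isPrime_of_isPModular hM
  have hp : p.Prime := Fact.out
  have htriv1 : charDegree ((Cfsg.Agent.Helper77.trivIrr G : IrrCharacter G) : G → ℂ) = 1 := by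
    unfold charDegree
    rw [Cfsg.Agent.Helper77.trivIrr_apply]
    simp
  constructor
  · rintro ⟨d, hd⟩
    have htrivB := Cfsg.Agent.Helper77.trivIrr_mem_principalBlock (G := G) M
    have hd1 : d = 1 := by
      rw [← hd _ htrivB ((Cfsg.Agent.Helper78.blockHeight_principalBlock_eq_zero_iff p M _).2
        (by rw [htriv1]; exact hp.one_lt.ne' ∘ Nat.dvd_one.1)), htriv1]
    apply Cfsg.Agent.Helper81.hasNormalPComplement_of_principal_linear hM
    intro χ hχ hnd
    have h1 := hd χ hχ ((Cfsg.Agent.Helper78.blockHeight_principalBlock_eq_zero_iff p M χ).2 hnd)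
    rw [(Cfsg.Agent.Helper78.irr_charDegree χ.2).1, h1, hd1, Nat.cast_one]
  · rintro ⟨P, N, hN, hc⟩
    refine ⟨1, fun χ hχ hh => ?_⟩
    have hnd := (Cfsg.Agent.Helper78.blockHeight_principalBlock_eq_zero_iff p M χ).1 hh
    have hcard := hc.card_mul_card
    have hidx : N.index = Nat.card P := by
      have h1 := N.card_mul_index
      rw [← hcard] at h1
      exact Nat.eq_of_mul_eq_mul_left Nat.card_pos h1
    have hpN : ¬ p ∣ Nat.card N := by
      have h1 := (P : Subgroup G).card_mul_index
      rw [← hcard, mul_comm] at h1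
      have h2 : (P : Subgroup G).index = Nat.card N :=
        Nat.eq_of_mul_eq_mul_right Nat.card_pos h1
      rw [← h2]
      exact P.not_dvd_index
    have : Fintype N := Fintype.ofFinite _
    have hker : ∀ n : N, (χ : G → ℂ) n = (χ : G → ℂ) 1 :=
      Cfsg.Agent.Helper16.ker_of_sameBlock_of_pprime N hM hpN (Cfsg.Agent.Helper77.trivIrr G) χ hχ
        (fun n => rfl)
    have hle : N ≤ Cfsg.Agent.Helper79.irrKer χ := fun n hn =>
      (Cfsg.Agent.Helper79.mem_irrKer χ n).2 (hker ⟨n, hn⟩)
    have hdvd : charDegree (χ : G → ℂ) ∣ Nat.card P := by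
      rw [← hidx]
      exact (Cfsg.Agent.Helper79.degree_dvd_index_irrKer χ).trans (Subgroup.index_dvd_of_le hle)
    obtain ⟨k, hk⟩ := IsPGroup.iff_card.1 P.2
    rw [hk] at hdvd
    obtain ⟨j, _, hj⟩ := (Nat.dvd_prime_pow hp).1 hdvd
    cases j with
    | zero => rw [hj, pow_zero]
    | succ j =>
      exfalso
      apply hnd
      rw [hj]
      exact dvd_pow_self p (Nat.succ_ne_zero j)

end Cfsg.Agent.S4888
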