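import Cfsg.Statements.S4911
import Cfsg.Agent.Lib.Helper79.Glaub.RealCorr
import Cfsg.Agent.S0160

set_option autoImplicit false
open Cfsg

namespace Cfsg.Agent.S4911

/-- Let P and K be subgroups of a finite group with P a p-group normalizing K and K of order prime to p. Then the number of P-invariant real-valued irreducible complex characters of K equals the number of conjugacy classes of K that are real (closed under inversion) and P-invariant. Moreover, if every real-valued irreducible character of K is P-invariant, then every real element of K (one conjugate in K to its inverse) is conjugate in K to an element centralized by P. -/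
theorem result {G : Type*} [Group G] [Finite G] (p : ℕ) [Fact p.Prime] (P K : Subgroup G) (hP : IsPGroup p ↥P) (hK : ¬ p ∣ Nat.card ↥K) (hPK : P ≤ Subgroup.normalizer (K : Set G)) : Nat.card {θ : Cfsg.IrrCharacter ↥K // (∀ k : ↥K, ((θ : ↥K → ℂ) k).im = 0) ∧ (∀ x ∈ P, ∀ k k' : ↥K, (k' : G) = x * (k : G) * x⁻¹ → (θ : ↥K → ℂ) k' = (θ : ↥K → ℂ) k)} = Nat.card {c : ConjClasses ↥K // (∀ k : ↥K, ConjClasses.mk k = c → IsConj k k⁻¹) ∧ ∀ k : ↥K, ConjClasses.mk k = c → ∀ x ∈ P, ∀ k' : ↥K, (k' : G) = x * (k : G) * x⁻¹ → ConjClasses.mk k' = c} ∧ ((∀ θ : Cfsg.IrrCharacter ↥K, (∀ k : ↥K, ((θ : ↥K → ℂ) k).im = 0) → (∀ x ∈ P, ∀ k k' : ↥K, (k' : G) = x * (k : G) * x⁻¹ → (θ : ↥K → ℂ) k' = (θ : ↥K → ℂ) k)) → ∀ k : ↥K, IsConj k k⁻¹ → ∃ k' : ↥K, IsConj k k' ∧ ∀ x ∈ P, x * (k' : G) * x⁻¹ = (k' : G)) := by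
  classical
  haveI : Fintype G := Fintype.ofFinite G
  have hp : p.Prime := Fact.out
  have hnorm : ∀ s ∈ P, Cfsg.Agent.Helper79.Glaub.NormAt K s := fun s hs =>
    (Cfsg.Agent.Helper79.Glaub.normAt_iff_mem_normalizer K s).mpr (hPK hs)
  have hcop : (Nat.card K).Coprime (Nat.card P) := by
    obtain ⟨n, hn⟩ := IsPGroup.iff_card.mp hP
    rw [hn]
    exact Nat.Coprime.pow_right n ((Nat.Prime.coprime_iff_not_dvd hp).mpr hK).symm
  have hsolv : Group.IsSolvable P := by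
    haveI := hP.isNilpotent
    infer_instance
  set C : Subgroup G := K ⊓ Subgroup.centralizer (P : Set G) with hC
  haveI : Fintype K := Fintype.ofFinite _
  haveI : Fintype C := Fintype.ofFinite _
  have hCK : C ≤ K := inf_le_left
  have h1 := Cfsg.Agent.Helper79.Glaub.card_real_invariant_irr p hp K P hnorm hcop hP C hC hCK
  have h2 := Cfsg.Agent.Helper79.Glaub.card_invariant_real_classes K P hnorm hcop hsolv C hC hCK
  have h3 : Nat.card {β : Cfsg.IrrCharacter C // ∀ c : C, ((β : C → ℂ) c).im = 0} =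
      Nat.card {κ : ConjClasses C // ∀ c : C, ConjClasses.mk c = κ → IsConj c c⁻¹} :=
    Cfsg.Agent.S0160.result
  have h4 : Nat.card {c : ConjClasses ↥K // (∀ k : ↥K, ConjClasses.mk k = c → IsConj k k⁻¹) ∧
      ∀ k : ↥K, ConjClasses.mk k = c → ∀ x ∈ P, ∀ k' : ↥K, (k' : G) = x * (k : G) * x⁻¹ →
        ConjClasses.mk k' = c} =
      Nat.card {c : ConjClasses ↥K // (∀ k : ↥K, ConjClasses.mk k = c → IsConj k k⁻¹) ∧
        ∀ s ∈ P, ∀ g g' : ↥K, (g' : G) = s * g * s⁻¹ →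
          ConjClasses.mk g = c → ConjClasses.mk g' = c} := by
    apply Nat.card_congr
    apply Equiv.subtypeEquivRight
    intro c
    apply and_congr Iff.rfl
    constructor
    · intro h s hs g g' hg' hg
      exact h g hg s hs g' hg'
    · intro h k hk x hx k' hk'
      exact h x hx k k' hk' hk
  have part1 : Nat.card {θ : Cfsg.IrrCharacter ↥K // (∀ k : ↥K, ((θ : ↥K → ℂ) k).im = 0) ∧
      (∀ x ∈ P, ∀ k k' : ↥K, (k' : G) = x * (k : G) * x⁻¹ →
        (θ : ↥K → ℂ) k' = (θ : ↥K → ℂ) k)} =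
      Nat.card {c : ConjClasses ↥K // (∀ k : ↥K, ConjClasses.mk k = c → IsConj k k⁻¹) ∧
      ∀ k : ↥K, ConjClasses.mk k = c → ∀ x ∈ P, ∀ k' : ↥K, (k' : G) = x * (k : G) * x⁻¹ →
        ConjClasses.mk k' = c} := by
    rw [h4]
    exact h1.trans (h3.trans h2.symm)
  refine ⟨part1, ?_⟩
  intro hall k hk
  -- all real characters are invariant, so the counts of real objects agree
  have h5 : Nat.card {θ : Cfsg.IrrCharacter ↥K // ∀ k : ↥K, ((θ : ↥K → ℂ) k).im = 0} =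
      Nat.card {θ : Cfsg.IrrCharacter ↥K // (∀ k : ↥K, ((θ : ↥K → ℂ) k).im = 0) ∧
      (∀ x ∈ P, ∀ k k' : ↥K, (k' : G) = x * (k : G) * x⁻¹ →
        (θ : ↥K → ℂ) k' = (θ : ↥K → ℂ) k)} := by
    apply Nat.card_congr
    apply Equiv.subtypeEquivRight
    intro θ
    exact ⟨fun h => ⟨h, hall θ h⟩, fun h => h.1⟩
  have h6 : Nat.card {θ : Cfsg.IrrCharacter ↥K // ∀ k : ↥K, ((θ : ↥K → ℂ) k).im = 0} =
      Nat.card {c : ConjClasses ↥K // ∀ k : ↥K, ConjClasses.mk k = c → IsConj k k⁻¹} :=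
    Cfsg.Agent.S0160.result
  -- hence every real class is invariant
  have h7 : ({c : ConjClasses ↥K | (∀ k : ↥K, ConjClasses.mk k = c → IsConj k k⁻¹) ∧
      ∀ k : ↥K, ConjClasses.mk k = c → ∀ x ∈ P, ∀ k' : ↥K, (k' : G) = x * (k : G) * x⁻¹ →
        ConjClasses.mk k' = c} : Set (ConjClasses ↥K)) =
      {c : ConjClasses ↥K | ∀ k : ↥K, ConjClasses.mk k = c → IsConj k k⁻¹} := by
    apply Set.eq_of_subset_of_ncard_le
    · intro c hc
      exact hc.1
    · rw [← Nat.card_coe_set_eq, ← Nat.card_coe_set_eq]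
      apply le_of_eq
      exact (h6.symm.trans (h5.trans part1))
    · exact Set.toFinite _
  have hkreal : ConjClasses.mk k ∈ ({c : ConjClasses ↥K |
      ∀ k : ↥K, ConjClasses.mk k = c → IsConj k k⁻¹} : Set (ConjClasses ↥K)) := by
    intro k₁ hk₁
    have h8 : IsConj k₁ k := by
      rw [← ConjClasses.mk_eq_mk_iff_isConj]
      exact hk₁
    have h9 : IsConj k₁⁻¹ k⁻¹ := by
      rw [isConj_iff] at h8 ⊢
      obtain ⟨g, hg⟩ := h8
      exact ⟨g, by rw [← hg]; group⟩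
    exact (h8.trans hk).trans h9.symm
  rw [← h7] at hkreal
  have hkinv := hkreal.2
  have hex := Cfsg.Agent.Helper79.Glaub.classEx_pgroup p hp (Nat.card P) K P rfl hnorm hcop hP
  have hinv : ∀ s ∈ P, ∃ h ∈ K, s * (k : G) * s⁻¹ = h * (k : G) * h⁻¹ := by
    intro s hs
    have hmem : s * (k : G) * s⁻¹ ∈ K := (hnorm s hs).1 k k.2
    have h10 := hkinv k rfl s hs ⟨s * (k : G) * s⁻¹, hmem⟩ rfl
    rw [ConjClasses.mk_eq_mk_iff_isConj, isConj_iff] at h10
    obtain ⟨h, hh⟩ := h10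
    have hh' : (h : G) * (s * (k : G) * s⁻¹) * (h : G)⁻¹ = (k : G) := by
      have := congrArg (fun z : ↥K => (z : G)) hh
      simpa using this
    refine ⟨(h : G)⁻¹, K.inv_mem h.2, ?_⟩
    calc s * (k : G) * s⁻¹
        = (h : G)⁻¹ * ((h : G) * (s * (k : G) * s⁻¹) * (h : G)⁻¹) * (h : G) := by group
      _ = (h : G)⁻¹ * (k : G) * ((h : G)⁻¹)⁻¹ := by rw [hh', inv_inv]
  obtain ⟨γ, hγ, hγc⟩ := hex (k : G) k.2 hinv
  have hmemK : γ * (k : G) * γ⁻¹ ∈ K := K.mul_mem (K.mul_mem hγ k.2) (K.inv_mem hγ)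
  refine ⟨⟨γ * (k : G) * γ⁻¹, hmemK⟩, ?_, ?_⟩
  · rw [isConj_iff]
    exact ⟨⟨γ, hγ⟩, Subtype.ext (by simp)⟩
  · intro x hx
    have := (Subgroup.mem_centralizer_iff.mp hγc) x hx
    show x * (γ * (k : G) * γ⁻¹) * x⁻¹ = γ * (k : G) * γ⁻¹
    rw [this, mul_inv_cancel_right]

end Cfsg.Agent.S4911
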