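import Cfsg.Statements.S4912
import Mathlib
import Cfsg.Agent.Lib.Helper80.Gallagher2

set_option autoImplicit false
open Cfsg

namespace Cfsg.Agent.S4912

/-- Let G be a finite group with a non-abelian minimal normal subgroup N, and let φ be an irreducible complex character of N with stabilizer I in G such that φ extends to an irreducible character of I with Frobenius–Schur indicator +1. Put d = φ(1)·[G : I]. Then the number of linear characters of G with Frobenius–Schur indicator +1 is at most [G : I] times the number of irreducible characters of G of degree d with Frobenius–Schur indicator +1. -/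
theorem result {G : Type*} [Group G] [Finite G] (N : Subgroup G) (hN : N.Normal) (hN1 : N ≠ ⊥) (hmin : ∀ M : Subgroup G, M.Normal → M ≤ N → M = ⊥ ∨ M = N) (hna : ¬ IsMulCommutative ↥N) (φ : Cfsg.IrrCharacter ↥N) (I : Subgroup G) (hI : ∀ g : G, g ∈ I ↔ ∀ n n' : ↥N, (n' : G) = g * (n : G) * g⁻¹ → (φ : ↥N → ℂ) n' = (φ : ↥N → ℂ) n) (hNI : N ≤ I) (hext : ∃ ψ : Cfsg.IrrCharacter ↥I, (Nat.card ↥I : ℂ)⁻¹ * ∑ᶠ g : ↥I, (ψ : ↥I → ℂ) (g * g) = 1 ∧ ∀ n : ↥N, (ψ : ↥I → ℂ) (Subgroup.inclusion hNI n) = (φ : ↥N → ℂ) n) : Nat.card {χ : Cfsg.IrrCharacter G // Cfsg.charDegree (χ : G → ℂ) = 1 ∧ (Nat.card G : ℂ)⁻¹ * ∑ᶠ g : G, (χ : G → ℂ) (g * g) = 1} ≤ I.index * Nat.card {χ : Cfsg.IrrCharacter G // Cfsg.charDegree (χ : G → ℂ) = Cfsg.charDegree (φ : ↥N → ℂ) * I.index ∧ (Nat.card G : ℂ)⁻¹ * ∑ᶠ g : G, (χ : G → ℂ) (g * g) = 1} := by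
  classical
  have hfG : Fintype G := Fintype.ofFinite G
  have hfN : Fintype ↥N := Fintype.ofFinite _
  have hfI : Fintype ↥I := Fintype.ofFinite _
  obtain ⟨ψ, hfs, hψ⟩ := hext
  rw [finsum_eq_sum_of_fintype] at hfs
  -- `ψ` and `φ` are real valued
  have hψreal : ∀ s : ↥I, ((ψ : ↥I → ℂ) s).im = 0 := by
    obtain ⟨-, h2, -⟩ := Cfsg.Agent.Helper80.irr_fs ψ
    by_contra hcon
    push Not at hcon
    have h0 := h2.2 hcon
    rw [h0] at hfs
    exact zero_ne_one hfs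
  have hφreal : ∀ n : ↥N, (starRingEnd ℂ) ((φ : ↥N → ℂ) n) = (φ : ↥N → ℂ) n := by
    intro n
    rw [← hψ n]
    exact Complex.conj_eq_iff_im.2 (hψreal _)
  have hT : ∀ g : G, g ∈ I ↔
      Cfsg.Agent.Helper81.conjFun N hN (φ : ↥N → ℂ) g = (φ : ↥N → ℂ) := by
    intro g
    rw [hI g]
    constructor
    · intro h
      funext n
      rw [Cfsg.Agent.Helper81.conjFun_apply]
      exact h n _ rfl
    · intro h n n' hn'
      have h1 := congrFun h n
      rw [Cfsg.Agent.Helper81.conjFun_apply] at h1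
      rw [← h1]
      apply congrArg
      exact Subtype.ext hn'
  -- the Frobenius–Schur indicator of the induced character
  have hfs0 : (Nat.card G : ℂ)⁻¹ * ∑ g : G, indFun I (ψ : ↥I → ℂ) (g * g) = 1 := by
    rw [Cfsg.Agent.Helper80.fs_indFun]
    obtain ⟨d, ρ, hρ, hρψ⟩ := ψ.2
    rw [← hρψ, Cfsg.Agent.Helper80.sum_extend_sq N I hN hNI ρ φ.2
      (by intro n; rw [hρψ]; exact hψ n) hφreal hT, hρψ]
    exact hfs
  -- the subgroup of real linear characters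
  let R : Subgroup (G →* ℂˣ) := (powMonoidHom 2 : (G →* ℂˣ) →* (G →* ℂˣ)).ker
  have hR : ∀ μ : G →* ℂˣ, μ ∈ R ↔ ∀ g, μ g * μ g = 1 := by
    intro μ
    simp only [R, MonoidHom.mem_ker, powMonoidHom_apply]
    constructor
    · intro h g
      have := DFunLike.congr_fun h g
      simpa [pow_two] using this
    · intro h
      ext g
      simpa [pow_two] using congrArg Units.val (h g)
  let P : IrrCharacter G → Prop :=
    fun χ => (Nat.card G : ℂ)⁻¹ * ∑ᶠ g : G, (χ : G → ℂ) (g * g) = 1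
  have hP : ∀ χ₀ : IrrCharacter G, (χ₀ : G → ℂ) = indFun I (ψ : ↥I → ℂ) → ∀ μ ∈ R,
      P (μ • χ₀) := by
    intro χ₀ hχ₀ μ hμ
    show (Nat.card G : ℂ)⁻¹ * ∑ᶠ g : G, ((μ • χ₀ : IrrCharacter G) : G → ℂ) (g * g) = 1
    rw [finsum_eq_sum_of_fintype, ← hfs0]
    congr 1
    apply Finset.sum_congr rfl
    intro g _
    rw [Cfsg.Agent.Helper74.Lin.smul_apply, hχ₀, map_mul, (hR μ).1 hμ g]
    simp
  have hmain := Cfsg.Agent.Helper80.card_subgroup_le N hN hmin hna φ I hI hNI ψ hψ R P hP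
  refine le_trans ?_ hmain
  -- linear characters with indicator one give elements of `R`
  have hlin1 : ∀ χ : {χ : IrrCharacter G // charDegree (χ : G → ℂ) = 1 ∧
      (Nat.card G : ℂ)⁻¹ * ∑ᶠ g : G, (χ : G → ℂ) (g * g) = 1}, (χ.1 : G → ℂ) 1 = 1 := by
    intro χ
    rw [Cfsg.Agent.Helper80.irr_one, χ.2.1]
    simp
  have hmemR : ∀ χ : {χ : IrrCharacter G // charDegree (χ : G → ℂ) = 1 ∧
      (Nat.card G : ℂ)⁻¹ * ∑ᶠ g : G, (χ : G → ℂ) (g * g) = 1},
      Cfsg.Agent.Helper74.Lin.toHom χ.1 (hlin1 χ) ∈ R := by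
    intro χ
    rw [hR]
    intro g
    have hχfs := χ.2.2
    rw [finsum_eq_sum_of_fintype] at hχfs
    have hreal : ((χ.1 : G → ℂ) g).im = 0 := by
      obtain ⟨-, h2, -⟩ := Cfsg.Agent.Helper80.irr_fs χ.1
      by_contra hcon
      have h0 := h2.2 ⟨g, hcon⟩
      rw [h0] at hχfs
      exact zero_ne_one hχfs
    have hinv : Cfsg.Agent.Helper74.Lin.toHom χ.1 (hlin1 χ) g⁻¹ =
        Cfsg.Agent.Helper74.Lin.toHom χ.1 (hlin1 χ) g := by
      apply Units.ext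
      rw [Cfsg.Agent.Helper74.Lin.toHom_apply, Cfsg.Agent.Helper74.Lin.toHom_apply,
        Cfsg.Agent.Helper80.irr_inv]
      exact Complex.conj_eq_iff_im.2 hreal
    rw [map_inv] at hinv
    calc Cfsg.Agent.Helper74.Lin.toHom χ.1 (hlin1 χ) g *
          Cfsg.Agent.Helper74.Lin.toHom χ.1 (hlin1 χ) g
        = Cfsg.Agent.Helper74.Lin.toHom χ.1 (hlin1 χ) g *
          (Cfsg.Agent.Helper74.Lin.toHom χ.1 (hlin1 χ) g)⁻¹ := by rw [hinv]
      _ = 1 := mul_inv_cancel _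
  apply Nat.card_le_card_of_injective
    (fun χ : {χ : IrrCharacter G // charDegree (χ : G → ℂ) = 1 ∧
      (Nat.card G : ℂ)⁻¹ * ∑ᶠ g : G, (χ : G → ℂ) (g * g) = 1} =>
      (⟨Cfsg.Agent.Helper74.Lin.toHom χ.1 (hlin1 χ), hmemR χ⟩ : ↥R))
  intro a b h
  have h' : Cfsg.Agent.Helper74.Lin.toHom a.1 (hlin1 a) =
      Cfsg.Agent.Helper74.Lin.toHom b.1 (hlin1 b) := congrArg Subtype.val h
  apply Subtype.ext
  rw [← Cfsg.Agent.Helper74.Lin.ofHom_toHom a.1 (hlin1 a),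
    ← Cfsg.Agent.Helper74.Lin.ofHom_toHom b.1 (hlin1 b), h']

end Cfsg.Agent.S4912
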