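import Mathlib
import Cfsg.Statements.S4916
import Cfsg.Agent.S0914
import Cfsg.Agent.Lib.Helper16.Osima
import Cfsg.Agent.Lib.Helper77.Principal
import Cfsg.Agent.Lib.Helper78.CharCount
import Cfsg.Agent.Lib.Helper3.CharIntegral

set_option autoImplicit false
set_option linter.style.haveILetI false
set_option linter.unusedSectionVars false
open Cfsg

namespace Cfsg.Agent.S4916

open scoped ComplexConjugate
open Cfsg.Agent.Helper77 Cfsg.Agent.Helper78 Cfsg.Agent.Helper16

theorem result {G : Type*} [Group G] [Finite G] (p : ℕ) [Fact p.Prime] (M : Ideal Cfsg.AlgInt) (hM : Cfsg.IsPModular p M) : (∀ χ : Cfsg.IrrCharacter G, χ ∈ Cfsg.principalBlock M G → ¬ p ∣ Cfsg.charDegree (χ : G → ℂ) → (χ : G → ℂ) = fun _ => (1 : ℂ)) ↔ ¬ p ∣ Nat.card G := by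
  classical
  haveI : Fintype G := Fintype.ofFinite G
  have hp : p.Prime := Fact.out
  have hpr := isPrime_of_isPModular hM
  have hne := ne_top_of_isPModular hM
  constructor
  · intro h hdvd
    obtain ⟨u, hu⟩ := exists_prime_orderOf_dvd_card' p hdvd
    set B := principalBlock M G with hBdef
    have hB : IsPBlock M B := isPBlock_principalBlock M
    have h0 := blockCoeff_eq_zero_of_singular hM hB u (by rw [hu])
    rw [blockCoeff_eq_sum] at h0
    have hcne : ((Nat.card G : ℂ))⁻¹ ≠ 0 := by
      have : 0 < Nat.card G := Nat.card_pos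
      have h1 : (Nat.card G : ℂ) ≠ 0 := by exact_mod_cast this.ne'
      exact inv_ne_zero h1
    have h1 := (mul_eq_zero.1 h0).resolve_left hcne
    set Bf := (Set.toFinite B).toFinset with hBf
    have hmemBf : ∀ θ, θ ∈ Bf ↔ θ ∈ B := fun θ => Set.Finite.mem_toFinset _
    have htriv : trivIrr G ∈ Bf := (hmemBf _).2 (trivIrr_mem_principalBlock M)
    rw [← Finset.add_sum_erase Bf _ htriv] at h1
    have h2 : MemLocalIdeal M (∑ χ ∈ Bf.erase (trivIrr G),
        (χ : G → ℂ) 1 * conj ((χ : G → ℂ) u)) := by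
      apply memLocalIdeal_sum
      intro χ hχ
      rw [Finset.mem_erase] at hχ
      have hχB : χ ∈ B := (hmemBf χ).1 hχ.2
      have hpd : p ∣ charDegree (χ : G → ℂ) := by
        by_contra hnd
        apply hχ.1
        apply Subtype.ext
        rw [h χ hχB hnd]
        rfl
      apply memLocalIdeal_mul_right
      · rw [(irr_charDegree χ.2).1, memLocalIdeal_natCast_iff hM]
        exact hpd
      · exact memLocalRing_algInt hne
          ⟨_, Cfsg.Agent.Helper3.isIntegral_conj (IsIrrCharacter.isIntegral χ.2 u)⟩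
    have h3 : (1 : ℂ) = - ∑ χ ∈ Bf.erase (trivIrr G), (χ : G → ℂ) 1 * conj ((χ : G → ℂ) u) := by
      have h4 : ((trivIrr G : IrrCharacter G) : G → ℂ) 1 *
          conj (((trivIrr G : IrrCharacter G) : G → ℂ) u) = 1 := by
        simp [trivIrr_apply]
      rw [h4] at h1
      linear_combination h1
    apply not_memLocalIdeal_one (M := M)
    rw [h3]
    exact memLocalIdeal_neg h2
  · intro hnd χ hχ _
    have h1 := (Cfsg.Agent.S0914.result p M hM (trivIrr G)).1 (by
      have hd : charDegree ((trivIrr G : IrrCharacter G) : G → ℂ) = 1 := by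
        unfold charDegree
        simp [trivIrr_apply]
      rw [hd, Nat.div_one]
      exact hnd)
    have h2 : χ ∈ blockOf M ((trivIrr G : IrrCharacter G) : G → ℂ) := hχ
    rw [h1, Set.mem_singleton_iff] at h2
    rw [h2]
    rfl

end Cfsg.Agent.S4916
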