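import Cfsg.Statements.S4955
import Mathlib
import Cfsg.Agent.Lib.Helper82.NormalAbelianHall
import Cfsg.Agent.Lib.Helper82.SemidirectClasses
import Cfsg.Agent.Lib.Helper79.Inflation
import Cfsg.Agent.Lib.Helper80.CharBasic
import Cfsg.Agent.Lib.Helper75.CharGalois

set_option autoImplicit false
set_option linter.style.haveILetI false
open Cfsg

namespace Cfsg.Agent.S4955

open scoped ComplexConjugate

theorem card_ge_complement {X : Type*} [Group X] [Finite X] (V G : Subgroup X)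
    (hGV : Subgroup.IsComplement' V G) (C : Subgroup X) (hVC : V ≤ C) :
    Nat.card C = Nat.card ↥(G ⊓ C) * Nat.card V := by
  have hbij : Function.Bijective (fun x : ↥(V : Set X) × ↥(G : Set X) => x.1.1 * x.2.1) := hGV
  let f : V × ↥(G ⊓ C) → C := fun x => ⟨x.1.1 * x.2.1, C.mul_mem (hVC x.1.2) x.2.2.2⟩
  have hf : Function.Bijective f := by
    constructor
    · rintro ⟨a, g⟩ ⟨a', g'⟩ h
      have h1 : (a : X) * g = a' * g' := congrArg Subtype.val h
      have h2 := hbij.1 (a₁ := (⟨a.1, a.2⟩, ⟨g.1, g.2.1⟩)) (a₂ := (⟨a'.1, a'.2⟩, ⟨g'.1, g'.2.1⟩)) h1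
      simp only [Prod.mk.injEq, Subtype.mk.injEq] at h2
      exact Prod.ext (Subtype.ext h2.1) (Subtype.ext h2.2)
    · rintro ⟨c, hc⟩
      obtain ⟨⟨a, g⟩, hag⟩ := hbij.2 c
      simp only at hag
      have hgC : (g : X) ∈ C := by
        have : (g : X) = (a : X)⁻¹ * c := by rw [← hag]; group
        rw [this]
        exact C.mul_mem (C.inv_mem (hVC a.2)) hc
      exact ⟨(⟨a.1, a.2⟩, ⟨g.1, g.2, hgC⟩), Subtype.ext hag⟩
  rw [← Nat.card_congr (Equiv.ofBijective f hf), Nat.card_prod, mul_comm]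

theorem centralizer_le_of_mem_zpowers {X : Type*} [Group X] {g v : X}
    (h : v ∈ Subgroup.zpowers g) :
    Subgroup.centralizer ({g} : Set X) ≤ Subgroup.centralizer ({v} : Set X) := by
  intro x hx
  rw [Subgroup.mem_centralizer_singleton_iff] at hx ⊢
  obtain ⟨i, rfl⟩ := Subgroup.mem_zpowers_iff.1 h
  have hc : Commute x g := hx
  exact (hc.zpow_right i).eq

/-- X = GV with V an abelian normal Sylow p-subgroup and G a complement: for every v ∈ V, k(GV) ≤ #C_G(v)·#V − (#G − k(G)). -/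
theorem result {X : Type*} [Group X] [Finite X] (p : ℕ) [Fact p.Prime] (V : Subgroup X) [V.Normal] (hVp : IsPGroup p V) (hidx : ¬ p ∣ V.index) (hab : ∀ a ∈ V, ∀ b ∈ V, a * b = b * a) (G : Subgroup X) (hGV : Subgroup.IsComplement' V G) (v : X) (hv : v ∈ V) : Nat.card (ConjClasses X) + Nat.card G ≤ Nat.card ↥(G ⊓ Subgroup.centralizer ({v} : Set X)) * Nat.card V + Nat.card (ConjClasses G) := by
  classical
  haveI := Fintype.ofFinite X
  have hp : p.Prime := Fact.out
  have hN : V.Normal := inferInstance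
  set C := Subgroup.centralizer ({v} : Set X) with hC
  have hVC : V ≤ C := by
    intro a ha
    rw [hC, Subgroup.mem_centralizer_singleton_iff]
    exact hab a ha v hv
  have hcardC : Nat.card C = Nat.card ↥(G ⊓ C) * Nat.card V := card_ge_complement V G hGV C hVC
  -- the Galois-stable set of generators of ⟨v⟩
  let T : Finset X := Finset.univ.filter (fun g : X => Subgroup.zpowers g = Subgroup.zpowers v)
  have hmemT : ∀ g : X, g ∈ T ↔ Subgroup.zpowers g = Subgroup.zpowers v := by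
    intro g; simp [T]
  have hvT : v ∈ T := (hmemT v).2 rfl
  have hTV : ∀ g ∈ T, g ∈ V := by
    intro g hg
    have h1 : g ∈ Subgroup.zpowers v := by
      rw [← (hmemT g).1 hg]; exact Subgroup.mem_zpowers g
    exact (Subgroup.zpowers_le.2 hv) h1
  have hTC : ∀ g ∈ T, Subgroup.centralizer ({g} : Set X) = C := by
    intro g hg
    have h0 := (hmemT g).1 hg
    apply le_antisymm
    · apply centralizer_le_of_mem_zpowers
      rw [h0]; exact Subgroup.mem_zpowers v
    · apply centralizer_le_of_mem_zpowers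
      rw [← h0]; exact Subgroup.mem_zpowers g
  have hTpow : ∀ g ∈ T, ∀ k : ℕ, k.Coprime (Nat.card X) → g ^ k ∈ T := by
    intro g hg k hk
    rw [hmemT] at hg ⊢
    rw [← hg]
    apply le_antisymm
    · exact Subgroup.zpowers_le.2 (Subgroup.pow_mem _ (Subgroup.mem_zpowers g) k)
    · apply Subgroup.zpowers_le.2
      rw [mem_zpowers_pow_iff]
      exact Nat.Coprime.coprime_dvd_right (orderOf_dvd_natCard g) hk
  have hTpos : (0 : ℝ) < T.card := by
    exact_mod_cast Finset.card_pos.2 ⟨v, hvT⟩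
  -- (i) Burnside inequality for every irreducible character
  have hi : ∀ χ : IrrCharacter X, (T.card : ℝ) ≤ ∑ g ∈ T, ‖(χ : X → ℂ) g‖ ^ 2 := by
    intro χ
    obtain ⟨n, ρ, hρ, hχ⟩ := χ.2
    have := Cfsg.Agent.Helper75.card_le_sum_normSq ρ T hTpow (by
      intro g hg
      rw [hχ]
      exact Cfsg.Agent.Helper82.irr_ne_zero_of_mem_normal_abelian_hall p hp V hN hVp hidx hab χ.2 g
        (hTV g hg))
    rw [hχ] at this
    exact this
  -- (ii) column orthogonality
  have hii : ∀ g ∈ T, ∑ χ : IrrCharacter X, ‖(χ : X → ℂ) g‖ ^ 2 = (Nat.card C : ℝ) := by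
    intro g hg
    have h1 := Cfsg.Agent.Helper79.col_orth_self g
    rw [hTC g hg] at h1
    have h2 : ∀ χ : IrrCharacter X, (χ : X → ℂ) g * conj ((χ : X → ℂ) g) =
        ((‖(χ : X → ℂ) g‖ ^ 2 : ℝ) : ℂ) := by
      intro χ
      rw [Complex.mul_conj, Complex.normSq_eq_norm_sq]
    simp only [h2] at h1
    have h3 : ((∑ χ : IrrCharacter X, ‖(χ : X → ℂ) g‖ ^ 2 : ℝ) : ℂ) = ((Nat.card C : ℝ) : ℂ) := by
      push_cast at h1 ⊢
      exact h1
    exact_mod_cast h3
  -- split of the irreducible characters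
  set A := Finset.univ.filter (fun χ : IrrCharacter X => V ≤ Cfsg.Agent.Helper79.irrKer χ) with hA
  set B := Finset.univ.filter (fun χ : IrrCharacter X => ¬ V ≤ Cfsg.Agent.Helper79.irrKer χ) with hB
  have hAB : A.card + B.card = Nat.card (IrrCharacter X) := by
    rw [hA, hB, Finset.card_filter_add_card_filter_not, Finset.card_univ,
      Nat.card_eq_fintype_card]
  have hAsum : ∀ χ ∈ A, ∑ g ∈ T, ‖(χ : X → ℂ) g‖ ^ 2 =
      (T.card : ℝ) * ((charDegree (χ : X → ℂ) ^ 2 : ℕ) : ℝ) := by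
    intro χ hχ
    rw [hA, Finset.mem_filter] at hχ
    have : ∀ g ∈ T, ‖(χ : X → ℂ) g‖ ^ 2 = ((charDegree (χ : X → ℂ) ^ 2 : ℕ) : ℝ) := by
      intro g hg
      have h1 : (χ : X → ℂ) g = (χ : X → ℂ) 1 :=
        (Cfsg.Agent.Helper79.mem_irrKer χ g).1 (hχ.2 (hTV g hg))
      rw [h1, (Cfsg.Agent.Helper79.irr_one_eq χ).1]
      simp
    rw [Finset.sum_congr rfl this, Finset.sum_const, nsmul_eq_mul]
  have hAdeg : ∑ χ ∈ A, ((charDegree (χ : X → ℂ) ^ 2 : ℕ) : ℝ) = (V.index : ℝ) := by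
    have := Cfsg.Agent.Helper79.sum_sq_degree_of_le_ker V
    rw [← this]
    push_cast
    rfl
  -- the main inequality
  have hmain : (T.card : ℝ) * ((V.index : ℝ) + B.card) ≤ (T.card : ℝ) * (Nat.card C : ℝ) := by
    calc (T.card : ℝ) * ((V.index : ℝ) + B.card)
        = ∑ χ ∈ A, (T.card : ℝ) * ((charDegree (χ : X → ℂ) ^ 2 : ℕ) : ℝ) +
            ∑ _χ ∈ B, (T.card : ℝ) := by
          rw [← Finset.mul_sum, hAdeg, Finset.sum_const, nsmul_eq_mul]; ring
      _ ≤ ∑ χ ∈ A, ∑ g ∈ T, ‖(χ : X → ℂ) g‖ ^ 2 + ∑ χ ∈ B, ∑ g ∈ T, ‖(χ : X → ℂ) g‖ ^ 2 := by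
          apply add_le_add
          · exact le_of_eq (Finset.sum_congr rfl fun χ hχ => (hAsum χ hχ).symm)
          · exact Finset.sum_le_sum fun χ _ => hi χ
      _ = ∑ χ : IrrCharacter X, ∑ g ∈ T, ‖(χ : X → ℂ) g‖ ^ 2 := by
          rw [hA, hB]
          exact Finset.sum_filter_add_sum_filter_not _ _ _
      _ = ∑ g ∈ T, ∑ χ : IrrCharacter X, ‖(χ : X → ℂ) g‖ ^ 2 := Finset.sum_comm
      _ = ∑ _g ∈ T, (Nat.card C : ℝ) := Finset.sum_congr rfl hii
      _ = (T.card : ℝ) * (Nat.card C : ℝ) := by rw [Finset.sum_const, nsmul_eq_mul]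
  have hmain2 : V.index + B.card ≤ Nat.card C := by
    have := le_of_mul_le_mul_left hmain hTpos
    exact_mod_cast this
  -- |A| = k(G)
  have hAcard : A.card = Nat.card (ConjClasses G) := by
    have h1 : A.card = Nat.card {χ : IrrCharacter X // V ≤ Cfsg.Agent.Helper79.irrKer χ} := by
      rw [Nat.card_eq_fintype_card, Fintype.card_subtype]
    rw [h1, ← Nat.card_congr (Cfsg.Agent.Helper79.inflateEquiv V), Cfsg.Agent.Helper80.card_irr]
    exact Cfsg.Agent.Helper82.card_conjClasses_congr hGV.symm.QuotientMulEquiv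
  have hidxG : V.index = Nat.card G := hGV.symm.index_eq_card
  have hk : Nat.card (ConjClasses X) = A.card + B.card := by
    rw [hAB, Cfsg.Agent.Helper80.card_irr]
  rw [hk, hAcard, ← hcardC]
  omega

end Cfsg.Agent.S4955
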