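import Cfsg.Statements.S4956
import Mathlib
import Cfsg.Agent.Lib.Helper82.SemidirectClasses

set_option autoImplicit false
open Cfsg

namespace Cfsg.Agent.S4956

open Cfsg.Agent.Helper82

/-- Let X be a finite group, V an abelian normal subgroup of X (any two elements of V commute) and G a complement to V in X whose order is coprime to that of V. Let S be a set of representatives of the orbits of G on V under conjugation: S lies in V and every element of V is conjugate under G to exactly one member of S. Then the number of conjugacy classes of X equals the sum, over s in S, of the number of conjugacy classes of the centralizer of s in G. -/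
theorem result {X : Type*} [Group X] [Finite X] (V : Subgroup X) [V.Normal] (hab : ∀ a ∈ V, ∀ b ∈ V, a * b = b * a) (G : Subgroup X) (hGV : Subgroup.IsComplement' V G) (hcop : (Nat.card V).Coprime (Nat.card G)) (S : Finset X) (hSV : ∀ s ∈ S, s ∈ V) (hrep : ∀ v ∈ V, ∃! s, s ∈ S ∧ ∃ g ∈ G, g * v * g⁻¹ = s) : Nat.card (ConjClasses X) = ∑ s ∈ S, Nat.card (ConjClasses ↥(G ⊓ Subgroup.centralizer ({s} : Set X))) := by
  classical
  have : Fintype ↥V := Fintype.ofFinite _
  let φ₀ : ↥G →* MulAut ↥V :=
    (V.normalizerMonoidHom).comp (Subgroup.inclusion (V.normalizer_eq_top ▸ le_top))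
  have hφ₀ : ∀ (g : ↥G) (v : ↥V), ((φ₀ g v : ↥V) : X) = g * v * (g : X)⁻¹ := fun _ _ => rfl
  have e : ↥V ⋊[φ₀] ↥G ≃* X := SemidirectProduct.mulEquivSubgroup hGV
  rw [← card_conjClasses_congr e]
  let S' : Finset ↥V := Finset.univ.filter (fun v : ↥V => (v : X) ∈ S)
  have hS' : ∀ v : ↥V, v ∈ S' ↔ (v : X) ∈ S := by
    intro v; simp [S']
  have hrep' : ∀ v : ↥V, ∃! s : ↥V, s ∈ S' ∧ ∃ g : ↥G, φ₀ g v = s := by
    intro v
    obtain ⟨s, ⟨hsS, g, hgG, hg⟩, hu⟩ := hrep v v.2
    refine ⟨⟨s, hSV s hsS⟩, ⟨(hS' _).2 hsS, ⟨g, hgG⟩, Subtype.ext ?_⟩, ?_⟩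
    · rw [hφ₀]; exact hg
    · rintro t ⟨htS, g', hg'⟩
      apply Subtype.ext
      apply hu
      refine ⟨(hS' t).1 htS, (g' : X), g'.2, ?_⟩
      rw [← hg', hφ₀]
  rw [card_conjClasses_semidirect φ₀ (fun a b => Subtype.ext (hab a a.2 b b.2)) hcop S' hrep']
  -- compare the two sums
  have hstabEquiv : ∀ s' : ↥V,
      Nat.card (ConjClasses ↥(stab φ₀ s')) =
        Nat.card (ConjClasses ↥(G ⊓ Subgroup.centralizer ({(s' : X)} : Set X))) := by
    intro s'
    refine card_conjClasses_congr
      { toFun := fun g => ⟨((g : ↥G) : X), ⟨(g : ↥G).2, ?_⟩⟩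
        invFun := fun y => ⟨⟨(y : X), y.2.1⟩, ?_⟩
        left_inv := fun _ => rfl
        right_inv := fun _ => rfl
        map_mul' := fun _ _ => rfl }
    · show ((g : ↥G) : X) ∈ Subgroup.centralizer {(s' : X)}
      rw [Subgroup.mem_centralizer_singleton_iff]
      have h := g.2
      rw [mem_stab] at h
      have h' := congrArg (Subtype.val : ↥V → X) h
      rw [hφ₀] at h'
      exact mul_inv_eq_iff_eq_mul.mp h'
    · rw [mem_stab]
      apply Subtype.ext
      rw [hφ₀]
      have h : (y : X) ∈ Subgroup.centralizer {(s' : X)} := y.2.2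
      rw [Subgroup.mem_centralizer_singleton_iff] at h
      show (y : X) * s' * (y : X)⁻¹ = s'
      exact mul_inv_eq_iff_eq_mul.mpr h
  have hSmap : S = S'.map ⟨Subtype.val, Subtype.val_injective⟩ := by
    ext x
    simp only [Finset.mem_map, Function.Embedding.coeFn_mk]
    constructor
    · intro hx
      exact ⟨⟨x, hSV x hx⟩, (hS' _).2 hx, rfl⟩
    · rintro ⟨v, hv, rfl⟩
      exact (hS' v).1 hv
  rw [hSmap, Finset.sum_map]
  exact Finset.sum_congr rfl fun s' _ => hstabEquiv s'

end Cfsg.Agent.S4956
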