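import Mathlib
import Cfsg.Statements.S4964
import Cfsg.Agent.Lib.Helper16.Regular
import Cfsg.Agent.Lib.Helper16.QuotBlock
import Cfsg.Agent.S0939
import Cfsg.Agent.S0941
import Cfsg.Agent.Lib.Helper77.Nil
import Cfsg.Agent.Lib.Helper52.FrattiniCoprime

set_option autoImplicit false
set_option linter.style.haveILetI false
set_option linter.unusedSectionVars false
open Cfsg

namespace Cfsg.Agent.S4964

open Cfsg.Agent.Helper16 Cfsg.Agent.Helper77
open scoped ComplexConjugate

section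
variable {G : Type*} [Group G] [Finite G] {p : ℕ} [Fact p.Prime]

/-- A `p`-regular element acting trivially on `D / D'` centralizes the `p`-group `D`. -/
theorem mem_centralizer_of_regular (D : Subgroup G) [D.Normal] (hD : IsPGroup p D) (x : G)
    (hx : ¬ p ∣ orderOf x)
    (hcent : (QuotientGroup.mk x : G ⧸ ⁅D, D⁆) ∈ Subgroup.centralizer
      ((D.map (QuotientGroup.mk' ⁅D, D⁆) : Subgroup (G ⧸ ⁅D, D⁆)) : Set (G ⧸ ⁅D, D⁆))) :
    x ∈ Subgroup.centralizer (D : Set G) := by
  set B := Subgroup.zpowers x with hB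
  have hBcard : ¬ p ∣ Nat.card B := by
    rw [hB, Nat.card_zpowers]
    exact hx
  have hBT : B ≤ Subgroup.normalizer (D : Set G) := by
    rw [Subgroup.normalizer_eq_top]
    exact le_top
  have hcomm : ⁅D, B⁆ ≤ ⁅D, D⁆ := by
    rw [Subgroup.commutator_le]
    intro d hd b hb
    rw [← QuotientGroup.eq_one_iff]
    have hb' : (QuotientGroup.mk b : G ⧸ ⁅D, D⁆) ∈ Subgroup.centralizer
        ((D.map (QuotientGroup.mk' ⁅D, D⁆) : Subgroup (G ⧸ ⁅D, D⁆)) : Set (G ⧸ ⁅D, D⁆)) := by
      obtain ⟨k, rfl⟩ := Subgroup.mem_zpowers_iff.1 hb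
      rw [QuotientGroup.mk_zpow]
      exact Subgroup.zpow_mem _ hcent k
    have hd' : (QuotientGroup.mk d : G ⧸ ⁅D, D⁆) ∈
        ((D.map (QuotientGroup.mk' ⁅D, D⁆) : Subgroup (G ⧸ ⁅D, D⁆)) : Set (G ⧸ ⁅D, D⁆)) :=
      ⟨d, hd, rfl⟩
    have h1 := (Subgroup.mem_centralizer_iff.1 hb') _ hd'
    rw [commutatorElement_def]
    simp only [QuotientGroup.mk_mul, QuotientGroup.mk_inv]
    rw [h1]
    group
  have h2 := Cfsg.Agent.Helper52.le_centralizer_of_commutator_le_commutator D B hD hBcard hBT hcomm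
  rw [Subgroup.mem_centralizer_iff]
  intro d hd
  have h3 := h2 hd
  rw [Subgroup.mem_centralizer_iff] at h3
  exact (h3 x (Subgroup.mem_zpowers x)).symm

end

theorem result {G : Type*} [Group G] [Finite G] (p : ℕ) [Fact p.Prime] (M : Ideal Cfsg.AlgInt) (hM : Cfsg.IsPModular p M) (D : Subgroup G) [D.Normal] (hD : IsPGroup p D) : (∀ χ ψ : Cfsg.IrrCharacter (G ⧸ ⁅D, D⁆), Cfsg.SameBlock M (χ : G ⧸ ⁅D, D⁆ → ℂ) (ψ : G ⧸ ⁅D, D⁆ → ℂ) ↔ Cfsg.SameBlock M ((χ : G ⧸ ⁅D, D⁆ → ℂ) ∘ QuotientGroup.mk) ((ψ : G ⧸ ⁅D, D⁆ → ℂ) ∘ QuotientGroup.mk)) ∧ ∀ B : Set (Cfsg.IrrCharacter G), Cfsg.IsPBlock M B → ∃ χ : Cfsg.IrrCharacter (G ⧸ ⁅D, D⁆), ∃ θ ∈ B, (θ : G → ℂ) = (χ : G ⧸ ⁅D, D⁆ → ℂ) ∘ QuotientGroup.mk := by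
  classical
  have hpr := isPrime_of_isPModular hM
  have hne := ne_top_of_isPModular hM
  have hp : p.Prime := Fact.out
  set P : Subgroup G := ⁅D, D⁆ with hPdef
  have hPD : P ≤ D := Subgroup.commutator_le_left D D
  have hP : IsPGroup p P := hD.to_le hPD
  haveI : Fintype G := Fintype.ofFinite G
  haveI : Fintype (G ⧸ P) := Fintype.ofFinite _
  haveI : Fintype P := Fintype.ofFinite _
  refine ⟨fun χ ψ => ⟨fun h => Cfsg.Agent.S0939.sameBlock_comp_mk P h, fun h => ?_⟩, ?_⟩
  · -- same block upstairs implies same block downstairs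
    apply sameBlock_of_regular hM χ ψ
    intro q hq
    set N : Subgroup (G ⧸ P) := D.map (QuotientGroup.mk' P) with hN
    haveI : N.Normal := Subgroup.Normal.map inferInstance _ (QuotientGroup.mk'_surjective P)
    have hNp : IsPGroup p N := hD.map _
    by_cases hqN : q ∈ Subgroup.centralizer (N : Set (G ⧸ P))
    · obtain ⟨x, rfl, hx⟩ := exists_regular_lift P hP q hq
      have hxD : x ∈ Subgroup.centralizer (D : Set G) := mem_centralizer_of_regular D hD x hx hqN
      have hxC : x ∈ Subgroup.centralizer (P : Set G) :=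
        Subgroup.centralizer_le hPD hxD
      have hidx := index_centralizer_mk_eq P hP x hxC hx
      have hx' := h x
      unfold centralChar at hx' ⊢
      simp only [Function.comp_apply, QuotientGroup.mk_one] at hx'
      rw [hidx]
      exact hx'
    · exact memLocalIdeal_sub
        (memLocalIdeal_centralChar_of_notMem_centralizer hM N hNp q hqN χ.2)
        (memLocalIdeal_centralChar_of_notMem_centralizer hM N hNp q hqN ψ.2)
  · intro B hB
    by_contra hcon
    push Not at hcon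
    have hker : ∀ θ ∈ B, ¬ ∀ n : P, (θ : G → ℂ) n = (θ : G → ℂ) 1 := by
      intro θ hθ hall
      have hle : P ≤ Cfsg.Agent.Helper79.irrKer θ := by
        intro n hn
        rw [Cfsg.Agent.Helper79.mem_irrKer]
        exact hall ⟨n, hn⟩
      obtain ⟨ψ, hψ⟩ := Cfsg.Agent.Helper79.exists_deflate P θ hle
      apply hcon ψ θ hθ
      rw [← hψ]
      rfl
    have hsum0 : ∑ u : P, blockCoeff B (u : G) = 0 := by
      simp_rw [blockCoeff_eq_sum]
      rw [← Finset.mul_sum, Finset.sum_comm]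
      have : ∀ θ ∈ (Set.toFinite B).toFinset,
          ∑ u : P, (θ : G → ℂ) 1 * conj ((θ : G → ℂ) (u : G)) = 0 := by
        intro θ hθ
        rw [← Finset.mul_sum, ← map_sum,
          Cfsg.Agent.S0941.sum_eq_zero_of_not_le_ker P θ
            (hker θ ((Set.Finite.mem_toFinset _).mp hθ)), map_zero, mul_zero]
      rw [Finset.sum_eq_zero this, mul_zero]
    have hsum1 : ∑ u : P, blockCoeff B (u : G) = blockCoeff B 1 := by
      rw [Finset.sum_eq_single (1 : P)]
      · rfl
      · intro u _ hu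
        apply blockCoeff_eq_zero_of_singular hM hB
        obtain ⟨k, hk⟩ := hP u
        have hk' : (u : G) ^ p ^ k = 1 := by
          have := congrArg Subtype.val hk
          simpa using this
        obtain ⟨j, -, hj⟩ := (Nat.dvd_prime_pow hp).mp (orderOf_dvd_of_pow_eq_one hk')
        rw [hj]
        have hj0 : j ≠ 0 := by
          rintro rfl
          rw [pow_zero, orderOf_eq_one_iff] at hj
          exact hu (Subtype.ext hj)
        exact dvd_pow_self p hj0
      · intro h; exact absurd (Finset.mem_univ _) h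
    have hne1 : blockCoeff B 1 ≠ 0 := by
      rw [blockCoeff_eq_sum]
      apply mul_ne_zero
      · apply inv_ne_zero
        exact_mod_cast Nat.card_pos.ne'
      · obtain ⟨θ₀, hθ₀⟩ := Cfsg.Agent.Helper77.nonempty_of_isPBlock hB
        have hre : (∑ θ ∈ (Set.toFinite B).toFinset, (θ : G → ℂ) 1 * conj ((θ : G → ℂ) 1))
            = ((∑ θ ∈ (Set.toFinite B).toFinset, Complex.normSq ((θ : G → ℂ) 1) : ℝ) : ℂ) := by
          rw [Complex.ofReal_sum]
          refine Finset.sum_congr rfl fun θ _ => ?_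
          rw [Complex.mul_conj]
        rw [hre]
        have hpos : 0 < ∑ θ ∈ (Set.toFinite B).toFinset, Complex.normSq ((θ : G → ℂ) 1) := by
          apply Finset.sum_pos'
          · intro θ _; exact Complex.normSq_nonneg _
          · refine ⟨θ₀, (Set.Finite.mem_toFinset _).mpr hθ₀, ?_⟩
            exact Complex.normSq_pos.mpr (Cfsg.Agent.Helper78.irr_apply_one_ne_zero θ₀.2)
        exact_mod_cast hpos.ne'
    rw [hsum1] at hsum0
    exact hne1 hsum0

end Cfsg.Agent.S4964
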