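import Cfsg.Statements.S4965
import Mathlib

set_option autoImplicit false
open Cfsg

namespace Cfsg.Agent.S4965

/-- Let X be a finite group with an abelian normal subgroup V (any two elements of V commute), and let φ be the action of X ⧸ V on V induced by conjugation (well defined because V is abelian; the hypothesis hφ says that the class of x acts as conjugation by x). Then X has at most as many conjugacy classes as the semidirect product of V by X ⧸ V formed with this action: the split extension has the largest class number among extensions with the given action. -/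
theorem result {X : Type*} [Group X] [Finite X] (V : Subgroup X) [V.Normal] (hab : ∀ a ∈ V, ∀ b ∈ V, a * b = b * a) (φ : X ⧸ V →* MulAut ↥V) (hφ : ∀ (x : X) (v : ↥V), ((φ (QuotientGroup.mk x) v : ↥V) : X) = x * v * x⁻¹) : Nat.card (ConjClasses X) ≤ Nat.card (ConjClasses (SemidirectProduct ↥V (X ⧸ V) φ)) := by
  classical
  have hcardS : Nat.card (SemidirectProduct ↥V (X ⧸ V) φ) = Nat.card X := by
    rw [SemidirectProduct.card, mul_comm]
    exact (Subgroup.card_eq_card_quotient_mul_card_subgroup V).symm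
  have hXpos : 0 < Nat.card X := Nat.card_pos
  -- a base point for every pair of classes that lifts to a commuting pair
  have hex : ∀ ab : (X ⧸ V) × (X ⧸ V), ∃ p : X × X,
      (∃ q : X × X, Commute q.1 q.2 ∧ (QuotientGroup.mk q.1 : X ⧸ V) = ab.1 ∧
        (QuotientGroup.mk q.2 : X ⧸ V) = ab.2) →
      (Commute p.1 p.2 ∧ (QuotientGroup.mk p.1 : X ⧸ V) = ab.1 ∧
        (QuotientGroup.mk p.2 : X ⧸ V) = ab.2) := by
    intro ab
    by_cases h : ∃ q : X × X, Commute q.1 q.2 ∧ (QuotientGroup.mk q.1 : X ⧸ V) = ab.1 ∧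
        (QuotientGroup.mk q.2 : X ⧸ V) = ab.2
    · obtain ⟨q, hq⟩ := h
      exact ⟨q, fun _ => hq⟩
    · exact ⟨(1, 1), fun h' => absurd h' h⟩
  choose base hbase using hex
  have hmem : ∀ x x₀ : X, (QuotientGroup.mk x₀ : X ⧸ V) = QuotientGroup.mk x → x * x₀⁻¹ ∈ V := by
    intro x x₀ h
    rw [← QuotientGroup.eq_one_iff, QuotientGroup.mk_mul, QuotientGroup.mk_inv, h, mul_inv_cancel]
  have hb : ∀ p : { p : X × X // Commute p.1 p.2 },
      Commute (base (QuotientGroup.mk p.1.1, QuotientGroup.mk p.1.2)).1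
        (base (QuotientGroup.mk p.1.1, QuotientGroup.mk p.1.2)).2 ∧
      (QuotientGroup.mk (base (QuotientGroup.mk p.1.1, QuotientGroup.mk p.1.2)).1 : X ⧸ V)
        = QuotientGroup.mk p.1.1 ∧
      (QuotientGroup.mk (base (QuotientGroup.mk p.1.1, QuotientGroup.mk p.1.2)).2 : X ⧸ V)
        = QuotientGroup.mk p.1.2 :=
    fun p => hbase (QuotientGroup.mk p.1.1, QuotientGroup.mk p.1.2) ⟨p.1, p.2, rfl, rfl⟩
  let f : { p : X × X // Commute p.1 p.2 } →
      (SemidirectProduct ↥V (X ⧸ V) φ) × (SemidirectProduct ↥V (X ⧸ V) φ) := fun p =>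
    (⟨⟨p.1.1 * (base (QuotientGroup.mk p.1.1, QuotientGroup.mk p.1.2)).1⁻¹,
        hmem _ _ (hb p).2.1⟩, QuotientGroup.mk p.1.1⟩,
     ⟨⟨p.1.2 * (base (QuotientGroup.mk p.1.1, QuotientGroup.mk p.1.2)).2⁻¹,
        hmem _ _ (hb p).2.2⟩, QuotientGroup.mk p.1.2⟩)
  have hfcomm : ∀ p, Commute (f p).1 (f p).2 := by
    intro p
    obtain ⟨⟨x, y⟩, hxy⟩ := p
    have hxy' : x * y = y * x := hxy
    obtain ⟨h0, h1, h2⟩ := hb ⟨(x, y), hxy⟩
    simp only at h0 h1 h2
    set x₀ := (base (QuotientGroup.mk x, QuotientGroup.mk y)).1 with hx₀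
    set y₀ := (base (QuotientGroup.mk x, QuotientGroup.mk y)).2 with hy₀
    have h0' : x₀ * y₀ = y₀ * x₀ := h0
    have h0inv : y₀⁻¹ * x₀⁻¹ = x₀⁻¹ * y₀⁻¹ := by
      rw [← mul_inv_rev, ← mul_inv_rev, h0']
    show (f ⟨(x, y), hxy⟩).1 * (f ⟨(x, y), hxy⟩).2 = (f ⟨(x, y), hxy⟩).2 * (f ⟨(x, y), hxy⟩).1
    ext
    · have e1 : ∀ v : ↥V, ((φ (QuotientGroup.mk x) v : ↥V) : X) = x₀ * v * x₀⁻¹ := by
        intro v; rw [← h1]; exact hφ x₀ v
      have e2 : ∀ v : ↥V, ((φ (QuotientGroup.mk y) v : ↥V) : X) = y₀ * v * y₀⁻¹ := by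
        intro v; rw [← h2]; exact hφ y₀ v
      simp only [f, SemidirectProduct.mul_left, Subgroup.coe_mul, e1, e2]
      simp only [← hx₀, ← hy₀]
      calc x * x₀⁻¹ * (x₀ * (y * y₀⁻¹) * x₀⁻¹) = x * y * (y₀⁻¹ * x₀⁻¹) := by group
        _ = y * x * (x₀⁻¹ * y₀⁻¹) := by rw [hxy', h0inv]
        _ = y * y₀⁻¹ * (y₀ * (x * x₀⁻¹) * y₀⁻¹) := by group
    · simp only [f, SemidirectProduct.mul_right]
      rw [← QuotientGroup.mk_mul, ← QuotientGroup.mk_mul, hxy']
  let F : { p : X × X // Commute p.1 p.2 } →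
      { q : (SemidirectProduct ↥V (X ⧸ V) φ) × (SemidirectProduct ↥V (X ⧸ V) φ) //
        Commute q.1 q.2 } := fun p => ⟨f p, hfcomm p⟩
  have hFinj : Function.Injective F := by
    intro p p' h
    have h' : f p = f p' := congrArg Subtype.val h
    obtain ⟨⟨x, y⟩, hxy⟩ := p
    obtain ⟨⟨x', y'⟩, hxy'⟩ := p'
    simp only [f, Prod.mk.injEq] at h'
    obtain ⟨h1, h2⟩ := h'
    have e1 := congrArg SemidirectProduct.right h1
    have e2 := congrArg SemidirectProduct.right h2
    simp only at e1 e2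
    have l1 := congrArg (fun s => ((SemidirectProduct.left s : ↥V) : X)) h1
    have l2 := congrArg (fun s => ((SemidirectProduct.left s : ↥V) : X)) h2
    simp only at l1 l2
    rw [← e1, ← e2] at l1 l2
    have hx : x = x' := mul_right_cancel l1
    have hy : y = y' := mul_right_cancel l2
    subst hx; subst hy
    rfl
  have key : Nat.card { p : X × X // Commute p.1 p.2 } ≤
      Nat.card { q : (SemidirectProduct ↥V (X ⧸ V) φ) × (SemidirectProduct ↥V (X ⧸ V) φ) //
        Commute q.1 q.2 } := by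
    have : Finite (SemidirectProduct ↥V (X ⧸ V) φ) :=
      Nat.finite_of_card_ne_zero (by rw [hcardS]; exact hXpos.ne')
    exact Nat.card_le_card_of_injective F hFinj
  rw [card_comm_eq_card_conjClasses_mul_card, card_comm_eq_card_conjClasses_mul_card, hcardS] at key
  exact Nat.le_of_mul_le_mul_right key hXpos

end Cfsg.Agent.S4965
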