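import Cfsg.Statements.S4989
import Mathlib
import Cfsg.Agent.Lib.Helper75.CharGalois

set_option autoImplicit false
open Cfsg

namespace Cfsg.Agent.S4989

open Cfsg.Agent.Helper75

/-- Let H be a subgroup of the finite group G and χ an irreducible complex character of G. Then the inner product of the restriction of χ to H with itself, (1/#H)·Σ_{h ∈ H} |χ(h)|², is at most 1 + #(Z ∖ H)/#H, where Z is the set of zeros of χ in G. -/
theorem result {G : Type*} [Group G] [Finite G] (H : Subgroup G) (χ : Cfsg.IrrCharacter G) : (Nat.card ↥H : ℝ)⁻¹ * ∑ᶠ h : ↥H, ‖(χ : G → ℂ) h‖ ^ 2 ≤ 1 + (Set.ncard ({x : G | (χ : G → ℂ) x = 0} \ (H : Set G)) : ℝ) / (Nat.card ↥H : ℝ) := by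
  classical
  have : Fintype G := Fintype.ofFinite G
  obtain ⟨χf, n, ρ, hirr, hρ⟩ := χ
  subst hρ
  show (Nat.card ↥H : ℝ)⁻¹ * ∑ᶠ h : ↥H, ‖ρ.character h‖ ^ 2 ≤
    1 + (Set.ncard ({x : G | ρ.character x = 0} \ (H : Set G)) : ℝ) / (Nat.card ↥H : ℝ)
  have : ρ.IsIrreducible := hirr
  set A : Finset G := Finset.univ.filter (fun x => x ∈ H) with hA
  set Zc : Finset G := Finset.univ.filter (fun x => x ∉ H ∧ ρ.character x = 0) with hZc
  set T : Finset G := Finset.univ.filter (fun x => x ∉ H ∧ ρ.character x ≠ 0) with hTdef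
  -- the Galois-closed set
  have hT : ∀ g ∈ T, ∀ k : ℕ, k.Coprime (Nat.card G) → g ^ k ∈ T := by
    intro g hg k hk
    rw [hTdef, Finset.mem_filter] at hg ⊢
    refine ⟨Finset.mem_univ _, ?_, ?_⟩
    · intro hgk
      have hk' : k.Coprime (orderOf g) := Nat.Coprime.coprime_dvd_right (orderOf_dvd_natCard g) hk
      obtain ⟨m, hm⟩ := exists_pow_eq_self_of_coprime hk'
      exact hg.2.1 (hm ▸ H.pow_mem hgk m)
    · rw [Ne, char_pow_coprime_eq_zero_iff ρ g k hk]
      exact hg.2.2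
  have hne : ∀ g ∈ T, ρ.character g ≠ 0 := by
    intro g hg
    rw [hTdef, Finset.mem_filter] at hg
    exact hg.2.2
  have hB := card_le_sum_normSq ρ T hT hne
  have hsum := sum_normSq_irr ρ
  -- split the universe
  have hsplit : ∀ f : G → ℝ, ∑ g : G, f g = ∑ g ∈ A, f g + (∑ g ∈ Zc, f g + ∑ g ∈ T, f g) := by
    intro f
    rw [← Finset.sum_filter_add_sum_filter_not Finset.univ (fun x => x ∈ H) f]
    congr 1
    rw [← Finset.sum_filter_add_sum_filter_not (Finset.univ.filter (fun x => ¬ x ∈ H))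
      (fun x => ρ.character x = 0) f]
    rw [Finset.filter_filter, Finset.filter_filter]
  have hZ0 : ∑ g ∈ Zc, ‖ρ.character g‖ ^ 2 = 0 := by
    apply Finset.sum_eq_zero
    intro g hg
    rw [hZc, Finset.mem_filter] at hg
    rw [hg.2.2]; simp
  have h1 := hsplit (fun g => ‖ρ.character g‖ ^ 2)
  rw [hsum, hZ0, zero_add] at h1
  have h2 := hsplit (fun _ => (1 : ℝ))
  simp only [Finset.sum_const, nsmul_eq_mul, mul_one, Finset.card_univ] at h2
  have hGcard : (Fintype.card G : ℝ) = (Nat.card G : ℝ) := by rw [Nat.card_eq_fintype_card]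
  rw [hGcard] at h2
  have hAcard : (A.card : ℝ) = (Nat.card ↥H : ℝ) := by
    rw [hA, Nat.card_eq_fintype_card, Fintype.card_subtype]
  have hZcard : (Zc.card : ℝ) = (Set.ncard ({x : G | ρ.character x = 0} \ (H : Set G)) : ℝ) := by
    rw [← Set.ncard_coe_finset]
    congr 2
    ext x
    simp only [hZc, Finset.coe_filter, Finset.mem_univ, true_and, Set.mem_ofPred_eq, Set.mem_sdiff,
      SetLike.mem_coe]
    tauto
  have hAsum : ∑ᶠ h : ↥H, ‖ρ.character h‖ ^ 2 = ∑ g ∈ A, ‖ρ.character g‖ ^ 2 := by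
    rw [finsum_eq_sum_of_fintype, hA]
    rw [Finset.sum_subtype (p := fun x => x ∈ H) (Finset.univ.filter (fun x => x ∈ H))
      (fun x => by simp) (fun g => ‖ρ.character g‖ ^ 2)]
  rw [hAsum, ← hZcard, ← hAcard]
  have hApos : (0 : ℝ) < A.card := by
    rw [hAcard]; exact_mod_cast Nat.card_pos
  have key : ∑ g ∈ A, ‖ρ.character g‖ ^ 2 ≤ A.card + Zc.card := by linarith
  rw [inv_mul_le_iff₀ hApos]
  have : (A.card : ℝ) * (1 + (Zc.card : ℝ) / (A.card : ℝ)) = A.card + Zc.card := by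
    field_simp
  rw [this]
  exact key

end Cfsg.Agent.S4989
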