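import Cfsg.Statements.S5011

set_option autoImplicit false
open Cfsg

namespace Cfsg.Agent.S5011

/-- Let G be a finite non-abelian simple group and ρ an irreducible complex representation of G on a space of dimension greater than one (irreducible in the sense that the only subspaces invariant under every ρ(x) are 0 and the whole space). Then for every non-identity element g of G, the centralizer of g does not act irreducibly: there is a non-zero proper subspace invariant under ρ(c) for every c commuting with g. -/
theorem result {G : Type*} [Group G] [Finite G] [IsSimpleGroup G]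
    (hG : ¬ IsMulCommutative G) {V : Type*} [AddCommGroup V] [Module ℂ V] [FiniteDimensional ℂ V]
    (ρ : Representation ℂ G V)
    (hirr : ∀ W : Submodule ℂ V, (∀ x : G, ∀ v ∈ W, ρ x v ∈ W) → W = ⊥ ∨ W = ⊤)
    (hdim : 1 < Module.finrank ℂ V) (g : G) (hg : g ≠ 1) :
    ∃ W : Submodule ℂ V, W ≠ ⊥ ∧ W ≠ ⊤ ∧ ∀ c ∈ Subgroup.centralizer ({g} : Set G), ∀ v ∈ W, ρ c v ∈ W := by
  have hnt : Nontrivial V := Module.nontrivial_of_finrank_pos (R := ℂ) (by omega)
  obtain ⟨μ, hμ⟩ := Module.End.exists_eigenvalue (ρ g)
  refine ⟨Module.End.eigenspace (ρ g) μ, hμ, ?_, ?_⟩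
  · intro htop
    have hscal : ∀ v : V, ρ g v = μ • v := by
      intro v
      have : v ∈ Module.End.eigenspace (ρ g) μ := by rw [htop]; trivial
      exact Module.End.mem_eigenspace_iff.1 this
    have hker : ∀ x : G, x * g * x⁻¹ * g⁻¹ ∈ MonoidHom.ker ρ := by
      intro x
      rw [MonoidHom.mem_ker]
      have h1 : ρ (x * g * x⁻¹) = ρ g := by
        apply LinearMap.ext
        intro v
        rw [map_mul, map_mul]
        simp only [Module.End.mul_apply]
        rw [hscal, hscal, map_smul]
        congr 1
        have : ρ x (ρ x⁻¹ v) = (ρ x * ρ x⁻¹) v := rfl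
        rw [this, ← map_mul, mul_inv_cancel, map_one]
        rfl
      rw [map_mul, h1, ← map_mul, mul_inv_cancel, map_one]
    have hkn : (MonoidHom.ker ρ).Normal := MonoidHom.normal_ker ρ
    rcases IsSimpleGroup.eq_bot_or_eq_top_of_normal _ hkn with hk | hk
    · -- g is central
      have hgc : g ∈ Subgroup.center G := by
        rw [Subgroup.mem_center_iff]
        intro x
        have := hker x
        rw [hk, Subgroup.mem_bot] at this
        have h2 : x * g * x⁻¹ = g := by rwa [mul_inv_eq_one] at this
        rw [mul_inv_eq_iff_eq_mul] at h2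
        exact h2
      rcases IsSimpleGroup.eq_bot_or_eq_top_of_normal (Subgroup.center G) inferInstance with hc | hc
      · rw [hc, Subgroup.mem_bot] at hgc
        exact hg hgc
      · apply hG
        refine ⟨⟨fun a b => ?_⟩⟩
        have : b ∈ Subgroup.center G := by rw [hc]; trivial
        rw [Subgroup.mem_center_iff] at this
        exact this a
    · -- ρ trivial
      have htriv : ∀ x : G, ρ x = 1 := by
        intro x
        have : x ∈ MonoidHom.ker ρ := by rw [hk]; trivial
        exact MonoidHom.mem_ker.1 this
      obtain ⟨v, hv⟩ := exists_ne (0 : V)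
      have hW := hirr (Submodule.span ℂ {v}) (by
        intro x w hw
        rw [htriv x]; exact hw)
      rcases hW with hW | hW
      · rw [Submodule.span_singleton_eq_bot] at hW
        exact hv hW
      · have h1 : Module.finrank ℂ (Submodule.span ℂ {v}) = 1 := finrank_span_singleton hv
        rw [hW, finrank_top] at h1
        omega
  · intro c hc v hv
    rw [Module.End.mem_eigenspace_iff] at hv ⊢
    have hcg : g * c = c * g := (Subgroup.mem_centralizer_iff.1 hc) g rfl
    have : ρ g (ρ c v) = (ρ g * ρ c) v := rfl
    rw [this, ← map_mul, hcg, map_mul]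
    simp only [Module.End.mul_apply]
    rw [hv, map_smul]

end Cfsg.Agent.S5011
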