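import Cfsg.Statements.S5014
import Cfsg.Agent.Lib.Helper83.RankOneOmega

set_option autoImplicit false
open Cfsg

namespace Cfsg.Agent.S5014

open Cfsg.Agent.Helper83

/-- Let X = ⟨A, B⟩ be a rank one group with unipotent subgroups A and B and let Ω be the set of conjugates of A under X. Then Ω has at least three members, X acts doubly transitively on Ω by conjugation (any two ordered pairs of distinct members are carried to one another by a single element of X), and A acts regularly on Ω with A removed: for C, D in Ω different from A there is exactly one element of A conjugating C to D. -/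
theorem result {G : Type*} [Group G] {A B : Subgroup G} (h : Cfsg.IsRankOnePair A B) :
    (∃ C₁ ∈ Cfsg.unipotentSubgroups A B, ∃ C₂ ∈ Cfsg.unipotentSubgroups A B, ∃ C₃ ∈ Cfsg.unipotentSubgroups A B,
      C₁ ≠ C₂ ∧ C₁ ≠ C₃ ∧ C₂ ≠ C₃) ∧
    (∀ C₁ ∈ Cfsg.unipotentSubgroups A B, ∀ C₂ ∈ Cfsg.unipotentSubgroups A B, ∀ D₁ ∈ Cfsg.unipotentSubgroups A B,
      ∀ D₂ ∈ Cfsg.unipotentSubgroups A B, C₁ ≠ C₂ → D₁ ≠ D₂ →
        ∃ x ∈ A ⊔ B, Cfsg.conjBy C₁ x = D₁ ∧ Cfsg.conjBy C₂ x = D₂) ∧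
    (∀ C ∈ Cfsg.unipotentSubgroups A B, ∀ D ∈ Cfsg.unipotentSubgroups A B, C ≠ A → D ≠ A →
      ∃! a : G, a ∈ A ∧ Cfsg.conjBy C a = D) := by
  refine ⟨?_, ?_, ?_⟩
  · obtain ⟨a, haA, ha1⟩ := exists_mem_ne_one_of_ne_bot (rankOne_ne_bot_left h)
    refine ⟨A, left_mem_unipotentSubgroups A B, B, right_mem_unipotentSubgroups h, conjBy B a,
      conjBy_mem_unipotentSubgroups (right_mem_unipotentSubgroups h) (Subgroup.mem_sup_left haA),
      h.ne, (conjBy_right_ne_left h haA).symm, ?_⟩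
    intro h1
    exact ha1 (rankOne_eq_one_of_normalizes h haA h1.symm)
  · intro C₁ hC₁ C₂ hC₂ D₁ hD₁ D₂ hD₂ hC hD
    obtain ⟨x, hx, hx1, hx2⟩ := rankOne_move_pair h hC₁ hC₂ hC
    obtain ⟨y, hy, hy1, hy2⟩ := rankOne_move_pair h hD₁ hD₂ hD
    refine ⟨y⁻¹ * x, Subgroup.mul_mem _ (Subgroup.inv_mem _ hy) hx, ?_, ?_⟩
    · rw [← conjBy_conjBy, hx1, ← hy1, conjBy_inv_conjBy]
    · rw [← conjBy_conjBy, hx2, ← hy2, conjBy_inv_conjBy]
  · intro C hC D hD hCA hDA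
    rw [unipotentSubgroups_eq_omegaSet h] at hC hD
    rcases hC with rfl | ⟨a₁, ha₁, rfl⟩
    · exact absurd rfl hCA
    rcases hD with rfl | ⟨a₂, ha₂, rfl⟩
    · exact absurd rfl hDA
    refine ⟨a₂ * a₁⁻¹, ⟨A.mul_mem ha₂ (A.inv_mem ha₁), ?_⟩, ?_⟩
    · rw [conjBy_conjBy, inv_mul_cancel_right]
    · rintro a' ⟨ha', h1⟩
      rw [conjBy_conjBy] at h1
      have := rankOne_conj_inj h (A.mul_mem ha' ha₁) ha₂ h1
      rw [← this, mul_inv_cancel_right]

end Cfsg.Agent.S5014
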