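import Cfsg.Statements.S5015
import Cfsg.Agent.Lib.Helper83.Conj

set_option autoImplicit false
open Cfsg

namespace Cfsg.Agent.S5015

open Cfsg.Agent.Helper83

/-- Let a group Y act doubly transitively on a set Ω with at least three points, and suppose that the stabilizer of a point α contains a nilpotent subgroup A, normalized by that stabilizer, which acts regularly on the points other than α. Then for any y in Y moving α, the subgroups A and y A y⁻¹ are the unipotent subgroups of a rank one group, and the normal closure of A in Y (the subgroup generated by all conjugates of A) is generated by A and y A y⁻¹ alone. -/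
theorem result {Y Ω : Type*} [Group Y] [MulAction Y Ω]
    (h2 : MulAction.IsMultiplyPretransitive Y Ω 2) (hΩ : 3 ≤ ENat.card Ω) (α : Ω) (A : Subgroup Y)
    (hA : A ≤ MulAction.stabilizer Y α) (hAn : ∀ y ∈ MulAction.stabilizer Y α, Cfsg.conjBy A y = A)
    (hnil : Group.IsNilpotent A) (hreg : ∀ β γ : Ω, β ≠ α → γ ≠ α → ∃! a : Y, a ∈ A ∧ a • β = γ)
    (y : Y) (hy : y ∉ MulAction.stabilizer Y α) :
    Cfsg.IsRankOnePair A (Cfsg.conjBy A y) ∧ Subgroup.normalClosure (A : Set Y) = A ⊔ Cfsg.conjBy A y := by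
  have hyα : y • α ≠ α := fun h => hy (MulAction.mem_stabilizer_iff.2 h)
  have hfix : ∀ a ∈ A, a • α = α := fun a ha => MulAction.mem_stabilizer_iff.1 (hA ha)
  -- the conjugate of A by g depends only on g • α
  have key : ∀ g g' : Y, g • α = g' • α → conjBy A g = conjBy A g' := by
    intro g g' h
    have h1 : g'⁻¹ * g ∈ MulAction.stabilizer Y α := by
      rw [MulAction.mem_stabilizer_iff, mul_smul, h, inv_smul_smul]
    have h2 := hAn _ h1
    have h3 : conjBy (conjBy A (g'⁻¹ * g)) g' = conjBy A g' := by rw [h2]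
    rw [conjBy_conjBy, mul_inv_cancel_left] at h3
    exact h3
  -- a nontrivial element of A moves every point other than α
  have hmove : ∀ a ∈ A, a ≠ 1 → ∀ β : Ω, β ≠ α → a • β ≠ β := by
    intro a ha ha1 β hβ h
    obtain ⟨a₀, _, hu⟩ := hreg β β hβ hβ
    have e1 := hu a ⟨ha, h⟩
    have e2 := hu 1 ⟨A.one_mem, one_smul _ _⟩
    exact ha1 (e1.trans e2.symm)
  have hsmul_ne : ∀ a ∈ A, ∀ β : Ω, β ≠ α → a • β ≠ α := by
    intro a ha β hβ h
    apply hβ
    have : a⁻¹ • (a • β) = a⁻¹ • α := by rw [h]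
    rw [inv_smul_smul, hfix _ (A.inv_mem ha)] at this
    exact this
  -- elements of B
  have hBmem : ∀ b : Y, b ∈ conjBy A y ↔ y⁻¹ * b * y ∈ A := fun b => mem_conjBy
  have hBfix : ∀ b ∈ conjBy A y, b • (y • α) = y • α := by
    intro b hb
    rw [hBmem] at hb
    have := hfix _ hb
    rw [mul_smul, mul_smul] at this
    have h3 : y • (y⁻¹ • b • y • α) = y • α := by rw [this]
    rwa [smul_inv_smul] at h3
  have hBmove : ∀ b ∈ conjBy A y, b ≠ 1 → ∀ γ : Ω, γ ≠ y • α → b • γ ≠ γ := by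
    intro b hb hb1 γ hγ h
    rw [hBmem] at hb
    have h1 : y⁻¹ * b * y ≠ 1 := by
      intro h1
      apply hb1
      have : b = y * (y⁻¹ * b * y) * y⁻¹ := by group
      rw [this, h1]; group
    have hγ' : y⁻¹ • γ ≠ α := by
      intro h3
      apply hγ
      rw [← h3, smul_inv_smul]
    apply hmove _ hb h1 (y⁻¹ • γ) hγ'
    rw [mul_smul, mul_smul, smul_inv_smul, h]
  have hBsmul_ne : ∀ b ∈ conjBy A y, ∀ γ : Ω, γ ≠ y • α → b • γ ≠ y • α := by
    intro b hb γ hγ h
    apply hγ
    have : b⁻¹ • (b • γ) = b⁻¹ • (y • α) := by rw [h]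
    rw [inv_smul_smul, hBfix _ (Subgroup.inv_mem _ hb)] at this
    exact this
  have hBtrans : ∀ γ δ : Ω, γ ≠ y • α → δ ≠ y • α → ∃ b ∈ conjBy A y, b • γ = δ := by
    intro γ δ hγ hδ
    have hγ' : y⁻¹ • γ ≠ α := by
      intro h3; apply hγ; rw [← h3, smul_inv_smul]
    have hδ' : y⁻¹ • δ ≠ α := by
      intro h3; apply hδ; rw [← h3, smul_inv_smul]
    obtain ⟨a, ⟨ha, hae⟩, _⟩ := hreg _ _ hγ' hδ'
    refine ⟨y * a * y⁻¹, conj_mem_conjBy ha, ?_⟩
    rw [mul_smul, mul_smul, hae, smul_inv_smul]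
  have hne : A ≠ conjBy A y := by
    intro heq
    -- a third point
    have h3 : ∃ γ : Ω, γ ≠ α ∧ γ ≠ y • α := by
      by_contra hcon
      push Not at hcon
      have hsub : (Set.univ : Set Ω) ⊆ {α, y • α} := by
        intro γ _
        by_cases h : γ = α
        · left; exact h
        · right; exact hcon γ h
      have := Set.encard_le_encard hsub
      rw [Set.encard_univ] at this
      have h4 : ({α, y • α} : Set Ω).encard ≤ 2 := by
        rw [Set.encard_pair (Ne.symm hyα)]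
      have h5 : (3 : ℕ∞) ≤ 2 := hΩ.trans (this.trans h4)
      exact absurd h5 (by decide)
    obtain ⟨γ, hγ1, hγ2⟩ := h3
    obtain ⟨a, ⟨ha, hae⟩, _⟩ := hreg (y • α) γ hyα hγ1
    rw [heq] at ha
    rw [hBfix a ha] at hae
    exact hγ2 hae.symm
  have hcondL : RankOneCondition A (conjBy A y) := by
    intro a ha ha1
    have ha1' : a⁻¹ ≠ 1 := by simpa using ha1
    have hγ1 : a⁻¹ • (y • α) ≠ y • α := hmove _ (A.inv_mem ha) ha1' _ hyα
    obtain ⟨b', hb', hb'e⟩ := hBtrans α (a⁻¹ • (y • α)) (Ne.symm hyα) hγ1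
    refine ⟨b'⁻¹, Subgroup.inv_mem _ hb', ?_, ?_⟩
    · intro h1
      rw [inv_eq_one] at h1
      rw [h1, one_smul] at hb'e
      exact hsmul_ne _ (A.inv_mem ha) _ hyα hb'e.symm
    · rw [inv_inv, conjBy_conjBy]
      apply key
      rw [hb'e, mul_smul]
  have hcondR : RankOneCondition (conjBy A y) A := by
    intro b hb hb1
    have hb1' : b⁻¹ ≠ 1 := by simpa using hb1
    have hγ1 : b⁻¹ • α ≠ α := by
      intro h
      exact hBmove _ (Subgroup.inv_mem _ hb) hb1' α (Ne.symm hyα) h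
    have hγ2 : b⁻¹ • α ≠ y • α := hBsmul_ne _ (Subgroup.inv_mem _ hb) α (Ne.symm hyα)
    obtain ⟨a', ⟨ha', ha'e⟩, _⟩ := hreg (y • α) (b⁻¹ • α) hyα hγ1
    refine ⟨a'⁻¹, A.inv_mem ha', ?_, ?_⟩
    · intro h1
      rw [inv_eq_one] at h1
      rw [h1, one_smul] at ha'e
      exact hγ2 ha'e.symm
    · rw [inv_inv, conjBy_conjBy]
      apply key
      rw [mul_smul, ha'e]
  refine ⟨⟨hne, hnil, isNilpotent_conjBy hnil y, hcondL, hcondR⟩, ?_⟩
  apply le_antisymm
  · rw [Subgroup.normalClosure, Subgroup.closure_le]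
    intro x hx
    rw [Group.mem_conjugatesOfSet_iff] at hx
    obtain ⟨a, ha, hconj⟩ := hx
    rw [isConj_iff] at hconj
    obtain ⟨g, rfl⟩ := hconj
    have hmem : g * a * g⁻¹ ∈ conjBy A g := conj_mem_conjBy ha
    by_cases hg : g • α = α
    · have : conjBy A g = A := hAn g (MulAction.mem_stabilizer_iff.2 hg)
      rw [this] at hmem
      exact Subgroup.mem_sup_left hmem
    · obtain ⟨a', ⟨ha', ha'e⟩, _⟩ := hreg (y • α) (g • α) hyα hg
      have : conjBy A g = conjBy (conjBy A y) a' := by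
        rw [conjBy_conjBy]
        apply key
        rw [mul_smul, ha'e]
      rw [this] at hmem
      exact conjBy_le_of_mem le_sup_right (Subgroup.mem_sup_left ha') hmem
  · apply sup_le Subgroup.le_normalClosure
    intro x hx
    rw [mem_conjBy] at hx
    have h1 : y * (y⁻¹ * x * y) * y⁻¹ ∈ Subgroup.normalClosure (A : Set Y) :=
      Subgroup.normalClosure_normal.conj_mem _ (Subgroup.le_normalClosure hx) y
    have h2 : y * (y⁻¹ * x * y) * y⁻¹ = x := by group
    rwa [h2] at h1

end Cfsg.Agent.S5015
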