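import Cfsg.Statements.S5016
import Cfsg.Agent.Lib.Helper83.SL2

set_option autoImplicit false
open Cfsg

namespace Cfsg.Agent.S5016

open Cfsg.Agent.Helper83

/-- For any field k, the special linear group SL₂(k) is a special rank one group with abelian unipotent subgroups, the unipotent subgroups being the group of lower unitriangular matrices and the group of upper unitriangular matrices. -/
theorem result (k : Type*) [Field k] :
    Cfsg.IsRankOneGroup (Matrix.SpecialLinearGroup (Fin 2) k) (Cfsg.lowerUnipotentSL2 k) (Cfsg.upperUnipotentSL2 k) ∧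
    Cfsg.IsSpecialRankOnePair (Cfsg.lowerUnipotentSL2 k) (Cfsg.upperUnipotentSL2 k) ∧
    Cfsg.HasAbelianUnipotents (Cfsg.lowerUnipotentSL2 k) (Cfsg.upperUnipotentSL2 k) := by
  refine ⟨⟨sl2_generation, sl2_isRankOnePair⟩, ⟨sl2_isRankOnePair, ?_⟩,
    ⟨isMulCommutative_lower, isMulCommutative_upper⟩⟩
  intro a ha ha1 b hb hb1 hconj
  obtain ⟨t, rfl⟩ := mem_lowerUnipotentSL2.1 ha
  obtain ⟨s, rfl⟩ := mem_upperUnipotentSL2.1 hb
  have ht : t ≠ 0 := fun h => ha1 (lSL_eq_one_iff.2 h)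
  -- uniqueness of the partner forces s = t⁻¹
  have h1 : conjBy (lowerUnipotentSL2 k) (uSL t⁻¹)⁻¹ = conjBy (upperUnipotentSL2 k) (lSL t)⁻¹ :=
    sl2_conj_eq (inv_mul_cancel₀ ht)
  have h2 := rankOne_conj_inj (RankOnePair_symm (sl2_isRankOnePair (k := k)))
    (Subgroup.inv_mem _ (mem_upperUnipotentSL2.2 ⟨s, rfl⟩))
    (Subgroup.inv_mem _ (mem_upperUnipotentSL2.2 ⟨t⁻¹, rfl⟩)) (hconj.trans h1.symm)
  have hs : s = t⁻¹ := uSL_injective (inv_injective h2)
  have hst : s * t = 1 := by rw [hs]; exact inv_mul_cancel₀ ht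
  rw [uSL_inv, lSL_inv, sl2_conj_identity hst]
  have : -(s ^ 2 * t) = -s := by
    linear_combination (-s) * hst
  rw [this]

end Cfsg.Agent.S5016
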