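import Cfsg.Statements.S5020
import Cfsg.Agent.Lib.Helper83.R2N1
import Cfsg.Agent.Lib.Helper83.R2E
import Cfsg.Agent.Lib.Helper83.R2G
import Cfsg.Agent.Lib.Helper9.R2F
import Cfsg.Agent.Lib.Helper23.R2S

set_option autoImplicit false
open Cfsg

namespace Cfsg.Agent.S5020

open Cfsg.Agent.Helper83 Cfsg.Agent.Helper83.R2

/-- Let X be a special rank one group with abelian unipotent subgroups A and B, and H = N(A) ∩ N(B) its diagonal subgroup. Then either A has at most three elements and X is isomorphic to SL₂(2), SL₂(3) or PSL₂(3); or X = X' A with the commutator subgroup X' quasisimple and the commutator subgroup ⁅A, H⁆ having more than three elements. -/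
theorem result {X : Type*} [Group X] {A B : Subgroup X} (h : Cfsg.IsRankOneGroup X A B)
    (hs : Cfsg.IsSpecialRankOnePair A B) (hab : Cfsg.HasAbelianUnipotents A B) :
    (ENat.card A ≤ 3 ∧ (Nonempty (X ≃* Matrix.SpecialLinearGroup (Fin 2) (ZMod 2)) ∨
        Nonempty (X ≃* Matrix.SpecialLinearGroup (Fin 2) (ZMod 3)) ∨
        Nonempty (X ≃* Matrix.ProjectiveSpecialLinearGroup (Fin 2) (ZMod 3)))) ∨
    (commutator X ⊔ A = ⊤ ∧ Cfsg.IsQuasisimple (commutator X) ∧
      3 < ENat.card ↥(⁅A, Cfsg.rankOneDiagonal A B⁆ : Subgroup X)) := by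
  by_cases hcard : ENat.card A ≤ 3
  · left
    exact ⟨hcard, Cfsg.Agent.Helper23.R2.small_case h hs hab hcard⟩
  · right
    have hcard' : 3 < ENat.card A := not_le.mp hcard
    have hAE : A ≤ ⁅A, rankOneDiagonal A B⁆ :=
      Cfsg.Agent.Helper9.R2.le_comm_of_mul_mem h hs hab hcard'
        (fun a ha ha1 d hd hd1 had => mul_mem_comm hs hab ha ha1 hd hd1 had)
    obtain ⟨a, ha, ha1⟩ := exists_mem_ne_one_of_ne_bot (rankOne_ne_bot_left h.2)
    exact big_case h hAE hcard' ⟨nEl A B a, (nEl_conj hs ha ha1).1⟩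

end Cfsg.Agent.S5020
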