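import Cfsg.Statements.S5023
import Cfsg.Agent.Lib.Helper83.QuadMod

set_option autoImplicit false
open Cfsg

namespace Cfsg.Agent.S5023

open Cfsg.Agent.Helper83

/-- if some power `c = a'^p` acts with `[V, c] ≤ [V,A] ∩ [V,B]`, then `c = 1` -/
theorem eq_one_of_dlt_mem {X : Type*} [Group X] {A B : Subgroup X} (h : Cfsg.IsRankOnePair A B)
    {V : Type*} [AddCommGroup V] [DistribMulAction X V] (hf : ∀ x : X, (∀ v : V, x • v = v) → x = 1)
    (hqA : Quadratic A V) (hqB : Quadratic B V) {c : X} (hc : c ∈ A)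
    (hcZ : ∀ v : V, dlt c v ∈ cm A V ⊓ cm B V) : c = 1 := by
  by_contra hc1
  obtain ⟨d, hd, -, hcd⟩ := h.cond_left c hc hc1
  have hBA : cm B V ≤ cm A V := by
    intro w hw
    obtain ⟨z, hz, e⟩ := key_rel hqA hqB hc hd hcd hw
    have h0 : dlt d (dlt c w) = 0 := hqB.dlt_cm hd (hcZ w).2
    rw [h0, add_zero] at e
    rw [e]; exact hz.1
  have hAB : cm A V ≤ cm B V := by
    intro u hu
    obtain ⟨z, hz, e⟩ := key_rel hqB hqA hd hc hcd.symm hu
    have h0 : dlt c (dlt d u) = 0 := hqA.dlt_cm hc (hBA (dlt_mem_cm hd u))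
    rw [h0, add_zero] at e
    rw [e]; exact hz.1
  -- `A` and `B` commute elementwise, so `A = B`
  have hcomm : ∀ a ∈ A, ∀ b ∈ B, a * b = b * a :=
    fun a ha b hb => commute_of_cm_le hqA hqB hf hAB hBA ha hb
  apply h.ne
  have h1 : conjBy A d⁻¹ = A := by
    apply conjBy_eq_self_iff.2
    apply Subgroup.inv_mem
    apply Subgroup.centralizer_le_normalizer
    exact Subgroup.mem_centralizer_iff.2 (fun x hx => hcomm x hx d hd)
  have h2 : conjBy B c⁻¹ = B := by
    apply conjBy_eq_self_iff.2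
    apply Subgroup.inv_mem
    apply Subgroup.centralizer_le_normalizer
    exact Subgroup.mem_centralizer_iff.2 (fun x hx => (hcomm c hc x hx).symm)
  rw [← h1, hcd, h2]

/-- Let X be a rank one group with unipotent subgroups A and B that acts faithfully on an abelian group V (written additively) with A acting quadratically: a' • (a • v − v) = a • v − v for all a, a' in A and v in V. Then A is either torsion-free or an elementary abelian p-group for some prime p. -/
theorem result {X : Type*} [Group X] {A B : Subgroup X} (h : Cfsg.IsRankOneGroup X A B)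
    {V : Type*} [AddCommGroup V] [DistribMulAction X V] (hf : ∀ x : X, (∀ v : V, x • v = v) → x = 1)
    (hq : ∀ a ∈ A, ∀ a' ∈ A, ∀ v : V, a' • (a • v - v) = a • v - v) :
    (∀ a ∈ A, a ≠ 1 → ¬ IsOfFinOrder a) ∨ ∃ p : ℕ, p.Prime ∧ Cfsg.IsElementaryAbelian p A := by
  obtain ⟨-, hp⟩ := h
  have hqA : Quadratic A V := hq
  -- `B` is a conjugate of `A`, hence quadratic
  have hqB : Quadratic B V := by
    obtain ⟨a, ha, ha1⟩ := exists_mem_ne_one_of_ne_bot (rankOne_ne_bot_left hp)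
    obtain ⟨b, hb, -, hab⟩ := hp.cond_left a ha ha1
    have hB : B = conjBy (conjBy A b⁻¹) a := by rw [hab, conjBy_conjBy_inv]
    rw [hB]
    exact (hqA.conjBy b⁻¹).conjBy a
  by_cases htf : ∀ a ∈ A, a ≠ 1 → ¬ IsOfFinOrder a
  · exact Or.inl htf
  right
  push Not at htf
  obtain ⟨a, ha, ha1, hfin⟩ := htf
  have hn0 : orderOf a ≠ 0 := (orderOf_pos_iff.2 hfin).ne'
  have hn1 : orderOf a ≠ 1 := fun h1 => ha1 (orderOf_eq_one_iff.1 h1)
  set p := (orderOf a).minFac with hpdef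
  have hpp : p.Prime := Nat.minFac_prime hn1
  have hpd : p ∣ orderOf a := Nat.minFac_dvd _
  set a₀ := a ^ (orderOf a / p) with ha₀def
  have ha₀ord : orderOf a₀ = p := orderOf_pow_orderOf_div hn0 hpd
  have ha₀ : a₀ ∈ A := A.pow_mem ha _
  have ha₀1 : a₀ ≠ 1 := by
    intro h1
    rw [h1, orderOf_one] at ha₀ord
    exact hpp.ne_one ha₀ord.symm
  have ha₀p : a₀ ^ p = 1 := by rw [← ha₀ord]; exact pow_orderOf_eq_one a₀
  have hpdlt : ∀ v : V, p • dlt a₀ v = 0 := by
    intro v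
    rw [← hqA.dlt_pow ha₀, ha₀p, dlt_one]
  obtain ⟨b₀, hb₀, -, hab₀⟩ := hp.cond_left a₀ ha₀ ha₀1
  -- `p [V,A] ≤ [V,A] ∩ [V,B]`
  have hpA : ∀ u ∈ cm A V, p • u ∈ cm A V ⊓ cm B V := by
    intro u hu
    obtain ⟨z, hz, e⟩ := key_rel hqB hqA hb₀ ha₀ hab₀.symm hu
    have : p • u = p • z := by
      conv_lhs => rw [e]
      rw [smul_add, hpdlt, add_zero]
    rw [this]
    have hz' : z ∈ cm A V ⊓ cm B V := ⟨hz.2, hz.1⟩
    exact AddSubgroup.nsmul_mem _ hz' p
  refine ⟨p, hpp, hqA.isMulCommutative hf, fun a' ha' => ?_⟩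
  apply eq_one_of_dlt_mem hp hf hqA hqB (A.pow_mem ha' p)
  intro v
  rw [hqA.dlt_pow ha']
  exact hpA _ (dlt_mem_cm ha' v)

end Cfsg.Agent.S5023
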