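import Cfsg.Statements.S5026
import Cfsg.Agent.Lib.Helper83.RootLemmas2

set_option autoImplicit false
open Cfsg

namespace Cfsg.Agent.S5026

open Cfsg.Agent.Helper83

theorem le_centralizer_zpowers_iff {G : Type*} [Group G] {E : Subgroup G} {x : G} :
    E ≤ Subgroup.centralizer (Subgroup.zpowers x : Set G) ↔ ∀ e ∈ E, e * x = x * e := by
  constructor
  · intro h e he
    have := Subgroup.mem_centralizer_iff.1 (h he) x (Subgroup.mem_zpowers x)
    exact this.symm
  · intro h e he
    rw [Subgroup.mem_centralizer_iff]
    rintro y ⟨n, rfl⟩
    have : Commute e x := h e he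
    exact (this.zpow_right n).symm

/-- Let S be a degenerate set of abstract root subgroups of G (a set of abstract transvection groups) and let a, b be commuting non-identity elements of members of S with a b ≠ 1. Then the members of S centralizing a b are exactly those centralizing both a and b. -/
theorem result {G : Type*} [Group G] {S : Set (Subgroup G)} (hS : Cfsg.IsRootSubgroupSet S) (hdeg : Cfsg.IsDegenerateRootSet S)
    {a b : G} (ha : a ∈ Cfsg.rootElements S) (hb : b ∈ Cfsg.rootElements S) (hab : a * b = b * a) (hab1 : a * b ≠ 1) :
    Cfsg.centralizingMembers S (Subgroup.zpowers (a * b)) =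
      Cfsg.centralizingMembers S (Subgroup.zpowers a) ∩ Cfsg.centralizingMembers S (Subgroup.zpowers b) := by
  obtain ⟨ha1, A, hA, haA⟩ := ha
  obtain ⟨hb1, B, hB, hbB⟩ := hb
  ext E
  simp only [centralizingMembers, Set.mem_ofPred_eq, Set.mem_inter_iff, le_centralizer_zpowers_iff]
  constructor
  · rintro ⟨hE, hEc⟩
    -- A and B commute
    have hABc : A ≤ Subgroup.centralizer (B : Set G) := by
      rcases hS.pair A hA B hB with h1 | h1 | h1
      · exact Subgroup.commutator_eq_bot_iff_le_centralizer.1 h1
      · exact absurd (rankOne_commute_trivial h1 haA ha1 hbB hab) hb1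
      · exact absurd h1 (hdeg A hA B hB)
    have hfirst : ∀ e ∈ E, e * a = a * e := by
      rcases hS.pair A hA E hE with h1 | h1 | h1
      · rw [Subgroup.commutator_eq_bot_iff_le_centralizer] at h1
        intro e he
        exact Subgroup.mem_centralizer_iff.1 (h1 haA) e he
      · exfalso
        have hz : a * b ∈ Subgroup.centralizer ((A ⊔ E : Subgroup G) : Set G) := by
          have h2 : A ⊔ E ≤ Subgroup.centralizer {a * b} := by
            apply sup_le
            · intro x hx
              rw [Subgroup.mem_centralizer_iff]
              intro y hy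
              rw [Set.mem_singleton_iff] at hy; subst hy
              have e1 : x * a = a * x := mul_comm_of_isMulCommutative (hS.commutative A hA) hx haA
              have e2 : b * x = x * b := Subgroup.mem_centralizer_iff.1 (hABc hx) b hbB
              rw [mul_assoc, e2, ← mul_assoc, ← e1, mul_assoc]
            · intro x hx
              rw [Subgroup.mem_centralizer_iff]
              intro y hy
              rw [Set.mem_singleton_iff] at hy; subst hy
              exact (hEc x hx).symm
          rw [Subgroup.mem_centralizer_iff]
          intro x hx
          have := Subgroup.mem_centralizer_iff.1 (h2 hx) (a * b) rfl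
          exact this.symm
        have := root_central_translate hS hA hE h1 hz hab1 a⁻¹ (A.inv_mem haA) (by simpa using ha1)
        apply this
        have e3 : a * b * a⁻¹ = b := by rw [hab, mul_inv_cancel_right]
        rw [e3]
        exact ⟨hb1, B, hB, hbB⟩
      · exact absurd h1 (hdeg A hA E hE)
    refine ⟨⟨hE, hfirst⟩, hE, ?_⟩
    intro e he
    have e1 := hEc e he
    have e2 := hfirst e he
    have : a * (e * b) = a * (b * e) := by
      rw [← mul_assoc, ← e2, mul_assoc, e1, mul_assoc]
    exact mul_left_cancel this
  · rintro ⟨⟨hE, h1⟩, _, h2⟩
    refine ⟨hE, ?_⟩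
    intro e he
    rw [← mul_assoc, h1 e he, mul_assoc, h2 e he, mul_assoc]

end Cfsg.Agent.S5026
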