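import Cfsg.Statements.S5027
import Cfsg.Agent.Lib.Helper83.RootLemmas3

set_option autoImplicit false
open Cfsg

namespace Cfsg.Agent.S5027

open Cfsg.Agent.Helper83
open scoped commutatorElement

variable {G : Type*} [Group G] {S : Set (Subgroup G)}

theorem conjBy_central_mul {H : Subgroup G} {c a : G} (hc : c ∈ Subgroup.center G) :
    conjBy H (c * a)⁻¹ = conjBy H a⁻¹ := by
  rw [mul_inv_rev, ← conjBy_conjBy, conjBy_of_mem_center (Subgroup.inv_mem _ hc)]

theorem secondCentre_normalizes (hS : IsRootSubgroupSet S) {A B : Subgroup G} (hA : A ∈ S)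
    (hB : B ∈ S) (hr : IsRankOnePair A B) {z : G} (hz : z ∈ Subgroup.upperCentralSeries G 2) :
    conjBy A z = A := by
  have hcomm : ∀ a : G, ⁅z, a⁆ ∈ Subgroup.center G := by
    intro a
    have := (Subgroup.mem_upperCentralSeries_succ_iff (n := 1)).1 hz a
    rwa [Subgroup.upperCentralSeries_one] at this
  have hform : ∀ a : G, z * a * z⁻¹ = ⁅z, a⁆ * a := by
    intro a; rw [commutatorElement_def]; group
  have hC : conjBy A z ∈ S := hS.conj_mem A hA z
  have hanc : ∀ a ∈ A, a ≠ 1 → a ∉ Subgroup.centralizer (B : Set G) := by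
    intro a ha ha1 hc
    have : a ∈ A ⊓ Subgroup.normalizer (B : Set G) := ⟨ha, centralizer_le_normalizer' B hc⟩
    rw [rankOne_inf_normalizer hr, Subgroup.mem_bot] at this
    exact ha1 this
  obtain ⟨a, ha, ha1⟩ := exists_mem_ne_one_of_ne_bot (hS.ne_bot A hA)
  have ha' : z * a * z⁻¹ ∈ conjBy A z := conj_mem_conjBy ha
  have ha'1 : z * a * z⁻¹ ≠ 1 := by
    intro h1
    apply ha1
    have : a = z⁻¹ * (z * a * z⁻¹) * z := by group
    rw [this, h1]; group
  have hconj : conjBy B (z * a * z⁻¹)⁻¹ = conjBy B a⁻¹ := by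
    rw [hform, conjBy_central_mul (hcomm a)]
  rcases hS.pair _ hC B hB with h1 | h1 | h1
  · exfalso
    rw [Subgroup.commutator_eq_bot_iff_le_centralizer] at h1
    apply hanc a ha ha1
    have h2 := h1 ha'
    rw [hform] at h2
    have h3 : (⁅z, a⁆)⁻¹ ∈ Subgroup.centralizer (B : Set G) :=
      Subgroup.center_le_centralizer _ (Subgroup.inv_mem _ (hcomm a))
    have := Subgroup.mul_mem _ h3 h2
    rwa [inv_mul_cancel_left] at this
  · obtain ⟨b, hb, _, hbe⟩ := hr.cond_left a ha ha1
    obtain ⟨b', hb', _, hbe'⟩ := h1.cond_left _ ha' ha'1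
    rw [hconj, ← hbe] at hbe'
    have hCeq : conjBy A z = conjBy A (b' * b⁻¹) := by
      rw [← conjBy_conjBy A, ← hbe', conjBy_conjBy_inv]
    have hCmem : conjBy A z ∈ unipotentSubgroups A B :=
      ⟨b' * b⁻¹, Subgroup.mem_sup_right (B.mul_mem hb' (B.inv_mem hb)), hCeq⟩
    by_contra hne
    have hsup := rankOne_sup_eq_of_mem hr (left_mem_unipotentSubgroups A B) hCmem (Ne.symm hne)
    have h2 : A ⊔ conjBy A z ≤ Subgroup.centralizer (A : Set G) := by
      apply sup_le (le_centralizer_self_of_comm (hS.commutative A hA))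
      intro x hx
      rw [mem_conjBy] at hx
      have hx' : x = z * (z⁻¹ * x * z) * z⁻¹ := by group
      rw [hx', hform]
      exact Subgroup.mul_mem _ (Subgroup.center_le_centralizer _ (hcomm _))
        (le_centralizer_self_of_comm (hS.commutative A hA) hx)
    rw [hsup] at h2
    exact rankOne_not_le_centralizer (RankOnePair_symm hr) (le_sup_right.trans h2)
  · exfalso
    refine rankOne_commutator_kill hr (hS.commutative B hB) (commutatorCase_le_centralizer_right h1)
      ha ha1 ?_
    rw [← hconj]
    exact conjBy_le_sup_commutator (Subgroup.inv_mem _ ha')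

/-- Let S be a set of abstract root subgroups of G such that every member of S has a rank one partner in S (the graph of rank one pairs on S has no isolated vertex). Then the second centre of G equals its centre. -/
theorem result {G : Type*} [Group G] {S : Set (Subgroup G)} (hS : Cfsg.IsRootSubgroupSet S)
    (hF : ∀ A ∈ S, ¬ Cfsg.IsIsolatedIn (Cfsg.FAdj S) S A) : Subgroup.upperCentralSeries G 2 = Subgroup.center G := by
  apply le_antisymm
  · intro z hz
    have hcomm : ∀ a : G, ⁅z, a⁆ ∈ Subgroup.center G := by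
      intro a
      have := (Subgroup.mem_upperCentralSeries_succ_iff (n := 1)).1 hz a
      rwa [Subgroup.upperCentralSeries_one] at this
    have hall : (⨆ A ∈ S, A) ≤ Subgroup.centralizer {z} := by
      apply iSup₂_le
      intro A hA
      obtain ⟨B, hB, hr⟩ := (not_isolated_iff hA).1 (hF A hA)
      have hn := secondCentre_normalizes hS hA hB hr hz
      intro a ha
      rw [Subgroup.mem_centralizer_iff]
      intro y hy
      rw [Set.mem_singleton_iff] at hy; subst hy
      have h1 : ⁅y, a⁆ ∈ A := by
        rw [commutatorElement_def]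
        have : y * a * y⁻¹ ∈ conjBy A y := conj_mem_conjBy ha
        rw [hn] at this
        exact A.mul_mem this (A.inv_mem ha)
      have h2 : ⁅y, a⁆ ∈ A ⊓ Subgroup.normalizer (B : Set G) :=
        ⟨h1, centralizer_le_normalizer' B (Subgroup.center_le_centralizer _ (hcomm a))⟩
      rw [rankOne_inf_normalizer hr, Subgroup.mem_bot, commutatorElement_def] at h2
      have h3 : y * a * y⁻¹ = a := by rwa [mul_inv_eq_one] at h2
      rw [mul_inv_eq_iff_eq_mul] at h3
      exact h3
    rw [hS.generates] at hall
    rw [Subgroup.mem_center_iff]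
    intro g
    have := Subgroup.mem_centralizer_iff.1 (hall (Subgroup.mem_top g)) z rfl
    exact this.symm
  · rw [← Subgroup.upperCentralSeries_one]
    exact Subgroup.upperCentralSeries_mono G (by norm_num)

end Cfsg.Agent.S5027
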