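import Cfsg.Statements.S5031
import Cfsg.Agent.Lib.Helper94.RootComp

set_option autoImplicit false
open Cfsg

namespace Cfsg.Agent.S5031

/-- Let S be a set of abstract root subgroups of G and let A, B ∈ S lie in different connected components of the graph of rank one pairs on S, each component having more than one member. Then B is not a line partner of A. -/
theorem result {G : Type*} [Group G] {S : Set (Subgroup G)} (hS : Cfsg.IsRootSubgroupSet S)
    {A B : Subgroup G} (hA : A ∈ S) (hB : B ∈ S)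
    (hne : Cfsg.componentOf (Cfsg.FAdj S) S A ≠ Cfsg.componentOf (Cfsg.FAdj S) S B)
    (hA2 : ∃ A' ∈ Cfsg.componentOf (Cfsg.FAdj S) S A, A' ≠ A) (hB2 : ∃ B' ∈ Cfsg.componentOf (Cfsg.FAdj S) S B, B' ≠ B) :
    B ∉ Cfsg.linePartners S A := by
  rintro ⟨⟨_, hBA, hcomm⟩, hpart⟩
  obtain ⟨A₁, hA₁, hrA⟩ := Cfsg.Agent.Helper94.exists_rankOne_of_component hA2
  obtain ⟨B₁, hB₁, hrB⟩ := Cfsg.Agent.Helper94.exists_rankOne_of_component hB2
  obtain ⟨a, ha, ha1⟩ := Cfsg.Agent.Helper83.exists_mem_ne_one_of_ne_bot (hS.ne_bot A hA)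
  obtain ⟨b, hb, hb1⟩ := Cfsg.Agent.Helper83.exists_mem_ne_one_of_ne_bot (hS.ne_bot B hB)
  have hab1 : a * b ≠ 1 := by
    intro h1
    have hainv : a = b⁻¹ := eq_inv_of_mul_eq_one_left h1
    have hmem : a ∈ A ⊓ B := Subgroup.mem_inf.2 ⟨ha, by rw [hainv]; exact B.inv_mem hb⟩
    rcases Cfsg.Agent.Helper83.root_inf_eq_bot_or_eq hS hA hA₁ hrA B hB with h2 | h2
    · rw [h2, Subgroup.mem_bot] at hmem
      exact ha1 hmem
    · exact hBA h2.symm
  obtain ⟨E, ⟨hE, _⟩, he⟩ := hpart.2.1 (a * b)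
    (Subgroup.mul_mem _ (Subgroup.mem_sup_left ha) (Subgroup.mem_sup_right hb)) hab1
  exact hne (Cfsg.Agent.Helper94.component_eq_of_mul_mem hS hA hB hA₁ hB₁ hE hrA hrB hcomm ha ha1 hb
    hb1 he)

end Cfsg.Agent.S5031
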