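import Cfsg.Statements.S5032
import Cfsg.Agent.Lib.Helper94.RootComp2

set_option autoImplicit false
open Cfsg

namespace Cfsg.Agent.S5032

/-- Let S be a set of abstract root subgroups of G with more than one member. Then the graph of rank one pairs on S is connected if and only if S is a single conjugacy class of G and some member of S has a rank one partner in S. -/
theorem result {G : Type*} [Group G] {S : Set (Subgroup G)} (hS : Cfsg.IsRootSubgroupSet S) (h2 : ∃ A ∈ S, ∃ B ∈ S, A ≠ B) :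
    Cfsg.IsConnectedFamily (Cfsg.FAdj S) S ↔
      (Cfsg.IsConjClassOfSubgroups S ∧ ∃ A ∈ S, ¬ Cfsg.IsIsolatedIn (Cfsg.FAdj S) S A) := by
  obtain ⟨A, hA, B, hB, hAB⟩ := h2
  constructor
  · intro hconn
    refine ⟨⟨⟨A, hA⟩, fun X hX Y hY => Cfsg.Agent.Helper94.conj_of_reach (hconn X hX Y hY)⟩, A, hA, ?_⟩
    rintro ⟨_, hiso⟩
    rcases Relation.ReflTransGen.cases_head (hconn A hA B hB) with h1 | ⟨A₁, hadj, _⟩
    · exact hAB h1
    · exact (hiso A₁).1 hadj
  · rintro ⟨⟨_, hconj⟩, A₀, hA₀, hniso⟩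
    obtain ⟨D₀, hD₀, hr₀⟩ := (Cfsg.Agent.Helper83.not_isolated_iff hA₀).1 hniso
    have hall : ∀ E ∈ S, ∃ E₁ ∈ S, Cfsg.IsRankOnePair E E₁ := by
      intro E hE
      obtain ⟨g, rfl⟩ := hconj A₀ hA₀ E hE
      exact ⟨Cfsg.conjBy D₀ g, hS.conj_mem D₀ hD₀ g, Cfsg.Agent.Helper83.isRankOnePair_conjBy hr₀ g⟩
    have hstab := Cfsg.Agent.Helper94.top_le_famStab_component hS hall hA₀
    have hreach : ∀ X ∈ S, Relation.ReflTransGen (Cfsg.FAdj S) A₀ X := by
      intro X hX
      obtain ⟨g, rfl⟩ := hconj A₀ hA₀ X hX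
      have := (Cfsg.Agent.Helper83.mem_famStab.1 (hstab (Subgroup.mem_top g))) A₀
        ⟨hA₀, Relation.ReflTransGen.refl⟩
      exact this.1.2
    intro X hX Y hY
    exact (Cfsg.Agent.Helper94.reach_symm (hreach X hX)).trans (hreach Y hY)

end Cfsg.Agent.S5032
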