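import Cfsg.Statements.S5033
import Cfsg.Agent.Lib.Helper83.R3Defs
import Cfsg.Agent.Lib.Helper83.R3CJ
import Cfsg.Agent.Lib.Helper83.R3IA
import Cfsg.Agent.Lib.Helper83.R3QS
import Cfsg.Agent.Lib.Helper29.R3CS
import Cfsg.Agent.Lib.Helper29.R3EX
import Cfsg.Agent.Lib.Helper29.R3LC
import Cfsg.Agent.Lib.Helper29.R3SF
import Cfsg.Agent.Lib.Helper48.R3SB
import Cfsg.Agent.Lib.Helper71.R3PF

set_option autoImplicit false
open Cfsg

namespace Cfsg.Agent.S5033

open Cfsg.Agent.Helper83 Cfsg.Agent.Helper83.R2 Cfsg.Agent.Helper83.R3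

/-- Quasisimplicity criterion for groups generated by abstract root subgroups. Let S be a set of abstract root subgroups of G with more than one member such that: the graph of rank one pairs on S is connected; no two different members of S have the same set of commuting members of S; if S is degenerate then every member of S has more than three elements; and every rank one pair in S is special. Then for every A ∈ S one has G = G' A with A ∩ G' ≠ 1, and the commutator subgroup G' is quasisimple. Moreover G is perfect if S is non-degenerate, or if some rank one pair A, B in S generates a perfect group. -/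
theorem result {G : Type*} [Group G] {S : Set (Subgroup G)} (hS : Cfsg.IsRootSubgroupSet S) (h2 : ∃ A ∈ S, ∃ B ∈ S, A ≠ B)
    (h1 : Cfsg.IsConnectedFamily (Cfsg.FAdj S) S)
    (h2' : ∀ A ∈ S, ∀ C ∈ S, A ≠ C → Cfsg.centralizingMembers S A ≠ Cfsg.centralizingMembers S C)
    (h3 : Cfsg.IsDegenerateRootSet S → ∀ A ∈ S, 3 < ENat.card A)
    (h4 : ∀ A ∈ S, ∀ B ∈ Cfsg.rankOnePartners S A, Cfsg.IsSpecialRankOnePair A B) :
    (∀ A ∈ S, commutator G ⊔ A = ⊤ ∧ A ⊓ commutator G ≠ ⊥) ∧ Cfsg.IsQuasisimple ↥(commutator G) ∧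
    (Cfsg.IsNondegenerateRootSet S → commutator G = ⊤) ∧
    ((∃ A ∈ S, ∃ B ∈ Cfsg.rankOnePartners S A, Group.IsPerfect ↥(A ⊔ B)) → commutator G = ⊤) := by
  have hconj := conj_of_connected h1 h4
  have hpart := partner_of_connected h2 h1
  have hne : S.Nonempty := by
    obtain ⟨A, hA, _⟩ := h2
    exact ⟨A, hA⟩
  have c : RootCtx S :=
    ⟨hS, hconj, fun A hA B hB hr => h4 A hA B ⟨hB, hr⟩, hpart, h3, h2'⟩
  have hFP : BigInComm S := fun A hA B hB hr hcard =>
    Cfsg.Agent.Helper71.R3.le_comm_diag (c.special A hA B hB hr) ⟨hS.commutative A hA, hS.commutative B hB⟩ hcard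
  have hperf : commutator G = ⊤ := Cfsg.Agent.Helper71.R3.perfect c hFP
  have hcent : ∀ N : Subgroup G, N.Normal → (∀ A ∈ S, ¬ A ≤ N) → N ≤ Subgroup.center G := by
    intro N hN hno
    have cN : NCtx S N := ⟨c, hN, hno⟩
    have hSM : ∀ A ∈ S, ∀ B ∈ S, IsRankOnePair A B → B ≤ N ⊔ A → ENat.card A ≤ 3 → False := by
      intro A hA B hB hr hBle hcard
      have hnd : ¬ IsDegenerateRootSet S := fun hd => absurd (h3 hd A hA) (not_lt.2 hcard)
      obtain ⟨C, hC, hcase⟩ := Cfsg.Agent.Helper29.R3.exists_commutatorCase c hnd A hA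
      have hcardall : ∀ E ∈ S, ENat.card E ≤ 3 := by
        intro E hE
        obtain ⟨g, rfl⟩ := hconj A hA E hE
        rw [card_conjBy]
        exact hcard
      exact Cfsg.Agent.Helper29.R3.sm_final hS hA hB hr hC hcase
        (fun E hE hEle hEA => Cfsg.Agent.Helper48.R3.sm_commute cN hcardall hA hB hr hBle hC hcase hE hEle hEA)
    have hIA := inf_central cN hFP hSM
    have hCS := Cfsg.Agent.Helper29.R3.centralizing_subset cN hIA
    have hnorm : ∀ A ∈ S, ∀ n ∈ N, conjBy A n = A := by
      intro A hA n hn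
      by_contra hne'
      apply h2' A hA (conjBy A n) (hS.conj_mem A hA n) (Ne.symm hne')
      apply Set.Subset.antisymm (hCS A hA n hn)
      have := hCS (conjBy A n) (hS.conj_mem A hA n) n⁻¹ (N.inv_mem hn)
      rwa [conjBy_inv_conjBy] at this
    exact Cfsg.Agent.Helper29.R3.le_center cN hIA hnorm
  have hQ : Cfsg.IsQuasisimple G := quasisimple c hne hperf hcent
  refine ⟨?_, ?_, fun _ => hperf, fun _ => hperf⟩
  · intro A hA
    rw [hperf]
    exact ⟨top_sup_eq _, by rw [inf_top_eq]; exact hS.ne_bot A hA⟩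
  · have e : G ≃* ↥(commutator G) :=
      (Subgroup.topEquiv (G := G)).symm.trans (MulEquiv.subgroupCongr hperf.symm)
    exact r2_isQuasisimple_of_equiv e hQ

end Cfsg.Agent.S5033
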