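import Cfsg.Statements.S5049
import Cfsg.Agent.Lib.Helper83.PCore

set_option autoImplicit false
open Cfsg

namespace Cfsg.Agent.S5049

open Cfsg.Agent.Helper83

variable {G : Type*} [Group G] {D : Set G}

theorem inv_of_mem (hD : IsRootInvolutionSet D) {d : G} (hd : d ∈ D) : d⁻¹ = d := by
  have h2 : d ^ 2 = 1 := by rw [← hD.orderOf_eq d hd]; exact pow_orderOf_eq_one d
  rw [inv_eq_iff_mul_eq_one, ← sq]; exact h2

theorem mul_self_of_mem (hD : IsRootInvolutionSet D) {d : G} (hd : d ∈ D) : d * d = 1 := by
  have h2 : d ^ 2 = 1 := by rw [← hD.orderOf_eq d hd]; exact pow_orderOf_eq_one d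
  rw [← sq]; exact h2

/-- two odd transpositions whose product squared is a 2-element commute -/
theorem commute_of_sq_two_power (hD : IsOddTranspositionSet D) {e f : G} (he : e ∈ D) (hf : f ∈ D)
    (h2 : ∃ k : ℕ, orderOf ((e * f) ^ 2) = 2 ^ k) : e * f = f * e := by
  rcases hD.1.pair e he f hf with h | h | h
  · exact h
  · obtain ⟨k, hk⟩ := h2
    have hcop : (orderOf (e * f)).Coprime 2 := Nat.Coprime.symm (Nat.coprime_two_left.2 h)
    rw [hcop.orderOf_pow] at hk
    have hk0 : k = 0 := by
      by_contra hk0
      have : Even (orderOf (e * f)) := by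
        rw [hk]; exact (Nat.even_pow' hk0).2 even_two
      exact (Nat.not_even_iff_odd.2 h) this
    rw [hk0, pow_zero, orderOf_eq_one_iff] at hk
    have h3 : f * e = e⁻¹ * (e * f) * e := by group
    rw [h3, hk]; group
  · exact absurd h.1 (hD.2 e he f hf)

theorem commute_conj [Finite G] (hD : IsOddTranspositionSet D) {e a : G} (he : e ∈ D) (ha : a ∈ D)
    (hea : e * a = a * e) {q : G} (hq : q ∈ Cfsg.pCore 2 G) :
    e * (q⁻¹ * a * q) = (q⁻¹ * a * q) * e := by
  have hQn : (Cfsg.pCore 2 G).Normal := pCore_normal83 2
  have ha' : q⁻¹ * a * q ∈ D := by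
    have := hD.1.conj_mem a ha q⁻¹
    rwa [inv_inv] at this
  apply commute_of_sq_two_power hD he ha'
  apply exists_orderOf_eq_two_pow_of_mem_pCore
  rw [← QuotientGroup.eq_one_iff]
  have hq1 : ((q : G) : G ⧸ Cfsg.pCore 2 G) = 1 := (QuotientGroup.eq_one_iff q).2 hq
  have h1 : (((e * (q⁻¹ * a * q)) ^ 2 : G) : G ⧸ Cfsg.pCore 2 G) = (((e * a) ^ 2 : G) : G ⧸ Cfsg.pCore 2 G) := by
    simp only [QuotientGroup.mk_pow, QuotientGroup.mk_mul, QuotientGroup.mk_inv, hq1, inv_one,
      one_mul, mul_one]
  rw [h1]
  have : (e * a) ^ 2 = 1 := by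
    rw [sq, mul_assoc, ← mul_assoc a e a, ← hea, mul_assoc e a a, mul_self_of_mem hD.1 ha, mul_one,
      mul_self_of_mem hD.1 he]
  rw [this]; rfl

theorem key_algebra {G : Type*} [Group G] {a a' b b' : G} (haa : a * a = 1) (ha'a' : a' * a' = 1)
    (hbb : b * b = 1) (hprod : a' * b' = a * b) (hca : a * a' = a' * a) (hcb : b * b' = b' * b) :
    (a' * a) * (a' * a) = 1 ∧ (a' * a) * a = a' ∧ a * (a' * a) = a' ∧ (a' * a) * b = b' ∧
      b * (a' * a) = b' := by
  have hb' : b' = a' * a * b := by
    calc b' = a' * a' * b' := by rw [ha'a', one_mul]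
      _ = a' * (a' * b') := by rw [mul_assoc]
      _ = a' * (a * b) := by rw [hprod]
      _ = a' * a * b := by rw [mul_assoc]
  have hx : b' * b = a' * a := by
    rw [hb', mul_assoc, hbb, mul_one]
  refine ⟨?_, ?_, ?_, ?_, ?_⟩
  · calc a' * a * (a' * a) = a' * (a * a') * a := by simp only [mul_assoc]
      _ = a' * (a' * a) * a := by rw [hca]
      _ = (a' * a') * (a * a) := by simp only [mul_assoc]
      _ = 1 := by rw [ha'a', haa, one_mul]
  · rw [mul_assoc, haa, mul_one]
  · rw [← mul_assoc, hca, mul_assoc, haa, mul_one]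
  · rw [← hx, mul_assoc, hbb, mul_one]
  · rw [← hx, ← mul_assoc, hcb, mul_assoc, hbb, mul_one]

/-- Let G be a finite group generated by a set D of odd transpositions (root involutions with no product of order 4), Q = O₂(G), and for a ∈ D let Q_a be the commutator subgroup of Q with a. Then every member of D commuting with a centralizes Q_a; and for b ∈ D with ab of odd order greater than 1, the centralizer of ab in Q is the intersection of the centralizers of a and b in Q. -/
theorem result {G : Type*} [Group G] [Finite G] {D : Set G} (hD : Cfsg.IsOddTranspositionSet D) {a : G} (ha : a ∈ D) :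
    (∀ e ∈ Cfsg.commutingMembers D a, ∀ q ∈ ⁅Cfsg.pCore 2 G, Subgroup.zpowers a⁆, e * q = q * e) ∧
    (∀ b ∈ Cfsg.oddPartners D a,
      Cfsg.pCore 2 G ⊓ Subgroup.centralizer {a * b} = Cfsg.pCore 2 G ⊓ Subgroup.centralizer {a} ⊓ Subgroup.centralizer {b}) := by
  have hQn : (Cfsg.pCore 2 G).Normal := pCore_normal83 2
  constructor
  · rintro e ⟨he, hea⟩ y hy
    have hle : ⁅Cfsg.pCore 2 G, Subgroup.zpowers a⁆ ≤ Subgroup.centralizer {e} := by
      rw [Subgroup.commutator_le]
      rintro q hq z ⟨n, rfl⟩
      rw [Subgroup.mem_centralizer_iff]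
      intro h hh
      rw [Set.mem_singleton_iff] at hh; subst hh
      have h1 : Commute h a := hea
      have h2 : Commute h (q * a * q⁻¹) := by
        have := commute_conj hD he ha hea (Subgroup.inv_mem _ hq)
        rwa [inv_inv] at this
      have h3 : Commute h (q * a ^ n * q⁻¹) := by
        have : q * a ^ n * q⁻¹ = (q * a * q⁻¹) ^ n := (conj_zpow).symm
        rw [this]; exact h2.zpow_right n
      have h4 : Commute h ((a ^ n)⁻¹) := (h1.zpow_right n).inv_right
      rw [commutatorElement_def]
      exact (h3.mul_right h4).eq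
    have := hle hy
    rw [Subgroup.mem_centralizer_iff] at this
    exact this e rfl
  · rintro b ⟨hb, hba, hodd⟩
    apply le_antisymm
    · rintro q ⟨hq, hqc⟩
      have hq : q ∈ Cfsg.pCore 2 G := hq
      have hqc : q ∈ Subgroup.centralizer {a * b} := hqc
      rw [Subgroup.mem_centralizer_iff] at hqc
      have hqab : a * b * q = q * (a * b) := hqc _ rfl
      -- conjugates
      obtain ⟨a', ha'def⟩ : ∃ a', a' = q⁻¹ * a * q := ⟨_, rfl⟩
      obtain ⟨b', hb'def⟩ : ∃ b', b' = q⁻¹ * b * q := ⟨_, rfl⟩
      have ha' : a' ∈ D := by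
        have := hD.1.conj_mem a ha q⁻¹
        rwa [inv_inv, ← ha'def] at this
      have hb' : b' ∈ D := by
        have := hD.1.conj_mem b hb q⁻¹
        rwa [inv_inv, ← hb'def] at this
      have hca : a * a' = a' * a := by
        rw [ha'def]; exact commute_conj hD ha ha rfl hq
      have hcb : b * b' = b' * b := by
        rw [hb'def]; exact commute_conj hD hb hb rfl hq
      have hprod : a' * b' = a * b := by
        have : a' * b' = q⁻¹ * (a * b * q) := by rw [ha'def, hb'def]; group
        rw [this, hqab]; group
      have haa := mul_self_of_mem hD.1 ha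
      have hbb := mul_self_of_mem hD.1 hb
      have ha'a' := mul_self_of_mem hD.1 ha'
      obtain ⟨hxx, hxa, hax, hxb, hbx⟩ := key_algebra haa ha'a' hbb hprod hca hcb
      have hxab : Commute (a' * a) (a * b) := by
        show (a' * a) * (a * b) = a * b * (a' * a)
        calc a' * a * (a * b) = a' * a * a * b := by rw [mul_assoc (a' * a)]
          _ = a' * b := by rw [hxa]
          _ = a * (a' * a) * b := by rw [hax]
          _ = a * (a' * a * b) := by rw [mul_assoc a]
          _ = a * b' := by rw [hxb]
          _ = a * (b * (a' * a)) := by rw [hbx]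
          _ = a * b * (a' * a) := by rw [mul_assoc a b]
      have hx1 : a' * a = 1 := by
        by_contra hx1
        have hox : orderOf (a' * a) = 2 := orderOf_eq_prime (by rw [sq]; exact hxx) hx1
        have hcop : (orderOf (a' * a)).Coprime (orderOf (a * b)) := by
          rw [hox]; exact Nat.coprime_two_left.2 hodd
        have hord : orderOf ((a' * a) * (a * b)) = 2 * orderOf (a * b) := by
          rw [hxab.orderOf_mul_eq_mul_orderOf_of_coprime hcop, hox]
        have hprod2 : a' * b = (a' * a) * (a * b) := by
          rw [← mul_assoc, hxa]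
        rcases hD.1.pair _ ha' b hb with h | h | h
        · have hsq : (a' * b) ^ 2 = 1 := by
            calc (a' * b) ^ 2 = a' * (b * a') * b := by rw [sq]; simp only [mul_assoc]
              _ = a' * (a' * b) * b := by rw [h]
              _ = (a' * a') * (b * b) := by simp only [mul_assoc]
              _ = 1 := by rw [ha'a', hbb, one_mul]
          have hdvd := orderOf_dvd_of_pow_eq_one hsq
          rw [hprod2, hord] at hdvd
          have hpos : 0 < orderOf (a * b) := Nat.pos_of_ne_zero (fun h0 => by
            rw [h0] at hodd; exact absurd hodd (by decide))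
          have hle := Nat.le_of_dvd (by norm_num) hdvd
          have h1 : orderOf (a * b) = 1 := by omega
          rw [orderOf_eq_one_iff] at h1
          apply hba
          have : b = a⁻¹ := (eq_inv_of_mul_eq_one_right h1)
          rw [this, inv_of_mem hD.1 ha]
        · rw [hprod2, hord] at h
          exact (Nat.not_odd_iff_even.2 (even_two_mul _)) h
        · exact hD.2 _ ha' b hb h.1
      have hqa : a * q = q * a := by
        have h1 : a' = a := by
          have := eq_inv_of_mul_eq_one_left hx1
          rw [inv_of_mem hD.1 ha] at this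
          exact this
        have h2 : q * a' = q * a := by rw [h1]
        rw [← h2, ha'def]; group
      refine ⟨⟨hq, ?_⟩, ?_⟩
      · show q ∈ Subgroup.centralizer {a}
        rw [Subgroup.mem_centralizer_iff]
        intro h hh
        rw [Set.mem_singleton_iff] at hh; subst hh
        exact hqa
      · show q ∈ Subgroup.centralizer {b}
        rw [Subgroup.mem_centralizer_iff]
        intro h hh
        rw [Set.mem_singleton_iff] at hh; subst hh
        have : a * (h * q) = a * (q * h) := by
          rw [← mul_assoc, hqab, ← mul_assoc, ← hqa, mul_assoc]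
        exact mul_left_cancel this
    · rintro q ⟨⟨hq, hqa⟩, hqb⟩
      refine ⟨hq, ?_⟩
      have hqa : q ∈ Subgroup.centralizer {a} := hqa
      have hqb : q ∈ Subgroup.centralizer {b} := hqb
      show q ∈ Subgroup.centralizer {a * b}
      rw [Subgroup.mem_centralizer_iff] at hqa hqb ⊢
      intro h hh
      rw [Set.mem_singleton_iff] at hh; subst hh
      rw [mul_assoc, hqb b rfl, ← mul_assoc, hqa a rfl, mul_assoc]

end Cfsg.Agent.S5049
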