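import Cfsg.Statements.S5059
import Cfsg.Agent.Lib.Helper83.Quadratic

set_option autoImplicit false
universe u
open Cfsg

namespace Cfsg.Agent.S5059

open Cfsg.Agent.Helper83

variable {k : Type*} [Field k] {M : Type*} [AddCommGroup M] [Module k M]
  {G : Subgroup (LinearMap.GeneralLinearGroup k M)} {σ τ : LinearMap.GeneralLinearGroup k M}

theorem quad_sq (h : τ ∈ quadraticElements G) : nilPart τ * nilPart τ = 0 := h.2.1.1
theorem quad_ne (h : τ ∈ quadraticElements G) : nilPart τ ≠ 0 := h.2.1.2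
theorem quad_scalar (h : τ ∈ quadraticElements G) (c : k) (ρ : LinearMap.GeneralLinearGroup k M)
    (hρ : (ρ : M →ₗ[k] M) = 1 + c • nilPart τ) : ρ ∈ G := h.2.2 ⟨c, hρ⟩

theorem range_le_ker_of_sq {N : M →ₗ[k] M} (h : N * N = 0) : LinearMap.range N ≤ LinearMap.ker N := by
  rintro _ ⟨m, rfl⟩
  rw [LinearMap.mem_ker]
  have := LinearMap.congr_fun h m
  simpa using this

theorem commutatorRank_eq (τ : LinearMap.GeneralLinearGroup k M) :
    commutatorRank τ = Module.finrank k (LinearMap.range (nilPart τ)) := rfl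

theorem mem_class_iff : τ ∈ sameActionClass G σ ↔
    (τ ∈ quadraticElements G ∧ ∀ τ' ∈ quadraticElements G, commutatorRank τ ≤ commutatorRank τ') ∧
    LinearMap.ker (nilPart τ) = LinearMap.ker (nilPart σ) ∧
    LinearMap.range (nilPart τ) = LinearMap.range (nilPart σ) := Iff.rfl

theorem class_mul [FiniteDimensional k M] (hσ : σ ∈ minimalQuadraticElements G)
    {τ₁ τ₂ : LinearMap.GeneralLinearGroup k M} (h₁ : τ₁ ∈ sameActionClass G σ)
    (h₂ : τ₂ ∈ sameActionClass G σ) : τ₁ * τ₂ ∈ sameActionClass G σ ∨ τ₁ * τ₂ = 1 := by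
  rw [mem_class_iff] at h₁ h₂
  obtain ⟨⟨hq₁, hmin₁⟩, hk₁, hr₁⟩ := h₁
  obtain ⟨⟨hq₂, hmin₂⟩, hk₂, hr₂⟩ := h₂
  have hRK : LinearMap.range (nilPart σ) ≤ LinearMap.ker (nilPart σ) := range_le_ker_of_sq (quad_sq hσ.1)
  have h12 : nilPart τ₁ * nilPart τ₂ = 0 := nilPart_mul_eq_zero (by rw [hr₂, hk₁]; exact hRK)
  have h21 : nilPart τ₂ * nilPart τ₁ = 0 := nilPart_mul_eq_zero (by rw [hr₁, hk₂]; exact hRK)
  have h11 := quad_sq hq₁
  have h22 := quad_sq hq₂
  have hN3 : nilPart (τ₁ * τ₂) = nilPart τ₁ + nilPart τ₂ := nilPart_mul h12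
  by_cases h0 : nilPart τ₁ + nilPart τ₂ = 0
  · right
    exact eq_one_of_nilPart_eq_zero (hN3.trans h0)
  left
  have hsq : nilPart (τ₁ * τ₂) * nilPart (τ₁ * τ₂) = 0 := by
    rw [hN3, mul_add, add_mul, add_mul, h11, h12, h21, h22]; simp
  have hquad : τ₁ * τ₂ ∈ quadraticElements G := by
    refine ⟨G.mul_mem hq₁.1 hq₂.1, ⟨hsq, by rw [show (↑(τ₁ * τ₂) : M →ₗ[k] M) - 1 = nilPart (τ₁ * τ₂) from rfl, hN3]; exact h0⟩, ?_⟩
    rintro ρ ⟨c, hρ⟩
    have hs1 : (c • nilPart τ₁) * (c • nilPart τ₁) = 0 := by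
      rw [smul_mul_smul_comm, h11, smul_zero]
    have hs2 : (c • nilPart τ₂) * (c • nilPart τ₂) = 0 := by
      rw [smul_mul_smul_comm, h22, smul_zero]
    have hρ1 : unitOfSq hs1 ∈ G := quad_scalar hq₁ c _ (unitOfSq_coe hs1)
    have hρ2 : unitOfSq hs2 ∈ G := quad_scalar hq₂ c _ (unitOfSq_coe hs2)
    have : ρ = unitOfSq hs1 * unitOfSq hs2 := by
      apply Units.ext
      have e0 : ((unitOfSq hs1 * unitOfSq hs2 : LinearMap.GeneralLinearGroup k M) : M →ₗ[k] M) =
          (1 + c • nilPart τ₁) * (1 + c • nilPart τ₂) := rfl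
      rw [hρ, e0, show (↑(τ₁ * τ₂) : M →ₗ[k] M) - 1 = nilPart (τ₁ * τ₂) from rfl, hN3]
      have e : ∀ P Q : M →ₗ[k] M, (1 + P) * (1 + Q) = 1 + P + Q + P * Q := by
        intro P Q; noncomm_ring
      rw [e, smul_mul_smul_comm, h12, smul_zero, add_zero, smul_add, add_assoc]
    rw [this]
    exact G.mul_mem hρ1 hρ2
  have hrange_le : LinearMap.range (nilPart (τ₁ * τ₂)) ≤ LinearMap.range (nilPart σ) := by
    rintro _ ⟨m, rfl⟩
    rw [hN3, LinearMap.add_apply]
    apply Submodule.add_mem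
    · rw [← hr₁]; exact LinearMap.mem_range_self _ m
    · rw [← hr₂]; exact LinearMap.mem_range_self _ m
  have hrank_le : commutatorRank (τ₁ * τ₂) ≤ commutatorRank σ := Submodule.finrank_mono hrange_le
  have hrank_ge : commutatorRank σ ≤ commutatorRank (τ₁ * τ₂) := hσ.2 _ hquad
  have hrange : LinearMap.range (nilPart (τ₁ * τ₂)) = LinearMap.range (nilPart σ) :=
    Submodule.eq_of_le_of_finrank_le hrange_le hrank_ge
  have hker_le : LinearMap.ker (nilPart σ) ≤ LinearMap.ker (nilPart (τ₁ * τ₂)) := by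
    intro m hm
    rw [LinearMap.mem_ker, hN3, LinearMap.add_apply]
    have e1 : nilPart τ₁ m = 0 := by rw [← LinearMap.mem_ker, hk₁]; exact hm
    have e2 : nilPart τ₂ m = 0 := by rw [← LinearMap.mem_ker, hk₂]; exact hm
    rw [e1, e2, add_zero]
  have hker : LinearMap.ker (nilPart (τ₁ * τ₂)) = LinearMap.ker (nilPart σ) := by
    symm
    apply Submodule.eq_of_le_of_finrank_eq hker_le
    have e1 := LinearMap.finrank_range_add_finrank_ker (nilPart σ)
    have e2 := LinearMap.finrank_range_add_finrank_ker (nilPart (τ₁ * τ₂))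
    rw [hrange] at e2
    omega
  rw [mem_class_iff]
  refine ⟨⟨hquad, ?_⟩, hker, hrange⟩
  intro τ' hτ'
  exact hrank_le.trans (hσ.2 τ' hτ')

theorem class_inv (h : τ ∈ sameActionClass G σ) : τ⁻¹ ∈ sameActionClass G σ := by
  rw [mem_class_iff] at h ⊢
  obtain ⟨⟨hq, hmin⟩, hk, hr⟩ := h
  have hsq := quad_sq hq
  have hN : nilPart τ⁻¹ = - nilPart τ := nilPart_inv hsq
  have hrk : commutatorRank τ⁻¹ = commutatorRank τ := by
    rw [commutatorRank_eq, commutatorRank_eq, hN, LinearMap.range_neg]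
  refine ⟨⟨⟨G.inv_mem hq.1, ⟨?_, ?_⟩, ?_⟩, ?_⟩, ?_, ?_⟩
  · show nilPart τ⁻¹ * nilPart τ⁻¹ = 0
    rw [hN, neg_mul_neg, hsq]
  · show nilPart τ⁻¹ ≠ 0
    rw [hN, neg_ne_zero]; exact quad_ne hq
  · rintro ρ ⟨c, hρ⟩
    apply quad_scalar hq (-c) ρ
    rw [hρ, show (↑τ⁻¹ : M →ₗ[k] M) - 1 = nilPart τ⁻¹ from rfl, hN, smul_neg, neg_smul]
  · intro τ' hτ'
    rw [hrk]; exact hmin τ' hτ'
  · rw [hN, LinearMap.ker_neg, hk]
  · rw [hN, LinearMap.range_neg, hr]

/-- the subgroup with carrier `sameActionClass ∪ {1}` -/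
def classSubgroup [FiniteDimensional k M] (hσ : σ ∈ minimalQuadraticElements G) :
    Subgroup (LinearMap.GeneralLinearGroup k M) where
  carrier := sameActionClass G σ ∪ {1}
  one_mem' := Or.inr rfl
  mul_mem' := by
    rintro a b (ha | ha) (hb | hb)
    · rcases class_mul hσ ha hb with h | h
      · exact Or.inl h
      · exact Or.inr h
    · rw [Set.mem_singleton_iff] at hb; rw [hb, mul_one]; exact Or.inl ha
    · rw [Set.mem_singleton_iff] at ha; rw [ha, one_mul]; exact Or.inl hb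
    · rw [Set.mem_singleton_iff] at ha hb; rw [ha, hb, mul_one]; exact Or.inr rfl
  inv_mem' := by
    rintro a (ha | ha)
    · exact Or.inl (class_inv ha)
    · rw [Set.mem_singleton_iff] at ha; rw [ha, inv_one]; exact Or.inr rfl

theorem closure_eq [FiniteDimensional k M] (hσ : σ ∈ minimalQuadraticElements G) :
    sameActionSubgroup G σ = classSubgroup hσ := by
  apply le_antisymm
  · rw [sameActionSubgroup, Subgroup.closure_le]
    intro x hx
    exact Or.inl hx
  · rintro x (hx | hx)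
    · exact Subgroup.subset_closure hx
    · rw [Set.mem_singleton_iff] at hx; rw [hx]; exact Subgroup.one_mem _

theorem class_comm (hσ : σ ∈ minimalQuadraticElements G)
    {τ₁ τ₂ : LinearMap.GeneralLinearGroup k M} (h₁ : τ₁ ∈ sameActionClass G σ)
    (h₂ : τ₂ ∈ sameActionClass G σ) : τ₁ * τ₂ = τ₂ * τ₁ := by
  rw [mem_class_iff] at h₁ h₂
  obtain ⟨⟨hq₁, hmin₁⟩, hk₁, hr₁⟩ := h₁
  obtain ⟨⟨hq₂, hmin₂⟩, hk₂, hr₂⟩ := h₂
  have hRK : LinearMap.range (nilPart σ) ≤ LinearMap.ker (nilPart σ) := range_le_ker_of_sq (quad_sq hσ.1)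
  have h12 : nilPart τ₁ * nilPart τ₂ = 0 := nilPart_mul_eq_zero (by rw [hr₂, hk₁]; exact hRK)
  have h21 : nilPart τ₂ * nilPart τ₁ = 0 := nilPart_mul_eq_zero (by rw [hr₁, hk₂]; exact hRK)
  apply Units.ext
  rw [coe_eq_one_add_nilPart, coe_eq_one_add_nilPart (τ₂ * τ₁), nilPart_mul h12, nilPart_mul h21, add_comm (nilPart τ₁)]

theorem nilPart_pow (hsq : nilPart τ * nilPart τ = 0) (n : ℕ) : nilPart (τ ^ n) = n • nilPart τ := by
  induction n with
  | zero => simp [nilPart_one]
  | succ n ih =>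
    rw [pow_succ, nilPart_mul (by rw [ih, smul_mul_assoc, hsq, smul_zero]), ih, succ_nsmul]

/-- Let k be a field of characteristic not 2 with k not of order 3, M a finite-dimensional k-vector space and G ≤ GL(M) such that (G, M) is a quadratic pair (M irreducible for G, and G generated by its quadratically acting elements σ whose scalar family 1 + c(σ − 1), c ∈ k, lies in G). Write 𝒬_d for the quadratic elements of G of minimal commutator rank, E(σ) for the subgroup generated by the members of 𝒬_d with the same fixed space and commutator space as σ, and Σ for the set of these subgroups. Then for σ ∈ 𝒬_d the subgroup E(σ) consists exactly of those members together with the identity, it is abelian, and if k has prime characteristic p every element of E(σ) has order dividing p. -/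
theorem result {k : Type u} [Field k] (hk2 : ringChar k ≠ 2) (hk3 : Nat.card k ≠ 3)
    {M : Type u} [AddCommGroup M] [Module k M] [FiniteDimensional k M]
    {G : Subgroup (LinearMap.GeneralLinearGroup k M)} (hG : Cfsg.IsQuadraticPair G)
    {σ : LinearMap.GeneralLinearGroup k M} (hσ : σ ∈ Cfsg.minimalQuadraticElements G) :
    (Cfsg.sameActionSubgroup G σ : Set (LinearMap.GeneralLinearGroup k M)) = Cfsg.sameActionClass G σ ∪ {1} ∧
    IsMulCommutative ↥(Cfsg.sameActionSubgroup G σ) ∧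
    (∀ p : ℕ, p.Prime → ringChar k = p → ∀ x ∈ Cfsg.sameActionSubgroup G σ, x ^ p = 1) := by
  have hcl := closure_eq hσ
  refine ⟨by rw [hcl]; rfl, ?_, ?_⟩
  · refine ⟨⟨?_⟩⟩
    rintro ⟨x, hx⟩ ⟨y, hy⟩
    apply Subtype.ext
    simp only [Subgroup.coe_mul]
    rw [hcl] at hx hy
    rcases hx with hx | hx
    · rcases hy with hy | hy
      · exact class_comm hσ hx hy
      · rw [Set.mem_singleton_iff] at hy; rw [hy, mul_one, one_mul]
    · rw [Set.mem_singleton_iff] at hx; rw [hx, mul_one, one_mul]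
  · intro p _ hchar x hx
    rw [hcl] at hx
    rcases hx with hx | hx
    · apply eq_one_of_nilPart_eq_zero
      rw [nilPart_pow (quad_sq hx.1.1), ← Nat.cast_smul_eq_nsmul k]
      have : (p : k) = 0 := by rw [← hchar]; exact ringChar.Nat.cast_ringChar
      rw [this, zero_smul]
    · rw [Set.mem_singleton_iff] at hx; rw [hx, one_pow]

end Cfsg.Agent.S5059
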