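import Cfsg.Statements.S5060
import Cfsg.Agent.Lib.Helper38.SL2AlgInf
import Cfsg.Agent.Lib.Helper38.SL2AlgFin

set_option autoImplicit false
open Cfsg

namespace Cfsg.Agent.S5060

open Matrix IntermediateField Cfsg.Agent.Helper38.SL2Pres Cfsg.Agent.Helper38.SL2Alg

/-- the core statement, over a field with a power basis -/
theorem core {k L : Type*} [Field k] [Field L] [Algebra k L] (pb : PowerBasis k L)
    (hk2 : ringChar k ≠ 2) (hk3 : Nat.card k ≠ 3) (hα0 : pb.gen ≠ 0) : G k pb.gen = ⊤ := by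
  have h2 : (2 : k) ≠ 0 := Ring.two_ne_zero hk2
  rcases finite_or_infinite k with hf | hi
  · exact Fnt.G_eq_top pb h2 hk3 hα0
  · exact Inf.G_eq_top pb h2 hα0

/-- Let k ⊆ K be fields with the characteristic of k not 2 and k not of order 3, and let α ∈ K be a non-zero element algebraic over k. Then the subgroup of SL₂(K) generated by the upper unitriangular matrices with entry c and the lower unitriangular matrices with entry cα, c ranging over k, is exactly the group of matrices of SL₂(K) with all entries in k(α). -/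
theorem result {k K : Type*} [Field k] [Field K] [Algebra k K] (hk2 : ringChar k ≠ 2) (hk3 : Nat.card k ≠ 3)
    (α : K) (hα : IsAlgebraic k α) (hα0 : α ≠ 0) :
    (Subgroup.closure ({g : Matrix.SpecialLinearGroup (Fin 2) K | ∃ c : k, (g : Matrix (Fin 2) (Fin 2) K) = !![1, algebraMap k K c; 0, 1]} ∪
        {g : Matrix.SpecialLinearGroup (Fin 2) K | ∃ c : k, (g : Matrix (Fin 2) (Fin 2) K) = !![1, 0; algebraMap k K c * α, 1]}) :
      Set (Matrix.SpecialLinearGroup (Fin 2) K)) =
    {g : Matrix.SpecialLinearGroup (Fin 2) K | ∀ i j : Fin 2, (g : Matrix (Fin 2) (Fin 2) K) i j ∈ IntermediateField.adjoin k ({α} : Set K)} := by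
  classical
  set pb := IntermediateField.adjoin.powerBasis hα.isIntegral with hpb
  have hgen : ((pb.gen : k⟮α⟯) : K) = α := by
    rw [hpb, IntermediateField.adjoin.powerBasis_gen, IntermediateField.AdjoinSimple.coe_gen]
  have hgen0 : pb.gen ≠ 0 := by
    intro h
    apply hα0
    rw [← hgen, h]
    rfl
  have htop := core pb hk2 hk3 hgen0
  -- the map to `SL₂(K)`
  set φ := Matrix.SpecialLinearGroup.map (n := Fin 2) (algebraMap k⟮α⟯ K) with hφ
  have hφx : ∀ t : k⟮α⟯, ((φ (xmat t) : Matrix.SpecialLinearGroup (Fin 2) K) :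
      Matrix (Fin 2) (Fin 2) K) = !![1, (t : K); 0, 1] := by
    intro t
    rw [hφ, Matrix.SpecialLinearGroup.map_apply_coe, xmat_coe, RingHom.mapMatrix_apply]
    rw [← Matrix.ext_iff]
    intro i j
    fin_cases i <;> fin_cases j <;> simp
  have hφy : ∀ t : k⟮α⟯, ((φ (ymat t) : Matrix.SpecialLinearGroup (Fin 2) K) :
      Matrix (Fin 2) (Fin 2) K) = !![1, 0; (t : K), 1] := by
    intro t
    rw [hφ, Matrix.SpecialLinearGroup.map_apply_coe, ymat_coe, RingHom.mapMatrix_apply]
    rw [← Matrix.ext_iff]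
    intro i j
    fin_cases i <;> fin_cases j <;> simp
  set S : Set (Matrix.SpecialLinearGroup (Fin 2) K) :=
    {g : Matrix.SpecialLinearGroup (Fin 2) K | ∃ c : k, (g : Matrix (Fin 2) (Fin 2) K) = !![1, algebraMap k K c; 0, 1]} ∪
        {g : Matrix.SpecialLinearGroup (Fin 2) K | ∃ c : k, (g : Matrix (Fin 2) (Fin 2) K) = !![1, 0; algebraMap k K c * α, 1]} with hS
  -- the closure is the image of `SL₂(k(α))`
  have hcl : Subgroup.closure S = (⊤ : Subgroup (Matrix.SpecialLinearGroup (Fin 2) k⟮α⟯)).map φ := by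
    rw [← htop]
    unfold G
    rw [MonoidHom.map_closure]
    apply le_antisymm
    · rw [Subgroup.closure_le]
      rintro g (⟨c, hc⟩ | ⟨c, hc⟩)
      · apply Subgroup.subset_closure
        refine ⟨xmat (algebraMap k k⟮α⟯ c), Or.inl ⟨c, rfl⟩, ?_⟩
        apply Subtype.ext
        rw [hφx, hc]
        rfl
      · apply Subgroup.subset_closure
        refine ⟨ymat (algebraMap k k⟮α⟯ c * pb.gen), Or.inr ⟨c, rfl⟩, ?_⟩
        apply Subtype.ext
        rw [hφy, hc, MulMemClass.coe_mul, hgen]
        rfl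
    · rw [Subgroup.closure_le]
      rintro g ⟨g', (⟨c, rfl⟩ | ⟨c, rfl⟩), rfl⟩
      · apply Subgroup.subset_closure
        left
        refine ⟨c, ?_⟩
        rw [hφx]
        rfl
      · apply Subgroup.subset_closure
        right
        refine ⟨c, ?_⟩
        rw [hφy, MulMemClass.coe_mul, hgen]
        rfl
  rw [hcl]
  ext g
  constructor
  · rintro ⟨g', -, rfl⟩
    intro i j
    rw [hφ, Matrix.SpecialLinearGroup.map_apply_coe, RingHom.mapMatrix_apply, Matrix.map_apply]
    exact (g'.1 i j).2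
  · intro hg
    have hdet : (Matrix.of fun i j => (⟨(g : Matrix (Fin 2) (Fin 2) K) i j, hg i j⟩ : k⟮α⟯)).det = 1 := by
      apply (algebraMap k⟮α⟯ K).injective
      rw [RingHom.map_det, map_one]
      have : (algebraMap k⟮α⟯ K).mapMatrix
          (Matrix.of fun i j => (⟨(g : Matrix (Fin 2) (Fin 2) K) i j, hg i j⟩ : k⟮α⟯)) =
          (g : Matrix (Fin 2) (Fin 2) K) := by
        rw [← Matrix.ext_iff]
        intro i j
        rfl
      rw [this]
      exact g.2
    refine ⟨⟨Matrix.of fun i j => (⟨(g : Matrix (Fin 2) (Fin 2) K) i j, hg i j⟩ : k⟮α⟯), hdet⟩,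
      Subgroup.mem_top _, ?_⟩
    apply sl_ext
    rw [← Matrix.ext_iff]
    intro i j
    rfl

end Cfsg.Agent.S5060
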