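import Mathlib
import Cfsg.Statements.S5067

set_option autoImplicit false
open Cfsg

namespace Cfsg.Agent.S5067

open Subgroup in
/-- For an abelian subgroup `E` of a group `P`, the derived subgroup of `E ⊔ P'` lies in `γ₃(P)`. -/
theorem commutator_sup_le {P : Type*} [Group P] (E : Subgroup P) (hE : IsMulCommutative ↥E) :
    ⁅E ⊔ (⊤ : Subgroup P).lowerCentralSeries 1, E ⊔ (⊤ : Subgroup P).lowerCentralSeries 1⁆ ≤
      (⊤ : Subgroup P).lowerCentralSeries 2 := by
  set L1 := (⊤ : Subgroup P).lowerCentralSeries 1 with hL1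
  set L2 := (⊤ : Subgroup P).lowerCentralSeries 2 with hL2
  let π := QuotientGroup.mk' L2
  have hπ : Function.Surjective π := QuotientGroup.mk'_surjective L2
  have hker : π.ker = L2 := QuotientGroup.ker_mk' L2
  rw [← hker, ← Subgroup.map_eq_bot_iff, Subgroup.map_commutator, Subgroup.map_sup,
    Subgroup.commutator_eq_bot_iff_le_centralizer]
  have hcent : L1.map π ≤ Subgroup.center (P ⧸ L2) := by
    rw [← Subgroup.centralizer_univ, ← Subgroup.coe_top,
      ← Subgroup.commutator_eq_bot_iff_le_centralizer]
    have : (⊤ : Subgroup (P ⧸ L2)) = (⊤ : Subgroup P).map π := by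
      rw [← MonoidHom.range_eq_map, MonoidHom.range_eq_top.mpr hπ]
    rw [this, ← Subgroup.map_commutator, Subgroup.map_eq_bot_iff, hker]
    exact le_of_eq rfl
  have hEE : E.map π ≤ Subgroup.centralizer (E.map π : Set (P ⧸ L2)) := by
    rintro _ ⟨a, ha, rfl⟩
    rw [Subgroup.mem_centralizer_iff]
    rintro _ ⟨b, hb, rfl⟩
    have hab : a * b = b * a := by
      have := hE.is_comm.comm (⟨a, ha⟩ : E) ⟨b, hb⟩
      exact congrArg Subtype.val this
    rw [← map_mul, ← map_mul, hab]
  have h1 : E.map π ⊔ L1.map π ≤ Subgroup.centralizer (E.map π : Set (P ⧸ L2)) :=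
    sup_le hEE (hcent.trans (Subgroup.center_le_centralizer _))
  have h2 : E.map π ⊔ L1.map π ≤ Subgroup.centralizer (L1.map π : Set (P ⧸ L2)) := by
    rw [Subgroup.le_centralizer_iff]
    exact hcent.trans (Subgroup.center_le_centralizer _)
  intro x hx
  rw [Subgroup.mem_centralizer_iff]
  intro y hy
  have hy' : y ∈ Subgroup.centralizer ((E.map π ⊔ L1.map π : Subgroup (P ⧸ L2)) : Set (P ⧸ L2)) := by
    rw [Subgroup.le_centralizer_iff] at h1 h2
    exact (sup_le h1 h2) hy
  rw [Subgroup.mem_centralizer_iff] at hy'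
  exact (hy' x hx).symm

open scoped commutatorElement in
/-- The normal closure of an abelian subgroup of a non-abelian nilpotent group has smaller class. -/
theorem class_normalClosure_lt {P : Type*} [Group P] [Group.IsNilpotent P]
    (hna : ¬ IsMulCommutative P) (E : Subgroup P) (hE : IsMulCommutative ↥E) :
    Group.nilpotencyClass ↥(Subgroup.normalClosure (E : Set P)) < Group.nilpotencyClass P := by
  set N := Subgroup.normalClosure (E : Set P) with hN
  set M := E ⊔ (⊤ : Subgroup P).lowerCentralSeries 1 with hM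
  have hL1 : (⊤ : Subgroup P).lowerCentralSeries 1 = ⁅(⊤ : Subgroup P), ⊤⁆ := rfl
  have hMn : M.Normal := by
    constructor
    intro n hn g
    have h1 : g * n * g⁻¹ = ⁅g, n⁆ * n := by
      rw [commutatorElement_def]; group
    rw [h1]
    refine M.mul_mem (le_sup_right (a := E) ?_) hn
    rw [hL1]
    exact Subgroup.commutator_mem_commutator (Subgroup.mem_top g) (Subgroup.mem_top n)
  have hNM : N ≤ M := Subgroup.normalClosure_le_normal (le_sup_left (a := E))
  have h1 : N.lowerCentralSeries 1 ≤ (⊤ : Subgroup P).lowerCentralSeries 2 := by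
    have : N.lowerCentralSeries 1 = ⁅N, N⁆ := rfl
    rw [this]
    exact (Subgroup.commutator_mono hNM hNM).trans (commutator_sup_le E hE)
  have hk : ∀ k : ℕ, N.lowerCentralSeries (k + 1) ≤ (⊤ : Subgroup P).lowerCentralSeries (k + 2) := by
    intro k
    induction k with
    | zero => exact h1
    | succ k ih =>
      rw [Subgroup.lowerCentralSeries_succ, Subgroup.lowerCentralSeries_succ]
      exact Subgroup.commutator_mono ih le_top
  have hc : 2 ≤ Group.nilpotencyClass P := by
    by_contra hlt
    push Not at hlt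
    have hle : Group.nilpotencyClass P ≤ 1 := by omega
    rw [← Subgroup.lowerCentralSeries_eq_bot_iff_nilpotencyClass_le, hL1] at hle
    apply hna
    refine ⟨⟨fun a b => ?_⟩⟩
    have : ⁅a, b⁆ ∈ ⁅(⊤ : Subgroup P), ⊤⁆ :=
      Subgroup.commutator_mem_commutator (Subgroup.mem_top a) (Subgroup.mem_top b)
    rw [hle, Subgroup.mem_bot] at this
    exact commutatorElement_eq_one_iff_mul_comm.mp this
  obtain ⟨k, hk2⟩ : ∃ k, Group.nilpotencyClass P = k + 2 := ⟨Group.nilpotencyClass P - 2, by omega⟩
  have hbot : N.lowerCentralSeries (k + 1) = ⊥ := by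
    rw [eq_bot_iff]
    refine (hk k).trans ?_
    rw [← hk2, Subgroup.lowerCentralSeries_nilpotencyClass]
  have htop : (⊤ : Subgroup N).lowerCentralSeries (k + 1) = ⊥ := by
    rw [← Subgroup.top_subtype_lowerCentralSeries] at hbot
    exact (Subgroup.map_eq_bot_iff_of_injective _ N.subtype_injective).mp hbot
  have := Subgroup.lowerCentralSeries_eq_bot_iff_nilpotencyClass_le.mp htop
  omega

/-- Let P be a non-abelian nilpotent p-group (every element of p-power order; P possibly infinite) generated by two abelian subgroups E and F. Then the normal closure of E in P, and likewise that of F, has nilpotency class strictly smaller than that of P. -/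
theorem result {P : Type*} [Group P] {p : ℕ} [Fact p.Prime] (hP : IsPGroup p P) [Group.IsNilpotent P]
    (hna : ¬ IsMulCommutative P) {E F : Subgroup P} (hE : IsMulCommutative ↥E) (hF : IsMulCommutative ↥F) (hgen : E ⊔ F = ⊤) :
    Group.nilpotencyClass ↥(Subgroup.normalClosure (E : Set P)) < Group.nilpotencyClass P ∧
    Group.nilpotencyClass ↥(Subgroup.normalClosure (F : Set P)) < Group.nilpotencyClass P :=
  ⟨class_normalClosure_lt hna E hE, class_normalClosure_lt hna F hF⟩

end Cfsg.Agent.S5067
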