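import Cfsg.Statements.S5087
import Cfsg.Agent.Lib.Helper83.FusionSub
import Cfsg.Agent.Lib.Helper87.FusionNormalCrit
import Cfsg.Agent.S5080

set_option autoImplicit false
open Cfsg

namespace Cfsg.Agent.S5087

open Cfsg.FusionSystem Cfsg.Agent.Helper87 Cfsg.Agent.Helper83

variable {Ω : Type*} [Group Ω] {S : Subgroup Ω}

/-- the predicate "extends to `P ⊔ Q` preserving `Q`" is closed under inverses, conjugation etc. as soon as `S`
normalizes `Q` -/
theorem subClosed_extends_sup [Finite S] (F : FusionSystem S) (Q : Subgroup Ω) (hQS : Q ≤ S)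
    (hQn : ∀ s ∈ S, ∀ x ∈ Q, s * x * s⁻¹ ∈ Q) :
    SubClosed F (fun P f => ∃ g, Mor F (P ⊔ Q) g ∧ (∀ x ∈ P, g x = f x) ∧ ∀ x ∈ Q, g x ∈ Q) where
  congr := (alperinClosed_extends_sup F Q).congr
  conj := by
    intro P s hP hs
    exact ⟨fun x => s * x * s⁻¹, Mor.conj (sup_le hP hQS) hs, fun _ _ => rfl, hQn s hs⟩
  comp := (alperinClosed_extends_sup F Q).comp
  inv := by
    rintro P P' f g' hf hg' e1 e2 ⟨ft, hft, eft, hftQ⟩
    -- `ft` restricted to `Q` is an automorphism of `Q`
    have hQQ : Iso F Q Q ft := iso_of_card_le (hft.restrict le_sup_right) hQS hftQ le_rfl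
    have himg : hft.image = P' ⊔ Q := by
      apply le_antisymm
      · rintro _ ⟨x, hx, rfl⟩
        refine hft.map_sup_mem le_sup_left le_sup_right (fun a ha => ?_) (fun b hb => ?_) x hx
        · rw [eft a ha]
          exact (le_sup_left : P' ≤ P' ⊔ Q) (hf.map_mem ha)
        · exact (le_sup_right : Q ≤ P' ⊔ Q) (hftQ b hb)
      · apply sup_le
        · intro y hy
          obtain ⟨x, hx, rfl⟩ := hf.surj hy
          exact ⟨x, (le_sup_left : P ≤ P ⊔ Q) hx, eft x hx⟩
        · intro y hy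
          obtain ⟨x, hx, rfl⟩ := hQQ.surj hy
          exact ⟨x, (le_sup_right : Q ≤ P ⊔ Q) hx, rfl⟩
    obtain ⟨k, hk, k1, k2⟩ := (Iso.of_mor hft).symm
    rw [himg] at hk
    refine ⟨k, hk.1, fun y hy => ?_, fun q hq => ?_⟩
    · obtain ⟨x, hx, rfl⟩ := hf.surj hy
      rw [e1 x hx, ← eft x hx, k1 x ((le_sup_left : P ≤ P ⊔ Q) hx)]
    · obtain ⟨x, hx, rfl⟩ := hQQ.surj hq
      rw [k1 x ((le_sup_right : Q ≤ P ⊔ Q) hx)]
      exact hx

/-- In a saturated fusion system over a finite p-group S, a subgroup Q is normal in the system if and only if every subgroup P that equals S or is essential contains Q and every element of Aut_F(P) maps Q onto itself. -/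
theorem result {Ω : Type*} [Group Ω] {S : Subgroup Ω} [Finite S] (p : ℕ) [Fact p.Prime] (hS : IsPGroup p S) (F : Cfsg.FusionSystem S) (hF : F.IsSaturated p) (Q : Subgroup Ω) : F.IsNormal Q ↔ ∀ P : Subgroup Ω, (P = S ∨ F.IsEssential p P) → (Q ≤ P ∧ ∀ α ∈ F.autGroup P, (Q.subgroupOf P).map α.toMonoidHom = Q.subgroupOf P) := by
  constructor
  · intro hN P hP
    obtain ⟨hQS, hext⟩ := isNormal_iff.1 hN
    have hsc : F.StronglyClosed Q := stronglyClosed_of_isNormal hN
    have hfinQ : Finite Q := finite_of_le hQS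
    have hQP : Q ≤ P := by
      rcases hP with h | h
      · rw [h]; exact hQS
      · have hrad : F.IsRadical p P := Cfsg.Agent.S5080.result p hS F hF P h
        refine le_of_centric_radical hS hsc ?_ h.1 hrad
        intro P' f hP' hf
        obtain ⟨g, hg, e, hgQ⟩ := hext P' f hf
        have hsup : P' ⊔ Q = Q := sup_eq_right.2 hP'
        rw [hsup] at hg
        exact ⟨g, ⟨hg, hgQ⟩, e⟩
    have hPS : P ≤ S := by
      rcases hP with h | h
      · exact h.le
      · exact h.1.1
    refine ⟨hQP, fun α hα => ?_⟩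
    have hmor : Mor F P (extAut α) := (mem_autGroup_iff hPS).1 hα
    have hmapsQ : ∀ x ∈ Q, extAut α x ∈ Q :=
      (stronglyClosed_iff.1 hsc).2 Q _ le_rfl (hmor.restrict hQP)
    have hQQ : Iso F Q Q (extAut α) := iso_of_card_le (hmor.restrict hQP) hQS hmapsQ le_rfl
    ext y
    constructor
    · rintro ⟨x, hx, rfl⟩
      have hx' : (x : Ω) ∈ Q := Subgroup.mem_subgroupOf.1 hx
      apply Subgroup.mem_subgroupOf.2
      have := hmapsQ x hx'
      rwa [extAut_apply] at this
    · intro hy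
      rw [Subgroup.mem_subgroupOf] at hy
      obtain ⟨x, hx, hxy⟩ := hQQ.surj hy
      refine ⟨⟨x, hQP hx⟩, Subgroup.mem_subgroupOf.2 hx, Subtype.ext ?_⟩
      rw [← hxy, extAut_mem α (hQP hx)]
      rfl
  · intro h
    obtain ⟨hQS, hSaut⟩ := h S (Or.inl rfl)
    -- `S` normalizes `Q`
    have hQn : ∀ s ∈ S, ∀ x ∈ Q, s * x * s⁻¹ ∈ Q := by
      intro s hs x hx
      have hs' : s ∈ Subgroup.normalizer (S : Set Ω) := Subgroup.le_normalizer hs
      have hα : conjAut S s hs' ∈ F.autGroup S :=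
        autInducedBy_le_autGroup F le_rfl (conjAut_mem_autInducedBy hs hs')
      have h1 := hSaut _ hα
      have h2 : (conjAut S s hs') ⟨x, hQS hx⟩ ∈ Q.subgroupOf S := by
        rw [← h1]
        exact ⟨⟨x, hQS hx⟩, Subgroup.mem_subgroupOf.2 hx, rfl⟩
      rw [Subgroup.mem_subgroupOf, conjAut_apply] at h2
      exact h2
    have key := alperin_essential hS hF _ (subClosed_extends_sup F Q hQS hQn) (by
      intro P hP α hα
      obtain ⟨hQP, hPaut⟩ := h P hP
      have hPS : P ≤ S := by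
        rcases hP with h | h
        · exact h.le
        · exact h.1.1
      have hmor : Mor F P (extAut α) := (mem_autGroup_iff hPS).1 hα
      refine ⟨extAut α, by rw [sup_eq_left.2 hQP]; exact hmor, fun _ _ => rfl, fun x hx => ?_⟩
      have h1 := hPaut α hα
      have h2 : α ⟨x, hQP hx⟩ ∈ Q.subgroupOf P := by
        rw [← h1]
        exact ⟨⟨x, hQP hx⟩, Subgroup.mem_subgroupOf.2 hx, rfl⟩
      rw [extAut_mem α (hQP hx)]
      exact Subgroup.mem_subgroupOf.1 h2)
    rw [isNormal_iff]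
    refine ⟨hQS, fun P f hf => ?_⟩
    obtain ⟨g, hg, e, hgQ⟩ := key P f hf
    exact ⟨g, hg, e, (iso_of_card_le (hg.restrict le_sup_right) hQS hgQ le_rfl).2⟩

end Cfsg.Agent.S5087
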