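import Cfsg.Statements.S5088
import Cfsg.Agent.Lib.Helper87.FusionCore
import Cfsg.Agent.Lib.Helper87.FusionNormalCrit
import Cfsg.Agent.Lib.Helper86.FusionCentralSeries

set_option autoImplicit false
open Cfsg

namespace Cfsg.Agent.S5088

open Cfsg.FusionSystem Cfsg.Agent.Helper87
open scoped commutatorElement

variable {Ω : Type*} [Group Ω] {S : Subgroup Ω}

/-- a characteristic subgroup of a subgroup normal in the system is strongly closed -/
theorem char_stronglyClosed {F : FusionSystem S} {N : Subgroup Ω} (hN : F.IsNormal N)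
    (K : Subgroup N) [hK : K.Characteristic] : F.StronglyClosed (K.map N.subtype) := by
  rw [stronglyClosed_iff]
  obtain ⟨hNS, h⟩ := isNormal_iff.1 hN
  have hKN : K.map N.subtype ≤ N := by
    rintro _ ⟨k, -, rfl⟩
    exact k.2
  refine ⟨hKN.trans hNS, fun R f hR hf x hx => ?_⟩
  obtain ⟨g, hg, e, hgN⟩ := h R f hf
  have hiso : Iso F N N g := ⟨hg.restrict le_sup_right, hgN⟩
  obtain ⟨k, hk, rfl⟩ := hR hx
  rw [← e _ hx]
  have h1 : hiso.equiv k ∈ K := by
    have := (Subgroup.characteristic_iff_map_le.1 hK) hiso.equiv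
    exact this ⟨k, hk, rfl⟩
  exact ⟨hiso.equiv k, h1, rfl⟩

/-- In a saturated fusion system over a finite p-group, a subgroup Q is normal in the system if and only if there is a chain of subgroups 1 = Q₀ ≤ Q₁ ≤ ⋯ ≤ Qₙ = Q such that each Qᵢ with i ≥ 1 is strongly closed in the system and [Q, Qᵢ] ≤ Qᵢ₋₁. -/
theorem result {Ω : Type*} [Group Ω] {S : Subgroup Ω} [Finite S] (p : ℕ) [Fact p.Prime] (hS : IsPGroup p S) (F : Cfsg.FusionSystem S) (hF : F.IsSaturated p) (Q : Subgroup Ω) : F.IsNormal Q ↔ ∃ (n : ℕ) (Qs : Fin (n + 1) → Subgroup Ω), Qs 0 = ⊥ ∧ Qs (Fin.last n) = Q ∧ Monotone Qs ∧ ∀ i : Fin n, F.StronglyClosed (Qs i.succ) ∧ ⁅Q, Qs i.succ⁆ ≤ Qs (Fin.castSucc i) := by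
  constructor
  · intro hN
    have hQS : Q ≤ S := hN.1
    have hfin : Finite Q := finite_of_le hQS
    have hp : IsPGroup p Q := hS.to_le hQS
    have hnil : Group.IsNilpotent Q := hp.isNilpotent
    obtain ⟨n, hn⟩ := hnil.nilpotent
    refine ⟨n, fun i => (Subgroup.upperCentralSeries Q i).map Q.subtype, ?_, ?_, ?_, ?_⟩
    · simp
    · simp only [Fin.val_last]
      rw [hn, ← MonoidHom.range_eq_map, Subgroup.range_subtype]
    · intro i j hij
      exact Subgroup.map_mono (Subgroup.upperCentralSeries_mono Q hij)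
    · intro i
      refine ⟨char_stronglyClosed hN _, ?_⟩
      rw [Subgroup.commutator_le]
      rintro a ha _ ⟨b, hb, rfl⟩
      simp only [Fin.val_succ] at hb
      simp only [Fin.val_castSucc]
      have h1 := Subgroup.mem_upperCentralSeries_succ_iff.1 hb ⟨a, ha⟩
      have h2 : ⁅(⟨a, ha⟩ : Q), b⁆ ∈ Subgroup.upperCentralSeries Q i := by
        have h3 := Subgroup.inv_mem _ h1
        rwa [commutatorElement_inv] at h3
      exact ⟨⁅(⟨a, ha⟩ : Q), b⁆, h2, rfl⟩
  · rintro ⟨n, Qs, h0, hlast, hmono, hstep⟩
    rcases Nat.eq_zero_or_pos n with hn0 | hnpos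
    · subst hn0
      have : Q = ⊥ := by rw [← hlast, ← h0]; rfl
      rw [this]
      exact isNormal_bot F
    have hQ : F.StronglyClosed Q := by
      have := (hstep ⟨n - 1, by omega⟩).1
      have e : (⟨n - 1, by omega⟩ : Fin n).succ = Fin.last n := by
        apply Fin.ext
        simp only [Fin.val_succ, Fin.val_last]
        omega
      rwa [e, hlast] at this
    apply isNormal_of_stronglyClosed_of_le hS hF hQ
    intro R _ hcen hrad
    have key := Helper86.le_of_central_series hS hQ n
      (fun j => if h : j ≤ n then Qs ⟨j, by omega⟩ else ⊥)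
      (by simp only [Nat.zero_le, dite_true]; exact h0)
      (fun j hj => by
        simp only [hj, dite_true]
        rw [← hlast]
        exact hmono (Fin.le_last _))
      (fun j hj => by
        have hj1 : j + 1 ≤ n := hj
        have hj2 : j ≤ n := by omega
        simp only [hj1, hj2, dite_true]
        have := (hstep ⟨j, hj⟩).2
        rw [Subgroup.commutator_comm]
        exact this)
      (fun j hj f hf x hx => by
        simp only [hj, dite_true] at hx hf ⊢
        rcases Nat.eq_zero_or_pos j with hj0 | hjpos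
        · subst hj0
          have hb : Qs ⟨0, by omega⟩ = ⊥ := h0
          rw [hb, Subgroup.mem_bot] at hx ⊢
          rw [hx]; exact hf.map_one
        · have hsc := (hstep ⟨j - 1, by omega⟩).1
          have e : (⟨j - 1, by omega⟩ : Fin n).succ = ⟨j, by omega⟩ := by
            apply Fin.ext
            simp only [Fin.val_succ]
            omega
          rw [e] at hsc
          exact (stronglyClosed_iff.1 hsc).2 _ f le_rfl hf x hx)
      hcen hrad n le_rfl
    simp only [le_refl, dite_true] at key
    have e : (⟨n, by omega⟩ : Fin (n + 1)) = Fin.last n := rfl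
    rw [e, hlast] at key
    exact key

end Cfsg.Agent.S5088
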