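import Cfsg.Statements.S5089
import Cfsg.Agent.Lib.Helper87.FusionCore
import Cfsg.Agent.Lib.Helper87.FusionNormalCrit
import Cfsg.Agent.Lib.Helper86.FusionCentralSeries

set_option autoImplicit false
open Cfsg

namespace Cfsg.Agent.S5089

open Cfsg.FusionSystem Cfsg.Agent.Helper87

variable {Ω : Type*} [Group Ω] {S : Subgroup Ω}

/-- the centre of a subgroup normal in the system is strongly closed -/
theorem center_stronglyClosed {F : FusionSystem S} {N : Subgroup Ω} (hN : F.IsNormal N) :
    F.StronglyClosed (N ⊓ Subgroup.centralizer (N : Set Ω)) := by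
  rw [stronglyClosed_iff]
  obtain ⟨hNS, h⟩ := isNormal_iff.1 hN
  refine ⟨inf_le_left.trans hNS, fun R f hR hf x hx => ?_⟩
  obtain ⟨g, hg, e, hgN⟩ := h R f hf
  have hRN : R ≤ N := hR.trans inf_le_left
  have hxN : x ∈ N := hRN hx
  have hxZ : x ∈ Subgroup.centralizer (N : Set Ω) := (hR hx).2
  rw [← e x hx]
  refine Subgroup.mem_inf.2 ⟨(hgN _).2 ⟨x, hxN, rfl⟩, ?_⟩
  rw [Subgroup.mem_centralizer_iff]
  intro y hy
  obtain ⟨y', hy', rfl⟩ := (hgN y).1 hy
  have hx' : x ∈ R ⊔ N := (le_sup_right : N ≤ R ⊔ N) hxN
  have hy'' : y' ∈ R ⊔ N := (le_sup_right : N ≤ R ⊔ N) hy'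
  rw [← hg.map_mul hy'' hx', ← hg.map_mul hx' hy'']
  congr 1
  exact (Subgroup.mem_centralizer_iff.1 hxZ) y' hy'

/-- A saturated fusion system over a finite p-group has a nontrivial subgroup that is normal in the system (O_p(F) ≠ 1) if and only if some nontrivial abelian subgroup is strongly closed in the system. -/
theorem result {Ω : Type*} [Group Ω] {S : Subgroup Ω} [Finite S] (p : ℕ) [Fact p.Prime] (hS : IsPGroup p S) (F : Cfsg.FusionSystem S) (hF : F.IsSaturated p) : F.core ≠ ⊥ ↔ ∃ Q : Subgroup Ω, Q ≠ ⊥ ∧ IsMulCommutative Q ∧ F.StronglyClosed Q := by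
  constructor
  · intro hne
    have hN : F.IsNormal F.core := isNormal_core F
    have hNS : F.core ≤ S := hN.1
    refine ⟨F.core ⊓ Subgroup.centralizer (F.core : Set Ω), ?_, ?_, center_stronglyClosed hN⟩
    · have hfin : Finite F.core := finite_of_le hNS
      have hp : IsPGroup p F.core := hS.to_le hNS
      have hnt : Nontrivial F.core := (Subgroup.nontrivial_iff_ne_bot _).2 hne
      have hc := hp.center_nontrivial
      obtain ⟨z, hz⟩ := exists_ne (1 : Subgroup.center F.core)
      intro hbot
      apply hz
      have hz1 : ((z : F.core) : Ω) ∈ F.core ⊓ Subgroup.centralizer (F.core : Set Ω) := by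
        refine Subgroup.mem_inf.2 ⟨(z : F.core).2, ?_⟩
        rw [Subgroup.mem_centralizer_iff]
        intro y hy
        have := (Subgroup.mem_center_iff.1 z.2) ⟨y, hy⟩
        exact congrArg Subtype.val this
      rw [hbot, Subgroup.mem_bot] at hz1
      exact Subtype.ext (Subtype.ext hz1)
    · refine ⟨⟨fun a b => Subtype.ext ?_⟩⟩
      exact ((Subgroup.mem_centralizer_iff.1 b.2.2) a a.2.1)
  · rintro ⟨Q, hQne, hQab, hQ⟩
    have hnorm : F.IsNormal Q := by
      apply isNormal_of_stronglyClosed_of_le hS hF hQ
      intro R _ hcen hrad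
      have key := Helper86.le_of_central_series hS hQ 1 (fun j => if j = 0 then ⊥ else Q) rfl
        (fun j _ => by
          by_cases hj : j = 0
          · simp [hj]
          · simp [hj])
        (fun j hj => by
          have hj0 : j = 0 := by omega
          subst hj0
          simp only [zero_add, one_ne_zero, if_false, if_true]
          rw [Subgroup.commutator_le]
          intro a ha b hb
          rw [Subgroup.mem_bot, commutatorElement_eq_one_iff_mul_comm]
          have := hQab.is_comm.comm ⟨a, ha⟩ ⟨b, hb⟩
          exact congrArg Subtype.val this)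
        (fun j _ f hf x hx => by
          by_cases hj : j = 0
          · simp only [hj, if_true] at hx hf ⊢
            rw [Subgroup.mem_bot] at hx ⊢
            rw [hx]; exact hf.map_one
          · simp only [hj, if_false] at hx hf ⊢
            exact (stronglyClosed_iff.1 hQ).2 Q f le_rfl hf x hx)
        hcen hrad 1 le_rfl
      simpa using key
    intro hbot
    apply hQne
    have := le_core hnorm
    rw [hbot] at this
    exact le_bot_iff.1 this

end Cfsg.Agent.S5089
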