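import Cfsg.Statements.S5095
import Mathlib
import Cfsg.Agent.Lib.Helper85.QuotLift2
import Cfsg.Agent.Lib.Helper87.FusionNormalCrit

set_option autoImplicit false
open Cfsg

namespace Cfsg.Agent.S5095

open Cfsg.Agent.Helper85 Cfsg.Agent.Helper87 Cfsg.FusionSystem

variable {Ω : Type*} [Group Ω] {S : Subgroup Ω}

/-- a subgroup of `S` containing a centric subgroup is centric -/
theorem centric_of_le {F : FusionSystem S} {Q Q₂ : Subgroup Ω} (hQ : F.IsCentric Q) (hle : Q ≤ Q₂)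
    (hQ₂ : Q₂ ≤ S) : F.IsCentric Q₂ := by
  refine ⟨hQ₂, fun R hR => ?_⟩
  obtain ⟨χ, hχ⟩ := isConj_iff.1 hR
  have hres : Iso F Q (hχ.1.restrict hle).image χ := Iso.of_mor _
  have h1 := hQ.2 _ (isConj_iff.2 ⟨χ, hres⟩)
  have hQ'R : (hχ.1.restrict hle).image ≤ R := by
    rintro _ ⟨x, hx, rfl⟩
    exact hχ.map_mem (hle hx)
  intro c hc
  apply hQ'R
  apply h1
  exact ⟨hc.1, fun y hy => hc.2 y (hQ'R hy)⟩

/-- an element commuting (by conjugation) with all of a centric subgroup's conjugate lies in it -/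
theorem mem_of_centralizes {F : FusionSystem S} {Q Q' : Subgroup Ω} (hQ : F.IsCentric Q) {χ : Ω → Ω}
    (hχ : Iso F Q Q' χ) {s : Ω} (hs : s ∈ S) (hc : ∀ y ∈ Q', s * y * s⁻¹ = y) : s ∈ Q' := by
  apply hQ.2 Q' (isConj_iff.2 ⟨χ, hχ⟩)
  refine ⟨hs, fun y hy => ?_⟩
  have := hc y hy
  calc y * s = (s * y * s⁻¹) * s := by rw [this]
    _ = s * y := by group

theorem stepA {p : ℕ} [Fact p.Prime] [Finite S] (hS : IsPGroup p S) {F : FusionSystem S}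
    (hF : F.IsSaturated p) {P Q : Subgroup Ω} (hQP : Q ≤ P) (hPN : P ≤ Subgroup.normalizer (Q : Set Ω))
    (hQ : F.IsCentric Q) {ψ : Ω → Ω} (hψ : Iso F P P ψ) (hfix : ∀ q ∈ Q, ψ q = q) :
    ∃ z ∈ Q, (∀ q ∈ Q, z * q * z⁻¹ = q) ∧ ∀ y ∈ P, ψ y = z * y * z⁻¹ := by
  classical
  have hPS : P ≤ S := hψ.le_left
  obtain ⟨Pst, hconj, hfn⟩ := exists_fullyNormalized_conj F hPS
  obtain ⟨χ, hχ⟩ := isConj_iff.1 hconj
  obtain ⟨χ', hχ', e1, e2⟩ := hχ.symm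
  obtain ⟨hPstS, Syl, hSyl⟩ := fullyAutomized_of_fullyNormalized hS hF hfn
  haveI : Finite Pst := finite_of_le hPstS
  haveI : Finite (F.autGroup Pst) := inferInstance
  have hψst : Iso F Pst Pst (fun y => χ (ψ (χ' y))) := (hχ'.comp hψ).comp hχ
  -- the image of Q
  have hQst : Iso F Q (hχ.1.restrict hQP).image χ := Iso.of_mor _
  set Qst := (hχ.1.restrict hQP).image with hQstdef
  have hQstP : Qst ≤ Pst := by
    rintro _ ⟨x, hx, rfl⟩
    exact hχ.map_mem (hQP hx)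
  have hfixst : ∀ y ∈ Qst, χ (ψ (χ' y)) = y := by
    rintro _ ⟨q, hq, rfl⟩
    rw [e1 q (hQP hq), hfix q hq]
  have hnormst : ∀ x ∈ Pst, ∀ y ∈ Qst, x * y * x⁻¹ ∈ Qst := by
    intro x hx y hy
    obtain ⟨u, hu, rfl⟩ := hχ.surj hx
    obtain ⟨q, hq, rfl⟩ := hy
    refine ⟨u * q * u⁻¹, (Subgroup.mem_normalizer_iff.1 (hPN hu) q).1 hq, ?_⟩
    rw [hχ.1.map_mul (P.mul_mem hu (hQP hq)) (P.inv_mem hu), hχ.1.map_mul hu (hQP hq), hχ.1.map_inv hu]
  -- ψst acts trivially modulo Qst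
  have hmod : ∀ x ∈ Pst, x⁻¹ * χ (ψ (χ' x)) ∈ Qst := by
    intro x hx
    have hx2 : χ (ψ (χ' x)) ∈ Pst := hψst.map_mem hx
    apply mem_of_centralizes hQ hQst (S.mul_mem (S.inv_mem (hPstS hx)) (hPstS hx2))
    intro y hy
    have hy' := hnormst x hx y hy
    have h1 := hfixst _ hy'
    have h2 : χ (ψ (χ' (x * y * x⁻¹))) =
        χ (ψ (χ' x)) * χ (ψ (χ' y)) * (χ (ψ (χ' x)))⁻¹ := hψst.1.map_conj hx (hQstP hy)
    rw [hfixst y hy] at h2
    have h3 : x * y * x⁻¹ = χ (ψ (χ' x)) * y * (χ (ψ (χ' x)))⁻¹ := h1.symm.trans h2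
    calc x⁻¹ * χ (ψ (χ' x)) * y * (x⁻¹ * χ (ψ (χ' x)))⁻¹
        = x⁻¹ * (χ (ψ (χ' x)) * y * (χ (ψ (χ' x)))⁻¹) * x := by group
      _ = x⁻¹ * (x * y * x⁻¹) * x := by rw [h3]
      _ = y := by group
  -- the automorphism b of Pst
  let b : MulAut Pst := hψst.equiv
  have hbA : b ∈ F.autGroup Pst := hψst.equiv_mem_autGroup
  have hb1 : ∀ x ∈ Qst.subgroupOf Pst, b x = x := by
    intro x hx
    apply Subtype.ext
    rw [hψst.equiv_apply]
    exact hfixst _ (Subgroup.mem_subgroupOf.1 hx)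
  have hb2 : ∀ x : Pst, x⁻¹ * b x ∈ Qst.subgroupOf Pst := by
    intro x
    rw [Subgroup.mem_subgroupOf]
    show (x : Ω)⁻¹ * ((b x : Pst) : Ω) ∈ Qst
    rw [hψst.equiv_apply]
    exact hmod x x.2
  have hbpow := pow_card_eq_one_of_stabilizes b (Qst.subgroupOf Pst) hb1 hb2
  have hpQ : IsPGroup p (Qst.subgroupOf Pst) := (hS.to_le hPstS).to_subgroup _
  obtain ⟨k, hk⟩ := IsPGroup.iff_card.1 hpQ
  rw [hk] at hbpow
  let bA : F.autGroup Pst := ⟨b, hbA⟩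
  have hbApow : bA ^ p ^ k = 1 := by
    apply Subtype.ext
    rw [Subgroup.coe_pow]
    exact hbpow
  have hzp : IsPGroup p (Subgroup.zpowers bA) := by
    rintro ⟨g, hg⟩
    obtain ⟨n, rfl⟩ := Subgroup.mem_zpowers_iff.1 hg
    refine ⟨k, Subtype.ext ?_⟩
    show (bA ^ n) ^ p ^ k = 1
    rw [← zpow_natCast, ← zpow_mul, mul_comm, zpow_mul, zpow_natCast, hbApow, one_zpow]
  obtain ⟨a, -, ha⟩ := exists_conj_le_sylow Syl ⊤ le_top (Subgroup.zpowers bA) hzp le_top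
  have h1 := ha bA (Subgroup.mem_zpowers bA)
  rw [hSyl, Subgroup.mem_subgroupOf] at h1
  obtain ⟨s, hs, es⟩ := mem_autInducedBy_iff.1 h1
  -- the new isomorphism χ₂ = a ∘ χ
  have haiso : Iso F Pst Pst (extAut (a : MulAut Pst)) :=
    iso_of_mor_extAut ((mem_autGroup_iff hPstS).1 a.2)
  have hχ₂ : Iso F P Pst (fun x => extAut (a : MulAut Pst) (χ x)) := hχ.comp haiso
  have hQ₂ : Iso F Q (hχ₂.1.restrict hQP).image (fun x => extAut (a : MulAut Pst) (χ x)) := Iso.of_mor _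
  -- key formula
  have hkey : ∀ y ∈ P, extAut (a : MulAut Pst) (χ (ψ y)) =
      s * extAut (a : MulAut Pst) (χ y) * s⁻¹ := by
    intro y hy
    have hχy : χ y ∈ Pst := hχ.map_mem hy
    have h2 := es ((a : MulAut Pst) ⟨χ y, hχy⟩)
    rw [extAut_mem _ hχy, ← h2, extAut_mem _ (hχ.map_mem (hψ.map_mem hy))]
    show (((a : MulAut Pst) ⟨χ (ψ y), _⟩ : Pst) : Ω) =
      (((a : MulAut Pst) (b ((a : MulAut Pst)⁻¹ ((a : MulAut Pst) ⟨χ y, hχy⟩))) : Pst) : Ω)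
    have h3 : (a : MulAut Pst)⁻¹ ((a : MulAut Pst) ⟨χ y, hχy⟩) = ⟨χ y, hχy⟩ := by simp
    rw [h3]
    congr 2
    apply Subtype.ext
    rw [hψst.equiv_apply]
    show χ (ψ y) = χ (ψ (χ' (χ y)))
    rw [e1 y hy]
  have hsQ₂ : s ∈ (hχ₂.1.restrict hQP).image := by
    apply mem_of_centralizes hQ hQ₂ hs
    rintro _ ⟨q, hq, rfl⟩
    have := hkey q (hQP hq)
    rw [hfix q hq] at this
    exact this.symm
  obtain ⟨z, hz, hzs⟩ := hsQ₂
  refine ⟨z, hz, fun q hq => ?_, fun y hy => ?_⟩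
  · have h4 := hkey q (hQP hq)
    rw [hfix q hq, ← hzs] at h4
    have hzP := hQP hz
    have hqP := hQP hq
    have hc : extAut (a : MulAut Pst) (χ (z * q * z⁻¹)) = extAut (a : MulAut Pst) (χ z) *
        extAut (a : MulAut Pst) (χ q) * (extAut (a : MulAut Pst) (χ z))⁻¹ := hχ₂.1.map_conj hzP hqP
    exact hχ₂.1.inj (P.mul_mem (P.mul_mem hzP hqP) (P.inv_mem hzP)) hqP (hc.trans h4.symm)
  · have h4 := hkey y hy
    rw [← hzs] at h4
    have hzP := hQP hz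
    have hc : extAut (a : MulAut Pst) (χ (z * y * z⁻¹)) = extAut (a : MulAut Pst) (χ z) *
        extAut (a : MulAut Pst) (χ y) * (extAut (a : MulAut Pst) (χ z))⁻¹ := hχ₂.1.map_conj hzP hy
    exact hχ₂.1.inj (hψ.map_mem hy) (P.mul_mem (P.mul_mem hzP hy) (P.inv_mem hzP)) (h4.trans hc.symm)


theorem stepA' {p : ℕ} [Fact p.Prime] [Finite S] (hS : IsPGroup p S) {F : FusionSystem S}
    (hF : F.IsSaturated p) {P Q : Subgroup Ω} (hQP : Q ≤ P) (hPN : P ≤ Subgroup.normalizer (Q : Set Ω))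
    (hQ : F.IsCentric Q) {f f' : Ω → Ω} (hf : Mor F P f) (hf' : Mor F P f') (hagree : ∀ q ∈ Q, f q = f' q) :
    ∃ z ∈ Q, (∀ q ∈ Q, z * q * z⁻¹ = q) ∧ ∀ y ∈ P, f' y = f (z * y * z⁻¹) := by
  have hPS : P ≤ S := hf.le
  have hiso : Iso F P hf.image f := Iso.of_mor hf
  have hQiso : Iso F Q (hf.restrict hQP).image f := Iso.of_mor _
  have hQ'P : (hf.restrict hQP).image ≤ hf.image := by
    rintro _ ⟨x, hx, rfl⟩
    exact ⟨x, hQP hx, rfl⟩
  -- f' maps P into f(P)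
  have hmap : ∀ x ∈ P, f' x ∈ hf.image := by
    intro x hx
    have hc : (f x)⁻¹ * f' x ∈ (hf.restrict hQP).image := by
      apply mem_of_centralizes hQ hQiso (S.mul_mem (S.inv_mem (hf.mem hx)) (hf'.mem hx))
      rintro _ ⟨q, hq, rfl⟩
      have hqP := hQP hq
      have hq' : x * q * x⁻¹ ∈ Q := (Subgroup.mem_normalizer_iff.1 (hPN hx) q).1 hq
      have h1 : f (x * q * x⁻¹) = f x * f q * (f x)⁻¹ := hf.map_conj hx hqP
      have h2 : f' (x * q * x⁻¹) = f' x * f' q * (f' x)⁻¹ := hf'.map_conj hx hqP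
      rw [← hagree _ hq', ← hagree q hq, h1] at h2
      calc (f x)⁻¹ * f' x * f q * ((f x)⁻¹ * f' x)⁻¹
          = (f x)⁻¹ * (f' x * f q * (f' x)⁻¹) * f x := by group
        _ = (f x)⁻¹ * (f x * f q * (f x)⁻¹) * f x := by rw [h2]
        _ = f q := by group
    have : f' x = f x * ((f x)⁻¹ * f' x) := by group
    rw [this]
    exact Subgroup.mul_mem _ ⟨x, hx, rfl⟩ (hQ'P hc)
  obtain ⟨g, hg, e1, e2⟩ := hiso.symm
  have hψmor : Mor F P (fun x => g (f' x)) := hf'.comp hg.1 hmap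
  have hψ : Iso F P P (fun x => g (f' x)) :=
    iso_of_card_le hψmor hPS (fun x hx => hg.map_mem (hmap x hx)) le_rfl
  have hfix : ∀ q ∈ Q, g (f' q) = q := by
    intro q hq
    rw [← hagree q hq]
    exact e1 q (hQP hq)
  obtain ⟨z, hz, hzc, hzy⟩ := stepA hS hF hQP hPN hQ hψ hfix
  refine ⟨z, hz, hzc, fun y hy => ?_⟩
  have h3 := hzy y hy
  have h4 : f (g (f' y)) = f' y := e2 _ (hmap y hy)
  rw [← h4, h3]

theorem stepB {p : ℕ} [Fact p.Prime] [Finite S] (hS : IsPGroup p S) {F : FusionSystem S}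
    (hF : F.IsSaturated p) {P : Subgroup Ω} : ∀ (n : ℕ) (Q : Subgroup Ω), Nat.card P - Nat.card Q = n →
    Q ≤ P → F.IsCentric Q → ∀ f f' : Ω → Ω, Mor F P f → Mor F P f' → (∀ q ∈ Q, f q = f' q) →
    ∃ z ∈ Q, (∀ q ∈ Q, z * q * z⁻¹ = q) ∧ ∀ y ∈ P, f' y = f (z * y * z⁻¹) := by
  intro n
  induction n using Nat.strong_induction_on with
  | _ n ih =>
  intro Q hn hQP hQ f f' hf hf' hagree
  have hPS : P ≤ S := hf.le
  haveI : Finite P := finite_of_le hPS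
  by_cases hQeq : Q = P
  · refine ⟨1, Q.one_mem, fun q _ => by group, fun y hy => ?_⟩
    have hy' : y ∈ Q := hQeq ▸ hy
    rw [← hagree y hy']
    congr 1
    group
  · -- N_P(Q) is strictly larger than Q
    have hpP : IsPGroup p P := hS.to_le hPS
    obtain ⟨m, hm, hmQ⟩ := exists_normalizer_not_mem (S := P) hpP hQP hQeq
    set Q₂ := normalizerIn P Q with hQ₂def
    have hQQ₂ : Q ≤ Q₂ := fun x hx => ⟨hQP hx, Subgroup.le_normalizer hx⟩
    have hQ₂P : Q₂ ≤ P := inf_le_left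
    have hQ₂N : Q₂ ≤ Subgroup.normalizer (Q : Set Ω) := inf_le_right
    obtain ⟨z₁, hz₁, hz₁c, hz₁y⟩ := stepA' hS hF hQQ₂ hQ₂N hQ (hf.restrict hQ₂P) (hf'.restrict hQ₂P) hagree
    have hz₁P : z₁ ∈ P := hQP hz₁
    have hconj : Mor F P (fun y => z₁ * y * z₁⁻¹) := Mor.conj hPS (hPS hz₁P)
    have hf₁ : Mor F P (fun y => f (z₁ * y * z₁⁻¹)) :=
      hconj.comp hf (fun y hy => P.mul_mem (P.mul_mem hz₁P hy) (P.inv_mem hz₁P))
    have hQ₂c : F.IsCentric Q₂ := centric_of_le hQ hQQ₂ (hQ₂P.trans hPS)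
    have hlt : Nat.card Q < Nat.card Q₂ := card_lt_of_not_mem (S := P) hQQ₂ hQ₂P hm hmQ
    have hle2 : Nat.card Q₂ ≤ Nat.card P := Subgroup.card_le_of_le hQ₂P
    obtain ⟨z₂, hz₂, hz₂c, hz₂y⟩ := ih (Nat.card P - Nat.card Q₂) (by omega) Q₂ rfl hQ₂P hQ₂c _ f' hf₁ hf'
      (fun q hq => (hz₁y q hq).symm)
    -- z₂ centralizes Q hence lies in Q
    have hz₂Q : z₂ ∈ Q := by
      apply hQ.2 Q (isConj_refl hQ.1)
      refine ⟨hPS (hQ₂P hz₂), fun q hq => ?_⟩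
      have := hz₂c q (hQQ₂ hq)
      calc q * z₂ = (z₂ * q * z₂⁻¹) * z₂ := by rw [this]
        _ = z₂ * q := by group
    refine ⟨z₁ * z₂, Q.mul_mem hz₁ hz₂Q, fun q hq => ?_, fun y hy => ?_⟩
    · have h1 := hz₂c q (hQQ₂ hq)
      have h2 := hz₁c q hq
      calc z₁ * z₂ * q * (z₁ * z₂)⁻¹ = z₁ * (z₂ * q * z₂⁻¹) * z₁⁻¹ := by group
        _ = q := by rw [h1, h2]
    · rw [hz₂y y hy]
      congr 1
      group

/-- In a saturated fusion system over a finite p-group S: if Q ≤ P ≤ S with Q centric, and two maps of the system with source P agree on Q, then they differ by an inner automorphism of P induced by an element of the centre of Q. -/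
theorem result {Ω : Type*} [Group Ω] {S : Subgroup Ω} [Finite S] (p : ℕ) [Fact p.Prime] (hS : IsPGroup p S) (F : Cfsg.FusionSystem S) (hF : F.IsSaturated p) (P Q : Subgroup Ω) (hQP : Q ≤ P) (hQ : F.IsCentric Q) (φ φ' : P →* Ω) (hφ : φ ∈ F.Hom P) (hφ' : φ' ∈ F.Hom P) (h : ∀ x : P, (x : Ω) ∈ Q → φ x = φ' x) : ∃ z : P, (z : Ω) ∈ Q ∧ (z : Ω) ∈ Subgroup.centralizer (Q : Set Ω) ∧ ∀ y : P, φ' y = φ (z * y * z⁻¹) := by
  obtain ⟨z, hz, hzc, hzy⟩ := stepB hS hF _ Q rfl hQP hQ _ _ (mor_of_mem hφ) (mor_of_mem hφ')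
    (fun q hq => by rw [extFun_mem φ (hQP hq), extFun_mem φ' (hQP hq)]; exact h ⟨q, hQP hq⟩ hq)
  refine ⟨⟨z, hQP hz⟩, hz, ?_, fun y => ?_⟩
  · intro q hq
    have := hzc q hq
    calc q * z = (z * q * z⁻¹) * z := by rw [this]
      _ = z * q := by group
  · have := hzy y y.2
    rw [extFun_apply] at this
    rw [this]
    exact extFun_apply φ (⟨z, hQP hz⟩ * y * ⟨z, hQP hz⟩⁻¹)

end Cfsg.Agent.S5095
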