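import Cfsg.Statements.S5105
import Cfsg.Agent.Lib.Helper85.Rigidity

set_option autoImplicit false
open Cfsg

namespace Cfsg.Agent.S5105

open Cfsg.Agent.Helper85 Cfsg.Agent.Helper87

/-- Model Theorem, rigidity: if G is a model of a constrained fusion system over a finite p-group S (through ι : S → G), then every automorphism of G fixing ι(S) elementwise is conjugation by ι(z) for some z in the centre of S. -/
theorem result {Ω : Type*} [Group Ω] {S : Subgroup Ω} [Finite S] (p : ℕ) [Fact p.Prime] (hS : IsPGroup p S) (F : Cfsg.FusionSystem S) (hF : F.IsConstrained p) {G : Type*} [Group G] (ι : S →* G) (hG : F.IsModel p G ι) (ψ : G ≃* G) (hψ : ∀ x : S, ψ (ι x) = ι x) : ∃ z : S, z ∈ Subgroup.center S ∧ ∀ g : G, ψ g = ι z * g * (ι z)⁻¹ := by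
  obtain ⟨hfin, h, ⟨T, hT⟩, hcen⟩ := hG
  haveI := hfin
  have hψT : ∀ t ∈ (T : Subgroup G), ψ t = t := by
    intro t ht
    rw [hT] at ht
    obtain ⟨s, rfl⟩ := ht
    exact hψ s
  obtain ⟨u, hu, hconj⟩ := aut_fixing_sylow_inner T hcen ψ hψT
  have huT : u ∈ ι.range := hT ▸ (pCore_le_sylow T (hcen hu))
  obtain ⟨z, rfl⟩ := huT
  refine ⟨z, ?_, hconj⟩
  rw [Subgroup.mem_center_iff]
  intro s
  apply h.1
  have h1 := hconj (ι s)
  rw [hψ s] at h1
  rw [map_mul, map_mul]
  calc ι s * ι z = (ι z * ι s * (ι z)⁻¹) * ι z := by rw [← h1]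
    _ = ι z * ι s := by group

end Cfsg.Agent.S5105
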