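import Cfsg.Statements.S5106
import Mathlib
import Cfsg.Agent.Lib.Helper87.FusionNormalCrit

set_option autoImplicit false
open Cfsg

namespace Cfsg.Agent.S5106

open Cfsg.Agent.Helper87 Cfsg.FusionSystem

/-- In a saturated fusion system over a finite p-group S, a subgroup R ≤ S is normal in the system if and only if every map of the system whose source is a subgroup of R is the restriction of an element of Aut_F(R). -/
theorem result {Ω : Type*} [Group Ω] {S : Subgroup Ω} [Finite S] (p : ℕ) [Fact p.Prime] (hS : IsPGroup p S) (F : Cfsg.FusionSystem S) (hF : F.IsSaturated p) (R : Subgroup Ω) (hRS : R ≤ S) : F.IsNormal R ↔ ∀ (P : Subgroup Ω) (hPR : P ≤ R) (φ : P →* Ω), φ ∈ F.Hom P → ∃ α ∈ F.autGroup R, ∀ x : P, ((α (Subgroup.inclusion hPR x) : R) : Ω) = φ x := by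
  constructor
  · intro hR P hPR φ hφ
    obtain ⟨g, hg, e, hgR⟩ := (isNormal_iff.1 hR).2 P _ (mor_of_mem hφ)
    have hPR' : P ⊔ R = R := sup_eq_right.2 hPR
    rw [hPR'] at hg
    have hiso : Iso F R R g := ⟨hg, hgR⟩
    refine ⟨hiso.equiv, hiso.equiv_mem_autGroup, fun x => ?_⟩
    rw [hiso.equiv_apply]
    show g x = φ x
    rw [e x x.2, extFun_apply]
  · intro h
    have hsc : F.StronglyClosed R := by
      refine ⟨hRS, fun P hPR φ hφ x => ?_⟩
      obtain ⟨α, -, e⟩ := h P hPR φ hφ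
      rw [← e x]
      exact (α _).2
    apply isNormal_of_stronglyClosed_of_frattini hS hF hsc
    intro P f hPR hf
    obtain ⟨φ, hφ, e⟩ := hf
    obtain ⟨α, hα, eα⟩ := h P hPR φ hφ
    have hmor : Mor F R (extAut α) := (mem_autGroup_iff hRS).1 hα
    refine ⟨extAut α, iso_of_mor_extAut hmor, fun x hx => ?_⟩
    rw [extAut_mem α (hPR hx), ← e ⟨x, hx⟩, ← eα ⟨x, hx⟩]
    rfl

end Cfsg.Agent.S5106
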