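import Cfsg.Statements.S5107
import Mathlib
import Cfsg.Agent.S5076
import Cfsg.Agent.Lib.Helper86.FusionCentralSeries
import Cfsg.Agent.Lib.Helper87.FusionNormalCrit

set_option autoImplicit false
open Cfsg

namespace Cfsg.Agent.S5107

open Cfsg.Agent.Helper87 Cfsg.FusionSystem
open scoped commutatorElement

/-- the series `1 ≤ Z(S) ≤ S` -/
def ser {G : Type*} [Group G] (Z S : Subgroup G) : ℕ → Subgroup G
  | 0 => ⊥
  | 1 => Z
  | _ => S

/-- If a Sylow p-subgroup S of a finite group G has nilpotency class at most two and its centre is strongly closed in S with respect to G, then every map of the fusion system of G on S is conjugation by an element of N_G(S), and S is the largest subgroup normal in that fusion system. -/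
theorem result {G : Type*} [Group G] [Finite G] (p : ℕ) [Fact p.Prime] (S : Sylow p G) (hcl : ⁅(S : Subgroup G), (S : Subgroup G)⁆ ≤ (S : Subgroup G) ⊓ Subgroup.centralizer ((S : Subgroup G) : Set G)) (hZ : Cfsg.IsStronglyClosed ((S : Subgroup G) ⊓ Subgroup.centralizer ((S : Subgroup G) : Set G)) (S : Subgroup G)) : (∀ (P : Subgroup G) (φ : P →* G), φ ∈ (Cfsg.groupFusionSystem (S : Subgroup G)).Hom P → ∃ g ∈ Subgroup.normalizer ((S : Subgroup G) : Set G), ∀ x : P, φ x = g * (x : G) * g⁻¹) ∧ (Cfsg.groupFusionSystem (S : Subgroup G)).core = S := by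
  set F := Cfsg.groupFusionSystem (S : Subgroup G) with hFdef
  have hF : F.IsSaturated p := Cfsg.Agent.S5076.result p S
  have hS : IsPGroup p (S : Subgroup G) := S.2
  set Z := (S : Subgroup G) ⊓ Subgroup.centralizer ((S : Subgroup G) : Set G) with hZdef
  have hSsc : F.StronglyClosed (S : Subgroup G) :=
    ⟨le_rfl, fun _ _ _ hφ x => (F.le_of_mem hφ).2 x⟩
  have hZsc : F.StronglyClosed Z := by
    refine ⟨inf_le_left, fun R hR φ hφ x => ?_⟩
    obtain ⟨-, hval, g, hg⟩ := hφ
    have h1 := hval x
    rw [hg] at h1 ⊢
    exact hZ.2 x (hR x.2) g h1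
  have hnormal : F.IsNormal (S : Subgroup G) := by
    apply isNormal_of_stronglyClosed_of_le hS hF hSsc
    intro R _ hcen hrad
    have := Helper86.le_of_central_series hS hSsc 2 (ser Z (S : Subgroup G)) rfl
      (by
        intro j hj
        match j, hj with
        | 0, _ => exact bot_le
        | 1, _ => exact inf_le_left
        | 2, _ => exact le_rfl)
      (by
        intro j hj
        match j, hj with
        | 0, _ =>
          show ⁅Z, (S : Subgroup G)⁆ ≤ ⊥
          rw [Subgroup.commutator_le]
          intro z hz s hs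
          rw [Subgroup.mem_bot, commutatorElement_def]
          have := hz.2 s hs
          calc z * s * z⁻¹ * s⁻¹ = (s * z) * z⁻¹ * s⁻¹ := by rw [this]
            _ = 1 := by group
        | 1, _ => exact hcl)
      (by
        intro j hj f hf x hx
        match j, hj, hf, hx with
        | 0, _, hf, hx =>
          have hx' : x = 1 := Subgroup.mem_bot.1 hx
          rw [hx', hf.map_one]
          exact Subgroup.one_mem _
        | 1, _, hf, hx => exact (stronglyClosed_iff.1 hZsc).2 Z f le_rfl hf x hx
        | 2, _, hf, hx => exact hf.mem hx)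
      hcen hrad 2 le_rfl
    exact this
  constructor
  · intro P φ hφ
    obtain ⟨ψ, hψ, hext, him⟩ := hnormal.2 P φ hφ
    obtain ⟨-, hval, g, hg⟩ := hψ
    refine ⟨g, ?_, fun x => ?_⟩
    · rw [Subgroup.mem_normalizer_iff]
      intro s
      constructor
      · intro hs
        have hs' : s ∈ P ⊔ (S : Subgroup G) := (le_sup_right : (S : Subgroup G) ≤ P ⊔ S) hs
        have := hval ⟨s, hs'⟩
        rwa [hg] at this
      · intro hs
        have : g * s * g⁻¹ ∈ (((S : Subgroup G).subgroupOf (P ⊔ (S : Subgroup G))).map ψ) := by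
          rw [him]; exact hs
        obtain ⟨y, hy, hyx⟩ := this
        rw [hg] at hyx
        have : (y : G) = s := by
          have h2 : g⁻¹ * (g * (y : G) * g⁻¹) * g = g⁻¹ * (g * s * g⁻¹) * g := by rw [hyx]
          simpa [mul_assoc] using h2
        rw [← this]
        exact Subgroup.mem_subgroupOf.1 hy
    · rw [← hext x, hg]
      rfl
  · apply le_antisymm
    · exact sSup_le (fun Q hQ => hQ.1)
    · exact le_sSup hnormal

end Cfsg.Agent.S5107
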