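-- Statement S5112
import Mathlib
import Cfsg.Statements.S5112
import Cfsg.Agent.Lib.Helper86.TwoGroupAut
import Cfsg.Agent.Lib.Helper86.FusionAut
import Cfsg.Agent.Lib.Helper87.FusionMore

set_option autoImplicit false
open Cfsg

namespace Cfsg.Agent.S5112

open Cfsg.Agent.Helper86 in
theorem autInducedBy_self_eq_inn {Ω : Type*} [Group Ω] (S : Subgroup Ω) :
    autInducedBy S S = Cfsg.Inn S := by
  ext α
  rw [Cfsg.Agent.Helper86.mem_autInducedBy_iff]
  constructor
  · rintro ⟨g, hg, h⟩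
    refine ⟨⟨g, hg⟩, ?_⟩
    ext x
    rw [h x]
    rfl
  · rintro ⟨g, rfl⟩
    exact ⟨g.1, g.2, fun x => rfl⟩

theorem isPGroup_mulAut_congr {p : ℕ} {A B : Type*} [Group A] [Group B] (e : A ≃* B)
    (h : IsPGroup p (MulAut B)) : IsPGroup p (MulAut A) :=
  h.of_equiv (MulAut.congr e).symm

/-- If S is a dihedral or generalized quaternion 2-group of order at least 16, then in every saturated fusion system over S (at the prime 2) the automorphism group Aut_F(S) consists of the inner automorphisms of S. -/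
theorem result {Ω : Type*} [Group Ω] {S : Subgroup Ω} [Finite S] (n : ℕ) (hn : 4 ≤ n) (hshape : Nonempty (S ≃* DihedralGroup (2 ^ (n - 1))) ∨ Nonempty (S ≃* QuaternionGroup (2 ^ (n - 2)))) (F : Cfsg.FusionSystem S) (hF : F.IsSaturated 2) : F.autGroup S = Cfsg.Inn S := by
  have : Fact (Nat.Prime 2) := ⟨Nat.prime_two⟩
  have hAut : IsPGroup 2 (MulAut S) := by
    rcases hshape with ⟨⟨e⟩⟩ | ⟨⟨e⟩⟩
    · exact isPGroup_mulAut_congr e (Cfsg.Agent.Helper86.dihedral_aut_isPGroup (n - 1) (by omega))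
    · exact isPGroup_mulAut_congr e (Cfsg.Agent.Helper86.quaternion_aut_isPGroup (n - 2) (by omega))
  have hS2 : IsPGroup 2 S := by
    rcases hshape with ⟨⟨e⟩⟩ | ⟨⟨e⟩⟩
    · have hM : NeZero (2 ^ (n - 1)) := ⟨by positivity⟩
      apply IsPGroup.of_card (n := (n - 1) + 1)
      rw [Nat.card_congr e.toEquiv, DihedralGroup.nat_card, pow_succ]
      ring
    · have hM : NeZero (2 ^ (n - 2)) := ⟨by positivity⟩
      apply IsPGroup.of_card (n := (n - 2) + 2)
      rw [Nat.card_congr e.toEquiv, Nat.card_eq_fintype_card, QuaternionGroup.card, pow_succ, pow_succ]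
      ring
  obtain ⟨-, R, hR⟩ := Cfsg.Agent.Helper87.fullyAutomized_of_fullyNormalized hS2 hF
    (Cfsg.Agent.Helper87.fullyNormalized_self F)
  have hA : IsPGroup 2 (F.autGroup S) := hAut.to_subgroup _
  have hRtop : (⊤ : Subgroup (F.autGroup S)) = R :=
    R.is_maximal' (hA.to_subgroup _) le_top
  rw [hR] at hRtop
  have hle : F.autGroup S ≤ autInducedBy S S := Subgroup.subgroupOf_eq_top.mp hRtop.symm
  rw [← autInducedBy_self_eq_inn]
  exact le_antisymm hle (Cfsg.Agent.Helper86.autInducedBy_le_autGroup F le_rfl)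

end Cfsg.Agent.S5112
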