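import Mathlib
import Cfsg.Statements.S5121
import Cfsg.Agent.Lib.Helper86.NsH

set_option autoImplicit false
open Cfsg

namespace Cfsg.Agent.S5121

open Cfsg.FusionSystem Cfsg.Agent.Helper87 Cfsg.Agent.Helper84 Cfsg.Agent.Helper86.NormSub

/-- Let G be a finite group with Sylow p-subgroup S and C_G(O_p(G)) ≤ O_p(G). For every subgroup T ≤ S and every normal subsystem E over T of the fusion system of G on S there is exactly one normal subgroup H of G containing T as a Sylow p-subgroup whose fusion system on T is E. -/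
theorem result {G : Type*} [Group G] [Finite G] (p : ℕ) [Fact p.Prime] (S : Sylow p G) (hG : Subgroup.centralizer ((Cfsg.pCore p G : Subgroup G) : Set G) ≤ Cfsg.pCore p G) (T : Subgroup G) (hTS : T ≤ S) (E : Cfsg.FusionSystem T) (hE : E.IsNormalIn (Cfsg.groupFusionSystem (S : Subgroup G)) p) : ∃ H : Subgroup G, (∃ hTH : T ≤ H, H.Normal ∧ (∃ R : Sylow p H, (R : Subgroup H) = T.subgroupOf H) ∧ ∀ P : Subgroup G, E.Hom P = (Cfsg.fusionSystemOfSubgroup H T hTH).Hom P) ∧ ∀ H' : Subgroup G, (∃ hTH' : T ≤ H', H'.Normal ∧ (∃ R : Sylow p H', (R : Subgroup H') = T.subgroupOf H') ∧ ∀ P : Subgroup G, E.Hom P = (Cfsg.fusionSystemOfSubgroup H' T hTH').Hom P) → H' = H := by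
  have d : Dat p (S : Subgroup G) T E := dat_of_isNormalIn hE
  refine ⟨HH E p, ⟨T_le_HH E, ⟨fun x hx g => d.HH_normal g hx⟩, (d.sylT hG).exists_sylow, ?_⟩, ?_⟩
  · intro P
    ext φ
    rw [mem_hom_iff_mor, mem_hom_iff_mor]
    exact ⟨fun h => d.E_le hG h, fun h => d.le_E hG h⟩
  · rintro H' ⟨hTH', hn, hsyl, hhom⟩
    apply d.uniq hG hTH' hn (isSylIn_of_sylow hTH' hsyl)
    intro P f
    constructor
    · rintro ⟨φ, hφ, e⟩
      exact ⟨φ, (hhom P) ▸ hφ, e⟩
    · rintro ⟨φ, hφ, e⟩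
      exact ⟨φ, (hhom P).symm ▸ hφ, e⟩

end Cfsg.Agent.S5121
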