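import Cfsg.Statements.S5130
import Cfsg.Agent.Lib.Helper85.DirProd4

set_option autoImplicit false
open Cfsg

namespace Cfsg.Agent.S5130

open Cfsg.FusionSystem Cfsg.Agent.Helper87 Cfsg.Agent.Helper85

/-- Let F be a saturated fusion system over a finite p-group S that is the direct product of two subgroups S₁ and S₂, each strongly closed in F. Let R be the full subsystem of F over S₁ (all maps of F between subgroups of S₁) and R′ the subsystem over S₁ of those maps that extend to the subgroup generated with S₂ fixing S₂ elementwise. Then R and R′ are saturated, R′ is normal in F and in R, and R is weakly normal in F. -/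
theorem result {Ω : Type*} [Group Ω] {S : Subgroup Ω} [Finite S] (p : ℕ) [Fact p.Prime] (hS : IsPGroup p S) (F : Cfsg.FusionSystem S) (hF : F.IsSaturated p) (S₁ S₂ : Subgroup Ω) (hprod : Cfsg.IsInternalDirectProduct S₁ S₂ S) (h₁ : F.StronglyClosed S₁) (h₂ : F.StronglyClosed S₂) (R R' : Cfsg.FusionSystem S₁) (hR : ∀ P : Subgroup Ω, P ≤ S₁ → R.Hom P = F.Hom P) (hR' : ∀ P : Subgroup Ω, P ≤ S₁ → R'.Hom P = F.centralizerHom S₂ P) : R.IsSaturated p ∧ R'.IsSaturated p ∧ R'.IsNormalIn F p ∧ R'.IsNormalIn R p ∧ R.IsWeaklyNormalIn F p := by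
  have hfac : Factors F S₁ S₂ := factors_of_prod hprod h₁ h₂
  have hdec : CommDecomp S S₁ S₂ := commDecomp_of_prod hprod
  have hRsat : R.IsSaturated p := saturated_full hdec hF h₁ hR
  have hR'sat : R'.IsSaturated p := hfac.saturated_cent hS hdec hF hR'
  haveI : Finite S₁ := finite_of_le hfac.le₁
  have hS₁ : IsPGroup p S₁ := hS.of_injective (Subgroup.inclusion hfac.le₁) (Subgroup.inclusion_injective _)
  -- subsystem relations
  have hsubR : R.IsSubsystemOf F := by
    intro P φ hφ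
    have hP : P ≤ S₁ := (R.le_of_mem hφ).1
    rw [← hR P hP]; exact hφ
  have hsubR' : R'.IsSubsystemOf F := by
    intro P φ hφ
    have hP : P ≤ S₁ := (R'.le_of_mem hφ).1
    rw [hR' P hP] at hφ
    exact hφ.1
  have hsubR'R : R'.IsSubsystemOf R := by
    intro P φ hφ
    have hP : P ≤ S₁ := (R'.le_of_mem hφ).1
    rw [hR P hP]; exact hsubR' P hφ
  have hscR : R.StronglyClosed S₁ :=
    ⟨le_rfl, fun Q _ φ hφ x => (R.le_of_mem hφ).2 x⟩
  -- invariance
  have hinvR : R.IsInvariantIn F :=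
    Cfsg.Agent.S5119.invariant_of_siFun hS hF hsubR h₁ (hfac.siFun_full hR)
  have hsiR'F : Cfsg.Agent.S5119.SIfun R' F := hfac.siFun_cent hF hR'
  have hinvR'F : R'.IsInvariantIn F :=
    Cfsg.Agent.S5119.invariant_of_siFun hS hF hsubR' h₁ hsiR'F
  have hsiR'R : Cfsg.Agent.S5119.SIfun R' R := by
    intro P Q R_ f g g' hPQ hQ hf hfQ hg hR_ hg'
    exact hsiR'F P Q R_ f g g' hPQ hQ hf hfQ ((mor_full_iff hR hQ).1 hg) hR_ hg'
  have hinvR'R : R'.IsInvariantIn R :=
    Cfsg.Agent.S5119.invariant_of_siFun hS₁ hRsat hsubR'R hscR hsiR'R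
  refine ⟨hRsat, hR'sat, ⟨⟨hR'sat, hF, hinvR'F⟩, ?_⟩, ⟨⟨hR'sat, hRsat, hinvR'R⟩, ?_⟩,
    ⟨hRsat, hF, hinvR⟩⟩
  · -- extension condition in F
    intro α hα
    have hαR' : Mor R' S₁ (extAut α) := (mem_autGroup_iff le_rfl).1 hα
    obtain ⟨-, -, g, hg, e1, e2⟩ := (mor_cent_iff hR' le_rfl).1 hαR'
    have hK : S₁ ⊔ centralizerIn S S₁ = S := by
      apply le_antisymm (sup_le hfac.le₁ inf_le_left)
      intro s hs
      obtain ⟨a, ha, b, hb, rfl⟩ := hdec.dec s hs
      exact Subgroup.mul_mem _ (le_sup_left (a := S₁) ha)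
        (le_sup_right (b := centralizerIn S S₁) (hfac.le_centralizerIn le_rfl hb))
    have hsup : S₁ ⊔ S₂ = S₁ ⊔ centralizerIn S S₁ := hprod.2.2.2.2.trans hK.symm
    have hg' : Mor F (S₁ ⊔ centralizerIn S S₁) g := by
      rw [← hsup]; exact hg
    have hiso : Iso F (S₁ ⊔ centralizerIn S S₁) (S₁ ⊔ centralizerIn S S₁) g := by
      apply self_iso_of_mor hg'
      intro x hx
      rw [hK]
      exact hg'.mem hx
    refine ⟨hiso.equiv, hiso.equiv_mem_autGroup, fun x => ?_, fun c hc => ?_⟩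
    · rw [hiso.equiv_apply]
      show g (x : Ω) = _
      rw [e1 _ x.2, extAut_apply]
    · rw [hiso.equiv_apply]
      obtain ⟨a, ha, b, hb, hab⟩ := hdec.dec (c : Ω) hc.1
      have hbc : b ∈ Subgroup.centralizer (S₁ : Set Ω) := (hfac.le_centralizerIn le_rfl hb).2
      have hac : a ∈ Subgroup.centralizer (S₁ : Set Ω) := by
        have : a = (c : Ω) * b⁻¹ := by rw [hab]; group
        rw [this]
        exact Subgroup.mul_mem _ hc.2 (Subgroup.inv_mem _ hbc)
      have hgc : g (c : Ω) = ((α ⟨a, ha⟩ : S₁) : Ω) * b := by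
        rw [hab, hg.map_mul (le_sup_left (a := S₁) ha) (le_sup_right (b := S₂) hb), e1 a ha,
          e2 b hb, extAut_mem α ha]
      have hz := inv_mul_aut_mem_center α ha hac
      have hcomm : (a⁻¹ * ((α ⟨a, ha⟩ : S₁) : Ω)) * b = b * (a⁻¹ * ((α ⟨a, ha⟩ : S₁) : Ω)) :=
        hfac.comm _ hz.1 b hb
      have : (c : Ω)⁻¹ * g (c : Ω) = a⁻¹ * ((α ⟨a, ha⟩ : S₁) : Ω) := by
        rw [hgc, hab]
        have : (a * b)⁻¹ * (((α ⟨a, ha⟩ : S₁) : Ω) * b) = b⁻¹ * ((a⁻¹ * ((α ⟨a, ha⟩ : S₁) : Ω)) * b) := by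
          group
        rw [this, hcomm]; group
      rw [this]
      exact hz
  · -- extension condition in R
    intro α hα
    have hαR' : Mor R' S₁ (extAut α) := (mem_autGroup_iff le_rfl).1 hα
    have hαR : Mor R S₁ (extAut α) := hαR'.of_subsystem hsubR'R
    have hK : S₁ ⊔ centralizerIn S₁ S₁ = S₁ := sup_eq_left.2 inf_le_left
    have hg' : Mor R (S₁ ⊔ centralizerIn S₁ S₁) (extAut α) := by
      rw [hK]; exact hαR
    have hiso : Iso R (S₁ ⊔ centralizerIn S₁ S₁) (S₁ ⊔ centralizerIn S₁ S₁) (extAut α) := by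
      apply self_iso_of_mor hg'
      intro x hx
      rw [hK]
      exact hg'.mem hx
    refine ⟨hiso.equiv, hiso.equiv_mem_autGroup, fun x => ?_, fun c hc => ?_⟩
    · rw [hiso.equiv_apply]
      show extAut α (x : Ω) = _
      rw [extAut_apply]
    · rw [hiso.equiv_apply, extAut_mem α hc.1]
      exact inv_mul_aut_mem_center α hc.1 hc.2

end Cfsg.Agent.S5130
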