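import Cfsg.Statements.S5135
import Mathlib
import Cfsg.Agent.Lib.Helper85.FactorSystem

set_option autoImplicit false
open Cfsg

namespace Cfsg.Agent.S5135

open Cfsg.Agent.Helper85

theorem exists_conj_le_sylow {G : Type*} [Group G] [Finite G] {p : ℕ} [Fact p.Prime] (S : Sylow p G)
    (M : Subgroup G) (hSM : (S : Subgroup G) ≤ M) (Q : Subgroup G) (hQ : IsPGroup p Q) (hQM : Q ≤ M) :
    ∃ m ∈ M, ∀ x ∈ Q, m * x * m⁻¹ ∈ (S : Subgroup G) := by
  have hQM' : IsPGroup p (Q.subgroupOf M) := hQ.comap_subtype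
  obtain ⟨R, hR⟩ := hQM'.exists_le_sylow
  obtain ⟨m, hm⟩ := MulAction.exists_smul_eq M R (S.subtype hSM)
  refine ⟨m, m.2, fun x hx => ?_⟩
  have h1 : (⟨x, hQM hx⟩ : M) ∈ (R : Subgroup M) := hR (Subgroup.mem_subgroupOf.2 hx)
  have h2 : m * ⟨x, hQM hx⟩ * m⁻¹ ∈ ((m • R : Sylow p M) : Subgroup M) := by
    rw [Sylow.smul_def, Sylow.pointwise_smul_def]
    exact ⟨_, h1, rfl⟩
  rw [hm, Sylow.coe_subtype, Subgroup.mem_subgroupOf] at h2
  exact h2

/-- a `p`-subgroup of `S H` is conjugate into `S` by an element of `H` -/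
theorem exists_conj_le_sylow_normal {G : Type*} [Group G] [Finite G] {p : ℕ} [Fact p.Prime] (S : Sylow p G)
    (H : Subgroup G) [H.Normal] (Q : Subgroup G) (hQ : IsPGroup p Q) (hQM : Q ≤ (S : Subgroup G) ⊔ H) :
    ∃ h ∈ H, ∀ x ∈ Q, h * x * h⁻¹ ∈ (S : Subgroup G) := by
  obtain ⟨m, hm, hmQ⟩ := exists_conj_le_sylow S ((S : Subgroup G) ⊔ H) le_sup_left Q hQ hQM
  have hm' : m ∈ ((↑((S : Subgroup G) ⊔ H) : Set G)) := hm
  rw [Subgroup.mul_normal] at hm'
  obtain ⟨s, hs, h, hh, rfl⟩ := Set.mem_mul.1 hm'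
  refine ⟨h, hh, fun x hx => ?_⟩
  have h1 := hmQ x hx
  have h2 : s⁻¹ * (s * h * x * (s * h)⁻¹) * s ∈ (S : Subgroup G) :=
    Subgroup.mul_mem _ (Subgroup.mul_mem _ (Subgroup.inv_mem _ hs) h1) hs
  have e : s⁻¹ * (s * h * x * (s * h)⁻¹) * s = h * x * h⁻¹ := by group
  rwa [e] at h2

/-- Let G be a finite group, S a Sylow p-subgroup and H a normal subgroup of G. Then the fusion system of G/H on the image SH/H of S is the factor system of the fusion system of G on S modulo S ∩ H, read through the quotient map restricted to S: for each subgroup P' of SH/H, the conjugation maps by elements of G/H defined on P' with values in SH/H are exactly the homomorphisms induced by the conjugation maps by elements of G defined on the full preimage of P' in S with values in S. -/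
theorem result {G : Type*} [Group G] [Finite G] (p : ℕ) [Fact p.Prime] (S : Sylow p G) (H : Subgroup G) [H.Normal] : (Cfsg.groupFusionSystem (S : Subgroup G)).IsFactorSystem ((S : Subgroup G) ⊓ H) ((QuotientGroup.mk' H).comp (S : Subgroup G).subtype) (Cfsg.groupFusionSystem ((S : Subgroup G).map (QuotientGroup.mk' H))) := by
  set θ : (S : Subgroup G) →* G ⧸ H := (QuotientGroup.mk' H).comp (S : Subgroup G).subtype with hθ
  have hrange : θ.range = (S : Subgroup G).map (QuotientGroup.mk' H) := by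
    rw [hθ, MonoidHom.range_comp, Subgroup.range_subtype]
  refine ⟨inf_le_left, fun s => ?_, hrange, fun P' φ' => ?_⟩
  · show (QuotientGroup.mk' H) (s : G) = 1 ↔ _
    rw [QuotientGroup.mk'_apply, QuotientGroup.eq_one_iff, Subgroup.mem_inf]
    exact ⟨fun h => ⟨s.2, h⟩, fun h => h.2⟩
  · constructor
    · rintro ⟨hP', hval, gbar, hg⟩
      refine ⟨hP', ?_⟩
      obtain ⟨g, rfl⟩ := QuotientGroup.mk'_surjective H gbar
      set P := FusionSystem.preimageAlong θ P' with hP
      have hPS : P ≤ (S : Subgroup G) := preimageAlong_le θ P'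
      -- the conjugate of P by g
      have hQ : IsPGroup p (P.map (MulAut.conj g).toMonoidHom) := by
        have : IsPGroup p P := S.2.to_le hPS
        exact this.map _
      have hQM : P.map (MulAut.conj g).toMonoidHom ≤ (S : Subgroup G) ⊔ H := by
        rintro _ ⟨x, hx, rfl⟩
        obtain ⟨hxS, hxP'⟩ := mem_preimageAlong.1 hx
        have h1 := hval ⟨θ ⟨x, hxS⟩, hxP'⟩
        rw [hg] at h1
        have h2 : (QuotientGroup.mk' H) (g * x * g⁻¹) ∈ (S : Subgroup G).map (QuotientGroup.mk' H) := by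
          rw [map_mul, map_mul, map_inv]
          exact h1
        have h3 : g * x * g⁻¹ ∈ ((S : Subgroup G).map (QuotientGroup.mk' H)).comap (QuotientGroup.mk' H) := h2
        rw [Subgroup.comap_map_eq, QuotientGroup.ker_mk'] at h3
        exact h3
      obtain ⟨h, hh, hconj⟩ := exists_conj_le_sylow_normal S H _ hQ hQM
      have hval' : ∀ x : P, (h * g) * (x : G) * (h * g)⁻¹ ∈ (S : Subgroup G) := by
        intro x
        have := hconj (g * x * g⁻¹) ⟨x, x.2, rfl⟩
        have e : h * (g * (x : G) * g⁻¹) * h⁻¹ = (h * g) * (x : G) * (h * g)⁻¹ := by group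
        rwa [e] at this
      refine ⟨conjHom P (h * g), ⟨hPS, hval', h * g, fun x => rfl⟩, hPS, hval', ?_, ?_⟩
      · intro x
        exact (mem_preimageAlong.1 x.2).2
      · intro x
        rw [hg]
        show (QuotientGroup.mk' H) g * (QuotientGroup.mk' H) (x : G) * ((QuotientGroup.mk' H) g)⁻¹ =
          (QuotientGroup.mk' H) ((h * g) * (x : G) * (h * g)⁻¹)
        have hh1 : (QuotientGroup.mk' H) h = 1 := by
          rw [QuotientGroup.mk'_apply, QuotientGroup.eq_one_iff]; exact hh
        simp only [map_mul, map_inv, hh1, one_mul]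
    · rintro ⟨hP', φ, ⟨hPS, hvalS, g, hg⟩, hPS', hφS, hPP', hind⟩
      have key : ∀ y : P', φ' y = (QuotientGroup.mk' H) g * y * ((QuotientGroup.mk' H) g)⁻¹ ∧
          φ' y ∈ (S : Subgroup G).map (QuotientGroup.mk' H) := by
        intro y
        obtain ⟨x, hx, hxy⟩ := exists_preimage hrange hP' y
        have h1 := hind ⟨x, hx⟩
        have e : (⟨θ ⟨x, hPS' hx⟩, hPP' ⟨x, hx⟩⟩ : P') = y := Subtype.ext hxy
        rw [e] at h1
        constructor
        · rw [h1, ← hxy]
          show (QuotientGroup.mk' H) (φ ⟨x, hx⟩) = _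
          rw [hg]
          simp only [map_mul, map_inv]
          rfl
        · rw [h1, ← hrange]
          exact ⟨_, rfl⟩
      exact ⟨hP', fun y => (key y).2, (QuotientGroup.mk' H) g, fun y => (key y).1⟩

end Cfsg.Agent.S5135
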