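import Cfsg.Statements.S5136
import Mathlib
import Cfsg.Agent.Lib.Helper85.FusionBasic

set_option autoImplicit false
open Cfsg

namespace Cfsg.Agent.S5136

open Cfsg.Agent.Helper85

variable {Ω₁ Ω₂ : Type*} [Group Ω₁] [Group Ω₂] {S₁ : Subgroup Ω₁} {S₂ : Subgroup Ω₂}

/-- the defining condition of the product system -/
def IsProd (F₁ : FusionSystem S₁) (F₂ : FusionSystem S₂) (P : Subgroup (Ω₁ × Ω₂)) (φ : P →* Ω₁ × Ω₂) : Prop :=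
  P ≤ S₁.prod S₂ ∧
      ∃ φ₁ ∈ F₁.Hom (P.map (MonoidHom.fst Ω₁ Ω₂)), ∃ φ₂ ∈ F₂.Hom (P.map (MonoidHom.snd Ω₁ Ω₂)),
        ∀ (x : P) (h₁ : (x : Ω₁ × Ω₂).1 ∈ P.map (MonoidHom.fst Ω₁ Ω₂))
          (h₂ : (x : Ω₁ × Ω₂).2 ∈ P.map (MonoidHom.snd Ω₁ Ω₂)),
          φ x = (φ₁ ⟨(x : Ω₁ × Ω₂).1, h₁⟩, φ₂ ⟨(x : Ω₁ × Ω₂).2, h₂⟩)

theorem fst_mem {P : Subgroup (Ω₁ × Ω₂)} (x : P) : (x : Ω₁ × Ω₂).1 ∈ P.map (MonoidHom.fst Ω₁ Ω₂) :=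
  ⟨x, x.2, rfl⟩

theorem snd_mem {P : Subgroup (Ω₁ × Ω₂)} (x : P) : (x : Ω₁ × Ω₂).2 ∈ P.map (MonoidHom.snd Ω₁ Ω₂) :=
  ⟨x, x.2, rfl⟩

/-- the restricted product homomorphism -/
def prodHom (P : Subgroup (Ω₁ × Ω₂)) (φ₁ : P.map (MonoidHom.fst Ω₁ Ω₂) →* Ω₁)
    (φ₂ : P.map (MonoidHom.snd Ω₁ Ω₂) →* Ω₂) : P →* Ω₁ × Ω₂ :=
  (φ₁.comp ((MonoidHom.fst Ω₁ Ω₂).subgroupMap P)).prod (φ₂.comp ((MonoidHom.snd Ω₁ Ω₂).subgroupMap P))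

theorem prodHom_apply (P : Subgroup (Ω₁ × Ω₂)) (φ₁ : P.map (MonoidHom.fst Ω₁ Ω₂) →* Ω₁)
    (φ₂ : P.map (MonoidHom.snd Ω₁ Ω₂) →* Ω₂) (x : P) :
    prodHom P φ₁ φ₂ x = (φ₁ ⟨(x : Ω₁ × Ω₂).1, fst_mem x⟩, φ₂ ⟨(x : Ω₁ × Ω₂).2, snd_mem x⟩) := rfl

theorem map_fst_le {P : Subgroup (Ω₁ × Ω₂)} (hP : P ≤ S₁.prod S₂) : P.map (MonoidHom.fst Ω₁ Ω₂) ≤ S₁ := by
  rintro _ ⟨x, hx, rfl⟩
  exact (Subgroup.mem_prod.1 (hP hx)).1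

theorem map_snd_le {P : Subgroup (Ω₁ × Ω₂)} (hP : P ≤ S₁.prod S₂) : P.map (MonoidHom.snd Ω₁ Ω₂) ≤ S₂ := by
  rintro _ ⟨x, hx, rfl⟩
  exact (Subgroup.mem_prod.1 (hP hx)).2

/-- the product fusion system -/
def prodSystem (F₁ : FusionSystem S₁) (F₂ : FusionSystem S₂) : FusionSystem (S₁.prod S₂) where
  Hom P := {φ | IsProd F₁ F₂ P φ}
  le_of_mem := by
    rintro P φ ⟨hP, φ₁, hφ₁, φ₂, hφ₂, h⟩
    refine ⟨hP, fun x => ?_⟩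
    rw [h x (fst_mem x) (snd_mem x)]
    exact Subgroup.mem_prod.2 ⟨(F₁.le_of_mem hφ₁).2 _, (F₂.le_of_mem hφ₂).2 _⟩
  injective_of_mem := by
    rintro P φ ⟨hP, φ₁, hφ₁, φ₂, hφ₂, h⟩ x y hxy
    rw [h x (fst_mem x) (snd_mem x), h y (fst_mem y) (snd_mem y)] at hxy
    have e1 := F₁.injective_of_mem hφ₁ (congrArg Prod.fst hxy)
    have e2 := F₂.injective_of_mem hφ₂ (congrArg Prod.snd hxy)
    apply Subtype.ext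
    exact Prod.ext (congrArg Subtype.val e1) (congrArg Subtype.val e2)
  conj_mem := by
    intro P g hP hg
    refine ⟨hP, conjHom _ g.1, F₁.conj_mem (map_fst_le hP) (Subgroup.mem_prod.1 hg).1,
      conjHom _ g.2, F₂.conj_mem (map_snd_le hP) (Subgroup.mem_prod.1 hg).2, fun x h₁ h₂ => rfl⟩
  comp_mem := by
    rintro P Q φ ψ ⟨hP, φ₁, hφ₁, φ₂, hφ₂, h⟩ ⟨hQ, ψ₁, hψ₁, ψ₂, hψ₂, h'⟩ hval
    have hv1 : ∀ x : P.map (MonoidHom.fst Ω₁ Ω₂), φ₁ x ∈ Q.map (MonoidHom.fst Ω₁ Ω₂) := by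
      rintro ⟨_, x, hx, rfl⟩
      refine ⟨φ ⟨x, hx⟩, hval ⟨x, hx⟩, ?_⟩
      rw [h ⟨x, hx⟩ (fst_mem _) (snd_mem _)]
      rfl
    have hv2 : ∀ x : P.map (MonoidHom.snd Ω₁ Ω₂), φ₂ x ∈ Q.map (MonoidHom.snd Ω₁ Ω₂) := by
      rintro ⟨_, x, hx, rfl⟩
      refine ⟨φ ⟨x, hx⟩, hval ⟨x, hx⟩, ?_⟩
      rw [h ⟨x, hx⟩ (fst_mem _) (snd_mem _)]
      rfl
    refine ⟨hP, _, F₁.comp_mem hφ₁ hψ₁ hv1, _, F₂.comp_mem hφ₂ hψ₂ hv2, fun x h₁ h₂ => ?_⟩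
    simp only [MonoidHom.comp_apply]
    rw [h' _ (fst_mem _) (snd_mem _)]
    have e := h x h₁ h₂
    congr 1
    · congr 1
      apply Subtype.ext
      show (φ x).1 = φ₁ _
      rw [e]
    · congr 1
      apply Subtype.ext
      show (φ x).2 = φ₂ _
      rw [e]
  inv_mem := by
    rintro P φ ⟨hP, φ₁, hφ₁, φ₂, hφ₂, h⟩
    obtain ⟨ψ₁, hψ₁, hinv₁⟩ := F₁.inv_mem hφ₁
    obtain ⟨ψ₂, hψ₂, hinv₂⟩ := F₂.inv_mem hφ₂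
    have hle1 : φ.range.map (MonoidHom.fst Ω₁ Ω₂) ≤ φ₁.range := by
      rintro _ ⟨_, ⟨x, rfl⟩, rfl⟩
      refine ⟨⟨(x : Ω₁ × Ω₂).1, fst_mem x⟩, ?_⟩
      rw [h x (fst_mem _) (snd_mem _)]
      rfl
    have hle2 : φ.range.map (MonoidHom.snd Ω₁ Ω₂) ≤ φ₂.range := by
      rintro _ ⟨_, ⟨x, rfl⟩, rfl⟩
      refine ⟨⟨(x : Ω₁ × Ω₂).2, snd_mem x⟩, ?_⟩
      rw [h x (fst_mem _) (snd_mem _)]
      rfl
    have hrange : φ.range ≤ S₁.prod S₂ := by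
      rintro _ ⟨x, rfl⟩
      rw [h x (fst_mem x) (snd_mem x)]
      exact Subgroup.mem_prod.2 ⟨(F₁.le_of_mem hφ₁).2 _, (F₂.le_of_mem hφ₂).2 _⟩
    refine ⟨prodHom φ.range (ψ₁.comp (Subgroup.inclusion hle1)) (ψ₂.comp (Subgroup.inclusion hle2)),
      ⟨hrange, _, restrict_mem F₁ hψ₁ hle1, _, restrict_mem F₂ hψ₂ hle2, fun x h₁ h₂ => rfl⟩, fun x => ?_⟩
    rw [prodHom_apply]
    simp only [MonoidHom.comp_apply]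
    have e := h x (fst_mem _) (snd_mem _)
    apply Prod.ext
    · show (ψ₁ _ : Ω₁) = (x : Ω₁ × Ω₂).1
      refine (congrArg ψ₁ ?_).trans (hinv₁ ⟨(x : Ω₁ × Ω₂).1, fst_mem x⟩)
      apply Subtype.ext
      show (φ x).1 = _
      rw [e]
    · show (ψ₂ _ : Ω₂) = (x : Ω₁ × Ω₂).2
      refine (congrArg ψ₂ ?_).trans (hinv₂ ⟨(x : Ω₁ × Ω₂).2, snd_mem x⟩)
      apply Subtype.ext
      show (φ x).2 = _
      rw [e]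

/-- Let F₁ and F₂ be fusion systems over finite p-groups S₁ and S₂ (inside ambient groups Ω₁ and Ω₂). Then their direct product exists: there is a fusion system over S₁ × S₂ inside Ω₁ × Ω₂ whose maps with source P ≤ S₁ × S₂ are exactly the restrictions to P of the homomorphisms (x₁, x₂) ↦ (φ₁ x₁, φ₂ x₂) with φ₁ a map of F₁ on the first projection of P and φ₂ a map of F₂ on the second projection. -/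
theorem result {Ω₁ Ω₂ : Type*} [Group Ω₁] [Group Ω₂] {S₁ : Subgroup Ω₁} {S₂ : Subgroup Ω₂} [Finite S₁] [Finite S₂] (p : ℕ) [Fact p.Prime] (h₁ : IsPGroup p S₁) (h₂ : IsPGroup p S₂) (F₁ : Cfsg.FusionSystem S₁) (F₂ : Cfsg.FusionSystem S₂) : ∃ E : Cfsg.FusionSystem (S₁.prod S₂), Cfsg.FusionSystem.IsProductSystem F₁ F₂ E := by
  exact ⟨prodSystem F₁ F₂, fun P φ => Iff.rfl⟩

end Cfsg.Agent.S5136
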