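import Cfsg.Statements.S5145
import Mathlib
import Cfsg.Agent.Lib.Helper85.FusionBasic

set_option autoImplicit false
open Cfsg

namespace Cfsg.Agent.S5145

open Cfsg.Agent.Helper85

variable {Ω : Type*} [Group Ω] {S : Subgroup Ω}

theorem bot_normal (F : FusionSystem S) : F.IsNormal ⊥ := by
  refine ⟨bot_le, fun P φ hφ => ?_⟩
  have hle : P ⊔ ⊥ ≤ P := by simp
  refine ⟨φ.comp (Subgroup.inclusion hle), restrict_mem F hφ hle, fun x => ?_, ?_⟩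
  · simp only [MonoidHom.comp_apply]
    congr 1
  · rw [map_subgroupOf_eq_iff]
    refine ⟨fun x hx => ?_, fun y hy => ?_⟩
    · have : x = 1 := Subtype.ext (Subgroup.mem_bot.1 hx)
      rw [this, map_one]
      exact Subgroup.one_mem _
    · rw [Subgroup.mem_bot] at hy
      subst hy
      exact ⟨1, Subgroup.one_mem _, map_one _⟩

theorem map_subgroupOf_sup {T Q₁ Q₂ : Subgroup Ω} (ψ : T →* Ω) (h₁ : Q₁ ≤ T) (h₂ : Q₂ ≤ T) :
    ((Q₁ ⊔ Q₂).subgroupOf T).map ψ = (Q₁.subgroupOf T).map ψ ⊔ (Q₂.subgroupOf T).map ψ := by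
  rw [Subgroup.subgroupOf_sup h₁ h₂, Subgroup.map_sup]

theorem sup_normal (F : FusionSystem S) {Q₁ Q₂ : Subgroup Ω} (h₁ : F.IsNormal Q₁) (h₂ : F.IsNormal Q₂) :
    F.IsNormal (Q₁ ⊔ Q₂) := by
  refine ⟨sup_le h₁.1 h₂.1, fun P φ hφ => ?_⟩
  obtain ⟨ψ₁, hψ₁, hext₁, him₁⟩ := h₁.2 P φ hφ
  obtain ⟨ψ₂, hψ₂, hext₂, him₂⟩ := h₂.2 (P ⊔ Q₁) ψ₁ hψ₁
  have hle : P ⊔ (Q₁ ⊔ Q₂) ≤ (P ⊔ Q₁) ⊔ Q₂ := by
    rw [sup_assoc]
  rw [map_subgroupOf_eq_iff] at him₁ him₂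
  refine ⟨ψ₂.comp (Subgroup.inclusion hle), restrict_mem F hψ₂ hle, fun x => ?_, ?_⟩
  · simp only [MonoidHom.comp_apply]
    rw [← hext₁ x, ← hext₂]
    congr 1
  · have hQ₁ : Q₁ ≤ P ⊔ (Q₁ ⊔ Q₂) := le_sup_left.trans le_sup_right
    have hQ₂ : Q₂ ≤ P ⊔ (Q₁ ⊔ Q₂) := le_sup_right.trans le_sup_right
    rw [map_subgroupOf_sup _ hQ₁ hQ₂]
    congr 1
    · rw [map_subgroupOf_eq_iff]
      refine ⟨fun x hx => ?_, fun y hy => ?_⟩
      · have hx1 : (x : Ω) ∈ P ⊔ Q₁ := (le_sup_right : Q₁ ≤ P ⊔ Q₁) hx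
        have h := hext₂ ⟨x, hx1⟩
        have e : (ψ₂.comp (Subgroup.inclusion hle)) x =
            ψ₂ (Subgroup.inclusion (le_sup_left : P ⊔ Q₁ ≤ (P ⊔ Q₁) ⊔ Q₂) ⟨x, hx1⟩) := rfl
        rw [e, h]
        exact him₁.1 ⟨x, hx1⟩ hx
      · obtain ⟨x, hx, rfl⟩ := him₁.2 y hy
        refine ⟨⟨x, hQ₁ hx⟩, hx, ?_⟩
        rw [← hext₂ x]
        rfl
    · rw [map_subgroupOf_eq_iff]
      refine ⟨fun x hx => ?_, fun y hy => ?_⟩
      · exact him₂.1 ⟨x, hle x.2⟩ hx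
      · obtain ⟨x, hx, rfl⟩ := him₂.2 y hy
        exact ⟨⟨x, hQ₂ hx⟩, hx, rfl⟩

/-- For a fusion system over a finite subgroup S, the join of all subgroups normal in the system is itself normal in the system, hence its largest normal subgroup. -/
theorem result {Ω : Type*} [Group Ω] {S : Subgroup Ω} [Finite S] (F : Cfsg.FusionSystem S) : F.IsNormal F.core := by
  have hsc : SupClosed {Q : Subgroup Ω | F.IsNormal Q} := fun a ha b hb => sup_normal F ha hb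
  have hfin : {Q : Subgroup Ω | F.IsNormal Q}.Finite :=
    Set.Finite.subset finite_le (fun Q hQ => hQ.1)
  exact hsc.sSup_mem hfin (bot_normal F) subset_rfl

end Cfsg.Agent.S5145
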