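-- Statement S5147
import Cfsg.Statements.S5147
import Cfsg.Agent.Lib.Helper85.SubnConstr
import Cfsg.Agent.Lib.Helper85.CentQuot

set_option autoImplicit false
open Cfsg

namespace Cfsg.Agent.S5147

open Cfsg.Agent.Helper85 Cfsg.Agent.Helper84

/-- Let G be a finite group whose 2-fusion system on a Sylow 2-subgroup S is constrained, and let L be a component of G. Then the 2-fusion system of L / Z(L) on the image of S ∩ L is constrained. -/
theorem result {G : Type*} [Group G] [Finite G] (S : Sylow 2 G) (hF : (Cfsg.groupFusionSystem (S : Subgroup G)).IsConstrained 2) (L : Subgroup G) (hL : Cfsg.IsComponent L) : (Cfsg.groupFusionSystem (((S : Subgroup G).subgroupOf L).map (QuotientGroup.mk' (Subgroup.center L)))).IsConstrained 2 := by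
  have hsub : L.IsSubnormal := hL.1
  obtain ⟨hsyl, -⟩ := subnormal_chain S hF hsub
  have h1 := gfs_subgroupOf_constrained S hF hsub
  obtain ⟨R, hR⟩ := hsyl.exists_sylow
  have e : ((S : Subgroup G) ⊓ L).subgroupOf L = (S : Subgroup G).subgroupOf L :=
    Subgroup.inf_subgroupOf_right _ _
  have h2 : (Cfsg.groupFusionSystem (R : Subgroup L)).IsConstrained 2 := by
    rw [hR, e]
    exact h1
  have h3 := central_quotient_constrained R (Subgroup.center L) le_rfl h2
  rw [hR, e] at h3
  exact h3

end Cfsg.Agent.S5147
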