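import Cfsg.Statements.S5153
import Mathlib
import Cfsg.Agent.Lib.Helper85.QuotLift

set_option autoImplicit false
open Cfsg

namespace Cfsg.Agent.S5153

open Cfsg.Agent.Helper85 Cfsg.Agent.Helper87 Cfsg.FusionSystem

variable {Ω : Type*} [Group Ω]

/-- one step: a subsystem over a strongly closed subgroup -/
theorem step {S : Subgroup Ω} [Finite S] {p : ℕ} [Fact p.Prime] (hS : IsPGroup p S) {F : FusionSystem S}
    (hF : F.IsSaturated p) {U : Subgroup Ω} (D : FusionSystem U) (hDF : D.IsSubsystemOf F)
    (hU : F.StronglyClosed U) (P : Subgroup Ω) (hPU : P ≤ U) (hP : F.IsFullyNormalized P) :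
    D.IsFullyNormalized P := by
  refine ⟨hPU, fun Q hQ => ?_⟩
  obtain ⟨φ, hφ, hr⟩ := hQ
  have hconj : F.IsConj P Q := ⟨φ, hDF P hφ, hr⟩
  obtain ⟨g, hg, hgi⟩ := exists_map_normalizer_to_fullyNormalized hS hF hP (isConj_symm hconj)
  have hle : normalizerIn U Q ≤ normalizerIn S Q := fun n hn => ⟨hU.1 hn.1, hn.2⟩
  have hg' : Mor F (normalizerIn U Q) g := hg.restrict hle
  refine card_le_of_mor hg' (inf_le_left.trans hU.1) (fun n hn => ?_)
  refine ⟨Mor.map_stronglyClosed hU hg (hle hn) hn.1, ?_⟩
  exact (map_normalizerIn hg hgi (hle hn)).2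

theorem subnormal_le {p : ℕ} {T : Subgroup Ω} (E : FusionSystem T) {S : Subgroup Ω} (F : FusionSystem S)
    (hE : E.IsSubnormalIn F p) : T ≤ S := by
  induction hE with
  | refl F => exact le_rfl
  | step hED hDF ih => exact ih.trans hDF.1.2.2.2.1.1

theorem main {p : ℕ} {T : Subgroup Ω} (E : FusionSystem T) {S : Subgroup Ω} (F : FusionSystem S)
    (hE : E.IsSubnormalIn F p) : Fact p.Prime → Finite S → IsPGroup p S → F.IsSaturated p →
    ∀ P : Subgroup Ω, P ≤ T → F.IsFullyNormalized P → E.IsFullyNormalized P := by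
  induction hE with
  | refl F => intro _ _ _ _ P _ hP; exact hP
  | step hED hDF ih =>
    rename_i T U S E D F p
    intro hp hfin hS hF P hPT hP
    haveI := hfin
    haveI := hp
    obtain ⟨⟨hDsat, _, hDsub, hUcl, _, _⟩, _⟩ := hDF
    have hUS : U ≤ S := hUcl.1
    have hfinU : Finite U := finite_of_le hUS
    have hpU : IsPGroup p U := hS.to_le hUS
    have hTU : T ≤ U := subnormal_le E D hED
    have hPD : D.IsFullyNormalized P := step hS hF D hDsub hUcl P (hPT.trans hTU) hP
    exact ih hp hfinU hpU hDsat P hPT hPD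

/-- Let F be a saturated fusion system over a finite p-group S and E a subnormal subsystem of F over T. Then every subgroup of T that is fully normalized in F is fully normalized in E. -/
theorem result {Ω : Type*} [Group Ω] {S : Subgroup Ω} [Finite S] (p : ℕ) [Fact p.Prime] (hS : IsPGroup p S) (F : Cfsg.FusionSystem S) (hF : F.IsSaturated p) {T : Subgroup Ω} (E : Cfsg.FusionSystem T) (hE : E.IsSubnormalIn F p) (P : Subgroup Ω) (hPT : P ≤ T) (hP : F.IsFullyNormalized P) : E.IsFullyNormalized P :=
  main E F hE inferInstance inferInstance hS hF P hPT hP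

end Cfsg.Agent.S5153
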