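import Cfsg.Statements.S5159
import Cfsg.Agent.Lib.Helper85.Solvable8

set_option autoImplicit false
open Cfsg

namespace Cfsg.Agent.S5159

open Cfsg.Agent.Helper85 Cfsg.Agent.Helper87

/-- Let F be a saturated fusion system over a finite p-group S, E a normal subsystem over T, and D the factor system of F modulo T (read through any homomorphism on S with kernel T). Then F is solvable if and only if E and D are solvable (solvable, for a system over a subgroup S: for every subgroup R other than S that is strongly closed in F, the factor system of F modulo R has a nontrivial subgroup normal in it). -/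
theorem result {Ω : Type*} [Group Ω] {S : Subgroup Ω} [Finite S] (p : ℕ) [Fact p.Prime] (hS : IsPGroup p S) (F : Cfsg.FusionSystem S) (hF : F.IsSaturated p) {T : Subgroup Ω} (E : Cfsg.FusionSystem T) (hE : E.IsNormalIn F p) {Ω' : Type*} [Group Ω'] {S' : Subgroup Ω'} (θ : S →* Ω') (D : Cfsg.FusionSystem S') (hD : F.IsFactorSystem T θ D) : F.IsSolvableSystem ↔ (E.IsSolvableSystem ∧ D.IsSolvableSystem) := by
  obtain ⟨⟨hEsat, -, hinv⟩, -⟩ := hE
  have hT : F.StronglyClosed T := hinv.2.1
  have hTS : T ≤ S := hT.1
  haveI : Finite T := finite_of_le hTS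
  have hpT : IsPGroup p T := hS.to_le hTS
  haveI : Finite S' := factor_finite hD
  have hpS' : IsPGroup p S' := factor_isPGroup hS hD
  have hDsat : D.IsSaturated p := factor_saturated hS hF hT hD
  have hsurj := factor_surjectiveMorphism hS hF hT hD
  have hker : kerOf θ = T := kerOf_eq_of_factor hD
  rw [solvable_iff_hasChainFrom hS hF, solvable_iff_hasChainFrom hpT hEsat,
    solvable_iff_hasChainFrom hpS' hDsat]
  constructor
  · intro h
    exact ⟨hasChainFrom_inf hinv.1 hTS h, hasChainFrom_image hS hF hT hD h⟩
  · rintro ⟨hE', hD'⟩
    have h1 := hasChainFrom_pullback hsurj hD'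
    rw [hker] at h1
    exact hasChainFrom_bot_of_invariant hinv hE' h1

end Cfsg.Agent.S5159
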