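import Cfsg.Statements.S5166
import Mathlib
import Cfsg.Agent.S1603
import Cfsg.Agent.Lib.Helper91.M11Sylow
import Cfsg.Agent.Lib.Helper88.GL23Fusion

set_option autoImplicit false
open Cfsg
open scoped Pointwise

namespace Cfsg.Agent.S5166

/-- the subgroup of `M24` used in the landed statements about `M11` -/
abbrev M11' : Subgroup ↥Cfsg.M24 :=
  MulAction.stabilizer Cfsg.M24 Cfsg.Spor.squareDodecad ⊓
    MulAction.stabilizer Cfsg.M24 (some 0 : Cfsg.GolayPt)

/-- the two presentations of `M11` are isomorphic -/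
def m11Equiv : ↥Cfsg.Spor.M11 ≃* ↥M11' where
  toFun g := ⟨⟨g.1, g.2.1.1⟩, ⟨MulAction.mem_stabilizer_iff.2 (MulAction.mem_stabilizer_iff.1 g.2.1.2),
    MulAction.mem_stabilizer_iff.2 (MulAction.mem_stabilizer_iff.1 g.2.2)⟩⟩
  invFun h := ⟨h.1.1, ⟨⟨h.1.2, MulAction.mem_stabilizer_iff.2 (MulAction.mem_stabilizer_iff.1 h.2.1)⟩,
    MulAction.mem_stabilizer_iff.2 (MulAction.mem_stabilizer_iff.1 h.2.2)⟩⟩
  left_inv g := rfl
  right_inv h := rfl
  map_mul' a b := rfl

theorem sq_zero_mem : (some 0 : Cfsg.GolayPt) ∈ Cfsg.Spor.squareDodecad := by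
  rw [Cfsg.Agent.Helper91.squareDodecad_eq]
  decide +kernel

theorem factorization_7920 : (7920 : ℕ).factorization 2 = 4 := by
  have h1 : (7920 : ℕ) = 2 ^ 4 * 495 := by norm_num
  have h2 : ((2 : ℕ) ^ 4).factorization 2 = 4 := by
    rw [Nat.Prime.factorization_pow Nat.prime_two]; simp
  have h3 : (495 : ℕ).factorization 2 = 0 := Nat.factorization_eq_zero_of_not_dvd (by norm_num)
  rw [h1, Nat.factorization_mul (by norm_num) (by norm_num), Finsupp.add_apply, h2, h3]

/-- The 2-fusion system of the Mathieu group M₁₁ (as the explicit permutation group carved out of the automorphism group of the binary Golay code) on a Sylow 2-subgroup is simple: saturated, over a nontrivial 2-group, with no normal subsystem other than the trivial one and itself. -/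
theorem result (S : Sylow 2 Cfsg.Spor.M11) : (Cfsg.groupFusionSystem (S : Subgroup Cfsg.Spor.M11)).IsSimple 2 := by
  haveI : Fact (Nat.Prime 2) := ⟨Nat.prime_two⟩
  haveI : Finite ↥Cfsg.Spor.M11 := inferInstance
  apply Cfsg.Agent.Helper88.GL23Fusion.simple_of_centralizers S
  · rw [Sylow.card_eq_multiplicity, Cfsg.Agent.Helper91.card_M11, factorization_7920]
    norm_num
  · intro x hx
    have hx' : orderOf (m11Equiv x) = 2 := by rw [MulEquiv.orderOf_eq]; exact hx
    obtain ⟨e2⟩ := Cfsg.Agent.S1603.result Cfsg.Spor.squareDodecad Cfsg.Agent.Helper91.squareDodecad_mem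
      (some 0) sq_zero_mem (m11Equiv x) hx'
    exact ⟨(Cfsg.Agent.S1603.centralizerEquiv m11Equiv x).trans e2⟩

end Cfsg.Agent.S5166
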