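import Cfsg.Statements.S5167
import Mathlib
import Cfsg.Agent.Lib.Helper88.M12Data

set_option autoImplicit false
open Cfsg

open scoped Pointwise

namespace Cfsg.Agent.S5167

open Cfsg.Agent.Helper7 Cfsg.Agent.Helper91 Cfsg.Agent.Helper88.TabNorm
  Cfsg.Agent.Helper88.TabFusion Cfsg.Agent.Helper88.M12Data

/-- The 2-fusion system of the Mathieu group M₁₂ (as the explicit permutation group carved out of the automorphism group of the binary Golay code) on a Sylow 2-subgroup is simple: saturated, over a nontrivial 2-group, with no normal subsystem other than the trivial one and itself. -/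
theorem result (S : Sylow 2 Cfsg.Spor.M12) : (Cfsg.groupFusionSystem (S : Subgroup Cfsg.Spor.M12)).IsSimple 2 := by
  have hgens : GoodTabs Spor.M12 gens12 := goodTabs_M12 gens12_ok gens12_fix
  have hDl : GoodTabs Spor.M12 conj12 := goodTabs_M12 conj12_ok conj12_fix
  have hgoodL := goodTabs_spanTabs hgens
  have honeL := idTab_mem_spanTabs gens12
  have hmulL := spanTabs_mul_closed hgens (spanTabs_of_pcOK hgens gens12_pc).1
  refine simple_of_cert gens12 conj12 cert12 hgens gens12_pc (by rw [card_M12]; decide)
    (by rw [card_M12]; decide) hDl cert12_ok hgoodL honeL hmulL ?_ S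
  exact nclaim_chain hgoodL honeL hmulL tb_M12 chain12 [] chain12_ok
    (claim5_M12 hgoodL honeL hmulL _ (by decide))

end Cfsg.Agent.S5167
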