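import Cfsg.Statements.S5168
import Mathlib
import Cfsg.Agent.Lib.Helper88.M22Data

set_option autoImplicit false
open Cfsg

open scoped Pointwise

namespace Cfsg.Agent.S5168

open Cfsg.Agent.Helper7 Cfsg.Agent.Helper91 Cfsg.Agent.Helper88.TabNorm
  Cfsg.Agent.Helper88.TabFusion Cfsg.Agent.Helper88.M22Data

/-- The 2-fusion system of the Mathieu group M₂₂ (as the explicit permutation group carved out of the automorphism group of the binary Golay code) on a Sylow 2-subgroup is simple: saturated, over a nontrivial 2-group, with no normal subsystem other than the trivial one and itself. -/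
theorem result (S : Sylow 2 Cfsg.Spor.M22) : (Cfsg.groupFusionSystem (S : Subgroup Cfsg.Spor.M22)).IsSimple 2 := by
  have hgens : GoodTabs Spor.M22 gens22 := goodTabs_M22 gens22_ok gens22_fix
  have hDl : GoodTabs Spor.M22 conj22 := goodTabs_M22 conj22_ok conj22_fix
  have hgoodL := goodTabs_spanTabs hgens
  have honeL := idTab_mem_spanTabs gens22
  have hmulL := spanTabs_mul_closed hgens (spanTabs_of_pcOK hgens gens22_pc).1
  refine simple_of_cert gens22 conj22 cert22 hgens gens22_pc (by rw [card_M22]; decide)
    (by rw [card_M22]; decide) hDl cert22_ok hgoodL honeL hmulL ?_ S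
  have h1 : NClaimH hgoodL honeL hmulL [23, 0] :=
    nclaim_chain hgoodL honeL hmulL (tb_zero _) chain22 [23, 0] chain22_ok
      (claim7_of_le M22_le hgoodL honeL hmulL _ (by decide))
  intro g hg _
  apply h1 g hg
  intro a ha
  rcases List.mem_cons.mp ha with rfl | ha
  · exact (mem_stabIn.mp (mem_stabIn.mp g.2).1).2
  · rw [List.mem_singleton.mp ha]
    exact (mem_stabIn.mp g.2).2

end Cfsg.Agent.S5168
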