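import Cfsg.Statements.S5394
import Cfsg.Agent.Lib.Helper91.M24Syl2

set_option autoImplicit false
open Cfsg

namespace Cfsg.Agent.S5394
open Cfsg.Agent.Helper7 Cfsg.Agent.Helper91
open scoped Pointwise

theorem octInvTab_ok : m24TabOK octInvTab = true := by decide +kernel

theorem fpfInvTab_ok : m24TabOK fpfInvTab = true := by decide +kernel

/-- The representative involution fixing an octad pointwise. -/
def octInv : Equiv.Perm GolayPt := permOfTab octInvTab (m24TabOK_spec octInvTab_ok).fst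

/-- The representative fixed-point-free involution. -/
def fpfInv : Equiv.Perm GolayPt := permOfTab fpfInvTab (m24TabOK_spec fpfInvTab_ok).fst

theorem octInv_tab : Tab octInv octInvTab := tab_permOfTab _ _

theorem fpfInv_tab : Tab fpfInv fpfInvTab := tab_permOfTab _ _

theorem octInv_mem : octInv ∈ M24 := (m24TabOK_spec octInvTab_ok).snd

theorem fpfInv_mem : fpfInv ∈ M24 := (m24TabOK_spec fpfInvTab_ok).snd

theorem orderOf_of_tab {σ : Equiv.Perm GolayPt} {l : List ℕ} (ht : Tab σ l) (hlen : l.length = 24)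
    (hsq : mulTab l l = idTab) (hne : l ≠ idTab) : orderOf σ = 2 := by
  apply orderOf_eq_prime
  · rw [pow_two]
    have := ht.mul ht hlen
    rw [hsq] at this
    exact tab_unique this tab_one
  · intro e
    rw [e] at ht
    exact hne (tab_list_unique ht tab_one hlen rfl)

theorem octInv_order : orderOf octInv = 2 :=
  orderOf_of_tab octInv_tab rfl (by decide) (by decide)

theorem fpfInv_order : orderOf fpfInv = 2 :=
  orderOf_of_tab fpfInv_tab rfl (by decide) (by decide)

theorem fix_iff_of_tab {σ : Equiv.Perm GolayPt} {l : List ℕ} (ht : Tab σ l) (p : GolayPt) :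
    σ p = p ↔ l.getD (idx p) 0 = idx p := by
  constructor
  · intro e
    rw [← ht p, e]
  · intro e
    apply idx_injective
    rw [ht p, e]

theorem octInv_fix : (Finset.univ.filter fun p => octInv p = p) = ofMask 9969957 := by
  ext p
  simp only [Finset.mem_filter, Finset.mem_univ, true_and, mem_ofMask]
  rw [fix_iff_of_tab octInv_tab]
  have h : ∀ i < 24, (octInvTab.getD i 0 = i ↔ Nat.testBit 9969957 i = true) := by decide
  exact h _ (idx_lt p)

theorem octInv_fix_mem : (Finset.univ.filter fun p => octInv p = p) ∈ octads := by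
  rw [octInv_fix]
  exact isOct_spec (by decide +kernel)

theorem fpfInv_fix (p : GolayPt) : fpfInv p ≠ p := by
  rw [Ne, fix_iff_of_tab fpfInv_tab]
  have h : ∀ i < 24, fpfInvTab.getD i 0 ≠ i := by decide
  exact h _ (idx_lt p)

theorem conj_apply (k g : Equiv.Perm GolayPt) (p : GolayPt) :
    (k * g * k⁻¹) (k p) = k (g p) := by
  simp

theorem fix_conj (k g : Equiv.Perm GolayPt) :
    (Finset.univ.filter fun p => g p = p) =
      k⁻¹ • (Finset.univ.filter fun p => (k * g * k⁻¹) p = p) := by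
  ext p
  rw [Finset.mem_inv_smul_finset_iff]
  simp only [Finset.mem_filter, Finset.mem_univ, true_and, Equiv.Perm.smul_def]
  rw [conj_apply]
  exact ⟨fun e => by rw [e], fun e => k.injective e⟩

/-- Every involution of `M24` is conjugate to one of the two representatives. -/
theorem conj_rep {g : Equiv.Perm GolayPt} (hg : g ∈ M24) (hord : orderOf g = 2) :
    ∃ k ∈ M24, k * g * k⁻¹ = octInv ∨ k * g * k⁻¹ = fpfInv := by
  have hgens := goodTabs_M24_of_ok syl24Gens_ok
  obtain ⟨h, hh, l, hl, ht⟩ := exists_conj_spanTabs hgens syl24Gens_pc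
    (by rw [card_M24]; decide) hg hord
  obtain ⟨_, _, _, hlen⟩ := goodTabs_spanTabs hgens l hl
  have hgg : g * g = 1 := by rw [← pow_two, ← hord, pow_orderOf_eq_one]
  have hsq : (h * g * h⁻¹) * (h * g * h⁻¹) = 1 := by
    calc (h * g * h⁻¹) * (h * g * h⁻¹) = h * (g * g) * h⁻¹ := by group
      _ = 1 := by rw [hgg]; group
  have hll : mulTab l l = idTab := by
    have ht2 := ht.mul ht hlen
    rw [hsq] at ht2
    exact tab_list_unique ht2 tab_one (by rw [mulTab_length, hlen]) rfl
  have hne : l ≠ idTab := by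
    intro e
    rw [e] at ht
    have e1 : h * g * h⁻¹ = 1 := tab_unique ht tab_one
    have e2 : g = 1 := by
      calc g = h⁻¹ * (h * g * h⁻¹) * h := by group
        _ = 1 := by rw [e1]; group
    rw [e2, orderOf_one] at hord
    omega
  have hok := List.all_eq_true.mp syl24_invol l hl
  rw [involOK] at hok
  simp only [Bool.or_eq_true, Bool.not_eq_true', List.any_eq_true, Bool.and_eq_true,
    tabBeq_iff] at hok
  rcases hok with (h1 | h2) | ⟨td, htd, e1, e2⟩
  · rw [(tabBeq_iff _ _).mpr hll] at h1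
    exact absurd h1 (by decide)
  · exact absurd h2 hne
  · have hd := List.all_eq_true.mp syl24Conj_ok td htd
    obtain ⟨hok, hmem⟩ := m24TabOK_spec hd
    have tδ := tab_permOfTab td.2 hok
    have lenδ := (tabOK_spec hok).1
    refine ⟨permOfTab td.2 hok * h, M24.mul_mem hmem hh, ?_⟩
    have a1 := tδ.mul ht hlen
    have key : ∀ ρ : Equiv.Perm GolayPt, permOfTab td.2 hok * (h * g * h⁻¹) = ρ * permOfTab td.2 hok →
        permOfTab td.2 hok * h * g * (permOfTab td.2 hok * h)⁻¹ = ρ := by
      intro ρ e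
      calc permOfTab td.2 hok * h * g * (permOfTab td.2 hok * h)⁻¹
          = (permOfTab td.2 hok * (h * g * h⁻¹)) * (permOfTab td.2 hok)⁻¹ := by group
        _ = ρ := by rw [e]; group
    rcases e2 with e2 | e2
    · left
      apply key
      rw [e2] at a1
      exact tab_unique a1 (octInv_tab.mul tδ lenδ)
    · right
      apply key
      rw [e2] at a1
      exact tab_unique a1 (fpfInv_tab.mul tδ lenδ)

theorem fpf_conj_iff (k g : Equiv.Perm GolayPt) :
    (∀ p, (k * g * k⁻¹) p ≠ p) ↔ ∀ p, g p ≠ p := by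
  constructor
  · intro h p e
    apply h (k p)
    rw [conj_apply, e]
  · intro h p e
    apply h (k⁻¹ p)
    have := conj_apply k g (k⁻¹ p)
    rw [show k (k⁻¹ p) = p by simp, e] at this
    apply k.injective
    rw [← this]
    simp

theorem octInv_not_fpf : ¬ ∀ p, octInv p ≠ p := by
  intro h
  have hmem : pt 0 ∈ (Finset.univ.filter fun p => octInv p = p) := by
    rw [octInv_fix, mem_ofMask, idx_pt 0 (by norm_num)]
    decide
  exact h (pt 0) (Finset.mem_filter.mp hmem).2

/-- A refined form: the representative is determined by the presence of fixed points. -/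
theorem conj_rep' {g : Equiv.Perm GolayPt} (hg : g ∈ M24) (hord : orderOf g = 2) :
    ∃ k ∈ M24, ((¬ ∀ p, g p ≠ p) ∧ k * g * k⁻¹ = octInv) ∨ ((∀ p, g p ≠ p) ∧ k * g * k⁻¹ = fpfInv) := by
  obtain ⟨k, hk, e | e⟩ := conj_rep hg hord
  · refine ⟨k, hk, Or.inl ⟨?_, e⟩⟩
    rw [← fpf_conj_iff k g, e]
    exact octInv_not_fpf
  · refine ⟨k, hk, Or.inr ⟨?_, e⟩⟩
    rw [← fpf_conj_iff k g, e]
    exact fpfInv_fix

/-- The automorphism group of the length-24 code built from the squares modulo 23 has exactly two conjugacy classes of involutions: an involution either fixes exactly the eight points of an octad or has no fixed points, both kinds occur, and any two involutions of the same kind are conjugate in the group. -/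
theorem result : (∀ g ∈ Cfsg.M24, orderOf g = 2 → (Finset.univ.filter fun p => g p = p) ∈ Cfsg.octads ∨ ∀ p, g p ≠ p) ∧ (∃ g ∈ Cfsg.M24, orderOf g = 2 ∧ (Finset.univ.filter fun p => g p = p) ∈ Cfsg.octads) ∧ (∃ g ∈ Cfsg.M24, orderOf g = 2 ∧ ∀ p, g p ≠ p) ∧ ∀ g ∈ Cfsg.M24, ∀ h ∈ Cfsg.M24, orderOf g = 2 → orderOf h = 2 → ((∀ p, g p ≠ p) ↔ (∀ p, h p ≠ p)) → ∃ k ∈ Cfsg.M24, k * g * k⁻¹ = h := by
  refine ⟨?_, ⟨octInv, octInv_mem, octInv_order, octInv_fix_mem⟩,
    ⟨fpfInv, fpfInv_mem, fpfInv_order, fpfInv_fix⟩, ?_⟩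
  · intro g hg hord
    obtain ⟨k, hk, ⟨_, e⟩ | ⟨hf, _⟩⟩ := conj_rep' hg hord
    · left
      rw [fix_conj k g, e]
      exact smul_mem_octads (M24.inv_mem hk) octInv_fix_mem
    · exact Or.inr hf
  · intro g hg h hh hog hoh hiff
    obtain ⟨k1, hk1, c1⟩ := conj_rep' hg hog
    obtain ⟨k2, hk2, c2⟩ := conj_rep' hh hoh
    refine ⟨k2⁻¹ * k1, M24.mul_mem (M24.inv_mem hk2) hk1, ?_⟩
    have key : k1 * g * k1⁻¹ = k2 * h * k2⁻¹ := by
      rcases c1 with ⟨f1, e1⟩ | ⟨f1, e1⟩ <;> rcases c2 with ⟨f2, e2⟩ | ⟨f2, e2⟩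
      · rw [e1, e2]
      · exact absurd (hiff.mpr f2) f1
      · exact absurd (hiff.mp f1) f2
      · rw [e1, e2]
    calc k2⁻¹ * k1 * g * (k2⁻¹ * k1)⁻¹ = k2⁻¹ * (k1 * g * k1⁻¹) * k2 := by group
      _ = h := by rw [key]; group

end Cfsg.Agent.S5394
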