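import Cfsg.Statements.S5170
import Mathlib
import Cfsg.Agent.S2882
import Cfsg.Agent.S5394
import Cfsg.Agent.S5339
import Cfsg.Agent.Lib.Helper84.GrpFus
import Cfsg.Agent.Lib.Helper88.GL23Fusion

set_option autoImplicit false
open Cfsg

open scoped Pointwise

namespace Cfsg.Agent.S5170

open Cfsg.Agent.Helper7 Cfsg.Agent.Helper91 Cfsg.Agent.Helper88.GL23Fusion

/-- the table has no fixed point -/
def fpfTab (l : List ℕ) : Bool := (List.range 24).all fun i => !(Nat.beq (l.getD i 0) i)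

/-- the table is a non-identity involution in the list `L`, of the kind `b` -/
def invOK (b : Bool) (L : List (List ℕ)) (w : List ℕ) : Bool :=
  elemTab w L && tabBeq (mulTab w w) idTab && !(tabBeq w idTab) && (fpfTab w == b)

/-- the product of a list of tables -/
def prodTab : List (List ℕ) → List ℕ
  | [] => idTab
  | w :: ws => mulTab w (prodTab ws)

/-- each generator is the product of the given involutions of kind `b` of `L` -/
def certOK (b : Bool) (L : List (List ℕ)) : List (List ℕ) → List (List (List ℕ)) → Bool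
  | [], [] => true
  | g :: gs, ws :: wss => ws.all (invOK b L) && tabBeq (prodTab ws) g && certOK b L gs wss
  | _, _ => false

/-- words in involutions with fixed points -/
def wordsA : List (List (List ℕ)) :=
  [[[0,1,5,3,19,2,8,7,6,9,13,20,22,10,17,21,16,14,18,4,11,15,12,23], [0,1,2,3,12,5,9,10,16,6,7,22,4,18,14,19,8,17,13,15,21,20,11,23]],
    [[3,23,14,0,4,17,10,7,13,9,6,11,22,8,2,21,16,5,18,19,20,15,12,1], [0,1,2,3,8,5,20,15,4,21,19,13,16,11,14,7,12,17,22,10,6,9,18,23]],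
    [[14,2,1,5,8,3,20,7,4,9,19,13,12,11,0,15,16,23,18,10,6,21,22,17], [5,1,23,3,10,0,11,22,8,12,4,6,9,13,14,21,18,17,16,19,20,15,7,2]],
    [[3,23,14,0,11,17,6,9,8,7,10,4,12,13,2,15,18,5,16,20,19,21,22,1]],
    [[23,1,5,3,6,2,4,7,19,9,11,10,12,20,14,21,18,17,16,8,13,15,22,0], [17,5,3,2,13,1,19,7,11,9,20,8,12,4,23,15,16,0,18,6,10,21,22,14]],
    [[23,3,2,1,20,5,13,7,10,9,8,19,22,6,14,21,16,17,18,11,4,15,12,0], [5,1,23,3,4,0,6,9,19,7,10,11,22,20,14,18,21,17,15,8,13,16,12,2]],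
    [[0,17,2,14,10,5,11,9,8,7,4,6,22,13,3,18,21,1,15,19,20,16,12,23], [23,1,2,3,8,5,19,7,4,9,20,13,22,11,17,15,18,14,16,6,10,21,12,0]],
    [[0,14,2,17,4,5,6,9,20,7,10,11,22,19,1,16,15,3,21,13,8,18,12,23]],
    [[0,17,2,14,10,5,11,9,8,7,4,6,22,13,3,18,21,1,15,19,20,16,12,23]],
    [[0,17,2,14,10,5,11,9,8,7,4,6,22,13,3,18,21,1,15,19,20,16,12,23], [23,1,5,3,6,2,4,7,19,9,11,10,12,20,14,21,18,17,16,8,13,15,22,0]]]

/-- words in fixed-point-free involutions -/
def wordsB : List (List (List ℕ)) :=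
  [[[1,0,14,23,19,17,13,9,10,7,8,20,22,6,2,21,18,5,16,4,11,15,12,3], [1,0,17,23,12,14,7,6,18,10,9,22,4,16,5,19,13,2,8,15,21,20,11,3]],
    [[23,3,5,1,6,2,4,12,20,22,11,10,7,19,17,16,15,14,21,13,8,18,9,0], [1,0,17,23,19,14,8,18,6,16,13,20,15,10,5,12,9,2,7,4,11,22,21,3]],
    [[23,14,5,17,6,2,4,9,13,7,11,10,22,8,1,18,21,3,15,20,19,16,12,0], [17,5,3,2,20,1,8,12,6,22,13,19,7,10,23,16,15,0,21,11,4,18,9,14]],
    [[23,3,5,1,19,2,13,18,10,16,8,20,21,6,17,22,9,14,7,4,11,12,15,0], [1,0,17,23,20,14,13,16,10,18,8,19,21,6,5,22,7,2,9,11,4,12,15,3]],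
    [[1,0,14,23,13,17,19,12,11,22,20,8,7,4,2,16,15,5,21,6,10,18,9,3], [5,14,23,17,10,0,11,12,20,22,4,6,7,19,1,18,21,3,15,13,8,16,9,2]],
    [[23,17,5,14,11,2,10,9,19,7,6,4,22,20,3,16,15,1,21,8,13,18,12,0], [17,5,3,2,10,1,11,18,19,16,4,6,21,20,23,22,9,0,7,8,13,12,15,14], [3,23,14,0,20,17,13,18,10,16,8,19,15,6,2,12,9,5,7,11,4,22,21,1]],
    [[23,17,5,14,11,2,10,9,19,7,6,4,22,20,3,16,15,1,21,8,13,18,12,0], [3,23,17,0,11,14,10,18,13,16,6,4,21,8,5,22,9,2,7,20,19,12,15,1], [3,23,14,0,20,17,13,18,10,16,8,19,15,6,2,12,9,5,7,11,4,22,21,1]],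
    [[2,3,0,1,6,23,4,22,13,12,11,10,9,8,17,21,18,14,16,20,19,15,7,5], [2,17,0,14,6,23,4,12,19,22,11,10,7,20,3,18,21,1,15,8,13,16,9,5]],
    [[2,14,0,17,11,23,10,12,13,22,6,4,7,8,1,16,15,3,21,20,19,18,9,5], [2,3,0,1,6,23,4,22,13,12,11,10,9,8,17,21,18,14,16,20,19,15,7,5]],
    [[23,17,5,14,11,2,10,9,19,7,6,4,22,20,3,16,15,1,21,8,13,18,12,0]]]

theorem certA : certOK false (spanTabs syl24Gens) syl24Gens wordsA = true := by decide +kernel

theorem certB : certOK true (spanTabs syl24Gens) syl24Gens wordsB = true := by decide +kernel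

theorem prodTab_good {H : Subgroup (Equiv.Perm GolayPt)} (ws : List (List ℕ))
    (h : ∀ w ∈ ws, ∃ σ ∈ H, Tab σ w ∧ w.length = 24) :
    ∃ σ ∈ H, Tab σ (prodTab ws) ∧ (prodTab ws).length = 24 := by
  induction ws with
  | nil => exact ⟨1, H.one_mem, tab_one, rfl⟩
  | cons w ws ih =>
    obtain ⟨σ, hσ, t, len⟩ := h w (List.mem_cons_self ..)
    obtain ⟨τ, hτ, t', len'⟩ := ih (fun w' hw' => h w' (List.mem_cons_of_mem _ hw'))
    exact ⟨σ * τ, H.mul_mem hσ hτ, t.mul t' len', by rw [prodTab, mulTab_length, len']⟩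

theorem goodTabs_of_cert {H : Subgroup (Equiv.Perm GolayPt)} (b : Bool) (L : List (List ℕ))
    (hH : ∀ w, invOK b L w = true → ∃ σ ∈ H, Tab σ w ∧ w.length = 24) :
    ∀ (gs : List (List ℕ)) (wss : List (List (List ℕ))), certOK b L gs wss = true →
      GoodTabs H gs := by
  intro gs
  induction gs with
  | nil =>
    intro _ _ l hl
    exact absurd hl List.not_mem_nil
  | cons g gs ih =>
    intro wss hc
    cases wss with
    | nil => simp [certOK] at hc
    | cons ws wss =>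
      rw [certOK, Bool.and_eq_true, Bool.and_eq_true, List.all_eq_true, tabBeq_iff] at hc
      obtain ⟨⟨h1, h2⟩, h3⟩ := hc
      intro l hl
      rw [List.mem_cons] at hl
      rcases hl with rfl | hl
      · rw [← h2]
        exact prodTab_good ws (fun w hw => hH w (h1 w hw))
      · exact ih wss h3 l hl

theorem fpf_iff_of_tab {σ : Equiv.Perm GolayPt} {l : List ℕ} (ht : Tab σ l) :
    (∀ p, σ p ≠ p) ↔ fpfTab l = true := by
  have hb : fpfTab l = true ↔ ∀ i < 24, l.getD i 0 ≠ i := by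
    simp only [fpfTab, List.all_eq_true, List.mem_range, Bool.not_eq_true', ← Bool.not_eq_true,
      Nat.beq_eq]
  rw [hb]
  constructor
  · intro h i hi e
    apply h (pt i)
    rw [Cfsg.Agent.S5394.fix_iff_of_tab ht, idx_pt i hi]
    exact e
  · intro h p e
    rw [Cfsg.Agent.S5394.fix_iff_of_tab ht] at e
    exact h _ (idx_lt p) e

/-- The 2-fusion system of the Mathieu group M₂₄ (as the explicit permutation group of the 24 points preserving the binary Golay code) on a Sylow 2-subgroup is simple: saturated, over a nontrivial 2-group, with no normal subsystem other than the trivial one and itself. -/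
theorem result (S : Sylow 2 Cfsg.M24) : (Cfsg.groupFusionSystem (S : Subgroup Cfsg.M24)).IsSimple 2 := by
  have : Fact (Nat.Prime 2) := ⟨Nat.prime_two⟩
  -- `S` is a conjugate of the explicit Sylow 2-subgroup `P0`
  have hP : IsPGroup 2 ↥Cfsg.Agent.S2882.P0 := IsPGroup.of_card Cfsg.Agent.S2882.card_P0
  obtain ⟨Q, hPQ⟩ := hP.exists_le_sylow
  have hfac : (Nat.card ↥M24).factorization 2 ≤ 10 := by
    by_contra hlt
    push Not at hlt
    have h : 2 ^ 11 ∣ Nat.card ↥M24 := (pow_dvd_pow 2 hlt).trans (Nat.ordProj_dvd _ 2)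
    rw [card_M24] at h
    revert h
    decide
  have hQ : Cfsg.Agent.S2882.P0 = (Q : Subgroup ↥M24) :=
    Subgroup.eq_of_le_of_card_ge hPQ (by
      rw [Q.card_eq_multiplicity, Cfsg.Agent.S2882.card_P0]
      exact Nat.pow_le_pow_right (by norm_num) hfac)
  obtain ⟨c, hc⟩ := MulAction.exists_smul_eq ↥M24 Q S
  have hSmem : ∀ x : ↥M24, x ∈ (S : Subgroup ↥M24) ↔ c⁻¹ * x * c ∈ Cfsg.Agent.S2882.P0 := by
    intro x
    rw [← hc, Sylow.coe_subgroup_smul, Subgroup.mem_pointwise_smul_iff_inv_smul_mem, hQ]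
    simp [MulAut.smul_def]
  have hNS : ∀ g : ↥M24, (∀ x ∈ (S : Subgroup ↥M24), g * x * g⁻¹ ∈ (S : Subgroup ↥M24)) →
      g ∈ (S : Subgroup ↥M24) := by
    intro g hg
    have hN := Cfsg.Agent.S2882.result S
    rw [← hN, Subgroup.mem_normalizer_iff]
    intro h
    constructor
    · exact hg h
    · intro hh
      have := mem_normalizer_of_conj_mem (S : Subgroup ↥M24) g hg _ hh
      have e : g⁻¹ * (g * h * g⁻¹) * g = h := by group
      rwa [e] at this
  apply Cfsg.Agent.S5339.result 2 S.isPGroup' _ (Cfsg.Agent.Helper84.gfs_saturated S)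
  · exact Sylow.ne_bot_of_dvd_card S (by rw [card_M24]; decide)
  · apply le_antisymm
    · unfold FusionSystem.autGroup
      rw [Subgroup.closure_le]
      rintro α ⟨-, -, g, hg⟩
      have hgS : g ∈ (S : Subgroup ↥M24) := by
        apply hNS
        intro x hx
        have := hg ⟨x, hx⟩
        rw [← this]
        exact (α ⟨x, hx⟩).2
      refine ⟨⟨g, hgS⟩, ?_⟩
      refine MulEquiv.ext fun x => Subtype.ext ?_
      exact (hg x).symm
    · rintro _ ⟨s, rfl⟩
      apply Subgroup.subset_closure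
      exact ⟨le_rfl, fun x => (MulAut.conj s x).2, (s : ↥M24), fun x => rfl⟩
  · intro T hT
    by_cases hb : T = ⊥
    · left; exact hb
    · right
      have hclosed : ∀ {x : ↥M24}, x ∈ T → ∀ g : ↥M24, g * x * g⁻¹ ∈ (S : Subgroup ↥M24) →
          g * x * g⁻¹ ∈ T :=
        fun {x} hx g hg => conj_mem_of_stronglyClosed S hT (x := x) hx g hg
      have hTS : T ≤ (S : Subgroup ↥M24) := hT.1
      obtain ⟨x, hxT, hx1⟩ : ∃ x ∈ T, x ≠ 1 := by
        by_contra h
        push Not at h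
        exact hb ((Subgroup.eq_bot_iff_forall T).2 h)
      have hx2 : ∃ k : ℕ, orderOf x = 2 ^ k := by
        obtain ⟨k, hk⟩ := (IsPGroup.iff_orderOf.1 S.isPGroup') ⟨x, hTS hxT⟩
        exact ⟨k, by rw [← hk]; exact (Subgroup.orderOf_mk x _).symm⟩
      obtain ⟨m, hm⟩ := exists_pow_order_two hx1 hx2
      have ht0T : x ^ m ∈ T := T.pow_mem hxT m
      set t0 : ↥M24 := x ^ m with ht0
      have ht0ord : orderOf (t0 : Equiv.Perm GolayPt) = 2 := by
        rw [Subgroup.orderOf_coe]; exact hm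
      have key : ∀ (b : Bool) (wss : List (List (List ℕ))),
          ((∀ p, (t0 : Equiv.Perm GolayPt) p ≠ p) ↔ b = true) →
          certOK b (spanTabs syl24Gens) syl24Gens wss = true → T = (S : Subgroup ↥M24) := by
        intro b wss hbt hcert
        let T' : Subgroup ↥M24 := T.comap (MulAut.conj c).toMonoidHom
        have hT' : ∀ y : ↥M24, y ∈ T' ↔ c * y * c⁻¹ ∈ T := fun y => Iff.rfl
        let H : Subgroup (Equiv.Perm GolayPt) := T'.map M24.subtype
        have hH : ∀ w, invOK b (spanTabs syl24Gens) w = true →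
            ∃ σ ∈ H, Tab σ w ∧ w.length = 24 := by
          intro w hw
          rw [invOK, Bool.and_eq_true, Bool.and_eq_true, Bool.and_eq_true, elemTab_iff,
            tabBeq_iff] at hw
          obtain ⟨⟨⟨hwL, hsq⟩, hne⟩, hfp⟩ := hw
          have hne' : w ≠ idTab := by
            intro e
            rw [(tabBeq_iff _ _).2 e] at hne
            exact absurd hne (by decide)
          obtain ⟨σ, hσ, tσ, len⟩ := goodTabs_spanTabs Cfsg.Agent.S2882.gens_good w hwL
          have hσP : (⟨σ, hσ⟩ : ↥M24) ∈ Cfsg.Agent.S2882.P0 := by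
            rw [mem_tabSubgroup]
            exact ⟨w, by rw [← syl24_eq]; exact hwL, tσ⟩
          have hσ2 : orderOf σ = 2 := Cfsg.Agent.S5394.orderOf_of_tab tσ len hsq hne'
          have hσf : (∀ p, σ p ≠ p) ↔ b = true := by
            rw [fpf_iff_of_tab tσ]
            rw [beq_iff_eq] at hfp
            rw [hfp]
          have hyS : c * ⟨σ, hσ⟩ * c⁻¹ ∈ (S : Subgroup ↥M24) := by
            rw [hSmem]
            have e : c⁻¹ * (c * ⟨σ, hσ⟩ * c⁻¹) * c = ⟨σ, hσ⟩ := by group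
            rw [e]; exact hσP
          have hy2 : orderOf ((c : Equiv.Perm GolayPt) * σ * (c : Equiv.Perm GolayPt)⁻¹) = 2 := by
            have := (MulAut.conj (c : Equiv.Perm GolayPt)).orderOf_eq σ
            rw [MulAut.conj_apply] at this
            rw [this]; exact hσ2
          have hyf : (∀ p, ((c : Equiv.Perm GolayPt) * σ * (c : Equiv.Perm GolayPt)⁻¹) p ≠ p) ↔
              (∀ p, σ p ≠ p) := Cfsg.Agent.S5394.fpf_conj_iff (c : Equiv.Perm GolayPt) σ
          obtain ⟨k, hk, hkt⟩ := Cfsg.Agent.S5394.result.2.2.2 (t0 : Equiv.Perm GolayPt) t0.2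
            ((c : Equiv.Perm GolayPt) * σ * (c : Equiv.Perm GolayPt)⁻¹)
            (M24.mul_mem (M24.mul_mem c.2 hσ) (M24.inv_mem c.2)) ht0ord hy2 (by rw [hbt, hyf, hσf])
          have hyT : c * ⟨σ, hσ⟩ * c⁻¹ ∈ T := by
            have e : c * ⟨σ, hσ⟩ * c⁻¹ = ⟨k, hk⟩ * t0 * (⟨k, hk⟩ : ↥M24)⁻¹ := Subtype.ext hkt.symm
            rw [e]; apply hclosed ht0T; rw [← e]; exact hyS
          exact ⟨σ, ⟨⟨σ, hσ⟩, hyT, rfl⟩, tσ, len⟩
        have hgoodH : GoodTabs H syl24Gens := goodTabs_of_cert b _ hH syl24Gens wss hcert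
        have hgoodH' := goodTabs_spanTabs hgoodH
        have hPT : ∀ y ∈ Cfsg.Agent.S2882.P0, c * y * c⁻¹ ∈ T := by
          intro y hy
          rw [mem_tabSubgroup] at hy
          obtain ⟨l, hl, tl⟩ := hy
          rw [← syl24_eq] at hl
          obtain ⟨σ, hσH, tσ, -⟩ := hgoodH' l hl
          have e : σ = (y : Equiv.Perm GolayPt) := tab_unique tσ tl
          obtain ⟨z, hz, hzσ⟩ := hσH
          have hzy : z = y := Subtype.ext (hzσ.trans e)
          rw [← hzy]; exact hz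
        apply le_antisymm hTS
        intro s hs
        have h1 := hPT _ ((hSmem s).1 hs)
        have e : c * (c⁻¹ * s * c) * c⁻¹ = s := by group
        rwa [e] at h1
      by_cases hf : ∀ p, (t0 : Equiv.Perm GolayPt) p ≠ p
      · exact key true wordsB (by simp [hf]) certB
      · exact key false wordsA (by simp [hf]) certA

end Cfsg.Agent.S5170
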