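import Cfsg.Statements.S5178
import Mathlib
import Cfsg.Agent.Lib.Helper87.ExtraspecialCenter

set_option autoImplicit false
universe u
open Cfsg
open Cfsg.FusionSystem Cfsg.Agent.Helper87

namespace Cfsg.Agent.S5178

/-- Let p be an odd prime, S a finite p-group containing an extraspecial subgroup Q of index p, and F a saturated fusion system over S whose largest subgroup normal in F is trivial. Then the centre of S equals the centre of Q. -/
theorem result {Ω : Type u} [Group Ω] {S : Subgroup Ω} [Finite S] (p : ℕ) [Fact p.Prime] (hp : Odd p) (hS : IsPGroup p S)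
    (Q : Subgroup Ω) (hQS : Q ≤ S) (hQ : Cfsg.IsExtraspecial p ↥Q) (hQi : (Q.subgroupOf S).index = p)
    (F : Cfsg.FusionSystem S) (hF : F.IsSaturated p) (hO : F.core = ⊥) :
    S ⊓ Subgroup.centralizer (S : Set Ω) = Q ⊓ Subgroup.centralizer (Q : Set Ω) := by
  have hp2 : p ≠ 2 := by
    rintro rfl
    exact absurd hp (by decide)
  have hcard : Nat.card S = p * Nat.card Q := by
    have h1 := Subgroup.card_mul_index (Q.subgroupOf S)
    rw [hQi, Nat.card_congr (Subgroup.subgroupOfEquivOfLe hQS).toEquiv] at h1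
    rw [← h1, mul_comm]
  have hn : (Q.subgroupOf S).Normal :=
    Cfsg.Agent.Helper63.normal_of_index_eq_prime hS (Q.subgroupOf S) hQi
  have hQn : ∀ s ∈ S, ∀ q ∈ Q, s * q * s⁻¹ ∈ Q := by
    intro s hs q hq
    have h1 : (⟨q, hQS hq⟩ : S) ∈ Q.subgroupOf S := Subgroup.mem_subgroupOf.2 hq
    have h2 := hn.conj_mem _ h1 ⟨s, hs⟩
    rw [Subgroup.mem_subgroupOf] at h2
    simpa using h2
  exact zS_eq_of_extraspecial_index hS hp2 hF hO hQS (esData_of_isExtraspecial hQ) hcard hQn

end Cfsg.Agent.S5178
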