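import Cfsg.Statements.S5185
import Cfsg.Agent.Lib.Helper83.ElemAbSL2
import Cfsg.Agent.Lib.Helper84.GrpBasic

set_option autoImplicit false
universe u
open Cfsg

namespace Cfsg.Agent.S5185

open Cfsg.Agent.Helper83

/-- Let F be a saturated fusion system over a finite p-group S and H an essential subgroup of order p². Then H is elementary abelian (isomorphic to C_p × C_p) and its F-automorphism group contains a subgroup isomorphic to SL(2,p). -/
theorem result {Ω : Type u} [Group Ω] {S : Subgroup Ω} [Finite S] (p : ℕ) [Fact p.Prime] (hS : IsPGroup p S)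
    (F : Cfsg.FusionSystem S) (hF : F.IsSaturated p) (H : Subgroup Ω) (hH : F.IsEssential p H) (hcard : Nat.card H = p ^ 2) :
    Cfsg.IsElementaryAbelian p H ∧
      ∃ K : Subgroup ↥(F.autGroup H), Nonempty (↥K ≃* Matrix.SpecialLinearGroup (Fin 2) (ZMod p)) := by
  have hp : p.Prime := Fact.out
  obtain ⟨hcen, hfn, hnorm, E, hE⟩ := hH
  have hHS : H ≤ S := hcen.1
  haveI : Finite H := Finite.of_injective (Subgroup.inclusion hHS) (Subgroup.inclusion_injective hHS)
  -- `H` is abelian
  have hcomm : ∀ a b : H, a * b = b * a := fun a b =>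
    (IsPGroup.commutative_of_card_eq_prime_sq hcard) a b
  -- `Inn H = ⊥`
  have hInn : Inn H = ⊥ := by
    rw [eq_bot_iff]
    rintro _ ⟨h, rfl⟩
    rw [Subgroup.mem_bot]
    ext x
    simp only [MulAut.conj_apply, MulAut.one_apply]
    rw [hcomm h x, mul_inv_cancel_right]
  set A := F.autGroup H with hA
  have hN : (Inn H).subgroupOf A = ⊥ := by rw [hInn, Subgroup.bot_subgroupOf]
  -- normal `p`-subgroups of `A` are trivial
  have hOp : ∀ M : Subgroup A, M.Normal → IsPGroup p M → M = ⊥ := by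
    intro M hMn hMp
    have hMbar : (M.map (QuotientGroup.mk' ((Inn H).subgroupOf A))).Normal :=
      hMn.map _ (QuotientGroup.mk'_surjective _)
    have hMbarp : IsPGroup p (M.map (QuotientGroup.mk' ((Inn H).subgroupOf A))) := hMp.map _
    have := Cfsg.Agent.Helper84.normal_pSubgroup_eq_bot_of_stronglyPEmbedded hE _ hMbarp
    rw [Subgroup.map_eq_bot_iff, QuotientGroup.ker_mk', hN] at this
    exact le_bot_iff.1 this
  -- `p` divides `|A|`
  have hdvd : p ∣ Nat.card A := hE.1.trans (Subgroup.card_quotient_dvd_card _)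
  obtain ⟨σ, hσ⟩ := exists_prime_orderOf_dvd_card' p hdvd
  have hσ1 : σ ≠ 1 := by
    rintro rfl
    rw [orderOf_one] at hσ
    exact hp.one_lt.ne hσ
  have hσp : σ ^ p = 1 := by rw [← hσ]; exact pow_orderOf_eq_one σ
  -- `⟨σ⟩` is not normal
  have hnn : ¬ (Subgroup.zpowers σ).Normal := by
    intro hn
    have hpg : IsPGroup p (Subgroup.zpowers σ) := by
      apply IsPGroup.of_card (n := 1)
      rw [Nat.card_zpowers, hσ, pow_one]
    have := hOp _ hn hpg
    rw [Subgroup.zpowers_eq_bot] at this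
    exact hσ1 this
  -- `H` is not cyclic
  have hnc : ¬ IsCyclic H := by
    intro hc
    apply hnn
    refine ⟨fun n hn g => ?_⟩
    have : g * n = n * g := by
      apply Subtype.ext
      exact mulAut_comm_of_isCyclic (g : MulAut H) (n : MulAut H)
    rw [this, mul_inv_cancel_right]
    exact hn
  have hexp : ∀ h : H, h ^ p = 1 := pow_prime_eq_one_of_card_sq hcard hnc
  refine ⟨⟨⟨⟨hcomm⟩⟩, ?_⟩, ?_⟩
  · intro a ha
    have := hexp ⟨a, ha⟩
    exact congrArg Subtype.val this
  -- a second element of order `p`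
  have hτ : ∃ τ : A, τ ^ p = 1 ∧ τ ∉ Subgroup.zpowers σ := by
    by_contra hall
    push Not at hall
    apply hnn
    refine ⟨fun n hn g => ?_⟩
    obtain ⟨k, rfl⟩ := hn
    rw [← conj_zpow]
    apply Subgroup.zpow_mem
    apply hall
    rw [conj_pow, hσp, mul_one, mul_inv_cancel]
  obtain ⟨τ, hτp, hτσ⟩ := hτ
  obtain ⟨ψ, hψinj, hψle⟩ := exists_sl2_hom' hcomm hexp hcard A σ.2 τ.2
    (show (σ : MulAut H) ^ p = 1 from congrArg Subtype.val hσp)
    (fun h => hσ1 (Subtype.ext h))
    (show (τ : MulAut H) ^ p = 1 from congrArg Subtype.val hτp)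
    (by
      rintro ⟨k, hk⟩
      apply hτσ
      refine ⟨k, ?_⟩
      apply Subtype.ext
      rw [← hk]
      simp)
  refine ⟨ψ.range.subgroupOf A, ⟨?_⟩⟩
  exact (Subgroup.subgroupOfEquivOfLe hψle).trans (MonoidHom.ofInjective hψinj).symm

end Cfsg.Agent.S5185
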