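import Cfsg.Statements.S5186
import Cfsg.Agent.Lib.Helper83.OrderP3
import Cfsg.Agent.Lib.Helper84.GrpBasic

set_option autoImplicit false
universe u
open Cfsg

namespace Cfsg.Agent.S5186

open Cfsg.Agent.Helper83

/-- Let F be a saturated fusion system over a finite p-group S and H an essential subgroup of order p³. Then H is elementary abelian, or p is odd and H is extraspecial of exponent p, or p = 2 and H is the quaternion group of order 8. -/
theorem result {Ω : Type u} [Group Ω] {S : Subgroup Ω} [Finite S] (p : ℕ) [Fact p.Prime] (hS : IsPGroup p S)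
    (F : Cfsg.FusionSystem S) (hF : F.IsSaturated p) (H : Subgroup Ω) (hH : F.IsEssential p H) (hcard : Nat.card H = p ^ 3) :
    Cfsg.IsElementaryAbelian p H ∨ (Odd p ∧ Cfsg.IsExtraspecial p ↥H ∧ ∀ x ∈ H, x ^ p = 1) ∨
      (p = 2 ∧ Nonempty (↥H ≃* QuaternionGroup 2)) := by
  have hp : p.Prime := Fact.out
  obtain ⟨hcen, hfn, hnorm, E, hE⟩ := hH
  have hHS : H ≤ S := hcen.1
  haveI : Finite H := Finite.of_injective (Subgroup.inclusion hHS) (Subgroup.inclusion_injective hHS)
  have hOp : ∀ M : Subgroup (F.autGroup H ⧸ (Inn H).subgroupOf (F.autGroup H)), M.Normal →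
      IsPGroup p M → M = ⊥ := by
    intro M hMn hMp
    exact Cfsg.Agent.Helper84.normal_pSubgroup_eq_bot_of_stronglyPEmbedded hE M hMp
  have hdvd : p ∣ Nat.card (F.autGroup H ⧸ (Inn H).subgroupOf (F.autGroup H)) := hE.1
  rcases order_p3_classification hcard (F.autGroup H) ((Inn H).subgroupOf (F.autGroup H)) hOp hdvd
    with ⟨hcomm, hexp⟩ | ⟨hp2, hES, hexp⟩ | ⟨hp2, hQ⟩
  · left
    refine ⟨⟨⟨hcomm⟩⟩, ?_⟩
    intro a ha
    exact congrArg Subtype.val (hexp ⟨a, ha⟩)
  · right; left
    refine ⟨?_, hES, ?_⟩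
    · rcases hp.eq_two_or_odd' with h | h
      · exact absurd h hp2
      · exact h
    · intro a ha
      exact congrArg Subtype.val (hexp ⟨a, ha⟩)
  · right; right
    exact ⟨hp2, hQ⟩

end Cfsg.Agent.S5186
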