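import Cfsg.Statements.S5187
import Cfsg.Agent.Lib.Helper83.Homocyclic
import Cfsg.Agent.Lib.Helper84.GrpBasic

set_option autoImplicit false
universe u
open Cfsg

namespace Cfsg.Agent.S5187

open Cfsg.Agent.Helper83

/-- Let F be a saturated fusion system over a finite p-group S and H an abelian essential subgroup that can be generated by two elements (its Frattini quotient has order at most p²). Then H is elementary abelian of order p², or p ≤ 3 and H is homocyclic of rank two, that is isomorphic to C_{pᵏ} × C_{pᵏ} for some k. -/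
theorem result {Ω : Type u} [Group Ω] {S : Subgroup Ω} [Finite S] (p : ℕ) [Fact p.Prime] (hS : IsPGroup p S)
    (F : Cfsg.FusionSystem S) (hF : F.IsSaturated p) (H : Subgroup Ω) (hH : F.IsEssential p H) (hab : IsMulCommutative ↥H) (hrk : (frattini ↥H).index ≤ p ^ 2) :
    (Cfsg.IsElementaryAbelian p H ∧ Nat.card H = p ^ 2) ∨
      (p ≤ 3 ∧ ∃ k : ℕ, Nonempty (↥H ≃* Multiplicative (ZMod (p ^ k) × ZMod (p ^ k)))) := by
  obtain ⟨hcen, hfn, hnorm, E, hE⟩ := hH
  have hHS : H ≤ S := hcen.1
  haveI : Finite H := Finite.of_injective (Subgroup.inclusion hHS) (Subgroup.inclusion_injective hHS)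
  have hHp : IsPGroup p H := hS.to_le hHS
  have hcomm : ∀ a b : H, a * b = b * a := fun a b => hab.is_comm.comm a b
  -- `Inn H = ⊥`
  have hInn : Inn H = ⊥ := by
    rw [eq_bot_iff]
    rintro _ ⟨h, rfl⟩
    rw [Subgroup.mem_bot]
    ext x
    simp only [MulAut.conj_apply, MulAut.one_apply]
    rw [hcomm h x, mul_inv_cancel_right]
  have hN : (Inn H).subgroupOf (F.autGroup H) = ⊥ := by rw [hInn, Subgroup.bot_subgroupOf]
  have hOp : ∀ M : Subgroup (F.autGroup H), M.Normal → IsPGroup p M → M = ⊥ := by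
    intro M hMn hMp
    have hMbar : (M.map (QuotientGroup.mk' ((Inn H).subgroupOf (F.autGroup H)))).Normal :=
      hMn.map _ (QuotientGroup.mk'_surjective _)
    have hMbarp : IsPGroup p (M.map (QuotientGroup.mk' ((Inn H).subgroupOf (F.autGroup H)))) :=
      hMp.map _
    have := Cfsg.Agent.Helper84.normal_pSubgroup_eq_bot_of_stronglyPEmbedded hE _ hMbarp
    rw [Subgroup.map_eq_bot_iff, QuotientGroup.ker_mk', hN] at this
    exact le_bot_iff.1 this
  have hdvd : p ∣ Nat.card (F.autGroup H) := hE.1.trans (Subgroup.card_quotient_dvd_card _)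
  rcases abelian_rank_two_classification' hcomm hHp hrk (F.autGroup H) hOp hdvd with
    ⟨hexp, hcard⟩ | h
  · left
    refine ⟨⟨hab, ?_⟩, hcard⟩
    intro a ha
    exact congrArg Subtype.val (hexp ⟨a, ha⟩)
  · right
    exact h

end Cfsg.Agent.S5187
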