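import Cfsg.Statements.S5188
import Cfsg.Agent.Lib.Helper83.OrderP4
import Cfsg.Agent.Lib.Helper84.GrpBasic

set_option autoImplicit false
universe u
open Cfsg

namespace Cfsg.Agent.S5188

open Cfsg.Agent.Helper83

/-- Let F be a saturated fusion system over a finite p-group S and H an essential subgroup of order p⁴. Then H is isomorphic to one of: C_p⁴ or C_{p²} × C_p × C_p (any p); C_{p²} × C_{p²} with p ∈ {2, 3}; p^{1+2}_+ × C_p with p odd (the direct product of an extraspecial group of order p³ and exponent p with a group of order p); Q₈ × C₂ (p = 2); or the non-abelian group of order p⁴ of exponent p² whose centre is cyclic of order p² (the central product of an extraspecial group of order p³ with a cyclic group of order p²; for p = 2 this is D₈ ∘ C₄). -/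
theorem result {Ω : Type u} [Group Ω] {S : Subgroup Ω} [Finite S] (p : ℕ) [Fact p.Prime] (hS : IsPGroup p S)
    (F : Cfsg.FusionSystem S) (hF : F.IsSaturated p) (H : Subgroup Ω) (hH : F.IsEssential p H) (hcard : Nat.card H = p ^ 4) :
    Cfsg.IsElementaryAbelian p H ∨
      Nonempty (↥H ≃* Multiplicative (ZMod (p ^ 2) × ZMod p × ZMod p)) ∨
      ((p = 2 ∨ p = 3) ∧ Nonempty (↥H ≃* Multiplicative (ZMod (p ^ 2) × ZMod (p ^ 2)))) ∨
      (Odd p ∧ ∃ (E : Type) (_ : Group E) (_ : Finite E), Cfsg.IsExtraspecial p E ∧ Nat.card E = p ^ 3 ∧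
        (∀ x : E, x ^ p = 1) ∧ Nonempty (↥H ≃* E × Multiplicative (ZMod p))) ∨
      (p = 2 ∧ Nonempty (↥H ≃* QuaternionGroup 2 × Multiplicative (ZMod 2))) ∨
      (¬ IsMulCommutative ↥H ∧ (∀ x ∈ H, x ^ (p ^ 2) = 1) ∧ IsCyclic ↥(Subgroup.center ↥H) ∧
        Nat.card (Subgroup.center ↥H) = p ^ 2) := by
  have hp : p.Prime := Fact.out
  obtain ⟨hcen, hfn, hnorm, E, hE⟩ := hH
  have hHS : H ≤ S := hcen.1
  haveI : Finite H := Finite.of_injective (Subgroup.inclusion hHS) (Subgroup.inclusion_injective hHS)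
  have hOp : ∀ M : Subgroup (F.autGroup H ⧸ (Inn H).subgroupOf (F.autGroup H)), M.Normal →
      IsPGroup p M → M = ⊥ := by
    intro M hMn hMp
    exact Cfsg.Agent.Helper84.normal_pSubgroup_eq_bot_of_stronglyPEmbedded hE M hMp
  have hdvd : p ∣ Nat.card (F.autGroup H ⧸ (Inn H).subgroupOf (F.autGroup H)) := hE.1
  have hN : (∀ a b : H, a * b = b * a) → (Inn H).subgroupOf (F.autGroup H) = ⊥ := by
    intro hcomm
    have hInn : Inn H = ⊥ := by
      rw [eq_bot_iff]
      rintro _ ⟨h, rfl⟩
      rw [Subgroup.mem_bot]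
      ext x
      simp only [MulAut.conj_apply, MulAut.one_apply]
      rw [hcomm h x, mul_inv_cancel_right]
    rw [hInn, Subgroup.bot_subgroupOf]
  rcases order_p4_classification hcard (F.autGroup H) ((Inn H).subgroupOf (F.autGroup H)) hOp hdvd hN
    with ⟨hcomm, hexp⟩ | h | h | ⟨hp2, h⟩ | h | ⟨⟨a, b, hab⟩, hexp, hZc, hZ⟩
  · left
    refine ⟨⟨⟨hcomm⟩⟩, ?_⟩
    intro a ha
    exact congrArg Subtype.val (hexp ⟨a, ha⟩)
  · right; left; exact h
  · right; right; left; exact h
  · right; right; right; left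
    refine ⟨?_, h⟩
    rcases hp.eq_two_or_odd' with h2 | h2
    · exact absurd h2 hp2
    · exact h2
  · right; right; right; right; left; exact h
  · right; right; right; right; right
    refine ⟨fun hc => hab (hc.is_comm.comm a b), ?_, hZc, hZ⟩
    intro x hx
    exact congrArg Subtype.val (hexp ⟨x, hx⟩)

end Cfsg.Agent.S5188
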