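import Cfsg.Statements.S5191
import Mathlib

set_option autoImplicit false
open Cfsg

namespace Cfsg.Agent.S5191

open scoped Pointwise

/-- Fusion in a finite group G and in its quotient by O_{p'}(G) agree. -/
theorem result {G : Type*} [Group G] [Finite G] {p : ℕ} [Fact p.Prime]
    [hN : (Cfsg.pPrimeCore p G).Normal] (S : Sylow p G) (P : Subgroup G) (hP : P ≤ (S : Subgroup G))
    (γ : G ⧸ Cfsg.pPrimeCore p G)
    (hγ : ∀ x ∈ P, γ * QuotientGroup.mk x * γ⁻¹ ∈ ((S : Subgroup G).map (QuotientGroup.mk' (Cfsg.pPrimeCore p G)))) :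
    ∃ g : G, ∀ x ∈ P, g * x * g⁻¹ ∈ S ∧
      (QuotientGroup.mk (g * x * g⁻¹) : G ⧸ Cfsg.pPrimeCore p G) = γ * QuotientGroup.mk x * γ⁻¹ := by
  obtain ⟨h, rfl⟩ := QuotientGroup.mk_surjective γ
  set N := Cfsg.pPrimeCore p G with hNdef
  set K : Subgroup G := (S : Subgroup G) ⊔ N with hKdef
  have hSK : (S : Subgroup G) ≤ K := le_sup_left
  have hNK : N ≤ K := le_sup_right
  -- conjugates land in K
  have hK : ∀ x ∈ P, h * x * h⁻¹ ∈ K := by
    intro x hx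
    obtain ⟨s, hs, hs'⟩ := hγ x hx
    have h1 : (QuotientGroup.mk s : G ⧸ N) = QuotientGroup.mk (h * x * h⁻¹) := by
      simpa using hs'
    have h2 : s⁻¹ * (h * x * h⁻¹) ∈ N := QuotientGroup.eq.mp h1
    have h3 : h * x * h⁻¹ = s * (s⁻¹ * (h * x * h⁻¹)) := by group
    rw [h3]
    exact K.mul_mem (hSK hs) (hNK h2)
  -- the conjugate subgroup, inside K
  let Q : Subgroup G := P.map (MulAut.conj h).toMonoidHom
  have hQK : Q ≤ K := by
    rintro _ ⟨x, hx, rfl⟩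
    simpa using hK x hx
  have hPp : IsPGroup p P := S.isPGroup'.to_le hP
  have hQp : IsPGroup p Q := hPp.map _
  have hQKp : IsPGroup p (Q.subgroupOf K) := hQp.comap_subtype
  obtain ⟨R, hR⟩ := hQKp.exists_le_sylow
  let S' : Sylow p K := S.subtype hSK
  obtain ⟨k, hk⟩ := MulAction.exists_smul_eq K S' R
  -- k⁻¹ conjugates Q into S
  have hkQ : ∀ y ∈ Q, (k : G)⁻¹ * y * (k : G) ∈ (S : Subgroup G) := by
    intro y hy
    have hyK : y ∈ K := hQK hy
    have h1 : (⟨y, hyK⟩ : K) ∈ (R : Subgroup K) := hR (by simpa [Subgroup.mem_subgroupOf] using hy)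
    rw [← hk] at h1
    rw [Sylow.coe_subgroup_smul, Subgroup.mem_pointwise_smul_iff_inv_smul_mem] at h1
    have h2 : (MulAut.conj k)⁻¹ • (⟨y, hyK⟩ : K) ∈ (S.subtype hSK : Subgroup K) := h1
    rw [Sylow.coe_subtype, Subgroup.mem_subgroupOf] at h2
    simpa [MulAut.smul_def, MulAut.conj_inv_apply, mul_assoc] using h2
  -- decompose k⁻¹ = s * n
  have hkK : ((k : G)⁻¹) ∈ ((S : Subgroup G) ⊔ N : Subgroup G) := K.inv_mem k.2
  have hmem : ((k : G)⁻¹) ∈ ((S : Subgroup G) : Set G) * (N : Set G) := by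
    rw [← Subgroup.mul_normal]
    exact hkK
  obtain ⟨s, hs, n, hn, hsn⟩ := Set.mem_mul.mp hmem
  refine ⟨n * h, fun x hx => ⟨?_, ?_⟩⟩
  · have hy : h * x * h⁻¹ ∈ Q := ⟨x, hx, by simp⟩
    have h1 := hkQ _ hy
    have hk' : (k : G) = n⁻¹ * s⁻¹ := by
      have : ((k : G)⁻¹)⁻¹ = (s * n)⁻¹ := by rw [hsn]
      simpa using this
    rw [← hsn] at h1
    rw [hk'] at h1
    have h2 : s⁻¹ * (s * n * (h * x * h⁻¹) * (n⁻¹ * s⁻¹)) * s ∈ (S : Subgroup G) :=
      (S : Subgroup G).mul_mem ((S : Subgroup G).mul_mem ((S : Subgroup G).inv_mem hs) h1) hs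
    have h3 : s⁻¹ * (s * n * (h * x * h⁻¹) * (n⁻¹ * s⁻¹)) * s = n * h * x * (n * h)⁻¹ := by group
    rw [h3] at h2
    exact h2
  · have hn' : (QuotientGroup.mk n : G ⧸ N) = 1 := (QuotientGroup.eq_one_iff n).mpr hn
    have h1 : (QuotientGroup.mk (n * h * x * (n * h)⁻¹) : G ⧸ N) =
        QuotientGroup.mk n * (QuotientGroup.mk h * QuotientGroup.mk x * (QuotientGroup.mk h)⁻¹) *
          (QuotientGroup.mk n)⁻¹ := by
      simp [mul_assoc]
    rw [h1, hn']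
    simp only [one_mul, inv_one, mul_one]
    rfl

end Cfsg.Agent.S5191
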