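import Cfsg.Statements.S5192
import Cfsg.Agent.Lib.Helper85.Thompson3
import Cfsg.Agent.Lib.Helper87.FusionFactor
import Cfsg.Agent.Lib.Helper84.FusBasic

set_option autoImplicit false
open Cfsg

namespace Cfsg.Agent.S5192

/-- A Thompson-type transfer for saturated fusion systems. Let F be a saturated fusion system on a finite 2-group S, T a subgroup of S of index 2, and i an involution of S such that every fully normalized F-conjugate of i lies in S but outside T. Then i does not lie in the hyperfocal subgroup of F (the Sylow group of the 2-residual subsystem). -/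
theorem result {Ω : Type*} [Group Ω] [Finite Ω] {S : Subgroup Ω}
    (hS : IsPGroup 2 ↥S) (F : Cfsg.FusionSystem S) (hF : F.IsSaturated 2)
    (T : Subgroup Ω) (hTS : T ≤ S) (hT : T.relIndex S = 2)
    (i : Ω) (hi : i ∈ S) (hi2 : orderOf i = 2)
    (h : ∀ j : Ω, F.IsConjElt i j → F.IsFullyNormalized (Subgroup.zpowers j) → j ∉ T) :
    i ∉ F.hyperfocalSubgroup 2 := by
  have hii : i * i = 1 := by
    have := pow_orderOf_eq_one i
    rw [hi2, pow_two] at this
    exact this
  have hi1 : i ≠ 1 := by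
    intro h1
    rw [h1, orderOf_one] at hi2
    omega
  obtain ⟨t, hst, htu⟩ := Cfsg.Agent.Helper85.thompson_transfer (F := F) hS hF (T.subgroupOf S) hT
    ⟨i, hi⟩ (Subtype.ext hii) (fun h1 => hi1 (congrArg Subtype.val h1))
    (fun v hv hfn hvT => h v hv hfn hvT)
  have hle : F.hyperfocalSubgroup 2 ≤ t.ker.map S.subtype := by
    apply Cfsg.Agent.Helper87.hyperfocal_le
    intro P hP α hα _ x
    have hφ : P.subtype.comp α.toMonoidHom ∈ F.Hom P :=
      (Cfsg.Agent.Helper84.mem_autGroup_iff F hP α).1 hα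
    have h1 := hst P _ hφ x
    refine ⟨⟨(x : Ω), hP x.2⟩⁻¹ * ⟨((α x : P) : Ω), hP (α x).2⟩, ?_, rfl⟩
    rw [SetLike.mem_coe, MonoidHom.mem_ker, map_mul, map_inv]
    have h2 : t ⟨((α x : P) : Ω), hP (α x).2⟩ = t ⟨(x : Ω), hP x.2⟩ := h1
    rw [h2, inv_mul_cancel]
  intro hmem
  obtain ⟨s, hs, hsi⟩ := hle hmem
  have hsu : s = ⟨i, hi⟩ := Subtype.ext hsi
  rw [hsu, SetLike.mem_coe, MonoidHom.mem_ker, htu] at hs
  exact absurd hs (by decide)

end Cfsg.Agent.S5192
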