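import Cfsg.Statements.S5193
import Cfsg.Agent.Lib.Helper86.GlCenD
import Cfsg.Agent.S5144

set_option autoImplicit false
open Cfsg
open Cfsg.FusionSystem Cfsg.Agent.Helper87 Cfsg.Agent.Helper87.GlaubFunctor Cfsg.Agent.Helper87.CenFunctor
  Cfsg.Agent.Helper86.GlCen

namespace Cfsg.Agent.S5193

universe u

/-- a subgroup of a central subgroup is central -/
theorem isCentral_of_le {Ω : Type u} [Group Ω] {S : Subgroup Ω} {F : Cfsg.FusionSystem S} {Q Q' : Subgroup Ω}
    (hQ : F.IsCentral Q) (hle : Q' ≤ Q) : F.IsCentral Q' := by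
  obtain ⟨hQS, hc⟩ := isCentral_iff_cen.1 hQ
  rw [isCentral_iff_cen]
  refine ⟨hle.trans hQS, fun P f hf => ?_⟩
  obtain ⟨g, hg, e, hgQ⟩ := hc P f hf
  exact ⟨g, hg.restrict (sup_le_sup_left hle P), e, fun x hx => hgQ x (hle hx)⟩

/-- a subgroup central in `N_F(J(S))` is fixed by all maps of `F` normalizing `J(S)` -/
theorem nc_of_central {Ω : Type u} [Group Ω] {S : Subgroup Ω} [Finite S] {p : ℕ} [Fact p.Prime]
    (hS : IsPGroup p S) (F : Cfsg.FusionSystem S)
    (N : Cfsg.FusionSystem (Cfsg.FusionSystem.normalizerIn S (WW WJ S)))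
    (hN : F.IsNormalizerSystem (WW WJ S) N) {Z₀ : Subgroup Ω} (hcenN : N.IsCentral Z₀) : NC WJ F Z₀ := by
  have hNS : Cfsg.FusionSystem.normalizerIn S (WW WJ S) = S := pos_normalizerIn_top (isPos_WJ.{u} p) hS
  have hXS : WW WJ S ≤ S := WW_le WJ S
  obtain ⟨hZN, hcen⟩ := isCentral_iff_cen.1 hcenN
  have hZS : Z₀ ≤ S := hZN.trans inf_le_left
  refine ⟨hZS, fun P f hf hXP hfX => ?_⟩
  have hI : Iso F (WW WJ S) (WW WJ S) f := iso_of_card_le (hf.restrict hXP) hXS hfX le_rfl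
  have hmorN : Mor N P f := by
    rw [mor_normalizerSystem_iff hN]
    refine ⟨hf, hNS.symm ▸ hf.le, fun x hx => hNS.symm ▸ hf.mem hx, f, ?_,
      fun _ _ => rfl, hI.2⟩
    rw [sup_eq_left.2 hXP]
    exact hf
  obtain ⟨g, hg, e, hgZ⟩ := hcen P f hmorN
  exact ⟨g, ((mor_normalizerSystem_iff hN).1 hg).1, e, hgZ⟩

/-- a subgroup central in `F` is central in `N_F(J(S))` -/
theorem central_normalizer_of_central {Ω : Type u} [Group Ω] {S : Subgroup Ω} [Finite S] {p : ℕ} [Fact p.Prime]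
    (hS : IsPGroup p S) (F : Cfsg.FusionSystem S)
    (N : Cfsg.FusionSystem (Cfsg.FusionSystem.normalizerIn S (WW WJ S)))
    (hN : F.IsNormalizerSystem (WW WJ S) N) {Z₀ : Subgroup Ω} (hcenF : F.IsCentral Z₀) : N.IsCentral Z₀ := by
  have hNS : Cfsg.FusionSystem.normalizerIn S (WW WJ S) = S := pos_normalizerIn_top (isPos_WJ.{u} p) hS
  obtain ⟨hZS, hcen⟩ := isCentral_iff_cen.1 hcenF
  have hZN : Z₀ ≤ Cfsg.FusionSystem.normalizerIn S (WW WJ S) := hNS.symm ▸ hZS
  rw [isCentral_iff_cen]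
  refine ⟨hZN, fun P f hf => ?_⟩
  obtain ⟨hfF, hPT, hfT, g, hg, eg, hgX⟩ := (mor_normalizerSystem_iff hN).1 hf
  obtain ⟨gh, hgh, egh, hghZ⟩ := hcen _ _ hg
  have hle1 : P ⊔ Z₀ ≤ (P ⊔ WW WJ S) ⊔ Z₀ := sup_le_sup_right le_sup_left Z₀
  have hle2 : (P ⊔ Z₀) ⊔ WW WJ S ≤ (P ⊔ WW WJ S) ⊔ Z₀ :=
    sup_le hle1 ((le_sup_right : WW WJ S ≤ P ⊔ WW WJ S).trans le_sup_left)
  refine ⟨gh, ?_, fun x hx => ?_, hghZ⟩
  · rw [mor_normalizerSystem_iff hN]
    refine ⟨hgh.restrict hle1, sup_le hPT hZN,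
      fun x hx => hNS.symm ▸ (hgh.restrict hle1).mem hx, gh, hgh.restrict hle2,
      fun _ _ => rfl, fun y => ?_⟩
    constructor
    · intro hy
      obtain ⟨x, hx, rfl⟩ := (hgX y).1 hy
      exact ⟨x, hx, egh x ((le_sup_right : WW WJ S ≤ P ⊔ WW WJ S) hx)⟩
    · rintro ⟨x, hx, rfl⟩
      rw [egh x ((le_sup_right : WW WJ S ≤ P ⊔ WW WJ S) hx)]
      exact (hgX _).2 ⟨x, hx, rfl⟩
  · rw [egh x ((le_sup_left : P ≤ P ⊔ WW WJ S) hx), eg x hx]

/-- the elements of the subgroup generated by the `p`-th powers of the elements of an abelian subgroup are `p`-th powers -/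
theorem exists_pow_of_mem_closure {Ω : Type u} [Group Ω] (S : Subgroup Ω) (p : ℕ) {z : Ω}
    (hz : z ∈ Subgroup.closure ((fun z : Ω => z ^ p) ''
      ((S ⊓ Subgroup.centralizer (S : Set Ω) : Subgroup Ω) : Set Ω))) :
    ∃ w ∈ S ⊓ Subgroup.centralizer (S : Set Ω), w ^ p = z := by
  induction hz using Subgroup.closure_induction with
  | mem y hy =>
    obtain ⟨w, hw, rfl⟩ := hy
    exact ⟨w, hw, rfl⟩
  | one => exact ⟨1, Subgroup.one_mem _, one_pow p⟩
  | mul a b _ _ iha ihb =>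
    obtain ⟨w₁, hw₁, rfl⟩ := iha
    obtain ⟨w₂, hw₂, rfl⟩ := ihb
    refine ⟨w₁ * w₂, Subgroup.mul_mem _ hw₁ hw₂, ?_⟩
    have hc : Commute w₁ w₂ := (Subgroup.mem_centralizer_iff.1 hw₂.2 w₁ hw₁.1)
    exact hc.mul_pow p
  | inv a _ iha =>
    obtain ⟨w, hw, rfl⟩ := iha
    exact ⟨w⁻¹, Subgroup.inv_mem _ hw, inv_pow w p⟩

/-- Glauberman's Theorem for fusion systems. Let F be a saturated fusion system over a finite p-group S, let J(S) be the subgroup generated by the abelian subgroups of S of largest order, and let N be the normalizer fusion system of J(S) in F (a fusion system over N_S(J(S)) = S). Then every p-th power of an element of Z(S) that lies in the centre of N lies in the centre of F; and if p is odd, or if the symmetric group of degree 4 is not involved in any model of the normalizer system of a fully normalized F-centric subgroup (F is S₄-free), then the centre of N equals the centre of F. -/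
theorem result {Ω : Type*} [Group Ω] {S : Subgroup Ω} [Finite S] (p : ℕ) [Fact p.Prime] (hS : IsPGroup p S) (F : Cfsg.FusionSystem S) (hF : F.IsSaturated p) (N : Cfsg.FusionSystem (Cfsg.FusionSystem.normalizerIn S (Cfsg.thompsonSubgroupAOf S))) (hN : F.IsNormalizerSystem (Cfsg.thompsonSubgroupAOf S) N) : Subgroup.closure ((fun z : Ω => z ^ p) '' ((S ⊓ Subgroup.centralizer (S : Set Ω) : Subgroup Ω) : Set Ω)) ⊓ N.center ≤ F.center ∧ (p ≠ 2 ∨ F.IsSectionFree p (Equiv.Perm (Fin 4)) → N.center = F.center) := by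
  have : Finite ↥(Cfsg.FusionSystem.normalizerIn S (Cfsg.thompsonSubgroupAOf S)) :=
    finite_of_le (inf_le_left : Cfsg.FusionSystem.normalizerIn S (Cfsg.thompsonSubgroupAOf S) ≤ S)
  have key : ∀ Z₀ : Subgroup Ω, Good p F Z₀ → N.IsCentral Z₀ → F.IsCentral Z₀ := by
    intro Z₀ hG hcenN
    exact main' (Cfsg.Agent.Helper87.CenMain.nu F) Ω S F rfl hS hF Z₀ hG (nc_of_central hS F N hN hcenN)
  constructor
  · apply le_sSup
    show F.IsCentral _
    apply key
    · exact Or.inr (Or.inl (fun z hz => exists_pow_of_mem_closure S p hz.1))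
    · exact isCentral_of_le (Cfsg.Agent.S5144.result N) inf_le_right
  · intro h
    have hG : ∀ Z₀ : Subgroup Ω, Good p F Z₀ := fun Z₀ => h.elim Or.inl (fun h' => Or.inr (Or.inr h'))
    unfold Cfsg.FusionSystem.center
    congr 1
    ext Z₀
    exact ⟨fun hc => key Z₀ (hG Z₀) hc, fun hc => central_normalizer_of_central hS F N hN hc⟩

end Cfsg.Agent.S5193
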