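import Cfsg.Statements.S5196
import Cfsg.Agent.Lib.Helper87.CenMain

set_option autoImplicit false
universe u
open Cfsg
open Cfsg.FusionSystem Cfsg.Agent.Helper87 Cfsg.Agent.Helper87.GlaubFunctor Cfsg.Agent.Helper87.CenFunctor

namespace Cfsg.Agent.S5196

/-- the centre of the normalizer system of `W(S)` is the centre of the system -/
theorem center_eq {p : ℕ} [Fact p.Prime] {W : ∀ (Q : Type u) [Group Q], Subgroup Q}
    (hW : Cfsg.Agent.Helper87.CenFunctor.IsPos p W)
    (hC : ∀ (G : Type u) [Group G] [Finite G] (P : Sylow p G),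
      Cfsg.pCore p G ⊓ Subgroup.center G = Cfsg.pCore p G ⊓
        (Subgroup.center ↥(Subgroup.normalizer
          (((W ↥(P : Subgroup G)).map (P : Subgroup G).subtype : Subgroup G) : Set G))).map
          (Subgroup.normalizer
            (((W ↥(P : Subgroup G)).map (P : Subgroup G).subtype : Subgroup G) : Set G)).subtype)
    {Ω : Type u} [Group Ω] {S : Subgroup Ω} [Finite S] (hS : IsPGroup p S)
    (F : Cfsg.FusionSystem S) (hF : F.IsSaturated p)
    (N : Cfsg.FusionSystem (Cfsg.FusionSystem.normalizerIn S (WW W S)))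
    (hN : F.IsNormalizerSystem (WW W S) N) : N.center = F.center := by
  have hNS : Cfsg.FusionSystem.normalizerIn S (WW W S) = S := pos_normalizerIn_top hW hS
  have hXS : WW W S ≤ S := WW_le W S
  have key : ∀ Z₀ : Subgroup Ω, N.IsCentral Z₀ ↔ F.IsCentral Z₀ := by
    intro Z₀
    constructor
    · intro hcenN
      obtain ⟨hZN, hcen⟩ := isCentral_iff_cen.1 hcenN
      have hZS : Z₀ ≤ S := hZN.trans inf_le_left
      have hNC : NC W F Z₀ := by
        refine ⟨hZS, fun P f hf hXP hfX => ?_⟩
        have hI : Iso F (WW W S) (WW W S) f := iso_of_card_le (hf.restrict hXP) hXS hfX le_rfl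
        have hmorN : Mor N P f := by
          rw [mor_normalizerSystem_iff hN]
          refine ⟨hf, hNS.symm ▸ hf.le, fun x hx => hNS.symm ▸ hf.mem hx, f, ?_,
            fun _ _ => rfl, hI.2⟩
          rw [sup_eq_left.2 hXP]
          exact hf
        obtain ⟨g, hg, e, hgZ⟩ := hcen P f hmorN
        exact ⟨g, ((mor_normalizerSystem_iff hN).1 hg).1, e, hgZ⟩
      exact Cfsg.Agent.Helper87.CenMain.main hW hC (Cfsg.Agent.Helper87.CenMain.nu F) Ω S F rfl
        hS hF Z₀ hNC
    · intro hcenF
      obtain ⟨hZS, hcen⟩ := isCentral_iff_cen.1 hcenF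
      have hZN : Z₀ ≤ Cfsg.FusionSystem.normalizerIn S (WW W S) := hNS.symm ▸ hZS
      rw [isCentral_iff_cen]
      refine ⟨hZN, fun P f hf => ?_⟩
      obtain ⟨hfF, hPT, hfT, g, hg, eg, hgX⟩ := (mor_normalizerSystem_iff hN).1 hf
      obtain ⟨gh, hgh, egh, hghZ⟩ := hcen _ _ hg
      have hle1 : P ⊔ Z₀ ≤ (P ⊔ WW W S) ⊔ Z₀ := sup_le_sup_right le_sup_left Z₀
      have hle2 : (P ⊔ Z₀) ⊔ WW W S ≤ (P ⊔ WW W S) ⊔ Z₀ :=
        sup_le hle1 ((le_sup_right : WW W S ≤ P ⊔ WW W S).trans le_sup_left)
      refine ⟨gh, ?_, fun x hx => ?_, hghZ⟩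
      · rw [mor_normalizerSystem_iff hN]
        refine ⟨hgh.restrict hle1, sup_le hPT hZN,
          fun x hx => hNS.symm ▸ (hgh.restrict hle1).mem hx, gh, hgh.restrict hle2,
          fun _ _ => rfl, fun y => ?_⟩
        constructor
        · intro hy
          obtain ⟨x, hx, rfl⟩ := (hgX y).1 hy
          exact ⟨x, hx, egh x ((le_sup_right : WW W S ≤ P ⊔ WW W S) hx)⟩
        · rintro ⟨x, hx, rfl⟩
          rw [egh x ((le_sup_right : WW W S ≤ P ⊔ WW W S) hx)]
          exact (hgX _).2 ⟨x, hx, rfl⟩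
      · rw [egh x ((le_sup_left : P ≤ P ⊔ WW W S) hx), eg x hx]
  unfold Cfsg.FusionSystem.center
  congr 1
  ext Z₀
  exact key Z₀

/-- Let p be an odd prime and W a positive characteristic p-functor: W assigns to every finite p-group Q (in a fixed universe) a subgroup W(Q), nontrivial when Q is, carried to W(R) by every isomorphism Q ≅ R; assume also Z(Q) ≤ W(Q) for every finite p-group Q. Suppose W satisfies the local condition: for every finite group G with Sylow p-subgroup P, O_p(G) ∩ Z(G) = O_p(G) ∩ Z(N_G(W(P))). Then W controls weak closure of elements in every saturated fusion system F over a finite p-group S: the centre of the normalizer fusion system of W(S) in F equals the centre of F. (For p = 2 no functor satisfies the local condition, so p is taken odd.) -/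
theorem result {p : ℕ} [Fact p.Prime] (hp : p ≠ 2) (W : ∀ (Q : Type u) [Group Q], Subgroup Q) (hW1 : ∀ (Q : Type u) [Group Q] [Finite Q], IsPGroup p Q → Nontrivial Q → W Q ≠ ⊥) (hW2 : ∀ (Q R : Type u) [Group Q] [Group R] [Finite Q], IsPGroup p Q → ∀ φ : Q ≃* R, (W Q).map φ.toMonoidHom = W R) (hWZ : ∀ (Q : Type u) [Group Q] [Finite Q], IsPGroup p Q → Subgroup.center Q ≤ W Q) (hC : ∀ (G : Type u) [Group G] [Finite G] (P : Sylow p G), Cfsg.pCore p G ⊓ Subgroup.center G = Cfsg.pCore p G ⊓ (Subgroup.center ↥(Subgroup.normalizer (((W ↥(P : Subgroup G)).map (P : Subgroup G).subtype : Subgroup G) : Set G))).map (Subgroup.normalizer (((W ↥(P : Subgroup G)).map (P : Subgroup G).subtype : Subgroup G) : Set G)).subtype) {Ω : Type u} [Group Ω] {S : Subgroup Ω} [Finite S] (hS : IsPGroup p S) (F : Cfsg.FusionSystem S) (hF : F.IsSaturated p) (N : Cfsg.FusionSystem (Cfsg.FusionSystem.normalizerIn S ((W ↥S).map S.subtype))) (hN : F.IsNormalizerSystem ((W ↥S).map S.subtype) N) : N.center = F.center := by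
  exact center_eq ⟨hW1, hW2⟩ hC hS F hF N hN

end Cfsg.Agent.S5196
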