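import Cfsg.Statements.S5199
import Mathlib
import Cfsg.Agent.Lib.Helper86.FusionWeakAlperin
import Cfsg.Agent.Lib.Helper86.GroupLemmas

set_option autoImplicit false
open Cfsg

namespace Cfsg.Agent.S5199

open Cfsg.Agent.Helper86 Cfsg.FusionSystem

/-- Let F be a saturated fusion system over a finite p-group S, E a normal subsystem of F over T, and F₀ a normal subsystem of F over a subgroup U containing both T and the hyperfocal subgroup of F, such that F₀ has p-power index in F. Then E is a subsystem of F₀. -/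
theorem result {Ω : Type*} [Group Ω] {S : Subgroup Ω} [Finite S] (p : ℕ) [Fact p.Prime] (hS : IsPGroup p S) (F : Cfsg.FusionSystem S) (hF : F.IsSaturated p) {T U : Subgroup Ω} (E : Cfsg.FusionSystem T) (hE : E.IsNormalIn F p) (F₀ : Cfsg.FusionSystem U) (hF₀ : F₀.IsNormalIn F p) (hU : T ⊔ F.hyperfocalSubgroup p ≤ U) (hidx : F₀.HasPPowerIndexIn F p) : E.IsSubsystemOf F₀ := by
  obtain ⟨⟨hEsat, -, hEF, hTsc, -⟩, -⟩ := hE
  have hTS : T ≤ S := hTsc.1
  have hTU : T ≤ U := le_sup_left.trans hU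
  have hfinT : Finite T := finite_of_le hTS
  have hTp : IsPGroup p T := hS.to_le hTS
  apply weak_alperin hTp E hEsat F₀
  intro P hfa _ α hα
  obtain ⟨hPT, R, hR⟩ := hfa
  have hPU : P ≤ U := hPT.trans hTU
  have hPS : P ≤ S := hPT.trans hTS
  have hfinP : Finite P := finite_of_le hPS
  have hαA : α ∈ E.autGroup P := mem_autGroup_of_isIso E hα
  obtain ⟨ρ, hρ, τ, hτ, hρτ⟩ := exists_mul_of_sylow R ⟨α, hαA⟩
  -- E.autGroup P ≤ F.autGroup P
  have hle : E.autGroup P ≤ F.autGroup P := by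
    intro β hβ
    have h1 : IsIso E β := (mem_autGroup_iff E hPT β).mp hβ
    exact mem_autGroup_of_isIso F (hEF P h1)
  have hρ' : (ρ : MulAut P) ∈ F₀.autGroup P := by
    apply hidx.2.2 P hPU
    apply pResidual_map_subtype_mono p hle
    exact ⟨ρ, hρ, rfl⟩
  have hτ' : (τ : MulAut P) ∈ F₀.autGroup P := by
    rw [hR, Subgroup.mem_subgroupOf] at hτ
    obtain ⟨g, hg, hgτ⟩ := (mem_autInducedBy_iff T P _).mp hτ
    apply autInducedBy_le_autGroup F₀ hPU
    exact (mem_autInducedBy_iff U P _).mpr ⟨g, hTU hg, hgτ⟩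
  have hα' : α ∈ F₀.autGroup P := by
    have : α = (ρ : MulAut P) * (τ : MulAut P) := congrArg Subtype.val hρτ
    rw [this]
    exact (F₀.autGroup P).mul_mem hρ' hτ'
  exact (mem_autGroup_iff F₀ hPU α).mp hα'

end Cfsg.Agent.S5199
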