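import Cfsg.Statements.S5201
import Cfsg.Agent.Lib.Helper84.FusZ10

set_option autoImplicit false
open Cfsg

namespace Cfsg.Agent.S5201

/-- A reduction to normal subsystems. Let F be a saturated fusion system over a finite p-group S and E a normal subsystem of F over T whose centralizer in S lies in T (every subgroup Y of C_S(T) with E contained in the centralizer fusion system of Y in F satisfies Y ≤ T), and suppose Aut_F(T)/Aut_E(T) is p-solvable. Then F and E have the same residual limit: if F∞ is the residual limit of F (reached by alternately passing to the p-residual and the p'-residual subsystem until nothing changes) and E∞ that of E, then F∞ and E∞ have the same maps. -/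
theorem result {Ω : Type*} [Group Ω] {S : Subgroup Ω} [Finite S] (p : ℕ) [Fact p.Prime] (hS : IsPGroup p S) (F : Cfsg.FusionSystem S) (hF : F.IsSaturated p) {T : Subgroup Ω} (E : Cfsg.FusionSystem T) (hE : E.IsNormalIn F p) (hCE : ∀ Y : Subgroup Ω, Y ≤ Cfsg.FusionSystem.centralizerIn S T → (∀ C : Cfsg.FusionSystem (Cfsg.FusionSystem.centralizerIn S Y), F.IsCentralizerSystem Y C → E.IsSubsystemOf C) → Y ≤ T) [hn : ((E.autGroup T).subgroupOf (F.autGroup T)).Normal] (hsolv : Cfsg.IsPSolvable p (↥(F.autGroup T) ⧸ (E.autGroup T).subgroupOf (F.autGroup T))) {U V : Subgroup Ω} (Finf : Cfsg.FusionSystem U) (hFinf : Finf.IsResidualLimitOf F p) (Einf : Cfsg.FusionSystem V) (hEinf : Einf.IsResidualLimitOf E p) : ∀ P : Subgroup Ω, Finf.Hom P = Einf.Hom P := by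
  obtain ⟨F₀, hG, hA⟩ := Cfsg.Agent.Helper84.Z6.envelope hS hF hE hsolv
  have hUS : T ⊔ Cfsg.FusionSystem.centralizerIn S T ≤ S := hG.normal.1.2.2.2.1.1
  have hfin₀ : Finite ↥(T ⊔ Cfsg.FusionSystem.centralizerIn S T) :=
    Cfsg.Agent.Helper87.finite_of_le hUS
  have hS₀ : IsPGroup p ↥(T ⊔ Cfsg.FusionSystem.centralizerIn S T) := hS.to_le hUS
  have hsub₀ : F₀.IsSubsystemOf F := hG.normal.1.2.2.1
  have henv : Cfsg.Agent.Helper84.Z7.Env F E p (T ⊔ Cfsg.FusionSystem.centralizerIn S T) F₀ :=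
    ⟨hE.1.1, hG.sat, hsub₀, hG.sub,
      Cfsg.Agent.Helper84.Z5.invariant_of_le hS₀ hE.1.2.2 hG.sat hG.sub hsub₀, le_rfl,
      le_sup_right, hA.le, hG.ext⟩
  have hidx := Cfsg.Agent.Helper84.Z10.ppower_of_env hS henv hCE
  have hTn : (T.subgroupOf (T ⊔ Cfsg.FusionSystem.centralizerIn S T)).Normal :=
    Cfsg.Agent.Helper84.Z2.normal_of_stronglyClosed henv.hsc
  have hEn : E.IsNormalIn F₀ p :=
    Cfsg.Agent.S5120.result p hS₀ F₀ hG.sat T henv.hTU hTn hidx.2.1 E hE.1.1 hidx
  obtain ⟨V₀, L₀, hL₀⟩ := Cfsg.Agent.Helper84.Z2.exists_rl' hS₀ F₀ hG.sat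
  have h1 := hG.rl Finf hFinf L₀ hL₀
  have h2 := Cfsg.Agent.S5203.result p hS₀ F₀ hG.sat E hEn hidx L₀ hL₀ Einf hEinf
  intro P
  rw [← h1 P, h2 P]

end Cfsg.Agent.S5201
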