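import Cfsg.Statements.S5205
import Cfsg.Agent.Lib.Helper87.GlaubMain

set_option autoImplicit false
set_option linter.style.haveILetI false
universe u
open Cfsg

namespace Cfsg.Agent.S5205

/-- Glauberman's ZJ-Theorem for fusion systems, in functor form. Let p be an odd prime and W a Glauberman functor: W assigns to every finite p-group Q (in a fixed universe) a subgroup W(Q), nontrivial when Q is, carried to W(R) by every isomorphism Q ≅ R, and such that W(P) is normal in L whenever P is a Sylow p-subgroup of a finite group L with C_L(O_p(L)) = Z(O_p(L)) in which Qd(p) (the natural semidirect product of an elementary abelian group of order p² by SL₂(p)) is not involved. Let F be a saturated fusion system over a finite p-group S that is Qd(p)-free: Qd(p) is not involved in any model of the normalizer system of a fully normalized F-centric subgroup. Then F equals the normalizer fusion system of W(S) in F. -/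
theorem result {p : ℕ} [Fact p.Prime] (hp : p ≠ 2) (W : ∀ (Q : Type u) [Group Q], Subgroup Q) (hW1 : ∀ (Q : Type u) [Group Q] [Finite Q], IsPGroup p Q → Nontrivial Q → W Q ≠ ⊥) (hW2 : ∀ (Q R : Type u) [Group Q] [Group R] [Finite Q], IsPGroup p Q → ∀ φ : Q ≃* R, (W Q).map φ.toMonoidHom = W R) (hW3 : ∀ (L : Type u) [Group L] [Finite L] (P : Sylow p L), Subgroup.centralizer ((Cfsg.pCore p L : Subgroup L) : Set L) = Cfsg.pCore p L ⊓ Subgroup.centralizer ((Cfsg.pCore p L : Subgroup L) : Set L) → ¬ Cfsg.Involves ↥(Cfsg.qd p) L → (((W ↥(P : Subgroup L)).map (P : Subgroup L).subtype : Subgroup L)).Normal) {Ω : Type u} [Group Ω] {S : Subgroup Ω} [Finite S] (hS : IsPGroup p S) (F : Cfsg.FusionSystem S) (hF : F.IsSaturated p) (hfree : F.IsSectionFree p ↥(Cfsg.qd p)) (N : Cfsg.FusionSystem (Cfsg.FusionSystem.normalizerIn S ((W ↥S).map S.subtype))) (hN : F.IsNormalizerSystem ((W ↥S).map S.subtype) N) : ∀ P : Subgroup Ω, N.Hom P = F.Hom P := by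
  have hW : Cfsg.Agent.Helper87.GlaubFunctor.IsGlauberman p W := ⟨hW1, hW2, hW3⟩
  have hnorm : F.IsNormal (Cfsg.Agent.Helper87.GlaubFunctor.WW W S) :=
    Cfsg.Agent.Helper87.GlaubMain.main hW _ Ω S F rfl hS hF hfree
  have hNS : FusionSystem.normalizerIn S (Cfsg.Agent.Helper87.GlaubFunctor.WW W S) = S :=
    Cfsg.Agent.Helper87.GlaubNormal.normalizerIn_eq_of_isNormal hnorm
  intro P
  rw [hN P]
  ext φ
  constructor
  · exact fun h => h.1
  · intro hφ
    obtain ⟨ψ, hψ, e1, e2⟩ := hnorm.2 P φ hφ
    have hle := F.le_of_mem hφ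
    refine ⟨hφ, ?_, ?_, ψ, hψ, e1, e2⟩
    · intro x hx
      have : x ∈ FusionSystem.normalizerIn S (Cfsg.Agent.Helper87.GlaubFunctor.WW W S) := by
        rw [hNS]; exact hle.1 hx
      exact this
    · intro x
      have : φ x ∈ FusionSystem.normalizerIn S (Cfsg.Agent.Helper87.GlaubFunctor.WW W S) := by
        rw [hNS]; exact hle.2 x
      exact this

end Cfsg.Agent.S5205
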