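import Cfsg.Statements.S5206
import Cfsg.Agent.Lib.Helper30.QdCfgG
import Cfsg.Agent.Lib.Helper30.QdCfgD

set_option autoImplicit false
universe u
open Cfsg

namespace Cfsg.Agent.S5206

open Cfsg.FusionSystem Cfsg.Agent.Helper30.QC Cfsg.Agent.Helper33

/-- Let p be an odd prime, G a finite group and P a Sylow p-subgroup of G. Then the fusion system of G on P is Qd(p)-free (Qd(p), the natural semidirect product of an elementary abelian group of order p² by SL₂(p), is not involved in any model of the normalizer system of a fully normalized centric subgroup) if and only if Qd(p) is not involved in G. -/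
theorem result {G : Type u} [Group G] [Finite G] {p : ℕ} [Fact p.Prime] (hp : p ≠ 2) (P : Sylow p G) : (Cfsg.groupFusionSystem (P : Subgroup G)).IsSectionFree p ↥(Cfsg.qd p) ↔ ¬ Cfsg.Involves ↥(Cfsg.qd p) G := by
  constructor
  · -- a configuration of `G` lives in some local model
    intro hfree hinv
    obtain ⟨Q, hfn, hcen, hcfg⟩ :=
      exists_centric_of_strongCfg P (QdCfg0.of_involves hp hinv).strong
    have hQP : Q ≤ (P : Subgroup G) := hfn.1
    have hQp : IsPGroup p Q := P.isPGroup'.to_le hQP
    set M := Subgroup.normalizer (Q : Set G) with hM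
    set S₁ := normalizerIn (P : Subgroup G) Q with hS₁
    have hS₁M : S₁ ≤ M := inf_le_right
    have hS₁p : IsPGroup p S₁ := P.isPGroup'.to_le inf_le_left
    have hsyl : IsSylIn p S₁ M := (Cfsg.Agent.Helper84.gfs_fullyNormalized_iff P Q hQP).mp hfn
    have hcenQ : centralizerIn (P : Subgroup G) Q ≤ Q := by
      apply hcen.2 Q
      refine ⟨conjHom Q 1, (groupFusionSystem (P : Subgroup G)).conj_mem hQP (Subgroup.one_mem _), ?_⟩
      ext z
      constructor
      · rintro ⟨q, rfl⟩
        show (1 : G) * (q : G) * (1 : G)⁻¹ ∈ Q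
        simp
      · intro hz
        refine ⟨⟨z, hz⟩, ?_⟩
        show (1 : G) * z * (1 : G)⁻¹ = z
        simp
    set K := pPrimeCore p ↥M with hK
    have hKcop : (Nat.card K).Coprime p := Cfsg.Agent.Helper30.pPrimeCore_coprime p
    have hmodel : (gfsNormalizer (P : Subgroup G) Q).IsModel p (↥M ⧸ K) (quotIota M S₁ hS₁M K) :=
      ⟨inferInstance, quotIota_realizes M S₁ hS₁M K hS₁p hKcop, quotIota_sylow M S₁ hS₁M K hsyl,
        model_constrained (P : Subgroup G) Q hQp hsyl hcenQ⟩
    have hL : QdCfg0 p (↥M ⧸ K) := hcfg.quotient K hKcop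
    exact hfree Q hfn hcen (gfsNormalizer (P : Subgroup G) Q)
      (gfsNormalizer_isNormalizerSystem (P : Subgroup G) Q hQP) (↥M ⧸ K) (quotIota M S₁ hS₁M K)
      hmodel (hL.involves hp)
  · -- a configuration of a local model gives a configuration of `G`
    intro hG Q hfn hcen N hN L _ ι hmodel hinvL
    obtain ⟨hfin, hreal, ⟨T, hT⟩, -⟩ := hmodel
    have := hfin
    apply hG
    apply QdCfg0.involves hp
    refine qdCfg0_of_realized N ?_ ι hreal T hT (QdCfg0.of_involves hp hinvL)
    intro R φ hφ
    rw [hN R] at hφ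
    obtain ⟨hφF, -⟩ := hφ
    obtain ⟨-, -, g, hg⟩ := hφF
    exact ⟨g, hg⟩

end Cfsg.Agent.S5206
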