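import Cfsg.Statements.S5212
import Mathlib
import Cfsg.Agent.Lib.Helper73.MetaWreath
import Cfsg.Agent.Lib.Helper84.FusAlp3
import Cfsg.Agent.Lib.Helper84.FusNormal
import Cfsg.Agent.Lib.Helper84.FusKP
import Cfsg.Agent.Lib.Helper84.FusSat
import Cfsg.Agent.Lib.Helper87.FusionInner
import Cfsg.Agent.Lib.Helper87.FusionNormal
import Cfsg.Agent.Lib.Helper2.PGroup
import Cfsg.Agent.S4208

set_option autoImplicit false
open Cfsg

namespace Cfsg.Agent.S5212

open Cfsg.Agent.Helper73 Cfsg.Agent.Helper73.MetaWreath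

/-- membership in the kernel of the action on the Frattini quotient -/
theorem mem_ker_quotAut_of {G : Type*} [Group G] (N : Subgroup G) [hN : N.Characteristic]
    (α : MulAut G) (h : ∀ x : G, (α x)⁻¹ * x ∈ N) : α ∈ (Cfsg.Agent.S4208.quotAut N).ker := by
  rw [MonoidHom.mem_ker]
  ext q
  induction q using QuotientGroup.induction_on with
  | _ x =>
    rw [Cfsg.Agent.S4208.quotAut_mk, MulAut.one_apply]
    exact QuotientGroup.eq.2 (h x)

/-- the kernel of the action on the Frattini quotient of a `p`-group is a `p`-group -/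
theorem isPGroup_ker_quotAut {P : Type*} [Group P] [Finite P] {p : ℕ} [Fact p.Prime]
    (hP : IsPGroup p P) : IsPGroup p (Cfsg.Agent.S4208.quotAut (frattini P)).ker := by
  obtain ⟨n, hn⟩ := IsPGroup.iff_card.1 hP
  obtain ⟨r, -, hr⟩ := (Nat.dvd_prime_pow (Fact.out : p.Prime)).1
    (hn ▸ (frattini P).index_dvd_card)
  have h1 := Cfsg.Agent.S4207.result hn hr (Cfsg.Agent.S4208.quotAut (frattini P)).ker
    (fun α hα x => Cfsg.Agent.S4208.mem_ker_quotAut (frattini P) α hα x)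
  obtain ⟨j, -, hj⟩ := (Nat.dvd_prime_pow (Fact.out : p.Prime)).1 h1
  exact IsPGroup.of_card hj

/-- the core of the argument: no essential subgroups -/
theorem no_essential {Ω : Type*} [Group Ω] {S : Subgroup Ω} [Finite S] (hS : IsPGroup 2 S)
    (F : Cfsg.FusionSystem S) (hF : F.IsSaturated 2) (hm : Cfsg.IsMetacyclic ↥S)
    (hh : ¬ ∃ n k : ℕ, Nonempty (↥S ≃* Multiplicative (Fin k → ZMod (2 ^ n))))
    (hd : ¬ ∃ m : ℕ, Nonempty (↥S ≃* DihedralGroup m))
    (hq : ¬ ∃ m : ℕ, Nonempty (↥S ≃* QuaternionGroup m)) (hsd : ¬ Cfsg.IsQuasiDihedral ↥S)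
    (hAutS : IsPGroup 2 (MulAut S)) (P : Subgroup Ω) : ¬ F.IsEssential 2 P := by
  classical
  haveI : Fact (Nat.Prime 2) := ⟨Nat.prime_two⟩
  intro hP
  have hcen := hP.1
  have hPS : P ≤ S := hcen.1
  have hPne : P ≠ S := by
    intro h
    subst h
    exact Cfsg.Agent.Helper84.not_essential_of_isPGroup F (hAutS.to_subgroup _) hP
  haveI : Finite P := Finite.of_injective (Subgroup.inclusion hPS) (Subgroup.inclusion_injective hPS)
  have hP2 : IsPGroup 2 P := hS.to_le hPS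
  have hnotp : ¬ IsPGroup 2 (MulAut P) := fun h =>
    Cfsg.Agent.Helper84.not_essential_of_isPGroup F (h.to_subgroup _) hP
  have hCP : FusionSystem.centralizerIn S P ≤ P := hcen.2 P (Cfsg.Agent.Helper87.isConj_refl hPS)
  have hrange : (Subgroup.inclusion hPS).range = P.subgroupOf S := Subgroup.inclusion_range hPS
  obtain ⟨n, hn, ⟨e⟩⟩ := sub_homocyclic hS hm hd hq hsd (Subgroup.inclusion hPS)
    (Subgroup.inclusion_injective hPS)
    (by
      rw [hrange]
      intro h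
      rw [Subgroup.subgroupOf_eq_top] at h
      exact hPne (le_antisymm hPS h))
    (by
      rw [hrange]
      intro z hz
      rw [Subgroup.mem_subgroupOf]
      apply hCP
      refine ⟨z.2, ?_⟩
      show (z : Ω) ∈ Subgroup.centralizer (P : Set Ω)
      rw [Subgroup.mem_centralizer_iff]
      intro y hy
      have := (Subgroup.mem_centralizer_iff.1 hz) ⟨y, hPS hy⟩
        (by rw [SetLike.mem_coe, Subgroup.mem_subgroupOf]; exact hy)
      exact congrArg Subtype.val this)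
    hnotp
  -- P is abelian
  have hPab : ∀ x y : P, x * y = y * x := fun x y =>
    e.injective (by rw [map_mul, map_mul, mul_comm])
  have hInn : Inn P = ⊥ := by
    rw [eq_bot_iff]
    rintro _ ⟨g, rfl⟩
    rw [Subgroup.mem_bot]
    ext x
    rw [MulAut.conj_apply, hPab g x, mul_inv_cancel_right, MulAut.one_apply]
  have hrad := Cfsg.Agent.Helper84.essential_radical F hS hF hP
  have hcore : pCore 2 (F.autGroup P) = ⊥ := by
    have h1 := hrad.2
    rw [hInn] at h1
    exact (Subgroup.map_eq_bot_iff_of_injective _ (Subgroup.subtype_injective _)).1 h1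
  -- an element of Aut_S(P) outside Inn(P)
  have h1 : ¬ autInducedBy S P ≤ Inn P := fun h =>
    hPne (Cfsg.Agent.Helper87.eq_top_of_autInducedBy_le_inn hS hcen h)
  obtain ⟨α, hαS, hαI⟩ := SetLike.not_le_iff_exists.1 h1
  have hα1 : α ≠ 1 := fun h => hαI (h ▸ Subgroup.one_mem _)
  obtain ⟨k, hk⟩ := Cfsg.Agent.Helper87.isPGroup_autInducedBy hS P ⟨α, hαS⟩
  have hex : ∃ k, α ^ (2 ^ k) = 1 := ⟨k, by simpa using congrArg Subtype.val hk⟩
  obtain ⟨k0, hk0, hmin⟩ : ∃ k0, α ^ (2 ^ k0) = 1 ∧ ∀ j < k0, α ^ (2 ^ j) ≠ 1 :=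
    ⟨Nat.find hex, Nat.find_spec hex, fun j hj => Nat.find_min hex hj⟩
  have hk0pos : k0 ≠ 0 := by
    intro h
    rw [h, pow_zero, pow_one] at hk0
    exact hα1 hk0
  obtain ⟨β, hβ⟩ : ∃ β, β = α ^ (2 ^ (k0 - 1)) := ⟨_, rfl⟩
  have hβ1 : β ≠ 1 := hβ ▸ hmin (k0 - 1) (by omega)
  have hβ2 : β ^ 2 = 1 := by
    rw [hβ, ← pow_mul, ← pow_succ, Nat.sub_add_cancel (by omega), hk0]
  have hβS : β ∈ autInducedBy S P := hβ ▸ Subgroup.pow_mem _ hαS _
  obtain ⟨t, htS, ht⟩ := Cfsg.Agent.Helper87.mem_autInducedBy_iff.1 hβS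
  have hβF : β ∈ F.autGroup P := Cfsg.Agent.Helper87.autInducedBy_le_autGroup F hPS hβS
  -- β acts nontrivially modulo the Frattini subgroup
  have hβK : β ∉ (Cfsg.Agent.S4208.quotAut (frattini P)).ker := by
    intro hmem
    apply hβ1
    have hK2 : IsPGroup 2 (((Cfsg.Agent.S4208.quotAut (frattini P)).ker).subgroupOf (F.autGroup P)) :=
      (isPGroup_ker_quotAut hP2).comap_subtype
    have hKn : (((Cfsg.Agent.S4208.quotAut (frattini P)).ker).subgroupOf (F.autGroup P)).Normal :=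
      inferInstance
    have hle := Cfsg.Agent.Helper87.le_pCore hKn hK2
    rw [hcore] at hle
    have h2 : (⟨β, hβF⟩ : F.autGroup P) ∈
        ((Cfsg.Agent.S4208.quotAut (frattini P)).ker).subgroupOf (F.autGroup P) := by
      rw [Subgroup.mem_subgroupOf]; exact hmem
    have h3 := hle h2
    rw [Subgroup.mem_bot] at h3
    exact congrArg Subtype.val h3
  obtain ⟨x, hx⟩ : ∃ x : P, (β x)⁻¹ * x ∉ frattini P := by
    by_contra hall
    push_neg at hall
    exact hβK (mem_ker_quotAut_of (frattini P) β hall)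
  -- now apply the wreath lemma in `S`
  have hββ : ∀ y : P, β (β y) = y := by
    intro y
    have : (β ^ 2) y = y := by rw [hβ2]; rfl
    rwa [pow_two] at this
  have ht2c : t ^ 2 ∈ FusionSystem.centralizerIn S P := by
    refine ⟨S.pow_mem htS 2, ?_⟩
    show t ^ 2 ∈ Subgroup.centralizer (P : Set Ω)
    rw [Subgroup.mem_centralizer_iff]
    intro y hy
    have h2 := congrArg Subtype.val (hββ ⟨y, hy⟩)
    rw [ht, ht] at h2
    have h3 : t * (t * y * t⁻¹) * t⁻¹ = y := h2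
    calc y * t ^ 2 = (t * (t * y * t⁻¹) * t⁻¹) * t ^ 2 := by rw [h3]
      _ = t ^ 2 * y := by rw [pow_two]; group
  refine no_wreath hS hm (P.subgroupOf S) n hn
    ((Subgroup.subgroupOfEquivOfLe hPS).trans e) ⟨t, htS⟩ ?_ ?_ ⟨x, hPS x.2⟩ ?_ ?_
  · intro y hy
    rw [Subgroup.mem_subgroupOf] at hy ⊢
    have := ht ⟨y, hy⟩
    have h2 : (((⟨t, htS⟩ : S) * y * (⟨t, htS⟩ : S)⁻¹ : S) : Ω) = ((β ⟨y, hy⟩ : P) : Ω) := by
      rw [this]; rfl
    rw [h2]; exact (β ⟨y, hy⟩).2
  · rw [Subgroup.mem_subgroupOf]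
    exact hCP ht2c
  · rw [Subgroup.mem_subgroupOf]; exact x.2
  · intro y hy hEq
    rw [Subgroup.mem_subgroupOf] at hy
    apply hx
    have h2 : β x * x⁻¹ = (⟨y, hy⟩ : P) ^ 2 := by
      apply Subtype.ext
      have h3 := congrArg Subtype.val hEq
      rw [Subgroup.coe_mul, ht x]
      exact h3
    have h4 : (β x)⁻¹ * x = ((⟨y, hy⟩ : P)⁻¹) ^ 2 := by
      rw [inv_pow, ← h2, mul_inv_rev, inv_inv, hPab]
    rw [h4]
    exact Cfsg.Agent.Helper2.pow_mem_frattini hP2 _

/-- Let S be a finite metacyclic 2-group that is not homocyclic abelian (a direct product of cyclic groups of one common order), not dihedral, not semidihedral and not generalized quaternion. Then every saturated fusion system over S is the inner fusion system of S. -/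
theorem result {Ω : Type*} [Group Ω] {S : Subgroup Ω} [Finite S] (hS : IsPGroup 2 S) (F : Cfsg.FusionSystem S) (hF : F.IsSaturated 2) (hm : Cfsg.IsMetacyclic ↥S) (hh : ¬ ∃ n k : ℕ, Nonempty (↥S ≃* Multiplicative (Fin k → ZMod (2 ^ n)))) (hd : ¬ ∃ m : ℕ, Nonempty (↥S ≃* DihedralGroup m)) (hq : ¬ ∃ m : ℕ, Nonempty (↥S ≃* QuaternionGroup m)) (hsd : ¬ Cfsg.IsQuasiDihedral ↥S) : ∀ P : Subgroup Ω, F.Hom P = (Cfsg.innerFusionSystem S).Hom P := by
  classical
  haveI : Fact (Nat.Prime 2) := ⟨Nat.prime_two⟩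
  have hAutS : IsPGroup 2 (MulAut S) := by
    by_contra h
    rcases Cfsg.Agent.S1896.result hS hm h with ⟨⟨e⟩⟩ | ⟨n, ⟨e⟩⟩
    · exact hq ⟨2, ⟨e⟩⟩
    · exact hh ⟨n, 2, ⟨e.trans (finTwoEquiv _)⟩⟩
  intro P
  apply Set.Subset.antisymm
  · apply Cfsg.Agent.Helper84.alperin F hS hF (innerFusionSystem S)
    intro Q hQ
    rcases hQ with hQ | hQ
    · subst hQ
      rw [Cfsg.Agent.Helper87.autGroup_inner_eq le_rfl]
      have hfa := Cfsg.Agent.Helper84.top_fullyAutomized F hF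
      obtain ⟨-, hsyl⟩ := (Cfsg.Agent.Helper84.fullyAutomized_iff F _).1 hfa
      have h2 : IsPGroup 2 (F.autGroup _) := hAutS.to_subgroup _
      rw [hsyl.eq_of_isPGroup h2]
    · exact absurd hQ (no_essential hS F hF hm hh hd hq hsd hAutS Q)
  · exact Cfsg.Agent.Helper87.inner_isSubsystemOf F le_rfl P

end Cfsg.Agent.S5212
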