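import Mathlib
import Cfsg.Statements.S5218
import Cfsg.Agent.Lib.Helper86.AgemoFusion

set_option autoImplicit false
open Cfsg

namespace Cfsg.Agent.S5218

open Cfsg.FusionSystem Cfsg.Agent.Helper87

/-- the `p^n`-th powers of the centre of `S` are normal in `F` when `S` has class at most `n(p-1)+1` -/
theorem agemo_center_isNormal {Ω : Type*} [Group Ω] {S : Subgroup Ω} [Finite S] (p : ℕ) [Fact p.Prime]
    (hS : IsPGroup p S) (F : Cfsg.FusionSystem S) (hF : F.IsSaturated p) (n : ℕ)
    (hcl : Subgroup.lowerCentralSeries S (n * (p - 1) + 1) = ⊥) :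
    F.IsNormal (Cfsg.powerClosure p n (S ⊓ Subgroup.centralizer (S : Set Ω))) := by
  apply isNormal_of_stronglyClosed_of_le hS hF
    (Cfsg.Agent.Helper86.agemo_center_stronglyClosed hS hF n hcl)
  intro R _ hcen _
  refine (Cfsg.Agent.Helper86.powerClosure_le p n _).trans ?_
  intro z hz
  apply hcen.2 R (isConj_refl hcen.1)
  exact ⟨hz.1, Subgroup.centralizer_le (by exact_mod_cast hcen.1) hz.2⟩

/-- Let p be a prime, n a natural number, S a nontrivial finite p-group of nilpotence class at most n(p−1)+1, and F a saturated fusion system over S. Then the subgroup generated by the pⁿ-th powers of the elements of Z(S) is normal in F. -/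
theorem result {Ω : Type*} [Group Ω] {S : Subgroup Ω} [Finite S] (p : ℕ) [Fact p.Prime] (hS : IsPGroup p S) (F : Cfsg.FusionSystem S) (hF : F.IsSaturated p) (n : ℕ) (hS1 : S ≠ ⊥) (hcl : Subgroup.lowerCentralSeries S (n * (p - 1) + 1) = ⊥) : F.IsNormal (Cfsg.powerClosure p n (S ⊓ Subgroup.centralizer (S : Set Ω))) := by
  exact agemo_center_isNormal p hS F hF n hcl

end Cfsg.Agent.S5218
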