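import Mathlib
import Cfsg.Statements.S5219
import Cfsg.Agent.S5218
import Cfsg.Agent.Lib.Helper86.ExponentClass

set_option autoImplicit false
open Cfsg

namespace Cfsg.Agent.S5219

open Cfsg.FusionSystem

/-- Let p be a prime, n a natural number, S a nontrivial finite p-group of nilpotence class at most n(p−1)+1, and F a saturated fusion system over S with no nontrivial normal subgroup (O_p(F) = 1). Then S has exponent dividing p^(n²(p−1)+n). -/
theorem result {Ω : Type*} [Group Ω] {S : Subgroup Ω} [Finite S] (p : ℕ) [Fact p.Prime] (hS : IsPGroup p S) (F : Cfsg.FusionSystem S) (hF : F.IsSaturated p) (n : ℕ) (hS1 : S ≠ ⊥) (hcl : Subgroup.lowerCentralSeries S (n * (p - 1) + 1) = ⊥) (hcore : F.core = ⊥) : Monoid.exponent ↥S ∣ p ^ (n ^ 2 * (p - 1) + n) := by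
  have hW := Cfsg.Agent.S5218.agemo_center_isNormal p hS F hF n hcl
  have hWbot : Cfsg.powerClosure p n (S ⊓ Subgroup.centralizer (S : Set Ω)) = ⊥ := by
    rw [eq_bot_iff, ← hcore]
    exact le_sSup hW
  have hZ : ∀ z ∈ Subgroup.center ↥S, z ^ (p ^ n) = 1 := by
    intro z hz
    have hzZ : (z : Ω) ∈ S ⊓ Subgroup.centralizer (S : Set Ω) := by
      refine ⟨z.2, ?_⟩
      show (z : Ω) ∈ Subgroup.centralizer (S : Set Ω)
      rw [Subgroup.mem_centralizer_iff]
      intro s hs
      have := Subgroup.mem_center_iff.1 hz ⟨s, hs⟩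
      exact congrArg Subtype.val this
    have h1 : (z : Ω) ^ (p ^ n) ∈ Cfsg.powerClosure p n (S ⊓ Subgroup.centralizer (S : Set Ω)) :=
      Subgroup.subset_closure ⟨z, hzZ, rfl⟩
    rw [hWbot, Subgroup.mem_bot] at h1
    apply Subtype.ext
    simpa using h1
  have hL : Subgroup.lowerCentralSeries (⊤ : Subgroup ↥S) (n * (p - 1) + 1) = ⊥ := by
    have h1 := Subgroup.top_subtype_lowerCentralSeries S (n * (p - 1) + 1)
    rw [hcl] at h1
    exact (Subgroup.map_eq_bot_iff_of_injective _ S.subtype_injective).1 h1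
  have hU := Subgroup.lowerCentralSeries_eq_bot_iff_upperCentralSeries_eq_top.1 hL
  have key := Cfsg.Agent.Helper86.pow_eq_one_of_upperCentralSeries_eq_top (p ^ n)
    (n * (p - 1) + 1) ↥S hU hZ
  apply Monoid.exponent_dvd_of_forall_pow_eq_one
  intro g
  have h2 : p ^ (n ^ 2 * (p - 1) + n) = (p ^ n) ^ (n * (p - 1) + 1) := by
    rw [← pow_mul]
    congr 1
    ring
  rw [h2]
  exact key g

end Cfsg.Agent.S5219
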