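import Cfsg.Statements.S5220
import Cfsg.Agent.Lib.Helper86.GenD
import Cfsg.Agent.Lib.Helper86.FusionBasic

set_option autoImplicit false
open Cfsg
open Cfsg.FusionSystem Cfsg.Agent.Helper87 Cfsg.Agent.Helper87.GlaubFunctor Cfsg.Agent.Helper87.CenFunctor
  Cfsg.Agent.Helper86.GlCen Cfsg.Agent.Helper86.GenVJ Cfsg.Agent.Helper86.ThFus

namespace Cfsg.Agent.S5220

/-- Let F be a saturated fusion system over a nontrivial finite p-group S, let J(S) be the subgroup generated by the abelian subgroups of S of largest order, and let V be the subgroup generated by the p-th powers of the elements of Z(S). Then F is generated by the centralizer fusion system of V and the normalizer fusion system of J(S): every fusion system over S containing the maps of both contains every map of F. -/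
theorem result {Ω : Type*} [Group Ω] {S : Subgroup Ω} [Finite S] (p : ℕ) [Fact p.Prime] (hS : IsPGroup p S) (F : Cfsg.FusionSystem S) (hF : F.IsSaturated p) (hS1 : S ≠ ⊥) (C : Cfsg.FusionSystem (Cfsg.FusionSystem.centralizerIn S (Cfsg.powerClosure p 1 (S ⊓ Subgroup.centralizer (S : Set Ω))))) (hC : F.IsCentralizerSystem (Cfsg.powerClosure p 1 (S ⊓ Subgroup.centralizer (S : Set Ω))) C) (N : Cfsg.FusionSystem (Cfsg.FusionSystem.normalizerIn S (Cfsg.thompsonSubgroupAOf S))) (hN : F.IsNormalizerSystem (Cfsg.thompsonSubgroupAOf S) N) (E : Cfsg.FusionSystem S) (hCE : C.IsSubsystemOf E) (hNE : N.IsSubsystemOf E) : F.IsSubsystemOf E := by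
  have hW := isPos_WJ p
  have hNS : Cfsg.FusionSystem.normalizerIn S (Cfsg.thompsonSubgroupAOf S) = S := pos_normalizerIn_top hW hS
  have hG := ePred_mor E
  -- the maps fixing `V` elementwise are maps of `E`
  have hV : HV p F (fun P f => Mor E P f) := by
    intro A g hg hVA hfix
    obtain ⟨φ, hφ, hφg⟩ := hg
    have hSC : S ≤ Cfsg.FusionSystem.centralizerIn S (vOf p S) := by
      intro s hs
      refine Subgroup.mem_inf.2 ⟨hs, ?_⟩
      rw [Subgroup.mem_centralizer_iff]
      intro z hz
      exact (Subgroup.mem_centralizer_iff.1 (vOf_le p S hz).2 s hs).symm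
    have hφC : φ ∈ C.Hom A := by
      rw [hC A]
      refine ⟨hφ, (F.le_of_mem hφ).1.trans hSC, fun x => hSC ((F.le_of_mem hφ).2 x),
        φ.comp (Subgroup.inclusion (sup_le le_rfl hVA)),
        Cfsg.Agent.Helper86.restrict_mem F _ hφ, fun x => rfl, fun z => ?_⟩
      show φ ⟨(z : Ω), _⟩ = (z : Ω)
      rw [hφg]
      exact hfix _ z.2
    exact ⟨φ, hCE A hφC, hφg⟩
  -- the maps normalizing `J(S)` are maps of `E`
  have hJ : HJ F (fun P f => Mor E P f) := by
    intro A g hg hJA hgJ
    have hI : Iso F (Cfsg.thompsonSubgroupAOf S) (Cfsg.thompsonSubgroupAOf S) g :=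
      iso_of_card_le (hg.restrict hJA) (jOf_le S) hgJ le_rfl
    have hmorN : Mor N A g := by
      rw [mor_normalizerSystem_iff hN]
      refine ⟨hg, hNS.symm ▸ hg.le, fun x hx => hNS.symm ▸ hg.mem hx, g, ?_, fun _ _ => rfl, hI.2⟩
      rw [sup_eq_left.2 hJA]
      exact hg
    exact mor_of_subsystem hNE hmorN
  have key := main (p := p) hG (Cfsg.Agent.Helper87.CenMain.nu F) S F rfl hS hF hV hJ
  intro P φ hφ
  obtain ⟨ψ, hψ, e⟩ := key P (extFun φ) (mor_of_mem hφ)
  have : ψ = φ := by
    ext x
    rw [e x, extFun_apply]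
  exact this ▸ hψ

end Cfsg.Agent.S5220
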