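-- Statement S5222
import Mathlib
import Cfsg.Statements.S5222
import Cfsg.Agent.Lib.Helper86.FusionAlperin
import Cfsg.Agent.Lib.Helper86.FusionWeakAlperin
import Cfsg.Agent.Lib.Helper86.LocalTate

set_option autoImplicit false
open Cfsg

namespace Cfsg.Agent.S5222

open Cfsg.FusionSystem Cfsg.Agent.Helper86

variable {Ω : Type*} [Group Ω] {S : Subgroup Ω}

theorem le_normalizerIn_self : S ≤ normalizerIn S S := le_inf le_rfl Subgroup.le_normalizer

/-- the maps of `N_F(S)` are the restrictions of the `F`-automorphisms of `S` -/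
theorem mem_normalizerHom_self_iff (F : FusionSystem S) {P : Subgroup Ω} (φ : P →* Ω) :
    φ ∈ F.normalizerHom S P ↔ ∃ hPS : P ≤ S, ∃ α : MulAut S, IsIso F α ∧
      ∀ x : P, ((α (Subgroup.inclusion hPS x) : S) : Ω) = φ x := by
  constructor
  · rintro ⟨hφ, -, -, ψ, hψ, hext, himg⟩
    have hPS : P ≤ S := le_of_hom F hφ
    have hψS := restrict_mem F (le_sup_right : S ≤ P ⊔ S) hψ
    have hr : (ψ.comp (Subgroup.inclusion (le_sup_right : S ≤ P ⊔ S))).range = S := by
      refine Eq.trans ?_ himg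
      ext y
      constructor
      · rintro ⟨s, rfl⟩
        exact ⟨Subgroup.inclusion le_sup_right s, Subgroup.mem_subgroupOf.2 s.2, rfl⟩
      · rintro ⟨z, hz, rfl⟩
        exact ⟨⟨z, Subgroup.mem_subgroupOf.1 hz⟩, rfl⟩
    refine ⟨hPS, isoOfHom _ (F.injective_of_mem hψS) hr, isIso_isoOfHom F hψS hr, fun x => ?_⟩
    rw [isoOfHom_apply, ← hext x]
    rfl
  · rintro ⟨hPS, α, hα, hx⟩
    have hαS : S.subtype.comp α.toMonoidHom ∈ F.Hom S := hα
    refine ⟨?_, hPS.trans le_normalizerIn_self, fun x => ?_, ?_⟩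
    · have := restrict_mem F hPS hαS
      convert this using 1
      ext x
      exact (hx x).symm
    · rw [← hx x]
      exact le_normalizerIn_self (α _).2
    · refine ⟨(S.subtype.comp α.toMonoidHom).comp (Subgroup.inclusion (sup_le hPS le_rfl)),
        restrict_mem F _ hαS, fun x => ?_, ?_⟩
      · rw [← hx x]
        rfl
      · ext y
        constructor
        · rintro ⟨z, -, rfl⟩
          exact (α _).2
        · intro hy
          refine ⟨Subgroup.inclusion le_sup_right (α.symm ⟨y, hy⟩), ?_, ?_⟩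
          · exact Subgroup.mem_subgroupOf.2 (α.symm ⟨y, hy⟩).2
          · show ((α (Subgroup.inclusion _ (Subgroup.inclusion le_sup_right (α.symm ⟨y, hy⟩))) : S) : Ω) = y
            have : Subgroup.inclusion (sup_le hPS le_rfl : P ⊔ S ≤ S)
                (Subgroup.inclusion le_sup_right (α.symm ⟨y, hy⟩)) = α.symm ⟨y, hy⟩ := Subtype.ext rfl
            rw [this, MulEquiv.apply_symm_apply]

/-- the normalizer system of `S` itself -/
def nsys (F : FusionSystem S) : FusionSystem (normalizerIn S S) where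
  Hom P := F.normalizerHom S P
  le_of_mem := fun h => ⟨h.2.1, h.2.2.1⟩
  injective_of_mem := fun h => F.injective_of_mem h.1
  conj_mem := by
    intro P g hP hg
    rw [mem_normalizerHom_self_iff]
    refine ⟨hP.trans inf_le_left, conjAut S g hg.2, isIso_of_conj F le_rfl hg.1 _ (fun _ => rfl), fun x => rfl⟩
  comp_mem := by
    intro P Q φ ψ hφ hψ h
    rw [mem_normalizerHom_self_iff] at hφ hψ ⊢
    obtain ⟨hPS, α₁, hα₁, h₁⟩ := hφ
    obtain ⟨hQS, α₂, hα₂, h₂⟩ := hψ
    refine ⟨hPS, α₂ * α₁, isIso_mul hα₂ hα₁, fun x => ?_⟩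
    rw [MulAut.mul_apply]
    have : α₁ (Subgroup.inclusion hPS x) = Subgroup.inclusion hQS ⟨φ x, h x⟩ := Subtype.ext (h₁ x)
    rw [this, h₂]
    rfl
  inv_mem := by
    intro P φ hφ
    have hφ' := (mem_normalizerHom_self_iff F φ).1 hφ
    obtain ⟨hPS, α, hα, h₁⟩ := hφ'
    have hrS : φ.range ≤ S := by
      rintro _ ⟨x, rfl⟩
      rw [← h₁ x]
      exact (α _).2
    refine ⟨(S.subtype.comp (α⁻¹ : MulAut S).toMonoidHom).comp (Subgroup.inclusion hrS), ?_, fun x => ?_⟩
    · rw [mem_normalizerHom_self_iff]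
      exact ⟨hrS, α⁻¹, isIso_inv hα, fun x => rfl⟩
    · show (((α⁻¹ : MulAut S) (Subgroup.inclusion hrS ⟨φ x, ⟨x, rfl⟩⟩) : S) : Ω) = x
      have : Subgroup.inclusion hrS ⟨φ x, ⟨x, rfl⟩⟩ = α (Subgroup.inclusion hPS x) :=
        Subtype.ext (h₁ x).symm
      rw [this, MulAut.inv_apply_self]
      rfl

theorem nsys_isNormalizerSystem (F : FusionSystem S) : F.IsNormalizerSystem S (nsys F) := fun _ => rfl

/-- if the normalizer system of `S` is inner, every `F`-automorphism of `S` is inner -/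
theorem inner_of_hN (F : FusionSystem S)
    (hN : ∀ N : FusionSystem (normalizerIn S S), F.IsNormalizerSystem S N →
      ∀ P : Subgroup Ω, N.Hom P = (innerFusionSystem (normalizerIn S S)).Hom P)
    (α : MulAut S) (hα : IsIso F α) : ∃ g ∈ S, ∀ x : S, ((α x : S) : Ω) = g * x * g⁻¹ := by
  have h := hN (nsys F) (nsys_isNormalizerSystem F) S
  have hmem : S.subtype.comp α.toMonoidHom ∈ (nsys F).Hom S := by
    show _ ∈ F.normalizerHom S S
    rw [mem_normalizerHom_self_iff]
    exact ⟨le_rfl, α, hα, fun x => rfl⟩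
  rw [h] at hmem
  obtain ⟨-, g, hg, hgx⟩ := hmem
  exact ⟨g, hg.1, fun x => hgx x⟩

section Main

open scoped commutatorElement

variable [Finite S] {p : ℕ} [hp : Fact p.Prime] (hS : IsPGroup p S) (F : FusionSystem S)
  (hF : F.IsSaturated p)
  (hinn : ∀ α : MulAut S, IsIso F α → ∃ g ∈ S, ∀ x : S, ((α x : S) : Ω) = g * x * g⁻¹)
  (Q : Subgroup Ω) (h1 : (commutator S).map S.subtype ≤ Q)

omit [Finite S] in
include h1 in
/-- subgroups between `Q` and `S` are normal in `S` -/
theorem conj_mem_of_le {P : Subgroup Ω} (hQP : Q ≤ P) {s x : Ω} (hs : s ∈ S) (hxS : x ∈ S) (hx : x ∈ P) :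
    s * x * s⁻¹ ∈ P := by
  have hc : s * x * s⁻¹ * x⁻¹ ∈ Q := by
    apply h1
    refine ⟨⁅(⟨s, hs⟩ : S), ⟨x, hxS⟩⁆, ?_, ?_⟩
    · rw [SetLike.mem_coe, commutator_def]
      exact Subgroup.commutator_mem_commutator (Subgroup.mem_top _) (Subgroup.mem_top _)
    · simp [commutatorElement_def]
  have : s * x * s⁻¹ = (s * x * s⁻¹ * x⁻¹) * x := by group
  rw [this]
  exact P.mul_mem (hQP hc) hx

omit [Finite S] in
include h1 in
theorem le_normalizer_of_le {P : Subgroup Ω} (hQP : Q ≤ P) (hPS : P ≤ S) :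
    S ≤ Subgroup.normalizer (P : Set Ω) := by
  intro s hs
  rw [Subgroup.mem_normalizer_iff]
  intro x
  constructor
  · intro hx
    exact conj_mem_of_le Q h1 hQP hs (hPS hx) hx
  · intro hx
    have hxS : s * x * s⁻¹ ∈ S := hPS hx
    have := conj_mem_of_le Q h1 hQP (S.inv_mem hs) hxS hx
    simpa [mul_assoc] using this

omit [Finite S] in
include h1 in
theorem normalizerIn_eq_of_le {P : Subgroup Ω} (hQP : Q ≤ P) (hPS : P ≤ S) : normalizerIn S P = S :=
  le_antisymm inf_le_left (le_inf le_rfl (le_normalizer_of_le Q h1 hQP hPS))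

include hinn in
/-- a map of the system defined on all of `S` is conjugation by an element of `S` -/
theorem inner_of_hom_S (χ : S →* Ω) (hχ : χ ∈ F.Hom S) : ∃ g ∈ S, ∀ x : S, χ x = g * x * g⁻¹ := by
  have hrS : χ.range ≤ S := by
    rintro _ ⟨x, rfl⟩
    exact hom_mem_S F hχ x
  have hinj := F.injective_of_mem hχ
  have hr : χ.range = S := eq_top_of_iso hrS (isoOfHom χ hinj rfl)
  obtain ⟨g, hg, hgx⟩ := hinn (isoOfHom χ hinj hr) (isIso_isoOfHom F hχ hr)
  exact ⟨g, hg, fun x => hgx x⟩

include hinn h1 in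
/-- a map of the system defined on the normalizer of a subgroup containing `Q` is conjugation -/
theorem inner_of_hom_normalizer {P : Subgroup Ω} (hQP : Q ≤ P) (hPS : P ≤ S)
    (χ : normalizerIn S P →* Ω) (hχ : χ ∈ F.Hom (normalizerIn S P)) :
    ∃ g ∈ S, ∀ x : normalizerIn S P, χ x = g * x * g⁻¹ := by
  have hN := normalizerIn_eq_of_le Q h1 hQP hPS
  have hχ' := restrict_mem F hN.ge hχ
  obtain ⟨g, hg, hgx⟩ := inner_of_hom_S F hinn _ hχ'
  refine ⟨g, hg, fun x => ?_⟩
  have := hgx ⟨x, hN.le x.2⟩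
  rw [← this]
  rfl

include hS hF hinn h1 in
/-- subgroups between `Q` and `S` are fully automized and receptive -/
theorem fa_rec_of_le {P : Subgroup Ω} (hQP : Q ≤ P) (hPS : P ≤ S) :
    F.IsFullyAutomized p P ∧ F.IsReceptive P := by
  obtain ⟨P', ⟨φ, hφ, hφr⟩, hfa, hrec⟩ := hF P hPS
  have he := isIso_isoOfHom F hφ hφr
  obtain ⟨χ, hχ, e', he', hχe⟩ := exists_extension_to_normalizer hS F hfa hrec _ he
  obtain ⟨g, hg, hgx⟩ := inner_of_hom_normalizer F hinn Q h1 hQP hPS χ hχ
  have hP'P : P' ≤ P := by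
    intro y hy
    have h2 := hχe (e'.symm ⟨y, hy⟩)
    rw [MulEquiv.apply_symm_apply, hgx] at h2
    have h3 : (y : Ω) = g * ((e'.symm ⟨y, hy⟩ : P) : Ω) * g⁻¹ := h2.symm
    rw [h3]
    exact conj_mem_of_le Q h1 hQP hg (hPS (e'.symm ⟨y, hy⟩).2) (e'.symm ⟨y, hy⟩).2
  have : Finite P := finite_of_le hPS
  have hcard : Nat.card P ≤ Nat.card P' := (Nat.card_congr e'.toEquiv).le
  have hPP' : P' = P := Subgroup.eq_of_le_of_card_ge hP'P hcard
  rw [hPP'] at hfa hrec
  exact ⟨hfa, hrec⟩

omit hp in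
/-- an automorphism mapping the finite subgroup `Q ∩ P` into itself maps it onto itself -/
theorem stab_iff {P : Subgroup Ω} [Finite P] (α : MulAut P)
    (h : ∀ x : P, (x : Ω) ∈ Q → ((α x : P) : Ω) ∈ Q) (x : P) : ((α x : P) : Ω) ∈ Q ↔ (x : Ω) ∈ Q := by
  refine ⟨fun hx => ?_, h x⟩
  let f : Q.subgroupOf P → Q.subgroupOf P := fun y => ⟨α y, Subgroup.mem_subgroupOf.2 (h y
    (Subgroup.mem_subgroupOf.1 y.2))⟩
  have hf : Function.Injective f := by
    intro a b hab
    have : α (a : P) = α (b : P) := congrArg Subtype.val hab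
    exact Subtype.ext (α.injective this)
  obtain ⟨y, hy⟩ := Finite.surjective_of_injective hf ⟨α x, Subgroup.mem_subgroupOf.2 hx⟩
  have : α (y : P) = α x := congrArg Subtype.val hy
  rw [← α.injective this]
  exact Subgroup.mem_subgroupOf.1 y.2

/-- the stabilizer of `Q` in `Aut_F(P)` -/
def stabQ (F : FusionSystem S) (Q P : Subgroup Ω) : Subgroup (MulAut P) where
  carrier := {α | α ∈ F.autGroup P ∧ ∀ x : P, ((α x : P) : Ω) ∈ Q ↔ (x : Ω) ∈ Q}
  one_mem' := ⟨Subgroup.one_mem _, fun _ => Iff.rfl⟩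
  mul_mem' := by
    rintro a b ⟨ha, ha'⟩ ⟨hb, hb'⟩
    refine ⟨Subgroup.mul_mem _ ha hb, fun x => ?_⟩
    rw [MulAut.mul_apply, ha', hb']
  inv_mem' := by
    rintro a ⟨ha, ha'⟩
    refine ⟨Subgroup.inv_mem _ ha, fun x => ?_⟩
    rw [← ha' (a⁻¹ x), MulAut.apply_inv_self]

variable (h2 : Q ≤ (frattini S).map S.subtype)

include hS hF hinn h1 h2 in
/-- main induction: maps of the system defined on subgroups containing `Q` and preserving `Q` are conjugations -/
theorem good : ∀ (n : ℕ) (P : Subgroup Ω), Q ≤ P → P ≤ S → Nat.card S - Nat.card P = n →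
    ∀ φ ∈ F.Hom P, (∀ x : P, (x : Ω) ∈ Q → φ x ∈ Q) → ∃ s ∈ S, ∀ x : P, φ x = s * x * s⁻¹ := by
  intro n
  induction n using Nat.strong_induction_on with
  | _ n ih =>
    intro P hQP hPS hn φ hφ hφQ
    have hfinP : Finite P := finite_of_le hPS
    have hinj := F.injective_of_mem hφ
    -- Step 1: the image of `φ` is `P`
    have hQr : Q ≤ φ.range := by
      intro y hy
      let f : Q.subgroupOf P → Q.subgroupOf P := fun x =>
        ⟨⟨φ x, hQP (hφQ x (Subgroup.mem_subgroupOf.1 x.2))⟩,
          Subgroup.mem_subgroupOf.2 (hφQ x (Subgroup.mem_subgroupOf.1 x.2))⟩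
      have hf : Function.Injective f := by
        intro a b hab
        have : φ (a : P) = φ (b : P) := congrArg (fun z : Q.subgroupOf P => ((z : P) : Ω)) hab
        exact Subtype.ext (hinj this)
      obtain ⟨x, hx⟩ := Finite.surjective_of_injective hf ⟨⟨y, hQP hy⟩, Subgroup.mem_subgroupOf.2 hy⟩
      have : φ (x : P) = y := congrArg (fun z : Q.subgroupOf P => ((z : P) : Ω)) hx
      exact ⟨x, this⟩
    have hrS : φ.range ≤ S := by
      rintro _ ⟨x, rfl⟩
      exact hom_mem_S F hφ x
    obtain ⟨hfa₁, hrec₁⟩ := fa_rec_of_le hS F hF hinn Q h1 hQr hrS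
    have he := isIso_isoOfHom F hφ (rfl : φ.range = φ.range)
    obtain ⟨χ, hχ, e', he', hχe⟩ := exists_extension_to_normalizer hS F hfa₁ hrec₁ _ he
    obtain ⟨g, hg, hgx⟩ := inner_of_hom_normalizer F hinn Q h1 hQP hPS χ hχ
    have hrP : φ.range ≤ P := by
      intro y hy
      have h3 := hχe (e'.symm ⟨y, hy⟩)
      rw [MulEquiv.apply_symm_apply, hgx] at h3
      have h4 : (y : Ω) = g * ((e'.symm ⟨y, hy⟩ : P) : Ω) * g⁻¹ := h3.symm
      rw [h4]
      exact conj_mem_of_le Q h1 hQP hg (hPS (e'.symm ⟨y, hy⟩).2) (e'.symm ⟨y, hy⟩).2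
    have hr : φ.range = P :=
      Subgroup.eq_of_le_of_card_ge hrP (Nat.card_congr (isoOfHom φ hinj rfl).toEquiv).le
    -- Step 2: `φ` as an automorphism of `P`
    set α : MulAut P := isoOfHom φ hinj hr with hα_def
    have hα : IsIso F α := isIso_isoOfHom F hφ hr
    have hαx : ∀ x : P, ((α x : P) : Ω) = φ x := fun x => rfl
    have hαQ : ∀ x : P, ((α x : P) : Ω) ∈ Q ↔ (x : Ω) ∈ Q := stab_iff Q α (fun x hx => hφQ x hx)
    by_cases hPeq : P = S
    · subst hPeq
      obtain ⟨g, hg, hgx⟩ := hinn α hα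
      exact ⟨g, hg, fun x => (hαx x).symm.trans (hgx x)⟩
    · -- Step 3: the local Tate argument
      have hQS : Q ≤ S := hQP.trans hPS
      have hnorm : S ≤ Subgroup.normalizer (P : Set Ω) := le_normalizer_of_le Q h1 hQP hPS
      have hPn : (P.subgroupOf S).Normal := Subgroup.normal_subgroupOf_of_le_normalizer hnorm
      let e : P.subgroupOf S ≃* P := Subgroup.subgroupOfEquivOfLe hPS
      let trc : MulAut (P.subgroupOf S) ≃* MulAut P := MulAut.congr e
      have ht1 : ∀ (α' : MulAut (P.subgroupOf S)) (z : P.subgroupOf S),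
          ((trc α' (e z) : P) : Ω) = (((α' z : P.subgroupOf S) : S) : Ω) := by
        intro α' z
        show ((e (α' (e.symm (e z))) : P) : Ω) = _
        rw [MulEquiv.symm_apply_apply]
        rfl
      have ht2 : ∀ (g : S) (x : P), ((trc (MulAut.conjNormal g) x : P) : Ω) = g * x * (g : Ω)⁻¹ := by
        intro g x
        show ((e (MulAut.conjNormal g (e.symm x)) : P) : Ω) = _
        rw [Subgroup.subgroupOfEquivOfLe_apply_coe, MulAut.conjNormal_apply]
        simp [e]
      let A : Subgroup (MulAut P) := stabQ F Q P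
      let A' : Subgroup (MulAut (P.subgroupOf S)) := A.comap trc.toMonoidHom
      have hPne : P.subgroupOf S ≠ ⊤ := by
        intro h
        rw [Subgroup.subgroupOf_eq_top] at h
        exact hPeq (le_antisymm hPS h)
      have hcomm : commutator S ≤ Q.subgroupOf S := by
        intro x hx
        rw [Subgroup.mem_subgroupOf]
        exact h1 ⟨x, hx, rfl⟩
      have hQΦ : Q.subgroupOf S ≤ frattini S := by
        intro x hx
        rw [Subgroup.mem_subgroupOf] at hx
        obtain ⟨y, hy, hyx⟩ := h2 hx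
        have : y = x := Subtype.ext hyx
        rwa [← this]
      have hBA : ∀ g : S, (MulAut.conjNormal g : MulAut (P.subgroupOf S)) ∈ A' := by
        intro g
        show trc (MulAut.conjNormal g) ∈ stabQ F Q P
        refine ⟨mem_autGroup_of_isIso F (isIso_of_conj F hPS g.2 _ (ht2 g)), fun x => ?_⟩
        rw [ht2 g x]
        constructor
        · intro hx
          have := conj_mem_of_le Q h1 le_rfl (S.inv_mem g.2) (hQS hx) hx
          simpa [mul_assoc] using this
        · intro hx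
          exact conj_mem_of_le Q h1 le_rfl g.2 (hQS hx) hx
      have hQinv : ∀ α' ∈ A', ∀ x : P.subgroupOf S, (x : S) ∈ Q.subgroupOf S →
          ((α' x : P.subgroupOf S) : S) ∈ Q.subgroupOf S := by
        intro α' hα' x hx
        rw [Subgroup.mem_subgroupOf] at hx ⊢
        have h3 : trc α' ∈ stabQ F Q P := hα'
        have h4 := (h3.2 (e x)).2 (by rw [Subgroup.subgroupOfEquivOfLe_apply_coe]; exact hx)
        rwa [ht1] at h4
      have hTI : ∀ α' ∈ A', (∀ g : S, α' ≠ MulAut.conjNormal g) → ∀ g : S,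
          (∃ h : S, α' * MulAut.conjNormal g * α'⁻¹ = MulAut.conjNormal h) → g ∈ P.subgroupOf S := by
        intro α' hα' hne g ⟨h, hh⟩
        by_contra hgP
        rw [Subgroup.mem_subgroupOf] at hgP
        have h3 : trc α' ∈ stabQ F Q P := hα'
        set β : MulAut P := trc α' with hβ_def
        have hβiso : IsIso F β := (mem_autGroup_iff F hPS β).1 h3.1
        have hβhom : P.subtype.comp β.toMonoidHom ∈ F.Hom P := hβiso
        have hβr : (P.subtype.comp β.toMonoidHom).range = P := range_of_isIso β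
        obtain ⟨hfaP, hrecP⟩ := fa_rec_of_le hS F hF hinn Q h1 hQP hPS
        have hrecN := hrecP.2 P _ hβhom hβr
        obtain ⟨N, hN_def⟩ : ∃ N, N = extender S P (P.subtype.comp β.toMonoidHom) := ⟨_, rfl⟩
        rw [← hN_def] at hrecN
        obtain ⟨ψ, hψ, hψx⟩ := hrecN
        have hNS : N ≤ S := by
          rw [hN_def]
          unfold extender
          rw [Subgroup.closure_le]
          rintro y ⟨hy, -⟩
          exact hy
        -- key relation: `β (g y g⁻¹) = h β(y) h⁻¹`
        have hrel : ∀ (y : P) (hy : (g : Ω) * y * (g : Ω)⁻¹ ∈ P),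
            ((β ⟨(g : Ω) * y * (g : Ω)⁻¹, hy⟩ : P) : Ω) = (h : Ω) * ((β y : P) : Ω) * (h : Ω)⁻¹ := by
          intro y hy
          have h5 := DFunLike.congr_fun hh (α' (e.symm y))
          rw [MulAut.mul_apply, MulAut.mul_apply, MulAut.inv_apply_self] at h5
          have h6 := congrArg (fun z : P.subgroupOf S => ((z : S) : Ω)) h5
          simp only [MulAut.conjNormal_apply] at h6
          have h7 := ht1 α' (MulAut.conjNormal g (e.symm y))
          have h8 : e (MulAut.conjNormal g (e.symm y)) = ⟨(g : Ω) * y * (g : Ω)⁻¹, hy⟩ := by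
            apply Subtype.ext
            rw [Subgroup.subgroupOfEquivOfLe_apply_coe, MulAut.conjNormal_apply]
            simp [e]
          rw [h8] at h7
          rw [h7, h6]
          have h9 := ht1 α' (e.symm y)
          rw [MulEquiv.apply_symm_apply] at h9
          rw [h9]
          simp
        have hPN : P ≤ N := by
          intro x hx
          rw [hN_def]
          unfold extender
          apply Subgroup.subset_closure
          refine ⟨hPS hx, Subgroup.le_normalizer hx, ((β ⟨x, hx⟩ : P) : Ω), hPS (β ⟨x, hx⟩).2, ?_⟩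
          intro y hy
          show ((β ⟨x * y * x⁻¹, hy⟩ : P) : Ω) = ((β ⟨x, hx⟩ : P) : Ω) * ((β y : P) : Ω) *
            ((β ⟨x, hx⟩ : P) : Ω)⁻¹
          have : (⟨x * y * x⁻¹, hy⟩ : P) = ⟨x, hx⟩ * y * ⟨x, hx⟩⁻¹ := Subtype.ext rfl
          rw [this, map_mul, map_mul, map_inv]
          rfl
        have hgN : (g : Ω) ∈ N := by
          rw [hN_def]
          unfold extender
          apply Subgroup.subset_closure
          refine ⟨g.2, hnorm g.2, (h : Ω), h.2, ?_⟩
          intro y hy
          exact hrel y hy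
        have hlt : Nat.card P < Nat.card N := by
          have : Finite N := finite_of_le hNS
          apply lt_of_le_of_ne (Subgroup.card_le_of_le hPN)
          intro hcard
          have := Subgroup.eq_of_le_of_card_ge hPN hcard.ge
          exact hgP (this ▸ hgN)
        have hNle : Nat.card N ≤ Nat.card S := Subgroup.card_le_of_le hNS
        have hlt' : Nat.card S - Nat.card N < n := by
          rw [← hn]
          have : Nat.card P ≤ Nat.card S := Subgroup.card_le_of_le hPS
          omega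
        have hψQ : ∀ x : N, (x : Ω) ∈ Q → ψ x ∈ Q := by
          intro x hx
          have := hψx x (hQP hx) x.2
          rw [this]
          exact (h3.2 ⟨x, hQP hx⟩).2 hx
        obtain ⟨s, hs, hsx⟩ := ih _ hlt' N (hQP.trans hPN) hNS rfl ψ hψ hψQ
        apply hne ⟨s, hs⟩
        ext z
        have h10 := ht1 α' z
        rw [MulAut.conjNormal_apply]
        show (((α' z : P.subgroupOf S) : S) : Ω) = _
        rw [← h10]
        have h11 := hψx (e z) (e z).2 (hPN (e z).2)
        have h12 := hsx ⟨e z, hPN (e z).2⟩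
        rw [h11] at h12
        have h13 : ((β (e z) : P) : Ω) = s * ((e z : P) : Ω) * s⁻¹ := h12
        rw [h13, Subgroup.subgroupOfEquivOfLe_apply_coe]
        rfl
      have hpg : IsPGroup p A' := LocalTate.isPGroup_of_TI hS (Q.subgroupOf S) hPne hcomm hQΦ A' hBA
        hTI hQinv
      -- `A` is a `p`-group too
      have hpgA : IsPGroup p A := by
        let ι : A →* A' :=
          { toFun := fun a => ⟨trc.symm a, by
              show trc (trc.symm a) ∈ A
              rw [MulEquiv.apply_symm_apply]; exact a.2⟩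
            map_one' := by
              apply Subtype.ext
              exact map_one trc.symm
            map_mul' := by
              intro a b
              apply Subtype.ext
              exact map_mul trc.symm (a : MulAut P) (b : MulAut P) }
        apply hpg.of_injective ι
        intro a b hab
        have : trc.symm (a : MulAut P) = trc.symm (b : MulAut P) := congrArg Subtype.val hab
        exact Subtype.ext (trc.symm.injective this)
      obtain ⟨hfaP, -⟩ := fa_rec_of_le hS F hF hinn Q h1 hQP hPS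
      obtain ⟨-, R, hR⟩ := hfaP
      have hAle : A ≤ F.autGroup P := fun a ha => ha.1
      have hpg0 : IsPGroup p (A.subgroupOf (F.autGroup P)) := hpgA.comap_subtype
      have hRle : (R : Subgroup (F.autGroup P)) ≤ A.subgroupOf (F.autGroup P) := by
        rw [hR]
        intro a ha
        rw [Subgroup.mem_subgroupOf] at ha ⊢
        obtain ⟨k, hk, hkx⟩ := (mem_autInducedBy_iff S P _).1 ha
        refine ⟨a.2, fun x => ?_⟩
        rw [hkx x]
        constructor
        · intro hx
          have := conj_mem_of_le Q h1 le_rfl (S.inv_mem hk) (hQS hx) hx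
          simpa [mul_assoc] using this
        · intro hx
          exact conj_mem_of_le Q h1 le_rfl hk (hQS hx) hx
      have hmax := R.is_maximal' hpg0 hRle
      have hαA : α ∈ A := ⟨mem_autGroup_of_isIso F hα, hαQ⟩
      have hαR : (⟨α, hαA.1⟩ : F.autGroup P) ∈ A.subgroupOf (F.autGroup P) :=
        Subgroup.mem_subgroupOf.2 hαA
      rw [hmax, hR, Subgroup.mem_subgroupOf] at hαR
      obtain ⟨k, hk, hkx⟩ := (mem_autInducedBy_iff S P _).1 hαR
      exact ⟨k, hk, fun x => (hαx x).symm.trans (hkx x)⟩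

end Main

theorem result {Ω : Type*} [Group Ω] {S : Subgroup Ω} [Finite S] (p : ℕ) [Fact p.Prime] (hS : IsPGroup p S) (F : Cfsg.FusionSystem S) (hF : F.IsSaturated p) (hN : ∀ N : Cfsg.FusionSystem (Cfsg.FusionSystem.normalizerIn S S), F.IsNormalizerSystem S N → ∀ P : Subgroup Ω, N.Hom P = (Cfsg.innerFusionSystem (Cfsg.FusionSystem.normalizerIn S S)).Hom P) (Q : Subgroup Ω) (h1 : (commutator ↥S).map S.subtype ≤ Q) (h2 : Q ≤ (frattini ↥S).map S.subtype) : ∀ N : Cfsg.FusionSystem (Cfsg.FusionSystem.normalizerIn S Q), F.IsNormalizerSystem Q N → ∀ P : Subgroup Ω, N.Hom P = (Cfsg.innerFusionSystem (Cfsg.FusionSystem.normalizerIn S Q)).Hom P := by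
  intro N hNQ P
  rw [hNQ P]
  have hinn := inner_of_hN F hN
  have hQS : Q ≤ S := by
    intro x hx
    obtain ⟨y, -, rfl⟩ := h2 hx
    exact y.2
  have hQnorm : S ≤ Subgroup.normalizer (Q : Set Ω) := le_normalizer_of_le Q h1 le_rfl hQS
  ext φ
  constructor
  · rintro ⟨hφ, hPN, -, ψ, hψ, hext, himg⟩
    have hPS : P ≤ S := le_of_hom F hφ
    have hle : P ⊔ Q ≤ S := sup_le hPS hQS
    have hψQ : ∀ x : (P ⊔ Q : Subgroup Ω), (x : Ω) ∈ Q → ψ x ∈ Q := by
      intro x hx
      have h3 : ψ x ∈ (Q.subgroupOf (P ⊔ Q)).map ψ := ⟨x, Subgroup.mem_subgroupOf.2 hx, rfl⟩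
      exact himg.le h3
    obtain ⟨s, hs, hsx⟩ := good hS F hF hinn Q h1 h2 _ (P ⊔ Q) le_sup_right hle rfl ψ hψ hψQ
    refine ⟨hPN, s, ⟨hs, hQnorm hs⟩, fun x => ?_⟩
    rw [← hext x, hsx]
    rfl
  · rintro ⟨hPN, g, hg, hgx⟩
    have hPS : P ≤ S := hPN.trans inf_le_left
    have hle : P ⊔ Q ≤ S := sup_le hPS hQS
    have hφeq : φ = conjHom P g := by
      ext x
      exact hgx x
    refine ⟨?_, hPN, fun x => ?_, conjHom (P ⊔ Q) g, F.conj_mem hle hg.1, fun x => ?_, ?_⟩
    · rw [hφeq]
      exact F.conj_mem hPS hg.1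
    · rw [hgx x]
      exact Subgroup.mul_mem _ (Subgroup.mul_mem _ hg (hPN x.2)) (Subgroup.inv_mem _ hg)
    · rw [hgx x]
      rfl
    · ext y
      constructor
      · rintro ⟨z, hz, rfl⟩
        exact (Subgroup.mem_normalizer_iff.1 hg.2 _).1 (Subgroup.mem_subgroupOf.1 hz)
      · intro hy
        have hgi : g⁻¹ ∈ Subgroup.normalizer (Q : Set Ω) := Subgroup.inv_mem _ hg.2
        have hz : g⁻¹ * y * g ∈ Q := by
          have := (Subgroup.mem_normalizer_iff.1 hgi y).1 hy
          simpa using this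
        refine ⟨⟨g⁻¹ * y * g, (le_sup_right : Q ≤ P ⊔ Q) hz⟩, Subgroup.mem_subgroupOf.2 hz, ?_⟩
        show g * (g⁻¹ * y * g) * g⁻¹ = y
        group

end Cfsg.Agent.S5222
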