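import Cfsg.Statements.S5223
import Mathlib
import Cfsg.Agent.Lib.Helper86.FusionWeakAlperin

set_option autoImplicit false
open Cfsg

namespace Cfsg.Agent.S5223

open Cfsg.Agent.Helper86 Cfsg.FusionSystem

theorem pow_apply_eq {G : Type*} [Group G] (β : MulAut G) (x y : G) (hx : β x = x * y) (hy : β y = y) (k : ℕ) :
    (β ^ k) x = x * y ^ k := by
  induction k with
  | zero => simp
  | succ k ih =>
    rw [pow_succ', MulAut.mul_apply, ih, map_mul, map_pow, hx, hy, pow_succ, mul_assoc]
    congr 1
    exact (pow_succ' y k).symm ▸ (pow_succ y k).symm ▸ rfl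

/-- Let F be a saturated fusion system over a finite p-group S. Suppose there are subgroups Q₀ = S, Q₁, …, Qₙ = 1 (not required to be nested) such that for each i < n the focal subgroup of Qᵢ (generated by the elements x⁻¹φ(x), x ∈ Qᵢ, φ a map of F defined on the cyclic group generated by x) lies in Qᵢ₊₁. Then F is the inner fusion system of S. -/
theorem result {Ω : Type*} [Group Ω] {S : Subgroup Ω} [Finite S] (p : ℕ) [Fact p.Prime] (hS : IsPGroup p S) (F : Cfsg.FusionSystem S) (hF : F.IsSaturated p) (n : ℕ) (Q : Fin (n + 1) → Subgroup Ω) (hQ0 : Q 0 = S) (hQn : Q (Fin.last n) = ⊥) (hstep : ∀ i : Fin n, Subgroup.closure {y : Ω | ∃ x ∈ Q i.castSucc, ∃ φ ∈ F.Hom (Subgroup.zpowers x), y = x⁻¹ * φ ⟨x, Subgroup.mem_zpowers x⟩} ≤ Q i.succ) : ∀ P : Subgroup Ω, F.Hom P = (Cfsg.innerFusionSystem S).Hom P := by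
  apply hom_eq_inner_of_isPGroup_autGroup hS F hF
  intro P hPS
  have hfinP : Finite P := finite_of_le hPS
  -- p'-automorphisms in the system are trivial
  have hkey : ∀ β : MulAut P, IsIso F β → (orderOf β).Coprime p → β = 1 := by
    intro β hβ hcop
    have hfix : ∀ i : Fin (n + 1), ∀ x : P, (x : Ω) ∈ Q i → β x = x := by
      intro i
      induction i using Fin.reverseInduction with
      | last =>
        intro x hx
        rw [hQn, Subgroup.mem_bot] at hx
        have : x = 1 := Subtype.ext hx
        rw [this, map_one]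
      | cast i ih =>
        intro x hx
        set y : P := x⁻¹ * β x with hy
        have hyQ : (y : Ω) ∈ Q i.succ := by
          apply hstep i
          apply Subgroup.subset_closure
          have hzP : Subgroup.zpowers (x : Ω) ≤ P := by
            rw [Subgroup.zpowers_le]; exact x.2
          refine ⟨x, hx, (P.subtype.comp (β : P ≃* P).toMonoidHom).comp (Subgroup.inclusion hzP),
            restrict_mem F hzP hβ, ?_⟩
          have hincl : Subgroup.inclusion hzP ⟨(x : Ω), Subgroup.mem_zpowers _⟩ = x := Subtype.ext rfl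
          simp [hy, hincl]
        have hβy : β y = y := ih y hyQ
        have hβx : β x = x * y := by simp [hy]
        have h1 := pow_apply_eq β x y hβx hβy (orderOf β)
        rw [pow_orderOf_eq_one, MulAut.one_apply] at h1
        have hym : y ^ orderOf β = 1 := by
          have : x * 1 = x * y ^ orderOf β := by rw [mul_one]; exact h1
          exact (mul_left_cancel this).symm
        obtain ⟨k, hk⟩ := hS ⟨y, hPS y.2⟩
        have hyk : y ^ p ^ k = 1 := by
          apply Subtype.ext
          have := congrArg Subtype.val hk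
          simpa using this
        have hd1 : orderOf y ∣ orderOf β := orderOf_dvd_of_pow_eq_one hym
        have hd2 : orderOf y ∣ p ^ k := orderOf_dvd_of_pow_eq_one hyk
        have hc : (orderOf y).Coprime (p ^ k) := (hcop.pow_right k).coprime_dvd_left hd1
        have ho : orderOf y = 1 := hc.eq_one_of_dvd hd2
        have hy1 : y = 1 := orderOf_eq_one_iff.mp ho
        rw [hβx, hy1, mul_one]
    ext x
    have := hfix 0 x (by rw [hQ0]; exact hPS x.2)
    simp [this]
  rintro ⟨α, hα⟩
  have hαI : IsIso F α := (mem_autGroup_iff F hPS α).mp hα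
  have hpos : orderOf α ≠ 0 := (orderOf_pos α).ne'
  obtain ⟨e, m, hm, hem⟩ := Nat.exists_eq_pow_mul_and_not_dvd hpos p (Fact.out : p.Prime).ne_one
  refine ⟨e, ?_⟩
  apply Subtype.ext
  show α ^ p ^ e = 1
  have hβI : IsIso F (α ^ p ^ e) := by
    have : α ^ p ^ e ∈ F.autGroup P := (F.autGroup P).pow_mem hα _
    exact (mem_autGroup_iff F hPS _).mp this
  apply hkey _ hβI
  have h1 : (α ^ p ^ e) ^ m = 1 := by
    rw [← pow_mul, ← hem, pow_orderOf_eq_one]
  have hd : orderOf (α ^ p ^ e) ∣ m := orderOf_dvd_of_pow_eq_one h1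
  have hmc : m.Coprime p := ((Fact.out : p.Prime).coprime_iff_not_dvd.mpr hm).symm
  exact hmc.coprime_dvd_left hd

end Cfsg.Agent.S5223
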