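import Cfsg.Statements.S5225
-- import your own Cfsg.Agent.* helpers here
import Cfsg.Agent.Lib.Helper85.YoF5
import Cfsg.Agent.Lib.Helper87.FusionNormalizerSys

set_option autoImplicit false
open Cfsg

namespace Cfsg.Agent.S5225

open Cfsg.FusionSystem Cfsg.Agent.Helper87

set_option maxHeartbeats 800000 in
/-- Yoshida's Theorem for fusion systems. Let F be a saturated fusion system over a finite p-group S and N the normalizer fusion system of S in F. If the focal subgroups of F and N differ (N does not control transfer in F), then S has a quotient isomorphic to the wreath product C_p ≀ C_p (realised as a Sylow p-subgroup of the symmetric group of degree p²). -/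
theorem result {Ω : Type*} [Group Ω] {S : Subgroup Ω} [Finite S] (p : ℕ) [Fact p.Prime] (hS : IsPGroup p S) (F : Cfsg.FusionSystem S) (hF : F.IsSaturated p) (N : Cfsg.FusionSystem (Cfsg.FusionSystem.normalizerIn S S)) (hN : F.IsNormalizerSystem S N) (hne : N.focalSubgroup ≠ F.focalSubgroup) : ∃ (W : Sylow p (Equiv.Perm (Fin (p ^ 2)))) (f : ↥S →* ↥(W : Subgroup (Equiv.Perm (Fin (p ^ 2))))), Function.Surjective f := by
  classical
  by_contra hcon
  apply hne
  set K : Subgroup Ω := N.focalSubgroup with hK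
  have hSN : S ≤ normalizerIn S S := fun x hx => ⟨hx, Subgroup.le_normalizer hx⟩
  have hNSle : normalizerIn S S ≤ S := inf_le_left
  have hgenN : ∀ (P : Subgroup Ω) (f : Ω → Ω), Mor N P f → ∀ x ∈ P, x⁻¹ * f x ∈ K := by
    rintro P f ⟨φ, hφ, e⟩ x hx
    apply Subgroup.subset_closure
    exact ⟨P, φ, ⟨x, hx⟩, hφ, by rw [e]⟩
  have hKle : K ≤ F.focalSubgroup := by
    apply (Subgroup.closure_le _).2
    rintro y ⟨P, φ, x, hφ, rfl⟩
    apply Subgroup.subset_closure
    rw [hN P] at hφ
    exact ⟨P, φ, x, hφ.1, rfl⟩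
  apply le_antisymm hKle
  have hKS : K ≤ S := by
    apply (Subgroup.closure_le _).2
    rintro y ⟨P, φ, x, hφ, rfl⟩
    have h1 := N.le_of_mem hφ
    exact S.mul_mem (S.inv_mem (hNSle (h1.1 x.2))) (hNSle (h1.2 x))
  have hconj : ∀ s ∈ S, Mor N S (fun x => s * x * s⁻¹) := fun s hs =>
    Mor.conj (F := N) hSN (hSN hs)
  set K' : Subgroup S := K.subgroupOf S with hK'
  have hcommK : ∀ s x : S, ((x : Ω))⁻¹ * ((s : Ω) * (x : Ω) * (s : Ω)⁻¹) ∈ K := fun s x =>
    hgenN S _ (hconj s s.2) x x.2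
  haveI hK'n : K'.Normal := ⟨fun k hk s => by
    rw [hK', Subgroup.mem_subgroupOf] at hk ⊢
    have h1 := hcommK s k
    have e : ((s * k * s⁻¹ : S) : Ω) = (k : Ω) * (((k : Ω))⁻¹ * ((s : Ω) * (k : Ω) * (s : Ω)⁻¹)) := by
      push_cast
      group
    rw [e]
    exact K.mul_mem hk h1⟩
  have hcomm : ∀ a b : S ⧸ K', a * b = b * a := by
    intro a b
    induction a using QuotientGroup.induction_on with
    | H a =>
    induction b using QuotientGroup.induction_on with
    | H b =>
    rw [← QuotientGroup.mk_mul, ← QuotientGroup.mk_mul, QuotientGroup.eq, hK', Subgroup.mem_subgroupOf]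
    have h1 := hcommK a⁻¹ b
    have e : (((a * b)⁻¹ * (b * a) : S) : Ω) =
        ((b : Ω))⁻¹ * (((a⁻¹ : S) : Ω) * (b : Ω) * ((a⁻¹ : S) : Ω)⁻¹) := by
      push_cast
      group
    rw [e]
    exact h1
  letI : CommGroup (S ⧸ K') := { (inferInstance : Group (S ⧸ K')) with mul_comm := hcomm }
  set lam : S →* S ⧸ K' := QuotientGroup.mk' K' with hlam
  obtain ⟨n, hn⟩ := IsPGroup.iff_card.mp hS
  have hexp : ∀ s, lam s ^ p ^ n = 1 := by
    intro s
    rw [← map_pow, ← hn, pow_card_eq_one', map_one]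
  have hNstab : ∀ f : Ω → Ω, Mor F S f → ∀ (s : S) (hs : f s ∈ S), lam ⟨f s, hs⟩ = lam s := by
    intro f hf s hs
    have hiso := Iso.of_mor hf
    have himg : hf.image = S := by
      haveI : Finite hf.image := Finite.of_injective (Subgroup.inclusion hf.image_le)
        (Subgroup.inclusion_injective _)
      exact Subgroup.eq_of_le_of_card_ge hf.image_le (le_of_eq hiso.card_eq)
    have hMorN : Mor N S f := by
      refine (mor_normalizerSystem_iff hN).2 ⟨hf, hSN, fun x hx => hSN (hf.mem hx), f, ?_,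
        fun _ _ => rfl, fun y => ⟨fun hy => ?_, ?_⟩⟩
      · rw [sup_idem]
        exact hf
      · rw [← himg] at hy
        exact hy
      · rintro ⟨x, hx, rfl⟩
        exact hf.mem hx
    have h1 := hgenN S f hMorN s s.2
    symm
    rw [hlam, QuotientGroup.mk'_apply, QuotientGroup.mk'_apply, QuotientGroup.eq, hK',
      Subgroup.mem_subgroupOf]
    exact h1
  have hstab := Cfsg.Agent.Helper85.YoF.stable_of_not_surj hS hF hcon lam n hexp hNstab
  apply (Subgroup.closure_le _).2
  rintro y ⟨P, φ, x, hφ, rfl⟩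
  have hxS : (x : Ω) ∈ S := (F.le_of_mem hφ).1 x.2
  have hfx : extFun φ (x : Ω) ∈ S := by
    rw [extFun_apply]
    exact (F.le_of_mem hφ).2 x
  have h1 := hstab P (extFun φ) (mor_of_mem hφ) x x.2 hxS hfx
  rw [hlam, QuotientGroup.mk'_apply, QuotientGroup.mk'_apply] at h1
  have h2 := QuotientGroup.eq.1 h1.symm
  rw [hK', Subgroup.mem_subgroupOf] at h2
  have e : (((⟨(x : Ω), hxS⟩ : S)⁻¹ * ⟨extFun φ (x : Ω), hfx⟩ : S) : Ω) = ((x : Ω))⁻¹ * φ x := by
    push_cast
    rw [extFun_apply]
  rw [e] at h2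
  exact h2

end Cfsg.Agent.S5225
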