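import Cfsg.Statements.S5226
import Mathlib
import Cfsg.Agent.Lib.Helper87.FusionNormal
import Cfsg.Agent.Lib.Helper86.FusionNormalCrit
import Cfsg.Agent.Lib.Helper86.FusionCentralSeries

set_option autoImplicit false
open Cfsg

namespace Cfsg.Agent.S5226

open Cfsg.FusionSystem Cfsg.Agent.Helper87 Cfsg.Agent.Helper86

variable {Ω : Type*} [Group Ω] {S : Subgroup Ω}

/-- A characteristic subgroup of a subgroup normal in the system is weakly closed. -/
theorem weaklyClosed_of_characteristic {F : FusionSystem S} {Q : Subgroup Ω} (hQ : F.IsNormal Q)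
    (Z : Subgroup Q) [hZ : Z.Characteristic] : F.WeaklyClosed (Z.map Q.subtype) := by
  have hZQ : Z.map Q.subtype ≤ Q := Subgroup.map_subtype_le Z
  refine ⟨hZQ.trans hQ.1, fun φ hφ => ?_⟩
  rw [isNormal_iff] at hQ
  obtain ⟨hQS, h⟩ := hQ
  obtain ⟨g, hg, e1, e2⟩ := h (Z.map Q.subtype) (extFun φ) (mor_of_mem hφ)
  have hsup : Z.map Q.subtype ⊔ Q = Q := sup_eq_right.mpr hZQ
  rw [hsup] at hg
  have hiso : Iso F Q Q g := ⟨hg, e2⟩
  let σ : MulAut Q := hiso.equiv
  have hchar : Z.map σ.toMonoidHom = Z := (Subgroup.characteristic_iff_map_eq.mp hZ) σ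
  ext y
  constructor
  · rintro ⟨x, rfl⟩
    obtain ⟨z, hz, hzx⟩ := x.2
    have h1 : φ x = g x := by rw [e1 x x.2, extFun_apply]
    refine ⟨σ z, ?_, ?_⟩
    · have : σ z ∈ Z.map σ.toMonoidHom := ⟨z, hz, rfl⟩
      rwa [hchar] at this
    · rw [h1, ← hzx]
      rfl
  · rintro ⟨z, hz, rfl⟩
    rw [← hchar] at hz
    obtain ⟨w, hw, rfl⟩ := hz
    have hwZ : (w : Ω) ∈ Z.map Q.subtype := ⟨w, hw, rfl⟩
    refine ⟨⟨w, hwZ⟩, ?_⟩
    have h1 : g w = extFun φ w := e1 w hwZ
    rw [extFun_mem φ hwZ] at h1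
    rw [← h1]
    rfl

/-- Let F be a saturated fusion system over a finite p-group S and Q a subgroup of S. Then Q is normal in F (F equals the normalizer system of Q) if and only if Q is strongly closed in F and admits a central series 1 = Q₀ ≤ Q₁ ≤ ⋯ ≤ Qₙ = Q ([Qᵢ₊₁, Q] ≤ Qᵢ) all of whose proper terms are weakly closed in F. -/
theorem result {Ω : Type*} [Group Ω] {S : Subgroup Ω} [Finite S] (p : ℕ) [Fact p.Prime] (hS : IsPGroup p S) (F : Cfsg.FusionSystem S) (hF : F.IsSaturated p) (Q : Subgroup Ω) : F.IsNormal Q ↔ F.StronglyClosed Q ∧ ∃ (n : ℕ) (C : Fin (n + 1) → Subgroup Ω), C 0 = ⊥ ∧ C (Fin.last n) = Q ∧ Monotone C ∧ (∀ i : Fin n, ⁅C i.succ, Q⁆ ≤ C i.castSucc) ∧ ∀ i : Fin n, F.WeaklyClosed (C i.castSucc) := by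
  constructor
  · intro hQ
    have hQS : Q ≤ S := hQ.1
    have hfinQ : Finite Q := Helper87.finite_of_le hQS
    have hQp : IsPGroup p Q := hS.to_le hQS
    have hnil : Group.IsNilpotent Q := hQp.isNilpotent
    refine ⟨stronglyClosed_of_isNormal hQ, Group.nilpotencyClass Q,
      fun i => (Subgroup.upperCentralSeries Q i).map Q.subtype, ?_, ?_, ?_, ?_, ?_⟩
    · show (Subgroup.upperCentralSeries Q 0).map Q.subtype = ⊥
      rw [Subgroup.upperCentralSeries_zero, Subgroup.map_bot]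
    · show (Subgroup.upperCentralSeries Q (Group.nilpotencyClass Q)).map Q.subtype = Q
      rw [Subgroup.upperCentralSeries_nilpotencyClass]
      ext y
      constructor
      · rintro ⟨x, -, rfl⟩
        exact x.2
      · intro hy
        exact ⟨⟨y, hy⟩, trivial, rfl⟩
    · intro i j hij
      exact Subgroup.map_mono (Subgroup.upperCentralSeries_mono Q hij)
    · intro i
      have h1 : Q = (⊤ : Subgroup Q).map Q.subtype := by
        ext y
        constructor
        · intro hy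
          exact ⟨⟨y, hy⟩, trivial, rfl⟩
        · rintro ⟨x, -, rfl⟩
          exact x.2
      show ⁅(Subgroup.upperCentralSeries Q ((i : ℕ) + 1)).map Q.subtype, Q⁆ ≤ (Subgroup.upperCentralSeries Q (i : ℕ)).map Q.subtype
      have h2 : ⁅(Subgroup.upperCentralSeries Q ((i : ℕ) + 1)).map Q.subtype, Q⁆ =
          ⁅(Subgroup.upperCentralSeries Q ((i : ℕ) + 1)).map Q.subtype, (⊤ : Subgroup Q).map Q.subtype⁆ := by
        rw [← h1]
      rw [h2, ← Subgroup.map_commutator]
      exact Subgroup.map_mono (Subgroup.commutator_upperCentralSeries_top_le Q _)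
    · intro i
      exact weaklyClosed_of_characteristic hQ _
  · rintro ⟨hQ, n, C, hC0, hCn, hmono, hcomm, hwc⟩
    let C' : ℕ → Subgroup Ω := fun j => C ⟨min j n, by omega⟩
    have hC'0 : C' 0 = ⊥ := by
      have e0 : (⟨min 0 n, by omega⟩ : Fin (n + 1)) = 0 := Fin.ext (Nat.zero_min n)
      show C ⟨min 0 n, _⟩ = ⊥
      rw [e0, hC0]
    have hC'n : C' n = Q := by
      have e0 : (⟨min n n, by omega⟩ : Fin (n + 1)) = Fin.last n := Fin.ext (Nat.min_self n)
      show C ⟨min n n, _⟩ = Q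
      rw [e0, hCn]
    have hC'le : ∀ j ≤ n, C' j ≤ Q := by
      intro j _
      rw [← hCn]
      exact hmono (Fin.le_last _)
    have hC'comm : ∀ j < n, ⁅C' (j + 1), Q⁆ ≤ C' j := by
      intro j hj
      have h1 : C' (j + 1) = C (⟨j, hj⟩ : Fin n).succ := by
        have e0 : (⟨min (j + 1) n, by omega⟩ : Fin (n + 1)) = (⟨j, hj⟩ : Fin n).succ :=
          Fin.ext (by simp; omega)
        show C ⟨min (j + 1) n, _⟩ = _
        rw [e0]
      have h2 : C' j = C (⟨j, hj⟩ : Fin n).castSucc := by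
        have e0 : (⟨min j n, by omega⟩ : Fin (n + 1)) = (⟨j, hj⟩ : Fin n).castSucc :=
          Fin.ext (by simp; omega)
        show C ⟨min j n, _⟩ = _
        rw [e0]
      rw [h1, h2]
      exact hcomm ⟨j, hj⟩
    have hC'inv : ∀ j ≤ n, ∀ f, Mor F (C' j) f → ∀ x ∈ C' j, f x ∈ C' j := by
      intro j hj f hf x hx
      rcases Nat.lt_or_ge j n with hlt | hge
      · have h2 : C' j = C (⟨j, hlt⟩ : Fin n).castSucc := by
          have e0 : (⟨min j n, by omega⟩ : Fin (n + 1)) = (⟨j, hlt⟩ : Fin n).castSucc :=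
            Fin.ext (by simp; omega)
          show C ⟨min j n, _⟩ = _
          rw [e0]
        have hw := hwc ⟨j, hlt⟩
        rw [← h2] at hw
        obtain ⟨φ, hφ, e⟩ := hf
        have hr := hw.2 φ hφ
        rw [← e ⟨x, hx⟩]
        have : φ ⟨x, hx⟩ ∈ φ.range := ⟨_, rfl⟩
        rwa [hr] at this
      · have hjn : j = n := by omega
        subst hjn
        rw [hC'n] at hf hx ⊢
        exact stronglyClosed_mor hQ le_rfl hf x hx
    apply isNormal_of_stronglyClosed_of_le hS hF hQ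
    intro R _ hcen hrad
    have := le_of_central_series hS hQ n C' hC'0 hC'le hC'comm hC'inv hcen hrad n le_rfl
    rwa [hC'n] at this

end Cfsg.Agent.S5226
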