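import Cfsg.Statements.S5233
import Mathlib
import Cfsg.Agent.S5226
import Cfsg.Agent.Lib.Helper2.PGroup
import Cfsg.Agent.Lib.Helper63.PGroup
import Cfsg.Agent.Lib.Helper86.GenExtraFusion
import Cfsg.Agent.Lib.Helper86.TransvectionPair

set_option autoImplicit false
open Cfsg

namespace Cfsg.Agent.S5233

open Cfsg.FusionSystem Cfsg.Agent.Helper87 Cfsg.Agent.Helper86
open scoped commutatorElement

set_option maxHeartbeats 1600000 in
/-- the derived subgroup of a generalized extraspecial strongly closed subgroup is weakly closed, unless the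
subgroup is one of the excluded direct products -/
theorem derived_weaklyClosed {Ω : Type*} [Group Ω] {S : Subgroup Ω} [Finite S] (p : ℕ) [Fact p.Prime]
    (hS : IsPGroup p S) (F : Cfsg.FusionSystem S) (hF : F.IsSaturated p) (P : Subgroup Ω)
    (hP : F.StronglyClosed P)
    (hge : frattini ↥P = commutator ↥P ∧ Nat.card ↥(commutator ↥P) = p)
    (h2 : p = 2 → ¬ ∃ (A : Type) (_ : CommGroup A), (∀ a : A, a ^ 2 = 1) ∧
      Nonempty (↥P ≃* DihedralGroup 4 × A))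
    (hodd : p ≠ 2 → ¬ ∃ (E : Type) (_ : Group E) (A : Type) (_ : CommGroup A), Cfsg.IsExtraspecial p E ∧
      Nat.card E = p ^ 3 ∧ Monoid.exponent E = p ∧ (∀ a : A, a ^ p = 1) ∧ Nonempty (↥P ≃* E × A)) :
    F.WeaklyClosed ⁅P, P⁆ ∧ ⁅⁅P, P⁆, P⁆ = ⊥ := by
  classical
  have hp : p.Prime := Fact.out
  have hPS : P ≤ S := hP.1
  haveI : Finite P := finite_of_le hPS
  have hPp : IsPGroup p P := hS.to_le hPS
  have hsc := (stronglyClosed_iff.1 hP).2
  have hPn : S ≤ Subgroup.normalizer (P : Set Ω) := StronglyClosed.le_normalizer hP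
  obtain ⟨hfr, hcard⟩ := hge
  obtain ⟨D, hDdef⟩ : ∃ D : Subgroup Ω, D = ⁅P, P⁆ := ⟨_, rfl⟩
  rw [← hDdef]
  have hDmap : (commutator ↥P).map P.subtype = D := by
    rw [hDdef]; exact Subgroup.map_subtype_commutator P
  have hDP : D ≤ P := hDdef ▸ Subgroup.commutator_le_self P
  have hDS : D ≤ S := hDP.trans hPS
  have hDcard : Nat.card D = p := by
    rw [← hDmap, Subgroup.card_map_of_injective P.subtype_injective]; exact hcard
  have hDn : S ≤ Subgroup.normalizer (D : Set Ω) := hDdef ▸ conj_normalizes_commutator hPn hPn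
  have hcenP : commutator ↥P ≤ Subgroup.center ↥P :=
    Helper63.normal_card_prime_le_center hPp _ hcard
  have hDc : ∀ d ∈ D, ∀ a ∈ P, a * d = d * a := by
    intro d hd a ha
    rw [← hDmap] at hd
    obtain ⟨d', hd', rfl⟩ := hd
    have := Subgroup.mem_center_iff.1 (hcenP hd') ⟨a, ha⟩
    exact congrArg Subtype.val this
  have hcommD : ∀ a ∈ P, ∀ b ∈ P, ⁅a, b⁆ ∈ D := fun a ha b hb =>
    hDdef ▸ Subgroup.commutator_mem_commutator ha hb
  have hpowD : ∀ a ∈ P, a ^ p ∈ D := by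
    intro a ha
    have h1 : (⟨a, ha⟩ : P) ^ p ∈ commutator ↥P := hfr ▸ Helper2.pow_mem_frattini hPp ⟨a, ha⟩
    rw [← hDmap]
    exact ⟨_, h1, by simp⟩
  have hna : ∃ a ∈ P, ∃ b ∈ P, a * b ≠ b * a := by
    by_contra hcon
    push Not at hcon
    have : D = ⊥ := by
      rw [hDdef, Subgroup.commutator_eq_bot_iff_le_centralizer]
      intro a ha
      rw [Subgroup.mem_centralizer_iff]
      intro b hb
      exact hcon b hb a ha
    rw [this, Subgroup.card_bot] at hDcard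
    exact hp.one_lt.ne hDcard
  have hcommP : ∀ a b : ↥P, ⁅a, b⁆ ∈ commutator ↥P := fun a b => by
    rw [commutator_def]
    exact Subgroup.commutator_mem_commutator (Subgroup.mem_top a) (Subgroup.mem_top b)
  have hcl : ⁅D, P⁆ = ⊥ := by
    rw [Subgroup.commutator_eq_bot_iff_le_centralizer]
    intro d hd
    rw [Subgroup.mem_centralizer_iff]
    intro a ha
    exact hDc d hd a ha
  refine ⟨⟨hDS, fun φ hφ => ?_⟩, hcl⟩
  have hf : Mor F D (extFun φ) := mor_of_mem hφ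
  by_contra hne
  have hex : ∃ z ∈ D, extFun φ z ∉ D := by
    by_contra hcon
    push Not at hcon
    apply hne
    have hle : φ.range ≤ D := by
      rintro _ ⟨x, rfl⟩
      have := hcon x x.2
      rwa [extFun_apply] at this
    have hiso := iso_of_mem hφ
    haveI : Finite D := finite_of_le hDS
    exact Subgroup.eq_of_le_of_card_ge hle (hiso.card_eq).le
  obtain ⟨z, hz, hy⟩ := hex
  obtain ⟨hyP, hyp, hMexp, hMab, ⟨g₀, hg₀P, hg₀y⟩, g', hg'M, hg'y, hstar⟩ :=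
    centralizer_of_fused_generator hS hF hP D hDP hDcard hDn hDc hcommD hpowD hna hf hz hy
  obtain ⟨y, hydef⟩ : ∃ y : Ω, y = extFun φ z := ⟨_, rfl⟩
  rw [← hydef] at hy hyP hyp hMexp hMab hg₀y hg'M hg'y
  have hz1 : z ≠ 1 := by
    rintro rfl
    apply hy
    rw [hydef, hf.map_one]; exact D.one_mem
  -- an element of order `p` of `P` not commuting with `y` gives the excluded decomposition
  have hIII : ∀ g ∈ P, g ^ p = 1 → g * y = y * g := by
    intro g hgP hgp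
    by_contra hgy
    have := genExtraspecial_split (G := ↥P) (commutator ↥P) hcard hcenP hcommP ⟨y, hyP⟩ ⟨g, hgP⟩
      (Subtype.ext (by rw [Subgroup.coe_pow, Subgroup.coe_one]; exact hyp))
      (Subtype.ext (by rw [Subgroup.coe_pow, Subgroup.coe_one]; exact hgp))
      (fun h => hgy (congrArg Subtype.val h))
      (fun m hm => Subtype.ext (by
        rw [Subgroup.coe_pow, Subgroup.coe_one]; exact hMexp m m.2 (congrArg Subtype.val hm)))
      (fun m m' hm hm' => Subtype.ext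
        (hMab m m.2 m' m'.2 (congrArg Subtype.val hm) (congrArg Subtype.val hm')))
    by_cases hp2 : p = 2
    · exact h2 hp2 (this.1 hp2)
    · exact hodd hp2 (this.2 hp2)
  -- `p` is odd
  have hp2 : p ≠ 2 := by
    intro hp2
    subst hp2
    have hg₀sq : g₀ ^ 2 ≠ 1 := fun h => hg₀y (hIII g₀ hg₀P h)
    have hg₀sqD : g₀ ^ 2 ∈ D := hpowD g₀ hg₀P
    obtain ⟨c', hc'⟩ : ∃ c' : Ω, c' = g₀⁻¹ * y⁻¹ * g₀ * y := ⟨_, rfl⟩
    have hc'D : c' ∈ D := by
      have : c' = ⁅g₀⁻¹, y⁻¹⁆ := by rw [hc', commutatorElement_def]; group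
      rw [this]
      exact hcommD _ (P.inv_mem hg₀P) _ (P.inv_mem hyP)
    have hc'1 : c' ≠ 1 := by
      intro h
      apply hg₀y
      rw [hc'] at h
      calc g₀ * y = y * g₀ * (g₀⁻¹ * y⁻¹ * g₀ * y) := by group
        _ = y * g₀ := by rw [h, mul_one]
    obtain ⟨hsq, k, hk⟩ := exists_pow_of_card_prime D hDcard hg₀sqD hg₀sq hc'D
    have hc'eq : c' = g₀ ^ 2 := by
      rcases Nat.even_or_odd' k with ⟨m, rfl | rfl⟩
      · exfalso
        apply hc'1
        rw [hk, pow_mul, hsq, one_pow]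
      · rw [hk, pow_succ, pow_mul, hsq, one_pow, one_mul]
    have hform := Helper87.mul_pow_class_two y g₀ c' hc' (hDc c' hc'D y hyP).symm
      (hDc c' hc'D g₀ hg₀P).symm 2
    rw [Helper87.tri_two, hyp, one_mul, pow_one, hc'eq, ← pow_two, hsq] at hform
    have := hIII (y * g₀) (P.mul_mem hyP hg₀P) hform
    apply hg₀y
    have h3 : y * (g₀ * y) = y * (y * g₀) := by rw [← mul_assoc, this]
    exact mul_left_cancel h3
  -- now `M = C_P(y)` is the set of elements of order dividing `p`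
  obtain ⟨M, hMdef⟩ : ∃ M : Subgroup Ω, M = P ⊓ Subgroup.centralizer ({y} : Set Ω) := ⟨_, rfl⟩
  rw [← hMdef] at hg'M
  have hM : ∀ v, v ∈ M ↔ v ∈ P ∧ v * y = y * v := fun v => by
    rw [hMdef]; exact mem_inf_centralizer_singleton
  have hM' : ∀ v, v ∈ M ↔ v ∈ P ∧ v ^ p = 1 := fun v =>
    ⟨fun hv => ⟨((hM v).1 hv).1, hMexp v ((hM v).1 hv).1 ((hM v).1 hv).2⟩,
      fun hv => (hM v).2 ⟨hv.1, hIII v hv.1 hv.2⟩⟩
  have hMP : M ≤ P := fun v hv => ((hM v).1 hv).1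
  have hMS : M ≤ S := hMP.trans hPS
  have hMsc : F.StronglyClosed M := by
    rw [stronglyClosed_iff]
    refine ⟨hMS, fun R h hR hh x hx => ?_⟩
    rw [hM']
    refine ⟨hsc R h (hR.trans hMP) hh x hx, ?_⟩
    rw [← mor_map_pow hh hx, ((hM' x).1 (hR hx)).2, hh.map_one]
  have hMn : S ≤ Subgroup.normalizer (M : Set Ω) := StronglyClosed.le_normalizer hMsc
  haveI : Finite M := finite_of_le hMS
  have hMcomm : ∀ a b : M, a * b = b * a := fun a b =>
    Subtype.ext (hMab a ((hM a).1 a.2).1 b ((hM b).1 b.2).1 ((hM a).1 a.2).2 ((hM b).1 b.2).2)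
  have hyM : y ∈ M := (hM y).2 ⟨hyP, rfl⟩
  have hDM : D ≤ M := fun d hd => (hM d).2 ⟨hDP hd, (hDc d hd y hyP).symm⟩
  have hzM : z ∈ M := hDM hz
  have hzp : z ^ p = 1 := ((hM' z).1 hzM).2
  have hβ : Iso F M M g' := iso_of_card_le hg'M hMS
    (fun v hv => (stronglyClosed_iff.1 hMsc).2 M g' le_rfl hg'M v hv) le_rfl
  have hu : Iso F M M (fun v => g₀ * v * g₀⁻¹) := iso_of_card_le (Mor.conj hMS (hPS hg₀P)) hMS
    (fun v hv => (Subgroup.mem_normalizer_iff.1 (hMn (hPS hg₀P)) v).1 hv) le_rfl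
  letI : CommGroup ↥M := { (inferInstance : Group ↥M) with mul_comm := hMcomm }
  have hux : hu.equiv ⟨z, hzM⟩ = ⟨z, hzM⟩ := by
    apply Subtype.ext
    show g₀ * z * g₀⁻¹ = z
    rw [hDc z hz g₀ hg₀P]; group
  have hcomm : ∀ v : M, v⁻¹ * hu.equiv v ∈ Subgroup.zpowers (⟨z, hzM⟩ : M) := by
    intro v
    have h2 : (v : Ω)⁻¹ * (g₀ * v * g₀⁻¹) ∈ D := by
      have : (v : Ω)⁻¹ * (g₀ * v * g₀⁻¹) = ⁅(v : Ω)⁻¹, g₀⁆ := by
        rw [commutatorElement_def]; group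
      rw [this]
      exact hcommD _ (P.inv_mem (hMP v.2)) _ hg₀P
    obtain ⟨k, hk⟩ := (exists_pow_of_card_prime D hDcard hz hz1 h2).2
    rw [Subgroup.mem_zpowers_iff]
    refine ⟨k, Subtype.ext ?_⟩
    rw [Subgroup.coe_zpow, zpow_natCast, Subgroup.coe_mul, Subgroup.coe_inv, Iso.equiv_apply]
    exact hk.symm
  have huy : hu.equiv ⟨y, hyM⟩ ≠ ⟨y, hyM⟩ := by
    intro h
    have h3 : g₀ * y * g₀⁻¹ = y := congrArg Subtype.val h
    apply hg₀y
    calc g₀ * y = g₀ * y * g₀⁻¹ * g₀ := by group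
      _ = y * g₀ := by rw [h3]
  have hβy : hβ.equiv ⟨y, hyM⟩ = ⟨z, hzM⟩ := Subtype.ext hg'y
  have hβx : hu.equiv (hβ.equiv ⟨z, hzM⟩) ≠ hβ.equiv ⟨z, hzM⟩ := by
    intro h
    have h3 : g₀ * g' z * g₀⁻¹ = g' z := congrArg Subtype.val h
    have hg'D : Mor F D g' := hg'M.restrict hDM
    have hg'z : g' z ∉ D := fun h4 => hz1 (hstar z hz h4)
    obtain ⟨-, -, hexp2, -⟩ := centralizer_of_fused_generator hS hF hP D hDP hDcard hDn hDc hcommD
      hpowD hna hg'D hz hg'z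
    have h5 : g₀ ^ p = 1 := hexp2 g₀ hg₀P (by
      calc g₀ * g' z = g₀ * g' z * g₀⁻¹ * g₀ := by group
        _ = g' z * g₀ := by rw [h3])
    exact hg₀y (hIII g₀ hg₀P h5)
  obtain ⟨δ, hδA, hδz, hδy, hδu⟩ := exists_inverting_commuting (V := ↥M) (p := p) (F.autGroup M)
    ⟨z, hzM⟩ ⟨y, hyM⟩ (Subtype.ext (by rw [Subgroup.coe_pow, Subgroup.coe_one]; exact hzp))
    (Subtype.ext (by rw [Subgroup.coe_pow, Subgroup.coe_one]; exact hyp))
    hu.equiv hβ.equiv hu.equiv_mem_autGroup hβ.equiv_mem_autGroup hux hcomm huy hβy hβx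
  have hd : Iso F M M (extAut δ) := iso_of_mor_extAut ((mem_autGroup_iff hMS).1 hδA)
  have hrecM : F.IsReceptive M :=
    receptive_of_fullyNormalized hS hF (fullyNormalized_of_le_normalizer F hMS hMn)
  obtain ⟨e, he, hed⟩ := (isReceptive_iff.1 hrecM).2 M (extAut δ) hd
  have hdz : extAut δ z = z⁻¹ := by rw [extAut_mem δ hzM, hδz]; rfl
  have hdy : extAut δ y = y⁻¹ := by rw [extAut_mem δ hyM, hδy]; rfl
  have hdu : ∀ v ∈ M, extAut δ (g₀ * v * g₀⁻¹) = g₀ * extAut δ v * g₀⁻¹ := by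
    intro v hv
    have hc : g₀ * v * g₀⁻¹ ∈ M := (Subgroup.mem_normalizer_iff.1 (hMn (hPS hg₀P)) v).1 hv
    rw [extAut_mem δ hc, extAut_mem δ hv]
    have h1 : hu.equiv ⟨v, hv⟩ = ⟨g₀ * v * g₀⁻¹, hc⟩ := Subtype.ext (hu.equiv_apply _)
    have h2 := congrArg Subtype.val (hδu ⟨v, hv⟩)
    rw [h1, Iso.equiv_apply] at h2
    exact h2
  have hMext : M ≤ hd.ext := by
    refine le_trans ?_ hd.centralizerIn_le_ext
    intro v hv
    refine ⟨hMS hv, Subgroup.mem_centralizer_iff.2 (fun w hw => ?_)⟩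
    exact congrArg Subtype.val (hMcomm ⟨w, hw⟩ ⟨v, hv⟩)
  have hg₀ext : g₀ ∈ hd.ext := by
    rw [Iso.mem_ext]
    exact ⟨hPS hg₀P, hMn (hPS hg₀P), g₀, hPS hg₀P, hdu⟩
  have hPext : P ≤ hd.ext := by
    intro a ha
    obtain ⟨j, hj⟩ := exists_pow_mul_commute (G := ↥P) (commutator ↥P) hcard hcenP hcommP ⟨y, hyP⟩
      ⟨g₀, hg₀P⟩ (fun h => hg₀y (congrArg Subtype.val h)) ⟨a, ha⟩
    have hj' : (a * g₀ ^ j) * y = y * (a * g₀ ^ j) := by
      simpa using congrArg Subtype.val hj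
    have hm : a * g₀ ^ j ∈ M := (hM _).2 ⟨P.mul_mem ha (P.pow_mem hg₀P j), hj'⟩
    have : a = (a * g₀ ^ j) * (g₀ ^ j)⁻¹ := by group
    rw [this]
    exact hd.ext.mul_mem (hMext hm) (hd.ext.inv_mem (hd.ext.pow_mem hg₀ext j))
  have heP : Mor F P e := he.restrict hPext
  have heg : e g₀ ∈ P := hsc P e le_rfl heP g₀ hg₀P
  have h1 : e g₀ * y⁻¹ * (e g₀)⁻¹ = g₀ * y⁻¹ * g₀⁻¹ := by
    have hc : g₀ * y * g₀⁻¹ ∈ M := (Subgroup.mem_normalizer_iff.1 (hMn (hPS hg₀P)) y).1 hyM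
    have h2 : e (g₀ * y * g₀⁻¹) = e g₀ * e y * (e g₀)⁻¹ := by
      rw [heP.map_mul (P.mul_mem hg₀P hyP) (P.inv_mem hg₀P), heP.map_mul hg₀P hyP, heP.map_inv hg₀P]
    rw [hed _ hc, hed y hyM, hdu y hyM, hdy] at h2
    exact h2.symm
  obtain ⟨m', hm'⟩ : ∃ m' : Ω, m' = g₀⁻¹ * e g₀ := ⟨_, rfl⟩
  have hm'P : m' ∈ P := hm' ▸ P.mul_mem (P.inv_mem hg₀P) heg
  have hm'y : m' * y = y * m' := by
    have h3 : m' * y⁻¹ * m'⁻¹ = y⁻¹ := by
      rw [hm']
      calc g₀⁻¹ * e g₀ * y⁻¹ * (g₀⁻¹ * e g₀)⁻¹ = g₀⁻¹ * (e g₀ * y⁻¹ * (e g₀)⁻¹) * g₀ := by group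
        _ = g₀⁻¹ * (g₀ * y⁻¹ * g₀⁻¹) * g₀ := by rw [h1]
        _ = y⁻¹ := by group
    have h4 : m' * y⁻¹ = y⁻¹ * m' := by
      calc m' * y⁻¹ = m' * y⁻¹ * m'⁻¹ * m' := by group
        _ = y⁻¹ * m' := by rw [h3]
    calc m' * y = y * (y⁻¹ * m') * y := by group
      _ = y * (m' * y⁻¹) * y := by rw [h4]
      _ = y * m' := by group
  have hm'p : m' ^ p = 1 := hMexp m' hm'P hm'y
  have h5 : (e g₀) ^ p = g₀ ^ p := by
    have h6 : e g₀ = g₀ * m' := by rw [hm']; group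
    have h7 := mul_pow_prime_of_class_two (G := ↥P) hp2 (commutator ↥P) hcard hcenP hcommP
      ⟨g₀, hg₀P⟩ ⟨m', hm'P⟩
    have h8 : (g₀ * m') ^ p = g₀ ^ p * m' ^ p := by
      simpa using congrArg Subtype.val h7
    rw [h6, h8, hm'p, mul_one]
  have hwD : g₀ ^ p ∈ D := hpowD g₀ hg₀P
  have h9 : e (g₀ ^ p) = (g₀ ^ p)⁻¹ := by
    obtain ⟨k, hk⟩ := (exists_pow_of_card_prime D hDcard hz hz1 hwD).2
    rw [hed _ (hDM hwD), hk, extAut_mem δ (M.pow_mem hzM k)]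
    have : (⟨z ^ k, M.pow_mem hzM k⟩ : M) = (⟨z, hzM⟩ : M) ^ k := Subtype.ext (by simp)
    rw [this, map_pow, hδz]
    simp
  have h10 : g₀ ^ p = (g₀ ^ p)⁻¹ := by rw [← h9, mor_map_pow heP hg₀P, h5]
  have h11 : g₀ ^ p = 1 := by
    by_contra hne1
    have hpp : (g₀ ^ p) ^ p = 1 := (exists_pow_of_card_prime D hDcard hwD hne1 hwD).1
    have hsq : (g₀ ^ p) ^ 2 = 1 := by
      rw [pow_two]
      nth_rewrite 2 [h10]
      exact mul_inv_cancel _
    have h12 : orderOf (g₀ ^ p) ∣ 1 := by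
      have := Nat.dvd_gcd (orderOf_dvd_of_pow_eq_one hsq) (orderOf_dvd_of_pow_eq_one hpp)
      rwa [(Nat.coprime_primes Nat.prime_two hp).2 (Ne.symm hp2)] at this
    exact hne1 (orderOf_eq_one_iff.1 (Nat.dvd_one.1 h12))
  exact hg₀y (hIII g₀ hg₀P h11)

/-- Let F be a saturated fusion system over a finite p-group S and P a subgroup of S strongly closed in F that is generalized extraspecial (its Frattini subgroup equals its commutator subgroup and has order p) and not isomorphic to E × A with A elementary abelian and E dihedral of order 8 (p = 2) or extraspecial of order p³ and exponent p (p odd). Then P is normal in F. -/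
theorem result {Ω : Type*} [Group Ω] {S : Subgroup Ω} [Finite S] (p : ℕ) [Fact p.Prime] (hS : IsPGroup p S) (F : Cfsg.FusionSystem S) (hF : F.IsSaturated p) (P : Subgroup Ω) (hP : F.StronglyClosed P) (hge : frattini ↥P = commutator ↥P ∧ Nat.card ↥(commutator ↥P) = p) (h2 : p = 2 → ¬ ∃ (A : Type) (_ : CommGroup A), (∀ a : A, a ^ 2 = 1) ∧ Nonempty (↥P ≃* DihedralGroup 4 × A)) (hodd : p ≠ 2 → ¬ ∃ (E : Type) (_ : Group E) (A : Type) (_ : CommGroup A), Cfsg.IsExtraspecial p E ∧ Nat.card E = p ^ 3 ∧ Monoid.exponent E = p ∧ (∀ a : A, a ^ p = 1) ∧ Nonempty (↥P ≃* E × A)) : F.IsNormal P := by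
  obtain ⟨hwc, hcl⟩ := derived_weaklyClosed p hS F hF P hP hge h2 hodd
  refine (Cfsg.Agent.S5226.result p hS F hF P).2 ⟨hP, 2, ![⊥, ⁅P, P⁆, P], rfl, rfl, ?_, ?_, ?_⟩
  · rw [Fin.monotone_iff_le_succ]
    intro i
    fin_cases i
    · exact bot_le
    · exact Subgroup.commutator_le_self P
  · intro i
    fin_cases i
    · show ⁅⁅P, P⁆, P⁆ ≤ ⊥
      rw [hcl]
    · show ⁅P, P⁆ ≤ ⁅P, P⁆
      exact le_rfl
  · intro i
    fin_cases i
    · show F.WeaklyClosed ⊥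
      refine ⟨bot_le, fun φ _ => ?_⟩
      ext x
      constructor
      · rintro ⟨a, rfl⟩
        have : a = 1 := Subsingleton.elim _ _
        rw [this, map_one]; exact Subgroup.one_mem _
      · intro hx
        rw [Subgroup.mem_bot] at hx
        rw [hx]; exact Subgroup.one_mem _
    · exact hwc

end Cfsg.Agent.S5233
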