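-- Statement S5234
import Mathlib
import Cfsg.Statements.S5234
import Cfsg.Agent.Lib.Helper24.MetaBasic
import Cfsg.Agent.Lib.Helper86.OmegaRankTwo

set_option autoImplicit false
open Cfsg

namespace Cfsg.Agent.S5234

/-- Let p be an odd prime, F a saturated fusion system over a finite p-group S and P a metacyclic subgroup of S strongly closed in F. Then P is normal in F. -/
theorem result {Ω : Type*} [Group Ω] {S : Subgroup Ω} [Finite S] (p : ℕ) [Fact p.Prime] (hS : IsPGroup p S) (F : Cfsg.FusionSystem S) (hF : F.IsSaturated p) (P : Subgroup Ω) (hP : F.StronglyClosed P) (hp : p ≠ 2) (hm : Cfsg.IsMetacyclic ↥P) : F.IsNormal P := by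
  haveI : Finite P := Cfsg.Agent.Helper87.finite_of_le hP.1
  obtain ⟨K, hK, hKcard⟩ := Cfsg.Agent.Helper24.Meta.exists_omega hp (hS.to_le hP.1) hm
  refine Cfsg.Agent.Helper86.isNormal_of_omega_card_dvd_sq hp hS hF hP (K.map P.subtype) ?_ ?_
  · intro x
    constructor
    · rintro ⟨k, hk, rfl⟩
      refine ⟨k.2, ?_⟩
      have := (hK k).1 hk
      have h2 := congrArg Subtype.val this
      simpa using h2
    · rintro ⟨hxP, hxp⟩
      exact ⟨⟨x, hxP⟩, (hK _).2 (Subtype.ext hxp), rfl⟩
  · rw [Subgroup.card_map_of_injective P.subtype_injective]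
    exact hKcard

end Cfsg.Agent.S5234
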