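import Cfsg.Statements.S5235
import Mathlib
import Cfsg.Agent.Lib.Helper86.MetaTwoCore
import Cfsg.Agent.Lib.Helper86.ResCoreCrit

set_option autoImplicit false
open Cfsg

namespace Cfsg.Agent.S5235

open Cfsg.FusionSystem Cfsg.Agent.Helper87 Cfsg.Agent.Helper86

/-- Let F be a saturated fusion system over a finite 2-group S (p = 2) and P a metacyclic subgroup of S strongly closed in F that is not dihedral, not semidihedral and not generalized quaternion (here the group of order 2, the Klein four-group and the cyclic group of order 4 also count as excluded). Then P is normal in F. -/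
theorem result {Ω : Type*} [Group Ω] {S : Subgroup Ω} [Finite S] (p : ℕ) [Fact p.Prime] (hS : IsPGroup p S) (F : Cfsg.FusionSystem S) (hF : F.IsSaturated p) (P : Subgroup Ω) (hP : F.StronglyClosed P) (hp : p = 2) (hm : Cfsg.IsMetacyclic ↥P) (hd : ¬ ∃ m : ℕ, Nonempty (↥P ≃* DihedralGroup m)) (hq : ¬ ∃ m : ℕ, Nonempty (↥P ≃* QuaternionGroup m)) (hsd : ¬ Cfsg.IsQuasiDihedral ↥P) : F.IsNormal P := by
  subst hp
  have hPS : P ≤ S := hP.1
  haveI : Finite P := finite_of_le hPS
  have hP2 : IsPGroup 2 P := hS.to_le hPS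
  apply Cfsg.Agent.Helper87.isNormal_of_stronglyClosed_of_le hS hF hP
  intro R _ hcen hrad
  apply le_of_centric_radical_of_res_pCore hS hP hcen hrad
  intro x hxP _ hx2 γ hγ
  have hTP : R ⊓ P ≤ P := inf_le_right
  apply conj_mem_pCore_of_metacyclic hP2 hm hd hq hsd (Subgroup.inclusion hTP)
    (Subgroup.inclusion_injective hTP) ⟨x, hxP⟩ ?_ (F.autGroup (R ⊓ P)) γ ?_
  · refine ⟨⟨x ^ 2, ⟨hx2, P.pow_mem hxP 2⟩⟩, Subtype.ext ?_⟩
    simp
  · intro v
    apply Subtype.ext
    simp [hγ v]

end Cfsg.Agent.S5235
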