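import Cfsg.Statements.S5243
import Cfsg.Agent.Lib.Helper84.FusY5

set_option autoImplicit false
open Cfsg

namespace Cfsg.Agent.S5243

/-- Let F be a saturated fusion system over a finite p-group S, E a normal subsystem of F over T ≤ S, and χ a surjective homomorphism from Aut_F(T) onto a nontrivial finite group Δ of order prime to p whose kernel contains Aut_E(T). Then there is a proper normal subsystem F₀ of F over S containing E such that Aut_{F₀}(S) consists of those α ∈ Aut_F(S) whose restriction to T is an element of Aut_F(T) in the kernel of χ; moreover every p'-residual subsystem O^{p'}(F) of F is contained in F₀. -/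
theorem result {Ω : Type*} [Group Ω] {S : Subgroup Ω} [Finite S] (p : ℕ) [Fact p.Prime] (hS : IsPGroup p S) (F : Cfsg.FusionSystem S) (hF : F.IsSaturated p) {T : Subgroup Ω} (hTS : T ≤ S) (E : Cfsg.FusionSystem T) (hE : E.IsNormalIn F p) {Δ : Type*} [Group Δ] [Finite Δ] [Nontrivial Δ] (hΔ : (Nat.card Δ).Coprime p) (χ : ↥(F.autGroup T) →* Δ) (hχ : Function.Surjective χ) (hker : (E.autGroup T).subgroupOf (F.autGroup T) ≤ χ.ker) : ∃ F₀ : Cfsg.FusionSystem S, F₀.IsNormalIn F p ∧ ¬ (∀ P : Subgroup Ω, F₀.Hom P = F.Hom P) ∧ E.IsSubsystemOf F₀ ∧ (∀ α : MulAut ↥S, α ∈ F₀.autGroup S ↔ α ∈ F.autGroup S ∧ ∃ β : ↥(F.autGroup T), χ β = 1 ∧ ∀ t : ↥T, (((β : MulAut ↥T) t : ↥T) : Ω) = ((α ⟨(t : Ω), hTS t.2⟩ : ↥S) : Ω)) ∧ ∀ R : Cfsg.FusionSystem S, F.IsPPrimeResidual p R → R.IsSubsystemOf F₀ := by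
  classical
  have hinv : E.IsInvariantIn F := hE.1.2.2
  have hEsat : E.IsSaturated p := hE.1.1
  have hsc := hinv.2.1
  have hKmem : ∀ γ : MulAut T, γ ∈ χ.ker.map (F.autGroup T).subtype ↔
      ∃ h : γ ∈ F.autGroup T, χ ⟨γ, h⟩ = 1 := by
    intro γ
    constructor
    · rintro ⟨b, hb, rfl⟩
      exact ⟨b.2, MonoidHom.mem_ker.mp hb⟩
    · rintro ⟨h, hχ1⟩
      exact ⟨⟨γ, h⟩, MonoidHom.mem_ker.mpr hχ1, rfl⟩
  have hK : Cfsg.Agent.Helper84.KData E F p (χ.ker.map (F.autGroup T).subtype) := by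
    refine ⟨?_, ?_, ?_, ?_⟩
    · rintro _ ⟨b, -, rfl⟩
      exact b.2
    · intro γ hγ κ hκ
      obtain ⟨hκF, hκ1⟩ := (hKmem κ).mp hκ
      rw [hKmem]
      refine ⟨Subgroup.mul_mem _ (Subgroup.mul_mem _ hγ hκF) (Subgroup.inv_mem _ hγ), ?_⟩
      have h1 : (⟨γ * κ * γ⁻¹, Subgroup.mul_mem _ (Subgroup.mul_mem _ hγ hκF)
          (Subgroup.inv_mem _ hγ)⟩ : F.autGroup T) =
          (⟨γ, hγ⟩ : F.autGroup T) * ⟨κ, hκF⟩ * (⟨γ, hγ⟩ : F.autGroup T)⁻¹ := rfl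
      rw [h1, map_mul, map_mul, map_inv, hκ1, mul_one, mul_inv_cancel]
    · intro α hα
      have hαF : α ∈ F.autGroup T := Cfsg.Agent.Helper87.autGroup_le_of_subsystem hinv.1 le_rfl hTS hα
      rw [hKmem]
      exact ⟨hαF, MonoidHom.mem_ker.mp (hker (Subgroup.mem_subgroupOf.mpr hα))⟩
    · intro γ hγ k hγk
      rw [hKmem]
      refine ⟨hγ, ?_⟩
      have h0 : (⟨γ, hγ⟩ : F.autGroup T) ^ (p ^ k) = 1 := by
        apply Subtype.ext
        rw [Subgroup.coe_pow, Subgroup.coe_one]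
        exact hγk
      have h1 : (χ ⟨γ, hγ⟩) ^ (p ^ k) = 1 := by rw [← map_pow, h0, map_one]
      have h2 : (χ ⟨γ, hγ⟩) ^ (Nat.card Δ) = 1 := pow_card_eq_one'
      have hcop : (p ^ k).Coprime (Nat.card Δ) := Nat.Coprime.pow_left k hΔ.symm
      have h3 := Nat.dvd_gcd (orderOf_dvd_of_pow_eq_one h1) (orderOf_dvd_of_pow_eq_one h2)
      rw [hcop.gcd_eq_one] at h3
      exact orderOf_eq_one_iff.mp (Nat.dvd_one.mp h3)
  refine ⟨Cfsg.Agent.Helper84.chiSys F p hS hinv.2.1.1 (χ.ker.map (F.autGroup T).subtype),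
    Cfsg.Agent.Helper84.chiSys_isNormalIn hS hEsat hF hinv hK, ?_,
    Cfsg.Agent.Helper84.sub_chiSys hS hEsat hF hinv hK, ?_, ?_⟩
  · obtain ⟨d, hd⟩ := exists_ne (1 : Δ)
    obtain ⟨b, rfl⟩ := hχ d
    have hγ₀K : (b : MulAut T) ∉ χ.ker.map (F.autGroup T).subtype := by
      intro h
      obtain ⟨hb, hb1⟩ := (hKmem _).mp h
      exact hd hb1
    obtain ⟨α, hα, hαH⟩ := Cfsg.Agent.Helper84.exists_aut_not_mem_HK hS hF hsc hK b.2 hγ₀K
    intro hall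
    apply hαH
    rw [← Cfsg.Agent.Helper84.mem_autGroup_chiSys_iff hS hF hinv hK]
    obtain ⟨φ, hφ, e⟩ := (Cfsg.Agent.Helper87.mem_autGroup_iff (le_refl S)).mp hα
    exact (Cfsg.Agent.Helper87.mem_autGroup_iff (le_refl S)).mpr
      ⟨φ, by rw [hall S]; exact hφ, e⟩
  · intro α
    rw [Cfsg.Agent.Helper84.mem_autGroup_chiSys_iff hS hF hinv hK, Cfsg.Agent.Helper84.mem_HK]
    constructor
    · rintro ⟨hαF, κ, hκ, e⟩
      obtain ⟨hκF, hκ1⟩ := (hKmem κ).mp hκ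
      refine ⟨hαF, ⟨κ, hκF⟩, hκ1, fun t => ?_⟩
      have h1 := e t t.2
      rw [Cfsg.Agent.Helper87.extAut_apply, Cfsg.Agent.Helper87.extAut_mem α (hTS t.2)] at h1
      exact h1.symm
    · rintro ⟨hαF, β, hβ1, e⟩
      refine ⟨hαF, (β : MulAut T), (hKmem _).mpr ⟨β.2, hβ1⟩, fun t ht => ?_⟩
      rw [Cfsg.Agent.Helper87.extAut_mem α (hTS ht), Cfsg.Agent.Helper87.extAut_mem _ ht]
      exact (e ⟨t, ht⟩).symm
  · intro R hR
    exact hR.2.2 _ (Cfsg.Agent.Helper84.chiSys_saturated hS hEsat hF hinv hK)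
      ⟨Cfsg.Agent.Helper84.chiSys_isSubsystemOf F p hS hinv.2.1.1 _,
        fun P hP => Cfsg.Agent.Helper84.chiSys_contains hS hinv.2.1.1 _ hP⟩

end Cfsg.Agent.S5243
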