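import Cfsg.Statements.S5254
import Cfsg.Agent.Lib.Helper83.AbIdxE

set_option autoImplicit false
open Cfsg

namespace Cfsg.Agent.S5254

open Cfsg.Agent.Helper83.AbIdx

/-- the hypotheses of the statement give a `Setting` -/
theorem setting_of {Ω : Type*} [Group Ω] {S : Subgroup Ω} {p : ℕ} (hS : IsPGroup p S)
    (hna : ¬ IsMulCommutative ↥S) (A : Subgroup Ω)
    (hA : A ≤ S ∧ IsMulCommutative ↥A ∧ (A.subgroupOf S).index = p) : Setting p S A := by
  refine ⟨hS, hA.1, ?_, hA.2.2, ?_⟩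
  · intro a ha b hb
    exact congrArg Subtype.val (hA.2.1.is_comm.comm ⟨a, ha⟩ ⟨b, hb⟩)
  · by_contra hcon
    push Not at hcon
    exact hna ⟨⟨fun a b => Subtype.ext (hcon a a.2 b b.2)⟩⟩

/-- `P = (P ∩ A)⟨x⟩` -/
theorem eq_inf_sup_zpowers {Ω : Type*} [Group Ω] {S A P : Subgroup Ω} [Finite S] {p : ℕ} [Fact p.Prime]
    (h : Setting p S A) (hPS : P ≤ S) {x : Ω} (hx : x ∈ P) (hxA : x ∉ A) :
    P = (P ⊓ A) ⊔ Subgroup.zpowers x := by
  apply le_antisymm
  · intro y hy
    obtain ⟨a, ha, k, rfl⟩ := h.decomp_in hPS hx hxA hy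
    exact Subgroup.mul_mem_sup ha (Subgroup.zpow_mem_zpowers x k)
  · exact sup_le inf_le_left (Subgroup.zpowers_le.2 hx)

/-- Let p be an odd prime, S a finite nonabelian p-group with a unique abelian subgroup A of index p, and F a saturated fusion system over S. Then every F-essential subgroup P is A, or Z(S)⟨x⟩ for some x ∈ S outside A, or (when the second centre Z₂(S) lies in A) Z₂(S)⟨x⟩ for some x ∈ S outside A; and P has index p in its normalizer in S. -/
theorem result {Ω : Type*} [Group Ω] {S : Subgroup Ω} [Finite S] (p : ℕ) [Fact p.Prime] (hS : IsPGroup p S) (F : Cfsg.FusionSystem S) (hF : F.IsSaturated p) (hp : p ≠ 2) (hna : ¬ IsMulCommutative ↥S) (A : Subgroup Ω) (hA : A ≤ S ∧ IsMulCommutative ↥A ∧ (A.subgroupOf S).index = p) (huniq : ∀ B : Subgroup Ω, B ≤ S → IsMulCommutative ↥B → (B.subgroupOf S).index = p → B = A) (P : Subgroup Ω) (hP : F.IsEssential p P) : (P = A ∨ (∃ x ∈ S, x ∉ A ∧ P = (S ⊓ Subgroup.centralizer (S : Set Ω))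 ⊔ Subgroup.zpowers x) ∨ (((upperCentralSeries ↥S 2).map S.subtype) ≤ A ∧ ∃ x ∈ S, x ∉ A ∧ P = ((upperCentralSeries ↥S 2).map S.subtype) ⊔ Subgroup.zpowers x)) ∧ (P.subgroupOf (S ⊓ Subgroup.normalizer (P : Set Ω))).index = p := by
  have h := setting_of hS hna A hA
  have hPS : P ≤ S := hP.1.1
  rcases essential_cases hS hF h hP with hPA | ⟨x, hx, hxA, hinf, hidx⟩ | ⟨x, hx, hxA, hZ2A, hinf, -, hidx⟩
  · refine ⟨Or.inl hPA, ?_⟩
    rw [hPA]
    have hN : S ⊓ Subgroup.normalizer (A : Set Ω) = S := by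
      rw [inf_eq_left]
      intro s hs
      rw [Subgroup.mem_normalizer_iff]
      intro y
      constructor
      · intro hy
        exact h.conj_mem hs hy
      · intro hy
        have := h.conj_mem' hs hy
        have e : s⁻¹ * (s * y * s⁻¹) * s = y := by group
        rwa [e] at this
    rw [hN]
    exact hA.2.2
  · refine ⟨Or.inr (Or.inl ⟨x, hPS hx, hxA, ?_⟩), hidx⟩
    have := eq_inf_sup_zpowers h hPS hx hxA
    rw [hinf] at this
    exact this
  · refine ⟨Or.inr (Or.inr ⟨hZ2A, x, hPS hx, hxA, ?_⟩), hidx⟩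
    have := eq_inf_sup_zpowers h hPS hx hxA
    rw [hinf] at this
    exact this

end Cfsg.Agent.S5254
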