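import Cfsg.Statements.S5257
import Cfsg.Agent.Lib.Helper83.AbIdxE
import Cfsg.Agent.Lib.Helper83.AbIdxF
import Cfsg.Agent.S5254

set_option autoImplicit false
open Cfsg

namespace Cfsg.Agent.S5257

open Cfsg.Agent.Helper83.AbIdx Cfsg.Agent.Helper87

/-- arithmetic: `a * b = p * p`, `a ≠ 1`, `b ≠ 1` force `b = p` -/
theorem eq_prime_of_mul_eq_sq {p a b : ℕ} (hp : p.Prime) (hab : a * b = p * p) (ha : a ≠ 1)
    (hb : b ≠ 1) : b = p := by
  have h1 : b ∣ p ^ 2 := by rw [pow_two, ← hab]; exact Dvd.intro_left a rfl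
  obtain ⟨k, hk, rfl⟩ := (Nat.dvd_prime_pow hp).1 h1
  interval_cases k
  · exact absurd (pow_zero p) hb
  · exact pow_one p
  · exfalso
    apply ha
    have h2 : a * p ^ 2 = 1 * p ^ 2 := by rw [one_mul, hab, pow_two]
    exact Nat.eq_of_mul_eq_mul_right (pow_pos hp.pos 2) h2

/-- the key structural facts: `Z₂(S) ≤ A` and `|Z₂(S) : Z(S)| = p` -/
theorem key {Ω : Type*} [Group Ω] {S : Subgroup Ω} [Finite S] (p : ℕ) [Fact p.Prime] (hS : IsPGroup p S)
    (F : Cfsg.FusionSystem S) (hF : F.IsSaturated p) (hna : ¬ IsMulCommutative ↥S) (A : Subgroup Ω)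
    (h : Setting p S A)
    (huniq : ∀ B : Subgroup Ω, B ≤ S → IsMulCommutative ↥B → (B.subgroupOf S).index = p → B = A)
    (P : Subgroup Ω) (hP : F.IsEssential p P) (hPA : P ≠ A) :
    ∃ x ∈ S, x ∉ A ∧ Z2 S ≤ A ∧ (ZS S).relIndex (Z2 S) = p := by
  have hp : p.Prime := Fact.out
  have hPS : P ≤ S := hP.1.1
  have hPH := pHyp_of_essential hS hF hP
  rcases essential_cases hS hF h hP with h1 | ⟨x, hx, hxA, hinf, hidx⟩ | ⟨x, hx, hxA, hZ2A, -, hrel, -⟩
  · exact absurd h1 hPA
  · have hxS : x ∈ S := hPS hx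
    -- `N_A(P) = Z₂(S) ∩ A`
    have hNA : (S ⊓ Subgroup.normalizer (P : Set Ω)) ⊓ A = Z2 S ⊓ A := by
      apply le_antisymm
      · rintro a ⟨⟨haS, haN⟩, haA⟩
        refine ⟨?_, haA⟩
        apply h.mem_Z2_of_comm haA hxS hxA
        rw [← hinf]
        refine ⟨P.mul_mem ((Subgroup.mem_normalizer_iff.1 haN x).1 hx) (P.inv_mem hx), ?_⟩
        exact h.comm_mem haS hxS
      · intro a ha
        refine ⟨⟨h.le ha.2, ?_⟩, ha.2⟩
        apply mem_normalizer_of_comm_mem (K := Z2 S ⊓ A) _ ha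
        intro a ha y hy
        exact hPH.ZS_le ((mem_Z2_iff.1 ha.1).2 y (hPS hy))
    have hrel : (ZS S).relIndex (Z2 S ⊓ A) = p := by
      rw [← hNA, ← hinf, ← h.relIndex_normalizer_eq hPS hx hxA]
      exact hidx
    have hZ2A : Z2 S ≤ A := by
      intro y hy
      by_contra hyA
      have hA2 : A ≤ Z2 S := h.le_Z2_of_not hy hyA
      have hinfA : Z2 S ⊓ A = A := inf_eq_right.2 hA2
      rw [hinfA] at hrel
      have hyS : y ∈ S := Z2_le S hy
      -- the abelian subgroup `B = Z(S)⟨y⟩`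
      set B : Subgroup Ω := Subgroup.closure ((ZS S : Set Ω) ∪ {y}) with hB
      have hBS : B ≤ S := by
        rw [hB, Subgroup.closure_le]
        rintro z (hz | hz)
        · exact hz.1
        · rw [Set.mem_singleton_iff] at hz; rw [hz]; exact hyS
      have hZB : ZS S ≤ B := fun z hz => Subgroup.subset_closure (Or.inl hz)
      have hyB : y ∈ B := Subgroup.subset_closure (Or.inr rfl)
      have hBc : IsMulCommutative ↥B := by
        apply Subgroup.isMulCommutative_closure
        rintro u (hu | hu) w (hw | hw)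
        · exact ((mem_ZS_iff.1 hw).2 u hu.1)
        · rw [Set.mem_singleton_iff] at hw
          rw [hw]; exact ((mem_ZS_iff.1 hu).2 y hyS).symm
        · rw [Set.mem_singleton_iff] at hu
          rw [hu]; exact ((mem_ZS_iff.1 hw).2 y hyS)
        · rw [Set.mem_singleton_iff] at hu hw
          rw [hu, hw]
      have hidxB : (B.subgroupOf S).index = p := by
        have h1 := Subgroup.relIndex_mul_relIndex (ZS S) A S h.center_le h.le
        rw [hrel, h.idx] at h1
        have h2 := Subgroup.relIndex_mul_relIndex (ZS S) B S hZB hBS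
        rw [← h1] at h2
        apply eq_prime_of_mul_eq_sq hp h2
        · rw [Ne, Subgroup.relIndex_eq_one]
          intro hle
          exact hyA (h.center_le (hle hyB))
        · rw [Ne, Subgroup.relIndex_eq_one]
          intro hle
          apply hna
          refine ⟨⟨fun a b => ?_⟩⟩
          apply Subtype.ext
          have := congrArg Subtype.val (hBc.is_comm.comm ⟨a, hle a.2⟩ ⟨b, hle b.2⟩)
          exact this
      have := huniq B hBS hBc hidxB
      exact hyA (this ▸ hyB)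
    refine ⟨x, hxS, hxA, hZ2A, ?_⟩
    rw [inf_eq_left.2 hZ2A] at hrel
    exact hrel
  · exact ⟨x, hPS hx, hxA, hZ2A, hrel⟩

/-- Let p be an odd prime, S a finite nonabelian p-group with a unique abelian subgroup A of index p, and F a saturated fusion system over S having an F-essential subgroup other than A. Then the second centre Z₂(S) lies in A; Z(S) ∩ [S, S] has order p; Z(S)[S, S] has index p in A; Z(S) has index p in Z₂(S); and S/Z(S) has maximal nilpotency class (if S/Z(S) has order pᵐ with m ≥ 3 then the term of index m − 2 of the lower central series of S, counting S as index 0, is not contained in Z(S)). -/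
theorem result {Ω : Type*} [Group Ω] {S : Subgroup Ω} [Finite S] (p : ℕ) [Fact p.Prime] (hS : IsPGroup p S) (F : Cfsg.FusionSystem S) (hF : F.IsSaturated p) (hp : p ≠ 2) (hna : ¬ IsMulCommutative ↥S) (A : Subgroup Ω) (hA : A ≤ S ∧ IsMulCommutative ↥A ∧ (A.subgroupOf S).index = p) (huniq : ∀ B : Subgroup Ω, B ≤ S → IsMulCommutative ↥B → (B.subgroupOf S).index = p → B = A) (P : Subgroup Ω) (hP : F.IsEssential p P) (hPA : P ≠ A) : ((upperCentralSeries ↥S 2).map S.subtype) ≤ A ∧ Nat.card ↥((S ⊓ Subgroup.centralizer (S : Set Ω)) ⊓ ((commutator ↥S).map S.subtype)) = p ∧ (((S ⊓ Subgroup.centralizer (S : Set Ω)) ⊔ ((commutator ↥S).map S.subtype)).subgroupOf A).index = p ∧ (((S ⊓ Subgroup.centralizer (S : Set Ω))).subgroupOf ((upperCentralSeries ↥S 2).map S.subtype)).index = p ∧ ∀ m : ℕ, ((S ⊓ Subgroup.centralizer (S : Set Ω)).subgroupOf S).index = p ^ m → 3 ≤ m → ¬ Subgroup.lowerCentralSeries S (m - 2) ≤ (S ⊓ Subgroup.centralizer (S : Set Ω)) := by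
  have h := Cfsg.Agent.S5254.setting_of hS hna A hA
  obtain ⟨x, hxS, hxA, hZ2A, hrel⟩ := key p hS F hF hna A h huniq P hP hPA
  refine ⟨hZ2A, h.card_ZS_inf_DS hxS hxA hZ2A hrel, h.index_ZS_sup_DS hxS hxA hZ2A hrel, hrel, ?_⟩
  intro m hm hm3
  exact h.not_lcs_le hxS hxA hZ2A hrel m hm (by omega)

end Cfsg.Agent.S5257
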