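import Cfsg.Statements.S5244
import Cfsg.Agent.Lib.Helper83.AbIdxJ
import Cfsg.Agent.S5257
import Cfsg.Agent.Lib.Helper87.FusionCore

set_option autoImplicit false
open Cfsg

namespace Cfsg.Agent.S5244

open Cfsg.FusionSystem Cfsg.Agent.Helper87 Cfsg.Agent.Helper83.AbIdx

/-- the centre of a nonabelian finite `p`-group is nontrivial -/
theorem ZS_ne_bot {Ω : Type*} [Group Ω] {S : Subgroup Ω} [Finite S] {p : ℕ} [Fact p.Prime]
    (hS : IsPGroup p S) (hna : ¬ IsMulCommutative ↥S) : ZS S ≠ ⊥ := by
  have hnt : Nontrivial ↥S := by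
    by_contra hcon
    rw [not_nontrivial_iff_subsingleton] at hcon
    exact hna ⟨⟨fun a b => Subsingleton.elim _ _⟩⟩
  have := hS.center_nontrivial
  obtain ⟨z, hz⟩ := exists_ne (1 : Subgroup.center ↥S)
  intro hbot
  apply hz
  have h1 : ((z : S) : Ω) ∈ ZS S := by
    rw [mem_ZS_iff]
    refine ⟨(z : S).2, fun s hs => ?_⟩
    have := Subgroup.mem_center_iff.1 z.2 ⟨s, hs⟩
    exact congrArg Subtype.val this
  rw [hbot, Subgroup.mem_bot] at h1
  apply Subtype.ext
  apply Subtype.ext
  exact h1

/-- `|P| = p |P ∩ A|` for `P ≤ S` not contained in `A` -/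
theorem card_eq_mul_of_inf_eq {Ω : Type*} [Group Ω] {S A P K : Subgroup Ω} [Finite S] {p : ℕ}
    [Fact p.Prime] (h : Setting p S A) (hPS : P ≤ S) {x : Ω} (hx : x ∈ P) (hxA : x ∉ A)
    (hinf : P ⊓ A = K) : Nat.card P = p * Nat.card K := by
  have hPA : ¬ P ≤ A := fun hle => hxA (hle hx)
  have h1 := h.relIndex_of_not_le hPS hPA
  have h2 : (A.subgroupOf P).index = p := h1
  have h3 := Subgroup.card_mul_index (A.subgroupOf P)
  rw [h2] at h3
  have h4 : A.subgroupOf P = K.subgroupOf P := by
    rw [← hinf, Subgroup.inf_subgroupOf_left]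
  have hle : K ≤ P := by rw [← hinf]; exact inf_le_left
  have h5 : Nat.card (K.subgroupOf P) = Nat.card K :=
    Nat.card_congr (Subgroup.subgroupOfEquivOfLe hle).toEquiv
  rw [h4, h5] at h3
  rw [← h3, mul_comm]

/-- some abelian subgroup `Z(S)⟨x⟩` is essential -/
theorem exists_typeH {Ω : Type*} [Group Ω] {S A : Subgroup Ω} [Finite S] {p : ℕ} [Fact p.Prime]
    (hS : IsPGroup p S) {F : Cfsg.FusionSystem S} (hF : F.IsSaturated p) (h : Setting p S A)
    (hna : ¬ IsMulCommutative ↥S) (hcore : F.core = ⊥) (hAe : ¬ F.IsEssential p A) :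
    ∃ (P : Subgroup Ω) (x : Ω), F.IsEssential p P ∧ x ∈ P ∧ x ∉ A ∧ P ⊓ A = ZS S ∧
      P.relIndex (S ⊓ Subgroup.normalizer (P : Set Ω)) = p := by
  by_contra hcon
  push Not at hcon
  have hn : F.IsNormal (ZS S) := by
    apply Cfsg.Agent.Helper84.normal_of_alperin_invariant F hS hF
    rintro P (hPS | hess)
    · subst hPS
      refine ⟨inf_le_left, fun α hα =>
        map_subgroupOf_eq_of_forall (G := F.autGroup P) (Q := ZS P) ?_ hα⟩
      intro α hα q hq
      have hiso := iso_of_mor_extAut ((mem_autGroup_iff le_rfl).1 hα)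
      have := ZS_map_mem hiso hq
      rwa [extAut_apply] at this
    · rcases essential_cases hS hF h hess with h1 | ⟨x, hx, hxA, hinf, hidx⟩ |
        ⟨x, hx, hxA, hZ2A, hinf2, hrel, -⟩
      · exact absurd (h1 ▸ hess) hAe
      · exact absurd hidx (hcon P x hess hx hxA hinf)
      · refine ⟨(pHyp_of_essential hS hF hess).ZS_le, fun α hα =>
          map_subgroupOf_eq_of_forall (G := F.autGroup P) (Q := ZS S) ?_ hα⟩
        intro α _ q hq
        exact ZS_invariant_of_typeB hS hF h hess hx hxA hinf2 hrel α q hq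
  have := le_core hn
  rw [hcore] at this
  exact ZS_ne_bot hS hna (le_bot_iff.1 this)


/-- Let p be an odd prime, S a finite nonabelian p-group with a unique abelian subgroup A of index p, and F a saturated fusion system over S with no nontrivial normal subgroup (O_p(F) = 1) in which A is not F-essential. Then some subgroup Z(S)⟨x⟩ with x ∈ S outside A is F-essential, the centre Z(S) is contained in the commutator subgroup of S, and S has maximal nilpotency class (if S has order pⁿ with n ≥ 3, the term of index n − 2 of its lower central series, counting S itself as the term of index 0, is nontrivial). -/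
theorem result {Ω : Type*} [Group Ω] {S : Subgroup Ω} [Finite S] (p : ℕ) [Fact p.Prime] (hS : IsPGroup p S) (F : Cfsg.FusionSystem S) (hF : F.IsSaturated p) (hp : p ≠ 2) (hna : ¬ IsMulCommutative ↥S) (A : Subgroup Ω) (hA : A ≤ S ∧ IsMulCommutative ↥A ∧ (A.subgroupOf S).index = p) (huniq : ∀ B : Subgroup Ω, B ≤ S → IsMulCommutative ↥B → (B.subgroupOf S).index = p → B = A) (hcore : F.core = ⊥) (hAe : ¬ F.IsEssential p A) : (∃ x ∈ S, x ∉ A ∧ F.IsEssential p ((S ⊓ Subgroup.centralizer (S : Set Ω)) ⊔ Subgroup.zpowers x)) ∧ (S ⊓ Subgroup.centralizer (S : Set Ω)) ≤ (commutator ↥S).map S.subtype ∧ ∀ n : ℕ, Nat.card S = p ^ n → 3 ≤ n → Subgroup.lowerCentralSeries S (n - 2) ≠ ⊥ := by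
  have hpp : p.Prime := Fact.out
  have h := Cfsg.Agent.S5254.setting_of hS hna A hA
  obtain ⟨P, x, hP, hx, hxA, hinf, hidx⟩ := exists_typeH hS hF h hna hcore hAe
  have hPS : P ≤ S := hP.1.1
  have hPA : P ≠ A := fun e => hxA (e ▸ hx)
  obtain ⟨x₀, hx₀S, hx₀A, hZ2A, hrel⟩ :=
    Cfsg.Agent.S5257.key p hS F hF hna A h huniq P hP hPA
  have hcard := h.card_ZS_inf_DS hx₀S hx₀A hZ2A hrel
  obtain ⟨η, hη, hηinv, hηdec⟩ :=
    exists_refl_of_typeH hS hF hp h hAe hP hx hxA hinf hidx hcard
  -- the fixed subgroup of the reflection is normal in the system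
  have hn : F.IsNormal (fixZ hη.iso) := by
    apply Cfsg.Agent.Helper84.normal_of_alperin_invariant F hS hF
    rintro P' (hP'S | hess)
    · subst hP'S
      refine ⟨fun q hq => hq.1.1, fun α hα =>
        map_subgroupOf_eq_of_forall (G := F.autGroup P') (Q := fixZ hη.iso) ?_ hα⟩
      intro α hα q hq
      have hiso := iso_of_mor_extAut ((mem_autGroup_iff le_rfl).1 hα)
      have := fixZ_invariant hS hF hcard hη hiso hq
      rwa [extAut_apply] at this
    · have hZP' := (pHyp_of_essential hS hF hess).ZS_le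
      refine ⟨fun q hq => hZP' hq.1, fun α hα =>
        map_subgroupOf_eq_of_forall (G := F.autGroup P') (Q := fixZ hη.iso) ?_ hα⟩
      intro α hα q hq
      rcases essential_cases hS hF h hess with h1 | ⟨x', hx', hx'A, hinf', hidx'⟩ |
        ⟨x', hx', hx'A, hZ2A', hinf2, hrel', -⟩
      · exact absurd (h1 ▸ hess) hAe
      · obtain ⟨η', hη', hη'inv, -⟩ :=
          exists_refl_of_typeH hS hF hp h hAe hess hx' hx'A hinf' hidx' hcard
        have hag := hη'.agree hS hF hcard hη
        have hq' : η' q = q := by rw [hag q hq.1]; exact hq.2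
        obtain ⟨h1, h2⟩ := hη'inv α hα q hq.1 hq'
        rw [← extAut_apply]
        refine ⟨h1, ?_⟩
        rw [← hag _ h1]
        exact h2
      · have hmor : Mor F P' (extAut α) := (mem_autGroup_iff hess.1.1).1 hα
        have hc : p * Nat.card (ZS S) < Nat.card P' := by
          have e1 := card_eq_mul_of_inf_eq h hess.1.1 hx' hx'A hinf2
          have e2 : Nat.card (Z2 S) = p * Nat.card (ZS S) := by
            have h3 := Subgroup.card_mul_index ((ZS S).subgroupOf (Z2 S))
            have h4 : ((ZS S).subgroupOf (Z2 S)).index = p := hrel'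
            have h5 : Nat.card ((ZS S).subgroupOf (Z2 S)) = Nat.card (ZS S) :=
              Nat.card_congr (Subgroup.subgroupOfEquivOfLe (ZS_le_Z2 S)).toEquiv
            rw [h4, h5] at h3
            rw [← h3, mul_comm]
          rw [e1, e2]
          have hfin : Finite ↥(ZS S) := finite_of_le inf_le_left
          have hpos : 0 < p * Nat.card (ZS S) :=
            Nat.mul_pos hpp.pos Nat.card_pos
          have h2 : 2 ≤ p := hpp.two_le
          nlinarith
        obtain ⟨γ, hγ, e⟩ := track hS hF h hAe P' _ hmor hZP' hc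
        have := fixZ_invariant hS hF hcard hη hγ hq
        rw [← e q hq.1, extAut_apply] at this
        exact this
  have hW : fixZ hη.iso = ⊥ := by
    have := le_core hn
    rw [hcore] at this
    exact le_bot_iff.1 this
  have hii : ZS S ≤ DS S := by
    intro z hz
    obtain ⟨ℓ, hℓ, w, hw, hηw, rfl⟩ := hηdec z hz
    have hwW : w ∈ fixZ hη.iso := ⟨hw, hηw⟩
    rw [hW, Subgroup.mem_bot] at hwW
    rw [hwW, mul_one]
    exact hℓ.2
  refine ⟨⟨x, hPS hx, hxA, ?_⟩, hii, ?_⟩
  · have e := Cfsg.Agent.S5254.eq_inf_sup_zpowers h hPS hx hxA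
    rw [hinf] at e
    rw [← e]
    exact hP
  · intro n hn h3
    have hZcard : Nat.card (ZS S) = p := by
      have e : ZS S ⊓ DS S = ZS S := inf_eq_left.2 hii
      rw [e] at hcard
      exact hcard
    have hrelS : (ZS S).relIndex S = p ^ (n - 1) := by
      have h1 : Nat.card ((ZS S).subgroupOf S) * ((ZS S).subgroupOf S).index = Nat.card S :=
        Subgroup.card_mul_index _
      have h2 : Nat.card ((ZS S).subgroupOf S) = Nat.card (ZS S) :=
        Nat.card_congr (Subgroup.subgroupOfEquivOfLe inf_le_left).toEquiv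
      rw [h2, hZcard, hn] at h1
      have h3' : p ^ n = p * p ^ (n - 1) := by
        rw [← pow_succ']
        congr 1
        omega
      rw [h3'] at h1
      exact Nat.eq_of_mul_eq_mul_left hpp.pos h1
    have hnot := h.not_lcs_le hx₀S hx₀A hZ2A hrel (n - 1) hrelS (by omega)
    intro hbot
    apply hnot
    have e : n - 2 = (n - 1 - 2) + 1 := by omega
    rw [e, Subgroup.lowerCentralSeries_succ] at hbot
    have hcent := Subgroup.commutator_eq_bot_iff_le_centralizer.1 hbot
    exact le_inf (Subgroup.lowerCentralSeries_le_self S _) hcent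

end Cfsg.Agent.S5244
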