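import Cfsg.Statements.S5245
import Cfsg.Agent.Lib.Helper83.AutSys
import Cfsg.Agent.Lib.Helper86.FusionWeakAlperin
import Cfsg.Agent.Lib.Helper86.ChainStabilizer
import Cfsg.Agent.Lib.Helper87.FusionNormal

set_option autoImplicit false
open Cfsg

namespace Cfsg.Agent.S5245

open Cfsg.FusionSystem Cfsg.Agent.Helper87 Cfsg.Agent.Helper83

variable {Ω : Type*} [Group Ω] {S : Subgroup Ω}

/-- powers of an automorphism fixing `T` pointwise and acting trivially modulo `T` do the same -/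
theorem pow_stab {R : Type*} [Group R] (T : Subgroup R) (γ : MulAut R)
    (h1 : ∀ x ∈ T, γ x = x) (h2 : ∀ x : R, x⁻¹ * γ x ∈ T) (n : ℕ) :
    (∀ x ∈ T, (γ ^ n) x = x) ∧ ∀ x : R, x⁻¹ * (γ ^ n) x ∈ T := by
  induction n with
  | zero => exact ⟨fun x _ => by simp, fun x => by simp⟩
  | succ n ih =>
    constructor
    · intro x hx
      rw [pow_succ, MulAut.mul_apply, h1 x hx, ih.1 x hx]
    · intro x
      rw [pow_succ, MulAut.mul_apply]
      have e : x⁻¹ * (γ ^ n) (γ x) = (x⁻¹ * γ x) * ((γ x)⁻¹ * (γ ^ n) (γ x)) := by group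
      rw [e]
      exact T.mul_mem (h2 x) (ih.2 (γ x))

/-- in an extremely sparse situation `[S, β] = S` -/
theorem commClosure_eq_top [Finite S] (p : ℕ) [Fact p.Prime] (hS : IsPGroup p S)
    (F : FusionSystem S)
    (hsp : ∀ (T : Subgroup Ω) (E : FusionSystem T), E.IsSaturated p → E.IsSubsystemOf F →
      (T = S ∧ ∀ P : Subgroup Ω, E.Hom P = F.Hom P) ∨
        (∀ P : Subgroup Ω, E.Hom P = (innerFusionSystem T).Hom P))
    {q : ℕ} (hq : q.Prime) (hqp : q ≠ p) (β : MulAut S) (hβF : β ∈ F.autGroup S)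
    (hβ : orderOf β = q) :
    Subgroup.closure {y : ↥S | ∃ x : S, y = x⁻¹ * β x} = ⊤ := by
  set T' : Subgroup ↥S := Subgroup.closure {y : ↥S | ∃ x : S, y = x⁻¹ * β x} with hT'
  by_contra hne
  have hgen : ∀ x : S, x⁻¹ * β x ∈ T' := fun x => Subgroup.subset_closure ⟨x, rfl⟩
  have hnorm : T'.Normal := by
    apply closure_normal_of_conj_mem
    rintro g _ ⟨x, rfl⟩
    have e : g * (x⁻¹ * β x) * g⁻¹ = ((x * g⁻¹)⁻¹ * β (x * g⁻¹)) * ((g⁻¹)⁻¹ * β g⁻¹)⁻¹ := by
      rw [map_mul]; group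
    rw [e]
    exact T'.mul_mem (hgen _) (T'.inv_mem (hgen _))
  have hβT : ∀ y ∈ T', β y ∈ T' := by
    have hle : T' ≤ T'.comap β.toMonoidHom := by
      rw [hT', Subgroup.closure_le]
      rintro _ ⟨x, rfl⟩
      show β (x⁻¹ * β x) ∈ T'
      rw [map_mul, map_inv]
      exact hgen (β x)
    exact fun y hy => hle hy
  have hβT' : ∀ y ∈ T', β⁻¹ y ∈ T' := by
    have hle : T' ≤ T'.comap (β⁻¹).toMonoidHom := by
      rw [hT', Subgroup.closure_le]
      rintro _ ⟨x, rfl⟩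
      show β⁻¹ (x⁻¹ * β x) ∈ T'
      rw [map_mul, map_inv, MulAut.inv_apply_self]
      have := hgen (β⁻¹ x)
      rwa [MulAut.apply_inv_self] at this
    exact fun y hy => hle hy
  set T : Subgroup Ω := T'.map S.subtype with hT
  have hTS : T ≤ S := by
    rintro _ ⟨y, -, rfl⟩; exact y.2
  have hmemT : ∀ {x : Ω} (hx : x ∈ S), x ∈ T ↔ (⟨x, hx⟩ : S) ∈ T' := by
    intro x hx
    constructor
    · rintro ⟨y, hy, hyx⟩
      have : y = ⟨x, hx⟩ := Subtype.ext hyx
      rwa [this] at hy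
    · intro h
      exact ⟨⟨x, hx⟩, h, rfl⟩
  have hTne : T ≠ S := by
    intro h
    apply hne
    rw [eq_top_iff]
    intro x _
    have : (x : Ω) ∈ T := by rw [h]; exact x.2
    exact (hmemT x.2).1 this
  have hMorS : Mor F S (extAut β) := (mem_autGroup_iff le_rfl).1 hβF
  have hIso : Iso F T T (extAut β) := by
    refine ⟨hMorS.restrict hTS, fun y => ⟨fun hy => ?_, ?_⟩⟩
    · have hyS := hTS hy
      refine ⟨((β⁻¹ ⟨y, hyS⟩ : S) : Ω), ?_, ?_⟩
      · rw [hmemT (β⁻¹ ⟨y, hyS⟩).2]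
        exact hβT' _ ((hmemT hyS).1 hy)
      · rw [extAut_apply, MulAut.apply_inv_self]
    · rintro ⟨x, hx, rfl⟩
      have hxS := hTS hx
      rw [extAut_mem β hxS, hmemT (β ⟨x, hxS⟩).2]
      exact hβT _ ((hmemT hxS).1 hx)
  have hβTF : hIso.equiv ∈ F.autGroup T := hIso.equiv_mem_autGroup
  have hβTapp : ∀ x : T, ((hIso.equiv x : T) : Ω) = ((β ⟨x, hTS x.2⟩ : S) : Ω) := by
    intro x
    rw [hIso.equiv_apply, extAut_mem β (hTS x.2)]
  have hβTq : (hIso.equiv : MulAut T) ^ q = 1 := by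
    ext x
    rw [pow_apply_coe hTS (hIso.equiv : MulAut T) β hβTapp q x, ← hβ, pow_orderOf_eq_one]
    rfl
  have : Finite T := finite_of_le hTS
  have hTp : IsPGroup p T := hS.to_le hTS
  have hΓ : Cfsg.Inn T ≤ Cfsg.Inn T ⊔ Subgroup.zpowers (hIso.equiv : MulAut T) := le_sup_left
  have hsat := autSys_saturated (hΓ := hΓ) hTp hq hqp (pow_mem_inn_of_mem_sup hβTq)
  have hsub := autSys_isSubsystemOf (hΓ := hΓ) F hTS
    (sup_le (inn_le_autGroup F hTS) ((Subgroup.zpowers_le).2 hβTF))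
  rcases hsp T _ hsat hsub with ⟨h1, -⟩ | h1
  · exact hTne h1
  have hinn : (hIso.equiv : MulAut T) ∈ Cfsg.Inn T :=
    le_inn_of_autSys_eq_inner h1 (Subgroup.mem_sup_right (Subgroup.mem_zpowers _))
  obtain ⟨t₀, ht₀⟩ := hinn
  -- `β x = t₀ x t₀⁻¹` on `T'`
  have hs₀ : (⟨(t₀ : Ω), hTS t₀.2⟩ : S) ∈ T' := (hmemT (hTS t₀.2)).1 t₀.2
  set s₀ : S := ⟨(t₀ : Ω), hTS t₀.2⟩ with hs₀_def
  have hβs₀ : ∀ x ∈ T', β x = s₀ * x * s₀⁻¹ := by
    intro x hx
    have hxT : (x : Ω) ∈ T := (hmemT x.2).2 hx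
    have h2 := hβTapp ⟨x, hxT⟩
    rw [← ht₀] at h2
    apply Subtype.ext
    rw [← h2]
    rfl
  set β' : MulAut S := (MulAut.conj s₀)⁻¹ * β with hβ'
  have hβ'1 : ∀ x ∈ T', β' x = x := by
    intro x hx
    rw [hβ', MulAut.mul_apply, hβs₀ x hx, MulAut.conj_inv_apply]
    group
  have hβ'2 : ∀ x : S, x⁻¹ * β' x ∈ T' := by
    intro x
    rw [hβ', MulAut.mul_apply, MulAut.conj_inv_apply]
    have e : x⁻¹ * (s₀⁻¹ * β x * s₀) = (x⁻¹ * s₀⁻¹ * x⁻¹⁻¹) * (x⁻¹ * β x) * s₀ := by group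
    rw [e]
    exact T'.mul_mem (T'.mul_mem (hnorm.conj_mem _ (T'.inv_mem hs₀) _) (hgen x)) hs₀
  -- `β' ^ q` is inner
  have hβq : β ^ q = 1 := hβ ▸ pow_orderOf_eq_one β
  have hβ'Γ : β' ∈ Cfsg.Inn S ⊔ Subgroup.zpowers β :=
    Subgroup.mul_mem _ (Subgroup.mem_sup_left (Subgroup.inv_mem _ ⟨s₀, rfl⟩))
      (Subgroup.mem_sup_right (Subgroup.mem_zpowers β))
  have hβ'q : β' ^ q ∈ Cfsg.Inn S := pow_mem_inn_of_mem_sup hβq β' hβ'Γ
  -- `δ = β' ^ |S|` is a `p'`-automorphism stabilizing the chain `S ≥ T' ≥ 1`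
  have hδq : (β' ^ Nat.card S) ^ q = 1 := by
    rw [← pow_mul, mul_comm, pow_mul]
    obtain ⟨s, hs⟩ := hβ'q
    rw [← hs, ← map_pow, pow_card_eq_one', map_one]
  have hcop : (orderOf (β' ^ Nat.card S)).Coprime p := by
    have h2 : orderOf (β' ^ Nat.card S) ∣ q := orderOf_dvd_of_pow_eq_one hδq
    have h3 : q.Coprime p := (Nat.coprime_primes hq (Fact.out : p.Prime)).2 hqp
    exact Nat.Coprime.coprime_dvd_left h2 h3
  have hstab := pow_stab T' β' hβ'1 hβ'2 (Nat.card S)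
  have hδ1 : β' ^ Nat.card S = 1 := by
    apply Cfsg.Agent.Helper86.coprime_aut_eq_one_of_chain hS
      (fun k => if k = 0 then ⊤ else if k = 1 then T' else ⊥) 2 (by simp) (by simp) _ _ hcop
    intro k hk x hx
    interval_cases k
    · simp only [zero_add, one_ne_zero, if_false, if_true]
      exact hstab.2 x
    · simp only [one_ne_zero, if_false, if_true] at hx
      have : (1 : ℕ) + 1 = 2 := rfl
      simp only [this]
      rw [hstab.1 x hx]
      simp
  -- hence `β'` is inner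
  have hβ'inn : β' ∈ Cfsg.Inn S := by
    have hdvd : orderOf β' ∣ Nat.card S := orderOf_dvd_of_pow_eq_one hδ1
    obtain ⟨N, hN⟩ := IsPGroup.iff_card.1 hS
    have hcop' : q.Coprime (orderOf β') := by
      have h3 : q.Coprime (p ^ N) := Nat.Coprime.pow_right N
        ((Nat.coprime_primes hq (Fact.out : p.Prime)).2 hqp)
      rw [← hN] at h3
      exact Nat.Coprime.coprime_dvd_right hdvd h3
    obtain ⟨m, hm⟩ := exists_pow_eq_self_of_coprime hcop'
    rw [← hm]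
    exact Subgroup.pow_mem _ hβ'q m
  have hβinn : β ∈ Cfsg.Inn S := by
    have : β = MulAut.conj s₀ * β' := by rw [hβ']; group
    rw [this]
    exact Subgroup.mul_mem _ ⟨s₀, rfl⟩ hβ'inn
  exact not_mem_inn_of_orderOf hS hq hqp hβ hβinn

theorem main_of_autSys [Finite S] (p : ℕ) [Fact p.Prime] (hS : IsPGroup p S)
    (F : FusionSystem S)
    (hsp : ∀ (T : Subgroup Ω) (E : FusionSystem T), E.IsSaturated p → E.IsSubsystemOf F →
      (T = S ∧ ∀ P : Subgroup Ω, E.Hom P = F.Hom P) ∨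
        (∀ P : Subgroup Ω, E.Hom P = (innerFusionSystem T).Hom P))
    {q : ℕ} (hq : q.Prime) (hqp : q ≠ p) (β : MulAut S) (hβ : orderOf β = q)
    (hEF : ∀ P : Subgroup Ω,
      (autSys S (Cfsg.Inn S ⊔ Subgroup.zpowers β) le_sup_left).Hom P = F.Hom P) :
    F.IsNormal S ∧ F.focalSubgroup = S ∧ F.hyperfocalSubgroup p = S ∧
      ∃ (q : ℕ) (β : MulAut ↥S), q.Prime ∧ q ≠ p ∧ β ∈ F.autGroup S ∧ orderOf β = q ∧
        (F.autGroup S : Subgroup (MulAut ↥S)) = Cfsg.Inn ↥S ⊔ Subgroup.zpowers β := by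
  have hMor : ∀ (P : Subgroup Ω) (f : Ω → Ω), Mor F P f ↔
      Mor (autSys S (Cfsg.Inn S ⊔ Subgroup.zpowers β) le_sup_left) P f := by
    intro P f
    unfold Mor
    rw [hEF P]
  have hAut : F.autGroup S = Cfsg.Inn S ⊔ Subgroup.zpowers β := by
    rw [← autGroup_autSys_top (T := S) (Γ := Cfsg.Inn S ⊔ Subgroup.zpowers β) (hΓ := le_sup_left)]
    ext α
    rw [mem_autGroup_iff le_rfl, mem_autGroup_iff le_rfl, hMor]
  have hβF : β ∈ F.autGroup S := by
    rw [hAut]; exact Subgroup.mem_sup_right (Subgroup.mem_zpowers β)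
  have hT' := commClosure_eq_top p hS F hsp hq hqp β hβF hβ
  -- every element of `S` is a product of elements `x⁻¹ β x`
  have hgenS : ∀ (K : Subgroup Ω), (∀ x : S, (x : Ω)⁻¹ * ((β x : S) : Ω) ∈ K) → S ≤ K := by
    intro K hK x hx
    have h1 : (⟨x, hx⟩ : S) ∈ (⊤ : Subgroup S) := Subgroup.mem_top _
    rw [← hT'] at h1
    have hle : Subgroup.closure {y : ↥S | ∃ x : S, y = x⁻¹ * β x} ≤ K.comap S.subtype := by
      rw [Subgroup.closure_le]
      rintro _ ⟨x, rfl⟩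
      exact hK x
    exact hle h1
  refine ⟨?_, ?_, ?_, q, β, hq, hqp, hβF, hβ, hAut⟩
  · rw [isNormal_iff]
    refine ⟨le_rfl, fun P f hf => ?_⟩
    obtain ⟨hP, γ, hγ, hfγ⟩ := mor_autSys_iff.1 ((hMor P f).1 hf)
    refine ⟨extAut γ, (hMor _ _).2 (mor_autSys_extAut (sup_le hP le_rfl) hγ),
      fun x hx => (hfγ x hx).symm, fun y => ⟨fun hy => extAut_surj γ hy, ?_⟩⟩
    rintro ⟨x, hx, rfl⟩
    exact extAut_mem_self γ hx
  · apply le_antisymm
    · unfold focalSubgroup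
      rw [Subgroup.closure_le]
      rintro _ ⟨P, φ, x, hφ, rfl⟩
      exact S.mul_mem (S.inv_mem ((F.le_of_mem hφ).1 x.2)) ((F.le_of_mem hφ).2 x)
    · apply hgenS
      intro x
      obtain ⟨φ, hφ, hφ'⟩ := (mem_autGroup_iff le_rfl).1 hβF
      refine Subgroup.subset_closure ⟨S, φ, x, hφ, ?_⟩
      rw [hφ' x, extAut_apply]
  · apply le_antisymm
    · unfold hyperfocalSubgroup
      rw [Subgroup.closure_le]
      rintro _ ⟨P, α, x, hP, -, rfl⟩
      exact S.mul_mem (S.inv_mem (hP x.2)) (hP ((α : MulAut P) x).2)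
    · apply hgenS
      intro x
      refine Subgroup.subset_closure ⟨S, ⟨β, hβF⟩, x, le_rfl, ?_, rfl⟩
      apply Subgroup.subset_closure
      show Nat.Coprime (orderOf (⟨β, hβF⟩ : F.autGroup S)) p
      have : orderOf (⟨β, hβF⟩ : F.autGroup S) = q := by
        rw [← hβ]; exact (Subgroup.orderOf_coe (⟨β, hβF⟩ : F.autGroup S)).symm
      rw [this]
      exact (Nat.coprime_primes hq (Fact.out : p.Prime)).2 hqp

/-- Let F be an extremely sparse fusion system over a finite p-group S (saturated, not the inner system, and every saturated fusion system over any subgroup T of S contained in F is F itself or the inner system of T). Then S is normal in F, the focal and hyperfocal subgroups of F are both S, and Aut_F(S) is generated by the inner automorphisms of S together with a single automorphism of prime order q ≠ p (F is the fusion system of the semidirect product of S by a cyclic group of prime order). -/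
theorem result {Ω : Type*} [Group Ω] {S : Subgroup Ω} [Finite S] (p : ℕ) [Fact p.Prime] (hS : IsPGroup p S) (F : Cfsg.FusionSystem S) (hF : F.IsSaturated p) (hxs : ¬ (∀ P : Subgroup Ω, F.Hom P = (Cfsg.innerFusionSystem S).Hom P) ∧ ∀ (T : Subgroup Ω) (E : Cfsg.FusionSystem T), E.IsSaturated p → E.IsSubsystemOf F → (T = S ∧ ∀ P : Subgroup Ω, E.Hom P = F.Hom P) ∨ (∀ P : Subgroup Ω, E.Hom P = (Cfsg.innerFusionSystem T).Hom P)) : F.IsNormal S ∧ F.focalSubgroup = S ∧ F.hyperfocalSubgroup p = S ∧ ∃ (q : ℕ) (β : MulAut ↥S), q.Prime ∧ q ≠ p ∧ β ∈ F.autGroup S ∧ orderOf β = q ∧ (F.autGroup S : Subgroup (MulAut ↥S)) = Cfsg.Inn ↥S ⊔ Subgroup.zpowers β := by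
  obtain ⟨hni, hsp⟩ := hxs
  have h1 : ∃ Q : Subgroup Ω, Q ≤ S ∧ ¬ IsPGroup p (F.autGroup Q) := by
    by_contra hcon
    push Not at hcon
    exact hni (Cfsg.Agent.Helper86.hom_eq_inner_of_isPGroup_autGroup hS F hF hcon)
  obtain ⟨Q, hQS, hQ⟩ := h1
  have hfinQ : Finite Q := finite_of_le hQS
  have hfinA : Finite (MulAut Q) := by
    have : Function.Injective (fun α : MulAut Q => (α : Q → Q)) := fun a b h => by
      ext x; exact congrArg Subtype.val (congrFun h x)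
    exact Finite.of_injective _ this
  have h2 : ∃ q : ℕ, q.Prime ∧ q ≠ p ∧ q ∣ Nat.card (F.autGroup Q) := by
    by_contra hcon
    push Not at hcon
    apply hQ
    have hpos : Nat.card (F.autGroup Q) ≠ 0 := Nat.card_pos.ne'
    have := Nat.eq_prime_pow_of_unique_prime_dvd hpos (p := p) (fun {d} hd hdvd => by
      by_contra hdp
      exact hcon d hd hdp hdvd)
    exact IsPGroup.of_card this
  obtain ⟨q, hq, hqp, hqdvd⟩ := h2
  have hqF : Fact q.Prime := ⟨hq⟩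
  obtain ⟨β₀, hβ₀⟩ := exists_prime_orderOf_dvd_card' q hqdvd
  have hβ : orderOf (β₀ : MulAut Q) = q := by
    rw [← hβ₀]; exact Subgroup.orderOf_coe β₀
  have hβq : (β₀ : MulAut Q) ^ q = 1 := hβ ▸ pow_orderOf_eq_one _
  have hQp : IsPGroup p Q := hS.to_le hQS
  have hΓ : Cfsg.Inn Q ≤ Cfsg.Inn Q ⊔ Subgroup.zpowers (β₀ : MulAut Q) := le_sup_left
  have hsat := autSys_saturated (hΓ := hΓ) hQp hq hqp (pow_mem_inn_of_mem_sup hβq)
  have hsub := autSys_isSubsystemOf (hΓ := hΓ) F hQS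
    (sup_le (inn_le_autGroup F hQS) ((Subgroup.zpowers_le).2 β₀.2))
  rcases hsp Q _ hsat hsub with ⟨hQeq, hEF⟩ | hin
  · subst hQeq
    exact main_of_autSys p hS F hsp hq hqp (β₀ : MulAut Q) hβ hEF
  · exfalso
    have := le_inn_of_autSys_eq_inner hin (Subgroup.mem_sup_right (Subgroup.mem_zpowers _))
    exact not_mem_inn_of_orderOf hQp hq hqp hβ this

end Cfsg.Agent.S5245
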