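import Cfsg.Statements.S5247
import Cfsg.Agent.S5096
import Cfsg.Agent.Lib.Helper87.FusionNormalizerSys
import Cfsg.Agent.Lib.Helper87.OmegaLemma

set_option autoImplicit false
open Cfsg

namespace Cfsg.Agent.S5247

open Cfsg.FusionSystem Cfsg.Agent.Helper87

/-- a quadratic automorphism of a commutative finite group has order dividing the order of the group -/
theorem pow_card_eq_one_of_quadratic {Q : Type*} [Group Q] [Finite Q] (hcomm : ∀ a b : Q, a * b = b * a)
    (χ : MulAut Q) (hquad : ∀ a : Q, (χ a⁻¹) * a * (χ a⁻¹) * (χ (χ a)) = 1) :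
    χ ^ Nat.card Q = 1 := by
  ext a
  have hy : χ (a⁻¹ * χ a) = a⁻¹ * χ a := by
    have h := hquad a
    rw [map_mul]
    have h2 : χ a⁻¹ * (χ (χ a)) = (χ a⁻¹ * a)⁻¹ := by
      apply eq_inv_of_mul_eq_one_right
      calc χ a⁻¹ * a * (χ a⁻¹ * χ (χ a)) = χ a⁻¹ * a * χ a⁻¹ * χ (χ a) := by
            simp only [mul_assoc]
        _ = 1 := h
    rw [h2, mul_inv_rev, map_inv, inv_inv]
  have hx : χ a = a * (a⁻¹ * χ a) := by group
  have h1 := aut_pow_apply_of_fixed χ a (a⁻¹ * χ a) hx hy (Nat.card Q)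
  rw [h1, pow_card_eq_one', mul_one]
  rfl

theorem mulAut_comm_of_isCyclic {Q : Type*} [Group Q] [IsCyclic Q] (α β : MulAut Q) :
    α * β = β * α := by
  apply (IsCyclic.mulAutMulEquiv Q).injective
  rw [map_mul, map_mul, mul_comm]

/-- Let p be an odd prime and F a saturated fusion system over a finite p-group S. Call a fusion system E (over any subgroup) p-stable when, for every fully E-normalized subgroup Q and every χ ∈ Aut_E(Q) with χ(a⁻¹)·a·χ(a⁻¹)·χ(χ(a)) = 1 for all a ∈ Q (χ acts quadratically), χ lies in O_p(Aut_E(Q)). Then F is p-stable if and only if every normalizer fusion system N_F(R) of every non-cyclic fully F-normalized subgroup R of S is p-stable. -/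
theorem result {Ω : Type*} [Group Ω] {S : Subgroup Ω} [Finite S] (p : ℕ) [Fact p.Prime] (hS : IsPGroup p S) (F : Cfsg.FusionSystem S) (hF : F.IsSaturated p) (hp : p ≠ 2) : (∀ Q : Subgroup Ω, F.IsFullyNormalized Q → ∀ χ : MulAut ↥Q, χ ∈ F.autGroup Q → (∀ a : ↥Q, (χ a⁻¹) * a * (χ a⁻¹) * (χ (χ a)) = 1) → χ ∈ ((Cfsg.pCore p ↥(F.autGroup Q)).map (F.autGroup Q).subtype : Subgroup (MulAut ↥Q))) ↔ ∀ R : Subgroup Ω, F.IsFullyNormalized R → ¬ IsCyclic ↥R → ∀ N : Cfsg.FusionSystem (Cfsg.FusionSystem.normalizerIn S R), F.IsNormalizerSystem R N → (∀ Q : Subgroup Ω, N.IsFullyNormalized Q → ∀ χ : MulAut ↥Q, χ ∈ N.autGroup Q → (∀ a : ↥Q, (χ a⁻¹) * a * (χ a⁻¹) * (χ (χ a)) = 1) → χ ∈ ((Cfsg.pCore p ↥(N.autGroup Q)).map (N.autGroup Q).subtype : Subgroup (MulAut ↥Q))) := by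
  classical
  constructor
  · intro hst R _ _ N hN Q hQfn χ hχ hquad
    have hQN : Q ≤ normalizerIn S R := hQfn.1
    have hQS : Q ≤ S := hQN.trans inf_le_left
    have hfinQ : Finite Q := finite_of_le hQS
    have hle : N.autGroup Q ≤ F.autGroup Q :=
      autGroup_le_of_subsystem (normalizerSystem_isSubsystemOf hN) hQN hQS
    obtain ⟨Q', hconj, hQ'fn⟩ := exists_fullyNormalized_conj F hQS
    obtain ⟨f, hf⟩ := isConj_iff.1 hconj
    have hχ' : MulAut.congr hf.equiv χ ∈ F.autGroup Q' := congr_mem_autGroup hf (hle hχ)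
    have hquad' : ∀ a : Q', (MulAut.congr hf.equiv χ a⁻¹) * a * (MulAut.congr hf.equiv χ a⁻¹) *
        (MulAut.congr hf.equiv χ (MulAut.congr hf.equiv χ a)) = 1 := by
      intro a
      obtain ⟨b, rfl⟩ := hf.equiv.surjective a
      simp only [congr_apply, ← map_inv, MulEquiv.symm_apply_apply, ← map_mul]
      rw [hquad b, map_one]
    have h1 := hst Q' hQ'fn _ hχ' hquad'
    obtain ⟨f', hf', e1, e2⟩ := hf.symm
    have h2 := pCore_autGroup_congr hf' h1
    have hsymm : hf'.equiv = hf.equiv.symm := by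
      ext y
      rw [hf.equiv_symm_apply e1 y]
      rfl
    have h3 : MulAut.congr hf'.equiv (MulAut.congr hf.equiv χ) = χ := by
      rw [hsymm]
      ext x
      simp [congr_apply]
    rw [h3] at h2
    exact mem_pCore_of_subsystem hle h2 hχ
  · intro hN' Q hQfn χ hχ hquad
    have hQS : Q ≤ S := hQfn.1
    have hfinQ : Finite Q := finite_of_le hQS
    by_cases hcyc : IsCyclic Q
    · -- cyclic case: `χ` is a `p`-element of the commutative group `Aut_F(Q)`
      have hcomm : ∀ a b : Q, a * b = b * a := by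
        intro a b
        let _ := IsCyclic.commGroup (α := Q)
        exact mul_comm a b
      have hpow := pow_card_eq_one_of_quadratic hcomm χ hquad
      obtain ⟨k, hk⟩ := IsPGroup.iff_card.1 (hS.to_le hQS)
      rw [hk] at hpow
      have hNn : (Subgroup.zpowers (⟨χ, hχ⟩ : F.autGroup Q)).Normal := by
        constructor
        intro n hn a
        have : a * n * a⁻¹ = n := by
          apply Subtype.ext
          show (a : MulAut Q) * (n : MulAut Q) * (a : MulAut Q)⁻¹ = n
          rw [mulAut_comm_of_isCyclic (a : MulAut Q) (n : MulAut Q), mul_inv_cancel_right]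
        rw [this]; exact hn
      have hNp : IsPGroup p (Subgroup.zpowers (⟨χ, hχ⟩ : F.autGroup Q)) := by
        apply IsPGroup.of_card (n := (Nat.factorization (orderOf (⟨χ, hχ⟩ : F.autGroup Q))) p)
        rw [Nat.card_zpowers]
        have hd : orderOf (⟨χ, hχ⟩ : F.autGroup Q) ∣ p ^ k := by
          apply orderOf_dvd_of_pow_eq_one
          exact Subtype.ext hpow
        obtain ⟨j, -, hj⟩ := (Nat.dvd_prime_pow Fact.out).1 hd
        rw [hj, Nat.Prime.factorization_pow Fact.out]
        simp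
      exact ⟨⟨χ, hχ⟩, le_pCore hNn hNp (Subgroup.mem_zpowers _), rfl⟩
    · obtain ⟨N, hN⟩ := Cfsg.Agent.S5096.result F Q hQS
      have hQN : Q ≤ normalizerIn S Q := le_normalizerIn hQS
      have hQfnN : N.IsFullyNormalized Q := by
        refine ⟨hQN, fun Q'' _ => ?_⟩
        have h1 : normalizerIn (normalizerIn S Q) Q = normalizerIn S Q :=
          inf_eq_left.2 inf_le_right
        rw [h1]
        have : Finite (normalizerIn S Q) := finite_of_le inf_le_left
        exact Subgroup.card_le_of_le inf_le_left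
      have hEq : N.autGroup Q = F.autGroup Q := autGroup_normalizerSystem_self hQS hN
      have hχN : χ ∈ N.autGroup Q := by rw [hEq]; exact hχ
      have h := hN' Q hQfn hcyc N hN Q hQfnN χ hχN hquad
      rw [hEq] at h
      exact h

end Cfsg.Agent.S5247
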