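import Cfsg.Statements.S5251
import Cfsg.Agent.Lib.Helper87.FusionRadical

set_option autoImplicit false
open Cfsg

namespace Cfsg.Agent.S5251

open Cfsg.FusionSystem Cfsg.Agent.Helper87
open scoped Pointwise

theorem le_normalizer_of_forall {Ω : Type*} [Group Ω] {H K : Subgroup Ω}
    (h : ∀ g ∈ K, ∀ x ∈ H, g * x * g⁻¹ ∈ H) : K ≤ Subgroup.normalizer (H : Set Ω) := by
  intro g hg
  rw [Subgroup.mem_normalizer_iff]
  intro x
  constructor
  · exact h g hg x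
  · intro hx
    have := h g⁻¹ (K.inv_mem hg) _ hx
    have e : g⁻¹ * (g * x * g⁻¹) * g⁻¹⁻¹ = x := by group
    rwa [e] at this

/-- Let F be a saturated fusion system over a finite p-group S, E a normal subsystem of F over T, and P an F-centric subgroup of S such that P ∩ T is not E-centric. Then some F-conjugate P* of P satisfies Out_S(P*) ∩ O_p(Out_F(P*)) ≠ 1: there is an element of N_S(P*) outside P* whose conjugation action on P* lies in O_p(Aut_F(P*)). In particular P is not both centric and radical in F. -/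
theorem result {Ω : Type*} [Group Ω] {S : Subgroup Ω} [Finite S] (p : ℕ) [Fact p.Prime] (hS : IsPGroup p S) (F : Cfsg.FusionSystem S) (hF : F.IsSaturated p) {T : Subgroup Ω} (E : Cfsg.FusionSystem T) (hE : E.IsNormalIn F p) (P : Subgroup Ω) (hP : F.IsCentric P) (hPT : ¬ E.IsCentric (P ⊓ T)) : (∃ φ ∈ F.Hom P, ∃ x ∈ S ⊓ Subgroup.normalizer (φ.range : Set Ω), x ∉ φ.range ∧ ∃ α ∈ ((Cfsg.pCore p ↥(F.autGroup φ.range)).map (F.autGroup φ.range).subtype : Subgroup (MulAut ↥φ.range)), ∀ y : ↥φ.range, ((α y : ↥φ.range) : Ω) = x * (y : Ω) * x⁻¹) ∧ ¬ F.IsRadical p P := by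
  classical
  have hT : F.StronglyClosed T := hE.1.2.2.2.1
  have hTS : T ≤ S := hT.1
  have hsub : E.IsSubsystemOf F := hE.1.2.2.1
  have hPS : P ≤ S := hP.1
  have hscl := (stronglyClosed_iff.1 hT).2
  -- step 1: witness of non-centricity
  have hP₀T : P ⊓ T ≤ T := inf_le_right
  have h1 : ∃ Q₀, E.IsConj (P ⊓ T) Q₀ ∧ ¬ centralizerIn T Q₀ ≤ Q₀ := by
    by_contra hcon
    push Not at hcon
    exact hPT ⟨hP₀T, hcon⟩
  obtain ⟨Q₀, hQ₀conj, hQ₀⟩ := h1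
  obtain ⟨c, hcC, hcQ⟩ := SetLike.not_le_iff_exists.1 hQ₀
  obtain ⟨f₀, hf₀⟩ := isConj_iff.1 hQ₀conj
  have hf₀F : Iso F (P ⊓ T) Q₀ f₀ := Iso.of_subsystem hsub hf₀
  have hP₀S : P ⊓ T ≤ S := inf_le_left.trans hPS
  -- fully normalized conjugate
  obtain ⟨P₁, hP₀P₁, hP₁fn⟩ := exists_fullyNormalized_conj F hP₀S
  obtain ⟨χ, hχ, hχiso⟩ := exists_map_normalizer_to_fullyNormalized hS hF hP₁fn hP₀P₁
  have hPN : P ≤ normalizerIn S (P ⊓ T) := by
    intro g hg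
    refine ⟨hPS hg, ?_⟩
    have : P ≤ Subgroup.normalizer ((P ⊓ T : Subgroup Ω) : Set Ω) := by
      apply le_normalizer_of_forall
      rintro g hg x ⟨hxP, hxT⟩
      exact ⟨P.mul_mem (P.mul_mem hg hxP) (P.inv_mem hg), StronglyClosed.conj_mem hT (hPS hg) hxT⟩
    exact this hg
  have hχP : Mor F P χ := hχ.restrict hPN
  obtain ⟨φ, hφ, eφ⟩ := (hχ.restrict hPN : Mor F P χ)
  have hiso : Iso F P φ.range χ :=
    (iso_of_mem hφ).congr (fun x hx => by rw [extFun_mem φ hx, eφ ⟨x, hx⟩])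
  suffices key : ∀ (Ps : Subgroup Ω), Iso F P Ps χ → (∃ x ∈ S ⊓ Subgroup.normalizer (Ps : Set Ω), x ∉ Ps ∧ ∃ α ∈ ((Cfsg.pCore p ↥(F.autGroup Ps)).map (F.autGroup Ps).subtype : Subgroup (MulAut ↥Ps)), ∀ y : ↥Ps, ((α y : ↥Ps) : Ω) = x * (y : Ω) * x⁻¹) by
    have k1 := key φ.range hiso
    refine ⟨⟨φ, hφ, k1⟩, ?_⟩
    intro hrad
    obtain ⟨x, hx, hxn, α, hα, eα⟩ := k1
    have hrad' := isRadical_of_iso hiso hrad
    rw [hrad'.2] at hα
    have hcen : F.IsCentric φ.range := isCentric_of_conj hP (isConj_iff.2 ⟨χ, hiso⟩)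
    have : α = conjAut φ.range x hx.2 := by
      ext y; rw [eα]; rfl
    rw [this] at hα
    exact hxn (mem_of_conjAut_mem_inn hcen hx.1 hx.2 hα)
  intro Ps hiso
  have hPsS : Ps ≤ S := hiso.le_right
  have hP₁T : P₁ ≤ T := by
    intro y hy
    obtain ⟨x, hx, rfl⟩ := hχiso.surj hy
    exact hscl (P ⊓ T) χ hP₀T hχiso.1 x hx
  have hP₁Ps : P₁ ≤ Ps := by
    intro y hy
    obtain ⟨x, hx, rfl⟩ := hχiso.surj hy
    exact hiso.map_mem hx.1
  obtain ⟨χ', hχ', e1, e2⟩ := hiso.symm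
  have hPsT : ∀ y ∈ Ps, y ∈ T → y ∈ P₁ := by
    intro y hy hyT
    have hx : χ' y ∈ P := hχ'.map_mem hy
    have hxT : χ' y ∈ T :=
      hscl (Ps ⊓ T) χ' inf_le_right (hχ'.1.restrict inf_le_left) y ⟨hy, hyT⟩
    have := hχiso.map_mem (show χ' y ∈ P ⊓ T from ⟨hx, hxT⟩)
    rwa [e2 y hy] at this
  -- transport the centralizing element
  have hQ₀P₁ : F.IsConj Q₀ P₁ := isConj_trans (isConj_symm (isConj_iff.2 ⟨f₀, hf₀F⟩)) hP₀P₁
  obtain ⟨t, ht⟩ := isConj_iff.1 hQ₀P₁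
  have hP₁fc := fullyCentralized_of_fullyNormalized hS hF hP₁fn
  have hP₁rec := receptive_of_fullyCentralized hS hF hP₁fc
  obtain ⟨t', ht', et'⟩ := (isReceptive_iff.1 hP₁rec).2 Q₀ t ht
  have hcS : c ∈ centralizerIn S Q₀ := ⟨hTS hcC.1, hcC.2⟩
  have hcN : c ∈ ht.ext := ht.centralizerIn_le_ext hcS
  have ht'iso : Iso F Q₀ P₁ t' := ht.congr (fun x hx => (et' x hx).symm)
  have hc' : t' c ∈ centralizerIn S P₁ := map_centralizerIn ht' ht.le_ext ht'iso hcN hcS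
  have hc'T : t' c ∈ T :=
    hscl (ht.ext ⊓ T) t' inf_le_right (ht'.restrict inf_le_left) c ⟨hcN, hcC.1⟩
  have hc'P₁ : t' c ∉ P₁ := by
    intro h
    obtain ⟨q, hq, eq⟩ := ht'iso.surj h
    have := ht'.inj (ht.le_ext hq) hcN eq
    exact hcQ (this ▸ hq)
  have hc'Ps : t' c ∉ Ps := fun h => hc'P₁ (hPsT _ h hc'T)
  have hXS : centralizerIn T P₁ ≤ S := inf_le_left.trans hTS
  have hc'X : t' c ∈ centralizerIn T P₁ := ⟨hc'T, hc'.2⟩
  -- Ps normalizes X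
  have hPsX : Ps ≤ Subgroup.normalizer ((centralizerIn T P₁ : Subgroup Ω) : Set Ω) := by
    apply le_normalizer_of_forall
    rintro g hg x ⟨hxT, hxC⟩
    refine ⟨StronglyClosed.conj_mem hT (hPsS hg) hxT, ?_⟩
    show g * x * g⁻¹ ∈ Subgroup.centralizer (P₁ : Set Ω)
    rw [Subgroup.mem_centralizer_iff]
    intro y hy
    have hy' : g⁻¹ * y * g⁻¹⁻¹ ∈ P₁ := by
      apply hPsT
      · exact Ps.mul_mem (Ps.mul_mem (Ps.inv_mem hg) (hP₁Ps hy)) (Ps.inv_mem (Ps.inv_mem hg))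
      · exact StronglyClosed.conj_mem hT (S.inv_mem (hPsS hg)) (hP₁T hy)
    have h3 := Subgroup.mem_centralizer_iff.1 hxC _ hy'
    calc y * (g * x * g⁻¹) = g * ((g⁻¹ * y * g⁻¹⁻¹) * x) * g⁻¹ := by group
      _ = g * (x * (g⁻¹ * y * g⁻¹⁻¹)) * g⁻¹ := by rw [h3]
      _ = g * x * g⁻¹ * y := by group
  have hHS : centralizerIn T P₁ ⊔ Ps ≤ S := sup_le hXS hPsS
  have hfinH : Finite (centralizerIn T P₁ ⊔ Ps : Subgroup Ω) := finite_of_le hHS
  have hne : Ps ≠ centralizerIn T P₁ ⊔ Ps := by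
    intro h
    apply hc'Ps
    rw [h]
    exact (le_sup_left : centralizerIn T P₁ ≤ _) hc'X
  obtain ⟨n, hn, hnPs⟩ := exists_normalizer_not_mem (S := centralizerIn T P₁ ⊔ Ps) (hS.to_le hHS)
    (le_sup_right) hne
  have hmul : ((centralizerIn T P₁ ⊔ Ps : Subgroup Ω) : Set Ω)
      = (centralizerIn T P₁ : Set Ω) * (Ps : Set Ω) :=
    Subgroup.coe_mul_of_right_le_normalizer_left _ Ps hPsX
  have hn1 : n ∈ (centralizerIn T P₁ : Set Ω) * (Ps : Set Ω) := by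
    rw [← hmul]; exact hn.1
  obtain ⟨x, hx, y, hy, rfl⟩ := Set.mem_mul.1 hn1
  have hxN : x ∈ Subgroup.normalizer (Ps : Set Ω) := by
    have h1 : x * y ∈ Subgroup.normalizer (Ps : Set Ω) := hn.2
    have h2 : y⁻¹ ∈ Subgroup.normalizer (Ps : Set Ω) := Subgroup.le_normalizer (Ps.inv_mem hy)
    have := Subgroup.mul_mem _ h1 h2
    rwa [mul_inv_cancel_right] at this
  have hxnot : x ∉ Ps := fun h => hnPs (Ps.mul_mem h hy)
  have hαaut : conjAut Ps x hxN ∈ F.autGroup Ps :=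
    autInducedBy_le_autGroup F hPsS (conjAut_mem_autInducedBy (hXS hx) hxN)
  have hstab : (⟨conjAut Ps x hxN, hαaut⟩ : F.autGroup Ps) ∈ stabSub₁ F T Ps := by
    refine ⟨fun y => ?_, fun y hy => ?_⟩
    · show (y : Ω)⁻¹ * (x * (y : Ω) * x⁻¹) ∈ T
      have h1 : (y : Ω)⁻¹ * x * ((y : Ω)⁻¹)⁻¹ ∈ T :=
        StronglyClosed.conj_mem hT (S.inv_mem (hPsS y.2)) hx.1
      have h2 : (y : Ω)⁻¹ * (x * (y : Ω) * x⁻¹) = ((y : Ω)⁻¹ * x * ((y : Ω)⁻¹)⁻¹) * x⁻¹ := by group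
      rw [h2]; exact T.mul_mem h1 (T.inv_mem hx.1)
    · apply Subtype.ext
      show x * (y : Ω) * x⁻¹ = y
      have hy1 : (y : Ω) ∈ P₁ := hPsT _ y.2 hy
      have := Subgroup.mem_centralizer_iff.1 hx.2 _ hy1
      rw [← this]; group
  have hcore := stabSub₁_le_pCore hS hT hPsS hstab
  exact ⟨x, ⟨hXS hx, hxN⟩, hxnot, conjAut Ps x hxN, ⟨⟨conjAut Ps x hxN, hαaut⟩, hcore, rfl⟩,
    fun y => rfl⟩

end Cfsg.Agent.S5251
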