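import Cfsg.Statements.S5253
import Cfsg.Agent.Lib.Helper33.CenPowC
import Cfsg.Agent.S5144

set_option autoImplicit false
universe u
open Cfsg Cfsg.FusionSystem Cfsg.Agent.Helper87 Cfsg.Agent.Helper87.GlaubFunctor Cfsg.Agent.Helper87.CenFunctor

namespace Cfsg.Agent.S5253

/-- the statement, phrased with helper87's `WW` -/
theorem aux {p : ℕ} [Fact p.Prime] (W : ∀ (Q : Type u) [Group Q], Subgroup Q) (hW1 : ∀ (Q : Type u) [Group Q] [Finite Q], IsPGroup p Q → Nontrivial Q → W Q ≠ ⊥) (hW2 : ∀ (Q R : Type u) [Group Q] [Group R] [Finite Q], IsPGroup p Q → ∀ φ : Q ≃* R, (W Q).map φ.toMonoidHom = W R) (hWZ : ∀ (Q : Type u) [Group Q] [Finite Q], IsPGroup p Q → Subgroup.center Q ≤ W Q) (hq : Cfsg.Agent.Helper33.QuadCentral.HQ p W) {Ω : Type u} [Group Ω] {S : Subgroup Ω} [Finite S] (hS : IsPGroup p S) (F : Cfsg.FusionSystem S) (hF : F.IsSaturated p) (N : Cfsg.FusionSystem (Cfsg.FusionSystem.normalizerIn S (WW W S))) (hN : F.IsNormalizerSystem (WW W S)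 N) : Subgroup.closure ((fun z => z ^ p) '' ((S ⊓ Subgroup.centralizer (S : Set Ω) : Subgroup Ω) : Set Ω)) ⊓ N.center ≤ F.center := by
  classical
  have hWpos : Cfsg.Agent.Helper87.CenFunctor.IsPos p W := ⟨hW1, hW2⟩
  have hNS : Cfsg.FusionSystem.normalizerIn S (WW W S) = S := pos_normalizerIn_top hWpos hS
  have hXS : WW W S ≤ S := WW_le W S
  haveI : Finite ↥(Cfsg.FusionSystem.normalizerIn S (WW W S)) :=
    Cfsg.Agent.Helper87.finite_of_le (inf_le_left : Cfsg.FusionSystem.normalizerIn S (WW W S) ≤ S)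
  set Z₀ : Subgroup Ω := Subgroup.closure ((fun z => z ^ p) ''
    ((S ⊓ Subgroup.centralizer (S : Set Ω) : Subgroup Ω) : Set Ω)) ⊓ N.center with hZ₀
  -- `Z₀` is central in `N`
  have hcenNc : N.IsCentral N.center := Cfsg.Agent.S5144.result N
  have hcenN : N.IsCentral Z₀ := by
    obtain ⟨hZN, hcen⟩ := isCentral_iff_cen.1 hcenNc
    rw [isCentral_iff_cen]
    refine ⟨inf_le_right.trans hZN, fun P f hf => ?_⟩
    obtain ⟨g, hg, e, hgZ⟩ := hcen P f hf
    exact ⟨g, hg.restrict (sup_le_sup_left inf_le_right P), e, fun z hz => hgZ z hz.2⟩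
  -- the hypothesis `NC`
  have hNC : NC W F Z₀ := by
    obtain ⟨hZN, hcen⟩ := isCentral_iff_cen.1 hcenN
    have hZS : Z₀ ≤ S := hZN.trans inf_le_left
    refine ⟨hZS, fun P f hf hXP hfX => ?_⟩
    have hI : Iso F (WW W S) (WW W S) f := iso_of_card_le (hf.restrict hXP) hXS hfX le_rfl
    have hmorN : Mor N P f := by
      rw [mor_normalizerSystem_iff hN]
      refine ⟨hf, hNS.symm ▸ hf.le, fun x hx => hNS.symm ▸ hf.mem hx, f, ?_,
        fun _ _ => rfl, hI.2⟩
      rw [sup_eq_left.2 hXP]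
      exact hf
    obtain ⟨g, hg, e, hgZ⟩ := hcen P f hmorN
    exact ⟨g, ((mor_normalizerSystem_iff hN).1 hg).1, e, hgZ⟩
  -- the invariant `Pow`
  have hPow : Cfsg.Agent.Helper33.CenPow.Pow p S Z₀ := by
    intro z hz
    have hz1 : z ∈ Subgroup.closure ((fun z => z ^ p) ''
        ((S ⊓ Subgroup.centralizer (S : Set Ω) : Subgroup Ω) : Set Ω)) := hz.1
    clear hz
    induction hz1 using Subgroup.closure_induction with
    | mem z hz =>
      obtain ⟨y, hy, rfl⟩ := hz
      exact ⟨y, hy, rfl⟩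
    | one => exact ⟨1, Subgroup.one_mem _, one_pow _⟩
    | mul a b _ _ ha hb =>
      obtain ⟨y₁, hy₁, rfl⟩ := ha
      obtain ⟨y₂, hy₂, rfl⟩ := hb
      refine ⟨y₁ * y₂, Subgroup.mul_mem _ hy₁ hy₂, ?_⟩
      have hc : Commute y₁ y₂ := Subgroup.mem_centralizer_iff.mp hy₂.2 y₁ hy₁.1
      exact hc.mul_pow p
    | inv a _ ha =>
      obtain ⟨y, hy, rfl⟩ := ha
      exact ⟨y⁻¹, Subgroup.inv_mem _ hy, inv_pow y p⟩
  have hcenF : F.IsCentral Z₀ :=
    Cfsg.Agent.Helper33.CenPow.main' hWpos hWZ hq (Cfsg.Agent.Helper87.CenMain.nu F) Ω S F rfl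
      hS hF Z₀ hNC hPow
  exact le_sSup hcenF


/-- Let p be a prime and W a positive characteristic p-functor with Z(Q) ≤ W(Q): W assigns to every finite p-group Q (in a fixed universe) a subgroup W(Q), nontrivial when Q is, carried to W(R) by every isomorphism Q ≅ R, and containing the centre of Q. Suppose that for every finite group G with Sylow p-subgroup P in which W(P) is not normal there is g ∈ P outside O_p(G) with [Z(O_p(G)), g, g] = 1. Then for every saturated fusion system F over a finite p-group S and every normalizer fusion system N of W(S) in F, every p-th power of an element of Z(S) that lies in the centre of N lies in the centre of F. -/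
theorem result {p : ℕ} [Fact p.Prime] (W : ∀ (Q : Type u) [Group Q], Subgroup Q) (hW1 : ∀ (Q : Type u) [Group Q] [Finite Q], IsPGroup p Q → Nontrivial Q → W Q ≠ ⊥) (hW2 : ∀ (Q R : Type u) [Group Q] [Group R] [Finite Q], IsPGroup p Q → ∀ φ : Q ≃* R, (W Q).map φ.toMonoidHom = W R) (hWZ : ∀ (Q : Type u) [Group Q] [Finite Q], IsPGroup p Q → Subgroup.center Q ≤ W Q) (hq : ∀ (G : Type u) [Group G] [Finite G] (P : Sylow p G), ¬ (((W ↥(P : Subgroup G)).map (P : Subgroup G).subtype : Subgroup G)).Normal → ∃ g : G, g ∈ (P : Subgroup G) ∧ g ∉ Cfsg.pCore p G ∧ ⁅⁅Subgroup.center ↥(Cfsg.pCore p G) |>.map (Cfsg.pCore p G).subtype, Subgroup.zpowers g⁆, Subgroup.zpowers g⁆ = ⊥) {Ω : Type u} [Group Ω] {S : Subgroup Ω} [Finite S] (hS : IsPGroup p S) (F : Cfsg.FusionSystem S) (hF : F.IsSaturated p) (N : Cfsg.FusionSystem (Cfsg.FusionSystem.normalizerIn S ((W ↥S).map S.subtype))) (hN : F.IsNormalizerSystem ((W ↥S).map S.subtype) N) : Subgroup.closure ((fun z =>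 z ^ p) '' ((S ⊓ Subgroup.centralizer (S : Set Ω) : Subgroup Ω) : Set Ω)) ⊓ N.center ≤ F.center := by
  exact aux W hW1 hW2 hWZ hq hS F hF N hN

end Cfsg.Agent.S5253
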