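import Cfsg.Statements.S5255
import Cfsg.Agent.Lib.Helper87.FusionPuig

set_option autoImplicit false
open Cfsg

namespace Cfsg.Agent.S5255

open Cfsg.Agent.Helper87 Cfsg.FusionSystem

variable {Ω : Type*} [Group Ω] {S : Subgroup Ω}

/-- membership in `T C_S(T)`: conjugation on `T` is inner -/
theorem mem_sup_centralizerIn_iff {F : FusionSystem S} {T : Subgroup Ω} (hT : F.StronglyClosed T)
    {m : Ω} : m ∈ T ⊔ centralizerIn S T ↔
      m ∈ S ∧ ∃ t ∈ T, ∀ y ∈ T, m * y * m⁻¹ = t * y * t⁻¹ := by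
  have hCN : centralizerIn S T ≤ Subgroup.normalizer (T : Set Ω) :=
    (inf_le_left : centralizerIn S T ≤ S).trans (StronglyClosed.le_normalizer hT)
  constructor
  · intro hm
    have hcoe := Subgroup.coe_mul_of_right_le_normalizer_left T (centralizerIn S T) hCN
    have hm' : m ∈ (↑(T ⊔ centralizerIn S T) : Set Ω) := hm
    rw [hcoe] at hm'
    obtain ⟨t, ht, c, hc, rfl⟩ := hm'
    refine ⟨S.mul_mem (hT.1 ht) hc.1, t, ht, fun y hy => ?_⟩
    have h1 : y * c = c * y := hc.2 y hy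
    calc t * c * y * (t * c)⁻¹ = t * (c * y) * c⁻¹ * t⁻¹ := by group
      _ = t * (y * c) * c⁻¹ * t⁻¹ := by rw [h1]
      _ = t * y * t⁻¹ := by group
  · rintro ⟨hmS, t, ht, e⟩
    have hc : t⁻¹ * m ∈ centralizerIn S T := by
      refine ⟨S.mul_mem (S.inv_mem (hT.1 ht)) hmS, fun y hy => ?_⟩
      have h1 := e y hy
      calc y * (t⁻¹ * m) = t⁻¹ * (t * y * t⁻¹) * m := by group
        _ = t⁻¹ * (m * y * m⁻¹) * m := by rw [h1]
        _ = t⁻¹ * m * y := by group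
    have h2 : m = t * (t⁻¹ * m) := by group
    rw [h2]
    exact Subgroup.mul_mem _ ((le_sup_left : T ≤ T ⊔ centralizerIn S T) ht)
      ((le_sup_right : centralizerIn S T ≤ T ⊔ centralizerIn S T) hc)

/-- Let F be a saturated fusion system over a finite p-group S and T a subgroup of S strongly closed in F. Then T·C_S(T) is strongly closed in F. -/
theorem result {Ω : Type*} [Group Ω] {S : Subgroup Ω} [Finite S] (p : ℕ) [Fact p.Prime] (hS : IsPGroup p S) (F : Cfsg.FusionSystem S) (hF : F.IsSaturated p) (T : Subgroup Ω) (hT : F.StronglyClosed T) : F.StronglyClosed (T ⊔ Cfsg.FusionSystem.centralizerIn S T) := by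
  rw [stronglyClosed_iff]
  refine ⟨sup_le hT.1 inf_le_left, fun R f hR hf x hx => ?_⟩
  obtain ⟨ψ, hψ, hψT, hψf⟩ := exists_lift_mod_stronglyClosed hS hF hT R f hf
  have hxM := hR hx
  obtain ⟨hxS, t, ht, e⟩ := (mem_sup_centralizerIn_iff hT).1 hxM
  have hxRT : x ∈ R ⊔ T := (le_sup_left : R ≤ R ⊔ T) hx
  have hTRT : T ≤ R ⊔ T := le_sup_right
  have hisoT : Iso F T T ψ := iso_of_card_le (hψ.restrict hTRT) hT.1 hψT le_rfl
  -- ψ x acts on T as conjugation by ψ t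
  have hψx : ψ x ∈ T ⊔ centralizerIn S T := by
    rw [mem_sup_centralizerIn_iff hT]
    refine ⟨hψ.mem hxRT, ψ t, hψT t ht, fun y hy => ?_⟩
    obtain ⟨y', hy', rfl⟩ := hisoT.surj hy
    have h1 : ψ (x * y' * x⁻¹) = ψ x * ψ y' * (ψ x)⁻¹ := hψ.map_conj hxRT (hTRT hy')
    have h2 : ψ (t * y' * t⁻¹) = ψ t * ψ y' * (ψ t)⁻¹ := hψ.map_conj (hTRT ht) (hTRT hy')
    rw [← h1, ← h2, e y' hy']
  have h3 : f x = ψ x * ((f x)⁻¹ * ψ x)⁻¹ := by group
  rw [h3]
  exact Subgroup.mul_mem _ hψx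
    ((le_sup_left : T ≤ T ⊔ centralizerIn S T) (T.inv_mem (hψf x hx)))

end Cfsg.Agent.S5255
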