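import Cfsg.Statements.S5256
import Mathlib
import Cfsg.Agent.Lib.Helper87.FusionFactor

set_option autoImplicit false
open Cfsg Cfsg.FusionSystem Cfsg.Agent.Helper87

namespace Cfsg.Agent.S5256

/-- Let F be a saturated fusion system over a finite p-group S, T a subgroup of S strongly closed in F, and E a factor system F/T realised along a homomorphism θ of S with kernel T. Then the hyperfocal subgroup of E is the image under θ of the hyperfocal subgroup of F (hyp(F/T) = T·hyp(F)/T). -/
theorem result {Ω : Type*} [Group Ω] {S : Subgroup Ω} [Finite S] (p : ℕ) [Fact p.Prime] (hS : IsPGroup p S) (F : Cfsg.FusionSystem S) (hF : F.IsSaturated p) (T : Subgroup Ω) (hT : F.StronglyClosed T) {Ω' : Type*} [Group Ω'] {S' : Subgroup Ω'} (θ : ↥S →* Ω') (E : Cfsg.FusionSystem S') (hE : F.IsFactorSystem T θ E) : E.hyperfocalSubgroup p = ((F.hyperfocalSubgroup p).subgroupOf S).map θ := by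
  classical
  have hfinS' : Finite S' := factor_finite hE
  have hp : p.Prime := Fact.out
  apply le_antisymm
  · -- (⊆)
    apply hyperfocal_le
    intro P' hP' α' hα' hc x'
    have hmor' : Mor E P' (extAut α') := (mem_autGroup_iff hP').1 hα'
    obtain ⟨f, hf, hff⟩ := factor_mor_exists hE hmor'
    have hPS : preimageAlong θ P' ≤ S := preimageAlong_le' θ P'
    have hfP : ∀ x ∈ preimageAlong θ P', f x ∈ preimageAlong θ P' := by
      intro x hx
      refine mem_preimageAlong_iff.2 ⟨hf.mem hx, ?_⟩
      rw [← hff x hx]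
      exact extAut_mem_self α' (mem_preimageAlong_iff.1 hx).2
    have hiso : Iso F (preimageAlong θ P') (preimageAlong θ P') f :=
      iso_of_card_le hf hPS hfP le_rfl
    have hfinP : Finite (preimageAlong θ P') := finite_of_le hPS
    have ha : (hiso.equiv : MulAut (preimageAlong θ P')) ∈ F.autGroup (preimageAlong θ P') :=
      hiso.equiv_mem_autGroup
    have hpow : ∀ j : ℕ, ∀ x : preimageAlong θ P',
        extHom θ ((((hiso.equiv : MulAut (preimageAlong θ P')) ^ j) x : preimageAlong θ P') : Ω)
          = extAut (α' ^ j) (extHom θ x) := by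
      intro j
      induction j with
      | zero =>
        intro x
        rw [pow_zero, pow_zero, extAut_one (mem_preimageAlong_iff.1 x.2).2]
        rfl
      | succ j ih =>
        intro x
        rw [pow_succ', pow_succ', extAut_mul _ _ (mem_preimageAlong_iff.1 x.2).2, ← ih x]
        rw [MulAut.mul_apply]
        have := hff _ (((hiso.equiv : MulAut (preimageAlong θ P')) ^ j) x).2
        rw [this]
        rfl
    -- the p'-part
    have hN : orderOf (hiso.equiv : MulAut (preimageAlong θ P')) ≠ 0 := (orderOf_pos _).ne'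
    obtain ⟨e, r, hr, hNe⟩ := Nat.exists_eq_pow_mul_and_not_dvd hN p hp.ne_one
    set m := orderOf α' with hm
    have hmpos : 0 < m := by
      have : Finite P' := finite_of_le hP'
      exact orderOf_pos _
    set k := (p ^ e) ^ Nat.totient m with hk
    have hk1 : k ≡ 1 [MOD m] := by
      apply Nat.ModEq.pow_totient
      exact (Nat.Coprime.pow_left e hc.symm)
    have hα'k : α' ^ k = α' := by
      have := (pow_eq_pow_iff_modEq (x := α') (n := k) (m := 1)).2 hk1
      rwa [pow_one] at this
    have hbr : ((hiso.equiv : MulAut (preimageAlong θ P')) ^ k) ^ r = 1 := by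
      rw [← pow_mul]
      apply orderOf_dvd_iff_pow_eq_one.1
      rw [hNe, hk]
      have hpos : 0 < Nat.totient m := Nat.totient_pos.2 hmpos
      obtain ⟨q, hq⟩ := Nat.exists_eq_succ_of_ne_zero hpos.ne'
      rw [hq, pow_succ]
      exact Dvd.intro_left ((p ^ e) ^ q) (by ring)
    have hbc : (orderOf ((hiso.equiv : MulAut (preimageAlong θ P')) ^ k)).Coprime p := by
      have h1 : orderOf ((hiso.equiv : MulAut (preimageAlong θ P')) ^ k) ∣ r :=
        orderOf_dvd_of_pow_eq_one hbr
      have h2 : Nat.Coprime r p := ((Nat.Prime.coprime_iff_not_dvd hp).2 hr).symm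
      exact h2.coprime_dvd_left h1
    have hb : ((hiso.equiv : MulAut (preimageAlong θ P')) ^ k) ∈ F.autGroup (preimageAlong θ P') :=
      Subgroup.pow_mem _ ha k
    obtain ⟨x, hx, hxx'⟩ := exists_preimage_of_mem hE hP' x'.2
    have hmem := mem_hyperfocal (p := p) hPS hb hbc ⟨x, hx⟩
    have hS1 := hyperfocal_le_self F p hmem
    refine ⟨⟨_, hS1⟩, Subgroup.mem_subgroupOf.2 hmem, ?_⟩
    rw [← extHom_mem θ hS1]
    have hbx : ((((hiso.equiv : MulAut (preimageAlong θ P')) ^ k) ⟨x, hx⟩ : preimageAlong θ P') : Ω) ∈ S :=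
      hPS (Subtype.property _)
    rw [extHom_mul θ (S.inv_mem (hPS hx)) hbx, extHom_inv θ (hPS hx), hpow k ⟨x, hx⟩, hα'k]
    show (extHom θ x)⁻¹ * extAut α' (extHom θ x) = _
    rw [hxx', extAut_apply]
  · -- (⊇)
    have hle : F.hyperfocalSubgroup p ≤ preimageAlong θ (E.hyperfocalSubgroup p) := by
      apply hyperfocal_le
      intro P hP α hα hc x
      have hαmor : Mor F P (extAut α) := (mem_autGroup_iff hP).1 hα
      obtain ⟨ψ, hψ, hψT, hψP⟩ := exists_lift_mod_stronglyClosed hS hF hT P (extAut α) hαmor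
      have hTS : T ≤ S := hT.1
      have hPN : P ≤ Subgroup.normalizer (T : Set Ω) := hP.trans (StronglyClosed.le_normalizer hT)
      have hcoe := Subgroup.coe_mul_of_left_le_normalizer_right P T hPN
      have hAS : P ⊔ T ≤ S := sup_le hP hTS
      have hdecomp : ∀ z ∈ P ⊔ T, ∃ u ∈ P, ∃ t ∈ T, z = u * t := by
        intro z hz
        have : z ∈ ((P ⊔ T : Subgroup Ω) : Set Ω) := hz
        rw [hcoe] at this
        obtain ⟨u, hu, t, ht, rfl⟩ := Set.mem_mul.1 this
        exact ⟨u, hu, t, ht, rfl⟩
      have hψA : ∀ z ∈ P ⊔ T, ψ z ∈ P ⊔ T := by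
        intro z hz
        obtain ⟨u, hu, t, ht, rfl⟩ := hdecomp z hz
        rw [hψ.map_mul (le_sup_left (a := P) hu) (le_sup_right (b := T) ht)]
        apply Subgroup.mul_mem
        · have h1 := hψP u hu
          have h2 : ψ u = extAut α u * ((extAut α u)⁻¹ * ψ u) := by group
          rw [h2]
          exact Subgroup.mul_mem _ (le_sup_left (a := P) (extAut_mem_self α hu))
            (le_sup_right (b := T) h1)
        · exact le_sup_right (b := T) (hψT t ht)
      obtain ⟨f', hf', hff'⟩ := exists_factor_mor hE hT le_sup_right hψ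
      have hP'S' := imageAlong_le hE (P ⊔ T)
      have hf'P' : ∀ y ∈ imageAlong θ (P ⊔ T), f' y ∈ imageAlong θ (P ⊔ T) := by
        intro y hy
        obtain ⟨z, hzS, hz, rfl⟩ := mem_imageAlong_iff.1 hy
        rw [hff' z hz]
        exact mem_imageAlong_iff.2 ⟨ψ z, hψ.mem hz, hψA z hz, rfl⟩
      have hiso' : Iso E (imageAlong θ (P ⊔ T)) (imageAlong θ (P ⊔ T)) f' :=
        iso_of_card_le hf' hP'S' hf'P' le_rfl
      have ha' : (hiso'.equiv : MulAut (imageAlong θ (P ⊔ T))) ∈ E.autGroup (imageAlong θ (P ⊔ T)) :=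
        hiso'.equiv_mem_autGroup
      have hθP : ∀ u ∈ P, extHom θ u ∈ imageAlong θ (P ⊔ T) := fun u hu =>
        mem_imageAlong_iff.2 ⟨u, hP hu, le_sup_left (a := P) hu, rfl⟩
      have hstep : ∀ u ∈ P, f' (extHom θ u) = extHom θ (extAut α u) := by
        intro u hu
        rw [hff' u (le_sup_left (a := P) hu)]
        exact ((factor_eq_iff hE (hP (extAut_mem_self α hu)) (hψ.mem (le_sup_left (a := P) hu))).2
          (hψP u hu)).symm
      have hpow : ∀ j : ℕ, ∀ u ∈ P,
          extAut ((hiso'.equiv : MulAut (imageAlong θ (P ⊔ T))) ^ j) (extHom θ u)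
            = extHom θ (extAut (α ^ j) u) := by
        intro j
        induction j with
        | zero =>
          intro u hu
          rw [pow_zero, pow_zero, extAut_one (hθP u hu), extAut_one hu]
        | succ j ih =>
          intro u hu
          rw [pow_succ', pow_succ', extAut_mul _ _ (hθP u hu), extAut_mul _ _ hu, ih u hu]
          have h1 : extAut (α ^ j) u ∈ P := extAut_mem_self _ hu
          rw [extAut_equiv hiso' (hθP _ h1), hstep _ h1]
      have hone : (hiso'.equiv : MulAut (imageAlong θ (P ⊔ T))) ^ orderOf α = 1 := by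
        ext y
        obtain ⟨z, hzS, hz, hzy⟩ := mem_imageAlong_iff.1 y.2
        obtain ⟨u, hu, t, ht, rfl⟩ := hdecomp z hz
        have h1 : extHom θ (u * t) = extHom θ u := by
          rw [extHom_mul θ (hP hu) (hTS ht), (factor_ker hE (hTS ht)).2 ht, mul_one]
        have h2 := hpow (orderOf α) u hu
        rw [pow_orderOf_eq_one, extAut_one hu] at h2
        have h3 : (y : Ω') = extHom θ u := by rw [← hzy, h1]
        have h4 : extAut ((hiso'.equiv : MulAut (imageAlong θ (P ⊔ T))) ^ orderOf α) (y : Ω')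
            = (y : Ω') := by rw [h3]; exact h2
        rw [extAut_apply] at h4
        rw [h4]
        rfl
      have hc' : (orderOf (hiso'.equiv : MulAut (imageAlong θ (P ⊔ T)))).Coprime p :=
        hc.coprime_dvd_left (orderOf_dvd_of_pow_eq_one hone)
      have hmem := mem_hyperfocal (p := p) hP'S' ha' hc' ⟨extHom θ x, hθP x x.2⟩
      have hxS : (x : Ω) ∈ S := hP x.2
      have hαxS : ((α x : P) : Ω) ∈ S := hP (α x).2
      refine mem_preimageAlong_iff.2 ⟨S.mul_mem (S.inv_mem hxS) hαxS, ?_⟩
      rw [extHom_mul θ (S.inv_mem hxS) hαxS, extHom_inv θ hxS]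
      have h5 := hpow 1 x x.2
      rw [pow_one, pow_one, extAut_apply α x, extAut_mem _ (hθP x x.2)] at h5
      rw [← h5]
      exact hmem
    rintro y ⟨s, hs, rfl⟩
    have hs' : (s : Ω) ∈ F.hyperfocalSubgroup p := Subgroup.mem_subgroupOf.1 hs
    have := (mem_preimageAlong_iff.1 (hle hs')).2
    rwa [extHom_mem θ s.2] at this

end Cfsg.Agent.S5256
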