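import Cfsg.Statements.S5265
import Mathlib
import Cfsg.Agent.Lib.Helper87.SmallCenterFinal
import Cfsg.Agent.Lib.Helper83.OrderP3

set_option autoImplicit false
open Cfsg
open Cfsg.FusionSystem Cfsg.Agent.Helper87

namespace Cfsg.Agent.S5265

/-- Let p be a prime, S a nontrivial finite p-group whose centre has index at most p², and F a saturated fusion system over S with no nontrivial normal subgroup and with hyperfocal subgroup equal to S. Then S is extraspecial of order p³; for odd p it has exponent p, and for p = 2 it is dihedral of order 8. -/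
theorem result {Ω : Type*} [Group Ω] {S : Subgroup Ω} [Finite S] (p : ℕ) [Fact p.Prime] (hS : IsPGroup p ↥S) (F : Cfsg.FusionSystem S) (hF : F.IsSaturated p) (hS1 : S ≠ ⊥) (hcore : F.core = ⊥) (hhyp : F.hyperfocalSubgroup p = S) (hZ : (Subgroup.center ↥S).index ≤ p ^ 2) : Cfsg.IsExtraspecial p ↥S ∧ Nat.card S = p ^ 3 ∧ (p ≠ 2 → Monoid.exponent ↥S = p) ∧ (p = 2 → Nonempty (↥S ≃* DihedralGroup 4)) := by
  have hnc : ¬ IsMulCommutative S := by
    intro hab
    have hn := isNormal_top_of_comm hS hab hF
    have := le_core hn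
    rw [hcore] at this
    exact hS1 (le_bot_iff.1 this)
  have h := sc_of_center_index hS hnc hZ
  have hna : ∃ a b : S, a * b ≠ b * a := by
    by_contra hcon
    push Not at hcon
    exact hnc ⟨⟨hcon⟩⟩
  by_cases hp2 : p = 2
  · subst hp2
    obtain ⟨e⟩ := two_case hS hF h hcore hhyp
    have hcard : Nat.card S = 2 ^ 3 := by
      rw [Nat.card_congr e.toEquiv, DihedralGroup.nat_card]
      norm_num
    exact ⟨Cfsg.Agent.Helper83.isExtraspecial_of_nonabelian_p3 hcard hna, hcard,
      fun hne => absurd rfl hne, fun _ => ⟨e⟩⟩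
  · obtain ⟨-, hcard, hexp⟩ := odd_case hS hF h hcore hp2
    refine ⟨Cfsg.Agent.Helper83.isExtraspecial_of_nonabelian_p3 hcard hna, hcard, fun _ => ?_,
      fun h2 => absurd h2 hp2⟩
    have hdvd : Monoid.exponent ↥S ∣ p := by
      apply Monoid.exponent_dvd_of_forall_pow_eq_one
      intro g
      apply Subtype.ext
      rw [Subgroup.coe_pow]
      exact hexp g g.2
    rcases (Nat.dvd_prime (Fact.out : p.Prime)).1 hdvd with h1 | h1
    · exfalso
      rw [Monoid.exp_eq_one_iff] at h1
      obtain ⟨a, b, hab⟩ := hna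
      exact hab (by rw [Subsingleton.elim a b])
    · exact h1

end Cfsg.Agent.S5265
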