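import Cfsg.Statements.S5270
import Mathlib
import Cfsg.Agent.Lib.Helper87.FusionEssential
import Cfsg.Agent.Lib.Helper87.MaxClass
import Cfsg.Agent.Lib.Helper87.FusionOmega

set_option autoImplicit false
open Cfsg Cfsg.FusionSystem Cfsg.Agent.Helper87

namespace Cfsg.Agent.S5270

theorem aux {Ω : Type*} [Group Ω] {S : Subgroup Ω} [Finite S] (p : ℕ) [Fact p.Prime] (hS : IsPGroup p ↥S) (n : ℕ) (hn : Nat.card S = p ^ n) (h4 : 4 ≤ n) (hmax : Subgroup.lowerCentralSeries S (n - 2) ≠ ⊥) (F : Cfsg.FusionSystem S) (hF : F.IsSaturated p) (Z2s : Subgroup Ω) (hZ2s : Z2s = (Subgroup.upperCentralSeries ↥S 2).map S.subtype) (φ : ↥Z2s →* Ω) (hφ : φ ∈ F.Hom Z2s) (hφZ : φ.range = Z2s) (hmove : ∃ (z : Ω) (hz : z ∈ Z2s), z ∈ ((Subgroup.center ↥S).map S.subtype) ∧ φ ⟨z, hz⟩ ∉ ((Subgroup.center ↥S).map S.subtype)) : F.IsEssential p (S ⊓ Subgroup.centralizer (Z2s : Set Ω)) := by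
  classical
  have hp' : p.Prime := Fact.out
  -- group-theoretic facts
  have hmax' : Subgroup.upperCentralSeries ↥S (n - 2) ≠ ⊤ := by
    intro h
    apply hmax
    rw [← Subgroup.top_subtype_lowerCentralSeries,
      Subgroup.lowerCentralSeries_eq_bot_iff_upperCentralSeries_eq_top.2 h, Subgroup.map_bot]
  have hc := card_ucs_of_maxClass hS hn (by omega) hmax'
  have hZ1 : Nat.card (Subgroup.center ↥S) = p := by
    have := hc 1 (by omega)
    rwa [Subgroup.upperCentralSeries_one, pow_one] at this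
  have hZ2 : Nat.card (Subgroup.upperCentralSeries ↥S 2) = p ^ 2 := hc 2 (by omega)
  have hidx := index_centralizer_ucs2 hS hZ1 hZ2
  have hab := comm_of_card_sq hZ2
  have hZ2S : Z2s ≤ S := by
    rw [hZ2s]
    rintro _ ⟨z, -, rfl⟩
    exact z.2
  have hmemZ2 : ∀ {x : Ω} (hx : x ∈ S), x ∈ Z2s ↔ (⟨x, hx⟩ : S) ∈ Subgroup.upperCentralSeries ↥S 2 := by
    intro x hx
    rw [hZ2s]
    constructor
    · rintro ⟨z, hz, hzx⟩
      have : z = ⟨x, hx⟩ := Subtype.ext hzx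
      rwa [← this]
    · intro h
      exact ⟨⟨x, hx⟩, h, rfl⟩
  have hZ2comm : ∀ a ∈ Z2s, ∀ b ∈ Z2s, a * b = b * a := by
    intro a ha b hb
    have := hab _ ((hmemZ2 (hZ2S ha)).1 ha) _ ((hmemZ2 (hZ2S hb)).1 hb)
    exact congrArg Subtype.val this
  -- Z2s is normal in S
  have hZ2N : S ≤ Subgroup.normalizer (Z2s : Set Ω) := by
    apply le_normalizer_of_forall
    intro s hs x hx
    have hxS := hZ2S hx
    have h1 := (hmemZ2 hxS).1 hx
    have hnorm : (Subgroup.upperCentralSeries ↥S 2).Normal := inferInstance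
    have h2 := hnorm.conj_mem _ h1 ⟨s, hs⟩
    exact (hmemZ2 (S.mul_mem (S.mul_mem hs hxS) (S.inv_mem hs))).2 h2
  set R : Subgroup Ω := S ⊓ Subgroup.centralizer (Z2s : Set Ω) with hRdef
  have hRS : R ≤ S := inf_le_left
  have hRmem : ∀ {x : Ω}, x ∈ R ↔ x ∈ S ∧ ∀ y ∈ Z2s, y * x = x * y := by
    intro x
    constructor
    · rintro ⟨h1, h2⟩
      have h2' : x ∈ Subgroup.centralizer (Z2s : Set Ω) := h2
      rw [Subgroup.mem_centralizer_iff] at h2'
      exact ⟨h1, h2'⟩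
    · rintro ⟨h1, h2⟩
      refine ⟨h1, ?_⟩
      show x ∈ Subgroup.centralizer (Z2s : Set Ω)
      rw [Subgroup.mem_centralizer_iff]
      exact h2
  have hZ2R : Z2s ≤ R := by
    intro z hz
    exact hRmem.2 ⟨hZ2S hz, fun y hy => hZ2comm y hy z hz⟩
  have hRsub : R.subgroupOf S = Subgroup.centralizer (Subgroup.upperCentralSeries ↥S 2 : Set ↥S) := by
    ext x
    rw [Subgroup.mem_subgroupOf, hRmem, Subgroup.mem_centralizer_iff]
    constructor
    · rintro ⟨-, h⟩ y hy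
      have := h (y : Ω) ((hmemZ2 y.2).2 hy)
      exact Subtype.ext this
    · intro h
      refine ⟨x.2, fun y hy => ?_⟩
      have := h ⟨y, hZ2S hy⟩ ((hmemZ2 (hZ2S hy)).1 hy)
      exact congrArg Subtype.val this
  have hRidx : R.relIndex S = p := by
    show (R.subgroupOf S).index = p
    rw [hRsub]
    exact hidx
  have hRN : S ≤ Subgroup.normalizer (R : Set Ω) := by
    apply le_normalizer_of_forall
    intro s hs x hx
    obtain ⟨hxS, hxc⟩ := hRmem.1 hx
    refine hRmem.2 ⟨S.mul_mem (S.mul_mem hs hxS) (S.inv_mem hs), fun y hy => ?_⟩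
    have hy' : s⁻¹ * y * s ∈ Z2s := by
      have := (Subgroup.mem_normalizer_iff.1 (hZ2N (S.inv_mem hs)) y).1 hy
      simpa using this
    have h1 := hxc _ hy'
    calc y * (s * x * s⁻¹) = s * ((s⁻¹ * y * s) * x) * s⁻¹ := by group
      _ = s * (x * (s⁻¹ * y * s)) * s⁻¹ := by rw [h1]
      _ = s * x * s⁻¹ * y := by group
  have hRC : centralizerIn S R ≤ R := by
    intro c hc
    have hc2 : c ∈ Subgroup.centralizer (R : Set Ω) := hc.2
    rw [Subgroup.mem_centralizer_iff] at hc2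
    exact hRmem.2 ⟨hc.1, fun y hy => hc2 y (hZ2R hy)⟩
  apply isEssential_of_index_prime hS hF hRS hRN hRC hRidx
  intro hnorm
  -- extend φ to R
  have hZ2fn := fullyNormalized_of_le_normalizer F hZ2S hZ2N
  have hZ2rec := receptive_of_fullyNormalized hS hF hZ2fn
  have hiso : Iso F Z2s Z2s (extFun φ) := by
    have := iso_of_mem hφ
    rwa [hφZ] at this
  obtain ⟨g, hg, hgφ⟩ := (isReceptive_iff.1 hZ2rec).2 Z2s _ hiso
  have hRext : R ≤ hiso.ext := hiso.centralizerIn_le_ext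
  have hgR : Mor F R g := hg.restrict hRext
  have hgRR : ∀ r ∈ R, g r ∈ R := by
    intro r hr
    refine hRmem.2 ⟨hgR.mem hr, fun y hy => ?_⟩
    obtain ⟨z, hz, rfl⟩ := hiso.surj hy
    rw [← hgφ z hz, ← hgR.map_mul (hZ2R hz) hr, ← hgR.map_mul hr (hZ2R hz)]
    congr 1
    exact (hRmem.1 hr).2 z hz
  have hisoR : Iso F R R g := iso_of_card_le hgR hRS hgRR le_rfl
  have hRfn := fullyNormalized_of_le_normalizer F hRS hRN
  have hRrec := receptive_of_fullyNormalized hS hF hRfn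
  obtain ⟨ψ, hψ, hψg⟩ := (isReceptive_iff.1 hRrec).2 R _ hisoR
  have hψS : Mor F S ψ := hψ.restrict (le_ext_of_normal hRS hRN hnorm hisoR)
  have hisoS : Iso F S S ψ := iso_of_card_le hψS le_rfl (fun s hs => hψS.mem hs) le_rfl
  obtain ⟨z, hz, hzZ, hφz⟩ := hmove
  apply hφz
  have hzS : z ∈ S := hZ2S hz
  have h1 : ψ z = φ ⟨z, hz⟩ := by
    rw [hψg z (hZ2R hz), hgφ z hz, extFun_mem φ hz]
  rw [← h1]
  obtain ⟨z', hz', hz'z⟩ := hzZ
  refine ⟨⟨ψ z, hψS.mem hzS⟩, ?_, rfl⟩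
  show (⟨ψ z, hψS.mem hzS⟩ : S) ∈ Subgroup.center ↥S
  rw [Subgroup.mem_center_iff]
  intro s
  obtain ⟨s', hs', hs's⟩ := hisoS.surj s.2
  apply Subtype.ext
  show (s : Ω) * ψ z = ψ z * (s : Ω)
  rw [← hs's, ← hψS.map_mul hs' hzS, ← hψS.map_mul hzS hs']
  congr 1
  have h2 := Subgroup.mem_center_iff.1 hz' ⟨s', hs'⟩
  have h3 := congrArg Subtype.val h2
  have hz'z' : (z' : Ω) = z := hz'z
  simp only [Subgroup.coe_mul] at h3
  rw [hz'z'] at h3
  exact h3

/-- Let p ≥ 5 be a prime, S a finite p-group of maximal class of order p^n with n ≥ 4, and F a saturated fusion system over S. If some map of F defined on the second centre Z₂(S) with image Z₂(S) does not carry Z(S) into itself, then the centralizer C_S(Z₂(S)) is an F-essential subgroup. -/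
theorem result {Ω : Type*} [Group Ω] {S : Subgroup Ω} [Finite S] (p : ℕ) [Fact p.Prime] (hS : IsPGroup p ↥S) (n : ℕ) (hn : Nat.card S = p ^ n) (h4 : 4 ≤ n) (hmax : Subgroup.lowerCentralSeries S (n - 2) ≠ ⊥) (F : Cfsg.FusionSystem S) (hF : F.IsSaturated p) (hp : 5 ≤ p) (φ : ↥((Subgroup.upperCentralSeries ↥S 2).map S.subtype) →* Ω) (hφ : φ ∈ F.Hom ((Subgroup.upperCentralSeries ↥S 2).map S.subtype)) (hφZ : φ.range = ((Subgroup.upperCentralSeries ↥S 2).map S.subtype)) (hmove : ∃ (z : Ω) (hz : z ∈ ((Subgroup.upperCentralSeries ↥S 2).map S.subtype)), z ∈ ((Subgroup.center ↥S).map S.subtype) ∧ φ ⟨z, hz⟩ ∉ ((Subgroup.center ↥S).map S.subtype)) : F.IsEssential p (S ⊓ Subgroup.centralizer (((Subgroup.upperCentralSeries ↥S 2).map S.subtype) : Set Ω)) := by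
  exact aux p hS n hn h4 hmax F hF _ rfl φ hφ hφZ hmove

end Cfsg.Agent.S5270
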