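import Cfsg.Statements.S5272
import Cfsg.Agent.Lib.Helper87.AxFus

set_option autoImplicit false
open Cfsg
open Cfsg.FusionSystem Cfsg.Agent.Helper87 Cfsg.Agent.Helper87.AxZJ
universe u

namespace Cfsg.Agent.S5272

/-- the normalizer system of any subgroup in an inner system is inner -/
theorem normalizerSystem_inner {Ω : Type u} [Group Ω] {S : Subgroup Ω} {F : Cfsg.FusionSystem S}
    (hFin : ∀ P : Subgroup Ω, F.Hom P = (Cfsg.innerFusionSystem S).Hom P) (X₀ : Subgroup Ω)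
    (N : Cfsg.FusionSystem (Cfsg.FusionSystem.normalizerIn S X₀))
    (hNs : F.IsNormalizerSystem X₀ N) (P : Subgroup Ω) :
    N.Hom P = (Cfsg.innerFusionSystem (Cfsg.FusionSystem.normalizerIn S X₀)).Hom P := by
  apply Set.Subset.antisymm
  · intro φ hφ
    have hmor : Mor N P (extFun φ) := mor_of_mem hφ
    obtain ⟨hf, hPN, hfN, g, hg, e1, e2⟩ := (mor_normalizerSystem_iff hNs).1 hmor
    obtain ⟨ψ, hψ, eψ⟩ := hg
    rw [hFin] at hψ
    obtain ⟨-, s, hs, es⟩ := hψ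
    have hgs : ∀ x ∈ P ⊔ X₀, g x = s * x * s⁻¹ := by
      intro x hx
      rw [← eψ ⟨x, hx⟩, es]
    have hsN : s ∈ Subgroup.normalizer (X₀ : Set Ω) := by
      rw [Subgroup.mem_normalizer_iff]
      intro h
      constructor
      · intro hh
        rw [← hgs h ((le_sup_right : X₀ ≤ P ⊔ X₀) hh)]
        exact (e2 _).2 ⟨h, hh, rfl⟩
      · intro hh
        obtain ⟨x, hx, hxe⟩ := (e2 _).1 hh
        rw [hgs x ((le_sup_right : X₀ ≤ P ⊔ X₀) hx)] at hxe
        have : x = h := by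
          have h1 := mul_right_cancel hxe
          exact mul_left_cancel h1
        exact this ▸ hx
    refine ⟨hPN, s, ⟨hs, hsN⟩, fun x => ?_⟩
    have h1 := e1 x x.2
    rw [hgs x ((le_sup_left : P ≤ P ⊔ X₀) x.2), extFun_apply] at h1
    exact h1.symm
  · rintro φ ⟨hPN, s, hs, es⟩
    have hPS : P ≤ S := hPN.trans inf_le_left
    have hXN : X₀ ⊓ S ≤ S := inf_le_right
    have hmor : Mor N P (fun x => s * x * s⁻¹) := by
      rw [mor_normalizerSystem_iff hNs]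
      refine ⟨Mor.conj hPS hs.1, hPN, fun x hx => ?_, ?_⟩
      · exact Subgroup.mul_mem _ (Subgroup.mul_mem _ hs (hPN hx)) (Subgroup.inv_mem _ hs)
      · by_cases hX : X₀ ≤ S
        · refine ⟨fun x => s * x * s⁻¹, Mor.conj (sup_le hPS hX) hs.1, fun _ _ => rfl, fun y => ?_⟩
          constructor
          · intro hy
            refine ⟨s⁻¹ * y * s, ?_, by group⟩
            have := (Subgroup.mem_normalizer_iff.1 (Subgroup.inv_mem _ hs.2) y).1 hy
            rwa [inv_inv] at this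
          · rintro ⟨x, hx, rfl⟩
            exact (Subgroup.mem_normalizer_iff.1 hs.2 x).1 hx
        · exfalso
          -- the normalizer system only exists when `X₀ ≤ S`: the identity of `N_S(X₀)` is a map
          have hid : Mor N (Cfsg.FusionSystem.normalizerIn S X₀) (fun x => 1 * x * 1⁻¹) :=
            Mor.conj le_rfl (Subgroup.one_mem _)
          obtain ⟨-, -, -, g, hg, -, -⟩ := (mor_normalizerSystem_iff hNs).1 hid
          exact hX ((le_sup_right : X₀ ≤ _).trans hg.le)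
    obtain ⟨φ', hφ', e⟩ := hmor
    have : φ' = φ := by
      ext x
      rw [e x, es x]
    exact this ▸ hφ'

/-- An axiomatic Glauberman–Thompson nilpotency criterion for fusion systems. Let p be an odd prime, F a saturated fusion system over a finite p-group S, and 𝒜 a nonempty family of abelian subgroups of S. For Q ≤ S write I(Q) for the intersection of the members of 𝒜 contained in Q. Assume (invariance) that for every Q ≤ S containing a member of 𝒜, every F-automorphism of Q maps I(Q) into itself, and (replacement) that for every subgroup B of S of nilpotency class at most 2, if some member of 𝒜 contains [B,B] but not B, then B normalizes some member of 𝒜 that contains [B,B] but not B. Then F is the inner fusion system of S if and only if the normalizer fusion system of I(S) in F is the inner fusion system of N_S(I(S)). -/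
theorem result {Ω : Type*} [Group Ω] {S : Subgroup Ω} [Finite S] (p : ℕ) [Fact p.Prime] (hS : IsPGroup p ↥S) (F : Cfsg.FusionSystem S) (hF : F.IsSaturated p) (hp : p ≠ 2) (𝒜 : Set (Subgroup Ω)) (h𝒜 : ∀ A ∈ 𝒜, A ≤ S ∧ IsMulCommutative ↥A) (hne : 𝒜.Nonempty) (hinv : ∀ Q : Subgroup Ω, Q ≤ S → (∃ A ∈ 𝒜, A ≤ Q) → ∀ α ∈ F.autGroup Q, ∀ x : ↥Q, (x : Ω) ∈ (⨅ A ∈ {A : Subgroup Ω | A ∈ 𝒜 ∧ A ≤ Q}, A) → (((α : MulAut ↥Q) x : ↥Q) : Ω) ∈ (⨅ A ∈ {A : Subgroup Ω | A ∈ 𝒜 ∧ A ≤ Q}, A)) (hrep : ∀ B : Subgroup Ω, B ≤ S → ⁅⁅B, B⁆, B⁆ = ⊥ → (∃ A ∈ 𝒜, ⁅B, B⁆ ≤ A ∧ ¬ B ≤ A) → ∃ A ∈ 𝒜, ⁅B, B⁆ ≤ A ∧ ¬ B ≤ A ∧ B ≤ Subgroup.normalizer (A : Set Ω)) : (∀ P : Subgroup Ω, F.Hom P = (Cfsg.innerFusionSystem S).Hom P) ↔ ∀ N : Cfsg.FusionSystem (Cfsg.FusionSystem.normalizerIn S (⨅ A ∈ 𝒜, A)), F.IsNormalizerSystem (⨅ A ∈ 𝒜, A) N → ∀ P : Subgroup Ω, N.Hom P = (Cfsg.innerFusionSystem (Cfsg.FusionSystem.normalizerIn S (⨅ A ∈ 𝒜, A))).Hom P := by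
  have hset : {A : Subgroup Ω | A ∈ 𝒜 ∧ A ≤ S} = 𝒜 := by
    ext A
    exact ⟨fun h => h.1, fun h => ⟨h, (h𝒜 A h).1⟩⟩
  have hX₀ : (⨅ A ∈ 𝒜, A) = II 𝒜 S := by
    unfold II
    rw [hset, sInf_eq_iInf]
  have hII : ∀ Q : Subgroup Ω, II 𝒜 Q = ⨅ A ∈ {A : Subgroup Ω | A ∈ 𝒜 ∧ A ≤ Q}, A := by
    intro Q
    unfold II
    rw [sInf_eq_iInf]
  constructor
  · intro hFin N hNs P
    exact normalizerSystem_inner hFin _ N hNs P
  · intro hN
    apply Cfsg.Agent.Helper87.AxFus.main hp hS F hF 𝒜 h𝒜 hne _ hrep (⨅ A ∈ 𝒜, A) hX₀ hN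
    intro Q hQ hex α hα x hx
    rw [hII Q] at hx ⊢
    exact hinv Q hQ hex α hα x hx

end Cfsg.Agent.S5272
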