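import Cfsg.Statements.S5274
import Mathlib
import Cfsg.Agent.Lib.Helper87.MaxCent
import Cfsg.Agent.Lib.Helper87.SqStab

set_option autoImplicit false
open Cfsg
open Cfsg.FusionSystem Cfsg.Agent.Helper87
open scoped IsMulCommutative

namespace Cfsg.Agent.S5274

/-- Let F be a saturated fusion system over a finite 2-group S. Suppose that every element of S is F-conjugate to an element of the centre Z(S) (some map of F defined on the cyclic subgroup it generates sends it into Z(S)). Then S is abelian. -/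
theorem result {Ω : Type*} [Group Ω] {S : Subgroup Ω} [Finite S] (hS : IsPGroup 2 ↥S) (F : Cfsg.FusionSystem S) (hF : F.IsSaturated 2) (h : ∀ x ∈ S, ∃ z ∈ S ⊓ Subgroup.centralizer (S : Set Ω), F.IsConjElt x z) : IsMulCommutative ↥S := by
  classical
  by_contra hna
  have hne : ∃ x ∈ S, x ∉ zS S := by
    by_contra hcon
    push Not at hcon
    apply hna
    exact ⟨⟨fun a b => Subtype.ext ((mem_zS.1 (hcon b b.2)).2 a a.2)⟩⟩
  obtain ⟨x₀, hm₀⟩ := exists_maxCent hne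
  obtain ⟨x, hm, hfa, hrec⟩ := exists_good hS hF hm₀
  obtain ⟨n, hn, hnM, hn2⟩ := hm.exists_sq_mem hS
  haveI : IsMulCommutative ↥(vS S x) := ⟨⟨fun a b => Subtype.ext (vS_comm a.2 b.2)⟩⟩
  haveI : Finite (vS S x) := finite_of_le (vS_le S x)
  haveI : Finite (MulAut (vS S x)) :=
    Finite.of_injective (fun e : MulAut (vS S x) => (e : vS S x → vS S x)) DFunLike.coe_injective
  have hVp : IsPGroup 2 ↥(vS S x) := hS.to_le (vS_le S x)
  -- conjugation by `n` acts trivially modulo squares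
  have hσK : conjAut (vS S x) n hn.2 ∈ sqStab ↥(vS S x) := by
    intro v
    obtain ⟨ζ, hζ, e⟩ := hm.norm_eq_sq hS hF h hn hnM hn2 v.2
    refine ⟨v⁻¹ * ⟨ζ, zS_le_vS hm.mem hζ⟩, ?_⟩
    have e' : (⟨ζ, zS_le_vS hm.mem hζ⟩ : vS S x) ^ 2 = v * conjAut (vS S x) n hn.2 v := by
      apply Subtype.ext
      rw [Subgroup.coe_pow, Subgroup.coe_mul, conjAut_apply]
      exact e.symm
    rw [mul_pow, e']
    group
  have hxV : x ∈ vS S x := self_mem_vS hm.mem
  obtain ⟨α, hα, hαx⟩ := hm.exists_aut_to_center hS hF h hfa hrec hxV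
  have ha : (hα.equiv : MulAut (vS S x)) ∈ F.autGroup (vS S x) := hα.equiv_mem_autGroup
  have hσT : conjAut (vS S x) n hn.2 ∈ autInducedBy S (vS S x) :=
    conjAut_mem_autInducedBy hn.1 hn.2
  have hσG : conjAut (vS S x) n hn.2 ∈ F.autGroup (vS S x) :=
    autInducedBy_le_autGroup F (vS_le S x) hσT
  have hβK : (hα.equiv : MulAut (vS S x)) * conjAut (vS S x) n hn.2 * (hα.equiv : MulAut (vS S x))⁻¹ ∈
      sqStab ↥(vS S x) := sqStab_conj _ hσK
  have hβG : (hα.equiv : MulAut (vS S x)) * conjAut (vS S x) n hn.2 * (hα.equiv : MulAut (vS S x))⁻¹ ∈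
      F.autGroup (vS S x) :=
    Subgroup.mul_mem _ (Subgroup.mul_mem _ ha hσG) (Subgroup.inv_mem _ ha)
  obtain ⟨-, R, hR⟩ := hfa
  have hKn : ((sqStab ↥(vS S x)).subgroupOf (F.autGroup (vS S x))).Normal := by
    constructor
    intro k hk g
    rw [Subgroup.mem_subgroupOf] at hk ⊢
    exact sqStab_conj (g : MulAut (vS S x)) hk
  have hKp := sqStab_isPGroup hVp (F.autGroup (vS S x))
  have hKR := normal_pGroup_le_sylow hKn hKp R
  have hβT : (hα.equiv : MulAut (vS S x)) * conjAut (vS S x) n hn.2 * (hα.equiv : MulAut (vS S x))⁻¹ ∈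
      autInducedBy S (vS S x) := by
    have h1 : (⟨_, hβG⟩ : F.autGroup (vS S x)) ∈ (R : Subgroup (F.autGroup (vS S x))) :=
      hKR (Subgroup.mem_subgroupOf.2 hβK)
    rw [hR, Subgroup.mem_subgroupOf] at h1
    exact h1
  obtain ⟨s, hs, es⟩ := mem_autInducedBy_iff.1 hβT
  have h1 := es (hα.equiv ⟨x, hxV⟩)
  have hy₀ : ((hα.equiv ⟨x, hxV⟩ : vS S x) : Ω) = α x := hα.equiv_apply _
  have h2 : s * ((hα.equiv ⟨x, hxV⟩ : vS S x) : Ω) * s⁻¹ = ((hα.equiv ⟨x, hxV⟩ : vS S x) : Ω) := by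
    rw [hy₀, (mem_zS.1 hαx).2 s hs, mul_inv_cancel_right]
  rw [h2] at h1
  have h3 : ((hα.equiv : MulAut (vS S x)) * conjAut (vS S x) n hn.2 * (hα.equiv : MulAut (vS S x))⁻¹)
      (hα.equiv ⟨x, hxV⟩) = hα.equiv (conjAut (vS S x) n hn.2 ⟨x, hxV⟩) := by
    show (hα.equiv : MulAut (vS S x)) (conjAut (vS S x) n hn.2
      ((hα.equiv : MulAut (vS S x))⁻¹ ((hα.equiv : MulAut (vS S x)) ⟨x, hxV⟩))) = _
    rw [MulAut.inv_apply_self]
  rw [h3] at h1
  have h4 : conjAut (vS S x) n hn.2 ⟨x, hxV⟩ = ⟨x, hxV⟩ :=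
    hα.equiv.injective (Subtype.ext h1)
  have h5 : n * x * n⁻¹ = x := congrArg Subtype.val h4
  apply hnM
  refine mem_cS.2 ⟨hn.1, ?_⟩
  calc x * n = (n * x * n⁻¹) * n := by rw [h5]
    _ = n * x := by group

end Cfsg.Agent.S5274
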