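-- Statement S5276
import Mathlib
import Cfsg.Statements.S5276
import Cfsg.Agent.S5222
import Cfsg.Agent.S5224
import Cfsg.Agent.Lib.Helper2.PGroup
import Cfsg.Agent.Lib.Helper83.AbIdxG
import Cfsg.Agent.Lib.Helper84.FusSat
import Cfsg.Agent.Lib.Helper86.FusionWeakAlperin
import Cfsg.Agent.Lib.Helper87.FusionAlperin
import Cfsg.Agent.Lib.Helper87.FusionNormalCrit
import Cfsg.Agent.Lib.Helper87.FusionFactor
import Cfsg.Agent.Lib.Helper87.FusionInner

set_option autoImplicit false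
open Cfsg

namespace Cfsg.Agent.S5276

open Cfsg.FusionSystem Cfsg.Agent.Helper87

open scoped commutatorElement

variable {Ω : Type*} [Group Ω] {S : Subgroup Ω}

/-- the Frattini subgroup of `S`, inside `Ω` -/
abbrev Phi (S : Subgroup Ω) : Subgroup Ω := (frattini ↥S).map S.subtype

theorem phi_le : Phi S ≤ S := by
  rintro _ ⟨y, -, rfl⟩
  exact y.2

theorem conj_mem_phi {x g : Ω} (hx : x ∈ Phi S) (hg : g ∈ S) : g * x * g⁻¹ ∈ Phi S := by
  obtain ⟨y, hy, rfl⟩ := hx
  have h : (⟨g, hg⟩ : S) * y * (⟨g, hg⟩ : S)⁻¹ ∈ frattini ↥S :=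
    (inferInstance : (frattini ↥S).Normal).conj_mem y hy ⟨g, hg⟩
  exact ⟨_, h, rfl⟩

theorem comm_mem_phi [Finite S] {p : ℕ} [Fact p.Prime] (hS : IsPGroup p S) {x g : Ω} (hx : x ∈ S)
    (hg : g ∈ S) : x⁻¹ * (g * x * g⁻¹) ∈ Phi S := by
  have h1 : ⁅(⟨x, hx⟩ : S)⁻¹, (⟨g, hg⟩ : S)⁆ ∈ commutator ↥S :=
    Subgroup.commutator_mem_commutator (Subgroup.mem_top _) (Subgroup.mem_top _)
  have h2 := Cfsg.Agent.Helper2.commutator_le_frattini hS h1
  refine ⟨_, h2, ?_⟩
  simp [commutatorElement_def, mul_assoc]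

/-- the forward direction -/
theorem forward (F : FusionSystem S) (h : ∀ P : Subgroup Ω, F.Hom P = (innerFusionSystem S).Hom P) :
    (∀ N : FusionSystem (normalizerIn S S), F.IsNormalizerSystem S N →
      ∀ P : Subgroup Ω, N.Hom P = (innerFusionSystem (normalizerIn S S)).Hom P) ∧
    F.StronglyClosed (Phi S) := by
  constructor
  · intro N hN P
    rw [hN P]
    ext φ
    rw [Cfsg.Agent.S5222.mem_normalizerHom_self_iff]
    constructor
    · rintro ⟨hPS, α, hα, hx⟩
      have hα' : S.subtype.comp α.toMonoidHom ∈ F.Hom S := hα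
      rw [h S] at hα'
      obtain ⟨-, g, hg, hgx⟩ := hα'
      refine ⟨hPS.trans Cfsg.Agent.S5222.le_normalizerIn_self, g,
        Cfsg.Agent.S5222.le_normalizerIn_self hg, fun x => ?_⟩
      rw [← hx x]
      exact hgx _
    · rintro ⟨hPN, g, hg, hgx⟩
      have hPS : P ≤ S := hPN.trans inf_le_left
      refine ⟨hPS, Cfsg.Agent.Helper86.conjAut S g hg.2,
        Cfsg.Agent.Helper86.isIso_of_conj F le_rfl hg.1 _ (fun _ => rfl), fun x => ?_⟩
      rw [hgx x]
      rfl
  · refine ⟨phi_le, fun R hR φ hφ x => ?_⟩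
    rw [h R] at hφ
    obtain ⟨-, g, hg, hgx⟩ := hφ
    rw [hgx x]
    exact conj_mem_phi (hR x.2) hg

section Back

variable [Finite S] {p : ℕ} [Fact p.Prime] (hS : IsPGroup p S) (F : FusionSystem S)
  (hF : F.IsSaturated p)
  (hinn : ∀ α : MulAut S, Cfsg.Agent.Helper86.IsIso F α →
    ∃ g ∈ S, ∀ x : S, ((α x : S) : Ω) = g * x * g⁻¹)
  (hΦ : F.StronglyClosed (Phi S))

/-- the automorphisms of `R` acting trivially modulo `Φ(S)` -/
def trivMod (S R : Subgroup Ω) : Subgroup (MulAut R) where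
  carrier := {β | ∀ x : R, (x : Ω)⁻¹ * ((β x : R) : Ω) ∈ Phi S}
  one_mem' := fun x => by simp
  mul_mem' := by
    intro β γ hβ hγ x
    have h1 := hγ x
    have h2 := hβ (γ x)
    have e : (x : Ω)⁻¹ * (((β * γ) x : R) : Ω) =
        ((x : Ω)⁻¹ * ((γ x : R) : Ω)) * (((γ x : R) : Ω)⁻¹ * ((β (γ x) : R) : Ω)) := by
      rw [MulAut.mul_apply]; group
    show _ ∈ Phi S
    rw [e]
    exact (Phi S).mul_mem h1 h2
  inv_mem' := by
    intro β hβ x
    have h1 := hβ (β⁻¹ x)
    rw [MulAut.apply_inv_self] at h1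
    have e : (x : Ω)⁻¹ * ((β⁻¹ x : R) : Ω) = (((β⁻¹ x : R) : Ω)⁻¹ * (x : Ω))⁻¹ := by group
    show _ ∈ Phi S
    rw [e]
    exact (Phi S).inv_mem h1

theorem mem_trivMod {R : Subgroup Ω} {β : MulAut R} :
    β ∈ trivMod S R ↔ ∀ x : R, (x : Ω)⁻¹ * ((β x : R) : Ω) ∈ Phi S := Iff.rfl

include hS hF hinn hΦ in
/-- the focal subgroup lies in the Frattini subgroup -/
theorem focal_step : ∀ (P : Subgroup Ω) (f : Ω → Ω), Mor F P f → ∀ x ∈ P, x⁻¹ * f x ∈ Phi S := by
  have hΦ' := stronglyClosed_iff.1 hΦ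
  apply alperin_fullyNormalized hS hF (fun P f => ∀ x ∈ P, x⁻¹ * f x ∈ Phi S)
  · refine ⟨?_, ?_, ?_⟩
    · intro P f f' hC hff' x hx
      rw [← hff' x hx]
      exact hC x hx
    · intro P Q f _ hC hQP x hx
      exact hC x (hQP hx)
    · intro P Q f g _ _ hPQ hCf hCg x hx
      have e : x⁻¹ * g (f x) = (x⁻¹ * f x) * ((f x)⁻¹ * g (f x)) := by group
      rw [e]
      exact (Phi S).mul_mem (hCf x hx) (hCg _ (hPQ x hx))
  · intro R hfn IH α hα
    have hRS : R ≤ S := hfn.1
    haveI : Finite R := Cfsg.Agent.Helper86.finite_of_le hRS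
    suffices hmem : α ∈ trivMod S R by
      intro x hx
      have := hmem ⟨x, hx⟩
      rwa [← extAut_mem α hx] at this
    by_cases hRtop : R = S
    · subst hRtop
      obtain ⟨g, hg, hgx⟩ := hinn α ((Cfsg.Agent.Helper86.mem_autGroup_iff F le_rfl α).1 hα)
      intro x
      rw [hgx x]
      exact comm_mem_phi hS x.2 hg
    · have hfa := fullyAutomized_of_fullyNormalized hS hF hfn
      obtain ⟨-, hT⟩ := (Cfsg.Agent.Helper84.fullyAutomized_iff F R).1 hfa
      have hTK : autInducedBy S R ≤ trivMod S R ⊓ F.autGroup R := by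
        intro t ht
        refine ⟨?_, Cfsg.Agent.Helper86.autInducedBy_le_autGroup F hRS ht⟩
        obtain ⟨s, hs, hsx⟩ := mem_autInducedBy_iff.1 ht
        intro x
        rw [hsx x]
        exact comm_mem_phi hS (hRS x.2) hs
      have hKn : ∀ g ∈ F.autGroup R, ∀ k ∈ trivMod S R ⊓ F.autGroup R,
          g * k * g⁻¹ ∈ trivMod S R ⊓ F.autGroup R := by
        intro g hg k hk
        refine ⟨?_, (F.autGroup R).mul_mem ((F.autGroup R).mul_mem hg hk.2) ((F.autGroup R).inv_mem hg)⟩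
        intro x
        have h1 := hk.1 (g⁻¹ x)
        have hgm : Mor F R (extAut g) := (mem_autGroup_iff hRS).1 hg
        -- the element `y⁻¹ k(y)` of `R ∩ Φ`
        have hyR : ((g⁻¹ x : R) : Ω)⁻¹ * ((k (g⁻¹ x) : R) : Ω) ∈ R :=
          R.mul_mem (R.inv_mem (g⁻¹ x).2) (k (g⁻¹ x)).2
        have h2 := hΦ'.2 (R ⊓ Phi S) (extAut g) inf_le_right (hgm.restrict inf_le_left) _ ⟨hyR, h1⟩
        have e : extAut g (((g⁻¹ x : R) : Ω)⁻¹ * ((k (g⁻¹ x) : R) : Ω)) =
            (x : Ω)⁻¹ * (((g * k * g⁻¹) x : R) : Ω) := by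
          have e1 : ((g⁻¹ x : R) : Ω)⁻¹ * ((k (g⁻¹ x) : R) : Ω) = (((g⁻¹ x)⁻¹ * k (g⁻¹ x) : R) : Ω) := rfl
          rw [e1, extAut_apply, map_mul, map_inv, MulAut.apply_inv_self]
          rfl
        rw [← e]
        exact h2
      obtain ⟨k, hk, ν, hν, e, hnorm⟩ :=
        Cfsg.Agent.Helper83.AbIdx.exists_frattini_decomp hT hTK inf_le_right hKn hα
      obtain ⟨ψ, hψ, hψx⟩ := Cfsg.Agent.Helper83.AbIdx.exists_ext_of_normalizes hS hF hfn hν hnorm
      have hlt : Nat.card R < Nat.card (normalizerIn S R) :=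
        Cfsg.Agent.Helper86.card_lt_card_normalizerIn hS hRS hRtop
      have hCψ := IH _ ψ hψ hlt
      have hνK : ν ∈ trivMod S R := by
        intro x
        have := hCψ x (Cfsg.Agent.Helper86.le_normalizerIn hRS x.2)
        rwa [hψx x x.2, extAut_apply] at this
      rw [e]
      exact (trivMod S R).mul_mem hk.1 hνK

include hS hF hinn hΦ in
/-- the backward direction, given Tate's theorem -/
theorem backward
    (tate : ∀ H : FusionSystem S, H.IsSaturated p → H.IsSubsystemOf F →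
      Phi S ⊔ F.focalSubgroup = Phi S ⊔ H.focalSubgroup →
      F.hyperfocalSubgroup p = H.hyperfocalSubgroup p) :
    ∀ P : Subgroup Ω, F.Hom P = (innerFusionSystem S).Hom P := by
  have hfoc : F.focalSubgroup ≤ Phi S := by
    unfold focalSubgroup
    rw [Subgroup.closure_le]
    rintro y ⟨P, φ, x, hφ, rfl⟩
    have := focal_step hS F hF hinn hΦ P (extFun φ) (mor_of_mem hφ) x x.2
    rwa [extFun_apply] at this
  have hHsat : (innerFusionSystem S).IsSaturated p := innerFusionSystem_isSaturated hS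
  have hHF : (innerFusionSystem S).IsSubsystemOf F := inner_isSubsystemOf F le_rfl
  have hHfoc : (innerFusionSystem S).focalSubgroup ≤ Phi S := by
    unfold focalSubgroup
    rw [Subgroup.closure_le]
    rintro y ⟨P, φ, x, hφ, rfl⟩
    obtain ⟨hPS, g, hg, hgx⟩ := hφ
    rw [hgx x]
    exact comm_mem_phi hS (hPS x.2) hg
  have hhyp := tate (innerFusionSystem S) hHsat hHF
    (by rw [sup_eq_left.2 hfoc, sup_eq_left.2 hHfoc])
  have hHhyp : (innerFusionSystem S).hyperfocalSubgroup p = ⊥ := by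
    rw [eq_bot_iff]
    apply hyperfocal_le
    intro P hP α hα hc x
    have hα' : α ∈ autInducedBy S P := by rwa [autGroup_inner_eq hP] at hα
    obtain ⟨k, hk⟩ := (isPGroup_autInducedBy hS P) ⟨α, hα'⟩
    have hk' : α ^ p ^ k = 1 := by
      have := congrArg Subtype.val hk
      simpa using this
    have h1 : orderOf α ∣ p ^ k := orderOf_dvd_of_pow_eq_one hk'
    have h2 : orderOf α = 1 := (Nat.Coprime.pow_right k hc).eq_one_of_dvd h1
    rw [orderOf_eq_one_iff] at h2
    rw [h2]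
    simp
  rw [hHhyp] at hhyp
  apply Cfsg.Agent.Helper86.hom_eq_inner_of_isPGroup_autGroup hS F hF
  intro P hP
  haveI : Finite P := Cfsg.Agent.Helper86.finite_of_le hP
  have hp : Fact p.Prime := inferInstance
  intro a
  obtain ⟨k, m, hm, hkm⟩ := Nat.exists_eq_pow_mul_and_not_dvd (orderOf_pos a).ne' p hp.out.ne_one
  refine ⟨k, ?_⟩
  have hdvd : p ^ k ∣ orderOf (a : MulAut P) := by
    rw [Subgroup.orderOf_coe, hkm]
    exact dvd_mul_right _ _
  have hord : orderOf ((a : MulAut P) ^ (p ^ k)) = m := by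
    rw [orderOf_pow_of_dvd (pow_ne_zero _ hp.out.ne_zero) hdvd, Subgroup.orderOf_coe, hkm,
      Nat.mul_div_cancel_left _ (pow_pos hp.out.pos k)]
  have hcop : (orderOf ((a : MulAut P) ^ (p ^ k))).Coprime p := by
    rw [hord]
    exact ((Nat.Prime.coprime_iff_not_dvd hp.out).2 hm).symm
  have hmemA : (a : MulAut P) ^ (p ^ k) ∈ F.autGroup P := (F.autGroup P).pow_mem a.2 _
  have h1 : (a : MulAut P) ^ (p ^ k) = 1 := by
    ext x
    have h2 := mem_hyperfocal (p := p) hP hmemA hcop x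
    rw [hhyp, Subgroup.mem_bot, inv_mul_eq_one] at h2
    exact h2.symm
  apply Subtype.ext
  rw [Subgroup.coe_pow, h1]
  rfl

end Back

/-- Let p be a prime and F a saturated fusion system over a finite p-group S. Then F is the inner fusion system of S if and only if the normalizer fusion system of S itself in F is the inner fusion system (equivalently, Aut_F(S) is induced by S) and the Frattini subgroup Φ(S) is strongly closed in F. -/
theorem result {Ω : Type*} [Group Ω] {S : Subgroup Ω} [Finite S] (p : ℕ) [Fact p.Prime] (hS : IsPGroup p ↥S) (F : Cfsg.FusionSystem S) (hF : F.IsSaturated p) : (∀ P : Subgroup Ω, F.Hom P = (Cfsg.innerFusionSystem S).Hom P) ↔ (∀ N : Cfsg.FusionSystem (Cfsg.FusionSystem.normalizerIn S S), F.IsNormalizerSystem S N → ∀ P : Subgroup Ω, N.Hom P = (Cfsg.innerFusionSystem (Cfsg.FusionSystem.normalizerIn S S)).Hom P) ∧ F.StronglyClosed ((frattini ↥S).map S.subtype) := by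
  constructor
  · exact forward F
  · rintro ⟨hN, hΦ⟩
    have hinn := Cfsg.Agent.S5222.inner_of_hN F hN
    exact backward hS F hF hinn hΦ (fun H hH hHF h =>
      (Cfsg.Agent.S5224.result p hS F hF H hH hHF).2.1 ((Cfsg.Agent.S5224.result p hS F hF H hH hHF).1.1 h))

end Cfsg.Agent.S5276
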