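import Cfsg.Statements.S5279
import Cfsg.Agent.Lib.Helper30.PStabF
import Cfsg.Agent.S5246
import Cfsg.Agent.Lib.Helper87.FusionCore

set_option autoImplicit false
open Cfsg

namespace Cfsg.Agent.S5279

/-- Let p be an odd prime, G a finite group with a nontrivial Sylow p-subgroup P, and F the fusion system of G on P. Suppose F is p-stable: for every fully normalized subgroup Q and every χ in Aut_F(Q) acting quadratically on Q (χ(a⁻¹)·a·χ(a⁻¹)·χ(χ(a)) = 1 for all a in Q), χ lies in O_p(Aut_F(Q)). Then some nontrivial subgroup of P is normal in F. -/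
theorem result {Ω : Type*} [Group Ω] [Finite Ω] (p : ℕ) [Fact p.Prime] (hp : p ≠ 2) (P : Sylow p Ω) (hP : (P : Subgroup Ω) ≠ ⊥) (hst : (∀ Q : Subgroup Ω, (Cfsg.groupFusionSystem (P : Subgroup Ω)).IsFullyNormalized Q → ∀ χ : MulAut ↥Q, χ ∈ (Cfsg.groupFusionSystem (P : Subgroup Ω)).autGroup Q → (∀ a : ↥Q, (χ a⁻¹) * a * (χ a⁻¹) * (χ (χ a)) = 1) → χ ∈ ((Cfsg.pCore p ↥((Cfsg.groupFusionSystem (P : Subgroup Ω)).autGroup Q)).map ((Cfsg.groupFusionSystem (P : Subgroup Ω)).autGroup Q).subtype : Subgroup (MulAut ↥Q)))) : (Cfsg.groupFusionSystem (P : Subgroup Ω)).core ≠ ⊥ := by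
  have hstG : IsNormalizerPStable p Ω := (Cfsg.Agent.S5246.result hp P).mpr hst
  have hWne : Cfsg.Agent.Helper11.ZJ.W ((Cfsg.Agent.Helper11.ZJ.commSys p).Good Ω) (P : Subgroup Ω) ≠ ⊥ :=
    (Cfsg.Agent.Helper11.ZJ.commSys p).ne_bot Ω (P : Subgroup Ω) P.isPGroup' hP
  have hWP : Cfsg.Agent.Helper11.ZJ.W ((Cfsg.Agent.Helper11.ZJ.commSys p).Good Ω) (P : Subgroup Ω) ≤
      (P : Subgroup Ω) :=
    Cfsg.Agent.Helper11.ZJ.W_le ((Cfsg.Agent.Helper11.ZJ.commSys p).ax Ω) _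
  have hsc : IsStronglyClosed (P : Subgroup Ω) (P : Subgroup Ω) := ⟨le_rfl, fun _ _ _ h => h⟩
  have hctl := Cfsg.Agent.Helper30.PS.localControl_of_stable
    (Cfsg.Agent.Helper11.ZJ.commSys p) hp hstG P (P : Subgroup Ω) hsc
  generalize Cfsg.Agent.Helper11.ZJ.W ((Cfsg.Agent.Helper11.ZJ.commSys p).Good Ω) (P : Subgroup Ω) = W₀
    at hWne hWP hctl
  have hnorm : (Cfsg.groupFusionSystem (P : Subgroup Ω)).IsNormal W₀ := by
    refine ⟨hWP, ?_⟩
    rintro P₁ φ ⟨hP₁, hφS, g, hg⟩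
    obtain ⟨x, hx, hxa⟩ := hctl (P₁ : Set Ω) g hP₁
      (fun a ha => by
        have := hφS ⟨a, ha⟩
        rwa [hg] at this)
    have hxW : ∀ y ∈ W₀, x * y * x⁻¹ ∈ W₀ := fun y hy => (Subgroup.mem_normalizer_iff.mp hx y).mp hy
    have hval : ∀ y ∈ P₁ ⊔ W₀, x * y * x⁻¹ ∈ (P : Subgroup Ω) := by
      have hle : P₁ ⊔ W₀ ≤ (P : Subgroup Ω).comap (MulAut.conj x).toMonoidHom := by
        apply sup_le
        · intro y hy
          rw [Subgroup.mem_comap]
          simp only [MulEquiv.coe_toMonoidHom, MulAut.conj_apply]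
          rw [hxa y hy]
          have := hφS ⟨y, hy⟩
          rwa [hg] at this
        · intro y hy
          rw [Subgroup.mem_comap]
          simp only [MulEquiv.coe_toMonoidHom, MulAut.conj_apply]
          exact hWP (hxW y hy)
      intro y hy
      have := hle hy
      rw [Subgroup.mem_comap] at this
      simpa using this
    refine ⟨Cfsg.conjHom (P₁ ⊔ W₀) x, ⟨sup_le hP₁ hWP, fun y => hval y y.2, x, fun y => rfl⟩, ?_, ?_⟩
    · intro y
      show x * (y : Ω) * x⁻¹ = φ y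
      rw [hg, hxa y y.2]
    · ext z
      constructor
      · rintro ⟨y, hy, rfl⟩
        exact hxW y (Subgroup.mem_subgroupOf.mp hy)
      · intro hz
        have h1 : x⁻¹ * z * x ∈ W₀ := by
          have := (Subgroup.mem_normalizer_iff.mp (Subgroup.inv_mem _ hx) z).mp hz
          rwa [inv_inv] at this
        refine ⟨⟨x⁻¹ * z * x, (le_sup_right : W₀ ≤ P₁ ⊔ W₀) h1⟩, Subgroup.mem_subgroupOf.mpr h1, ?_⟩
        show x * (x⁻¹ * z * x) * x⁻¹ = z
        group
  intro hcore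
  apply hWne
  rw [eq_bot_iff, ← hcore]
  exact Cfsg.Agent.Helper87.le_core hnorm

end Cfsg.Agent.S5279
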