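import Cfsg.Statements.S5281
import Cfsg.Agent.S5096
import Cfsg.Agent.Lib.Helper87.PStabChain
import Cfsg.Agent.Lib.Helper84.FusNorm

set_option autoImplicit false
open Cfsg

namespace Cfsg.Agent.S5281

open Cfsg.FusionSystem Cfsg.Agent.Helper87

section Aux

variable {Ω : Type*} [Group Ω]

theorem quad_congr {P Q : Subgroup Ω} (e : P ≃* Q) (χ : MulAut P)
    (h : ∀ a : P, (χ a⁻¹) * a * (χ a⁻¹) * (χ (χ a)) = 1) :
    ∀ b : Q, ((MulAut.congr e χ) b⁻¹) * b * ((MulAut.congr e χ) b⁻¹) *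
      ((MulAut.congr e χ) ((MulAut.congr e χ) b)) = 1 := by
  intro b
  obtain ⟨a, rfl⟩ := e.surjective b
  simp only [congr_apply, ← map_inv, MulEquiv.symm_apply_apply]
  rw [← map_mul, ← map_mul, ← map_mul, h a, map_one]

variable {S : Subgroup Ω}

theorem congr_back {F : FusionSystem S} {P Q : Subgroup Ω} {f g : Ω → Ω} (h : Iso F P Q f)
    (h' : Iso F Q P g) (hgf : ∀ x ∈ P, g (f x) = x) (χ : MulAut P) :
    MulAut.congr h'.equiv (MulAut.congr h.equiv χ) = χ := by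
  have key : ∀ x : P, h'.equiv.symm x = h.equiv x := by
    intro x
    rw [MulEquiv.symm_apply_eq]
    apply Subtype.ext
    rw [h'.equiv_apply, h.equiv_apply, hgf x x.2]
  ext x
  rw [congr_apply, congr_apply, key, MulEquiv.symm_apply_apply, ← key, MulEquiv.apply_symm_apply]

/-- p-stability extends from the fully normalized subgroups to all subgroups -/
theorem quad_all [Finite S] {p : ℕ} [Fact p.Prime] {F : FusionSystem S}
    (H : ∀ Q : Subgroup Ω, F.IsFullyNormalized Q → ∀ χ : MulAut ↥Q, χ ∈ F.autGroup Q →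
      (∀ a : ↥Q, (χ a⁻¹) * a * (χ a⁻¹) * (χ (χ a)) = 1) →
      χ ∈ ((Cfsg.pCore p ↥(F.autGroup Q)).map (F.autGroup Q).subtype : Subgroup (MulAut ↥Q)))
    {Q : Subgroup Ω} (hQS : Q ≤ S) {χ : MulAut ↥Q} (hχ : χ ∈ F.autGroup Q)
    (hq : ∀ a : ↥Q, (χ a⁻¹) * a * (χ a⁻¹) * (χ (χ a)) = 1) :
    χ ∈ ((Cfsg.pCore p ↥(F.autGroup Q)).map (F.autGroup Q).subtype : Subgroup (MulAut ↥Q)) := by
  obtain ⟨Q', hQQ', hfn⟩ := exists_fullyNormalized_conj F hQS
  obtain ⟨f, hf⟩ := isConj_iff.1 hQQ'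
  have h1 := H Q' hfn _ (congr_mem_autGroup hf hχ) (quad_congr hf.equiv χ hq)
  obtain ⟨g, hg, hgf, -⟩ := hf.symm
  have h2 := pCore_autGroup_congr hg h1
  rwa [congr_back hf hg hgf] at h2

end Aux

/-- Let p be an odd prime and F a saturated fusion system over a finite p-group S. Call a fusion system E (over any subgroup) p-stable when, for every fully E-normalized subgroup Q and every χ in Aut_E(Q) with χ(a⁻¹)·a·χ(a⁻¹)·χ(χ(a)) = 1 for all a in Q (χ acts quadratically), χ lies in O_p(Aut_E(Q)). Then F is p-stable if and only if the normalizer fusion system of R in F is p-stable for every fully F-normalized, F-centric, F-radical subgroup R of S. -/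
theorem result {Ω : Type*} [Group Ω] {S : Subgroup Ω} [Finite S] (p : ℕ) [Fact p.Prime] (hS : IsPGroup p ↥S) (F : Cfsg.FusionSystem S) (hF : F.IsSaturated p) (hp : p ≠ 2) : (∀ Q : Subgroup Ω, F.IsFullyNormalized Q → ∀ χ : MulAut ↥Q, χ ∈ F.autGroup Q → (∀ a : ↥Q, (χ a⁻¹) * a * (χ a⁻¹) * (χ (χ a)) = 1) → χ ∈ ((Cfsg.pCore p ↥(F.autGroup Q)).map (F.autGroup Q).subtype : Subgroup (MulAut ↥Q))) ↔ ∀ R : Subgroup Ω, F.IsFullyNormalized R → F.IsCentric R → F.IsRadical p R → ∀ N : Cfsg.FusionSystem (Cfsg.FusionSystem.normalizerIn S R), F.IsNormalizerSystem R N → (∀ Q : Subgroup Ω, N.IsFullyNormalized Q → ∀ χ : MulAut ↥Q, χ ∈ N.autGroup Q → (∀ a : ↥Q, (χ a⁻¹) * a * (χ a⁻¹) * (χ (χ a)) = 1) → χ ∈ ((Cfsg.pCore p ↥(N.autGroup Q)).map (N.autGroup Q).subtype : Subgroup (MulAut ↥Q))) := by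
  constructor
  · intro HF R hfnR hcen hrad N hN Q hQfn χ hχ hq
    have hQT : Q ≤ normalizerIn S R := hQfn.1
    have hQS : Q ≤ S := hQT.trans inf_le_left
    have hfinQ : Finite Q := finite_of_le hQS
    have hle := autGroup_le_of_subsystem (normalizerSystem_isSubsystemOf hN) hQT hQS
    exact mem_pCore_of_subsystem hle (quad_all HF hQS (hle hχ) hq) hχ
  · intro H Q hQfn χ hχ hq
    have hQS : Q ≤ S := hQfn.1
    obtain ⟨Q', R', f, hf, hQ'R', hE, hfn', hc', hr'⟩ := PStabChain.exists_frc hS hF hQS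
    obtain ⟨N, hN⟩ := Cfsg.Agent.S5096.result F R' hfn'.1
    have hfinT : Finite (normalizerIn S R') := finite_of_le inf_le_left
    have hHN := H R' hfn' hc' hr' N hN
    have hQ'T : Q' ≤ normalizerIn S R' := hQ'R'.trans (le_normalizerIn hfn'.1)
    have hQ'S : Q' ≤ S := hQ'T.trans inf_le_left
    have hfinQ' : Finite Q' := finite_of_le hQ'S
    -- `Aut_F(Q') ≤ Aut_N(Q')`
    have hle : F.autGroup Q' ≤ N.autGroup Q' := by
      intro α hα
      have hmor : Mor F Q' (extAut α) := (mem_autGroup_iff hQ'S).1 hα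
      have hiso : Iso F Q' Q' (extAut α) :=
        iso_of_card_le hmor hQ'S (fun x hx => extAut_mem_self α hx) le_rfl
      obtain ⟨β, hβ, hβα⟩ := hE _ hiso
      rw [mem_autGroup_iff hQ'T, mor_normalizerSystem_iff hN]
      refine ⟨hmor, hQ'T, fun x hx => hQ'T (extAut_mem_self α hx), β, ?_, hβα, hβ.2⟩
      rw [sup_eq_right.2 hQ'R']
      exact hβ.1
    have hχ' : MulAut.congr hf.equiv χ ∈ F.autGroup Q' := congr_mem_autGroup hf hχ
    have hq' := quad_congr hf.equiv χ hq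
    have h1 := quad_all hHN hQ'T (hle hχ') hq'
    have h2 := mem_pCore_of_subsystem hle h1 hχ'
    obtain ⟨g, hg, hgf, -⟩ := hf.symm
    have h3 := pCore_autGroup_congr hg h2
    rwa [congr_back hf hg hgf] at h3

end Cfsg.Agent.S5281
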