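import Cfsg.Statements.S5287
import Mathlib
import Cfsg.Agent.S5283
import Cfsg.Agent.S5284
import Cfsg.Agent.S5234
import Cfsg.Agent.S5235
import Cfsg.Agent.S1896
import Cfsg.Agent.Lib.Helper87.FusionSuper
import Cfsg.Agent.Lib.Helper73.SuperMetaOddB
import Cfsg.Agent.Lib.Helper73.DSQDihedral
import Cfsg.Agent.Lib.Helper73.MetaAbelian
import Cfsg.Agent.Lib.Helper73.DSQFacts
import Cfsg.Agent.Lib.Helper73.SuperMetaFinal

set_option autoImplicit false
open Cfsg

namespace Cfsg.Agent.S5287

/-- Let S be a finite metacyclic p-group (an extension of a cyclic group by a cyclic group). Every saturated fusion system over S is supersoluble (S has a chain of F-strongly closed subgroups from 1 to S with cyclic steps) if and only if S is not homocyclic of rank two (isomorphic to Z/p^n × Z/p^n with n ≥ 1) and, when p = 2, S is not dihedral of order at least 4, not quasi-dihedral (semidihedral) and not generalized quaternion of order at least 8. -/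
theorem result {Ω : Type*} [Group Ω] {S : Subgroup Ω} [Finite S] (p : ℕ) [Fact p.Prime] (hS : IsPGroup p ↥S) (hm : Cfsg.IsMetacyclic ↥S) : (∀ F : Cfsg.FusionSystem S, F.IsSaturated p → (∃ (m : ℕ) (c : Fin (m + 1) → Subgroup Ω), c 0 = ⊥ ∧ c (Fin.last m) = S ∧ (∀ i : Fin (m + 1), F.StronglyClosed (c i)) ∧ ∀ i : Fin m, c i.castSucc ≤ c i.succ ∧ ∃ x ∈ S, c i.succ = c i.castSucc ⊔ Subgroup.zpowers x)) ↔ ¬ ((∃ n : ℕ, 0 < n ∧ Nonempty (↥S ≃* Multiplicative (ZMod (p ^ n)) × Multiplicative (ZMod (p ^ n)))) ∨ (p = 2 ∧ ((∃ n : ℕ, 2 ≤ n ∧ Nonempty (↥S ≃* DihedralGroup n)) ∨ Cfsg.IsQuasiDihedral ↥S ∨ (∃ n : ℕ, 2 ≤ n ∧ Nonempty (↥S ≃* QuaternionGroup n))))) := by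
  classical
  by_cases hab : ∀ a b : S, a * b = b * a
  · -- the abelian case
    have habI : IsMulCommutative ↥S := ⟨⟨hab⟩⟩
    rw [Cfsg.Agent.S5284.result p hS habI]
    apply not_congr
    constructor
    · rintro ⟨n, H, _, hn, ⟨e⟩⟩
      left
      have hcard := Cfsg.Agent.Helper73.MetaAb.card_eq_one_of_metacyclic_prod hS hab hm n hn H e
      obtain ⟨hss, hne⟩ := Nat.card_eq_one_iff_unique.mp hcard
      have hU : Unique H := @Unique.mk' H ⟨Classical.choice hne⟩ hss
      exact ⟨n, hn, ⟨e.trans MulEquiv.prodUnique⟩⟩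
    · rintro (⟨n, hn, ⟨e⟩⟩ | ⟨hp2, hD | hQD | hQ⟩)
      · exact ⟨n, PUnit.{1}, inferInstance, hn, ⟨e.trans MulEquiv.prodUnique.symm⟩⟩
      · obtain ⟨n, hn, ⟨e⟩⟩ := hD
        subst hp2
        have hn2 : n = 2 := by
          by_contra hne
          exact Cfsg.Agent.Helper73.DSQFacts.dihedral_not_comm n (by omega) (fun a b => by
            apply e.symm.injective
            rw [map_mul, map_mul, hab])
        subst hn2
        obtain ⟨e2⟩ := Cfsg.Agent.Helper73.DSQFacts.dihedral_two_equiv
        exact ⟨1, PUnit.{1}, inferInstance, by norm_num,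
          ⟨(e.trans e2).trans MulEquiv.prodUnique.symm⟩⟩
      · exact absurd hab (Cfsg.Agent.Helper73.DSQFacts.qd_not_comm hQD)
      · obtain ⟨n, hn, ⟨e⟩⟩ := hQ
        exact absurd (fun a b => by
          apply e.symm.injective
          rw [map_mul, map_mul, hab]) (Cfsg.Agent.Helper73.DSQFacts.quaternion_not_comm n hn)
  · -- the nonabelian case
    have hnotHomo : ¬ ∃ n : ℕ, 0 < n ∧ Nonempty (↥S ≃*
        Multiplicative (ZMod (p ^ n)) × Multiplicative (ZMod (p ^ n))) := by
      rintro ⟨n, -, ⟨e⟩⟩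
      apply hab
      intro a b
      apply e.injective
      rw [map_mul, map_mul, mul_comm]
    have hsc : ∀ F : Cfsg.FusionSystem S, F.StronglyClosed S :=
      fun F => ⟨le_rfl, fun R _ φ hφ x => (F.le_of_mem hφ).2 x⟩
    by_cases hp2 : p = 2
    · subst hp2
      by_cases hdsq : (∃ n : ℕ, 2 ≤ n ∧ Nonempty (↥S ≃* DihedralGroup n)) ∨
          Cfsg.IsQuasiDihedral ↥S ∨ (∃ n : ℕ, 2 ≤ n ∧ Nonempty (↥S ≃* QuaternionGroup n))
      · -- both sides fail
        constructor
        · intro hL
          exfalso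
          by_cases hq8 : Nonempty (↥S ≃* QuaternionGroup 2)
          · obtain ⟨e⟩ := hq8
            obtain ⟨H, hcop, h, hh, hne⟩ := Cfsg.Agent.Helper73.SuperMetaFinal.q8_aut e
            exact hne ((Cfsg.Agent.Helper87.comm_exp_of_super hS (fun F hF => hL F hF) H hcop).2 h hh)
          · have hAut : IsPGroup 2 (MulAut ↥S) := by
              by_contra hA
              rcases Cfsg.Agent.S1896.result hS hm hA with h | ⟨n, ⟨e⟩⟩
              · exact hq8 h
              · apply hab
                intro a b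
                apply e.injective
                rw [map_mul, map_mul, mul_comm]
            have hbad : ∃ F : Cfsg.FusionSystem S, F.IsSaturated 2 ∧ ¬ F.IsNormal S := by
              rcases hdsq with ⟨n, hn, ⟨e⟩⟩ | hQD | ⟨n, hn, ⟨e⟩⟩
              · obtain ⟨k, rfl⟩ := Cfsg.Agent.Helper73.DSQFacts.dihedral_two_pow hS n e
                have h3 := Cfsg.Agent.Helper73.DSQFacts.three_le_of_dihedral hab _ e
                have hk : 2 ≤ k := by
                  by_contra hk
                  have : k = 0 ∨ k = 1 := by omega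
                  rcases this with rfl | rfl <;> norm_num at h3
                exact Cfsg.Agent.Helper73.DSQ.dihedral_case k hk e hAut
              · exact Cfsg.Agent.Helper73.DSQ.semi_case hQD hAut
              · obtain ⟨k, rfl⟩ := Cfsg.Agent.Helper73.DSQFacts.quaternion_two_pow hS n (by omega) e
                have hk : 2 ≤ k := by
                  by_contra hk
                  have : k = 0 ∨ k = 1 := by omega
                  rcases this with rfl | rfl
                  · norm_num at hn
                  · apply hq8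
                    rw [pow_one] at e
                    exact ⟨e⟩
                exact Cfsg.Agent.Helper73.DSQ.quat_case k hk e hAut
            obtain ⟨F, hF, hnF⟩ := hbad
            obtain ⟨m, c, hc⟩ := hL F hF
            exact hnF (Cfsg.Agent.Helper87.isNormal_of_superChain hS hF (c := c) hc)
        · intro hR
          exact absurd (Or.inr ⟨rfl, hdsq⟩) hR
      · -- both sides hold
        have hR : ¬ ((∃ n : ℕ, 0 < n ∧ Nonempty (↥S ≃*
            Multiplicative (ZMod (2 ^ n)) × Multiplicative (ZMod (2 ^ n)))) ∨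
            (2 = 2 ∧ ((∃ n : ℕ, 2 ≤ n ∧ Nonempty (↥S ≃* DihedralGroup n)) ∨
              Cfsg.IsQuasiDihedral ↥S ∨ (∃ n : ℕ, 2 ≤ n ∧ Nonempty (↥S ≃* QuaternionGroup n))))) := by
          rintro (h | ⟨-, h⟩)
          · exact hnotHomo h
          · exact hdsq h
        refine iff_of_true ?_ hR
        have hAut : IsPGroup 2 (MulAut ↥S) := by
          by_contra hA
          rcases Cfsg.Agent.S1896.result hS hm hA with ⟨⟨e⟩⟩ | ⟨n, ⟨e⟩⟩
          · exact hdsq (Or.inr (Or.inr ⟨2, le_rfl, ⟨e⟩⟩))
          · apply hab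
            intro a b
            apply e.injective
            rw [map_mul, map_mul, mul_comm]
        intro F hF
        have hn : F.IsNormal S := by
          refine Cfsg.Agent.S5235.result 2 hS F hF S (hsc F) rfl hm ?_ ?_ ?_
          · rintro ⟨m, ⟨e⟩⟩
            have h3 := Cfsg.Agent.Helper73.DSQFacts.three_le_of_dihedral hab m e
            exact hdsq (Or.inl ⟨m, by omega, ⟨e⟩⟩)
          · rintro ⟨m, ⟨e⟩⟩
            exact hdsq (Or.inr (Or.inr
              ⟨m, Cfsg.Agent.Helper73.DSQFacts.two_le_of_quaternion hab m e, ⟨e⟩⟩))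
          · exact fun h => hdsq (Or.inr (Or.inl h))
        exact Cfsg.Agent.Helper87.exists_superChain_of_normal hS hF hn
          (Cfsg.Agent.Helper73.SuperMetaFinal.aut_cond_of_pgroup hAut)
    · -- `p` odd
      have hR : ¬ ((∃ n : ℕ, 0 < n ∧ Nonempty (↥S ≃*
          Multiplicative (ZMod (p ^ n)) × Multiplicative (ZMod (p ^ n)))) ∨
          (p = 2 ∧ ((∃ n : ℕ, 2 ≤ n ∧ Nonempty (↥S ≃* DihedralGroup n)) ∨
            Cfsg.IsQuasiDihedral ↥S ∨ (∃ n : ℕ, 2 ≤ n ∧ Nonempty (↥S ≃* QuaternionGroup n))))) := by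
        rintro (h | ⟨h, -⟩)
        · exact hnotHomo h
        · exact hp2 h
      refine iff_of_true ?_ hR
      intro F hF
      have hn : F.IsNormal S := Cfsg.Agent.S5234.result p hS F hF S (hsc F) hp2 hm
      exact Cfsg.Agent.Helper87.exists_superChain_of_normal hS hF hn
        (fun H hcop => Cfsg.Agent.Helper73.SuperMetaOdd.comm_exp_of_metacyclic_odd hp2 hS hm hab H hcop)

end Cfsg.Agent.S5287
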