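import Mathlib
import Cfsg.Statements.S5289
import Cfsg.Agent.S3888
import Cfsg.Agent.S5234
import Cfsg.Agent.Lib.Helper73.RkTwoGMain2
import Cfsg.Agent.Lib.Helper73.RkTwoC2

set_option autoImplicit false
open Cfsg

namespace Cfsg.Agent.S5289

/-- Let p ≥ 5 be a prime and S a finite p-group of p-rank two (it has an elementary abelian subgroup of order p² and none of order p³) which is not the extraspecial group of order p³ and exponent p. Then S is resistant: for every saturated fusion system F over S, S is normal in F, that is, every map of F extends to an F-automorphism of S. -/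
theorem result {Ω : Type*} [Group Ω] {S : Subgroup Ω} [Finite S] (p : ℕ) [Fact p.Prime] (hS : IsPGroup p S)
    (F : Cfsg.FusionSystem S) (hF : F.IsSaturated p)
    (hp : 5 ≤ p)
    (hrank2 : ∃ E : Subgroup Ω, E ≤ S ∧ Cfsg.IsElementaryAbelian p E ∧ Nat.card E = p ^ 2)
    (hrank3 : ∀ E : Subgroup Ω, E ≤ S → Cfsg.IsElementaryAbelian p E → Nat.card E ≤ p ^ 2)
    (hnotE : ¬ (Nat.card S = p ^ 3 ∧ Monoid.exponent ↥S = p)) : F.IsNormal S := by
  classical
  have hp2 : p ≠ 2 := by omega
  have hpp : p.Prime := Fact.out
  obtain ⟨n, hn⟩ := IsPGroup.iff_card.1 hS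
  have hrk : Cfsg.PRankLE p 2 ↥S := by
    intro A hA hAp
    have h1 := hrank3 (A.map S.subtype) (Subgroup.map_subtype_le A) ⟨?_, ?_⟩
    · rwa [Subgroup.card_map_of_injective (Subgroup.subtype_injective S)] at h1
    · refine ⟨⟨fun a b => ?_⟩⟩
      obtain ⟨a', ha', ha''⟩ := a.2
      obtain ⟨b', hb', hb''⟩ := b.2
      apply Subtype.ext
      have h2 := hA.is_comm.comm ⟨a', ha'⟩ ⟨b', hb'⟩
      have h3 : a' * b' = b' * a' := congrArg Subtype.val h2
      have h4 := congrArg (S.subtype) h3
      rw [map_mul, map_mul, ha'', hb''] at h4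
      exact h4
    · rintro _ ⟨a', ha', rfl⟩
      rw [← map_pow, hAp a' ha', map_one]
  have hcoe_gen : ∀ x y z : S, Subgroup.closure ({x, y, z} : Set S) = ⊤ →
      Subgroup.closure ({(x : Ω), (y : Ω), (z : Ω)} : Set Ω) = S := by
    intro x y z hgen
    have h1 := congrArg (Subgroup.map S.subtype) hgen
    rw [MonoidHom.map_closure, ← MonoidHom.range_eq_map, Subgroup.range_subtype] at h1
    refine Eq.trans ?_ h1
    congr 1
    simp [Set.image_insert_eq]
  rcases Cfsg.Agent.S3888.result hp2 n hn hrk with hm | ⟨hn3, x, y, z, hgen, hx, hy, hz, hxz, hyz, hxy⟩ |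
    ⟨hn4, s, x, y, z, hs, hgen, hx, hy, hz, hyz, hxy, hxz⟩ | ⟨h3, -, -⟩
  · exact Cfsg.Agent.S5234.result p hS F hF S
      ⟨le_rfl, fun R _ φ hφ x => (F.le_of_mem hφ).2 x⟩ hp2 hm
  · have hC : Cfsg.Agent.Helper73.RkTwoC.CData p n S (x : Ω) (y : Ω) (z : Ω) :=
      { hn := hn3
        card := hn
        gen := hcoe_gen x y z hgen
        xp := by have := congrArg Subtype.val hx; simpa using this
        yp := by have := congrArg Subtype.val hy; simpa using this
        zp := by have := congrArg Subtype.val hz; simpa using this
        xz := by have := congrArg Subtype.val hxz; simpa using this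
        yz := by have := congrArg Subtype.val hyz; simpa using this
        xy := by have := congrArg Subtype.val hxy; simpa using this }
    by_cases h3 : n = 3
    · exfalso
      apply hnotE
      exact ⟨by rw [hn, h3], hC.exponent_eq h3 hp2⟩
    · exact hC.isNormal (by omega) hF
  · have hsp : ¬ p ∣ s := by
      intro hd
      rcases hs with h1 | h1
      · rw [h1] at hd
        have := Nat.le_of_dvd one_pos hd
        omega
      · apply h1
        have : (s : ZMod p) = 0 := (ZMod.natCast_eq_zero_iff s p).2 hd
        rw [this]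
        exact ⟨0, by simp⟩
    have hG : Cfsg.Agent.Helper73.RkTwoG.GData p n s S (x : Ω) (y : Ω) (z : Ω) :=
      { hn := hn4
        card := hn
        gen := hcoe_gen x y z hgen
        xp := by have := congrArg Subtype.val hx; simpa using this
        yp := by have := congrArg Subtype.val hy; simpa using this
        zp := by have := congrArg Subtype.val hz; simpa using this
        yz := by have := congrArg Subtype.val hyz; simpa using this
        xy := by have := congrArg Subtype.val hxy; simpa using this
        xz := by have := congrArg Subtype.val hxz; simpa using this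
        hs := hsp }
    exact hG.isNormal hp hF
  · omega

end Cfsg.Agent.S5289
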