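import Cfsg.Statements.S5290
import Cfsg.Agent.Lib.Helper87.FusionInner

set_option autoImplicit false
open Cfsg

namespace Cfsg.Agent.S5290

open Cfsg.Agent.Helper87 Cfsg.FusionSystem

/-- Let F be a saturated fusion system over a finite p-group S and Q a subgroup of S. Then Q is normal in F (F = N_F(Q)) if and only if the inner fusion system of Q, consisting of the conjugations by elements of Q on subgroups of Q, is a weakly normal subsystem of F (both saturated, Q strongly closed, invariant under F-conjugation, with the Frattini property). -/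
theorem result {Ω : Type*} [Group Ω] {S : Subgroup Ω} [Finite S] (p : ℕ) [Fact p.Prime] (hS : IsPGroup p S)
    (F : Cfsg.FusionSystem S) (hF : F.IsSaturated p)
    (Q : Subgroup Ω) (hQ : Q ≤ S) :
    F.IsNormal Q ↔ (Cfsg.innerFusionSystem Q).IsWeaklyNormalIn F p := by
  have hfinQ : Finite Q := finite_of_le hQ
  constructor
  · intro hN
    obtain ⟨-, hext⟩ := isNormal_iff.1 hN
    refine ⟨innerFusionSystem_isSaturated (hS.to_le hQ), hF, inner_isSubsystemOf F hQ,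
      stronglyClosed_of_isNormal hN, ?_, ?_⟩
    · -- invariance
      intro P hPQ φ hφ α hα
      obtain ⟨-, g, hg, e⟩ := hφ
      refine ⟨conjHom _ ((α ⟨g, hg⟩ : Q) : Ω), ⟨?_, (α ⟨g, hg⟩ : Q), (α ⟨g, hg⟩).2, fun _ => rfl⟩, ?_⟩
      · rintro _ ⟨y, -, rfl⟩
        exact (α y).2
      · intro x hφx hαx
        show ((α ⟨g, hg⟩ : Q) : Ω) * ((α ⟨x, hPQ x.2⟩ : Q) : Ω) * ((α ⟨g, hg⟩ : Q) : Ω)⁻¹ = _
        have h1 : (⟨φ x, hφx⟩ : Q) = ⟨g, hg⟩ * ⟨x, hPQ x.2⟩ * (⟨g, hg⟩ : Q)⁻¹ :=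
          Subtype.ext (e x)
        rw [h1, map_mul, map_mul, map_inv]
        rfl
    · -- Frattini
      intro P hPQ φ hφ
      obtain ⟨g, hg, e, hgQ⟩ := hext P _ (mor_of_mem hφ)
      have hiso : Iso F Q Q g := ⟨hg.restrict le_sup_right, hgQ⟩
      refine ⟨hiso.equiv, hiso.equiv_mem_autGroup, conjHom P 1,
        ⟨hPQ, 1, Q.one_mem, fun _ => rfl⟩, fun x hx => ?_⟩
      have h1 : (conjHom P 1) x = (x : Ω) := by simp [conjHom]
      have h2 : ((hiso.equiv ⟨(conjHom P 1) x, hx⟩ : Q) : Ω) = g ((conjHom P 1) x) := rfl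
      rw [h2, h1, e x x.2, extFun_apply]
  · rintro ⟨-, -, -, hsc, -, hfrat⟩
    apply isNormal_of_stronglyClosed_of_frattini hS hF hsc
    intro P f hPQ hf
    obtain ⟨φ, hφ, e⟩ := hf
    obtain ⟨α, hα, φ₀, ⟨-, u, hu, e0⟩, e1⟩ := hfrat P hPQ φ hφ
    have hc : Iso F Q Q (fun x => u * x * u⁻¹) := by
      refine ⟨Mor.conj hQ (hQ hu), fun y => ⟨fun hy => ⟨u⁻¹ * y * u, ?_, by group⟩, ?_⟩⟩
      · exact Q.mul_mem (Q.mul_mem (Q.inv_mem hu) hy) hu
      · rintro ⟨x, hx, rfl⟩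
        exact Q.mul_mem (Q.mul_mem hu hx) (Q.inv_mem hu)
    have hα' : Iso F Q Q (extAut α) := iso_of_mor_extAut ((mem_autGroup_iff hQ).1 hα)
    refine ⟨_, hc.comp hα', fun x hx => ?_⟩
    show extAut α (u * x * u⁻¹) = f x
    have hx' : u * x * u⁻¹ ∈ Q := Q.mul_mem (Q.mul_mem hu (hPQ hx)) (Q.inv_mem hu)
    have h2 : φ₀ ⟨x, hx⟩ ∈ Q := by rw [e0]; exact hx'
    have h3 := e1 ⟨x, hx⟩ h2
    rw [extAut_mem α hx', ← e ⟨x, hx⟩, h3]
    congr 2
    exact Subtype.ext (e0 ⟨x, hx⟩).symm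

end Cfsg.Agent.S5290
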