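import Cfsg.Statements.S5291
import Cfsg.Agent.Lib.Helper87.FusionInvariant

set_option autoImplicit false
open Cfsg

namespace Cfsg.Agent.S5291

open Cfsg.Agent.Helper87 Cfsg.FusionSystem

variable {Ω : Type*} [Group Ω] {S T : Subgroup Ω}

/-- conjugates of a normal subgroup of `E` by automorphisms of `T` in `F` are normal in `E` -/
theorem isNormal_imgAut [Finite T] {E : FusionSystem T} {F : FusionSystem S} (h : E.IsInvariantIn F)
    {R : Subgroup Ω} (hR : E.IsNormal R) {α : MulAut T} (hα : α ∈ F.autGroup T) :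
    E.IsNormal (imgAut α R) := by
  obtain ⟨hRT, hext⟩ := isNormal_iff.1 hR
  have hαinv : α⁻¹ ∈ F.autGroup T := Subgroup.inv_mem _ hα
  rw [isNormal_iff]
  refine ⟨imgAut_le α R, fun P f hf => ?_⟩
  have hPT : P ≤ T := hf.le
  have hf' := invariance_fun h hPT hf hαinv
  rw [inv_inv] at hf'
  obtain ⟨g', hg', e1, e2⟩ := hext _ _ hf'
  have hsupT : imgAut α⁻¹ P ⊔ R ≤ T := sup_le (imgAut_le _ _) hRT
  have hg := invariance_fun h hsupT hg' hα
  have hle : P ⊔ imgAut α R ≤ imgAut α (imgAut α⁻¹ P ⊔ R) := by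
    apply sup_le
    · have := imgAut_mono α (le_sup_left : imgAut α⁻¹ P ≤ imgAut α⁻¹ P ⊔ R)
      rwa [imgAut_inv_imgAut α hPT] at this
    · exact imgAut_mono α le_sup_right
  refine ⟨_, hg.restrict hle, fun x hx => ?_, fun y => ?_⟩
  · show extAut α (g' (extAut α⁻¹ x)) = f x
    have hx' : extAut α⁻¹ x ∈ imgAut α⁻¹ P := (mem_imgAut hPT).2 ⟨x, hx, rfl⟩
    rw [e1 _ hx']
    show extAut α (extAut α⁻¹ (f (extAut α (extAut α⁻¹ x)))) = f x
    rw [extAut_inv_right α (hPT hx), extAut_inv_right α (hf.mem hx)]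
  · rw [mem_imgAut hRT]
    constructor
    · rintro ⟨x, hx, rfl⟩
      obtain ⟨z, hz, hzx⟩ := (e2 x).1 hx
      refine ⟨extAut α z, (mem_imgAut hRT).2 ⟨z, hz, rfl⟩, ?_⟩
      show extAut α (g' (extAut α⁻¹ (extAut α z))) = extAut α x
      rw [extAut_inv_left α (hRT hz), hzx]
    · rintro ⟨x, hx, rfl⟩
      obtain ⟨z, hz, rfl⟩ := (mem_imgAut hRT).1 hx
      refine ⟨g' z, (e2 _).2 ⟨z, hz, rfl⟩, ?_⟩
      show extAut α (g' z) = extAut α (g' (extAut α⁻¹ (extAut α z)))
      rw [extAut_inv_left α (hRT hz)]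

/-- Let F be a saturated fusion system over a finite p-group S and E a weakly normal subsystem of F over a subgroup T. Suppose a subgroup R of T is normal in E (E = N_E(R)), and let R* be the subgroup of T generated by the images of R under all maps of F with source R. Then R* is normal in F (F = N_F(R*)). -/
theorem result {Ω : Type*} [Group Ω] {S : Subgroup Ω} [Finite S] (p : ℕ) [Fact p.Prime] (hS : IsPGroup p S)
    (F : Cfsg.FusionSystem S) (hF : F.IsSaturated p)
    {T : Subgroup Ω} (E : Cfsg.FusionSystem T) (hE : E.IsWeaklyNormalIn F p)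
    (R : Subgroup Ω) (hR : E.IsNormal R) :
    F.IsNormal (Subgroup.closure {x : Ω | ∃ φ ∈ F.Hom R, ∃ r : R, x = φ r}) := by
  obtain ⟨-, -, hinv⟩ := hE
  have hsub : E.IsSubsystemOf F := hinv.1
  have hsc : F.StronglyClosed T := hinv.2.1
  have hTS : T ≤ S := hsc.1
  have hfinT : Finite T := finite_of_le hTS
  have hRT : R ≤ T := hR.1
  have hRsc : E.StronglyClosed R := stronglyClosed_of_isNormal hR
  -- R* as a join of conjugates
  set Rst : Subgroup Ω := Subgroup.closure {x : Ω | ∃ φ ∈ F.Hom R, ∃ r : R, x = φ r} with hRst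
  have hRst_eq : Rst = sSup {N | ∃ α ∈ F.autGroup T, N = imgAut α R} := by
    apply le_antisymm
    · rw [hRst, Subgroup.closure_le]
      rintro _ ⟨φ, hφ, r, rfl⟩
      obtain ⟨α, hα, f₀, hf₀, e⟩ := frattini_fun hinv hRT (mor_of_mem hφ)
      have h1 := e r r.2
      rw [extFun_apply] at h1
      have h2 : f₀ r ∈ R := (stronglyClosed_iff.1 hRsc).2 R f₀ le_rfl hf₀ r r.2
      have h3 : φ r ∈ imgAut α R := (mem_imgAut hRT).2 ⟨f₀ r, h2, h1.symm⟩
      exact (le_sSup (show imgAut α R ∈ {N | ∃ α ∈ F.autGroup T, N = imgAut α R} from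
        ⟨α, hα, rfl⟩)) h3
    · apply sSup_le
      rintro _ ⟨α, hα, rfl⟩
      intro y hy
      obtain ⟨x, hx, rfl⟩ := (mem_imgAut hRT).1 hy
      have hmor : Mor F R (extAut α) := ((mem_autGroup_iff hTS).1 hα).restrict hRT
      obtain ⟨φ, hφ, e⟩ := hmor
      exact Subgroup.subset_closure ⟨φ, hφ, ⟨x, hx⟩, (e ⟨x, hx⟩).symm⟩
  have hRstE : E.IsNormal Rst := by
    rw [hRst_eq]
    apply isNormal_sSup
    rintro _ ⟨α, hα, rfl⟩
    exact isNormal_imgAut hinv hR hα
  have hRstT : Rst ≤ T := hRstE.1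
  have hRstsc : E.StronglyClosed Rst := stronglyClosed_of_isNormal hRstE
  -- invariance of R* under automorphisms of T in F
  have hauto : ∀ α ∈ F.autGroup T, ∀ x ∈ Rst, extAut α x ∈ Rst := by
    intro α hα x hx
    have hmorT : Mor F T (extAut α) := (mem_autGroup_iff hTS).1 hα
    have key : x ∈ T ∧ extAut α x ∈ Rst := by
      rw [hRst] at hx
      induction hx using Subgroup.closure_induction with
      | mem y hy =>
        obtain ⟨φ, hφ, r, rfl⟩ := hy
        have hφT : ∀ z : R, φ z ∈ T := fun z => hsc.2 R hRT φ hφ z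
        refine ⟨hφT r, ?_⟩
        have hcomp : Mor F R (fun z => extAut α (extFun φ z)) :=
          (mor_of_mem hφ).comp hmorT (fun z hz => by rw [extFun_mem φ hz]; exact hφT _)
        obtain ⟨ψ, hψ, e⟩ := hcomp
        refine Subgroup.subset_closure ⟨ψ, hψ, r, ?_⟩
        rw [e r]
        show extAut α (φ r) = extAut α (extFun φ r)
        rw [extFun_apply]
      | one => exact ⟨T.one_mem, by rw [hmorT.map_one]; exact Subgroup.one_mem _⟩
      | mul y z _ _ hy hz =>
        exact ⟨T.mul_mem hy.1 hz.1, by rw [hmorT.map_mul hy.1 hz.1]; exact Subgroup.mul_mem _ hy.2 hz.2⟩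
      | inv y _ hy =>
        exact ⟨T.inv_mem hy.1, by rw [hmorT.map_inv hy.1]; exact Subgroup.inv_mem _ hy.2⟩
    exact key.2
  have hRstS : Rst ≤ S := hRstT.trans hTS
  -- strongly closed in F
  have hscF : F.StronglyClosed Rst := by
    rw [stronglyClosed_iff]
    refine ⟨hRstS, fun P f hP hf x hx => ?_⟩
    obtain ⟨α, hα, f₀, hf₀, e⟩ := frattini_fun hinv (hP.trans hRstT) hf
    rw [e x hx]
    exact hauto α hα _ ((stronglyClosed_iff.1 hRstsc).2 P f₀ hP hf₀ x hx)
  apply isNormal_of_stronglyClosed_of_frattini hS hF hscF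
  intro P f hP hf
  obtain ⟨α, hα, f₀, hf₀, e⟩ := frattini_fun hinv (hP.trans hRstT) hf
  obtain ⟨-, hext⟩ := isNormal_iff.1 hRstE
  obtain ⟨g₀, hg₀, e1, e2⟩ := hext P f₀ hf₀
  have hiso₀ : Iso F Rst Rst g₀ := Iso.of_subsystem hsub ⟨hg₀.restrict le_sup_right, e2⟩
  have hmorα : Mor F Rst (extAut α) := ((mem_autGroup_iff hTS).1 hα).restrict hRstT
  have hisoα : Iso F Rst Rst (extAut α) :=
    iso_of_card_le hmorα hRstS (hauto α hα) le_rfl
  refine ⟨_, hiso₀.comp hisoα, fun x hx => ?_⟩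
  show extAut α (g₀ x) = f x
  rw [e1 x hx, e x hx]

end Cfsg.Agent.S5291
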