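import Cfsg.Statements.S5294
import Cfsg.Agent.Lib.Helper87.FusionCenter

set_option autoImplicit false
universe u
open Cfsg

namespace Cfsg.Agent.S5294

open Cfsg.FusionSystem Cfsg.Agent.Helper87

/-- restriction of a group of automorphisms of `Q` to an invariant subgroup `Z ≤ Q` -/
def restrictAut {Ω : Type*} [Group Ω] {Q Z : Subgroup Ω} (hZQ : Z ≤ Q) (G : Subgroup (MulAut Q))
    (hinv : ∀ α ∈ G, ∀ z (hz : z ∈ Z), ((α ⟨z, hZQ hz⟩ : Q) : Ω) ∈ Z) : G →* MulAut Z where
  toFun α :=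
    { toFun := fun z => ⟨((α : MulAut Q) ⟨z, hZQ z.2⟩ : Q), hinv α α.2 z z.2⟩
      invFun := fun z => ⟨((α : MulAut Q)⁻¹ ⟨z, hZQ z.2⟩ : Q), hinv _ (G.inv_mem α.2) z z.2⟩
      left_inv := fun z => by apply Subtype.ext; simp
      right_inv := fun z => by apply Subtype.ext; simp
      map_mul' := fun a b => by
        apply Subtype.ext
        show (((α : MulAut Q) ⟨(a : Ω) * (b : Ω), _⟩ : Q) : Ω) = _
        have : (⟨(a : Ω) * (b : Ω), hZQ (a * b).2⟩ : Q) = ⟨a, hZQ a.2⟩ * ⟨b, hZQ b.2⟩ := rfl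
        rw [this, map_mul]; rfl }
  map_one' := by ext z; rfl
  map_mul' := fun α β => by ext z; rfl

theorem restrictAut_apply {Ω : Type*} [Group Ω] {Q Z : Subgroup Ω} (hZQ : Z ≤ Q) (G : Subgroup (MulAut Q))
    (hinv : ∀ α ∈ G, ∀ z (hz : z ∈ Z), ((α ⟨z, hZQ hz⟩ : Q) : Ω) ∈ Z) (α : G) (z : Z) :
    ((restrictAut hZQ G hinv α z : Z) : Ω) = (((α : MulAut Q) ⟨z, hZQ z.2⟩ : Q) : Ω) := rfl

/-- Let F be a saturated fusion system over a finite p-group S whose centre Z(S) lies in the largest subgroup O_p(F) normal in F. Then the centre Z(F) of F is a direct factor of Z(S): there is a subgroup K of Z(S) with Z(F) ∩ K = 1 and Z(F)K = Z(S). -/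
theorem result {Ω : Type u} [Group Ω] {S : Subgroup Ω} [Finite S] (p : ℕ) [Fact p.Prime] (hS : IsPGroup p S)
    (F : Cfsg.FusionSystem S) (hF : F.IsSaturated p) (hZ : (S ⊓ Subgroup.centralizer (S : Set Ω)) ≤ F.core) :
    ∃ K : Subgroup Ω, K ≤ (S ⊓ Subgroup.centralizer (S : Set Ω)) ∧ F.center ⊓ K = ⊥ ∧ F.center ⊔ K = (S ⊓ Subgroup.centralizer (S : Set Ω)) := by
  classical
  have hQ : F.IsNormal F.core := isNormal_core F
  have hQS : F.core ≤ S := hQ.1
  have hcl : F.StronglyClosed F.core := stronglyClosed_of_isNormal hQ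
  have hSN : S ≤ Subgroup.normalizer (F.core : Set Ω) := StronglyClosed.le_normalizer hcl
  have hfinQ : Finite F.core := finite_of_le hQS
  have hcenter : F.center = fixedBy F F.core := center_eq_fixedBy hQ hZ
  -- `O_p(F)` is fully normalized, hence fully automized
  have hfn : F.IsFullyNormalized F.core := by
    refine ⟨hQS, fun Q' _ => ?_⟩
    have : normalizerIn S F.core = S := inf_eq_left.2 hSN
    rw [this]
    exact card_normalizerIn_le Q'
  obtain ⟨-, R, hR⟩ := fullyAutomized_of_fullyNormalized hS hF hfn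
  -- the abelian group `Z(O_p(F))`
  have hZqQ : F.core ⊓ Subgroup.centralizer (F.core : Set Ω) ≤ F.core := inf_le_left
  let instC : CommGroup ↥(F.core ⊓ Subgroup.centralizer (F.core : Set Ω)) :=
    { (inferInstance : Group ↥(F.core ⊓ Subgroup.centralizer (F.core : Set Ω))) with
      mul_comm := fun a b => Subtype.ext (Subgroup.mem_centralizer_iff.1 b.2.2 a a.2.1) }
  have hfinZq : Finite ↥(F.core ⊓ Subgroup.centralizer (F.core : Set Ω)) :=
    finite_of_le (hZqQ.trans hQS)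
  have hpZq : IsPGroup p ↥(F.core ⊓ Subgroup.centralizer (F.core : Set Ω)) :=
    hS.to_le (hZqQ.trans hQS)
  have hinv : ∀ α ∈ F.autGroup F.core, ∀ z (hz : z ∈ F.core ⊓ Subgroup.centralizer (F.core : Set Ω)),
      ((α ⟨z, hZqQ hz⟩ : F.core) : Ω) ∈ F.core ⊓ Subgroup.centralizer (F.core : Set Ω) := by
    intro α _ z hz
    refine ⟨(α ⟨z, hZqQ hz⟩).2, ?_⟩
    show ((α ⟨z, hZqQ hz⟩ : F.core) : Ω) ∈ Subgroup.centralizer (F.core : Set Ω)
    rw [Subgroup.mem_centralizer_iff]
    intro h hh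
    obtain ⟨h', rfl⟩ : ∃ h' : F.core, ((α h' : F.core) : Ω) = h := by
      obtain ⟨h', e⟩ := α.surjective ⟨h, hh⟩
      exact ⟨h', congrArg Subtype.val e⟩
    have hcomm : h' * ⟨z, hZqQ hz⟩ = ⟨z, hZqQ hz⟩ * h' :=
      Subtype.ext (Subgroup.mem_centralizer_iff.1 hz.2 h' h'.2)
    have := congrArg (fun x : F.core => ((α x : F.core) : Ω)) hcomm
    simpa using this
  have hfinG : Finite (F.autGroup F.core) := inferInstance
  have hindex : ((autInducedBy S F.core).subgroupOf (F.autGroup F.core)).index.Coprime p := by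
    rw [← hR]
    have hnd := R.not_dvd_index
    exact ((Nat.Prime.coprime_iff_not_dvd Fact.out).2 hnd).symm
  obtain ⟨K, hK1, hK2, hK3⟩ := exists_compl_fixedPoints hpZq
    (restrictAut hZqQ (F.autGroup F.core) hinv)
    ((autInducedBy S F.core).subgroupOf (F.autGroup F.core)) hindex
  -- elements of `Z(O_p(F))` fixed by `Aut_S` are central in `S`
  have hfixT : ∀ a : ↥(F.core ⊓ Subgroup.centralizer (F.core : Set Ω)),
      (∀ t ∈ (autInducedBy S F.core).subgroupOf (F.autGroup F.core),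
        restrictAut hZqQ (F.autGroup F.core) hinv t a = a) →
      (a : Ω) ∈ S ⊓ Subgroup.centralizer (S : Set Ω) := by
    intro a ha
    refine ⟨hQS a.2.1, ?_⟩
    show (a : Ω) ∈ Subgroup.centralizer (S : Set Ω)
    rw [Subgroup.mem_centralizer_iff]
    intro s hs
    have hsN := hSN hs
    have hmemS : conjAut F.core s hsN ∈ autInducedBy S F.core := conjAut_mem_autInducedBy hs hsN
    have hmemA : conjAut F.core s hsN ∈ F.autGroup F.core :=
      autInducedBy_le_autGroup F hQS hmemS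
    have h1 := ha ⟨_, hmemA⟩ (Subgroup.mem_subgroupOf.2 hmemS)
    have h2 := congrArg (fun x : ↥(F.core ⊓ Subgroup.centralizer (F.core : Set Ω)) => (x : Ω)) h1
    have h3 : s * (a : Ω) * s⁻¹ = a := h2
    calc s * (a : Ω) = (s * a * s⁻¹) * s := by group
      _ = a * s := by rw [h3]
  -- elements fixed by all of `Aut_F(O_p(F))` are in `Z(F)`
  have hfixG : ∀ a : ↥(F.core ⊓ Subgroup.centralizer (F.core : Set Ω)),
      (∀ g, restrictAut hZqQ (F.autGroup F.core) hinv g a = a) → (a : Ω) ∈ F.center := by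
    intro a ha
    rw [hcenter]
    refine ⟨a.2.1, fun f hf => ?_⟩
    have hiso : Iso F F.core F.core f :=
      iso_of_card_le hf hQS (fun n hn => (stronglyClosed_iff.1 hcl).2 _ f le_rfl hf n hn) le_rfl
    have h1 := ha ⟨hiso.equiv, hiso.equiv_mem_autGroup⟩
    have h2 := congrArg (fun x : ↥(F.core ⊓ Subgroup.centralizer (F.core : Set Ω)) => (x : Ω)) h1
    exact h2
  have hcenterfix : ∀ z (hz : z ∈ F.center),
      ∃ hz' : z ∈ F.core ⊓ Subgroup.centralizer (F.core : Set Ω),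
        ∀ g, restrictAut hZqQ (F.autGroup F.core) hinv g ⟨z, hz'⟩ = ⟨z, hz'⟩ := by
    intro z hz
    rw [hcenter] at hz
    have hzZ := fixedBy_le_center_sylow hQS hz
    have hz' : z ∈ F.core ⊓ Subgroup.centralizer (F.core : Set Ω) := by
      refine ⟨hz.1, ?_⟩
      show z ∈ Subgroup.centralizer (F.core : Set Ω)
      rw [Subgroup.mem_centralizer_iff]
      intro h hh
      exact Subgroup.mem_centralizer_iff.1 hzZ.2 h (hQS hh)
    refine ⟨hz', fun g => ?_⟩
    apply Subtype.ext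
    show (((g : MulAut F.core) ⟨z, hz.1⟩ : F.core) : Ω) = z
    have hmor : Mor F F.core (extAut (g : MulAut F.core)) := (mem_autGroup_iff hQS).1 g.2
    have := hz.2 _ hmor
    rwa [extAut_mem _ hz.1] at this
  have hZle : ∀ z, z ∈ S ⊓ Subgroup.centralizer (S : Set Ω) →
      z ∈ F.core ⊓ Subgroup.centralizer (F.core : Set Ω) := by
    intro z hz
    refine ⟨hZ hz, ?_⟩
    show z ∈ Subgroup.centralizer (F.core : Set Ω)
    rw [Subgroup.mem_centralizer_iff]
    intro h hh
    exact Subgroup.mem_centralizer_iff.1 hz.2 h (hQS hh)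
  refine ⟨K.map (Subgroup.subtype _), ?_, ?_, ?_⟩
  · rintro _ ⟨k, hk, rfl⟩
    exact hfixT k (hK1 k hk)
  · rw [eq_bot_iff]
    rintro z ⟨hzc, ⟨k, hk, rfl⟩⟩
    obtain ⟨hz', hfix⟩ := hcenterfix _ hzc
    have := hK2 k hfix hk
    rw [Subgroup.mem_bot]
    rw [this]; rfl
  · apply le_antisymm
    · apply sup_le
      · rw [hcenter]; exact fixedBy_le_center_sylow hQS
      · rintro _ ⟨k, hk, rfl⟩
        exact hfixT k (hK1 k hk)
    · intro z hz
      have hz' := hZle z hz
      have hTfix : ∀ t ∈ (autInducedBy S F.core).subgroupOf (F.autGroup F.core),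
          restrictAut hZqQ (F.autGroup F.core) hinv t ⟨z, hz'⟩ = ⟨z, hz'⟩ := by
        intro t ht
        obtain ⟨s, hs, e⟩ := mem_autInducedBy_iff.1 (Subgroup.mem_subgroupOf.1 ht)
        apply Subtype.ext
        show (((t : MulAut F.core) ⟨z, hz'.1⟩ : F.core) : Ω) = z
        rw [e]
        have := Subgroup.mem_centralizer_iff.1 hz.2 s hs
        show s * z * s⁻¹ = z
        rw [this]; group
      obtain ⟨c, k, hc, hk, e⟩ := hK3 ⟨z, hz'⟩ hTfix
      have e' : z = (c : Ω) * (k : Ω) := congrArg Subtype.val e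
      rw [e']
      exact Subgroup.mul_mem_sup (hfixG c hc) ⟨k, hk, rfl⟩

end Cfsg.Agent.S5294
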