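import Cfsg.Statements.S5295
import Cfsg.Agent.S5196
import Cfsg.Agent.S5294
import Cfsg.Agent.S5096
import Cfsg.Agent.S1985
import Cfsg.Agent.Lib.Helper84.FusNorm
import Cfsg.Agent.Lib.Helper85.NormalizerSys

set_option autoImplicit false
universe u
open Cfsg

namespace Cfsg.Agent.S5295

open Cfsg.FusionSystem Cfsg.Agent.Helper87 Cfsg.Agent.Helper87.GlaubFunctor
  Cfsg.Agent.Helper87.CenFunctor

/-- The local centre condition for the lower `K`-infinity functor at an odd prime: in a finite group `G`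
with Sylow `p`-subgroup `P`, `O_p(G) ∩ Z(G) = O_p(G) ∩ Z(N_G(K_∞(P)))`. This is the group-level theorem
"`K_∞` controls weak closure of elements" (S1985) applied to the elements of `O_p(G)`. -/
theorem kInf_local_center {p : ℕ} [Fact p.Prime] (hp : p ≠ 2) (G : Type u) [Group G] [Finite G]
    (P : Sylow p G) :
    Cfsg.pCore p G ⊓ Subgroup.center G = Cfsg.pCore p G ⊓
      (Subgroup.center ↥(Subgroup.normalizer
        (((Cfsg.kInfLower ↥(P : Subgroup G)).map (P : Subgroup G).subtype : Subgroup G) : Set G))).map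
        (Subgroup.normalizer
          (((Cfsg.kInfLower ↥(P : Subgroup G)).map (P : Subgroup G).subtype : Subgroup G) :
            Set G)).subtype := by
  classical
  obtain ⟨-, T, -, hTp, hTidx, hT⟩ := Cfsg.Agent.S1985.result (G := G) (p := p) hp
  have hTsyl : Cfsg.Agent.Helper33.IsSylIn p T ⊤ := ⟨le_top, hTp, hTidx⟩
  obtain ⟨g, -, hg⟩ := hTsyl.exists_conj_eq (Cfsg.Agent.Helper33.isSylIn_top P)
  have hconj := (Cfsg.Agent.Helper33.isConjugacyFunctor_indF (p := p)
    Cfsg.Agent.Helper33.isCharPFunctor_kInfLower G (P : Subgroup G) P.isPGroup').2.2 g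
  have hPT : (P : Subgroup G).map (MulAut.conj g).toMonoidHom = T := by
    rw [← hg]; rfl
  rw [hPT] at hconj
  have hON : (Cfsg.pCore p G).Normal := Cfsg.Agent.Helper33.pCore_normal p
  have hOP : Cfsg.pCore p G ≤ (P : Subgroup G) := Cfsg.Agent.Helper33.pCore_le_sylow P
  have hOT : Cfsg.pCore p G ≤ T := by
    intro z hz
    rw [← hPT]
    refine ⟨g⁻¹ * z * g, hOP ?_, ?_⟩
    · have := hON.conj_mem z hz g⁻¹
      simpa using this
    · simp [MulAut.conj_apply, mul_assoc]
  apply le_antisymm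
  · rintro x ⟨hxO, hxZ⟩
    have hxN : x ∈ Subgroup.normalizer
        (((Cfsg.kInfLower ↥(P : Subgroup G)).map (P : Subgroup G).subtype : Subgroup G) : Set G) :=
      Subgroup.center_le_normalizer _ hxZ
    refine ⟨hxO, ⟨x, hxN⟩, Subgroup.mem_center_iff.2 ?_, rfl⟩
    intro y
    exact Subtype.ext (Subgroup.mem_center_iff.1 hxZ (y : G))
  · rintro x ⟨hxO, n, hn, rfl⟩
    have hncomm : ∀ y : G, y ∈ Subgroup.normalizer
        (((Cfsg.kInfLower ↥(P : Subgroup G)).map (P : Subgroup G).subtype : Subgroup G) : Set G) →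
        y * (n : G) = (n : G) * y := by
      intro y hy
      exact congrArg Subtype.val (Subgroup.mem_center_iff.1 hn ⟨y, hy⟩)
    have hxO' : (n : G) ∈ Cfsg.pCore p G := hxO
    have hx'O : g * (n : G) * g⁻¹ ∈ Cfsg.pCore p G := hON.conj_mem _ hxO' g
    have hx'T : g * (n : G) * g⁻¹ ∈ T := hOT hx'O
    have hx'C : g * (n : G) * g⁻¹ ∈ Subgroup.centralizer
        (((⊤ : Subgroup G) ⊓ Subgroup.normalizer
          ((Cfsg.inducedFunctor Cfsg.kInfLower T : Subgroup G) : Set G) : Subgroup G) : Set G) := by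
      rw [Subgroup.mem_centralizer_iff]
      intro y hy
      have hyN : y ∈ Subgroup.normalizer
          ((Cfsg.inducedFunctor Cfsg.kInfLower T : Subgroup G) : Set G) := hy.2
      rw [hconj, ← Subgroup.map_equiv_normalizer_eq, Subgroup.mem_map_equiv] at hyN
      have h1 := hncomm _ hyN
      rw [MulAut.conj_symm_apply] at h1
      have h2 := congrArg (fun t => g * t * g⁻¹) h1
      simpa [mul_assoc] using h2
    have hfix : ∀ h : G, h * (g * (n : G) * g⁻¹) * h⁻¹ = g * (n : G) * g⁻¹ := by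
      intro h
      exact hT _ ⟨hx'T, hx'C⟩ h (Subgroup.mem_top h) (hOT (hON.conj_mem _ hx'O h))
    have hx'cen : g * (n : G) * g⁻¹ ∈ Subgroup.center G := by
      rw [Subgroup.mem_center_iff]
      intro h
      have := hfix h
      rw [mul_inv_eq_iff_eq_mul] at this
      exact this
    refine ⟨hxO, ?_⟩
    show (n : G) ∈ Subgroup.center G
    have h3 : g⁻¹ * (g * (n : G) * g⁻¹) * g⁻¹⁻¹ ∈ Subgroup.center G :=
      (inferInstance : (Subgroup.center G).Normal).conj_mem _ hx'cen g⁻¹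
    have e : g⁻¹ * (g * (n : G) * g⁻¹) * g⁻¹⁻¹ = (n : G) := by group
    rw [e] at h3
    exact h3

/-- Let F be a saturated fusion system over a finite p-group S with p odd. Then the centre Z(F) of F is a direct factor of Z(S): there is a subgroup K of Z(S) with Z(F) ∩ K = 1 and Z(F)K = Z(S). (At the prime 2 this can fail.) -/
theorem result {Ω : Type u} [Group Ω] {S : Subgroup Ω} [Finite S] (p : ℕ) [Fact p.Prime] (hp : p ≠ 2) (hS : IsPGroup p S)
    (F : Cfsg.FusionSystem S) (hF : F.IsSaturated p) :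
    ∃ K : Subgroup Ω, K ≤ (S ⊓ Subgroup.centralizer (S : Set Ω)) ∧ F.center ⊓ K = ⊥ ∧ F.center ⊔ K = (S ⊓ Subgroup.centralizer (S : Set Ω)) := by
  classical
  have hchar := Cfsg.Agent.Helper33.isCharPFunctor_kInfLower.{u} (p := p)
  have hpos : IsPos p Cfsg.kInfLower := ⟨hchar.1, hchar.2⟩
  have hXS : WW Cfsg.kInfLower S ≤ S := WW_le Cfsg.kInfLower S
  have hNS : normalizerIn S (WW Cfsg.kInfLower S) = S := pos_normalizerIn_top hpos hS
  obtain ⟨N, hN⟩ := Cfsg.Agent.S5096.result F (WW Cfsg.kInfLower S) hXS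
  have hcen : N.center = F.center :=
    Cfsg.Agent.S5196.center_eq hpos (kInf_local_center hp) hS F hF N hN
  have hfn : F.IsFullyNormalized (WW Cfsg.kInfLower S) := by
    refine ⟨hXS, fun Q' _ => ?_⟩
    rw [hNS]
    exact card_normalizerIn_le Q'
  have hNsat : N.IsSaturated p :=
    Cfsg.Agent.Helper84.normalizerSystem_saturated F hS hF hfn N hN
  have hXnorm : N.IsNormal (WW Cfsg.kInfLower S) :=
    Cfsg.Agent.Helper85.normalizerSystem_isNormal hXS hN
  haveI : Finite ↥(normalizerIn S (WW Cfsg.kInfLower S)) :=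
    finite_of_le (inf_le_left : normalizerIn S (WW Cfsg.kInfLower S) ≤ S)
  have hT : IsPGroup p ↥(normalizerIn S (WW Cfsg.kInfLower S)) :=
    hS.to_le (inf_le_left : normalizerIn S (WW Cfsg.kInfLower S) ≤ S)
  have hZ : normalizerIn S (WW Cfsg.kInfLower S) ⊓
      Subgroup.centralizer ((normalizerIn S (WW Cfsg.kInfLower S) : Subgroup Ω) : Set Ω) ≤ N.core := by
    intro z hz
    have hzS : z ∈ S := hz.1.1
    have hzX : z ∈ WW Cfsg.kInfLower S := by
      rw [mem_WW]
      refine ⟨hzS, Cfsg.Agent.Helper33.center_le_kInfLower _ ?_⟩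
      rw [Subgroup.mem_center_iff]
      intro s
      apply Subtype.ext
      exact Subgroup.mem_centralizer_iff.1 hz.2 (s : Ω) (hNS.ge s.2)
    exact (le_sSup (show WW Cfsg.kInfLower S ∈ {Q : Subgroup Ω | N.IsNormal Q} from hXnorm)) hzX
  obtain ⟨K, hK1, hK2, hK3⟩ := Cfsg.Agent.S5294.result p hT N hNsat hZ
  rw [hcen] at hK2 hK3
  rw [hNS] at hK1 hK3
  exact ⟨K, hK1, hK2, hK3⟩

end Cfsg.Agent.S5295
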