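import Cfsg.Statements.S5297
import Cfsg.Agent.S5124
import Cfsg.Agent.Lib.Helper87.SmallExp
import Cfsg.Agent.Lib.Helper87.FusionNormal
import Cfsg.Agent.Lib.Helper87.FusionNormalCrit
import Cfsg.Agent.Lib.Helper87.FusionAlperin

set_option autoImplicit false
universe u
open Cfsg

namespace Cfsg.Agent.S5297

open Cfsg.FusionSystem Cfsg.Agent.Helper87

theorem orderOf_cases {G : Type*} [Group G] {p : ℕ} [hp : Fact p.Prime] {x : G} (hx1 : x ≠ 1)
    (hx : x ^ SmallExp.sq p = 1) : orderOf x = p ∨ orderOf x = 4 := by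
  have hdvd : orderOf x ∣ SmallExp.sq p := orderOf_dvd_of_pow_eq_one hx
  have hne : orderOf x ≠ 1 := fun h => hx1 (orderOf_eq_one_iff.1 h)
  unfold SmallExp.sq at hdvd
  split_ifs at hdvd with h2
  · subst h2
    have hle : orderOf x ≤ 4 := Nat.le_of_dvd (by norm_num) hdvd
    have hpos : 0 < orderOf x := Nat.pos_of_dvd_of_pos hdvd (by norm_num)
    interval_cases h : orderOf x
    · exact absurd rfl hne
    · left; rfl
    · norm_num at hdvd
    · right; rfl
  · left
    exact ((Nat.dvd_prime hp.out).1 hdvd).resolve_left hne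

/-- Let F be a saturated fusion system over a finite p-group S. If every map of F between cyclic subgroups of the hyperfocal subgroup of F of order p or 4 is a map of the normalizer system of S (it extends to a map of F defined on all of S), then S is normal in F. -/
theorem result {Ω : Type u} [Group Ω] {S : Subgroup Ω} [Finite S] (p : ℕ) [Fact p.Prime] (hS : IsPGroup p S)
    (F : Cfsg.FusionSystem S) (hF : F.IsSaturated p)
    (h : ∀ A B : Subgroup Ω, A ≤ (F.hyperfocalSubgroup p) → B ≤ (F.hyperfocalSubgroup p) → IsCyclic ↥A → (Nat.card ↥A = p ∨ Nat.card ↥A = 4) → IsCyclic ↥B → (Nat.card ↥B = p ∨ Nat.card ↥B = 4) →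
      F.homSet A B ⊆ F.normalizerHom S A) :
    F.IsNormal S := by
  classical
  apply isNormal_top_of_centric_radical_eq hS hF
  intro R hfn hcen hrad
  apply eq_top_of_autInducedBy_le_inn hS hcen
  have hRS : R ≤ S := hcen.1
  have hfinR : Finite R := finite_of_le hRS
  have hRp : IsPGroup p R := hS.to_le hRS
  have hsc : F.StronglyClosed (F.hyperfocalSubgroup p) := Cfsg.Agent.S5124.result p hS F hF
  have hnil : Group.IsNilpotent S := hS.isNilpotent
  have key : ∃ N : Subgroup (MulAut R), N ≤ F.autGroup R ∧ autInducedBy S R ≤ N ∧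
      (∀ a ∈ F.autGroup R, ∀ g ∈ N, a * g * a⁻¹ ∈ N) ∧ IsPGroup p N := by
    refine SmallExp.exists_normal_pgroup hRp (F.autGroup R)
      (autInducedBy S R) (autInducedBy_le_autGroup F hRS)
      ((F.hyperfocalSubgroup p).subgroupOf R) ?hR ?hRb
      (fun i => ((Subgroup.upperCentralSeries S i).map S.subtype).subgroupOf R) ?hZ0
      (Group.nilpotencyClass S) ?hZn ?hZT ?hZA
    case hR =>
      intro a ha x hx
      rw [Subgroup.mem_subgroupOf] at hx ⊢
      exact aut_mem_of_stronglyClosed hsc hRS ha hx
    case hRb =>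
      intro b hb hbp x
      rw [Subgroup.mem_subgroupOf]
      apply Subgroup.subset_closure
      refine ⟨R, ⟨b, hb⟩, x, hRS, ?_, rfl⟩
      apply Subgroup.subset_closure
      show Nat.Coprime (orderOf (⟨b, hb⟩ : F.autGroup R)) p
      rw [Subgroup.orderOf_mk]
      exact hbp
    case hZ0 =>
      show ((Subgroup.upperCentralSeries S 0).map S.subtype).subgroupOf R = ⊥
      rw [Subgroup.upperCentralSeries_zero, Subgroup.map_bot, Subgroup.bot_subgroupOf]
    case hZn =>
      show ((Subgroup.upperCentralSeries S (Group.nilpotencyClass S)).map S.subtype).subgroupOf R = ⊤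
      rw [Subgroup.upperCentralSeries_nilpotencyClass, ← MonoidHom.range_eq_map, Subgroup.range_subtype,
        Subgroup.subgroupOf_eq_top]
      exact hRS
    case hZT =>
      intro t ht i x hx
      obtain ⟨s, hs, -, e⟩ := mem_autInducedBy_iff'.1 ht
      rw [Subgroup.mem_subgroupOf] at hx ⊢
      obtain ⟨z, hz, hzx⟩ := hx
      have h1 := (Subgroup.mem_upperCentralSeries_succ_iff.1
        ((Subgroup.upperCentralSeries S (i + 1)).inv_mem hz)) ⟨s, hs⟩
      refine ⟨_, h1, ?_⟩
      have hzx' : (z : Ω) = (x : Ω) := hzx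
      rw [commutatorElement_def]
      simp only [Subgroup.subtype_apply, Subgroup.coe_mul, Subgroup.coe_inv, inv_inv, e, hzx',
        mul_assoc]
    case hZA =>
      intro a ha x hx hxq i hxi
      by_cases hx1 : x = 1
      · rw [hx1, map_one]; exact Subgroup.one_mem _
      rw [Subgroup.mem_subgroupOf] at hx hxi ⊢
      have hax : ((a x : R) : Ω) ∈ F.hyperfocalSubgroup p :=
        aut_mem_of_stronglyClosed hsc hRS ha hx
      have hxΩ1 : (x : Ω) ≠ 1 := fun h0 => hx1 (Subtype.ext h0)
      have hxΩq : (x : Ω) ^ SmallExp.sq p = 1 := by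
        have := congrArg Subtype.val hxq
        simpa using this
      have hord := orderOf_cases hxΩ1 hxΩq
      have hord' : orderOf ((a x : R) : Ω) = orderOf (x : Ω) := by
        rw [Subgroup.orderOf_coe, Subgroup.orderOf_coe]
        exact MulEquiv.orderOf_eq a x
      have hmor : Mor F R (extAut a) := (mem_autGroup_iff hRS).1 ha
      have hA'R : Subgroup.zpowers (x : Ω) ≤ R := Subgroup.zpowers_le.2 x.2
      obtain ⟨φ, hφ, hφe⟩ := hmor.restrict hA'R
      have hφset : φ ∈ F.homSet (Subgroup.zpowers (x : Ω)) (Subgroup.zpowers ((a x : R) : Ω)) := by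
        refine ⟨hφ, fun y => ?_⟩
        obtain ⟨k, hk⟩ := Subgroup.mem_zpowers_iff.1 y.2
        rw [hφe y, ← hk]
        have : ((x : Ω) ^ k) = ((x ^ k : R) : Ω) := by simp
        rw [this, extAut_apply, map_zpow]
        rw [Subgroup.coe_zpow]
        exact Subgroup.zpow_mem_zpowers _ k
      have hnh := h (Subgroup.zpowers (x : Ω)) (Subgroup.zpowers ((a x : R) : Ω))
        (Subgroup.zpowers_le.2 hx) (Subgroup.zpowers_le.2 hax) inferInstance
        (by rw [Nat.card_zpowers]; exact hord) inferInstance
        (by rw [Nat.card_zpowers, hord']; exact hord) hφset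
      obtain ⟨-, -, -, ψ, hψ, hext, -⟩ := hnh
      have hg : Mor F S (extFun ψ) := (mor_of_mem hψ).restrict le_sup_right
      have hiso : Iso F S S (extFun ψ) :=
        iso_of_card_le hg le_rfl (fun n hn => hg.mem hn) le_rfl
      have hgx : extFun ψ (x : Ω) = ((a x : R) : Ω) := by
        have hxmem : (x : Ω) ∈ Subgroup.zpowers (x : Ω) := Subgroup.mem_zpowers _
        rw [extFun_mem ψ ((le_sup_left : Subgroup.zpowers (x : Ω) ≤ _) hxmem)]
        have := hext ⟨(x : Ω), hxmem⟩
        rw [hφe] at this
        rw [← extAut_apply a x]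
        exact this
      obtain ⟨z, hz, hzx⟩ := hxi
      have hchar : (Subgroup.upperCentralSeries S i).map hiso.equiv.toMonoidHom = Subgroup.upperCentralSeries S i :=
        Subgroup.characteristic_iff_map_eq.1 inferInstance hiso.equiv
      have hez : hiso.equiv z ∈ Subgroup.upperCentralSeries S i := by
        rw [← hchar]
        exact ⟨z, hz, rfl⟩
      refine ⟨hiso.equiv z, hez, ?_⟩
      show ((hiso.equiv z : S) : Ω) = _
      rw [hiso.equiv_apply]
      have hzx' : (z : Ω) = (x : Ω) := hzx
      rw [hzx', hgx]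
  obtain ⟨N, hNA, hTN, hNconj, hNp⟩ := key
  · intro t ht
    have hn : (N.subgroupOf (F.autGroup R)).Normal := by
      constructor
      intro g hg a
      rw [Subgroup.mem_subgroupOf] at hg ⊢
      exact hNconj a a.2 g hg
    have hle := le_pCore hn (hNp.comap_subtype (K := F.autGroup R))
    rw [← hrad.2]
    exact ⟨⟨t, hNA (hTN ht)⟩, hle (Subgroup.mem_subgroupOf.2 (hTN ht)), rfl⟩

end Cfsg.Agent.S5297
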