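import Cfsg.Statements.S5298
import Cfsg.Agent.Lib.Helper87.FusionPAut

set_option autoImplicit false
universe u
open Cfsg

namespace Cfsg.Agent.S5298

open Cfsg.FusionSystem Cfsg.Agent.Helper87
open scoped commutatorElement

theorem card_zpowers_of_pow_omegaExp {p : ℕ} [hp : Fact p.Prime] {Ω : Type*} [Group Ω] {x : Ω}
    (hx : x ^ omegaExp p = 1) (hne : x ≠ 1) :
    Nat.card (Subgroup.zpowers x) = p ∨ Nat.card (Subgroup.zpowers x) = 4 := by
  rw [Nat.card_zpowers]
  by_cases hp2 : p = 2
  · subst hp2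
    rw [omegaExp_two] at hx
    have hd : orderOf x ∣ 2 ^ 2 := orderOf_dvd_of_pow_eq_one hx
    obtain ⟨j, hj, e⟩ := (Nat.dvd_prime_pow Nat.prime_two).1 hd
    interval_cases j
    · exfalso; exact hne (orderOf_eq_one_iff.1 (by simpa using e))
    · left; simpa using e
    · right; simpa using e
  · rw [omegaExp_odd hp2] at hx
    rcases (Nat.dvd_prime hp.out).1 (orderOf_dvd_of_pow_eq_one hx) with h1 | h1
    · exact absurd (orderOf_eq_one_iff.1 h1) hne
    · left; exact h1

theorem le_of_gens {p : ℕ} [Fact p.Prime] {Ω : Type*} [Group Ω] {R : Subgroup Ω} {β : MulAut R} {m : ℕ}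
    (hmin : MinAct p β ⊤ m) (W : Subgroup Ω)
    (hW : ∀ x : R, (x : Ω)⁻¹ * ((β x : R) : Ω) ∈ W) : R ≤ W := by
  intro z hz
  have hmem : (⟨z, hz⟩ : R) ∈
      Subgroup.closure {y : R | ∃ x ∈ (⊤ : Subgroup R), y = x⁻¹ * β x} := by
    rw [hmin.closure_eq]; trivial
  have key : ∀ w : R, w ∈ Subgroup.closure {y : R | ∃ x ∈ (⊤ : Subgroup R), y = x⁻¹ * β x} →
      (w : Ω) ∈ W := by
    intro w hw
    induction hw using Subgroup.closure_induction with
    | mem y hy =>
      obtain ⟨x, -, rfl⟩ := hy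
      simpa using hW x
    | one => exact W.one_mem
    | mul a b _ _ ha hb => exact W.mul_mem ha hb
    | inv a _ ha => exact W.inv_mem ha
  exact key _ hmem

/-- Let F be a saturated fusion system over a finite p-group S. If every map of F between cyclic subgroups of the hyperfocal subgroup of F of order p or 4 is conjugation by an element of S, then F is the inner fusion system of S. -/
theorem result {Ω : Type u} [Group Ω] {S : Subgroup Ω} [Finite S] (p : ℕ) [Fact p.Prime] (hS : IsPGroup p S)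
    (F : Cfsg.FusionSystem S) (hF : F.IsSaturated p)
    (h : ∀ A B : Subgroup Ω, A ≤ (F.hyperfocalSubgroup p) → B ≤ (F.hyperfocalSubgroup p) → IsCyclic ↥A → (Nat.card ↥A = p ∨ Nat.card ↥A = 4) → IsCyclic ↥B → (Nat.card ↥B = p ∨ Nat.card ↥B = 4) →
      F.homSet A B ⊆ (Cfsg.innerFusionSystem S).Hom A) :
    ∀ P : Subgroup Ω, F.Hom P = (Cfsg.innerFusionSystem S).Hom P := by
  classical
  apply eq_inner_of_isPGroup_autGroup hS hF
  intro R₀ hfn
  apply isPGroup_autGroup_of_no_minAct hS F _ R₀ hfn.1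
  intro R hRS β hβ m hm hmin
  have hfinR : Finite R := finite_of_le hRS
  have hmor : Mor F R (extAut β) := (mem_autGroup_iff hRS).1 hβ
  have hβm : β ^ m = 1 := by
    ext x; rw [hmin.pow x trivial]; rfl
  -- R lies in the hyperfocal subgroup
  have hgen : ∀ x : R, (x : Ω)⁻¹ * ((β x : R) : Ω) ∈ F.hyperfocalSubgroup p := by
    intro x
    apply Subgroup.subset_closure
    refine ⟨R, ⟨β, hβ⟩, x, hRS, ?_, rfl⟩
    apply Subgroup.subset_closure
    show Nat.Coprime (orderOf (⟨β, hβ⟩ : F.autGroup R)) p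
    have hord : orderOf (⟨β, hβ⟩ : F.autGroup R) = orderOf β := (Subgroup.orderOf_coe _).symm
    rw [hord]
    exact hm.coprime_dvd_left (orderOf_dvd_of_pow_eq_one hβm)
  have hRhyp : R ≤ F.hyperfocalSubgroup p := le_of_gens hmin _ hgen
  have hexp : ∀ x : R, (x : Ω) ^ omegaExp p = 1 := by
    intro x
    have := congrArg Subtype.val (hmin.pow_eq_one x trivial)
    simpa using this
  -- the automorphism acts on every element as conjugation by an element of `S`
  have hconj : ∀ x : R, ∃ g ∈ S, ((β x : R) : Ω) = g * (x : Ω) * g⁻¹ := by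
    intro x
    by_cases hx1 : x = 1
    · exact ⟨1, S.one_mem, by rw [hx1, map_one]; simp⟩
    have hxne : (x : Ω) ≠ 1 := fun h => hx1 (Subtype.ext h)
    have hβxne : ((β x : R) : Ω) ≠ 1 := by
      intro h
      have h1 : β x = 1 := Subtype.ext h
      exact hx1 ((map_eq_one_iff β β.injective).1 h1)
    have hAR : Subgroup.zpowers (x : Ω) ≤ R := (Subgroup.zpowers_le).2 x.2
    have hBR : Subgroup.zpowers ((β x : R) : Ω) ≤ R := (Subgroup.zpowers_le).2 (β x).2
    obtain ⟨φ, hφ, eφ⟩ := hmor.restrict hAR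
    have hφB : ∀ a : Subgroup.zpowers (x : Ω), φ a ∈ Subgroup.zpowers ((β x : R) : Ω) := by
      intro a
      obtain ⟨k, hk⟩ := Subgroup.mem_zpowers_iff.1 a.2
      rw [eφ a, ← hk]
      have h1 : ((x ^ k : R) : Ω) = (x : Ω) ^ k := by simp
      have h2 : extAut β ((x : Ω) ^ k) = ((β x : R) : Ω) ^ k := by
        rw [← h1, extAut_apply, map_zpow]; simp
      rw [h2]
      exact Subgroup.zpow_mem_zpowers _ k
    have hin := h _ _ (hAR.trans hRhyp) (hBR.trans hRhyp) inferInstance
      (card_zpowers_of_pow_omegaExp (hexp x) hxne) inferInstance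
      (card_zpowers_of_pow_omegaExp (hexp (β x)) hβxne) ⟨hφ, hφB⟩
    obtain ⟨-, g, hg, e⟩ := hin
    refine ⟨g, hg, ?_⟩
    have h3 := e ⟨(x : Ω), Subgroup.mem_zpowers _⟩
    rw [eφ] at h3
    rw [← h3]
    exact (extAut_apply β x).symm
  -- descend along the lower central series of `S`
  have hlcs : ∀ i : ℕ, R ≤ S.lowerCentralSeries i := by
    intro i
    induction i with
    | zero => exact hRS
    | succ i ih =>
      apply le_of_gens hmin
      intro x
      obtain ⟨g, hg, e⟩ := hconj x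
      rw [Subgroup.lowerCentralSeries_succ, e]
      have h1 := Subgroup.commutator_mem_commutator (ih (R.inv_mem x.2)) hg
      have e2 : (x : Ω)⁻¹ * (g * (x : Ω) * g⁻¹) = ⁅(x : Ω)⁻¹, g⁆ := by
        rw [commutatorElement_def]; group
      rw [e2]; exact h1
  obtain ⟨n, hn⟩ := (Subgroup.isNilpotent_iff_lowerCentralSeries S).1 hS.isNilpotent
  have hbot : R ≤ ⊥ := by
    have := hlcs n
    rwa [hn] at this
  apply hmin.nontriv
  intro x _
  have hx1 : x = 1 := Subtype.ext (by simpa using hbot x.2)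
  rw [hx1, map_one]

end Cfsg.Agent.S5298
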