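import Cfsg.Statements.S5300
import Cfsg.Agent.Lib.Helper87.FusionOmega

set_option autoImplicit false
open Cfsg

universe u

namespace Cfsg.Agent.S5300

open Cfsg.FusionSystem Cfsg.Agent.Helper87

/-- Let F be a saturated fusion system over a finite p-group S. If every cyclic subgroup of the focal subgroup of F of order p (of order 2 or 4 when p = 2) is normal in S, then S is normal in F. -/
theorem result {Ω : Type u} [Group Ω] {S : Subgroup Ω} [Finite S] (p : ℕ) [Fact p.Prime] (hS : IsPGroup p S)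
    (F : Cfsg.FusionSystem S) (hF : F.IsSaturated p)
    (hnorm : ∀ x ∈ F.focalSubgroup, (x ^ p = 1 ∨ (p = 2 ∧ x ^ 4 = 1)) → ∀ s ∈ S, s * x * s⁻¹ ∈ Subgroup.zpowers x) :
    F.IsNormal S := by
  classical
  apply isNormal_top_of_centric_radical_eq hS hF
  intro R hfn hcen hrad
  apply eq_top_of_autInducedBy_le_inn hS hcen
  have hRS : R ≤ S := hcen.1
  have hcore : fixSub F p F.focalSubgroup R ≤ pCore p (F.autGroup R) :=
    fixSub_le_pCore hS hRS (fun γ hγ x hx => aut_mem_focal hRS hγ x hx)
      (fun γ hγ x => comm_mem_focal hRS hγ x)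
  intro α hα
  have hαA : α ∈ F.autGroup R := autInducedBy_le_autGroup F hRS hα
  obtain ⟨s, hs, es⟩ := mem_autInducedBy_iff.1 hα
  have hmem : (⟨α, hαA⟩ : F.autGroup R) ∈ fixSub F p F.focalSubgroup R := by
    refine ⟨fun x hxW hx => ?_, fun hp x hxW hx => ?_⟩
    · apply Subtype.ext
      show ((α x : R) : Ω) = x
      rw [es]
      exact conj_eq_of_zpowers_normal hS hx (hnorm _ hxW (Or.inl hx)) s hs
    · have h1 := conj_eq_or_inv_of_pow_four hx (hnorm _ hxW (Or.inr ⟨hp, hx⟩) s hs)
      rcases h1 with h1 | h1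
      · left
        apply Subtype.ext
        show ((α x : R) : Ω) = x
        rw [es]; exact h1
      · right
        apply Subtype.ext
        show ((α x : R) : Ω) = ((x⁻¹ : R) : Ω)
        rw [es]; exact h1
  have h2 : α ∈ (pCore p (F.autGroup R)).map (F.autGroup R).subtype := ⟨⟨α, hαA⟩, hcore hmem, rfl⟩
  rw [hrad.2] at h2
  exact h2

end Cfsg.Agent.S5300
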