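import Cfsg.Statements.S5311
import Cfsg.Agent.Lib.Helper84.FusT8

set_option autoImplicit false
open Cfsg

namespace Cfsg.Agent.S5311

/-- The layer of a saturated fusion system F over a finite p-group S is characteristic in F: for every automorphism α of S that is an automorphism of F (α and its inverse are morphisms from F to F) and every layer E of F over T, α carries T onto T and, for every map φ of E with source P, the map induced by α on α(P) (that is, α ∘ φ ∘ α⁻¹) is a map of E. -/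
theorem result {Ω : Type*} [Group Ω] {S : Subgroup Ω} [Finite S] (p : ℕ) [Fact p.Prime] (hS : IsPGroup p S) (F : Cfsg.FusionSystem S) (hF : F.IsSaturated p)
    (α : ↥S ≃* ↥S) (hα : F.IsMorphism F (S.subtype.comp α.toMonoidHom))
    (hα' : F.IsMorphism F (S.subtype.comp α.symm.toMonoidHom))
    {T : Subgroup Ω} (E : Cfsg.FusionSystem T) (hE : E.IsLayerOf F p) :
    Cfsg.FusionSystem.imageAlong (S.subtype.comp α.toMonoidHom) T = T ∧
      ∀ (P : Subgroup Ω) (φ : ↥P →* Ω), φ ∈ E.Hom P →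
        ∀ φ' : ↥(Cfsg.FusionSystem.imageAlong (S.subtype.comp α.toMonoidHom) P) →* Ω,
          Cfsg.FusionSystem.InducedAlong (S.subtype.comp α.toMonoidHom) φ φ' →
            φ' ∈ E.Hom (Cfsg.FusionSystem.imageAlong (S.subtype.comp α.toMonoidHom) P) := by
  have _ := hF
  have h := Cfsg.Agent.Helper84.T7.tr_of_aut (α : MulAut S)
  have hFF : Cfsg.Agent.Helper84.T2.Rel h F F :=
    Cfsg.Agent.Helper84.T8.rel_of_isMorphism (α : MulAut S) hα hα'
  have hTS : T ≤ S := hE.1.1.2.2.2.1.1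
  have hfinT : Finite T :=
    Finite.of_injective (Subgroup.inclusion hTS) (Subgroup.inclusion_injective hTS)
  obtain ⟨E', hr⟩ := Cfsg.Agent.Helper84.T3.exists_push h E hTS
  obtain ⟨hT', hsub⟩ := Cfsg.Agent.Helper84.T8.layer_push hS h hFF hE hr
  refine ⟨by rw [Cfsg.Agent.Helper84.T8.imageAlong_eq_img]; exact hT', fun P φ hφ φ' hind => ?_⟩
  apply hsub
  obtain ⟨hP, hφS, hP', hi⟩ := hind
  have hPT : P ≤ T := (E.le_of_mem hφ).1
  have hφT : ∀ x : P, φ x ∈ T := (E.le_of_mem hφ).2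
  have e := Cfsg.Agent.Helper84.T8.imageAlong_eq_img (α : MulAut S) P
  have hval : ∀ x : P, (S.subtype.comp α.toMonoidHom) ⟨φ x, hφS x⟩ =
      Cfsg.Agent.Helper87.extAut (α : MulAut S) (φ x) := by
    intro x
    rw [Cfsg.Agent.Helper87.extAut_mem (α : MulAut S) (hφS x)]
    rfl
  have hval' : ∀ x : P, (S.subtype.comp α.toMonoidHom) ⟨x, hP x.2⟩ =
      Cfsg.Agent.Helper87.extAut (α : MulAut S) (x : Ω) := by
    intro x
    rw [Cfsg.Agent.Helper87.extAut_mem (α : MulAut S) (hP x.2)]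
    rfl
  rw [hr.mem_hom_iff]
  refine ⟨?_, ?_, ?_⟩
  · rw [e]
    exact h.img_mono hPT
  · intro y
    obtain ⟨x, hxS, hxP, hxy⟩ := Cfsg.Agent.Helper87.mem_imageAlong_iff.1 y.2
    have h1 := hi ⟨x, hxP⟩
    have h2 : (⟨(S.subtype.comp α.toMonoidHom) ⟨x, hP hxP⟩, hP' ⟨x, hxP⟩⟩ :
        ↥(Cfsg.FusionSystem.imageAlong (S.subtype.comp α.toMonoidHom) P)) = y := by
      apply Subtype.ext
      rw [← hxy, Cfsg.Agent.Helper87.extHom_mem _ hxS]
    rw [h2] at h1
    rw [h1, hval ⟨x, hxP⟩]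
    exact h.map_mem_img (hφT ⟨x, hxP⟩) (hφS ⟨x, hxP⟩)
  · have e2 : h.symm.img (Cfsg.FusionSystem.imageAlong (S.subtype.comp α.toMonoidHom) P) = P := by
      rw [e, h.symm_img_img hP]
    rw [e2]
    refine ⟨φ, hφ, fun x => ?_⟩
    have h1 := hi x
    show φ x = Cfsg.Agent.Helper87.extAut (α : MulAut S)⁻¹
      (Cfsg.Agent.Helper87.extFun φ' (Cfsg.Agent.Helper87.extAut (α : MulAut S) (x : Ω)))
    have h3 : Cfsg.Agent.Helper87.extAut (α : MulAut S) (x : Ω) ∈
        Cfsg.FusionSystem.imageAlong (S.subtype.comp α.toMonoidHom) P := by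
      rw [← hval' x]; exact hP' x
    rw [Cfsg.Agent.Helper87.extFun_mem φ' h3]
    have h4 : (⟨Cfsg.Agent.Helper87.extAut (α : MulAut S) (x : Ω), h3⟩ :
        ↥(Cfsg.FusionSystem.imageAlong (S.subtype.comp α.toMonoidHom) P)) =
        ⟨(S.subtype.comp α.toMonoidHom) ⟨x, hP x.2⟩, hP' x⟩ := Subtype.ext (hval' x).symm
    rw [h4, h1, hval x, Cfsg.Agent.Helper87.extAut_inv_left (α : MulAut S) (hφS x)]

end Cfsg.Agent.S5311
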