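import Mathlib
import Cfsg.Statements.S5315
import Cfsg.Agent.Lib.Helper87.FusionFactor
import Cfsg.Agent.Lib.Helper87.FusionAlperin
import Cfsg.Agent.Lib.Helper87.FusionCenter
import Cfsg.Agent.Lib.Helper84.FusCentral
import Cfsg.Agent.S5144
import Cfsg.Agent.S5148

set_option autoImplicit false
open Cfsg

namespace Cfsg.Agent.S5315

open Cfsg.FusionSystem Cfsg.Agent.Helper87

variable {Ω : Type*} [Group Ω] {S : Subgroup Ω}

theorem central_conj {b w : Ω} (h : w * b = b * w) : b⁻¹ * w * b = w := by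
  rw [mul_assoc, h, ← mul_assoc, inv_mul_cancel, one_mul]

section Key

variable {Ω' : Type*} [Group Ω'] {S' : Subgroup Ω'} {F : FusionSystem S} {Z : Subgroup Ω}
  {θ : S →* Ω'} {E : FusionSystem S'}

/-- maps of the system fix the elements of a central subgroup -/
theorem fix_central (hZ : F.IsCentral Z) {P : Subgroup Ω} {f : Ω → Ω} (hf : Mor F P f) {z : Ω}
    (hz : z ∈ Z) (hzP : z ∈ P) : f z = z := by
  obtain ⟨g, -, e1, e2⟩ := Cfsg.Agent.S5148.central_ext hZ hf
  rw [← e1 z hzP]; exact e2 z hz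

theorem central_comm (hZ : F.IsCentral Z) {z s : Ω} (hz : z ∈ Z) (hs : s ∈ S) : s * z = z * s := by
  have h := fix_central hZ (Mor.conj (F := F) (le_rfl : S ≤ S) hs) hz (hZ.1 hz)
  calc s * z = (s * z * s⁻¹) * s := by group
    _ = z * s := by rw [h]

/-- elements of the preimage of a central subgroup of the factor system are moved inside their coset
of the centre -/
theorem inv_mul_map_mem (hZ : F.IsCentral Z) (hE : F.IsFactorSystem Z θ E) {Q' : Subgroup Ω'}
    (hQ' : E.IsCentral Q') {P : Subgroup Ω} {f : Ω → Ω} (hf : Mor F P f) {x : Ω}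
    (hx : x ∈ preimageAlong θ Q') (hxP : x ∈ P) : x⁻¹ * f x ∈ Z := by
  have hT := Cfsg.Agent.S5148.central_stronglyClosed hZ
  obtain ⟨g, hg, e1, -⟩ := Cfsg.Agent.S5148.central_ext hZ hf
  obtain ⟨f', hf', ef'⟩ := exists_factor_mor hE hT (le_sup_right : Z ≤ P ⊔ Z) hg
  obtain ⟨g', -, eg1, eg2⟩ := (isCentral_iff.1 hQ').2 _ f' hf'
  have hxS : x ∈ S := preimageAlong_le' θ Q' hx
  have hθx : extHom θ x ∈ Q' := (mem_preimageAlong_iff.1 hx).2
  have hθx' : extHom θ x ∈ imageAlong θ (P ⊔ Z) :=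
    mem_imageAlong_iff.2 ⟨x, hxS, (le_sup_left : P ≤ P ⊔ Z) hxP, rfl⟩
  have h1 := eg1 _ hθx'
  have h2 := eg2 _ hθx
  have h3 := ef' x ((le_sup_left : P ≤ P ⊔ Z) hxP)
  rw [e1 x hxP] at h3
  exact (factor_eq_iff hE hxS (hf.mem hxP)).1 (by rw [← h2, h1, h3])

/-- the commutator trick: elements of the preimage of a central subgroup of the factor system commute with
the focal elements -/
theorem comm_focal (hZ : F.IsCentral Z) (hE : F.IsFactorSystem Z θ E) {Q' : Subgroup Ω'}
    (hQ' : E.IsCentral Q') {x : Ω} (hx : x ∈ preimageAlong θ Q') {R : Subgroup Ω} {f : Ω → Ω}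
    (hf : Mor F R f) {y : Ω} (hy : y ∈ R) : (f y * y⁻¹) * x = x * (f y * y⁻¹) := by
  have hT := Cfsg.Agent.S5148.central_stronglyClosed hZ
  have hxS : x ∈ S := preimageAlong_le' θ Q' hx
  have hyS : y ∈ S := hf.le hy
  have hfyS : f y ∈ S := hf.mem hy
  obtain ⟨g, hg, e1, -⟩ := Cfsg.Agent.S5148.central_ext hZ hf
  obtain ⟨f', hf', ef'⟩ := exists_factor_mor hE hT (le_sup_right : Z ≤ R ⊔ Z) hg
  obtain ⟨g', hg', eg1, eg2⟩ := (isCentral_iff.1 hQ').2 _ f' hf'
  obtain ⟨h, hh, eh⟩ := factor_mor_exists hE hg'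
  set D := preimageAlong θ (imageAlong θ (R ⊔ Z) ⊔ Q') with hD
  have hθy : extHom θ y ∈ imageAlong θ (R ⊔ Z) :=
    mem_imageAlong_iff.2 ⟨y, hyS, (le_sup_left : R ≤ R ⊔ Z) hy, rfl⟩
  have hθx : extHom θ x ∈ Q' := (mem_preimageAlong_iff.1 hx).2
  have hyD : y ∈ D := mem_preimageAlong_iff.2 ⟨hyS, (le_sup_left : _ ≤ imageAlong θ (R ⊔ Z) ⊔ Q') hθy⟩
  have hxD : x ∈ D := mem_preimageAlong_iff.2 ⟨hxS, (le_sup_right : Q' ≤ imageAlong θ (R ⊔ Z) ⊔ Q') hθx⟩
  -- `h y ≡ f y` and `h x ≡ x` modulo `Z`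
  have hb : (f y)⁻¹ * h y ∈ Z := by
    apply (factor_eq_iff hE hfyS (hh.mem hyD)).1
    rw [← eh y hyD, eg1 _ hθy, ef' y ((le_sup_left : R ≤ R ⊔ Z) hy), e1 y hy]
  have ha : x⁻¹ * h x ∈ Z := by
    apply (factor_eq_iff hE hxS (hh.mem hxD)).1
    rw [← eh x hxD, eg2 _ hθx]
  set a := x⁻¹ * h x with ha_def
  set b := (f y)⁻¹ * h y with hb_def
  have hhx : h x = x * a := by rw [ha_def]; group
  have hhy : h y = f y * b := by rw [hb_def]; group
  -- `c = x⁻¹ (y⁻¹ x y)` lies in `Z`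
  have hc : x⁻¹ * (y⁻¹ * x * y) ∈ Z := by
    have := inv_mul_map_mem hZ hE hQ' (Mor.conj (F := F) (le_rfl : S ≤ S) (S.inv_mem hyS)) hx hxS
    simpa using this
  set c := x⁻¹ * (y⁻¹ * x * y) with hc_def
  have hyxy : y⁻¹ * x * y = x * c := by rw [hc_def]; group
  have hcD : c ∈ D := ker_le_preimageAlong' hE _ hc
  have hyxyD : y⁻¹ * x * y ∈ D := D.mul_mem (D.mul_mem (D.inv_mem hyD) hxD) hyD
  -- apply `h` to `y⁻¹ x y = x c`
  have e2 : (h y)⁻¹ * h x * h y = h x * c := by
    have h1 : h (y⁻¹ * x * y) = (h y)⁻¹ * h x * h y := by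
      rw [hh.map_mul (D.mul_mem (D.inv_mem hyD) hxD) hyD, hh.map_mul (D.inv_mem hyD) hxD,
        hh.map_inv hyD]
    rw [← h1, hyxy, hh.map_mul hxD hcD, fix_central hZ hh hc hcD]
  -- remove the central factors
  have hbS : ∀ s ∈ S, s * b = b * s := fun s hs => central_comm hZ hb hs
  have haS : ∀ s ∈ S, s * a = a * s := fun s hs => central_comm hZ ha hs
  have hcS : ∀ s ∈ S, s * c = c * s := fun s hs => central_comm hZ hc hs
  have e3 : (h y)⁻¹ * h x * h y = (f y)⁻¹ * x * f y * a := by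
    rw [hhx, hhy]
    have h1 : (f y * b)⁻¹ * (x * a) * (f y * b) = b⁻¹ * ((f y)⁻¹ * (x * a) * f y) * b := by group
    have hxaS : x * a ∈ S := S.mul_mem hxS (hZ.1 ha)
    rw [h1, central_conj (hbS _ (S.mul_mem (S.mul_mem (S.inv_mem hfyS) hxaS) hfyS))]
    have h2 : (f y)⁻¹ * (x * a) * f y = (f y)⁻¹ * x * f y * ((f y)⁻¹ * a * f y) := by group
    have h3 : (f y)⁻¹ * a * f y = a := by
      have := haS _ hfyS
      calc (f y)⁻¹ * a * f y = (f y)⁻¹ * (a * f y) := by group
        _ = (f y)⁻¹ * (f y * a) := by rw [this]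
        _ = a := by group
    rw [h2, h3]
  have e4 : (f y)⁻¹ * x * f y = y⁻¹ * x * y := by
    have h1 : (f y)⁻¹ * x * f y * a = x * a * c := by rw [← e3, e2, hhx]
    have h2 : x * a * c = x * c * a := by
      have := hcS a (hZ.1 ha)
      calc x * a * c = x * (a * c) := by group
        _ = x * (c * a) := by rw [this]
        _ = x * c * a := by group
    rw [h2] at h1
    rw [hyxy]
    exact mul_right_cancel h1
  calc f y * y⁻¹ * x = f y * (y⁻¹ * x * y) * y⁻¹ := by group
    _ = f y * ((f y)⁻¹ * x * f y) * y⁻¹ := by rw [e4]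
    _ = x * (f y * y⁻¹) := by group


/-- if `F` is perfect, the preimage of a central subgroup of the factor system lies in the centre of `S` -/
theorem preimage_le_centralizer {p : ℕ} (hZ : F.IsCentral Z) (hE : F.IsFactorSystem Z θ E)
    {Q' : Subgroup Ω'} (hQ' : E.IsCentral Q') (hperf : F.hyperfocalSubgroup p = S) {x : Ω}
    (hx : x ∈ preimageAlong θ Q') : x ∈ Subgroup.centralizer (S : Set Ω) := by
  have hle : F.hyperfocalSubgroup p ≤ Subgroup.centralizer ({x} : Set Ω) := by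
    apply hyperfocal_le
    intro P hP α hα _ z
    have hmor : Mor F P (extAut α) := (mem_autGroup_iff hP).1 hα
    have h1 := comm_focal hZ hE hQ' hx hmor (P.inv_mem z.2)
    rw [hmor.map_inv z.2, extAut_apply, inv_inv] at h1
    -- `(α z)⁻¹ * z` commutes with `x`
    rw [Subgroup.mem_centralizer_iff]
    intro w hw
    rw [Set.mem_singleton_iff] at hw
    subst hw
    have h2 : (z : Ω)⁻¹ * ((α z : P) : Ω) = (((α z : P) : Ω)⁻¹ * (z : Ω))⁻¹ := by group
    rw [h2]
    have h3 : Commute (((α z : P) : Ω)⁻¹ * (z : Ω)) w := h1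
    exact (h3.inv_left).eq.symm
  rw [hperf] at hle
  rw [Subgroup.mem_centralizer_iff]
  intro s hs
  have := Subgroup.mem_centralizer_iff.1 (hle hs) x (Set.mem_singleton x)
  exact this.symm


/-- automorphisms of a fully normalized subgroup containing `Z` fix the preimage of a central subgroup of the factor
system elementwise -/
theorem aut_fix {p : ℕ} [Fact p.Prime] [Finite S] (hS : IsPGroup p S) (hF : F.IsSaturated p)
    (hZ : F.IsCentral Z) (hE : F.IsFactorSystem Z θ E) {Q' : Subgroup Ω'} (hQ' : E.IsCentral Q')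
    (hperf : F.hyperfocalSubgroup p = S) {R : Subgroup Ω} (hfn : F.IsFullyNormalized R)
    (hZR : Z ≤ R) {w : Ω} (hw : w ∈ preimageAlong θ Q') (hwR : w ∈ R)
    (α : MulAut R) (hα : α ∈ F.autGroup R) : ((α ⟨w, hwR⟩ : R) : Ω) = w := by
  classical
  have hRS : R ≤ S := hfn.1
  have hfinR : Finite R := finite_of_le hRS
  have hwC := preimage_le_centralizer hZ hE hQ' hperf hw
  have hmor : ∀ β : F.autGroup R, Mor F R (extAut (β : MulAut R)) :=
    fun β => (mem_autGroup_iff hRS).1 β.2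
  have hval : ∀ β : F.autGroup R, w⁻¹ * (((β : MulAut R) ⟨w, hwR⟩ : R) : Ω) ∈ Z := by
    intro β
    have := inv_mul_map_mem hZ hE hQ' (hmor β) hw hwR
    rwa [extAut_mem _ hwR] at this
  let χ : F.autGroup R →* Z :=
    { toFun := fun β => ⟨w⁻¹ * (((β : MulAut R) ⟨w, hwR⟩ : R) : Ω), hval β⟩
      map_one' := Subtype.ext (by simp)
      map_mul' := fun β γ => Subtype.ext (by
        show w⁻¹ * ((((β : MulAut R) ((γ : MulAut R) ⟨w, hwR⟩) : R)) : Ω) =
          (w⁻¹ * (((β : MulAut R) ⟨w, hwR⟩ : R) : Ω)) * (w⁻¹ * (((γ : MulAut R) ⟨w, hwR⟩ : R) : Ω))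
        set c := w⁻¹ * (((γ : MulAut R) ⟨w, hwR⟩ : R) : Ω) with hc
        have hcZ : c ∈ Z := hval γ
        have hcR : c ∈ R := hZR hcZ
        have e1 : (γ : MulAut R) ⟨w, hwR⟩ = ⟨w, hwR⟩ * ⟨c, hcR⟩ := by
          apply Subtype.ext
          show _ = w * c
          rw [hc]; group
        have e2 : (((β : MulAut R) ⟨c, hcR⟩ : R) : Ω) = c := by
          have := fix_central hZ (hmor β) hcZ hcR
          rwa [extAut_mem _ hcR] at this
        rw [e1, map_mul, Subgroup.coe_mul, e2]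
        group) }
  obtain ⟨-, PA, hPA⟩ := fullyAutomized_of_fullyNormalized hS hF hfn
  have hker : (PA : Subgroup (F.autGroup R)) ≤ χ.ker := by
    intro π hπ
    rw [hPA, Subgroup.mem_subgroupOf] at hπ
    obtain ⟨s, hs, e⟩ := mem_autInducedBy_iff.1 hπ
    rw [MonoidHom.mem_ker]
    apply Subtype.ext
    show w⁻¹ * (((π : MulAut R) ⟨w, hwR⟩ : R) : Ω) = 1
    rw [e]
    have := Subgroup.mem_centralizer_iff.1 hwC s hs
    show w⁻¹ * (s * w * s⁻¹) = 1
    rw [this]; group
  have h1 : χ.ker.index ∣ (PA : Subgroup (F.autGroup R)).index := Subgroup.index_dvd_of_le hker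
  have h2 : χ.ker.index = Nat.card χ.range := Subgroup.index_ker χ
  have hZp : IsPGroup p Z := hS.to_le hZ.1
  have hfinZ : Finite Z := finite_of_le hZ.1
  have h3 : IsPGroup p χ.range := hZp.to_subgroup _
  obtain ⟨k, hk⟩ := h3.exists_card_eq
  have h4 : ¬ p ∣ (PA : Subgroup (F.autGroup R)).index := PA.not_dvd_index
  have hk0 : k = 0 := by
    by_contra hne
    apply h4
    refine dvd_trans ?_ h1
    rw [h2, hk]
    exact dvd_pow_self p hne
  rw [hk0, pow_zero] at hk
  have hbot : χ.range = ⊥ := Subgroup.card_eq_one.1 hk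
  have hχ : χ ⟨α, hα⟩ = 1 := by
    have : χ ⟨α, hα⟩ ∈ χ.range := ⟨_, rfl⟩
    rwa [hbot, Subgroup.mem_bot] at this
  have h5 := congrArg Subtype.val hχ
  have h6 : w⁻¹ * ((α ⟨w, hwR⟩ : R) : Ω) = 1 := h5
  exact (inv_mul_eq_one.1 h6).symm

/-- if `F` is perfect, the preimage of a central subgroup of the factor system modulo a central subgroup is central -/
theorem preimage_central {p : ℕ} [Fact p.Prime] [Finite S] (hS : IsPGroup p S) (hF : F.IsSaturated p)
    (hZ : F.IsCentral Z) (hE : F.IsFactorSystem Z θ E) {Q' : Subgroup Ω'} (hQ' : E.IsCentral Q')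
    (hperf : F.hyperfocalSubgroup p = S) : F.IsCentral (preimageAlong θ Q') := by
  have hZ₂S : preimageAlong θ Q' ≤ S := preimageAlong_le' θ Q'
  have hZcent : ∀ z ∈ Z, z ∈ Subgroup.centralizer (S : Set Ω) := by
    intro z hz
    rw [Subgroup.mem_centralizer_iff]
    intro s hs
    exact central_comm hZ hz hs
  let C : Subgroup Ω → (Ω → Ω) → Prop := fun P f => ∀ w ∈ P, w ∈ preimageAlong θ Q' → f w = w
  have hC : AlperinClosed F C :=
    { congr := fun {P f f'} h hff w hw hwZ => by rw [← hff w hw]; exact h w hw hwZ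
      restrict := fun {P Q f} _ h hQP w hw hwZ => h w (hQP hw) hwZ
      comp := fun {P Q f g} _ _ hPQ h1 h2 w hw hwZ => by
        show g (f w) = w
        rw [h1 w hw hwZ]
        have := hPQ w hw
        rw [h1 w hw hwZ] at this
        exact h2 w this hwZ }
  have key := alperin hS hF C hC (by
    intro R hfn hcen _ α hα w hwR hwZ
    have hZR : Z ≤ R := by
      intro z hz
      apply hcen.2 R (isConj_refl hcen.1)
      exact ⟨hZ.1 hz, Subgroup.centralizer_le (by exact_mod_cast hcen.1) (hZcent z hz)⟩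
    rw [extAut_mem _ hwR]
    exact aut_fix hS hF hZ hE hQ' hperf hfn hZR hwZ hwR α hα)
  rw [Cfsg.Agent.Helper84.central_iff_singletons F hS hF]
  refine ⟨hZ₂S, ?_⟩
  rintro x hx y ⟨φ, hφ, rfl⟩
  have := key _ _ (mor_of_mem hφ) x (Subgroup.mem_zpowers x) hx
  rwa [extFun_mem φ (Subgroup.mem_zpowers x)] at this

end Key

/-- An analogue of Grün's lemma for fusion systems. Let F be a saturated fusion system over a finite p-group S that is perfect in the sense that its hyperfocal subgroup is all of S (F coincides with its p-residual subsystem). Then the second centre of F equals its centre: every fusion system over S/(Z(F) ∩ S) that is the factor system of F modulo its centre Z(F), read through the quotient map, has trivial centre. -/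
theorem result {Ω : Type*} [Group Ω] {S : Subgroup Ω} [Finite S] (p : ℕ) [Fact p.Prime] (hS : IsPGroup p S) (F : Cfsg.FusionSystem S) (hF : F.IsSaturated p)
    (hperf : F.hyperfocalSubgroup p = S)
    (E : Cfsg.FusionSystem (⊤ : Subgroup (↥S ⧸ (F.center).subgroupOf S)))
    (hE : F.IsFactorSystem F.center (QuotientGroup.mk' ((F.center).subgroupOf S)) E) : E.center = ⊥ := by
  have hZ : F.IsCentral F.center := Cfsg.Agent.S5144.result F
  have hdef : E.center = sSup {Q | E.IsCentral Q} := rfl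
  rw [hdef, sSup_eq_bot]
  intro Q' hQ'
  have hcen := preimage_central hS hF hZ hE hQ' hperf
  have hle : preimageAlong (QuotientGroup.mk' ((F.center).subgroupOf S)) Q' ≤ F.center := le_sSup hcen
  rw [eq_bot_iff]
  intro y hy
  obtain ⟨x, hx, rfl⟩ := exists_preimage_of_mem hE hQ'.1 hy
  rw [Subgroup.mem_bot]
  exact (factor_ker hE (preimageAlong_le' _ _ hx)).2 (hle hx)

end Cfsg.Agent.S5315
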