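import Cfsg.Statements.S5340
import Cfsg.Agent.S5339

set_option autoImplicit false
open Cfsg

namespace Cfsg.Agent.S5340

/-- Let F be a saturated fusion system over a nontrivial finite p-group S such that S is generated by its elements of order p, any two subgroups of S of order p are F-conjugate, and Aut_F(S) consists of inner automorphisms only. Then F is simple. -/
theorem result {Ω : Type*} [Group Ω] {S : Subgroup Ω} [Finite S] (p : ℕ) [Fact p.Prime] (hS : IsPGroup p S) (F : Cfsg.FusionSystem S) (hF : F.IsSaturated p) (hS1 : S ≠ ⊥) (hgen : Subgroup.closure {x : Ω | x ∈ S ∧ orderOf x = p} = S) (htr : ∀ A B : Subgroup Ω, A ≤ S → B ≤ S → Nat.card A = p → Nat.card B = p → F.IsConj A B) (htop : F.autGroup S = Cfsg.Inn ↥S) : F.IsSimple p := by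
  apply Cfsg.Agent.S5339.result p hS F hF hS1 htop
  intro T hT
  obtain ⟨hTS, hTcl⟩ := hT
  by_cases hTbot : T = ⊥
  · left; exact hTbot
  · right
    apply le_antisymm hTS
    have hTp : IsPGroup p T := hS.to_le hTS
    haveI : Finite T := Finite.of_injective (Subgroup.inclusion hTS) (Subgroup.inclusion_injective hTS)
    have hcard : p ∣ Nat.card T := by
      rcases hTp.card_eq_or_dvd with h | h
      · exfalso
        apply hTbot
        exact (Subgroup.card_eq_one).mp h
      · exact h
    obtain ⟨x, hx⟩ := exists_prime_orderOf_dvd_card' p hcard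
    have hxo : orderOf (x : Ω) = p := by rw [Subgroup.orderOf_coe]; exact hx
    set A := Subgroup.zpowers (x : Ω) with hA
    have hAT : A ≤ T := by
      rw [hA, Subgroup.zpowers_le]; exact x.2
    have hAcard : Nat.card A = p := by rw [hA, Nat.card_zpowers]; exact hxo
    conv_lhs => rw [← hgen]
    rw [Subgroup.closure_le]
    rintro y ⟨hyS, hyo⟩
    have hBS : Subgroup.zpowers y ≤ S := by
      rw [Subgroup.zpowers_le]; exact hyS
    have hBcard : Nat.card (Subgroup.zpowers y) = p := by rw [Nat.card_zpowers]; exact hyo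
    obtain ⟨φ, hφ, hrange⟩ := htr A (Subgroup.zpowers y) (hAT.trans hTS) hBS hAcard hBcard
    have hy : y ∈ φ.range := by rw [hrange]; exact Subgroup.mem_zpowers y
    obtain ⟨a, rfl⟩ := hy
    exact hTcl A hAT φ hφ a

end Cfsg.Agent.S5340
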