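import Mathlib
import Cfsg.Statements.S5317
import Cfsg.Agent.S5340
import Cfsg.Agent.S0809
import Cfsg.Agent.Lib.Helper84.GrpFus

set_option autoImplicit false
open scoped MatrixGroups
open Cfsg

namespace Cfsg.Agent.S5317

open Cfsg.Agent.Helper40

section generic

variable {G : Type*} [Group G]

/-- In a group with a dicyclic torus normalizer containing a Sylow 2-subgroup, every Sylow
2-subgroup is generated by its elements squaring to the central involution. -/
theorem sylow_le_closure_sq [Finite G] {T : Subgroup G} {s z : G} {k m : ℕ} [IsCyclic T]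
    (h : DicData T s z k m) (hval : (Nat.card G).factorization 2 = k + 1) (S : Sylow 2 G) :
    (S : Subgroup G) ≤ Subgroup.closure {g : G | g ∈ (S : Subgroup G) ∧ g * g = z} := by
  obtain ⟨x, hx⟩ := exists_conj_of_card h.S₀ (by rw [h.card_S₀, hval]) S
  -- elements of the non-trivial coset of `S₀`
  have hC : ∀ y : G, s⁻¹ * y ∈ h.T₂ → x * y * x⁻¹ ∈ {g : G | g ∈ (S : Subgroup G) ∧ g * g = z} := by
    intro y hy
    have hyS₀ : y ∈ h.S₀ := (h.mem_S₀ y).2 (Or.inr hy)
    have hyN : y ∈ Subgroup.normalizer (T : Set G) := h.S₀_le_normalizer hyS₀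
    have hyT : y ∉ T := by
      intro hyT
      apply h.s_not_mem
      have : s = y * (s⁻¹ * y)⁻¹ := by group
      rw [this]
      exact T.mul_mem hyT (T.inv_mem (h.T₂_le hy))
    have hyy : y * y = z := h.sq y hyN hyT
    constructor
    · rw [hx]
      have : x⁻¹ * (x * y * x⁻¹) * x = y := by group
      rw [this]
      exact hyS₀
    · calc x * y * x⁻¹ * (x * y * x⁻¹) = x * (y * y) * x⁻¹ := by group
        _ = x * z * x⁻¹ := by rw [hyy]
        _ = z := by rw [h.z_central x]; group
  have hsinv : s⁻¹ * s⁻¹ ∈ h.T₂ := by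
    have : s⁻¹ * s⁻¹ = (s * s)⁻¹ := by group
    rw [this]
    exact h.T₂.inv_mem h.s_sq_mem
  intro g hg
  have hg' : x⁻¹ * g * x ∈ h.S₀ := (hx g).1 hg
  rcases (h.mem_S₀ _).1 hg' with ht | hc
  · -- `x⁻¹ g x = t ∈ T₂`, and `t = s⁻¹ * (s * t)`
    have h1 := hC s⁻¹ hsinv
    have h2 := hC (s * (x⁻¹ * g * x)) (by
      have : s⁻¹ * (s * (x⁻¹ * g * x)) = x⁻¹ * g * x := by group
      rw [this]; exact ht)
    have e : g = (x * s⁻¹ * x⁻¹) * (x * (s * (x⁻¹ * g * x)) * x⁻¹) := by group
    rw [e]
    exact Subgroup.mul_mem _ (Subgroup.subset_closure h1) (Subgroup.subset_closure h2)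
  · have h1 := hC _ hc
    have e : x * (x⁻¹ * g * x) * x⁻¹ = g := by group
    rw [e] at h1
    exact Subgroup.subset_closure h1

end generic


section sl2

open Matrix

variable {F : Type*} [Field F]

local notation "SL2F" => Matrix.SpecialLinearGroup (Fin 2) F
local notation "negOne" => (S2429.negOne : Matrix.SpecialLinearGroup (Fin 2) F)

/-- a Sylow 2-subgroup of `SL₂(q)`, `q` odd, is generated by its elements squaring to `-1` -/
theorem sylow_sl2_le_closure [Fintype F] (hodd : Fintype.card F % 2 = 1) (S : Sylow 2 SL2F) :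
    (S : Subgroup SL2F) ≤ Subgroup.closure {g : SL2F | g ∈ (S : Subgroup SL2F) ∧ g * g = negOne} := by
  classical
  have h2 : (2 : F) ≠ 0 := S2431.char_ne_two hodd
  have hq : 1 < Fintype.card F := Fintype.one_lt_card
  have h4 : Fintype.card F % 4 = 1 ∨ Fintype.card F % 4 = 3 := by omega
  rcases h4 with hq4 | hq4
  · have D := S2431.sp_dicData hq4 h2
    haveI := S2430.isCyclic_spTorus (F := F)
    have hval : (Nat.card SL2F).factorization 2 = (Fintype.card F - 1).factorization 2 + 1 := by
      rw [card_SL2]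
      apply S2431.val_card _ _ hq _ hodd
      rw [S2431.fact_two_one (Fintype.card F + 1) (by omega)]
    exact sylow_le_closure_sq D hval S
  · have hF : ringChar F ≠ 2 := fun h => by
      have := FiniteField.even_card_of_char_two h
      omega
    obtain ⟨δ, hδ⟩ := FiniteField.exists_nonsquare hF
    obtain ⟨s₀, hs₀⟩ := exists_nsTwist δ (nonsquare_ne_zero hδ) hodd
    have D := S2431.ns_dicData hq4 hδ h2 s₀ hs₀
    haveI := isCyclic_nsTorus hδ
    have hval : (Nat.card SL2F).factorization 2 = (Fintype.card F + 1).factorization 2 + 1 := by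
      rw [card_SL2]
      apply S2431.val_card _ _ hq _ hodd
      rw [S2431.fact_two_one (Fintype.card F - 1) (by omega)]
      omega
    exact sylow_le_closure_sq D hval S

theorem mod8_of_dvd (q : ℕ) (hodd : q % 2 = 1) (h16 : 16 ∣ q ^ 2 - 1) : q % 8 = 1 ∨ q % 8 = 7 := by
  have hq1 : 1 ≤ q ^ 2 := Nat.one_le_pow _ _ (by omega)
  obtain ⟨k, hk⟩ := h16
  have hr : (q % 16) ^ 2 % 16 = 1 := by rw [← Nat.pow_mod]; omega
  have hlt : q % 16 < 16 := Nat.mod_lt _ (by norm_num)
  have h8 : q % 8 = (q % 16) % 8 := (Nat.mod_mod_of_dvd q (by norm_num : 8 ∣ 16)).symm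
  have h2' : q % 2 = (q % 16) % 2 := (Nat.mod_mod_of_dvd q (by norm_num : 2 ∣ 16)).symm
  rw [h8]
  rw [h2'] at hodd
  generalize q % 16 = r at hr hlt hodd
  interval_cases r <;> simp_all

/-- the image in `PSL₂` of a square root of `-1` has order 2 -/
theorem orderOf_mk_eq_two (h2 : (2 : F) ≠ 0) (g : SL2F) (hg : g * g = negOne) :
    orderOf (QuotientGroup.mk g : Matrix.ProjectiveSpecialLinearGroup (Fin 2) F) = 2 := by
  apply orderOf_eq_prime
  · rw [← QuotientGroup.mk_pow, QuotientGroup.eq_one_iff, pow_two, hg, S2431.mem_center_iff']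
    exact Or.inr rfl
  · rw [Ne, QuotientGroup.eq_one_iff, S2431.mem_center_iff']
    rintro (h | h)
    · rw [h, one_mul] at hg
      exact S2429.negOne_ne_one h2 hg.symm
    · rw [h, S2429.negOne_sq] at hg
      exact S2429.negOne_ne_one h2 hg.symm

end sl2

/-- Let F be a finite field of odd order q with q² ≡ 1 mod 16 (so that a Sylow 2-subgroup of PSL(2,q), dihedral of order the 2-part of (q²−1)/2, has order at least 8). Then the 2-fusion system of PSL(2,F) on a Sylow 2-subgroup is simple: saturated, over a nontrivial 2-group, with no normal subsystem other than the trivial one and itself. -/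
theorem result {F : Type*} [Field F] [Fintype F] (hodd : Fintype.card F % 2 = 1) (h16 : 16 ∣ Fintype.card F ^ 2 - 1)
    (S : Sylow 2 (Matrix.ProjectiveSpecialLinearGroup (Fin 2) F)) :
    (Cfsg.groupFusionSystem (S : Subgroup (Matrix.ProjectiveSpecialLinearGroup (Fin 2) F))).IsSimple 2 := by
  classical
  have h2 : (2 : F) ≠ 0 := S2431.char_ne_two hodd
  have hq8 := mod8_of_dvd _ hodd h16
  let π : Matrix.SpecialLinearGroup (Fin 2) F →* Matrix.ProjectiveSpecialLinearGroup (Fin 2) F :=
    QuotientGroup.mk' (Subgroup.center (Matrix.SpecialLinearGroup (Fin 2) F))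
  have hπs : Function.Surjective π := QuotientGroup.mk'_surjective _
  have hπ : ∀ g, π g = (QuotientGroup.mk g : Matrix.ProjectiveSpecialLinearGroup (Fin 2) F) := fun _ => rfl
  have hker : IsPGroup 2 π.ker := by
    rw [QuotientGroup.ker_mk']
    rintro ⟨c, hc⟩
    refine ⟨1, ?_⟩
    apply Subtype.ext
    rw [pow_one, Subgroup.coe_pow, Subgroup.coe_one, pow_two]
    rcases (S2431.mem_center_iff' c).1 hc with h | h
    · simp only [h, one_mul]
    · simp only [h]; exact S2429.negOne_sq
  let Sh : Sylow 2 (Matrix.SpecialLinearGroup (Fin 2) F) :=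
    S.comapOfKerIsPGroup π hker (by rw [MonoidHom.range_eq_top.2 hπs]; exact le_top)
  have hSh : ∀ g, g ∈ (Sh : Subgroup (Matrix.SpecialLinearGroup (Fin 2) F)) ↔
      π g ∈ (S : Subgroup (Matrix.ProjectiveSpecialLinearGroup (Fin 2) F)) := fun g => Iff.rfl
  have hNSh := (S2431.result (Nat.odd_iff.2 hodd) Sh).2.1 hq8
  have hgenSh := sylow_sl2_le_closure hodd Sh
  -- the normalizer of `S` is `S`
  have hNS : ∀ g : Matrix.ProjectiveSpecialLinearGroup (Fin 2) F,
      (∀ x ∈ (S : Subgroup (Matrix.ProjectiveSpecialLinearGroup (Fin 2) F)), g * x * g⁻¹ ∈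
        (S : Subgroup (Matrix.ProjectiveSpecialLinearGroup (Fin 2) F))) →
      g ∈ (S : Subgroup (Matrix.ProjectiveSpecialLinearGroup (Fin 2) F)) := by
    intro g hg
    obtain ⟨gh, rfl⟩ := hπs g
    rw [← hSh, ← hNSh]
    apply mem_normalizer_of_conj_mem
    intro y hy
    rw [hSh, map_mul, map_mul, map_inv]
    exact hg _ ((hSh y).1 hy)
  apply Cfsg.Agent.S5340.result 2 S.isPGroup' _ (Cfsg.Agent.Helper84.gfs_saturated S)
  · -- nontrivial
    apply Sylow.ne_bot_of_dvd_card
    have h1 := orderOf_mk_eq_two h2 (S2431.sW : Matrix.SpecialLinearGroup (Fin 2) F) S2431.sW_sq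
    have h3 := orderOf_dvd_natCard
      (QuotientGroup.mk (S2431.sW : Matrix.SpecialLinearGroup (Fin 2) F) :
        Matrix.ProjectiveSpecialLinearGroup (Fin 2) F)
    rw [h1] at h3
    exact h3
  · -- generated by involutions
    apply le_antisymm
    · rw [Subgroup.closure_le]
      intro x hx
      exact hx.1
    · intro y hy
      obtain ⟨g, rfl⟩ := hπs y
      have hg : g ∈ (Sh : Subgroup (Matrix.SpecialLinearGroup (Fin 2) F)) := (hSh g).2 hy
      have h1 := hgenSh hg
      have h3 : π g ∈ (Subgroup.closure {g : Matrix.SpecialLinearGroup (Fin 2) F |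
          g ∈ (Sh : Subgroup (Matrix.SpecialLinearGroup (Fin 2) F)) ∧ g * g = S2429.negOne}).map π :=
        Subgroup.mem_map_of_mem π h1
      rw [MonoidHom.map_closure] at h3
      refine Subgroup.closure_mono ?_ h3
      rintro _ ⟨x, ⟨hxS, hxx⟩, rfl⟩
      exact ⟨(hSh x).1 hxS, orderOf_mk_eq_two h2 x hxx⟩
  · -- subgroups of order 2 are conjugate
    intro A B hA hB hcA hcB
    have key : ∀ C : Subgroup (Matrix.ProjectiveSpecialLinearGroup (Fin 2) F), Nat.card C = 2 →
        ∃ c, orderOf c = 2 ∧ C = Subgroup.zpowers c := by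
      intro C hC
      haveI : Fact (Nat.Prime 2) := ⟨Nat.prime_two⟩
      haveI : IsCyclic C := isCyclic_of_prime_card hC
      obtain ⟨⟨c, hcC⟩, hc⟩ := IsCyclic.exists_generator (α := C)
      refine ⟨c, ?_, ?_⟩
      · have h1 : orderOf (⟨c, hcC⟩ : C) = Nat.card C := orderOf_eq_card_of_forall_mem_zpowers hc
        rw [← Subgroup.orderOf_mk c hcC, h1, hC]
      · apply le_antisymm
        · intro x hx
          obtain ⟨n, hn⟩ := Subgroup.mem_zpowers_iff.1 (hc ⟨x, hx⟩)
          rw [Subgroup.mem_zpowers_iff]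
          exact ⟨n, by simpa using congrArg Subtype.val hn⟩
        · rw [Subgroup.zpowers_le]; exact hcC
    obtain ⟨a, ha, rfl⟩ := key A hcA
    obtain ⟨b, hb, rfl⟩ := key B hcB
    obtain ⟨c, hc⟩ := isConj_iff.1 (S0809.psl_part hodd h2 a b ha hb)
    have hrange : (conjHom (Subgroup.zpowers a) c).range = Subgroup.zpowers b := by
      unfold conjHom
      rw [MonoidHom.range_comp, Subgroup.range_subtype, MonoidHom.map_zpowers]
      congr 1
    refine ⟨conjHom (Subgroup.zpowers a) c, ⟨hA, fun x => ?_, c, fun x => rfl⟩, hrange⟩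
    apply hB
    rw [← hrange]
    exact ⟨x, rfl⟩
  · -- the automizer of `S` is inner
    apply le_antisymm
    · unfold FusionSystem.autGroup
      rw [Subgroup.closure_le]
      rintro α ⟨-, -, g, hg⟩
      have hgS : g ∈ (S : Subgroup (Matrix.ProjectiveSpecialLinearGroup (Fin 2) F)) := by
        apply hNS
        intro x hx
        have := hg ⟨x, hx⟩
        rw [← this]
        exact (α ⟨x, hx⟩).2
      refine ⟨⟨g, hgS⟩, ?_⟩
      ext x
      exact (hg x).symm
    · rintro _ ⟨s, rfl⟩
      apply Subgroup.subset_closure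
      exact ⟨le_rfl, fun x => (MulAut.conj s x).2, (s : Matrix.ProjectiveSpecialLinearGroup (Fin 2) F),
        fun x => rfl⟩

end Cfsg.Agent.S5317
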