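import Mathlib
import Cfsg.Statements.S5327
import Cfsg.Agent.S5326
import Cfsg.Agent.S5082

set_option autoImplicit false
open Cfsg

namespace Cfsg.Agent.S5327

open Cfsg.FusionSystem Cfsg.Agent.Helper87

variable {Ω : Type*} [Group Ω] {S : Subgroup Ω}

/-- the subsystem of `F` in which the only maps with source `S` are the conjugations by elements of `S` -/
def topInner [Finite S] (F : FusionSystem S) : FusionSystem S where
  Hom P := {φ | φ ∈ F.Hom P ∧ (P = S → ∃ s ∈ S, ∀ x : P, φ x = s * (x : Ω) * s⁻¹)}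
  le_of_mem h := F.le_of_mem h.1
  injective_of_mem h := F.injective_of_mem h.1
  conj_mem := by
    intro P g hP hg
    exact ⟨F.conj_mem hP hg, fun _ => ⟨g, hg, fun _ => rfl⟩⟩
  comp_mem := by
    rintro P R φ ψ ⟨hφ, hφ'⟩ ⟨hψ, hψ'⟩ h
    refine ⟨F.comp_mem hφ hψ h, fun hPS => ?_⟩
    obtain ⟨s, hs, es⟩ := hφ' hPS
    have hRS : R = S := by
      apply le_antisymm (F.le_of_mem hψ).1
      intro y hy
      have hyP : s⁻¹ * y * s ∈ P := by
        rw [hPS]; exact S.mul_mem (S.mul_mem (S.inv_mem hs) hy) hs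
      have h1 := h ⟨_, hyP⟩
      rw [es] at h1
      have h2 : s * (s⁻¹ * y * s) * s⁻¹ = y := by group
      simpa only [h2] using h1
    obtain ⟨t, ht, et⟩ := hψ' hRS
    refine ⟨t * s, S.mul_mem ht hs, fun x => ?_⟩
    show ψ (φ.codRestrict R h x) = _
    rw [et]
    show t * φ x * t⁻¹ = _
    rw [es]; group
  inv_mem := by
    rintro P φ ⟨hφ, hφ'⟩
    obtain ⟨ψ, hψ, e⟩ := F.inv_mem hφ
    refine ⟨ψ, ⟨hψ, fun hrange => ?_⟩, e⟩
    have hP : P ≤ S := (F.le_of_mem hφ).1
    have hPS : P = S := by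
      have : Finite P := finite_of_le hP
      apply Subgroup.eq_of_le_of_card_ge hP
      rw [← hrange]
      have e1 : Nat.card φ.range = Nat.card P :=
        (Nat.card_congr (Equiv.ofInjective φ (F.injective_of_mem hφ))).symm
      have e2 : Nat.card (φ.range : Set Ω) = Nat.card φ.range := rfl
      rw [e1]
    obtain ⟨s, hs, es⟩ := hφ' hPS
    refine ⟨s⁻¹, S.inv_mem hs, ?_⟩
    rintro ⟨_, x, rfl⟩
    rw [e x]
    show (x : Ω) = s⁻¹ * φ x * s⁻¹⁻¹
    rw [es]; group

theorem autGroup_le_topInner [Finite S] (F : FusionSystem S) {R : Subgroup Ω} (hR : R ≠ S) :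
    F.autGroup R ≤ (topInner F).autGroup R := by
  apply Subgroup.closure_mono
  intro α hα
  exact ⟨hα, fun h => absurd h hR⟩

theorem autGroup_top_le_of_le_topInner [Finite S] (F E : FusionSystem S) (h : F ≤ topInner F) :
    F.autGroup S ≤ E.autGroup S := by
  apply Subgroup.closure_mono
  intro α hα
  obtain ⟨-, h2⟩ := h S hα
  obtain ⟨s, hs, es⟩ := h2 rfl
  have : S.subtype.comp α.toMonoidHom = conjHom S s := by
    ext x
    rw [es]; rfl
  show S.subtype.comp α.toMonoidHom ∈ E.Hom S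
  rw [this]
  exact E.conj_mem le_rfl hs

theorem autGroup_le_of_not_le (F E : FusionSystem S) {R : Subgroup Ω} (hR : ¬ R ≤ S) :
    F.autGroup R ≤ E.autGroup R := by
  unfold autGroup
  rw [Subgroup.closure_le]
  intro α hα
  exact absurd (F.le_of_mem hα).1 hR

/-- Let F be a saturated fusion system over a finite p-group S. Call a family of subgroups of S generating when every fusion system over S whose automorphism group of each member R contains Aut_F(R) contains every map of F. If two families are each closed under F-conjugacy and each generating, then their intersection is generating. -/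
theorem result {Ω : Type*} [Group Ω] {S : Subgroup Ω} [Finite S] (p : ℕ) [Fact p.Prime] (hS : IsPGroup p S) (F : Cfsg.FusionSystem S) (hF : F.IsSaturated p) (𝒬₁ 𝒬₂ : Set (Subgroup Ω)) (h₁ : ∀ R ∈ 𝒬₁, ∀ R' : Subgroup Ω, F.IsConj R R' → R' ∈ 𝒬₁) (h₂ : ∀ R ∈ 𝒬₂, ∀ R' : Subgroup Ω, F.IsConj R R' → R' ∈ 𝒬₂) (hg₁ : ∀ E : Cfsg.FusionSystem S, (∀ R ∈ 𝒬₁, F.autGroup R ≤ E.autGroup R) → F ≤ E) (hg₂ : ∀ E : Cfsg.FusionSystem S, (∀ R ∈ 𝒬₂, F.autGroup R ≤ E.autGroup R) → F ≤ E) (E : Cfsg.FusionSystem S) (hE : ∀ R ∈ 𝒬₁ ∩ 𝒬₂, F.autGroup R ≤ E.autGroup R) : F ≤ E := by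
  -- every conjugacy-closed generating family contains all essential subgroups
  have key : ∀ 𝒬 : Set (Subgroup Ω), (∀ R ∈ 𝒬, ∀ R' : Subgroup Ω, F.IsConj R R' → R' ∈ 𝒬) →
      (∀ E : Cfsg.FusionSystem S, (∀ R ∈ 𝒬, F.autGroup R ≤ E.autGroup R) → F ≤ E) →
      (∀ P, F.IsEssential p P → P ∈ 𝒬) ∧ (S ∉ 𝒬 → F.autGroup S ≤ E.autGroup S) := by
    intro 𝒬 hc hg
    constructor
    · intro P hess
      by_contra hP
      obtain ⟨E', h1, h2⟩ := Cfsg.Agent.S5326.result p hS F hF P hess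
      apply h2
      apply hg E'
      intro R hR
      by_cases hRS : R ≤ S
      · apply h1 R hRS
        intro hconj
        exact hP (hc R hR P (isConj_symm hconj))
      · exact autGroup_le_of_not_le F E' hRS
    · intro hSQ
      apply autGroup_top_le_of_le_topInner F E
      apply hg
      intro R hR
      apply autGroup_le_topInner
      rintro rfl
      exact hSQ hR
  obtain ⟨k1, k1'⟩ := key 𝒬₁ h₁ hg₁
  obtain ⟨k2, k2'⟩ := key 𝒬₂ h₂ hg₂
  apply Cfsg.Agent.S5082.result p hS F hF E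
  rintro P (rfl | hess)
  · by_cases hS1 : P ∈ 𝒬₁
    · by_cases hS2 : P ∈ 𝒬₂
      · exact hE P ⟨hS1, hS2⟩
      · exact k2' hS2
    · exact k1' hS1
  · exact hE P ⟨k1 P hess, k2 P hess⟩

end Cfsg.Agent.S5327
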