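import Cfsg.Statements.S5329
import Mathlib
import Cfsg.Agent.Lib.Helper85.Trans3

set_option autoImplicit false
open Cfsg

namespace Cfsg.Agent.S5329

open Cfsg.Agent.Helper85 Cfsg.Agent.Helper87
open scoped commutatorElement

variable {Ω : Type*} [Group Ω] {S : Subgroup Ω}

theorem commutator_le_focal (F : FusionSystem S) : ⁅(S : Subgroup Ω), (S : Subgroup Ω)⁆ ≤ F.focalSubgroup := by
  rw [Subgroup.commutator_le]
  intro a ha b hb
  apply Subgroup.subset_closure
  refine ⟨S, conjHom S b, ⟨a⁻¹, S.inv_mem ha⟩, F.conj_mem le_rfl hb, ?_⟩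
  show ⁅a, b⁆ = (a⁻¹)⁻¹ * (b * a⁻¹ * b⁻¹)
  rw [commutatorElement_def]
  group

theorem focal_le_ker {A : Type*} [CommGroup A] (F : FusionSystem S) (t : S →* A)
    (ht : ∀ (P : Subgroup Ω) (φ : P →* Ω) (hφ : φ ∈ F.Hom P) (x : P),
      t ⟨φ x, (F.le_of_mem hφ).2 x⟩ = t ⟨x, (F.le_of_mem hφ).1 x.2⟩) :
    F.focalSubgroup ≤ t.ker.map S.subtype := by
  unfold FusionSystem.focalSubgroup
  rw [Subgroup.closure_le]
  rintro y ⟨P, φ, x, hφ, rfl⟩
  refine ⟨(⟨x, (F.le_of_mem hφ).1 x.2⟩ : S)⁻¹ * ⟨φ x, (F.le_of_mem hφ).2 x⟩, ?_, rfl⟩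
  rw [SetLike.mem_coe, MonoidHom.mem_ker, map_mul, map_inv, ht P φ hφ x, inv_mul_cancel]

/-- For a saturated fusion system F over a finite p-group S, the focal subgroup and the derived subgroup of S meet the centre Z(F) of the system in the same subgroup: foc(F) ∩ Z(F) = S′ ∩ Z(F). -/
theorem result {Ω : Type*} [Group Ω] {S : Subgroup Ω} [Finite S] (p : ℕ) [Fact p.Prime] (hS : IsPGroup p S) (F : Cfsg.FusionSystem S) (hF : F.IsSaturated p) : F.focalSubgroup ⊓ F.center = ⁅(S : Subgroup Ω), (S : Subgroup Ω)⁆ ⊓ F.center := by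
  apply le_antisymm
  · rintro z ⟨hzf, hzc⟩
    refine ⟨?_, hzc⟩
    obtain ⟨t, k, hpk, ht1, ht2⟩ := exists_stable_transfer hS hF (Abelianization.of : S →* Abelianization S)
    obtain ⟨z', hz'ker, rfl⟩ := focal_le_ker F t ht1 hzf
    rw [SetLike.mem_coe, MonoidHom.mem_ker, ht2 z' hzc] at hz'ker
    -- the order of the image of z' is a power of p and divides k
    obtain ⟨e, he⟩ := hS z'
    have h1 : (Abelianization.of z' : Abelianization S) ^ p ^ e = 1 := by rw [← map_pow, he, map_one]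
    have hcop : Nat.Coprime k (p ^ e) :=
      Nat.Coprime.pow_right _ ((Nat.Prime.coprime_iff_not_dvd Fact.out).2 hpk).symm
    have h2 : orderOf (Abelianization.of z' : Abelianization S) ∣ Nat.gcd k (p ^ e) :=
      Nat.dvd_gcd (orderOf_dvd_of_pow_eq_one hz'ker) (orderOf_dvd_of_pow_eq_one h1)
    rw [hcop, Nat.dvd_one, orderOf_eq_one_iff] at h2
    have h3 : z' ∈ commutator S := by
      rw [← Abelianization.ker_of]; exact h2
    have h4 : (commutator S).map S.subtype = ⁅(S : Subgroup Ω), (S : Subgroup Ω)⁆ := by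
      rw [commutator_def, Subgroup.map_commutator, ← MonoidHom.range_eq_map, Subgroup.range_subtype]
    rw [← h4]
    exact ⟨z', h3, rfl⟩
  · rintro z ⟨hz1, hz2⟩
    exact ⟨commutator_le_focal F hz1, hz2⟩

end Cfsg.Agent.S5329
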