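import Mathlib
import Cfsg.Statements.S5330
import Cfsg.Agent.Lib.Helper88.FusionAbelian

set_option autoImplicit false
open Cfsg

namespace Cfsg.Agent.S5330

open Cfsg.FusionSystem Cfsg.Agent.Helper87 Cfsg.Agent.Helper88

/-- Let F be a saturated fusion system over a finite abelian p-group S. Then S is the internal direct product of the centre of the system and the focal subgroup: Z(F) ∩ foc(F) = 1 and Z(F)·foc(F) = S. -/
theorem result {Ω : Type*} [Group Ω] {S : Subgroup Ω} [Finite S] (p : ℕ) [Fact p.Prime] (hS : IsPGroup p S) (F : Cfsg.FusionSystem S) (hF : F.IsSaturated p) (hab : ∀ x ∈ S, ∀ y ∈ S, x * y = y * x) : F.center ⊓ F.focalSubgroup = ⊥ ∧ F.center ⊔ F.focalSubgroup = S := by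
  classical
  letI inst : CommGroup S :=
    { (inferInstance : Group S) with mul_comm := fun a b => Subtype.ext (hab a a.2 b b.2) }
  set A : Subgroup (MulAut S) := F.autGroup S with hA
  have hcop : Nat.Coprime (Nat.card A) (Nat.card S) := by
    obtain ⟨k, hk⟩ := (IsPGroup.iff_card).mp hS
    rw [hk]
    exact Nat.Coprime.pow_right k (coprime_card_autGroup_top hS hF hab)
  obtain ⟨hinf, hsup⟩ := coprime_decomp A hcop
  -- (1) the centre consists of fixed points
  have hc1 : F.center ≤ (fixedSub A).map S.subtype := by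
    refine sSup_le fun Q hQ => ?_
    obtain ⟨hQS, hext⟩ := hQ
    intro q hq
    refine ⟨⟨q, hQS hq⟩, ?_, rfl⟩
    intro α hα
    obtain ⟨φ, hφ, e⟩ := (mem_autGroup_iff le_rfl).1 hα
    obtain ⟨ψ, -, hψS, hψQ⟩ := hext S φ hφ
    have h1 := hψS ⟨q, hQS hq⟩
    have h2 := hψQ ⟨q, hq⟩
    have h12 : (Subgroup.inclusion (le_sup_left : S ≤ S ⊔ Q) ⟨q, hQS hq⟩) =
        Subgroup.inclusion (le_sup_right : Q ≤ S ⊔ Q) ⟨q, hq⟩ := Subtype.ext rfl
    rw [h12, h2] at h1
    apply Subtype.ext
    have h3 := e ⟨q, hQS hq⟩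
    rw [extAut_apply] at h3
    rw [← h3, ← h1]
  -- (2) fixed points are central
  have hc2 : (fixedSub A).map S.subtype ≤ F.center := by
    apply le_sSup
    refine ⟨?_, ?_⟩
    · rintro _ ⟨z, -, rfl⟩; exact z.2
    · intro P φ hφ
      obtain ⟨g, hg, hgf⟩ := exists_extension_top hS hF hab (mor_of_mem hφ)
      have hPS : P ≤ S := (F.le_of_mem hφ).1
      have hle : P ⊔ (fixedSub A).map S.subtype ≤ S := by
        apply sup_le hPS
        rintro _ ⟨z, -, rfl⟩; exact z.2
      obtain ⟨ψ, hψ, eψ⟩ := hg.1.restrict hle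
      refine ⟨ψ, hψ, fun x => ?_, fun x => ?_⟩
      · rw [eψ]
        show g (x : Ω) = φ x
        rw [hgf x x.2, extFun_apply]
      · rw [eψ]
        show g (x : Ω) = x
        obtain ⟨z, hz, hzx⟩ := x.2
        have h1 := hz hg.equiv (hg.equiv_mem_autGroup)
        have h2 : ((hg.equiv z : S) : Ω) = g z := hg.equiv_apply z
        rw [h1] at h2
        rw [← hzx]
        exact h2.symm
  -- (3) the focal subgroup lies in the commutator
  have hf1 : F.focalSubgroup ≤ (commSub A).map S.subtype := by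
    unfold focalSubgroup
    rw [Subgroup.closure_le]
    rintro y ⟨P, φ, x, hφ, rfl⟩
    obtain ⟨g, hg, hgf⟩ := exists_extension_top hS hF hab (mor_of_mem hφ)
    have hPS : P ≤ S := (F.le_of_mem hφ).1
    let x' : S := ⟨x, hPS x.2⟩
    refine ⟨x'⁻¹ * hg.equiv x', ?_, ?_⟩
    · exact Subgroup.subset_closure ⟨hg.equiv, hg.equiv_mem_autGroup, x', rfl⟩
    · show (x : Ω)⁻¹ * g x = (x : Ω)⁻¹ * φ x
      rw [hgf x x.2, extFun_apply]
  -- (4) the commutator lies in the focal subgroup
  have hf2 : (commSub A).map S.subtype ≤ F.focalSubgroup := by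
    rw [Subgroup.map_le_iff_le_comap]
    unfold commSub
    rw [Subgroup.closure_le]
    rintro y ⟨α, hα, x, rfl⟩
    obtain ⟨φ, hφ, e⟩ := (mem_autGroup_iff le_rfl).1 hα
    show S.subtype (x⁻¹ * α x) ∈ F.focalSubgroup
    apply Subgroup.subset_closure
    refine ⟨S, φ, x, hφ, ?_⟩
    rw [e x, extAut_apply]
    rfl
  have hcenter : F.center = (fixedSub A).map S.subtype := le_antisymm hc1 hc2
  have hfocal : F.focalSubgroup = (commSub A).map S.subtype := le_antisymm hf1 hf2
  rw [hcenter, hfocal]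
  constructor
  · rw [← Subgroup.map_inf _ _ _ S.subtype_injective, hinf, Subgroup.map_bot]
  · rw [← Subgroup.map_sup, hsup, ← MonoidHom.range_eq_map, Subgroup.range_subtype]

end Cfsg.Agent.S5330
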