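import Mathlib
import Cfsg.Statements.S5331
import Cfsg.Agent.Lib.Helper88.OddAutDistinct
import Cfsg.Agent.Lib.Helper88.FusionInnerAbelian
import Cfsg.Agent.Lib.Helper88.FusionAbelian

set_option autoImplicit false
open Cfsg

namespace Cfsg.Agent.S5331

open Cfsg.FusionSystem Cfsg.Agent.Helper87 Cfsg.Agent.Helper88

/-- Let S be a finite abelian 2-group that is a direct product of cyclic groups of pairwise distinct orders 2^{a_1} < 2^{a_2} < ⋯ < 2^{a_n} (all a_i ≥ 1). Then every saturated fusion system over S is the inner one: its maps are exactly the conjugations by elements of S. -/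
theorem result {Ω : Type*} [Group Ω] {S : Subgroup Ω} [Finite S] (n : ℕ) (a : Fin n → ℕ) (ha : StrictMono a) (ha1 : ∀ i, 1 ≤ a i) (e : ↥S ≃* Multiplicative ((i : Fin n) → ZMod (2 ^ a i))) (F : Cfsg.FusionSystem S) (hF : F.IsSaturated 2) (P : Subgroup Ω) : F.Hom P = (Cfsg.innerFusionSystem S).Hom P := by
  classical
  have hab : ∀ x ∈ S, ∀ y ∈ S, x * y = y * x := by
    intro x hx y hy
    have h1 : (⟨x, hx⟩ : S) * ⟨y, hy⟩ = ⟨y, hy⟩ * ⟨x, hx⟩ := by
      apply e.injective
      rw [map_mul, map_mul, mul_comm]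
    exact congrArg Subtype.val h1
  have haK : ∀ i, a i ≤ ∑ i, a i :=
    fun i => Finset.single_le_sum (fun _ _ => Nat.zero_le _) (Finset.mem_univ i)
  have hS : IsPGroup 2 S := by
    intro g
    refine ⟨∑ i, a i, ?_⟩
    apply e.injective
    rw [map_pow, map_one]
    apply Multiplicative.toAdd.injective
    rw [toAdd_pow, toAdd_one]
    funext i
    rw [Pi.smul_apply]
    exact zmod_pow_nsmul_eq_zero (haK i) _
  apply Set.Subset.antisymm
  · intro φ hφ
    have hP : P ≤ S := (F.le_of_mem hφ).1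
    have hf : Mor F P (extFun φ) := mor_of_mem hφ
    obtain ⟨g, hg, hgf⟩ := exists_extension_top hS hF hab hf
    have hβA : hg.equiv ∈ F.autGroup S := hg.equiv_mem_autGroup
    have hcop := coprime_card_autGroup_top hS hF hab
    have hodd : Odd (Nat.card (F.autGroup S)) := Nat.Coprime.odd_of_right hcop
    have hpow : (hg.equiv : MulAut S) ^ Nat.card (F.autGroup S) = 1 := by
      have h1 : (⟨hg.equiv, hβA⟩ : F.autGroup S) ^ Nat.card (F.autGroup S) = 1 := pow_card_eq_one'
      have h2 : ((⟨hg.equiv, hβA⟩ : F.autGroup S) ^ Nat.card (F.autGroup S) : F.autGroup S).1 =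
          (1 : F.autGroup S).1 := by rw [h1]
      rw [Subgroup.coe_pow] at h2
      exact h2
    have hβ1 := mulAut_eq_one_of_odd a ha ha1 e (hg.equiv : MulAut S) _ hodd hpow
    have hφx : ∀ x : P, φ x = x := by
      intro x
      have h1 : g x = extFun φ x := hgf x x.2
      rw [extFun_apply] at h1
      rw [← h1]
      have h2 : ((hg.equiv ⟨x, hP x.2⟩ : S) : Ω) = g x := hg.equiv_apply _
      rw [← h2]
      have h3 : hg.equiv ⟨x, hP x.2⟩ = (1 : MulAut S) ⟨x, hP x.2⟩ := by
        rw [← hβ1]
      rw [h3]; rfl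
    have : φ = conjHom P 1 := by
      ext x
      rw [hφx, conjHom_one_apply]
    rw [this]
    exact incl_mem_inner hP
  · intro ψ hψ
    obtain ⟨hP, g, hg, h⟩ := hψ
    have : ψ = conjHom P g := by
      ext x; exact h x
    rw [this]
    exact F.conj_mem hP hg

end Cfsg.Agent.S5331
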