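import Mathlib
import Cfsg.Statements.S5333
import Cfsg.Agent.S5097
import Cfsg.Agent.Lib.Helper87.FusionAlperin
import Cfsg.Agent.Lib.Helper87.FusionMore

set_option autoImplicit false
open Cfsg

namespace Cfsg.Agent.S5333

open Cfsg.FusionSystem Cfsg.Agent.Helper87

/-- Let F′ ≤ F be saturated fusion systems over the same finite p-group S. Suppose that for every subgroup Z ≤ S of order p that is fully centralized in F′, the maps of F and of F′ with source Z coincide and the centralizer systems C_F(Z) and C_{F′}(Z) coincide. Then F = F′. -/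
theorem result {Ω : Type*} [Group Ω] {S : Subgroup Ω} [Finite S] (p : ℕ) [Fact p.Prime] (hS : IsPGroup p S) (F : Cfsg.FusionSystem S) (hF : F.IsSaturated p) (F' : Cfsg.FusionSystem S) (hF' : F'.IsSaturated p) (hle : F' ≤ F) (hZ : ∀ Z : Subgroup Ω, Z ≤ S → Nat.card Z = p → F'.IsFullyCentralized Z → F.Hom Z = F'.Hom Z ∧ ∀ (C C' : Cfsg.FusionSystem (Cfsg.FusionSystem.centralizerIn S Z)), F.IsCentralizerSystem Z C → F'.IsCentralizerSystem Z C' → ∀ P : Subgroup Ω, C.Hom P = C'.Hom P) (P : Subgroup Ω) : F.Hom P = F'.Hom P := by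
  classical
  have hp : p.Prime := Fact.out
  apply Set.Subset.antisymm _ (hle P)
  intro φ hφ
  by_cases hS1 : Nontrivial S
  swap
  · -- trivial S
    rw [not_nontrivial_iff_subsingleton] at hS1
    have hPS : P ≤ S := (F.le_of_mem hφ).1
    have : φ = conjHom P 1 := by
      ext x
      have hx : (⟨x, hPS x.2⟩ : S) = 1 := Subsingleton.elim _ _
      have hx1 : (x : Ω) = 1 := congrArg Subtype.val hx
      have hx2 : x = 1 := Subtype.ext hx1
      rw [hx2, map_one, map_one]
    rw [this]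
    exact F'.conj_mem hPS S.one_mem
  -- a central element of order p
  have hcn : Nontrivial (Subgroup.center S) := hS.center_nontrivial
  have hdvd : p ∣ Nat.card (Subgroup.center S) := by
    obtain ⟨k, hk⟩ := IsPGroup.iff_card.1 (hS.to_subgroup (Subgroup.center S))
    rw [hk]
    have hk0 : k ≠ 0 := by
      rintro rfl
      rw [pow_zero] at hk
      have := (Nat.card_eq_one_iff_unique.1 hk).1
      exact not_nontrivial _ hcn
    exact dvd_pow_self p hk0
  obtain ⟨z₀, hz₀⟩ := exists_prime_orderOf_dvd_card' p hdvd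
  set z : Ω := ((z₀ : S) : Ω) with hzdef
  have hzS : z ∈ S := (z₀ : S).2
  have hzord : orderOf z = p := by
    rw [hzdef, Subgroup.orderOf_coe, Subgroup.orderOf_coe]; exact hz₀
  have hzcomm : ∀ s ∈ S, s * z = z * s := by
    intro s hs
    have h1 := Subgroup.mem_center_iff.1 z₀.2 ⟨s, hs⟩
    exact congrArg Subtype.val h1
  let Z : Subgroup Ω := Subgroup.zpowers z
  have hZS : Z ≤ S := by
    rw [Subgroup.zpowers_le]; exact hzS
  have hZcard : Nat.card Z = p := by rw [Nat.card_zpowers, hzord]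
  have hZcomm : ∀ s ∈ S, ∀ y ∈ Z, y * s = s * y := by
    intro s hs y hy
    obtain ⟨i, rfl⟩ := Subgroup.mem_zpowers_iff.1 hy
    exact ((Commute.zpow_right (hzcomm s hs) i).eq).symm
  have hCZ : centralizerIn S Z = S := by
    apply le_antisymm inf_le_left
    intro s hs
    exact ⟨hs, fun y hy => hZcomm s hs y hy⟩
  have hfc : F'.IsFullyCentralized Z := by
    refine ⟨hZS, fun Q _ => ?_⟩
    rw [hCZ]; exact card_centralizerIn_le Q
  obtain ⟨hHomZ, hCsys⟩ := hZ Z hZS hZcard hfc
  obtain ⟨C, hC⟩ := Cfsg.Agent.S5097.result F Z hZS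
  obtain ⟨C', hC'⟩ := Cfsg.Agent.S5097.result F' Z hZS
  have hCH : ∀ P : Subgroup Ω, F.centralizerHom Z P = F'.centralizerHom Z P := by
    intro P
    rw [← hC P, ← hC' P]
    exact hCsys C C' hC hC' P
  have hrec := receptive_of_fullyCentralized hS hF' hfc
  rw [mem_hom_iff_mor]
  have hAC : AlperinClosed F (fun P f => Mor F' P f) :=
    { congr := fun h hfg => h.congr hfg
      restrict := fun _ h hQP => h.restrict hQP
      comp := fun _ _ hPQ h1 h2 => h1.comp h2 hPQ }
  refine alperin hS hF (fun P f => Mor F' P f) hAC ?_ P _ (mor_of_mem hφ)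
  intro R _ hRcen _ α hα
  have hRS : R ≤ S := hRcen.1
  have ha : Mor F R (extAut α) := (mem_autGroup_iff hRS).1 hα
  have haI : Iso F R R (extAut α) := iso_of_mor_extAut ha
  set a := extAut α with hadef
  have hzR : z ∈ R := by
    apply hRcen.2 R (isConj_refl hRS)
    exact ⟨hzS, fun y hy => hzcomm y (hRS hy)⟩
  have hZR : Z ≤ R := by
    rw [Subgroup.zpowers_le]; exact hzR
  have haZ : Mor F Z a := ha.restrict hZR
  have haZ' : Mor F' Z a := by
    obtain ⟨ψ, hψ, e⟩ := haZ
    exact ⟨ψ, hHomZ ▸ hψ, e⟩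
  have hI : Iso F' Z haZ'.image a := Iso.of_mor haZ'
  obtain ⟨b, hb, eb1, eb2⟩ := hI.symm
  obtain ⟨g, hg, eg⟩ := (isReceptive_iff.1 hrec).2 _ b hb
  have hRext : R ≤ hb.ext := by
    refine le_trans ?_ hb.centralizerIn_le_ext
    intro r hr
    refine ⟨hRS hr, ?_⟩
    rintro y ⟨x, hx, rfl⟩
    obtain ⟨r', hr', rfl⟩ := haI.surj hr
    rw [← ha.map_mul (hZR hx) hr', ← ha.map_mul hr' (hZR hx), hZcomm r' (hRS hr') x hx]
  have hgR : Mor F' R g := hg.restrict hRext
  have haR : ∀ x ∈ R, a x ∈ R := fun x hx => haI.map_mem hx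
  have hh : Mor F R (fun x => g (a x)) := ha.comp (Mor.of_subsystem hle hgR) haR
  have hhZ : ∀ x ∈ Z, g (a x) = x := by
    intro x hx
    rw [eg (a x) ⟨x, hx, rfl⟩, eb1 x hx]
  -- h lies in the centralizer system
  have hh' : Mor F' R (fun x => g (a x)) := by
    obtain ⟨φh, hφh, eh⟩ := hh
    have hsup : R ⊔ Z = R := sup_eq_left.2 hZR
    have hψ : Mor F (R ⊔ Z) (fun x => g (a x)) := by
      rw [hsup]; exact ⟨φh, hφh, eh⟩
    obtain ⟨ψ, hψ, eψ⟩ := hψ
    have hmem : φh ∈ F.centralizerHom Z R := by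
      refine ⟨hφh, ?_, ?_, ψ, hψ, ?_, ?_⟩
      · rw [hCZ]; exact hRS
      · intro x
        rw [hCZ]; exact (F.le_of_mem hφh).2 x
      · intro x
        rw [eψ, eh]; rfl
      · intro x
        rw [eψ]
        exact hhZ x x.2
    rw [hCH R] at hmem
    exact ⟨φh, hmem.1, eh⟩
  obtain ⟨g', hg', e1, e2⟩ := (Iso.of_mor hgR).symm
  have h4 : Mor F' R (fun x => g' (g (a x))) :=
    hh'.comp hg'.1 (fun x hx => ⟨a x, haR x hx, rfl⟩)
  exact h4.congr (fun x hx => e1 _ (haR x hx))

end Cfsg.Agent.S5333
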