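import Mathlib
import Cfsg.Statements.S5334
import Cfsg.Agent.Lib.Helper88.FusionCentricUnique

set_option autoImplicit false
open Cfsg

namespace Cfsg.Agent.S5334

open Cfsg.FusionSystem Cfsg.Agent.Helper87 Cfsg.Agent.Helper88

/-- Let F′ ≤ F be saturated fusion systems over the same finite p-group S, let Q and R be F-centric subgroups, φ a map of F with source Q and values in R, and ψ a map of F with source R. If two of φ, ψ and the composite ψ ∘ φ are maps of F′ then so is the third. -/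
theorem result {Ω : Type*} [Group Ω] {S : Subgroup Ω} [Finite S] (p : ℕ) [Fact p.Prime] (hS : IsPGroup p S) (F : Cfsg.FusionSystem S) (hF : F.IsSaturated p) (F' : Cfsg.FusionSystem S) (hF' : F'.IsSaturated p) (hle : F' ≤ F) (Q R : Subgroup Ω) (hQ : F.IsCentric Q) (hR : F.IsCentric R) (φ : ↥Q →* Ω) (hφ : φ ∈ F.Hom Q) (hφR : ∀ x : Q, φ x ∈ R) (ψ : ↥R →* Ω) (hψ : ψ ∈ F.Hom R) : (φ ∈ F'.Hom Q → ψ ∈ F'.Hom R → ψ.comp (φ.codRestrict R hφR) ∈ F'.Hom Q) ∧ (ψ ∈ F'.Hom R → ψ.comp (φ.codRestrict R hφR) ∈ F'.Hom Q → φ ∈ F'.Hom Q) ∧ (φ ∈ F'.Hom Q → ψ.comp (φ.codRestrict R hφR) ∈ F'.Hom Q → ψ ∈ F'.Hom R) := by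
  classical
  have hcomp : ∀ x ∈ Q, extFun (ψ.comp (φ.codRestrict R hφR)) x = extFun ψ (extFun φ x) := by
    intro x hx
    rw [extFun_mem _ hx, extFun_mem φ hx, extFun_mem ψ (hφR ⟨x, hx⟩)]
    rfl
  have hfR : ∀ x ∈ Q, extFun φ x ∈ R := by
    intro x hx
    rw [extFun_mem φ hx]; exact hφR ⟨x, hx⟩
  refine ⟨fun h1 h2 => F'.comp_mem h1 h2 hφR, fun h2 h3 => ?_, fun h1 h3 => ?_⟩
  · have hg : Mor F' R (extFun ψ) := mor_of_mem h2
    have hgf : Mor F' Q (fun x => extFun ψ (extFun φ x)) := (mor_of_mem h3).congr hcomp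
    obtain ⟨g', hg', e1, e2⟩ := (Iso.of_mor hg).symm
    have h4 : Mor F' Q (fun x => g' (extFun ψ (extFun φ x))) :=
      hgf.comp hg'.1 (fun x hx => ⟨extFun φ x, hfR x hx, rfl⟩)
    rw [mem_hom_iff_mor]
    exact h4.congr (fun x hx => e1 _ (hfR x hx))
  · have hf : Mor F' Q (extFun φ) := mor_of_mem h1
    have hgf : Mor F' Q (fun x => extFun ψ (extFun φ x)) := (mor_of_mem h3).congr hcomp
    obtain ⟨f', hf', e1, e2⟩ := (Iso.of_mor hf).symm
    have h4 : Mor F' hf.image (fun y => extFun ψ (extFun φ (f' y))) :=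
      hf'.1.comp hgf (fun y hy => hf'.map_mem hy)
    have h5 : Mor F' hf.image (extFun ψ) := h4.congr (fun y hy => by rw [e2 y hy])
    have hPR : hf.image ≤ R := by
      rintro y ⟨x, hx, rfl⟩
      exact hfR x hx
    have hIso : Iso F Q hf.image (extFun φ) := ⟨mor_of_mem hφ, (Iso.of_mor hf).2⟩
    have hPcen : F.IsCentric hf.image := isCentric_of_conj hQ (isConj_iff.2 ⟨_, hIso⟩)
    rw [mem_hom_iff_mor]
    exact mor_sub_of_centric hS hF hF' hle (mor_of_mem hψ) hf.image hPR hPcen h5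

end Cfsg.Agent.S5334
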