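import Mathlib
import Cfsg.Statements.S5335
import Cfsg.Agent.Lib.Helper88.FusionCentricUnique
import Cfsg.Agent.Lib.Helper87.FusionAlperin

set_option autoImplicit false
open Cfsg

namespace Cfsg.Agent.S5335

open Cfsg.FusionSystem Cfsg.Agent.Helper87 Cfsg.Agent.Helper88

/-- Let F′ ≤ F be saturated fusion systems over the same finite p-group S. If the maps of F and of F′ with source Q coincide for every F-centric subgroup Q that is minimal among F-centric subgroups, then F = F′. -/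
theorem result {Ω : Type*} [Group Ω] {S : Subgroup Ω} [Finite S] (p : ℕ) [Fact p.Prime] (hS : IsPGroup p S) (F : Cfsg.FusionSystem S) (hF : F.IsSaturated p) (F' : Cfsg.FusionSystem S) (hF' : F'.IsSaturated p) (hle : F' ≤ F) (hmin : ∀ Q : Subgroup Ω, F.IsCentric Q → (∀ R : Subgroup Ω, R < Q → ¬ F.IsCentric R) → F.Hom Q = F'.Hom Q) (P : Subgroup Ω) : F.Hom P = F'.Hom P := by
  classical
  apply Set.Subset.antisymm _ (hle P)
  intro φ hφ
  rw [mem_hom_iff_mor]
  have hC : AlperinClosed F (fun P f => Mor F' P f) :=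
    { congr := fun h hfg => h.congr hfg
      restrict := fun _ h hQP => h.restrict hQP
      comp := fun _ _ hPQ h1 h2 => h1.comp h2 hPQ }
  refine alperin hS hF (fun P f => Mor F' P f) hC ?_ P _ (mor_of_mem hφ)
  intro R _ hRcen _ α hα
  have hαF : Mor F R (extAut α) := (mem_autGroup_iff hRcen.1).1 hα
  -- a minimal centric subgroup of R
  let s : Set (Subgroup Ω) := {Q | Q ≤ R ∧ F.IsCentric Q}
  have hs : R ∈ s := ⟨le_rfl, hRcen⟩
  let c : Subgroup Ω → ℕ := fun Q => Nat.card Q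
  have hQ0 : Function.argminOn c s ⟨R, hs⟩ ∈ s := Function.argminOn_mem c s _
  set Q := Function.argminOn c s ⟨R, hs⟩ with hQdef
  have hQmin : ∀ R' : Subgroup Ω, R' < Q → ¬ F.IsCentric R' := by
    intro R' hlt hcen
    have h1 : R' ∈ s := ⟨hlt.le.trans hQ0.1, hcen⟩
    have h2 : c Q ≤ c R' := Function.argminOn_le c s h1
    obtain ⟨x, hxQ, hxR'⟩ := SetLike.exists_of_lt hlt
    have h3 : Nat.card R' < Nat.card Q := card_lt_of_not_mem hlt.le hQ0.2.1 hxQ hxR'
    exact absurd h2 (not_le.2 h3)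
  have heq := hmin Q hQ0.2 hQmin
  have h4 : Mor F Q (extAut α) := hαF.restrict hQ0.1
  have h5 : Mor F' Q (extAut α) := by
    obtain ⟨ψ, hψ, e⟩ := h4
    exact ⟨ψ, heq ▸ hψ, e⟩
  exact mor_sub_of_centric hS hF hF' hle hαF Q hQ0.1 hQ0.2 h5

end Cfsg.Agent.S5335
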