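import Mathlib
import Cfsg.Statements.S5336
import Cfsg.Agent.S5118

set_option autoImplicit false
open Cfsg

namespace Cfsg.Agent.S5336

/-- Let G be a finite group with Sylow p-subgroup S whose fusion system F_S(G) is simple. If G has no nontrivial normal subgroup of order prime to p and no proper subgroup H containing S induces the same fusion system on S as G does, then G is a simple group. -/
theorem result {G : Type*} [Group G] [Finite G] (p : ℕ) [Fact p.Prime] (S : Sylow p G) (hsimple : (Cfsg.groupFusionSystem (S : Subgroup G)).IsSimple p) (hcore : Cfsg.pPrimeCore p G = ⊥) (hmin : ∀ (H : Subgroup G) (hSH : (S : Subgroup G) ≤ H), H ≠ ⊤ → ∃ P : Subgroup G, (Cfsg.fusionSystemOfSubgroup H (S : Subgroup G) hSH).Hom P ≠ (Cfsg.groupFusionSystem (S : Subgroup G)).Hom P) : IsSimpleGroup G := by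
  classical
  have hp : p.Prime := Fact.out
  obtain ⟨-, hSne, hnorm⟩ := hsimple
  have hnt : Nontrivial G := by
    obtain ⟨x, hx1⟩ := (Subgroup.ne_bot_iff_exists_ne_one).1 hSne
    exact ⟨⟨(x : G), 1, fun h => hx1 (Subtype.ext h)⟩⟩
  refine { exists_pair_ne := hnt.exists_pair_ne, eq_bot_or_eq_top_of_normal := ?_ }
  intro N hNn
  by_cases hN : N = ⊥
  · left; exact hN
  right
  have hE := Cfsg.Agent.S5118.result p S N
  rcases hnorm _ _ hE with h | ⟨h1, h2⟩
  · -- `N` is a `p'`-group
    exfalso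
    apply hN
    have hcop : (Nat.card N).Coprime p := by
      rw [Nat.coprime_comm, Nat.Prime.coprime_iff_not_dvd hp]
      intro hdvd
      obtain ⟨x, hx⟩ := exists_prime_orderOf_dvd_card' p hdvd
      have hxo : orderOf (x : G) = p := by rw [Subgroup.orderOf_coe]; exact hx
      have hxp : (x : G) ^ p ^ 1 = 1 := by rw [pow_one, ← hxo]; exact pow_orderOf_eq_one _
      have hzp : IsPGroup p (Subgroup.zpowers (x : G)) := by
        rintro ⟨y, hy⟩
        obtain ⟨i, rfl⟩ := Subgroup.mem_zpowers_iff.1 hy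
        refine ⟨1, Subtype.ext ?_⟩
        show ((x : G) ^ i) ^ p ^ 1 = 1
        rw [← zpow_natCast, ← zpow_mul, mul_comm, zpow_mul, zpow_natCast, hxp, one_zpow]
      obtain ⟨Q, hQ⟩ := hzp.exists_le_sylow
      obtain ⟨b, hb⟩ := MulAction.exists_smul_eq G Q S
      have hxQ : (x : G) ∈ Q := hQ (Subgroup.mem_zpowers _)
      have hbS : b * (x : G) * b⁻¹ ∈ (S : Subgroup G) := by
        rw [← hb]
        show b * (x : G) * b⁻¹ ∈ ((b • Q : Sylow p G) : Subgroup G)
        rw [Sylow.coe_subgroup_smul]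
        exact ⟨(x : G), hxQ, by simp [MulAut.conj_apply]⟩
      have hbN : b * (x : G) * b⁻¹ ∈ N := hNn.conj_mem _ x.2 b
      have h3 : b * (x : G) * b⁻¹ ∈ (S : Subgroup G) ⊓ N := ⟨hbS, hbN⟩
      rw [h, Subgroup.mem_bot] at h3
      have h4 : (x : G) = 1 := by
        have : (x : G) = b⁻¹ * (b * (x : G) * b⁻¹) * b := by group
        rw [this, h3]; group
      rw [h4, orderOf_one] at hxo
      exact hp.one_lt.ne hxo
    have hle : N ≤ pPrimeCore p G := le_sSup ⟨hNn, hcop⟩
    rw [hcore] at hle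
    exact le_bot_iff.1 hle
  · have hSN : (S : Subgroup G) ≤ N := inf_eq_left.1 h1
    by_contra hNtop
    obtain ⟨P, hP⟩ := hmin N hSN hNtop
    apply hP
    rw [← h2 P]
    have key : ∀ (T₁ T₂ : Subgroup G) (h₁ : T₁ ≤ N) (h₂ : T₂ ≤ N), T₁ = T₂ →
        (fusionSystemOfSubgroup N T₁ h₁).Hom P = (fusionSystemOfSubgroup N T₂ h₂).Hom P := by
      intro T₁ T₂ h₁ h₂ e
      subst e
      rfl
    exact key _ _ _ _ h1.symm

end Cfsg.Agent.S5336
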