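import Mathlib
import Cfsg.Statements.S5338
import Cfsg.Agent.Lib.Helper87.FusionAlperin
import Cfsg.Agent.Lib.Helper87.FusionMore

set_option autoImplicit false
open Cfsg

namespace Cfsg.Agent.S5338

open Cfsg.FusionSystem Cfsg.Agent.Helper87

theorem mor_of_le {Ω : Type*} [Group Ω] {S : Subgroup Ω} {F F' : FusionSystem S} (hle : F' ≤ F)
    {P : Subgroup Ω} {f : Ω → Ω} (h : Mor F' P f) : Mor F P f := by
  obtain ⟨φ, hφ, e⟩ := h
  exact ⟨φ, hle P hφ, e⟩

/-- conjugation invariance at the level of automorphism groups -/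
theorem conj_mem_autGroup {Ω : Type*} [Group Ω] {S : Subgroup Ω} (F F' : FusionSystem S)
    (hinv : ∀ (Q : Subgroup Ω) (φ : ↥Q →* Ω), φ ∈ F.Hom Q → ∀ (R : Subgroup Ω) (hRQ : R ≤ Q) (ψ : ↥R →* Ω), ψ ∈ F'.Hom R → ∀ (hψQ : ∀ x : R, ψ x ∈ Q), ∃ χ ∈ F'.Hom ((R.subgroupOf Q).map φ), ∀ (x : R) (hx : φ ⟨(x : Ω), hRQ x.2⟩ ∈ (R.subgroupOf Q).map φ), χ ⟨φ ⟨(x : Ω), hRQ x.2⟩, hx⟩ = φ ⟨ψ x, hψQ x⟩)
    {R : Subgroup Ω} (hRS : R ≤ S) {α β : MulAut R} (hα : α ∈ F.autGroup R) (hβ : β ∈ F'.autGroup R) :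
    α * β * α⁻¹ ∈ F'.autGroup R := by
  classical
  have hφ : R.subtype.comp α.toMonoidHom ∈ F.Hom R :=
    mem_hom_iff_mor.2 ((mem_autGroup_iff hRS).1 hα)
  have hψ : R.subtype.comp β.toMonoidHom ∈ F'.Hom R :=
    mem_hom_iff_mor.2 ((mem_autGroup_iff hRS).1 hβ)
  obtain ⟨χ, hχ, eχ⟩ := hinv R _ hφ R le_rfl _ hψ (fun x => (β x).2)
  have hEq : (R.subgroupOf R).map (R.subtype.comp α.toMonoidHom) = R := by
    ext y
    constructor
    · rintro ⟨x, -, rfl⟩
      exact (α x).2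
    · intro hy
      refine ⟨α⁻¹ ⟨y, hy⟩, ?_, ?_⟩
      · show _ ∈ R.subgroupOf R
        rw [Subgroup.mem_subgroupOf]; exact (α⁻¹ ⟨y, hy⟩).2
      · show ((α (α⁻¹ ⟨y, hy⟩) : R) : Ω) = y
        rw [MulAut.apply_inv_self]
  have hmor : Mor F' ((R.subgroupOf R).map (R.subtype.comp α.toMonoidHom)) (extFun χ) :=
    mor_of_mem hχ
  have key : ∀ x : R, extFun χ ((α x : R) : Ω) = ((α (β x) : R) : Ω) := by
    intro x
    have hx : ((α x : R) : Ω) ∈ (R.subgroupOf R).map (R.subtype.comp α.toMonoidHom) := by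
      rw [hEq]; exact (α x).2
    rw [extFun_mem χ hx]
    exact eχ x hx
  generalize extFun χ = c at hmor key
  rw [hEq] at hmor
  rw [mem_autGroup_iff hRS]
  refine hmor.congr (fun y hy => ?_)
  rw [extAut_mem _ hy]
  have h1 := key (α⁻¹ ⟨y, hy⟩)
  rw [MulAut.apply_inv_self] at h1
  rw [h1]
  rfl

/-- Let F be a saturated fusion system over a finite p-group S and F′ ≤ F a saturated subsystem over all of S that is invariant under F in the conjugation sense: for every map φ of F with source Q and every map ψ of F′ between subgroups R ≤ Q (with values in Q), the transported map φψφ⁻¹ defined on φ(R) is again a map of F′. If moreover Aut_{F′}(S) = Aut_F(S), then F′ = F. -/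
theorem result {Ω : Type*} [Group Ω] {S : Subgroup Ω} [Finite S] (p : ℕ) [Fact p.Prime] (hS : IsPGroup p S) (F : Cfsg.FusionSystem S) (hF : F.IsSaturated p) (F' : Cfsg.FusionSystem S) (hF' : F'.IsSaturated p) (hle : F' ≤ F) (hinv : ∀ (Q : Subgroup Ω) (φ : ↥Q →* Ω), φ ∈ F.Hom Q → ∀ (R : Subgroup Ω) (hRQ : R ≤ Q) (ψ : ↥R →* Ω), ψ ∈ F'.Hom R → ∀ (hψQ : ∀ x : R, ψ x ∈ Q), ∃ χ ∈ F'.Hom ((R.subgroupOf Q).map φ), ∀ (x : R) (hx : φ ⟨(x : Ω), hRQ x.2⟩ ∈ (R.subgroupOf Q).map φ), χ ⟨φ ⟨(x : Ω), hRQ x.2⟩, hx⟩ = φ ⟨ψ x, hψQ x⟩) (htop : F'.autGroup S = F.autGroup S) (P : Subgroup Ω) : F'.Hom P = F.Hom P := by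
  classical
  apply Set.Subset.antisymm (hle P)
  intro φ hφ
  rw [mem_hom_iff_mor]
  have hAC : AlperinClosed F (fun P f => Mor F' P f) :=
    { congr := fun h hfg => h.congr hfg
      restrict := fun _ h hQP => h.restrict hQP
      comp := fun _ _ hPQ h1 h2 => h1.comp h2 hPQ }
  refine alperin_fullyNormalized hS hF (fun P f => Mor F' P f) hAC ?_ P _ (mor_of_mem hφ)
  intro R hfn IH α hα
  have hRS : R ≤ S := hfn.1
  by_cases hRtop : R = S
  · subst hRtop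
    rw [← htop] at hα
    exact (mem_autGroup_iff le_rfl).1 hα
  have hfinR : Finite R := finite_of_le hRS
  -- the normal subgroup N = Aut_{F'}(R) of A = Aut_F(R)
  let N : Subgroup (F.autGroup R) := (F'.autGroup R).subgroupOf (F.autGroup R)
  have hNnormal : N.Normal := by
    constructor
    intro n hn g
    show ((g * n * g⁻¹ : F.autGroup R) : MulAut R) ∈ F'.autGroup R
    exact conj_mem_autGroup F F' hinv hRS g.2 hn
  obtain ⟨-, P₀, hP₀⟩ := fullyAutomized_of_fullyNormalized hS hF hfn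
  have hP₀N : (P₀ : Subgroup (F.autGroup R)) ≤ N := by
    rw [hP₀]
    intro x hx
    exact autInducedBy_le_autGroup F' hRS hx
  have hfrat := Sylow.normalizer_sup_eq_top' P₀ hP₀N
  have hmem : (⟨α, hα⟩ : F.autGroup R) ∈ (Subgroup.normalizer (P₀ : Set (F.autGroup R)) ⊔ N : Subgroup (F.autGroup R)) := by
    rw [hfrat]; trivial
  rw [← SetLike.mem_coe, Subgroup.mul_normal] at hmem
  obtain ⟨γ, hγ, β, hβ, hγβ⟩ := Set.mem_mul.1 hmem
  -- β lies in F'
  have hβ' : Mor F' R (extAut (β : MulAut R)) := (mem_autGroup_iff hRS).1 hβ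
  -- γ extends to the normalizer
  have hγF : Mor F R (extAut (γ : MulAut R)) := (mem_autGroup_iff hRS).1 γ.2
  have hγI : Iso F R R (extAut (γ : MulAut R)) := iso_of_mor_extAut hγF
  obtain ⟨g, hg, eg⟩ := (isReceptive_iff.1 (receptive_of_fullyNormalized hS hF hfn)).2 R _ hγI
  have hNext : normalizerIn S R ≤ hγI.ext := by
    intro n hn
    let cn : F.autGroup R := ⟨conjAut R n hn.2,
      autInducedBy_le_autGroup F hRS (conjAut_mem_autInducedBy hn.1 hn.2)⟩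
    have hcn : cn ∈ (P₀ : Subgroup (F.autGroup R)) := by
      rw [hP₀]
      exact conjAut_mem_autInducedBy hn.1 hn.2
    have h1 : γ * cn * γ⁻¹ ∈ (P₀ : Subgroup (F.autGroup R)) :=
      (Subgroup.mem_normalizer_iff.1 hγ cn).1 hcn
    rw [hP₀, Subgroup.mem_subgroupOf] at h1
    obtain ⟨k, hk, ek⟩ := mem_autInducedBy_iff.1 h1
    refine ⟨hn.1, hn.2, k, hk, fun x hx => ?_⟩
    have h2 := ek ((γ : MulAut R) ⟨x, hx⟩)
    have hx' : n * x * n⁻¹ ∈ R := (Subgroup.mem_normalizer_iff.1 hn.2 x).1 hx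
    have h3 : ((γ * cn * γ⁻¹ : F.autGroup R) : MulAut R) ((γ : MulAut R) ⟨x, hx⟩) =
        (γ : MulAut R) ⟨n * x * n⁻¹, hx'⟩ := by
      show (γ : MulAut R) ((conjAut R n hn.2) ((γ : MulAut R)⁻¹ ((γ : MulAut R) ⟨x, hx⟩))) = _
      rw [MulAut.inv_apply_self]
      rfl
    rw [h3] at h2
    rw [extAut_mem _ hx', extAut_mem _ hx]
    exact h2
  obtain ⟨n₀, hn₀, hn₀R⟩ := exists_normalizer_not_mem hS hRS hRtop
  have hlt : Nat.card R < Nat.card (normalizerIn S R) :=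
    card_lt_of_not_mem (le_normalizerIn hRS) inf_le_left hn₀ hn₀R
  have hg' : Mor F' (normalizerIn S R) g := IH _ g (hg.restrict hNext) hlt
  have hγ' : Mor F' R (extAut (γ : MulAut R)) :=
    (hg'.restrict (le_normalizerIn hRS)).congr (fun x hx => eg x hx)
  have hcomp := hβ'.comp hγ' (fun x hx => extAut_mem_self _ hx)
  refine hcomp.congr (fun x hx => ?_)
  have hαeq : α = (γ : MulAut R) * (β : MulAut R) := by
    have := congrArg Subtype.val hγβ
    exact this.symm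
  rw [hαeq, extAut_mul _ _ hx]

end Cfsg.Agent.S5338
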