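import Mathlib
import Cfsg.Statements.S5341
import Cfsg.Agent.Lib.Helper87.FusionSaturated

set_option autoImplicit false
open Cfsg

namespace Cfsg.Agent.S5341

open Cfsg.FusionSystem Cfsg.Agent.Helper87

variable {Ω : Type*} [Group Ω] {S : Subgroup Ω}

theorem centralizerIn_le_normalizerIn (S P : Subgroup Ω) : centralizerIn S P ≤ normalizerIn S P := by
  intro x hx
  have h2 : x ∈ Subgroup.centralizer (P : Set Ω) := hx.2
  exact ⟨hx.1, Subgroup.centralizer_le_normalizer (P : Set Ω) h2⟩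

/-- a strongly closed subgroup is preserved by the maps of the system -/
theorem mor_mem_of_stronglyClosed {F : FusionSystem S} {T : Subgroup Ω} (hT : F.StronglyClosed T)
    {R : Subgroup Ω} {g : Ω → Ω} (hg : Mor F R g) (hRT : R ≤ T) {x : Ω} (hx : x ∈ R) : g x ∈ T := by
  obtain ⟨φ, hφ, e⟩ := hg
  rw [← e ⟨x, hx⟩]
  exact hT.2 R hRT φ hφ ⟨x, hx⟩

/-- a map on `N` carrying `P ≤ N` onto `R` sends `C_S(P) ∩ N` into `C_S(R)` -/
theorem map_centralizerIn {F : FusionSystem S} {N P R : Subgroup Ω} {g : Ω → Ω}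
    (hg : Mor F N g) (hPN : P ≤ N) (hPR : Iso F P R g) {n : Ω} (hnN : n ∈ N)
    (hn : n ∈ centralizerIn S P) : g n ∈ centralizerIn S R := by
  refine ⟨hg.mem hnN, ?_⟩
  show g n ∈ Subgroup.centralizer (R : Set Ω)
  rw [Subgroup.mem_centralizer_iff]
  intro y hy
  obtain ⟨x, hx, rfl⟩ := hPR.surj hy
  have hc : x * n = n * x := (Subgroup.mem_centralizer_iff.mp hn.2) x hx
  rw [← hg.map_mul (hPN hx) hnN, ← hg.map_mul hnN (hPN hx), hc]

theorem isConj_of_subsystem {F : FusionSystem S} {T : Subgroup Ω} {F' : FusionSystem T}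
    (hsub : F'.IsSubsystemOf F) {P Q : Subgroup Ω} (h : F'.IsConj P Q) : F.IsConj P Q := by
  obtain ⟨φ, hφ, hr⟩ := h
  exact ⟨φ, hsub P hφ, hr⟩

/-- Let F be a saturated fusion system over a finite p-group S, T a subgroup strongly closed in F, and F′ any fusion system over T all of whose maps are maps of F. For a subgroup Q ≤ T: if Q is fully centralized in F then it is fully centralized in F′, and if Q is fully normalized in F then it is fully normalized in F′. -/
theorem result {Ω : Type*} [Group Ω] {S : Subgroup Ω} [Finite S] (p : ℕ) [Fact p.Prime] (hS : IsPGroup p S) (F : Cfsg.FusionSystem S) (hF : F.IsSaturated p) (T : Subgroup Ω) (hT : F.StronglyClosed T) (F' : Cfsg.FusionSystem T) (hsub : F'.IsSubsystemOf F) (Q : Subgroup Ω) (hQT : Q ≤ T) : (F.IsFullyCentralized Q → F'.IsFullyCentralized Q) ∧ (F.IsFullyNormalized Q → F'.IsFullyNormalized Q) := by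
  have hTS : T ≤ S := hT.1
  constructor
  · intro hQ
    refine ⟨hQT, fun Q' hQ' => ?_⟩
    have hQQ' : F.IsConj Q Q' := isConj_of_subsystem hsub hQ'
    obtain ⟨R, hQR, hR⟩ := exists_fullyNormalized_conj F hQ.1
    have hQ'R : F.IsConj Q' R := isConj_trans (isConj_symm hQQ') hQR
    obtain ⟨g1, hg1, hg1i⟩ := exists_map_normalizer_to_fullyNormalized hS hF hR hQR
    obtain ⟨g2, hg2, hg2i⟩ := exists_map_normalizer_to_fullyNormalized hS hF hR hQ'R
    have hQS : Q ≤ S := hQ.1
    have hQ'S : Q' ≤ S := (isConj_le hQQ').2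
    -- g1 : C_S(Q) ≅ C_S(R)
    have hg1c : Mor F (centralizerIn S Q) g1 := hg1.restrict (centralizerIn_le_normalizerIn S Q)
    have hg1maps : ∀ n ∈ centralizerIn S Q, g1 n ∈ centralizerIn S R := fun n hn =>
      map_centralizerIn hg1 (le_normalizerIn hQS) hg1i (centralizerIn_le_normalizerIn S Q hn) hn
    have hcard : Nat.card (centralizerIn S R) ≤ Nat.card (centralizerIn S Q) := hQ.2 R hQR
    have hiso : Iso F (centralizerIn S Q) (centralizerIn S R) g1 :=
      iso_of_card_le hg1c inf_le_left hg1maps hcard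
    obtain ⟨g1', hg1', -, -⟩ := hiso.symm
    -- g2 : C_S(Q') → C_S(R)
    have hg2c : Mor F (centralizerIn S Q') g2 := hg2.restrict (centralizerIn_le_normalizerIn S Q')
    have hg2maps : ∀ n ∈ centralizerIn S Q', g2 n ∈ centralizerIn S R := fun n hn =>
      map_centralizerIn hg2 (le_normalizerIn hQ'S) hg2i (centralizerIn_le_normalizerIn S Q' hn) hn
    have hle1 : centralizerIn T Q' ≤ centralizerIn S Q' := fun x hx => ⟨hTS hx.1, hx.2⟩
    have hcomp : Mor F (centralizerIn T Q') (fun x => g1' (g2 x)) :=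
      (hg2c.restrict hle1).comp hg1'.1 (fun x hx => hg2maps x (hle1 hx))
    apply card_le_of_mor hcomp (inf_le_left.trans hTS)
    intro n hn
    have h1 : g2 n ∈ T := mor_mem_of_stronglyClosed hT (hg2c.restrict hle1) inf_le_left hn
    have h2 : g2 n ∈ centralizerIn S R := hg2maps n (hle1 hn)
    have h3 : g1' (g2 n) ∈ centralizerIn S Q := hg1'.map_mem h2
    have hle2 : centralizerIn S R ⊓ T ≤ centralizerIn S R := inf_le_left
    have h4 : g1' (g2 n) ∈ T :=
      mor_mem_of_stronglyClosed hT (hg1'.1.restrict hle2) inf_le_right ⟨h2, h1⟩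
    exact ⟨h4, h3.2⟩
  · intro hQ
    refine ⟨hQT, fun Q' hQ' => ?_⟩
    have hQQ' : F.IsConj Q Q' := isConj_of_subsystem hsub hQ'
    obtain ⟨g, hg, hgi⟩ := exists_map_normalizer_to_fullyNormalized hS hF hQ (isConj_symm hQQ')
    have hle1 : normalizerIn T Q' ≤ normalizerIn S Q' := fun x hx => ⟨hTS hx.1, hx.2⟩
    apply card_le_of_mor (hg.restrict hle1) (inf_le_left.trans hTS)
    intro n hn
    have h1 : g n ∈ T := mor_mem_of_stronglyClosed hT (hg.restrict hle1) inf_le_left hn
    have h2 : g n ∈ normalizerIn S Q := map_normalizerIn hg hgi (hle1 hn)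
    exact ⟨h1, h2.2⟩

end Cfsg.Agent.S5341
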