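import Mathlib
import Cfsg.Statements.S5343
import Cfsg.Agent.Lib.Helper88.RealizedNormal

set_option autoImplicit false
open Cfsg

namespace Cfsg.Agent.S5343

open Cfsg.FusionSystem Cfsg.Agent.Helper87 Cfsg.Agent.Helper85 Cfsg.Agent.Helper88.RealizedNormal

universe u

theorem exists_simple_realization {Ω : Type u} [Group Ω] {S : Subgroup Ω} [Finite S] (p : ℕ)
    [Fact p.Prime] (hS : IsPGroup p S) (F : Cfsg.FusionSystem S) (hsimple : F.IsSimple p) :
    ∀ n : ℕ, ∀ (G : Type u) [Group G] [Finite G] (ι : ↥S →* G), Nat.card G = n →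
      F.IsRealizedBy ι → (∃ T : Sylow p G, (T : Subgroup G) = ι.range) →
      ∃ (G' : Type u) (_ : Group G') (_ : Finite G') (_ : IsSimpleGroup G') (ι' : ↥S →* G'),
        F.IsRealizedBy ι' ∧ ∃ T : Sylow p G', (T : Subgroup G') = ι'.range := by
  intro n
  induction n using Nat.strong_induction_on with
  | _ n ih =>
    intro G _ _ ι hn h hT'
    obtain ⟨T, hT⟩ := hT'
    by_cases hsG : IsSimpleGroup G
    · exact ⟨G, inferInstance, inferInstance, hsG, ι, h, T, hT⟩
    -- `G` is nontrivial
    have hS1 : S ≠ ⊥ := hsimple.2.1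
    haveI : Nontrivial G := by
      obtain ⟨x, hx, hx1⟩ := (Subgroup.ne_bot_iff_exists_ne_one (H := S)).1 hS1 |>.imp
        (fun x hx => hx) |> fun ⟨x, hx⟩ => (⟨(x : Ω), x.2, fun e => hx (Subtype.ext e)⟩ :
          ∃ y : Ω, y ∈ S ∧ y ≠ 1)
      refine ⟨⟨ι ⟨x, hx⟩, 1, fun e => hx1 ?_⟩⟩
      have := h.1 (e.trans (map_one ι).symm)
      exact congrArg Subtype.val this
    have hex : ∃ N : Subgroup G, N.Normal ∧ N ≠ ⊥ ∧ N ≠ ⊤ := by
      by_contra hcon
      push Not at hcon
      apply hsG
      exact { eq_bot_or_eq_top_of_normal := fun H hH => by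
                by_cases hb : H = ⊥
                · left; exact hb
                · right; exact hcon H hH hb }
    obtain ⟨N, hNn, hNbot, hNtop⟩ := hex
    haveI := hNn
    have hEn := pullSys_normal hS h T hT N
    have himg := mem_inf_iff_exists (T : Subgroup G) hT N
    rcases hsimple.2.2 _ (pullSys F h N) hEn with h0 | ⟨h1, hEq⟩
    · -- `N` meets `ι(S)` trivially: pass to `G ⧸ N`
      have hTN : (T : Subgroup G) ⊓ N = ⊥ := by
        rw [eq_bot_iff]
        intro t ht
        obtain ⟨x, hx, rfl⟩ := (himg t).1 ht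
        rw [h0, Subgroup.mem_bot] at hx
        rw [hx, Subgroup.mem_bot]
        exact au_one ι
      obtain ⟨hq, hTq⟩ := realized_quotient hS h T hT N hTN
      have hlt : Nat.card (G ⧸ N) < n := by
        rw [← hn, Subgroup.card_eq_card_quotient_mul_card_subgroup N]
        have h2 : 1 < Nat.card N := (Subgroup.one_lt_card_iff_ne_bot N).2 hNbot
        have h3 : 0 < Nat.card (G ⧸ N) := Nat.card_pos
        nlinarith
      exact ih _ hlt (G ⧸ N) _ rfl hq hTq
    · -- `N` contains `ι(S)` and induces all of `F`: pass to `N`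
      have hle : ι.range ≤ N := by
        rintro _ ⟨s, rfl⟩
        have hs : (s : Ω) ∈ preimageAlong ι N := by rw [h1]; exact s.2
        have := (mem_pre.1 hs).2
        rwa [au_mem ι s.2] at this
      obtain ⟨hq, hTq⟩ := realized_subgroup h T hT N hle hEq
      have hlt : Nat.card N < n := by
        rw [← hn]
        apply lt_of_le_of_ne (Subgroup.card_le_card_group N)
        intro e
        exact hNtop (Subgroup.eq_top_of_card_eq N e)
      exact ih _ hlt N _ rfl hq hTq

/-- Let F be a simple saturated fusion system over a finite p-group S that is realized by some finite group on a Sylow p-subgroup. Then F is realized by a finite simple group on a Sylow p-subgroup. -/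
theorem result {Ω : Type u} [Group Ω] {S : Subgroup Ω} [Finite S] (p : ℕ) [Fact p.Prime] (hS : IsPGroup p S) (F : Cfsg.FusionSystem S) (hsimple : F.IsSimple p) (hreal : F.IsRealizable p) : ∃ (G : Type u) (_ : Group G) (_ : Finite G) (_ : IsSimpleGroup G) (ι : ↥S →* G), F.IsRealizedBy ι ∧ ∃ T : Sylow p G, (T : Subgroup G) = ι.range := by
  obtain ⟨G, hGrp, hFin, ι, h, hT⟩ := hreal
  exact exists_simple_realization p hS F hsimple (Nat.card G) G ι rfl h hT

end Cfsg.Agent.S5343
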