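import Mathlib
import Cfsg.Statements.S5355
import Cfsg.Agent.S5344
import Cfsg.Agent.Lib.Helper88.ThreeTrans

set_option autoImplicit false
open Cfsg

namespace Cfsg.Agent.S5355

open Cfsg.Agent.Helper88 Equiv

variable {G : Type*} [Group G]

/-- `x₁` is the unique other member of `D` commuting with `x`, and it commutes with the same members -/
structure Pair (D : Set G) (x x₁ : G) : Prop where
  mem : x₁ ∈ D
  ne : x₁ ≠ x
  comm : Commute x x₁
  uniq : ∀ t ∈ D, Commute x t → t = x ∨ t = x₁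
  sim : Sim D x₁ x

theorem Pair.conj {D : Set G} (hT : TT D) {x x₁ : G} (h : Pair D x x₁) (g : G) :
    Pair D (g * x * g⁻¹) (g * x₁ * g⁻¹) where
  mem := hT.conj g _ h.mem
  ne := by
    intro e
    apply h.ne
    have : g⁻¹ * (g * x₁ * g⁻¹) * g = g⁻¹ * (g * x * g⁻¹) * g := by rw [e]
    simpa [mul_assoc] using this
  comm := by
    show g * x * g⁻¹ * (g * x₁ * g⁻¹) = g * x₁ * g⁻¹ * (g * x * g⁻¹)
    have := h.comm.eq
    calc g * x * g⁻¹ * (g * x₁ * g⁻¹) = g * (x * x₁) * g⁻¹ := by group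
      _ = g * (x₁ * x) * g⁻¹ := by rw [this]
      _ = _ := by group
  uniq := by
    intro t ht hc
    rw [commute_conj_iff] at hc
    rcases h.uniq _ (hT.conj' ht g) hc with e | e
    · left; rw [← e]; group
    · right; rw [← e]; group
  sim := h.sim.conj hT g

/-- the S₄ generated by a 3-string `y – x – y₁` where `y₁` is the partner of `y` -/
theorem string_hom {D : Set G} (hT : TT D) {y y₁ x : G} (hy : y ∈ D) (hx : x ∈ D)
    (hP : Pair D y y₁) (hyx : ¬ Commute y x) :
    ∃ φ : Perm (Fin 4) →* G, Function.Injective φ ∧ φ (swap 0 1) = y ∧ φ (swap 1 2) = x ∧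
      φ (swap 2 3) = y₁ := by
  have hy₁x : ¬ Commute y₁ x := fun h => hyx ((hP.sim x hx).1 h)
  have hxy₁ : ¬ Commute x y₁ := fun h => hy₁x h.symm
  have b1 := hT.braid hy hx hyx
  have b2 := hT.braid hx hP.mem hxy₁
  have hrel : Cfsg.Agent.S5344.Rel y x y₁ :=
    { aa := hT.sq y hy
      bb := hT.sq x hx
      cc := hT.sq y₁ hP.mem
      ca := hP.comm.eq.symm
      bab := by rw [← mul_assoc, ← mul_assoc]; exact b1.symm
      cbc := by rw [← mul_assoc, ← mul_assoc]; exact b2.symm }
  exact Cfsg.Agent.S5344.main hrel (fun h => hP.ne h.symm)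

theorem perm_facts :
    (swap (0 : Fin 4) 3 = swap 1 3 * swap 0 1 * (swap 1 3)⁻¹) ∧
    (swap (1 : Fin 4) 2 * swap 0 3 = swap 0 3 * swap 1 2) ∧
    (swap (0 : Fin 4) 3 ≠ swap 1 2) ∧
    (swap (1 : Fin 4) 2 * (swap 0 1 * swap 2 3) * (swap 1 2)⁻¹ =
      swap 0 1 * swap 2 3 * (swap 1 2 * swap 0 3)) ∧
    (swap (0 : Fin 4) 2 = swap 1 2 * swap 0 1 * (swap 1 2)⁻¹) ∧
    (swap (1 : Fin 4) 3 = swap 1 2 * swap 2 3 * (swap 1 2)⁻¹) ∧
    (swap (0 : Fin 4) 2 * swap 1 3 = swap 1 3 * swap 0 2) ∧
    (swap (1 : Fin 4) 3 ≠ swap 0 2) ∧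
    (swap (0 : Fin 4) 2 * swap 1 3 = swap 0 1 * swap 2 3 * (swap 1 2 * swap 0 3)) := by
  decide

/-- in the S₄ of a 3-string `y – x – y₁`, the image of `(0 3)` is the partner of `x` -/
theorem string_partner {D : Set G} (hT : TT D) {y x x₁ : G} (hy : y ∈ D)
    (hPx : Pair D x x₁) {φ : Perm (Fin 4) →* G} (hinj : Function.Injective φ)
    (h0 : φ (swap 0 1) = y) (h1 : φ (swap 1 2) = x) : φ (swap 0 3) = x₁ := by
  obtain ⟨f1, f2, f3, -⟩ := perm_facts
  have hmem : φ (swap 0 3) ∈ D := by
    rw [f1, map_mul, map_mul, map_inv, h0]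
    exact hT.conj _ _ hy
  have hcomm : Commute x (φ (swap 0 3)) := by
    show x * φ (swap 0 3) = φ (swap 0 3) * x
    rw [← h1, ← map_mul, ← map_mul, f2]
  rcases hPx.uniq _ hmem hcomm with e | e
  · exfalso
    rw [← h1] at e
    exact f3 (hinj e)
  · exact e

/-- the rule `x (y y₁) x⁻¹ = (y y₁)(x x₁)` -/
theorem rule {D : Set G} (hT : TT D) {y y₁ x x₁ : G} (hy : y ∈ D) (hx : x ∈ D)
    (hPy : Pair D y y₁) (hPx : Pair D x x₁) (hyx : ¬ Commute y x) :
    x * (y * y₁) * x⁻¹ = y * y₁ * (x * x₁) := by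
  obtain ⟨φ, hinj, h0, h1, h2⟩ := string_hom hT hy hx hPy hyx
  have h3 := string_partner hT hy hPx hinj h0 h1
  obtain ⟨-, -, -, f4, -⟩ := perm_facts
  have := congrArg φ f4
  simp only [map_mul, map_inv, h0, h1, h2, h3] at this
  exact this

/-- Let D be a conjugacy class of 3-transpositions generating the finite group G, with at least two members, and d a member of D. Suppose that every member of D commuting with d commutes with exactly the same members of D as d does, and that exactly one member of D other than d commutes with d. Then G is isomorphic to the symmetric group of degree 4. -/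
theorem result {G : Type*} [Group G] [Finite G] {D : Set G} (hD : Cfsg.IsThreeTranspositionClass D) (hD2 : ∃ a ∈ D, ∃ b ∈ D, a ≠ b) {d : G} (hd : d ∈ D) (hV : {y : G | y ∈ D ∧ Commute d y} = {v : G | v ∈ D ∧ ∀ e ∈ D, Commute v e ↔ Commute d e}) (hm : {y : G | y ∈ D ∧ Commute d y}.ncard = 2) : Nonempty (G ≃* Equiv.Perm (Fin 4)) := by
  classical
  have hT : TT D := TT.of_class hD
  have hgen : Subgroup.closure D = ⊤ := hD.2.2
  -- the partner of `d`
  obtain ⟨v, hPd⟩ : ∃ v, Pair D d v := by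
    obtain ⟨x, y, hxy, hs⟩ := Set.ncard_eq_two.1 hm
    have hds : d ∈ {y : G | y ∈ D ∧ Commute d y} := ⟨hd, Commute.refl d⟩
    have key : ∀ v, v ≠ d → {y : G | y ∈ D ∧ Commute d y} = {d, v} → Pair D d v := by
      intro v hvd hs'
      have hvs : v ∈ {y : G | y ∈ D ∧ Commute d y} := by rw [hs']; simp
      have hvV := hvs
      rw [hV] at hvV
      exact { mem := hvs.1
              ne := hvd
              comm := hvs.2
              uniq := fun t ht hc => by
                have : t ∈ {y : G | y ∈ D ∧ Commute d y} := ⟨ht, hc⟩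
                rw [hs'] at this
                simpa using this
              sim := hvV.2 }
    rw [hs] at hds
    rcases hds with e | e
    · exact ⟨y, key y (by rw [e]; exact hxy.symm) (by rw [hs, e])⟩
    · have e' : d = y := e
      exact ⟨x, key x (by rw [e']; exact hxy) (by rw [hs, e', Set.pair_comm])⟩
  -- every member has a partner
  have hconjD : ∀ x ∈ D, ∃ g : G, x = g * d * g⁻¹ := by
    obtain ⟨-, ⟨d₀, -, hDd⟩, -⟩ := hD
    intro x hx
    rw [hDd] at hx hd
    have h1 : IsConj d₀ x := hx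
    have h2 : IsConj d₀ d := hd
    obtain ⟨g, hg⟩ := isConj_iff.1 (h2.symm.trans h1)
    exact ⟨g, hg.symm⟩
  have hpart : ∀ x ∈ D, ∃ x₁, Pair D x x₁ := by
    intro x hx
    obtain ⟨g, rfl⟩ := hconjD x hx
    exact ⟨_, hPd.conj hT g⟩
  -- some member does not commute with `d`
  obtain ⟨e, he, hde⟩ : ∃ e ∈ D, ¬ Commute d e := by
    by_contra hcon
    push Not at hcon
    have hcen : ∀ g : G, Commute d g := by
      intro g
      have hg : g ∈ Subgroup.closure D := by rw [hgen]; trivial
      induction hg using Subgroup.closure_induction with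
      | mem x hx => exact hcon x hx
      | one => exact Commute.one_right d
      | mul x y _ _ hx hy => exact hx.mul_right hy
      | inv x _ hx => exact hx.inv_right
    obtain ⟨a, ha, b, hb, hab⟩ := hD2
    obtain ⟨g, rfl⟩ := hconjD a ha
    obtain ⟨k, rfl⟩ := hconjD b hb
    apply hab
    rw [← (hcen g).eq, ← (hcen k).eq]
    group
  -- the S₄
  obtain ⟨φ, hinj, h0, h1, h2⟩ := string_hom hT hd he hPd hde
  obtain ⟨e₁, hPe⟩ := hpart e he
  have h3 : φ (swap 0 3) = e₁ := string_partner hT hd hPe hinj h0 h1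
  obtain ⟨-, -, -, -, f5, f6, f7, f8, f9⟩ := perm_facts
  have hf : φ (swap 0 2) ∈ D := by
    rw [f5, map_mul, map_mul, map_inv, h0]; exact hT.conj _ _ hd
  have hf₁ : φ (swap 1 3) ∈ D := by
    rw [f6, map_mul, map_mul, map_inv, h2]; exact hT.conj _ _ hPd.mem
  obtain ⟨f₁, hPf⟩ := hpart _ hf
  have h4 : φ (swap 1 3) = f₁ := by
    have hcomm : Commute (φ (swap 0 2)) (φ (swap 1 3)) := by
      show φ (swap 0 2) * φ (swap 1 3) = φ (swap 1 3) * φ (swap 0 2)
      rw [← map_mul, ← map_mul, f7]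
    rcases hPf.uniq _ hf₁ hcomm with e' | e'
    · exact absurd (hinj e') f8
    · exact e'
  have hsub : D ⊆ (φ.range : Set G) := by
    intro x hx
    by_contra hxr
    have hnr : ∀ σ : Perm (Fin 4), φ σ ≠ x := fun σ h => hxr ⟨σ, h⟩
    obtain ⟨x₁, hPx⟩ := hpart x hx
    have hdx : ¬ Commute d x := by
      intro hc
      rcases hPd.uniq x hx hc with e' | e'
      · exact hnr _ (h0.trans e'.symm)
      · exact hnr _ (h2.trans e'.symm)
    have hex : ¬ Commute e x := by
      intro hc
      rcases hPe.uniq x hx hc with e' | e'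
      · exact hnr _ (h1.trans e'.symm)
      · exact hnr _ (h3.trans e'.symm)
    have hfx : ¬ Commute (φ (swap 0 2)) x := by
      intro hc
      rcases hPf.uniq x hx hc with e' | e'
      · exact hnr _ e'.symm
      · exact hnr _ (h4.trans e'.symm)
    have r1 := rule hT hd hx hPd hPx hdx
    have r2 := rule hT he hx hPe hPx hex
    have r3 := rule hT hf hx hPf hPx hfx
    have hfw : φ (swap 0 2) * f₁ = d * v * (e * e₁) := by
      have := congrArg φ f9
      simp only [map_mul, h0, h1, h2, h3, h4] at this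
      exact this
    rw [hfw] at r3
    have h5 : x * (d * v * (e * e₁)) * x⁻¹ = (x * (d * v) * x⁻¹) * (x * (e * e₁) * x⁻¹) := by group
    rw [h5, r1, r2] at r3
    -- r3 : d * v * (x * x₁) * (e * e₁ * (x * x₁)) = d * v * (e * e₁) * (x * x₁)
    have h6 : x * x₁ * (e * e₁) = e * e₁ := by
      have h7 : d * v * (x * x₁ * (e * e₁)) * (x * x₁) = d * v * (e * e₁) * (x * x₁) := by
        rw [← r3]; group
      have h8 := mul_right_cancel h7
      exact mul_left_cancel h8
    have h9 : x * x₁ = 1 := by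
      have := mul_right_cancel (h6.trans (one_mul _).symm)
      exact this
    apply hPx.ne
    have h10 : x₁ = x⁻¹ := (eq_inv_of_mul_eq_one_right h9)
    rw [h10, hT.inv_eq hx]
  have hrange : φ.range = ⊤ := by
    rw [eq_top_iff, ← hgen, Subgroup.closure_le]
    exact hsub
  have hsurj : Function.Surjective φ := MonoidHom.range_eq_top.1 hrange
  exact ⟨(MulEquiv.ofBijective φ ⟨hinj, hsurj⟩).symm⟩

end Cfsg.Agent.S5355
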