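import Cfsg.Statements.S5356
import Mathlib
import Cfsg.Agent.S0215
import Cfsg.Agent.Lib.Helper88.TTPerpMain

set_option autoImplicit false
open Cfsg

namespace Cfsg.Agent.S5356

open Cfsg.Agent.Helper88 Cfsg.Agent.Helper88.TTPerp in
/-- the hypotheses of the statement give the class `TC` -/
theorem tc_of_hyp {G : Type*} [Group G] [Finite G] {D : Set G}
    (hD : Cfsg.IsThreeTranspositionClass D) (hD2 : ∃ a ∈ D, ∃ b ∈ D, a ≠ b) {d : G} (hd : d ∈ D)
    (hV : {y : G | y ∈ D ∧ Commute d y} = {v : G | v ∈ D ∧ ∀ e ∈ D, Commute v e ↔ Commute d e}) :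
    TC D := by
  have hT : TT D := TT.of_class hD
  obtain ⟨d₀, hd₀, hDconj⟩ := hD.2.1
  have hconjd : ∀ a ∈ D, ∃ g, a = g * d * g⁻¹ := by
    intro a ha
    have ha' : a ∈ conjugatesOf d₀ := by rw [← hDconj]; exact ha
    have hd' : d ∈ conjugatesOf d₀ := by rw [← hDconj]; exact hd
    obtain ⟨g1, hg1⟩ := isConj_iff.mp (ha' : IsConj d₀ a)
    obtain ⟨g2, hg2⟩ := isConj_iff.mp (hd' : IsConj d₀ d)
    refine ⟨g1 * g2⁻¹, ?_⟩
    rw [← hg1, ← hg2]; group
  have hsimd : ∀ y ∈ D, Commute d y → ∀ e ∈ D, Commute y e ↔ Commute d e := by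
    intro y hy hdy
    have h1 : y ∈ {y : G | y ∈ D ∧ Commute d y} := ⟨hy, hdy⟩
    rw [hV] at h1
    exact h1.2
  have hsim : ∀ a ∈ D, ∀ b ∈ D, Commute a b → ∀ e ∈ D, Commute b e ↔ Commute a e := by
    intro a ha b hb hab e he
    obtain ⟨g, rfl⟩ := hconjd a ha
    have h1 : Commute d (g⁻¹ * b * g) := (commute_conj_iff g d b).mp hab
    have h2 := hsimd _ (hT.conj' hb g) h1 (g⁻¹ * e * g) (hT.conj' he g)
    have h3 : Commute (g⁻¹ * b * g) (g⁻¹ * e * g) ↔ Commute b e := by
      have h4 := commute_conj_iff g⁻¹ b (g⁻¹ * e * g)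
      rw [inv_inv] at h4
      rw [h4]
      have e1 : g * (g⁻¹ * e * g) * g⁻¹ = e := by group
      rw [e1]
    rw [commute_conj_iff g d e, ← h2, h3]
  refine ⟨hT, ?_, hD.2.2, ?_, ?_⟩
  · intro x hx h1
    have := hD.1.1 x hx
    rw [h1, orderOf_one] at this
    omega
  · intro a ha b hb c hc hab hbc
    exact (hsim a ha b hb hab c hc).mp hbc
  · by_contra hcon
    push Not at hcon
    have hle : Subgroup.closure D ≤ Subgroup.centralizer {d} := by
      rw [Subgroup.closure_le]
      intro x hx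
      rw [SetLike.mem_coe, Subgroup.mem_centralizer_iff]
      intro y hy
      rw [Set.mem_singleton_iff] at hy
      rw [hy]
      exact (hcon d hd x hx).eq
    rw [hD.2.2] at hle
    have hall : ∀ a ∈ D, a = d := by
      intro a ha
      obtain ⟨g, rfl⟩ := hconjd a ha
      have := Subgroup.mem_centralizer_iff.mp (hle (Subgroup.mem_top g)) d rfl
      rw [← this, mul_inv_cancel_right]
    obtain ⟨a, ha, b, hb, hab⟩ := hD2
    exact hab ((hall a ha).trans (hall b hb).symm)

/-- Let D be a conjugacy class of 3-transpositions generating the finite group G, with at least two members, and d a member of D such that every member of D commuting with d commutes with exactly the same members of D as d. Then there is a Sylow 3-subgroup P of G normalized by d such that G is generated by d, P and the largest normal 2-subgroup of G. -/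
theorem result {G : Type*} [Group G] [Finite G] {D : Set G} (hD : Cfsg.IsThreeTranspositionClass D) (hD2 : ∃ a ∈ D, ∃ b ∈ D, a ≠ b) {d : G} (hd : d ∈ D) (hV : {y : G | y ∈ D ∧ Commute d y} = {v : G | v ∈ D ∧ ∀ e ∈ D, Commute v e ↔ Commute d e}) : ∃ P : Sylow 3 G, d ∈ Subgroup.normalizer (P : Set G) ∧ Subgroup.zpowers d ⊔ (P : Subgroup G) ⊔ Cfsg.pCore 2 G = ⊤ := by
  have hC := tc_of_hyp hD hD2 hd hV
  have hN : (Cfsg.pCore 2 G).Normal := Cfsg.Agent.Helper88.pCore_normal 2 G
  obtain ⟨D₀, hS⟩ := Cfsg.Agent.Helper88.TTPerp.exists_section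
    (fun G _ _ P x hx hxP hiso => Cfsg.Agent.S0215.result P x hx hxP hiso) (Nat.card G) G D rfl hC d hd
  obtain ⟨P, h1, h2⟩ := Cfsg.Agent.Helper88.TTPerp.sylow_of_section
    (fun G _ _ P x hx hxP hiso => Cfsg.Agent.S0215.result P x hx hxP hiso) hC (Cfsg.pCore 2 G)
    hC.core_pCore hS
  exact ⟨P, h1, h2⟩

end Cfsg.Agent.S5356
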