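import Cfsg.Statements.S5358

set_option autoImplicit false
open scoped MatrixGroups
open Cfsg

namespace Cfsg.Agent.S5358

theorem polarVec_dot {n : ℕ} (Q : QuadraticForm (ZMod 3) (Fin n → ZMod 3)) (u x : Fin n → ZMod 3) :
    Cfsg.polarVec (⇑Q) u ⬝ᵥ x = QuadraticMap.polar (⇑Q) u x := by
  have h : x = ∑ j, x j • (Pi.single j (1 : ZMod 3) : Fin n → ZMod 3) := by
    ext i
    simp [Finset.sum_apply, Pi.single_apply]
  conv_rhs => rw [h]
  rw [← QuadraticMap.polarBilin_apply_apply, map_sum]
  simp only [dotProduct, polarVec, map_smul, QuadraticMap.polarBilin_apply_apply, smul_eq_mul]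
  apply Finset.sum_congr rfl
  intro j _
  ring

/-- Let Q be a non-degenerate quadratic form on the n-dimensional coordinate space over the field with three elements and u, v vectors of the same non-zero norm Q(u) = Q(v) spanning different lines (v ≠ u and v ≠ −u). Then the reflection matrices of u and v commute if and only if u and v are orthogonal for the polar form of Q. -/
theorem result (n : ℕ) (Q : QuadraticForm (ZMod 3) (Fin n → ZMod 3)) (hQ : (QuadraticMap.polarBilin Q).Nondegenerate) (u v : Fin n → ZMod 3) (hu : Q u ≠ 0) (huv : Q u = Q v) (h1 : v ≠ u) (h2 : v ≠ -u) : Commute (Cfsg.reflectionMatrix (⇑Q) u) (Cfsg.reflectionMatrix (⇑Q) v) ↔ QuadraticMap.polar (⇑Q) u v = 0 := by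
  set fu := Cfsg.polarVec (⇑Q) u with hfu
  set fv := Cfsg.polarVec (⇑Q) v with hfv
  set a : ZMod 3 := (Q u)⁻¹ with ha
  have ha0 : a ≠ 0 := inv_ne_zero hu
  set b := QuadraticMap.polar (⇑Q) u v with hb
  have hAB : Matrix.vecMulVec u fu * Matrix.vecMulVec v fv = b • Matrix.vecMulVec u fv := by
    rw [Matrix.vecMulVec_mul_vecMulVec, polarVec_dot, Matrix.vecMulVec_smul]
  have hBA : Matrix.vecMulVec v fv * Matrix.vecMulVec u fu = b • Matrix.vecMulVec v fu := by
    rw [Matrix.vecMulVec_mul_vecMulVec, polarVec_dot, Matrix.vecMulVec_smul, QuadraticMap.polar_comm]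
  have key : Commute (Cfsg.reflectionMatrix (⇑Q) u) (Cfsg.reflectionMatrix (⇑Q) v) ↔
      b • Matrix.vecMulVec u fv = b • Matrix.vecMulVec v fu := by
    unfold Cfsg.reflectionMatrix
    rw [← huv, ← ha, ← hfu, ← hfv]
    rw [commute_iff_eq]
    constructor
    · intro h
      have h' : (a * a) • (Matrix.vecMulVec u fu * Matrix.vecMulVec v fv) =
          (a * a) • (Matrix.vecMulVec v fv * Matrix.vecMulVec u fu) := by
        have e1 : (1 - a • Matrix.vecMulVec u fu) * (1 - a • Matrix.vecMulVec v fv) =
            1 - a • Matrix.vecMulVec u fu - a • Matrix.vecMulVec v fv +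
              (a * a) • (Matrix.vecMulVec u fu * Matrix.vecMulVec v fv) := by
          rw [sub_mul, mul_sub, mul_sub, one_mul, mul_one, one_mul, Matrix.smul_mul, Matrix.mul_smul, smul_smul]
          abel
        have e2 : (1 - a • Matrix.vecMulVec v fv) * (1 - a • Matrix.vecMulVec u fu) =
            1 - a • Matrix.vecMulVec u fu - a • Matrix.vecMulVec v fv +
              (a * a) • (Matrix.vecMulVec v fv * Matrix.vecMulVec u fu) := by
          rw [sub_mul, mul_sub, mul_sub, one_mul, mul_one, one_mul, Matrix.smul_mul, Matrix.mul_smul, smul_smul]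
          abel
        rw [e1, e2] at h
        exact add_left_cancel h
      rw [hAB, hBA] at h'
      have haa : a * a ≠ 0 := mul_ne_zero ha0 ha0
      exact smul_right_injective _ haa h'
    · intro h
      have e1 : (1 - a • Matrix.vecMulVec u fu) * (1 - a • Matrix.vecMulVec v fv) =
          1 - a • Matrix.vecMulVec u fu - a • Matrix.vecMulVec v fv +
            (a * a) • (Matrix.vecMulVec u fu * Matrix.vecMulVec v fv) := by
        rw [sub_mul, mul_sub, mul_sub, one_mul, mul_one, one_mul, Matrix.smul_mul, Matrix.mul_smul, smul_smul]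
        abel
      have e2 : (1 - a • Matrix.vecMulVec v fv) * (1 - a • Matrix.vecMulVec u fu) =
          1 - a • Matrix.vecMulVec u fu - a • Matrix.vecMulVec v fv +
            (a * a) • (Matrix.vecMulVec v fv * Matrix.vecMulVec u fu) := by
        rw [sub_mul, mul_sub, mul_sub, one_mul, mul_one, one_mul, Matrix.smul_mul, Matrix.mul_smul, smul_smul]
        abel
      rw [e1, e2, hAB, hBA, h]
  rw [key]
  constructor
  · intro h
    by_contra hb0
    have h' : Matrix.vecMulVec u fv = Matrix.vecMulVec v fu := smul_right_injective _ hb0 h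
    have h3 := congrArg (fun M => Matrix.mulVec M v) h'
    simp only [Matrix.vecMulVec_mulVec] at h3
    rw [hfv, hfu, polarVec_dot, polarVec_dot, QuadraticMap.polar_self] at h3
    simp only [op_smul_eq_smul] at h3
    -- (2 • Q v) • u = b • v
    have h2Q : (2 • Q v : ZMod 3) ≠ 0 := by
      rw [← huv]
      intro h0
      apply hu
      have : (2 : ZMod 3) * Q u = 0 := by rw [← h0]; simp
      rcases mul_eq_zero.mp this with h | h
      · exact absurd h (show (2 : ZMod 3) ≠ 0 by decide)
      · exact h
    set c : ZMod 3 := (2 • Q v)⁻¹ * b with hc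
    have hucv : u = c • v := by
      have : (2 • Q v)⁻¹ • ((2 • Q v) • u) = (2 • Q v)⁻¹ • (b • v) := by rw [h3]
      rw [smul_smul, smul_smul, inv_mul_cancel₀ h2Q, one_smul] at this
      exact this
    have hQ' : Q u = (c * c) • Q v := by rw [hucv]; exact QuadraticMap.map_smul Q c v
    have hcc : c * c = 1 := by
      rw [huv] at hQ'
      have hv : Q v ≠ 0 := huv ▸ hu
      have : (c * c - 1) * Q v = 0 := by
        rw [sub_mul, one_mul]; rw [smul_eq_mul] at hQ'; rw [← hQ']; ring
      rcases mul_eq_zero.mp this with h | h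
      · exact sub_eq_zero.mp h
      · exact absurd h hv
    have hc1 : c = 1 ∨ c = -1 := mul_self_eq_one_iff.mp hcc
    rcases hc1 with hc1 | hc1
    · apply h1; rw [hucv, hc1, one_smul]
    · apply h2; rw [hucv, hc1]; simp
  · intro h
    rw [h, zero_smul, zero_smul]

end Cfsg.Agent.S5358
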