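import Mathlib
import Cfsg.Statements.S5363

set_option autoImplicit false
open Cfsg

namespace Cfsg.Agent.S5363

theorem inv_eq_self_of_order_two {G : Type*} [Group G] {d : G} (h : orderOf d = 2) : d⁻¹ = d := by
  have hd2 : d ^ 2 = 1 := by rw [← h]; exact pow_orderOf_eq_one d
  rw [inv_eq_iff_mul_eq_one, ← hd2, pow_two]

theorem mul_self_of_order_two {G : Type*} [Group G] {d : G} (h : orderOf d = 2) : d * d = 1 := by
  have hd2 : d ^ 2 = 1 := by rw [← h]; exact pow_orderOf_eq_one d
  rw [← pow_two]; exact hd2

/-- the "reflections" `a * (a*b)^k` all lie in `D` -/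
theorem refl_mem {G : Type*} [Group G] {D : Set G} (hconj : ∀ g : G, ∀ d ∈ D, g * d * g⁻¹ ∈ D)
    {a b : G} (ha : a ∈ D) (hb : b ∈ D) (haa : a * a = 1) (hbb : b * b = 1) :
    ∀ k : ℕ, a * (a * b) ^ k ∈ D ∧ a * (a * b) ^ (k + 1) ∈ D := by
  intro k
  induction k with
  | zero =>
    refine ⟨by simpa using ha, ?_⟩
    have : a * (a * b) ^ (0 + 1) = b := by
      rw [zero_add, pow_one, ← mul_assoc, haa, one_mul]
    rw [this]; exact hb
  | succ k ih =>
    refine ⟨ih.2, ?_⟩
    have hinv : (b * a)⁻¹ = a * b := by
      rw [inv_eq_iff_mul_eq_one]
      calc b * a * (a * b) = b * (a * a) * b := by group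
        _ = 1 := by rw [haa, mul_one, hbb]
    have key : a * (a * b) ^ (k + 1 + 1) = (b * a) * (a * (a * b) ^ k) * (b * a)⁻¹ := by
      rw [hinv]
      have h1 : a * (a * b) ^ (k + 1 + 1) = b * (a * b) ^ (k + 1) := by
        rw [pow_succ' (a * b) (k + 1)]
        generalize (a * b) ^ (k + 1) = X
        calc a * (a * b * X) = (a * a) * b * X := by simp only [mul_assoc]
          _ = b * X := by rw [haa, one_mul]
      have h2 : b * a * (a * (a * b) ^ k) * (a * b) = b * (a * b) ^ (k + 1) := by
        rw [pow_succ (a * b) k]
        generalize (a * b) ^ k = X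
        calc b * a * (a * X) * (a * b) = b * ((a * a) * (X * (a * b))) := by simp only [mul_assoc]
          _ = b * (X * (a * b)) := by rw [haa, one_mul]
      rw [h1, h2]
    rw [key]
    exact hconj _ _ ih.1

/-- Let D be a conjugation-invariant set of involutions of a finite group G. Then every product of two members of D has odd order or order 2 if and only if, for every a in D and every b in D different from a and commuting with a, the members of D commuting with a b are exactly those commuting with both a and b. -/
theorem result {G : Type*} [Group G] [Finite G] {D : Set G} (hinv : ∀ d ∈ D, orderOf d = 2) (hconj : ∀ g : G, ∀ d ∈ D, g * d * g⁻¹ ∈ D) : (∀ a ∈ D, ∀ b ∈ D, Odd (orderOf (a * b)) ∨ orderOf (a * b) = 2) ↔ ∀ a ∈ D, ∀ b ∈ D, b ≠ a → Commute a b → {y : G | y ∈ D ∧ Commute (a * b) y} = {y : G | y ∈ D ∧ Commute a y} ∩ {y : G | y ∈ D ∧ Commute b y} := by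
  constructor
  · intro H a ha b hb hba hab
    have haa := mul_self_of_order_two (hinv a ha)
    have hbb := mul_self_of_order_two (hinv b hb)
    have hainv := inv_eq_self_of_order_two (hinv a ha)
    ext y
    constructor
    · rintro ⟨hy, hzy⟩
      have hyy := mul_self_of_order_two (hinv y hy)
      have hyinv := inv_eq_self_of_order_two (hinv y hy)
      -- z = a * b
      have hz2 : (a * b) * (a * b) = 1 := by
        calc a * b * (a * b) = a * (b * a) * b := by group
          _ = a * (a * b) * b := by rw [hab.eq]
          _ = (a * a) * (b * b) := by group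
          _ = 1 := by rw [haa, hbb, one_mul]
      have hz1 : a * b ≠ 1 := by
        intro h
        apply hba
        have : b = a⁻¹ := by rw [eq_inv_iff_mul_eq_one]; rw [← hab.eq]; exact h
        rw [this, hainv]
      have hzo : orderOf (a * b) = 2 := by
        apply orderOf_eq_prime
        · rw [pow_two]; exact hz2
        · exact hz1
      have hza : Commute (a * b) a := by
        show a * b * a = a * (a * b)
        rw [mul_assoc, ← hab.eq]
      -- the key: y commutes with a
      have hay : Commute a y := by
        rcases H y hy a ha with hodd | h2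
        · -- odd order
          have hcomm : Commute (y * a) (a * b) := (hzy.symm.mul_left hza.symm)
          have hcop : Nat.Coprime (orderOf (y * a)) (orderOf (a * b)) := by
            rw [hzo]; exact Nat.Coprime.symm (Nat.coprime_two_left.mpr hodd)
          have hord := hcomm.orderOf_mul_eq_mul_orderOf_of_coprime hcop
          have hyb : y * a * (a * b) = y * b := by
            calc y * a * (a * b) = y * (a * a) * b := by group
              _ = y * b := by rw [haa, mul_one]
          rw [hyb, hzo] at hord
          rcases H y hy b hb with hodd' | h2'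
          · exfalso
            rw [hord] at hodd'
            exact (Nat.not_odd_iff_even.mpr (even_two.mul_left _)) hodd'
          · rw [hord] at h2'
            have h1 : orderOf (y * a) = 1 := by omega
            have hya : y * a = 1 := orderOf_eq_one_iff.mp h1
            have : y = a := by
              have : y = a⁻¹ := by rw [eq_inv_iff_mul_eq_one]; exact hya
              rw [this, hainv]
            rw [this]
        · -- order two
          have h : (y * a) * (y * a) = 1 := by
            rw [← pow_two, ← h2]; exact pow_orderOf_eq_one _
          show a * y = y * a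
          calc a * y = (y * y) * (a * y) * (a * a) := by rw [hyy, haa, one_mul, mul_one]
            _ = y * ((y * a) * (y * a)) * a := by group
            _ = y * a := by rw [h, mul_one]
      refine ⟨⟨hy, hay⟩, hy, ?_⟩
      have hb_eq : b = a⁻¹ * (a * b) := by group
      rw [hb_eq]
      exact (hay.inv_left).mul_left hzy
    · rintro ⟨⟨hy, hay⟩, -, hby⟩
      exact ⟨hy, hay.mul_left hby⟩
  · intro K a ha b hb
    have haa := mul_self_of_order_two (hinv a ha)
    have hbb := mul_self_of_order_two (hinv b hb)
    have hainv := inv_eq_self_of_order_two (hinv a ha)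
    have hbinv := inv_eq_self_of_order_two (hinv b hb)
    rcases Nat.even_or_odd (orderOf (a * b)) with heven | hodd
    · right
      obtain ⟨m, hm⟩ := heven
      have hpos : 0 < orderOf (a * b) := orderOf_pos (a * b)
      have hm0 : 0 < m := by omega
      set r := a * b with hr
      set t := r ^ m with ht
      have ht2 : t * t = 1 := by
        rw [ht, ← pow_add, ← hm]; exact pow_orderOf_eq_one r
      have ht1 : t ≠ 1 := by
        rw [ht]
        apply pow_ne_one_of_lt_orderOf (by omega) (by omega)
      have htinv : t⁻¹ = t := by rw [inv_eq_iff_mul_eq_one]; exact ht2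
      -- a and b invert r
      have har : a * r * a⁻¹ = r⁻¹ := by
        rw [hr, mul_inv_rev, hainv, hbinv]
        calc a * (a * b) * a = (a * a) * b * a := by group
          _ = b * a := by rw [haa, one_mul]
      have hbr : b * r * b⁻¹ = r⁻¹ := by
        rw [hr, mul_inv_rev, hainv, hbinv]
        calc b * (a * b) * b = b * a * (b * b) := by group
          _ = b * a := by rw [hbb, mul_one]
      have hat : a * t * a⁻¹ = t := by
        rw [ht, ← conj_pow, har, inv_pow, ← ht, htinv]
      have hbt : b * t * b⁻¹ = t := by
        rw [ht, ← conj_pow, hbr, inv_pow, ← ht, htinv]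
      have hcat : Commute a t := by
        show a * t = t * a
        calc a * t = (a * t * a⁻¹) * a := by group
          _ = t * a := by rw [hat]
      have hcbt : Commute b t := by
        show b * t = t * b
        calc b * t = (b * t * b⁻¹) * b := by group
          _ = t * b := by rw [hbt]
      -- a' = a * t ∈ D
      have ha' : a * t ∈ D := (refl_mem hconj ha hb haa hbb m).1
      have hne : a * t ≠ a := by
        intro h
        apply ht1
        have : a * t = a * 1 := by rw [h, mul_one]
        exact mul_left_cancel this
      have hcomm : Commute a (a * t) := (Commute.refl a).mul_right hcat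
      have hK := K a ha (a * t) ha' hne hcomm
      have haat : a * (a * t) = t := by rw [← mul_assoc, haa, one_mul]
      rw [haat] at hK
      have hbmem : b ∈ {y : G | y ∈ D ∧ Commute t y} := ⟨hb, hcbt.symm⟩
      rw [hK] at hbmem
      have hab : Commute a b := hbmem.1.2
      have hr2 : r ^ 2 = 1 := by
        rw [hr, hab.mul_pow, pow_two, pow_two, haa, hbb, one_mul]
      have hdvd : orderOf r ∣ 2 := orderOf_dvd_of_pow_eq_one hr2
      have hle : orderOf r ≤ 2 := Nat.le_of_dvd (by norm_num) hdvd
      omega
    · left; exact hodd

end Cfsg.Agent.S5363
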