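import Cfsg.Statements.S5364

set_option autoImplicit false
open Cfsg

namespace Cfsg.Agent.S5364

theorem mem_zpowers_of_order_two {G : Type*} [Group G] (t : G) (ht : orderOf t = 2) (x : G)
    (hx : x ∈ Subgroup.zpowers t) : x = 1 ∨ x = t := by
  obtain ⟨k, rfl⟩ := hx
  have ht2 : t ^ 2 = 1 := by rw [← ht]; exact pow_orderOf_eq_one t
  rcases Int.even_or_odd' k with ⟨m, rfl | rfl⟩
  · left
    show t ^ (2 * m) = 1
    rw [zpow_mul, zpow_ofNat, ht2, one_zpow]
  · right
    show t ^ (2 * m + 1) = t
    rw [zpow_add, zpow_mul, zpow_ofNat, ht2, one_zpow, one_mul, zpow_one]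

/-- Let D be a conjugation-invariant set of involutions of a finite group G and t an involution in the centre of G such that d t does not lie in D for any d in D. If the images of the members of D in G modulo the subgroup generated by t satisfy the 3-transposition order conditions (each has order 2 and any two have product of order at most 3), then so do the members of D. -/
theorem result {G : Type*} [Group G] [Finite G] {D : Set G} (hinv : ∀ d ∈ D, orderOf d = 2) (hconj : ∀ g : G, ∀ d ∈ D, g * d * g⁻¹ ∈ D) (t : G) (ht : orderOf t = 2) (htZ : t ∈ Subgroup.center G) (hDt : ∀ d ∈ D, d * t ∉ D) [(Subgroup.zpowers t).Normal] (himg : Cfsg.IsThreeTranspositionSet ((QuotientGroup.mk : G → G ⧸ Subgroup.zpowers t) '' D)) : Cfsg.IsThreeTranspositionSet D := by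
  refine ⟨hinv, ?_⟩
  intro d hd e he
  have hd2 : d ^ 2 = 1 := by rw [← hinv d hd]; exact pow_orderOf_eq_one d
  have he2 : e ^ 2 = 1 := by rw [← hinv e he]; exact pow_orderOf_eq_one e
  have hdinv : d⁻¹ = d := by
    rw [inv_eq_iff_mul_eq_one, ← hd2, pow_two]
  have heinv : e⁻¹ = e := by
    rw [inv_eq_iff_mul_eq_one, ← he2, pow_two]
  have hdd : d * d = 1 := by rw [← pow_two]; exact hd2
  have hee : e * e = 1 := by rw [← pow_two]; exact he2
  have h := himg.2 _ ⟨d, hd, rfl⟩ _ ⟨e, he, rfl⟩
  rcases h with h | h
  · left
    have h' : ((d * e) ^ 2 : G) ∈ Subgroup.zpowers t := by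
      rw [← QuotientGroup.eq_one_iff]
      simpa using h
    rcases mem_zpowers_of_order_two t ht _ h' with h1 | h1
    · exact h1
    · exfalso
      -- e d e = d t
      have : e * d * e⁻¹ = d * t := by
        rw [heinv]
        have h2 : d * e * (d * e) = t := by rw [← pow_two]; exact h1
        calc e * d * e = d * d * (e * d * e) := by rw [hdd, one_mul]
          _ = d * (d * e * (d * e)) := by group
          _ = d * t := by rw [h2]
      exact hDt d hd (this ▸ hconj e d hd)
  · right
    have h' : ((d * e) ^ 3 : G) ∈ Subgroup.zpowers t := by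
      rw [← QuotientGroup.eq_one_iff]
      simpa using h
    rcases mem_zpowers_of_order_two t ht _ h' with h1 | h1
    · exact h1
    · exfalso
      -- (d e d)(e d e) = t, x = d e d ∈ D, y = e d e ∈ D, y = x t
      have hx : d * e * d⁻¹ ∈ D := hconj d e he
      have hy : e * d * e⁻¹ ∈ D := hconj e d hd
      rw [hdinv] at hx
      rw [heinv] at hy
      have h3 : d * e * d * (e * d * e) = t := by
        rw [← h1, pow_succ, pow_two]; group
      have hxx : (d * e * d) * (d * e * d) = 1 := by
        calc (d * e * d) * (d * e * d) = d * e * (d * d) * e * d := by group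
          _ = 1 := by rw [hdd, mul_one, mul_assoc d e e, hee, mul_one, hdd]
      have : e * d * e = (d * e * d) * t := by
        calc e * d * e = ((d * e * d) * (d * e * d)) * (e * d * e) := by rw [hxx, one_mul]
          _ = (d * e * d) * ((d * e * d) * (e * d * e)) := by group
          _ = (d * e * d) * t := by rw [h3]
      exact hDt _ hx (this ▸ hy)

end Cfsg.Agent.S5364
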