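import Cfsg.Statements.S5365
import Cfsg.Agent.Lib.Helper89.TT.CaseP
import Cfsg.Agent.Lib.Helper89.TT.CaseKa
import Cfsg.Agent.Lib.Helper89.TT.CaseKb

set_option autoImplicit false
open Cfsg

namespace Cfsg.Agent.S5365

/-- Let D be a non-empty conjugation-invariant set of involutions of a finite group G satisfying the 3-transposition order conditions, and suppose that for every d in D the members of D other than d commuting with d generate a subgroup isomorphic to the symmetric group of degree 3, and the largest normal 3-subgroup of the centralizer of d has order 3. Then the subgroup generated by D is isomorphic to the symmetric group of degree 5 or to the direct product of two symmetric groups of degree 3. -/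
theorem result {G : Type*} [Group G] [Finite G] {D : Set G} (hD : Cfsg.IsThreeTranspositionSet D) (hconj : ∀ g : G, ∀ d ∈ D, g * d * g⁻¹ ∈ D) (hne : D.Nonempty) (hloc : ∀ d ∈ D, Nonempty (↥(Subgroup.closure {y : G | y ∈ D ∧ y ≠ d ∧ Commute d y}) ≃* Equiv.Perm (Fin 3)) ∧ Nat.card (Cfsg.pCore 3 ↥(Subgroup.centralizer ({d} : Set G))) = 3) : Nonempty (↥(Subgroup.closure D) ≃* Equiv.Perm (Fin 5)) ∨ Nonempty (↥(Subgroup.closure D) ≃* Equiv.Perm (Fin 3) × Equiv.Perm (Fin 3)) := by
  classical
  have hloc' : ∀ d ∈ D, Nonempty (↥(Subgroup.closure (Cfsg.Agent.Helper89.TT.Nb D d)) ≃*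
      Equiv.Perm (Fin 3)) := fun d hd => (hloc d hd).1
  have L := Cfsg.Agent.Helper89.TT.loc_of_hyp hD hconj hloc'
  by_cases hP : ∃ d0 ∈ D, ∀ x ∈ D, Cfsg.Agent.Helper89.TT.Nb D x =
      Cfsg.Agent.Helper89.TT.Nb D d0 → x = d0
  · obtain ⟨d0, hd0, h⟩ := hP
    left
    exact L.caseP hd0 h
  · right
    have hK : Cfsg.Agent.Helper89.TT.Twin D := by
      intro d hd
      by_contra hcon
      apply hP
      refine ⟨d, hd, fun x hx hN => ?_⟩
      by_contra hne'
      exact hcon ⟨x, hx, hN, hne'⟩
    obtain ⟨d0, hd0⟩ := hne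
    by_cases hall : ∀ e ∈ D, Cfsg.Agent.Helper89.TT.Rel D d0 e
    · exact L.caseKa hK hd0 hall hloc'
    · exfalso
      push Not at hall
      obtain ⟨e, he, hfar⟩ := hall
      exact L.caseKb_false hK (fun x hx => (hloc x hx).2) hd0 he hfar

end Cfsg.Agent.S5365
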