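import Mathlib
import Cfsg.Statements.S5366
import Cfsg.Agent.Lib.Helper88.FischerSpace

set_option autoImplicit false
open Cfsg

namespace Cfsg.Agent.S5366

open Cfsg.Agent.Helper88

/-- Let L be a nondegenerate Fischer space on the point type X (every point on a line). Then for every point x the map t(x) — sending a point collinear with x to the third point of their common line and fixing every other point — is a permutation of X of order 2 and an automorphism of the line system; and the set of all t(x) satisfies the 3-transposition order conditions in the permutation group of X (any two have product of order at most 3). -/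
theorem result {X : Type*} (L : Set (Set X)) (hL : Cfsg.IsFischerSpace L) (hnd : Cfsg.LineSystem.IsNondegenerate L) : (∀ x : X, ∃ σ : Equiv.Perm X, ⇑σ = Cfsg.LineSystem.lineMap L x ∧ orderOf σ = 2 ∧ Cfsg.LineSystem.IsIso L L σ) ∧ Cfsg.IsThreeTranspositionSet {σ : Equiv.Perm X | ∃ x : X, ⇑σ = Cfsg.LineSystem.lineMap L x} := by
  have h := fs_pl3 hL
  have key : ∀ σ : Equiv.Perm X, ∀ x : X, ⇑σ = Cfsg.LineSystem.lineMap L x → σ = h.perm x := by
    intro σ x hσ
    exact DFunLike.coe_injective hσ
  refine ⟨fun x => ⟨h.perm x, rfl, h.orderOf_perm (hnd x), fischer_isIso hL x⟩, ?_, ?_⟩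
  · rintro σ ⟨x, hσ⟩
    rw [key σ x hσ]
    exact h.orderOf_perm (hnd x)
  · rintro σ ⟨x, hσ⟩ τ ⟨y, hτ⟩
    rw [key σ x hσ, key τ y hτ]
    exact fischer_transpositions hL x y

end Cfsg.Agent.S5366
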