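import Mathlib
import Cfsg.Statements.S5367
import Cfsg.Agent.Lib.Helper88.FischerTT
import Cfsg.Agent.S5344

set_option autoImplicit false
open Cfsg

namespace Cfsg.Agent.S5367

open Cfsg.Agent.Helper88 Cfsg.LineSystem

/-- Let D be a conjugation-invariant generating set of 3-transpositions of a finite group G. Then the line system on D whose lines are the triples {x, y, y x y⁻¹} for non-commuting members x, y of D is a Fischer space: two points lie on at most one line, lines have three points, and two different meeting lines generate a subspace isomorphic to the dual affine plane of order two or to the affine plane of order three. -/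
theorem result {G : Type*} [Group G] [Finite G] {D : Set G} (hD : Cfsg.IsThreeTranspositionGroup D) : Cfsg.IsFischerSpace (Cfsg.threeTranspositionLines D) := by
  have h := TT.of_group hD
  refine ⟨h.pl3.pl, h.pl3.three, ?_⟩
  rintro l hl m hm hne ⟨a, hal, ham⟩
  obtain ⟨x, y, hxy, rfl⟩ := mem_ttLines_iff.1 hl
  obtain ⟨x', y', hxy', rfl⟩ := mem_ttLines_iff.1 hm
  -- second points on the two lines
  obtain ⟨b, hb, hba⟩ : ∃ b ∈ tline x y, b ≠ a := by
    by_cases hxa : x = a
    · exact ⟨y, TT.right_mem_tline x y, fun hy => TT.ne_of_not_commute hxy (hxa.trans hy.symm)⟩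
    · exact ⟨x, TT.left_mem_tline x y, hxa⟩
  obtain ⟨d, hd, hda⟩ : ∃ d ∈ tline x' y', d ≠ a := by
    by_cases hxa : x' = a
    · exact ⟨y', TT.right_mem_tline x' y', fun hy => TT.ne_of_not_commute hxy' (hxa.trans hy.symm)⟩
    · exact ⟨x', TT.left_mem_tline x' y', hxa⟩
  obtain ⟨hab, hl_eq⟩ := h.tline_eq_of_mem hxy hal hb hba.symm
  obtain ⟨had, hm_eq⟩ := h.tline_eq_of_mem hxy' ham hd hda.symm
  rw [← hl_eq, ← hm_eq] at hne ⊢
  -- a reusable form of the dual affine case
  have caseA : ∀ b' : D, ¬ Commute (a : G) (b' : G) → tline a b' = tline a b → Commute (b' : G) (d : G) →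
      Isomorphic (restrict (threeTranspositionLines D)
        (span (threeTranspositionLines D) (tline a b ∪ tline a d))) dualAffinePlaneTwo := by
    intro b' hab' hl' hcomm
    have hb'd : (b' : G) ≠ (d : G) := by
      intro e
      have e' : b' = d := Subtype.ext e
      apply hne
      rw [← hl']
      have hb'm : b' ∈ tline a d := by rw [e']; exact TT.right_mem_tline a d
      exact (h.tline_eq_of_mem had (TT.left_mem_tline a d) hb'm (TT.ne_of_not_commute hab')).2
    obtain ⟨φ, hφ, h01, h12, h23⟩ := Cfsg.Agent.S5344.result hD.1 b'.2 a.2 d.2 hb'd hcomm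
      (fun hc => hab' hc.symm) had
    rw [← hl']
    exact h.plane_dual φ hφ h01 h12 h23
  by_cases h1 : Commute (b : G) (d : G)
  · exact Or.inl (caseA b hab rfl h1)
  by_cases h2 : Commute ((h.circ a b : D) : G) (d : G)
  · obtain ⟨hac, hl'⟩ := h.tline_eq_of_mem hab (TT.left_mem_tline a b) (h.circ_mem_tline a b)
      (h.circ_ne_left hab).symm
    exact Or.inl (caseA (h.circ a b) hac hl' h2)
  · exact Or.inr (h.plane_affine hab had h1 h2)

end Cfsg.Agent.S5367
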