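import Cfsg.Statements.S5392
import Cfsg.Agent.S0400
import Cfsg.Agent.S0401
import Cfsg.Agent.S1567
import Cfsg.Agent.S1570
import Cfsg.Agent.S5551
import Cfsg.Agent.S5593
import Cfsg.Agent.Lib.Helper7.QuadInv
import Cfsg.Agent.Lib.Helper7.Co0Center
import Cfsg.Prelude.Def_Spor_Conway

set_option autoImplicit false
open Cfsg

namespace Cfsg.Agent.S5392
open Cfsg.Agent.Helper7

/-! ### Generalities -/

theorem sqNorm_add (x y : GolayPt → ℤ) : sqNorm (x + y) = sqNorm x + sqNorm y + 2 * dotInt x y := by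
  unfold sqNorm dotInt
  rw [Finset.mul_sum, ← Finset.sum_add_distrib, ← Finset.sum_add_distrib]
  apply Finset.sum_congr rfl
  intro i _
  simp only [Pi.add_apply]
  ring

theorem co0_dot {γ : Equiv.Perm leechLattice} (hγ : γ ∈ Co0) (v w : leechLattice) :
    dotInt (γ v : leechLattice).1 (γ w : leechLattice).1 = dotInt v.1 w.1 := by
  have h1 := hγ.2 (v + w)
  rw [hγ.1] at h1
  rw [AddSubgroup.coe_add, AddSubgroup.coe_add, sqNorm_add, sqNorm_add, hγ.2 v, hγ.2 w] at h1
  linarith

theorem dotInt_neg_left (x y : GolayPt → ℤ) : dotInt (-x) y = -dotInt x y := by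
  unfold dotInt
  rw [← Finset.sum_neg_distrib]
  apply Finset.sum_congr rfl
  intro i _
  simp only [Pi.neg_apply]
  ring

/-- The lattice vector `4 e_i + 4 t e_j`. -/
def fp (i j : GolayPt) (hij : i ≠ j) (t : ℤ) (ht : t = 1 ∨ t = -1) : leechLattice :=
  ⟨fourPair i j 1 t, fourPair_mem i j hij 1 t (Or.inl rfl) ht⟩

theorem fp_norm (i j : GolayPt) (hij : i ≠ j) (t : ℤ) (ht : t = 1 ∨ t = -1) :
    sqNorm (fp i j hij t ht).1 = 32 := sqNorm_fourPair i j hij 1 t (Or.inl rfl) ht

theorem fp_add (i j : GolayPt) (hij : i ≠ j) :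
    fp i j hij 1 (Or.inl rfl) + fp i j hij (-1) (Or.inr rfl) = frameVec i := by
  apply Subtype.ext
  rw [AddSubgroup.coe_add, frameVec_val]
  funext k
  simp only [fp, fourPair, Pi.add_apply, Pi.single_apply]
  split_ifs <;> ring

theorem fp_sub (i j : GolayPt) (hij : i ≠ j) :
    fp i j hij 1 (Or.inl rfl) - fp i j hij (-1) (Or.inr rfl) = frameVec j := by
  apply Subtype.ext
  rw [AddSubgroup.coe_sub, frameVec_val]
  funext k
  simp only [fp, fourPair, Pi.sub_apply, Pi.add_apply, Pi.single_apply]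
  split_ifs <;> ring

/-! ### Faithfulness -/

/-- An automorphism that maps every minimal vector to itself or its negative and fixes
`4 e_a + 4 e_b` is the identity. -/
theorem eq_one_of_fix {γ : Equiv.Perm leechLattice} (hγ : γ ∈ Co0)
    (hA : ∀ u : leechLattice, sqNorm u.1 = 32 → γ u = u ∨ γ u = -u)
    (a b c : GolayPt) (hab : a ≠ b) (hac : a ≠ c) (hbc : b ≠ c)
    (hfix : γ (fp a b hab 1 (Or.inl rfl)) = fp a b hab 1 (Or.inl rfl)) : γ = 1 := by
  -- minimal vectors not orthogonal to the fixed one are fixed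
  have hB : ∀ u : leechLattice, sqNorm u.1 = 32 →
      dotInt u.1 (fp a b hab 1 (Or.inl rfl)).1 ≠ 0 → γ u = u := by
    intro u hu hd
    rcases hA u hu with h | h
    · exact h
    · exfalso
      have := co0_dot hγ u (fp a b hab 1 (Or.inl rfl))
      rw [hfix, h, AddSubgroup.coe_neg, dotInt_neg_left] at this
      apply hd
      linarith
  have hdot : ∀ (i j : GolayPt) (hij : i ≠ j) (t : ℤ) (ht : t = 1 ∨ t = -1),
      (i = a ∨ i = b) → j ≠ a → j ≠ b →
      dotInt (fp i j hij t ht).1 (fp a b hab 1 (Or.inl rfl)).1 ≠ 0 := by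
    intro i j hij t ht hi hja hjb
    show dotInt (fourPair i j 1 t) (fourPair a b 1 1) ≠ 0
    rw [dotInt_fourPair]
    simp only [fourPair, Pi.add_apply, Pi.single_apply]
    rcases hi with rfl | rfl
    · rw [if_pos rfl, if_neg hab, if_neg hja, if_neg hjb]
      norm_num
    · rw [if_neg (Ne.symm hab), if_pos rfl, if_neg hja, if_neg hjb]
      norm_num
  have hadd := (co0Hom γ hγ).map_add
  have hsub := (co0Hom γ hγ).map_sub
  simp only [co0Hom_apply] at hadd hsub
  have hpair : ∀ (i j : GolayPt) (hij : i ≠ j), (i = a ∨ i = b) → j ≠ a → j ≠ b →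
      γ (frameVec i) = frameVec i ∧ γ (frameVec j) = frameVec j := by
    intro i j hij hi hja hjb
    have h1 := hB _ (fp_norm i j hij 1 (Or.inl rfl)) (hdot i j hij 1 (Or.inl rfl) hi hja hjb)
    have h2 := hB _ (fp_norm i j hij (-1) (Or.inr rfl)) (hdot i j hij (-1) (Or.inr rfl) hi hja hjb)
    constructor
    · rw [← fp_add i j hij, hadd, h1, h2]
    · rw [← fp_sub i j hij, hsub, h1, h2]
  have hframe : ∀ i, γ (frameVec i) = frameVec i := by
    intro i
    by_cases hia : i = a
    · rw [hia]
      exact (hpair a c hac (Or.inl rfl) (Ne.symm hac) (Ne.symm hbc)).1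
    · by_cases hib : i = b
      · rw [hib]
        exact (hpair b c hbc (Or.inr rfl) (Ne.symm hac) (Ne.symm hbc)).1
      · exact (hpair a i (Ne.symm hia) (Or.inl rfl) hia hib).2
  have := addHom_ext_frame (co0Hom γ hγ) (AddMonoidHom.id _) (fun i => by
    rw [co0Hom_apply, hframe i]; rfl)
  apply Equiv.ext
  intro x
  have h := congrArg (fun f : leechLattice →+ leechLattice => f x) this
  simpa [co0Hom_apply] using h

theorem faithful (g : ↥Co0)
    (hcong : ∀ v : ↥leechLattice, ∃ w : ↥leechLattice,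
      ((g • v : ↥leechLattice) : GolayPt → ℤ) - (v : GolayPt → ℤ) = 2 • (w : GolayPt → ℤ)) :
    g ∈ Subgroup.center ↥Co0 := by
  have hγ : (g : Equiv.Perm leechLattice) ∈ Co0 := g.2
  have hA : ∀ u : leechLattice, sqNorm u.1 = 32 →
      (g : Equiv.Perm leechLattice) u = u ∨ (g : Equiv.Perm leechLattice) u = -u := by
    intro u hu
    obtain ⟨w, hw⟩ := hcong u
    have hn : sqNorm ((g : Equiv.Perm leechLattice) u : leechLattice).1 = 32 := by
      rw [hγ.2 u, hu]
    have hne : ∀ x : leechLattice, sqNorm x.1 = 32 → x.1 ≠ 0 := by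
      intro x hx h0
      rw [h0] at hx
      simp [sqNorm] at hx
    have := Cfsg.Agent.S5551.result ((g : Equiv.Perm leechLattice) u : leechLattice).1 u.1
      (Subtype.property _) u.2 (hne _ hn) (hne _ hu) (by rw [hn]; norm_num) (by rw [hu]; norm_num)
      ⟨w.1, w.2, hw⟩
    rcases this.2 (by rw [hn]; norm_num) with h | h
    · left
      exact Subtype.ext h.symm
    · right
      apply Subtype.ext
      rw [AddSubgroup.coe_neg, h, neg_neg]
  have hab : (none : GolayPt) ≠ some 0 := by decide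
  have hac : (none : GolayPt) ≠ some 1 := by decide
  have hbc : (some 0 : GolayPt) ≠ some 1 := by decide
  rcases hA _ (fp_norm none (some 0) hab 1 (Or.inl rfl)) with h | h
  · have e := eq_one_of_fix hγ hA none (some 0) (some 1) hab hac hbc h
    have : g = 1 := Subtype.ext e
    rw [this]
    exact Subgroup.one_mem _
  · have hγ' : negPerm * (g : Equiv.Perm leechLattice) ∈ Co0 := Co0.mul_mem negPerm_mem hγ
    have hA' : ∀ u : leechLattice, sqNorm u.1 = 32 →
        (negPerm * (g : Equiv.Perm leechLattice)) u = u ∨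
          (negPerm * (g : Equiv.Perm leechLattice)) u = -u := by
      intro u hu
      rw [Equiv.Perm.mul_apply, negPerm_apply]
      rcases hA u hu with h' | h'
      · right; rw [h']
      · left; rw [h', neg_neg]
    have hfix' : (negPerm * (g : Equiv.Perm leechLattice)) (fp none (some 0) hab 1 (Or.inl rfl)) =
        fp none (some 0) hab 1 (Or.inl rfl) := by
      rw [Equiv.Perm.mul_apply, negPerm_apply, h, neg_neg]
    have e := eq_one_of_fix hγ' hA' none (some 0) (some 1) hab hac hbc hfix'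
    have e2 : (g : Equiv.Perm leechLattice) = negPerm := by
      have hnn : negPerm * negPerm = 1 := by
        ext x : 1
        simp [negPerm_apply]
      calc (g : Equiv.Perm leechLattice) = negPerm * (negPerm * (g : Equiv.Perm leechLattice)) := by
            rw [← mul_assoc, hnn, one_mul]
        _ = negPerm := by rw [e, mul_one]
    rw [Subgroup.mem_center_iff]
    intro h'
    apply Subtype.ext
    show (h' : Equiv.Perm leechLattice) * (g : Equiv.Perm leechLattice) =
      (g : Equiv.Perm leechLattice) * (h' : Equiv.Perm leechLattice)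
    rw [e2]
    exact negPerm_comm _ h'.2

/-! ### Irreducibility -/

/-- The vector with `5` at `i` and `1` elsewhere. -/
def five (i : GolayPt) : GolayPt → ℤ := fun p => if p = i then 5 else 1

theorem five_mem (i : GolayPt) (hsum : ∑ p, five i p ≡ 4 * 1 [ZMOD 8]) : five i ∈ leechLattice := by
  apply AddSubgroup.subset_closure
  apply Spor.mem_leechSet_of_const_mod_four (five i) 1 1 (by decide) _ hsum
  intro p
  unfold five
  split_ifs <;> decide

theorem five_none_mem : five none ∈ leechLattice := five_mem none (by decide)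

theorem five_zero_mem : five (some 0) ∈ leechLattice := five_mem (some 0) (by decide)

theorem two_nsmul_eq (z : GolayPt → ℤ) : 2 • z = (2 : ℤ) • z := by
  rw [two_nsmul, two_zsmul]

theorem irreducible_of
    (h64 : ∀ (v w : ↥leechLattice), sqNorm (v : GolayPt → ℤ) = 64 → sqNorm (w : GolayPt → ℤ) = 64 →
      ∃ g : ↥Co0, ∃ z ∈ leechLattice,
        ((g • v : ↥leechLattice) : GolayPt → ℤ) - (w : GolayPt → ℤ) = 2 • z)
    (M : AddSubgroup (GolayPt → ℤ)) (h2 : ∀ v ∈ leechLattice, (2 : ℤ) • v ∈ M)
    (hM : M ≤ leechLattice)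
    (hinv : ∀ g : ↥Co0, ∀ v : ↥leechLattice, (v : GolayPt → ℤ) ∈ M →
      ((g • v : ↥leechLattice) : GolayPt → ℤ) ∈ M) :
    (∀ x ∈ M, ∃ w ∈ leechLattice, x = (2 : ℤ) • w) ∨ M = leechLattice := by
  by_cases hall : ∀ x ∈ M, ∃ w ∈ leechLattice, x = (2 : ℤ) • w
  · exact Or.inl hall
  right
  push Not at hall
  obtain ⟨x, hxM, hx⟩ := hall
  have hxL := hM hxM
  obtain ⟨y, hyL, hyn, z, hzL, hxy⟩ := Cfsg.Agent.S1570.result x hxL
  rw [two_nsmul_eq] at hxy
  have hyM : y ∈ M := by
    have e : y = x - (2 : ℤ) • z := by rw [← hxy]; abel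
    rw [e]
    exact M.sub_mem hxM (h2 z hzL)
  have hy0 : y ≠ 0 := by
    intro h
    apply hx z hzL
    rw [h, sub_zero] at hxy
    exact hxy
  have h16 := sixteen_dvd_sqNorm y hyL
  have h32 := Cfsg.Agent.Helper91.leech_min_norm y hyL hy0
  have hcases : sqNorm y = 32 ∨ sqNorm y = 48 ∨ sqNorm y = 64 := by omega
  have hmin : (∃ u0 : leechLattice, sqNorm u0.1 = 32 ∧ u0.1 ∈ M) → leechLattice ≤ M := by
    rintro ⟨u0, hu0, hu0M⟩
    rw [← Cfsg.Agent.S1567.result, AddSubgroup.closure_le]
    rintro u ⟨huL, hun⟩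
    obtain ⟨g, hg⟩ := Cfsg.Agent.S0400.result u0 ⟨u, huL⟩ hu0 hun
    have := hinv g u0 hu0M
    rw [hg] at this
    exact this
  apply le_antisymm hM
  apply hmin
  rcases hcases with h | h | h
  · exact ⟨⟨y, hyL⟩, h, hyM⟩
  · have hall48 : ∀ u : leechLattice, sqNorm u.1 = 48 → u.1 ∈ M := by
      intro u hu
      obtain ⟨g, hg⟩ := Cfsg.Agent.S0401.result ⟨y, hyL⟩ u h hu
      have := hinv g ⟨y, hyL⟩ hyM
      rw [hg] at this
      exact this
    have hab : (none : GolayPt) ≠ some 0 := by decide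
    refine ⟨fp none (some 0) hab (-1) (Or.inr rfl), fp_norm _ _ _ _ _, ?_⟩
    have e : (fp none (some 0) hab (-1) (Or.inr rfl)).1 = five none - five (some 0) := by
      funext p
      show fourPair none (some 0) 1 (-1) p = five none p - five (some 0) p
      revert p
      decide
    rw [e]
    exact M.sub_mem (hall48 ⟨five none, five_none_mem⟩ (by decide))
      (hall48 ⟨five (some 0), five_zero_mem⟩ (by decide))
  · have hab : (none : GolayPt) ≠ some 0 := by decide
    have h12 : (some 1 : GolayPt) ≠ some 2 := by decide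
    have h13 : (some 1 : GolayPt) ≠ some 3 := by decide
    have h23 : (some 2 : GolayPt) ≠ some 3 := by decide
    let W0 : leechLattice := fp none (some 0) hab 1 (Or.inl rfl) + fp (some 1) (some 2) h12 1 (Or.inl rfl)
    let W1 : leechLattice := fp none (some 0) hab 1 (Or.inl rfl) + fp (some 1) (some 3) h13 1 (Or.inl rfl)
    have hall64 : ∀ W : leechLattice, sqNorm W.1 = 64 → W.1 ∈ M := by
      intro W hW
      obtain ⟨g, z', hz', e⟩ := h64 ⟨y, hyL⟩ W h hW
      rw [two_nsmul_eq] at e
      have e' : W.1 = ((g • (⟨y, hyL⟩ : leechLattice) : ↥leechLattice) : GolayPt → ℤ) - (2 : ℤ) • z' := by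
        rw [← e]; abel
      rw [e']
      exact M.sub_mem (hinv g ⟨y, hyL⟩ hyM) (h2 z' hz')
    refine ⟨fp (some 2) (some 3) h23 (-1) (Or.inr rfl), fp_norm _ _ _ _ _, ?_⟩
    have e : (fp (some 2) (some 3) h23 (-1) (Or.inr rfl)).1 = W0.1 - W1.1 := by
      funext p
      show fourPair (some 2) (some 3) 1 (-1) p =
        (fourPair none (some 0) 1 1 + fourPair (some 1) (some 2) 1 1) p -
          (fourPair none (some 0) 1 1 + fourPair (some 1) (some 3) 1 1) p
      revert p
      decide
    rw [e]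
    have n0 : sqNorm W0.1 = 64 := by
      show sqNorm (fourPair none (some 0) 1 1 + fourPair (some 1) (some 2) 1 1) = 64
      decide
    have n1 : sqNorm W1.1 = 64 := by
      show sqNorm (fourPair none (some 0) 1 1 + fourPair (some 1) (some 3) 1 1) = 64
      decide
    exact M.sub_mem (hall64 W0 n0) (hall64 W1 n1)

/-- The Leech lattice modulo twice itself is a faithful irreducible module for the first Conway group: an automorphism of the rank-24 lattice built from the length-24 code that moves every lattice vector only by twice a lattice vector lies in the centre of the automorphism group (the centre consists of ±1, which act trivially there, so the kernel is exactly the centre), and an additive subgroup lying between twice the lattice and the lattice that is invariant under all lattice automorphisms is one of the two. -/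
theorem result : (∀ g : ↥Cfsg.Co0, (∀ v : ↥Cfsg.leechLattice, ∃ w : ↥Cfsg.leechLattice, ((g • v : ↥Cfsg.leechLattice) : Cfsg.GolayPt → ℤ) - (v : Cfsg.GolayPt → ℤ) = 2 • (w : Cfsg.GolayPt → ℤ)) → g ∈ Subgroup.center ↥Cfsg.Co0) ∧ ∀ M : AddSubgroup (Cfsg.GolayPt → ℤ), (∀ v ∈ Cfsg.leechLattice, (2 : ℤ) • v ∈ M) → M ≤ Cfsg.leechLattice → (∀ g : ↥Cfsg.Co0, ∀ v : ↥Cfsg.leechLattice, (v : Cfsg.GolayPt → ℤ) ∈ M → ((g • v : ↥Cfsg.leechLattice) : Cfsg.GolayPt → ℤ) ∈ M) → (∀ x ∈ M, ∃ w ∈ Cfsg.leechLattice, x = (2 : ℤ) • w) ∨ M = Cfsg.leechLattice := by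
  exact ⟨faithful, irreducible_of Cfsg.Agent.S5593.result⟩

end Cfsg.Agent.S5392
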