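import Cfsg.Statements.S5396
import Cfsg.Agent.Lib.Helper89.ExtraCrit
import Cfsg.Agent.Lib.Helper89.TwistRank

set_option autoImplicit false
open Cfsg

namespace Cfsg.Agent.S5396

open Cfsg.Agent.Helper89

/-- The central involution of the group of order two. -/
def c0 : CentralInv (Multiplicative (ZMod 2)) where
  val := Multiplicative.ofAdd 1
  central := fun g => mul_comm _ _
  sq := by decide

theorem good_Z2 : Good (Multiplicative (ZMod 2)) c0.val where
  ne_one := by decide
  sq := by decide
  central := fun g => mul_comm _ _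
  sqs := by decide
  comm := by decide
  cent := by
    intro g _
    revert g
    decide

theorem sq_Z2 : ∀ s : Multiplicative (ZMod 2), s * s = 1 := by decide

/-- There is a group of order `2 ^ (2 n + 1)` with squares and commutators in `{1, c}`, centre
`{1, c}` and `2`-rank `r`. -/
def HasES (n r : ℕ) : Prop :=
  ∃ (E : Type) (_ : Group E) (_ : Finite E) (c : CentralInv E),
    Good E c.val ∧ Nat.card E = 2 ^ (2 * n + 1) ∧ RankGE E r ∧ RankLE E r

theorem hasES_zero : HasES 0 1 := by
  refine ⟨Multiplicative (ZMod 2), inferInstance, inferInstance, c0, good_Z2, ?_, ?_, ?_⟩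
  · rw [Twist.card_mult_zmod_two]; norm_num
  · refine ⟨⊤, elemAb_of ⊤ (fun a _ b _ => mul_comm a b) (fun a _ => ?_), ?_⟩
    · exact sq_Z2 a
    · rw [Subgroup.card_top, Twist.card_mult_zmod_two]; norm_num
  · intro A _
    calc Nat.card A ≤ Nat.card (Multiplicative (ZMod 2)) := Subgroup.card_le_card_group _
      _ = 2 ^ 1 := by rw [Twist.card_mult_zmod_two]; norm_num

theorem hasES_step {n r : ℕ} (h : HasES n r) : HasES (n + 1) (r + 1) := by
  obtain ⟨E, _, _, c, hG, hcard, hGE, hLE⟩ := h
  refine ⟨Twist E c 0 0, inferInstance, inferInstance, Twist.cinv, Twist.good hG, ?_,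
    Twist.rankGE hGE, Twist.rankLE hG.ne_one hLE⟩
  rw [Twist.card_eq, hcard]
  ring

theorem zmod_two_form (x y : ZMod 2) (h : 1 * x * x + y * x + 1 * y * y = 0) : x = 0 ∧ y = 0 := by
  revert x y
  decide

theorem hasES_quaternion : HasES 1 1 := by
  have hG : Good (Twist (Multiplicative (ZMod 2)) c0 1 1) (Twist.inl c0.val) := Twist.good good_Z2
  refine ⟨Twist (Multiplicative (ZMod 2)) c0 1 1, inferInstance, inferInstance, Twist.cinv, hG,
    ?_, ?_, ?_⟩
  · rw [Twist.card_eq, Twist.card_mult_zmod_two]; norm_num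
  · refine ⟨(⊤ : Subgroup (Multiplicative (ZMod 2))).map Twist.inl, ?_, ?_⟩
    · apply elemAb_of
      · rintro _ ⟨s, _, rfl⟩ _ ⟨t, _, rfl⟩
        rw [← map_mul, ← map_mul, mul_comm]
      · rintro _ ⟨s, _, rfl⟩
        rw [← map_mul]
        rw [sq_Z2 s, map_one]
    · rw [Subgroup.card_map_of_injective Twist.inl_injective, Subgroup.card_top,
        Twist.card_mult_zmod_two]
      norm_num
  · intro A hA
    have hle : A ≤ (⊤ : Subgroup (Multiplicative (ZMod 2))).map Twist.inl := by
      intro a ha
      have h1 := congrArg Twist.g (elemAb_sq hA ha)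
      simp only [Twist.mul_g, Twist.one_g, beta] at h1
      have h2 : a.g * a.g = 1 := sq_Z2 _
      rw [h2, one_mul] at h1
      have h3 := (c0.pw_eq_one_iff good_Z2.ne_one _).mp h1
      obtain ⟨hx, hy⟩ := zmod_two_form _ _ h3
      exact ⟨a.g, Subgroup.mem_top _, Twist.ext rfl hx.symm hy.symm⟩
    calc Nat.card A ≤ Nat.card ((⊤ : Subgroup (Multiplicative (ZMod 2))).map
          (Twist.inl : _ →* Twist (Multiplicative (ZMod 2)) c0 1 1)) := Subgroup.card_le_of_le hle
      _ = 2 ^ 1 := by
        rw [Subgroup.card_map_of_injective Twist.inl_injective, Subgroup.card_top,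
          Twist.card_mult_zmod_two]
        norm_num

theorem hasES_plus (n : ℕ) : HasES n (n + 1) := by
  induction n with
  | zero => exact hasES_zero
  | succ k ih => exact hasES_step ih

theorem hasES_minus (n : ℕ) (hn : 1 ≤ n) : HasES n n := by
  induction n, hn using Nat.le_induction with
  | base => exact hasES_quaternion
  | succ k _ ih => exact hasES_step ih

theorem final_of_hasES {n r : ℕ} (hn : 1 ≤ n) (h : HasES n r) :
    ∃ (E : Type) (_ : Group E) (_ : Finite E), Cfsg.IsExtraspecial 2 E ∧
      Nat.card E = 2 ^ (2 * n + 1) ∧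
      sSup {k : ℕ | ∃ A : Subgroup E, Cfsg.IsElementaryAbelian 2 A ∧ Nat.card A = 2 ^ k} = r := by
  obtain ⟨E, instG, instF, c, hG, hcard, hGE, hLE⟩ := h
  refine ⟨E, instG, instF, ?_, hcard, ?_⟩
  · apply hG.isExtraspecial
    by_contra hcon
    push Not at hcon
    have hall : ∀ g : E, g = 1 ∨ g = c.val := fun g => hG.cent g (fun k => hcon g k)
    have hle : Nat.card E ≤ 2 := by
      rw [← Set.ncard_univ]
      calc (Set.univ : Set E).ncard ≤ ({1, c.val} : Set E).ncard := by
            apply Set.ncard_le_ncard _ (Set.toFinite _)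
            intro g _
            rcases hall g with h1 | h1
            · left; exact h1
            · right; exact h1
        _ ≤ 2 := by
            refine (Set.ncard_insert_le _ _).trans ?_
            simp
    have : 2 ^ 3 ≤ 2 ^ (2 * n + 1) := Nat.pow_le_pow_right (by norm_num) (by omega)
    rw [hcard] at hle
    omega
  · apply IsGreatest.csSup_eq
    refine ⟨hGE, ?_⟩
    rintro k ⟨A, hA, hk⟩
    have := hLE A hA
    rw [hk] at this
    exact (Nat.pow_le_pow_iff_right (by norm_num)).mp this


/-- For every n ≥ 1 there exist finite extraspecial 2-groups of order 2^(2n+1) whose 2-rank (the largest rank of an elementary abelian subgroup) is n, and ones whose 2-rank is n + 1 (so for each such order there are two non-isomorphic extraspecial 2-groups, told apart by their 2-rank). -/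
theorem result (n : ℕ) (hn : 1 ≤ n) : ∀ r ∈ ({n, n + 1} : Set ℕ), ∃ (E : Type) (_ : Group E) (_ : Finite E), Cfsg.IsExtraspecial 2 E ∧ Nat.card E = 2 ^ (2 * n + 1) ∧ sSup {k : ℕ | ∃ A : Subgroup E, Cfsg.IsElementaryAbelian 2 A ∧ Nat.card A = 2 ^ k} = r := by
  intro r hr
  rcases hr with rfl | hr
  · exact final_of_hasES hn (hasES_minus _ hn)
  · rw [Set.mem_singleton_iff] at hr
    subst hr
    exact final_of_hasES hn (hasES_plus n)

end Cfsg.Agent.S5396
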