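import Cfsg.Statements.S5423
import Cfsg.Agent.Lib.Helper89.AGL.Final

set_option autoImplicit false
open Cfsg

namespace Cfsg.Agent.S5423

/-- Let G be a finite group that is the split extension of an elementary abelian normal subgroup U of order 2^(n+1), n ≥ 1, by its full automorphism group: U has a complement M in G whose conjugation action on U is faithful and realizes every automorphism of U. Let Z be a subgroup of U of order 2 and Q the largest normal 2-subgroup of the centralizer C of Z. Then Q is extraspecial of order 2^(2n+1) with an elementary abelian subgroup of order 2^(n+1) (plus type), Q is a large extraspecial 2-subgroup of G, and C is the split extension of Q by the general linear group of degree n over the field with two elements. -/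
theorem result {G : Type*} [Group G] [Finite G] (n : ℕ) (hn : 1 ≤ n) (U M : Subgroup G) [U.Normal] (hU : Cfsg.IsElementaryAbelian 2 U) (hUcard : Nat.card ↥U = 2 ^ (n + 1)) (hUM : U ⊓ M = ⊥) (hUM' : U ⊔ M = ⊤) (hfaith : ∀ m ∈ M, (∀ u ∈ U, m * u * m⁻¹ = u) → m = 1) (hfull : ∀ φ : ↥U ≃* ↥U, ∃ m ∈ M, ∀ u : ↥U, ((φ u : ↥U) : G) = m * u * m⁻¹) (Z : Subgroup G) (hZU : Z ≤ U) (hZ : Nat.card ↥Z = 2) (Q : Subgroup G) (hQ : Q = (Cfsg.pCore 2 ↥(Subgroup.centralizer (Z : Set G))).map (Subgroup.centralizer (Z : Set G)).subtype) : Cfsg.IsExtraspecial 2 ↥Q ∧ Nat.card ↥Q = 2 ^ (2 * n + 1) ∧ (∃ E : Subgroup G, E ≤ Q ∧ Cfsg.IsElementaryAbelian 2 E ∧ Nat.card ↥E = 2 ^ (n + 1)) ∧ Cfsg.IsLargeExtraspecial Q ∧ ∃ K : Subgroup G, K ≤ Subgroup.centralizer (Z : Set G) ∧ Q ⊓ K = ⊥ ∧ Q ⊔ K = Subgroup.centralizer (Z : Set G) ∧ Nonempty (↥K ≃* Matrix.GeneralLinearGroup (Fin n) (ZMod 2)) := by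
  have : Fact (Nat.Prime 2) := ⟨Nat.prime_two⟩
  -- the generator of Z
  obtain ⟨z', hz'ne, hz'uniq⟩ := (Nat.card_eq_two_iff' (1 : ↥Z)).mp hZ
  have hzZ : (z' : G) ∈ Z := z'.2
  have hzU : (z' : G) ∈ U := hZU hzZ
  have hzne : (z' : G) ≠ 1 := fun h => hz'ne (Subtype.ext h)
  have hZz : Subgroup.centralizer (Z : Set G) = Subgroup.centralizer ({(z' : G)} : Set G) := by
    ext g
    rw [Subgroup.mem_centralizer_iff, Subgroup.mem_centralizer_singleton_iff]
    constructor
    · intro h
      exact (h _ hzZ).symm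
    · intro h x hx
      by_cases hx1 : (⟨x, hx⟩ : ↥Z) = 1
      · have : x = 1 := congrArg Subtype.val hx1
        rw [this, one_mul, mul_one]
      · have : (⟨x, hx⟩ : ↥Z) = z' := hz'uniq _ hx1
        have hxz : x = (z' : G) := congrArg Subtype.val this
        rw [hxz]
        exact h.symm
  have hcomm : ∀ a b : ↥U, a * b = b * a := fun a b => hU.1.is_comm.comm a b
  have hexp : ∀ a : ↥U, a ^ 2 = 1 := by
    intro a
    apply Subtype.ext
    rw [Subgroup.coe_pow]
    exact hU.2 a a.2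
  obtain ⟨ξ, hξ, hξz⟩ := Cfsg.Agent.Helper89.AGL.exists_coord hcomm hexp n hUcard ⟨(z' : G), hzU⟩
    (fun h => hzne (congrArg Subtype.val h))
  let S : Cfsg.Agent.Helper89.AGL.Setup G n :=
    { U := U
      M := M
      normal := inferInstance
      comm := hcomm
      inf := hUM
      sup := hUM'
      c := ⟨ξ, hξ⟩
      faith := hfaith
      full := hfull }
  have hU2 : IsPGroup 2 ↥U := IsPGroup.of_card hUcard
  rw [hZz] at hQ ⊢
  exact Cfsg.Agent.Helper89.AGL.main hn S hzU hξz hU2 Q hQ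

end Cfsg.Agent.S5423
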