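import Cfsg.Statements.S5427
import Cfsg.Agent.Lib.Helper89.LargeSimple
import Cfsg.Agent.Lib.Helper89.FStarProps
import Cfsg.Agent.S5421
import Cfsg.Agent.S5422

set_option autoImplicit false
open Cfsg

namespace Cfsg.Agent.S5427

/-- Let z be an involution of the finite group G whose centralizer C has generalized Fitting subgroup Q, an extraspecial 2-group of width at least 2 (order 2^(2w+1), w ≥ 2). Let K be a subgroup of G such that the subgroup U generated by the K-conjugates of z is abelian and C is generated by the C-conjugates of U. Suppose that either some K-conjugate of z other than z lies in Q, or some element u of U ∩ Q outside the subgroup generated by z has z in the largest normal 2-subgroup of its centralizer. Then G is simple and Q is a large extraspecial 2-subgroup of G. -/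
theorem result {G : Type*} [Group G] [Finite G] (z : G) (hz : orderOf z = 2) (Q : Subgroup G) (hQC : Q ≤ Subgroup.centralizer ({z} : Set G)) (hF : (Cfsg.generalizedFittingSubgroup ↥(Subgroup.centralizer ({z} : Set G))).map (Subgroup.centralizer ({z} : Set G)).subtype = Q) (hQ : Cfsg.IsExtraspecial 2 ↥Q) (w : ℕ) (hw : 2 ≤ w) (hcard : Nat.card ↥Q = 2 ^ (2 * w + 1)) (K U : Subgroup G) (hU : U = Subgroup.closure {x : G | ∃ k ∈ K, x = k * z * k⁻¹}) (hUab : IsMulCommutative ↥U) (hgen : Subgroup.closure {x : G | ∃ c ∈ Subgroup.centralizer ({z} : Set G), ∃ u ∈ U, x = c * u * c⁻¹} = Subgroup.centralizer ({z} : Set G)) (h3 : (∃ k ∈ K, k * z * k⁻¹ ∈ Q ∧ k * z * k⁻¹ ≠ z) ∨ ∃ u ∈ U ⊓ Q, u ∉ Subgroup.zpowers z ∧ (∃ hz' : z ∈ Subgroup.centralizer ({u} : Set G), (⟨z, hz'⟩ : ↥(Subgroup.centralizer ({u} : Set G))) ∈ Cfsg.pCore 2 ↥(Subgroup.centralizer ({u} : Set G)))) : IsSimpleGroup G ∧ Cfsg.IsLargeExtraspecial Q := by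
  obtain ⟨hES, hcenter, hL2, hL3, hnormC, hselfC⟩ :=
    Helper89.fstar_involution_setting z hz Q hF hQ
  have hz2 : z * z = 1 := by
    have := pow_orderOf_eq_one z
    rw [hz, pow_two] at this
    exact this
  have hzinv : z⁻¹ = z := inv_eq_of_mul_eq_one_right hz2
  -- every generator of U is an involution
  have hUsq : ∀ u ∈ U, u * u = 1 := by
    intro u hu
    rw [hU] at hu
    have hcomm : ∀ a ∈ U, ∀ b ∈ U, a * b = b * a := by
      intro a ha b hb
      have := hUab.is_comm.comm (⟨a, ha⟩ : U) ⟨b, hb⟩
      exact congrArg Subtype.val this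
    have hUcl : ∀ x ∈ Subgroup.closure {x : G | ∃ k ∈ K, x = k * z * k⁻¹}, x ∈ U := by
      intro x hx
      rw [hU]
      exact hx
    induction hu using Subgroup.closure_induction with
    | mem x hx =>
      obtain ⟨k, -, rfl⟩ := hx
      calc k * z * k⁻¹ * (k * z * k⁻¹) = k * (z * z) * k⁻¹ := by group
        _ = 1 := by rw [hz2]; group
    | one => simp
    | mul a b ha hb iha ihb =>
      have hab := hcomm a (hUcl a ha) b (hUcl b hb)
      calc a * b * (a * b) = a * (b * a) * b := by group
        _ = a * (a * b) * b := by rw [hab]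
        _ = (a * a) * (b * b) := by group
        _ = 1 := by rw [iha, ihb]; simp
    | inv a ha iha =>
      calc a⁻¹ * a⁻¹ = (a * a)⁻¹ := by group
        _ = 1 := by rw [iha]; simp
  have hLarge : Cfsg.IsLargeExtraspecial Q := by
    rcases h3 with ⟨k, hkK, hkQ, hkne⟩ | ⟨u, hu, huz, hz', hzO⟩
    · have hk : k ∉ Subgroup.normalizer
          ((((Subgroup.center ↥Q).map Q.subtype : Subgroup G)) : Set G) := by
        intro hk
        rw [Subgroup.mem_normalizer_iff] at hk
        have := (hk z).mp ((hcenter z).mpr (Or.inr rfl))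
        rcases (hcenter _).mp this with e | e
        · apply hES.ne_one
          have : z = k⁻¹ * (k * z * k⁻¹) * k := by group
          rw [this, e]; group
        · exact hkne e
      have hZg : ((Subgroup.center ↥Q).map Q.subtype).map (MulAut.conj k).toMonoidHom ≤ Q := by
        rintro _ ⟨x, hx, rfl⟩
        rcases (hcenter x).mp hx with e | e
        · rw [e]; simp
        · rw [e]
          simpa using hkQ
      exact (Cfsg.Agent.S5422.result Q hQ hL2 hL3 w hw hcard k hk hZg).2.2
    · have huU : u ∈ U := hu.1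
      have huQ : u ∈ Q := hu.2
      have huZ : u ∉ (Subgroup.center ↥Q).map Q.subtype := by
        intro h
        rcases (hcenter u).mp h with e | e
        · exact huz (e ▸ Subgroup.one_mem _)
        · exact huz (e ▸ Subgroup.mem_zpowers z)
      have hu1 : u ≠ 1 := fun e => huz (e ▸ Subgroup.one_mem _)
      have huo : orderOf u = 2 := by
        apply orderOf_eq_prime
        · rw [pow_two]; exact hUsq u huU
        · exact hu1
      have hZ : (Subgroup.center ↥Q).map Q.subtype ≤
          (Cfsg.pCore 2 ↥(Subgroup.centralizer ({u} : Set G))).map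
            (Subgroup.centralizer ({u} : Set G)).subtype := by
        intro x hx
        rcases (hcenter x).mp hx with e | e
        · rw [e]; exact Subgroup.one_mem _
        · rw [e]; exact ⟨⟨z, hz'⟩, hzO, rfl⟩
      exact Cfsg.Agent.S5421.result Q hQ hL2 hL3 u huQ huZ huo hZ
  refine ⟨?_, hLarge⟩
  apply Helper89.isSimpleGroup_of_large hES hnormC hselfC hLarge.2.2.2
  intro N hN hzN
  have hUN : U ≤ N := by
    rw [hU, Subgroup.closure_le]
    rintro _ ⟨k, -, rfl⟩
    exact hN.conj_mem z hzN k
  rw [← hgen, Subgroup.closure_le]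
  rintro _ ⟨c, -, u, hu, rfl⟩
  exact hN.conj_mem u (hUN hu) c

end Cfsg.Agent.S5427
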