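import Cfsg.Statements.S5428
import Cfsg.Agent.Lib.Helper89.QuotOdd
import Cfsg.Agent.Lib.Helper89.CoprimeES
import Cfsg.Agent.Lib.Helper89.CentralTwo
import Cfsg.Agent.Lib.Helper89.FStarProps

set_option autoImplicit false
open Cfsg

namespace Cfsg.Agent.S5428

/-- Let z be an involution of the finite group G whose centralizer C has generalized Fitting subgroup Q extraspecial (as a 2-group), let A be a subgroup of C of odd order, and let R be the centralizer of A in Q; suppose R has order at least 32, the largest normal subgroup of odd order of the centralizer of the subgroup generated by A and R lies in A, the order of that centralizer is not divisible by 4, and g is an element of G with g z g⁻¹ in R but outside the centre Z of Q. Let M be the subgroup generated by A and the centralizer of A (A is normal in it). Then: the centralizer in M of the subgroup generated by R and A, joined with A, equals the subgroup generated by A and Z; the image of R in M/A is a large extraspecial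 2-subgroup of M/A; and g z g⁻¹ is conjugate to z inside the subgroup generated by R and the centralizer of A in g Q g⁻¹. -/
theorem result {G : Type*} [Group G] [Finite G] (z : G) (hz : orderOf z = 2) (Q : Subgroup G) (hQC : Q ≤ Subgroup.centralizer ({z} : Set G)) (hF : (Cfsg.generalizedFittingSubgroup ↥(Subgroup.centralizer ({z} : Set G))).map (Subgroup.centralizer ({z} : Set G)).subtype = Q) (hQ : Cfsg.IsExtraspecial 2 ↥Q) (A : Subgroup G) (hA : A ≤ Subgroup.centralizer ({z} : Set G)) (hAodd : Odd (Nat.card ↥A)) (R : Subgroup G) (hR : R = Q ⊓ Subgroup.centralizer (A : Set G)) (hR32 : 32 ≤ Nat.card ↥R) (hO : (Cfsg.oddCore ↥(Subgroup.centralizer ((A ⊔ R : Subgroup G) : Set G))).map (Subgroup.centralizer ((A ⊔ R : Subgroup G) : Set G)).subtype ≤ A) (h4 : ¬ 4 ∣ Nat.card ↥(Subgroup.centralizer ((A ⊔ R : Subgroup G) : Set G))) (g : G) (hgR : g * z * g⁻¹ ∈ R) (hgZ : g * z * g⁻¹ ∉ ((Subgroup.center ↥Q).map Q.subtype)) (M : Subgroup G) (hM : M = Subgroup.centralizer (A : Set G)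 ⊔ A) [hn : (A.subgroupOf M).Normal] : (M ⊓ Subgroup.centralizer ((R ⊔ A : Subgroup G) : Set G)) ⊔ A = A ⊔ ((Subgroup.center ↥Q).map Q.subtype) ∧ Cfsg.IsLargeExtraspecial ((R.subgroupOf M).map (QuotientGroup.mk' (A.subgroupOf M))) ∧ ∃ x ∈ R ⊔ ((Q).map (MulAut.conj g).toMonoidHom ⊓ Subgroup.centralizer (A : Set G)), x * (g * z * g⁻¹) * x⁻¹ = z := by
  obtain ⟨hES, hcenter, hL2, hL3, hnormC, hselfC⟩ :=
    Helper89.fstar_involution_setting z hz Q hF hQ
  set a := g * z * g⁻¹ with ha
  set Qg := Q.map (MulAut.conj g).toMonoidHom with hQg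
  have hESg : Helper89.ES Qg a := hES.conj g
  set CA := Subgroup.centralizer (A : Set G) with hCA
  have hCAmem : ∀ x : G, x ∈ CA ↔ ∀ α ∈ A, α * x = x * α := fun x => Subgroup.mem_centralizer_iff
  have hRmem : ∀ x : G, x ∈ R ↔ x ∈ Q ∧ ∀ α ∈ A, α * x = x * α := by
    intro x
    rw [hR, Subgroup.mem_inf, hCAmem]
  have hRQ : R ≤ Q := by rw [hR]; exact inf_le_left
  have hRCA : R ≤ CA := by rw [hR]; exact inf_le_right
  have hcard32 : 32 ≤ Nat.card Q := le_trans hR32 (Subgroup.card_le_of_le hRQ)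
  have hne : a ≠ z := fun h => hgZ ((hcenter a).mpr (Or.inr h))
  have ha1 : a ≠ 1 := hESg.ne_one
  have haQ : a ∈ Q := hRQ hgR
  have hC : ∀ x : G, (∀ y ∈ Q, x * y = y * x) → x = 1 ∨ x = z := by
    intro x hx
    apply (hcenter x).mp
    rw [← hL2, Subgroup.mem_centralizer_iff]
    intro y hy
    exact (hx y hy).symm
  have hN : ∀ x : G, x * z = z * x → ∀ y ∈ Q, x * y * x⁻¹ ∈ Q := by
    intro x hx y hy
    exact hnormC x (Subgroup.mem_centralizer_singleton_iff.mpr hx) y hy
  have hzQg : z ∈ Qg := Helper89.center_mem_conj Q z hES hC hN hcard32 g haQ hne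
  have hNg := Helper89.normalizes_conj Q z hN g
  have hza : z * a = a * z := (hES.central a haQ).symm
  -- A
  have hAz : ∀ α ∈ A, α * z = z * α :=
    fun α hα => Subgroup.mem_centralizer_singleton_iff.mp (hA hα)
  have hAQ : ∀ α ∈ A, ∀ q ∈ Q, α * q * α⁻¹ ∈ Q := fun α hα q hq => hnormC α (hA hα) q hq
  have hAa : ∀ α ∈ A, α * a = a * α := ((hRmem a).mp hgR).2
  have hAQg : ∀ α ∈ A, ∀ q ∈ Qg, α * q * α⁻¹ ∈ Qg := fun α hα q hq => hNg α (hAa α hα) q hq
  have hESR : Helper89.ES R z := by
    rw [hR]; exact hES.inf_centralizer_odd A hAodd hAQ hAz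
  set Rg := Qg ⊓ CA with hRg
  have hESRg : Helper89.ES Rg a := hESg.inf_centralizer_odd A hAodd hAQg hAa
  have hzCA : z ∈ CA := (hCAmem z).mpr hAz
  have haCA : a ∈ CA := (hCAmem a).mpr hAa
  have hzRg : z ∈ Rg := Subgroup.mem_inf.mpr ⟨hzQg, hzCA⟩
  have hzR : z ∈ R := hESR.mem
  -- D
  set D := Subgroup.centralizer ((A ⊔ R : Subgroup G) : Set G) with hD
  have hDmem : ∀ c : G, c ∈ D ↔ (∀ α ∈ A, α * c = c * α) ∧ (∀ r ∈ R, r * c = c * r) := by
    intro c
    rw [hD, Subgroup.mem_centralizer_iff]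
    constructor
    · intro h
      exact ⟨fun α hα => h α (Subgroup.mem_sup_left hα), fun r hr => h r (Subgroup.mem_sup_right hr)⟩
    · rintro ⟨h1, h2⟩ x hx
      have hle : A ⊔ R ≤ Subgroup.centralizer ({c} : Set G) := by
        apply sup_le
        · intro α hα
          rw [Subgroup.mem_centralizer_singleton_iff]
          exact h1 α hα
        · intro r hr
          rw [Subgroup.mem_centralizer_singleton_iff]
          exact h2 r hr
      exact Subgroup.mem_centralizer_singleton_iff.mp (hle hx)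
  have hzD : z ∈ D := by
    rw [hDmem]
    exact ⟨hAz, fun r hr => hES.central r (hRQ hr)⟩
  have hDkey : ∀ c ∈ D, c ∈ A ∨ z⁻¹ * c ∈ A := by
    have hzc : ∀ d : D, d * (⟨z, hzD⟩ : D) = ⟨z, hzD⟩ * d := by
      intro d
      apply Subtype.ext
      exact (((hDmem d).mp d.2).2 z hzR).symm
    obtain ⟨K, hKn, hKodd, hKall⟩ := Helper89.exists_odd_normal_complement (⟨z, hzD⟩ : D)
      (fun e => hES.ne_one (congrArg Subtype.val e)) (Subtype.ext hES.sq) hzc h4
    have hKle : K ≤ Cfsg.oddCore ↥D := le_sSup ⟨hKn, Nat.coprime_two_right.mpr hKodd⟩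
    have hKA : K.map D.subtype ≤ A := le_trans (Subgroup.map_mono hKle) hO
    intro c hc
    rcases hKall ⟨c, hc⟩ with h | h
    · left; exact hKA ⟨⟨c, hc⟩, h, rfl⟩
    · right; exact hKA ⟨_, h, rfl⟩
  -- M
  have hCAM : CA ≤ M := by rw [hM]; exact le_sup_left
  have hAM : A ≤ M := by rw [hM]; exact le_sup_right
  have hred : ∀ c ∈ M, ∃ c0 ∈ CA, ∃ α ∈ A, c = c0 * α := by
    intro c hc
    have hc' : c ∈ ((CA ⊔ A : Subgroup G) : Set G) := by rw [← hM]; exact hc
    rw [Subgroup.coe_mul_of_left_le_normalizer_right CA A (Subgroup.centralizer_le_normalizer _),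
      Set.mem_mul] at hc'
    obtain ⟨c0, hc0, α, hα, e⟩ := hc'
    exact ⟨c0, hc0, α, hα, e.symm⟩
  have hMCA : ∀ c ∈ M, ∀ y ∈ CA, c * y * c⁻¹ ∈ CA := by
    intro c hc y hy
    obtain ⟨c0, hc0, α, hα, rfl⟩ := hred c hc
    have hαy : α * y = y * α := (hCAmem y).mp hy α hα
    have e : c0 * α * y * (c0 * α)⁻¹ = c0 * y * c0⁻¹ := by
      calc c0 * α * y * (c0 * α)⁻¹ = c0 * (α * y) * α⁻¹ * c0⁻¹ := by group
        _ = c0 * (y * α) * α⁻¹ * c0⁻¹ := by rw [hαy]
        _ = c0 * y * c0⁻¹ := by group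
    rw [e]
    exact CA.mul_mem (CA.mul_mem hc0 hy) (CA.inv_mem hc0)
  have h2elt : ∀ y ∈ Q, ∃ k : ℕ, y ^ (2 ^ k) = 1 := by
    intro y hy
    obtain ⟨k, hk⟩ := hES.pgroup ⟨y, hy⟩
    exact ⟨k, by simpa using congrArg Subtype.val hk⟩
  have hkey : ∀ c y : G, y ∈ CA → (∃ k : ℕ, y ^ (2 ^ k) = 1) → c * y * c⁻¹ * y⁻¹ ∈ A →
      c * y = y * c := by
    intro c y hy ⟨k, hk⟩ hn
    exact Helper89.comm_of_commutator_mem_odd A hAodd hk ((hCAmem y).mp hy) hn
  refine ⟨?_, ?_, ?_⟩
  · -- (i)
    apply le_antisymm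
    · apply sup_le
      · intro c hc
        have hcD : c ∈ D := by rw [hD, sup_comm]; exact hc.2
        rcases hDkey c hcD with h | h
        · exact Subgroup.mem_sup_left h
        · have e : c = z * (z⁻¹ * c) := by group
          rw [e]
          exact Subgroup.mul_mem _ (Subgroup.mem_sup_right ((hcenter z).mpr (Or.inr rfl)))
            (Subgroup.mem_sup_left h)
      · exact le_sup_left
    · apply sup_le
      · exact le_sup_right
      · intro x hx
        rcases (hcenter x).mp hx with e | e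
        · rw [e]; exact Subgroup.one_mem _
        · rw [e]
          apply Subgroup.mem_sup_left
          refine Subgroup.mem_inf.mpr ⟨hCAM hzCA, ?_⟩
          have := hzD
          rw [hD, sup_comm] at this
          exact this
  · -- (ii)
    have hRM : R ≤ M := le_trans hRCA hCAM
    have hcardN : Nat.card (A.subgroupOf M) = Nat.card A :=
      Nat.card_congr (Subgroup.subgroupOfEquivOfLe hAM).toEquiv
    have hNodd : Odd (Nat.card (A.subgroupOf M)) := by rw [hcardN]; exact hAodd
    have hESP := hESR.subgroupOf M hRM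
    apply Helper89.isLargeExtraspecial_quotient_odd (A.subgroupOf M) hNodd (R.subgroupOf M)
      (⟨z, hRM hzR⟩ : M) (⟨a, hRM hgR⟩ : M) hESP ?_ ?_ ?_ ?_ ?_ ?_ (Rg.subgroupOf M) ?_ ?_ ?_
    · -- hself
      intro c hall
      have hcR : ∀ y ∈ R, (c : G) * y = y * c := by
        intro y hy
        apply hkey c y (hRCA hy) (h2elt y (hRQ hy))
        have := hall ⟨y, hRM hy⟩ (Subgroup.mem_subgroupOf.mpr hy)
        rw [Subgroup.mem_subgroupOf] at this
        simpa using this
      obtain ⟨c0, hc0, α, hα, e⟩ := hred c c.2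
      have hc0D : c0 ∈ D := by
        rw [hDmem]
        refine ⟨(hCAmem c0).mp hc0, ?_⟩
        intro r hr
        have hαr : α * r = r * α := ((hRmem r).mp hr).2 α hα
        have h1 : (c : G) * r = r * c := hcR r hr
        have e0 : c0 = c * α⁻¹ := by rw [e]; group
        rw [e0]
        calc r * ((c : G) * α⁻¹) = (r * c) * α⁻¹ := by group
          _ = (c * r) * α⁻¹ := by rw [h1]
          _ = c * (α⁻¹ * (α * r) * α⁻¹) := by group
          _ = c * (α⁻¹ * (r * α) * α⁻¹) := by rw [hαr]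
          _ = (c : G) * α⁻¹ * r := by group
      rcases hDkey c0 hc0D with h | h
      · left
        rw [Subgroup.mem_subgroupOf, e]
        exact A.mul_mem h hα
      · right
        rw [Subgroup.mem_subgroupOf]
        have : ((⟨z, hRM hzR⟩ : M)⁻¹ * c : M).val = (z⁻¹ * c0) * α := by
          simp [e]; group
        rw [this]
        exact A.mul_mem h hα
    · -- hnorm
      intro c hc y hy
      rw [Subgroup.mem_subgroupOf] at hc hy ⊢
      have hc' : (c : G) * z * (c : G)⁻¹ * z⁻¹ ∈ A := by simpa using hc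
      have hcz : (c : G) * z = z * c := hkey c z hzCA ⟨1, by rw [pow_one, pow_two]; exact hES.sq⟩ hc'
      have h1 : (c : G) * y * (c : G)⁻¹ ∈ Q := hN c hcz y (hRQ hy)
      have h2 : (c : G) * y * (c : G)⁻¹ ∈ CA := hMCA c c.2 y (hRCA hy)
      have : (c : G) * y * (c : G)⁻¹ ∈ R := by rw [hR]; exact Subgroup.mem_inf.mpr ⟨h1, h2⟩
      simpa using this
    · rw [Subgroup.mem_subgroupOf]; exact hgR
    · exact Subtype.ext hESg.sq
    · intro e; exact ha1 (congrArg Subtype.val e)
    · intro e; exact hne (congrArg Subtype.val e)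
    · rw [Subgroup.mem_subgroupOf]; exact hzRg
    · exact (hESRg.pgroup).comap_subtype
    · -- hRnorm
      intro c hc x hx
      rw [Subgroup.mem_subgroupOf] at hc hx ⊢
      have hc' : (c : G) * a * (c : G)⁻¹ * a⁻¹ ∈ A := by simpa using hc
      have hca : (c : G) * a = a * c :=
        hkey c a haCA ⟨1, by rw [pow_one, pow_two]; exact hESg.sq⟩ hc'
      have hx' := Subgroup.mem_inf.mp hx
      have h1 : (c : G) * x * (c : G)⁻¹ ∈ Qg := hNg c hca x hx'.1
      have h2 : (c : G) * x * (c : G)⁻¹ ∈ CA := hMCA c c.2 x hx'.2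
      have : (c : G) * x * (c : G)⁻¹ ∈ Rg := Subgroup.mem_inf.mpr ⟨h1, h2⟩
      simpa using this
  · -- (iii)
    obtain ⟨x1, hx1R, hx1a⟩ := hESR.exists_conj hgR ha1 hne
    obtain ⟨x2, hx2R, hx2z⟩ := hESRg.exists_conj hzRg hES.ne_one (Ne.symm hne)
    have h3 : x2 * a * x2⁻¹ = a := by
      rw [hESRg.central x2 hx2R]; group
    refine ⟨x2 * x1, ?_, ?_⟩
    · apply Subgroup.mul_mem
      · exact Subgroup.mem_sup_right hx2R
      · exact Subgroup.mem_sup_left hx1R
    · calc x2 * x1 * a * (x2 * x1)⁻¹ = x2 * (x1 * a * x1⁻¹) * x2⁻¹ := by group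
        _ = x2 * (z * a) * x2⁻¹ := by rw [hx1a]
        _ = (x2 * z * x2⁻¹) * (x2 * a * x2⁻¹) := by group
        _ = a * z * a := by rw [hx2z, h3]
        _ = z * (a * a) := by rw [← hza]; group
        _ = z := by rw [hESg.sq, mul_one]

end Cfsg.Agent.S5428
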