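import Cfsg.Statements.S5429
import Cfsg.Agent.Lib.Helper89.QuotLarge
import Cfsg.Agent.Lib.Helper89.FourSub
import Cfsg.Agent.Lib.Helper89.FStarProps
import Cfsg.Agent.Lib.Helper89.DoubleCent
import Cfsg.Agent.Lib.Helper89.PairRadical

set_option autoImplicit false
open Cfsg

namespace Cfsg.Agent.S5429

/-- Let z be an involution of the finite group G with centralizer C whose generalized Fitting subgroup Q is extraspecial of width at least 3 (order 2^(2w+1), w ≥ 3); let g be an element of G with g z g⁻¹ in Q but outside the centre Z of Q, and t an involution lying in both Q and g Q g⁻¹ that is not conjugate to z; write P for the centralizer of t in Q and suppose that the elements of C acting trivially by conjugation on P modulo the subgroup generated by t and z are exactly the elements of Q. Then the image of P in the centralizer of t modulo the subgroup generated by t is a large extraspecial 2-subgroup there, and g z g⁻¹ is conjugate to z inside the subgroup generated by P and the centralizer of t in g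 Q g⁻¹. -/
theorem result {G : Type*} [Group G] [Finite G] (z : G) (hz : orderOf z = 2) (Q : Subgroup G) (hQC : Q ≤ Subgroup.centralizer ({z} : Set G)) (hF : (Cfsg.generalizedFittingSubgroup ↥(Subgroup.centralizer ({z} : Set G))).map (Subgroup.centralizer ({z} : Set G)).subtype = Q) (hQ : Cfsg.IsExtraspecial 2 ↥Q) (w : ℕ) (hw : 3 ≤ w) (hcard : Nat.card ↥Q = 2 ^ (2 * w + 1)) (g : G) (hgQ : g * z * g⁻¹ ∈ Q) (hgZ : g * z * g⁻¹ ∉ ((Subgroup.center ↥Q).map Q.subtype)) (t : G) (ht : orderOf t = 2) (htQ : t ∈ Q ⊓ (Q).map (MulAut.conj g).toMonoidHom) (htz : ¬ IsConj z t) (P : Subgroup G) (hP : P = Q ⊓ Subgroup.centralizer ({t} : Set G)) (hCP : ∀ c ∈ Subgroup.centralizer ({z} : Set G), (∀ x ∈ P, ∃ y ∈ Subgroup.closure ({t, z} : Set G), c * x * c⁻¹ = x * y) ↔ c ∈ Q) [hn : ((Subgroup.zpowers t).subgroupOf (Subgroup.centralizer ({t} : Set G))).Normal] : Cfsg.IsLargeExtraspecial ((P.subgroupOf (Subgroup.centralizer ({t} : Set G))).map (QuotientGroup.mk' ((Subgroup.zpowers t).subgroupOf (Subgroup.centralizer ({t} : Set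 G))))) ∧ ∃ x ∈ P ⊔ ((Q).map (MulAut.conj g).toMonoidHom ⊓ Subgroup.centralizer ({t} : Set G)), x * (g * z * g⁻¹) * x⁻¹ = z := by
  obtain ⟨hES, hcenter, hL2, hL3, hnormC, hselfC⟩ :=
    Helper89.fstar_involution_setting z hz Q hF hQ
  set a := g * z * g⁻¹ with ha
  set Qg := Q.map (MulAut.conj g).toMonoidHom with hQg
  have hESg : Helper89.ES Qg a := hES.conj g
  have hcard32 : 32 ≤ Nat.card Q := by
    rw [hcard]
    calc 32 = 2 ^ 5 := by norm_num
      _ ≤ 2 ^ (2 * w + 1) := Nat.pow_le_pow_right (by norm_num) (by omega)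
  have hne : a ≠ z := fun h => hgZ ((hcenter a).mpr (Or.inr h))
  have ha1 : a ≠ 1 := hESg.ne_one
  have hC : ∀ x : G, (∀ y ∈ Q, x * y = y * x) → x = 1 ∨ x = z := by
    intro x hx
    apply (hcenter x).mp
    rw [← hL2, Subgroup.mem_centralizer_iff]
    intro y hy
    exact (hx y hy).symm
  have hN : ∀ x : G, x * z = z * x → ∀ y ∈ Q, x * y * x⁻¹ ∈ Q := by
    intro x hx y hy
    exact hnormC x (Subgroup.mem_centralizer_singleton_iff.mpr hx) y hy
  have hzQg : z ∈ Qg := Helper89.center_mem_conj Q z hES hC hN hcard32 g hgQ hne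
  have hNg := Helper89.normalizes_conj Q z hN g
  have hza : z * a = a * z := (hES.central a hgQ).symm
  -- t
  have ht2 : t * t = 1 := by
    have := pow_orderOf_eq_one t
    rwa [ht, pow_two] at this
  have ht1 : t ≠ 1 := by
    intro e
    rw [e, orderOf_one] at ht
    norm_num at ht
  have htQ' : t ∈ Q := htQ.1
  have htQg : t ∈ Qg := htQ.2
  have htz' : t ≠ z := by
    intro e
    apply htz
    rw [e]
  have hta : t ≠ a := by
    intro e
    apply htz
    rw [e]
    exact isConj_iff.mpr ⟨g, rfl⟩
  have htz_comm : t * z = z * t := hES.central t htQ'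
  have hta_comm : t * a = a * t := hESg.central t htQg
  obtain ⟨q1, hq1, hq1t⟩ := hES.exists_conj htQ' ht1 htz'
  obtain ⟨q2, hq2, hq2t⟩ := hESg.exists_conj htQg ht1 hta
  have hfixz : ∀ c : G, c * z * c⁻¹ ≠ z * t := by
    intro c h
    apply htz
    rw [isConj_iff]
    refine ⟨q1⁻¹ * c, ?_⟩
    calc q1⁻¹ * c * z * (q1⁻¹ * c)⁻¹ = q1⁻¹ * (c * z * c⁻¹) * q1 := by group
      _ = q1⁻¹ * (q1 * t * q1⁻¹) * q1 := by rw [h, hq1t]
      _ = t := by group
  have hfixa : ∀ c : G, c * a * c⁻¹ ≠ a * t := by
    intro c h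
    apply htz
    rw [isConj_iff]
    refine ⟨q2⁻¹ * c * g, ?_⟩
    calc q2⁻¹ * c * g * z * (q2⁻¹ * c * g)⁻¹ = q2⁻¹ * (c * (g * z * g⁻¹) * c⁻¹) * q2 := by group
      _ = q2⁻¹ * (q2 * t * q2⁻¹) * q2 := by rw [← ha, h, hq2t]
      _ = t := by group
  have hanot : a ∉ Subgroup.closure (({t} : Set G) ∪ {z}) := by
    intro h
    rcases Helper89.mem_closure_pair ht2 hES.sq htz_comm h with e | e | e | e
    · exact ha1 e
    · exact hta e.symm
    · exact hne e
    · apply hfixz g
      rw [← ha, e, htz_comm]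
  have hznot : z ∉ Subgroup.closure (({t} : Set G) ∪ {a}) := by
    intro h
    rcases Helper89.mem_closure_pair ht2 hESg.sq hta_comm h with e | e | e | e
    · exact hES.ne_one e
    · exact htz' e.symm
    · exact hne e.symm
    · apply hfixa g⁻¹
      rw [← hta_comm, ← e, ha]
      group
  obtain ⟨x1, hx1Q, hx1t, hx1a⟩ := hES.exists_centralizing (Set.finite_singleton t)
    (by intro s hs; rw [Set.mem_singleton_iff] at hs; rw [hs]; exact htQ') a hgQ hanot
  obtain ⟨x2, hx2Q, hx2t, hx2z⟩ := hESg.exists_centralizing (Set.finite_singleton t)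
    (by intro s hs; rw [Set.mem_singleton_iff] at hs; rw [hs]; exact htQg) z hzQg hznot
  have hx1t' : x1 * t = t * x1 := hx1t t rfl
  have hx2t' : x2 * t = t * x2 := hx2t t rfl
  refine ⟨?_, ?_⟩
  · -- the quotient
    set Ct := Subgroup.centralizer ({t} : Set G) with hCt
    have hmemCt : ∀ x : G, x ∈ Ct ↔ x * t = t * x := fun x => Subgroup.mem_centralizer_singleton_iff
    have htCt : t ∈ Ct := (hmemCt t).mpr rfl
    have hzCt : z ∈ Ct := (hmemCt z).mpr htz_comm.symm
    have haCt : a ∈ Ct := (hmemCt a).mpr hta_comm.symm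
    have hPmem : ∀ x : G, x ∈ P ↔ x ∈ Q ∧ x * t = t * x := by
      intro x
      rw [hP, Subgroup.mem_inf, hmemCt]
    have hPsub : ∀ x : Ct, x ∈ P.subgroupOf Ct ↔ (x : G) ∈ Q := by
      intro x
      rw [Subgroup.mem_subgroupOf, hPmem]
      exact ⟨fun h => h.1, fun h => ⟨h, (hmemCt _).mp x.2⟩⟩
    have hzcent : ∀ c : Ct, c * (⟨z, hzCt⟩ : Ct) = ⟨z, hzCt⟩ * c → (c : G) * z = z * c := by
      intro c h
      exact congrArg Subtype.val h
    have hacent : ∀ c : Ct, c * (⟨a, haCt⟩ : Ct) = ⟨a, haCt⟩ * c → (c : G) * a = a * c := by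
      intro c h
      exact congrArg Subtype.val h
    apply Helper89.isLargeExtraspecial_quotient_involution
      ((Subgroup.zpowers t).subgroupOf Ct) (⟨t, htCt⟩ : Ct) ?_ ?_ ?_ ?_
      (P.subgroupOf Ct) (⟨z, hzCt⟩ : Ct) (⟨a, haCt⟩ : Ct) ?_ ?_ ?_ ?_ ?_ ?_ ?_ ?_ ?_ ?_ ?_ ?_ ?_
      ?_ ?_ ?_ ?_ ?_ ?_ (Qg.subgroupOf Ct) ?_ ?_ ?_ ?_
    · -- hN
      intro x
      rw [Subgroup.mem_subgroupOf]
      constructor
      · intro h
        rcases Helper89.mem_zpowers_of_sq_eq_one ht2 h with e | e
        · left; exact Subtype.ext e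
        · right; exact Subtype.ext e
      · rintro (e | e)
        · rw [e]; exact Subgroup.one_mem _
        · rw [e]; exact Subgroup.mem_zpowers t
    · intro h; exact ht1 (congrArg Subtype.val h)
    · exact Subtype.ext ht2
    · intro x; exact Subtype.ext ((hmemCt _).mp x.2)
    · -- τ ∈ P
      rw [hPsub]; exact htQ'
    · rw [hPsub]; exact hES.mem
    · intro h; exact hES.ne_one (congrArg Subtype.val h)
    · intro h; exact htz' (congrArg Subtype.val h).symm
    · exact Subtype.ext hES.sq
    · intro x hx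
      rw [hPsub] at hx
      exact Subtype.ext (hES.central x hx)
    · intro x hx
      rw [hPsub] at hx
      rcases hES.sq_mem hx with e | e
      · left; exact Subtype.ext e
      · right; exact Subtype.ext e
    · intro x hx y hy
      rw [hPsub] at hx hy
      rcases hES.comm x hx y hy with e | e
      · left; exact Subtype.ext e
      · right; exact Subtype.ext e
    · -- hcent
      intro x hx hall
      rw [hPsub] at hx
      have hxR : ∀ r ∈ Q, r * t = t * r → (x : G) * r = r * x := by
        intro r hr hrt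
        have := hall ⟨r, (hmemCt r).mpr hrt⟩ ((hPsub _).mpr hr)
        exact congrArg Subtype.val this
      rcases hES.center_centralizer htQ' ht1 htz' hx hxR with e | e | e | e
      · left; exact Subtype.ext e
      · right; right; left; exact Subtype.ext e
      · right; left; exact Subtype.ext e
      · right; right; right; exact Subtype.ext e
    · -- hna
      obtain ⟨r1, hr1, r2, hr2, hr1t, hr2t, hr⟩ := hES.exists_noncommuting htQ' ht1 htz' hcard32
      refine ⟨⟨r1, (hmemCt r1).mpr hr1t⟩, (hPsub _).mpr hr1, ⟨r2, (hmemCt r2).mpr hr2t⟩,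
        (hPsub _).mpr hr2, Subtype.ext hr⟩
    · -- hfix
      intro c h
      exact hfixz c (congrArg Subtype.val h)
    · -- hnorm
      intro c hc x hx
      rw [hPsub] at hx ⊢
      exact hN c (hzcent c hc) x hx
    · -- hself
      intro c hc hall
      rw [hPsub]
      have hcz : (c : G) * z = z * c := hzcent c hc
      have hcC : (c : G)⁻¹ ∈ Subgroup.centralizer ({z} : Set G) := by
        apply Subgroup.inv_mem
        exact Subgroup.mem_centralizer_singleton_iff.mpr hcz
      have : (c : G)⁻¹ ∈ Q := by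
        apply (hCP _ hcC).mp
        intro x hx
        have hx' := (hPmem x).mp hx
        rcases hall ⟨x, (hmemCt x).mpr hx'.2⟩ ((hPsub _).mpr hx'.1) with e | e
        · refine ⟨1, Subgroup.one_mem _, ?_⟩
          have e' : x * (c : G) = c * x := congrArg Subtype.val e
          rw [inv_inv, mul_one, mul_assoc, e']
          group
        · refine ⟨t, Subgroup.subset_closure (by simp), ?_⟩
          have e' : x * (c : G) = c * x * t := congrArg Subtype.val e
          rw [inv_inv, mul_assoc, e']
          group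
      have h2 := Q.inv_mem this
      rwa [inv_inv] at h2
    · rw [hPsub]; exact hgQ
    · exact Subtype.ext hESg.sq
    · intro h; exact ha1 (congrArg Subtype.val h)
    · intro h; exact hta (congrArg Subtype.val h).symm
    · intro h; exact hne (congrArg Subtype.val h)
    · intro h
      have h' : a = z * t := congrArg Subtype.val h
      apply hfixz g
      rw [← ha, h']
    · -- z ∈ R
      rw [Subgroup.mem_subgroupOf]; exact hzQg
    · exact hESg.pgroup.comap_subtype
    · intro c h
      exact hfixa c (congrArg Subtype.val h)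
    · intro c hc x hx
      rw [Subgroup.mem_subgroupOf] at hx ⊢
      exact hNg c (hacent c hc) x hx
  · refine ⟨x2 * x1, ?_, ?_⟩
    · apply Subgroup.mul_mem
      · apply Subgroup.mem_sup_right
        exact ⟨hx2Q, Subgroup.mem_centralizer_singleton_iff.mpr hx2t'⟩
      · apply Subgroup.mem_sup_left
        rw [hP]
        exact ⟨hx1Q, Subgroup.mem_centralizer_singleton_iff.mpr hx1t'⟩
    · have h1 : x1 * a * x1⁻¹ = z * a := Helper89.conj_eq_of_commutator_eq hx1a
      have h2 : x2 * z * x2⁻¹ = a * z := Helper89.conj_eq_of_commutator_eq hx2z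
      have h3 : x2 * a * x2⁻¹ = a := by
        rw [hESg.central x2 hx2Q]; group
      calc x2 * x1 * a * (x2 * x1)⁻¹ = x2 * (x1 * a * x1⁻¹) * x2⁻¹ := by group
        _ = x2 * (z * a) * x2⁻¹ := by rw [h1]
        _ = (x2 * z * x2⁻¹) * (x2 * a * x2⁻¹) := by group
        _ = a * z * a := by rw [h2, h3]
        _ = z * (a * a) := by rw [← hza]; group
        _ = z := by rw [hESg.sq, mul_one]

end Cfsg.Agent.S5429
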