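import Cfsg.Statements.S5430
import Cfsg.Agent.Lib.Helper89.LPair
import Cfsg.Agent.Lib.Helper89.Basic

set_option autoImplicit false
open Cfsg

namespace Cfsg.Agent.S5430

open Cfsg.Agent.Helper89

/-- Let Q be a large extraspecial 2-subgroup of the finite group G (extraspecial; centralizer equal to its centre; normal in the centralizer of its centre; normalizing no non-trivial subgroup of odd order) with centre generated by z, an involution, of width w ≥ 2 (order 2^(2w+1)); let g be an element outside the centralizer H of z with g z g⁻¹ in Q; write V for the subgroup generated by z and g z g⁻¹, X for the subgroup generated by Q and g Q g⁻¹, R for the subgroup generated by the centralizer of z in g Q g⁻¹ and the centralizer of g z g⁻¹ in Q, and E for the intersection of Q and g Q g⁻¹. Then R is the centralizer of V in X and is the largest normal 2-subgroup of X, and X/R is isomorphic to the symmetric group of degree 3; moreover the normalizer of V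 is the product of X and the centralizer of V in H, X is normal in it, and modulo R it is the direct product of X/R and of the centralizer of V in H modulo R. -/
theorem result {G : Type*} [Group G] [Finite G] (Q : Subgroup G) (hQ : Cfsg.IsLargeExtraspecial Q) (z : G) (hz : ((Subgroup.center ↥Q).map Q.subtype) = Subgroup.zpowers z) (hz2 : orderOf z = 2) (w : ℕ) (hw : 2 ≤ w) (hcard : Nat.card ↥Q = 2 ^ (2 * w + 1)) (g : G) (hgH : g ∉ Subgroup.centralizer ({z} : Set G)) (hgQ : g * z * g⁻¹ ∈ Q) (V X R E : Subgroup G) (hV : V = Subgroup.closure ({z, g * z * g⁻¹} : Set G)) (hX : X = Q ⊔ (Q).map (MulAut.conj g).toMonoidHom) (hR : R = ((Q).map (MulAut.conj g).toMonoidHom ⊓ Subgroup.centralizer ({z} : Set G)) ⊔ (Q ⊓ Subgroup.centralizer ({g * z * g⁻¹} : Set G))) (hE : E = Q ⊓ (Q).map (MulAut.conj g).toMonoidHom) : R = X ⊓ Subgroup.centralizer (V : Set G) ∧ R = (Cfsg.pCore 2 ↥X).map X.subtype ∧ (∃ h : (R.subgroupOf X).Normal, Nonempty (↥X ⧸ R.subgroupOf X ≃*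 Equiv.Perm (Fin 3))) ∧ Subgroup.normalizer (V : Set G) = X ⊔ (Subgroup.centralizer ({z} : Set G) ⊓ Subgroup.centralizer (V : Set G)) ∧ (∀ y ∈ Subgroup.normalizer (V : Set G), ∀ x ∈ X, y * x * y⁻¹ ∈ X) ∧ R ≤ Subgroup.centralizer ({z} : Set G) ⊓ Subgroup.centralizer (V : Set G) ∧ (∀ x ∈ X, ∀ c ∈ Subgroup.centralizer ({z} : Set G) ⊓ Subgroup.centralizer (V : Set G), x * c * x⁻¹ * c⁻¹ ∈ R) ∧ X ⊓ (Subgroup.centralizer ({z} : Set G) ⊓ Subgroup.centralizer (V : Set G)) = R := by
  have : Fact (Nat.Prime 2) := ⟨Nat.prime_two⟩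
  have hLP0 := LPair.of_large Q hQ z hz hz2 w hw hcard g hgH hgQ
  -- abstract `a` and `P`
  obtain ⟨a, ha⟩ : ∃ a : G, a = g * z * g⁻¹ := ⟨_, rfl⟩
  obtain ⟨P, hPdef⟩ : ∃ P : Subgroup G, P = Q.map (MulAut.conj g).toMonoidHom := ⟨_, rfl⟩
  rw [← ha] at hV hR hLP0
  rw [← hPdef] at hX hR hE hLP0
  clear ha hPdef hgH hgQ hz hcard hQ hE
  have h : LPair Q P z a := hLP0
  have hRr : R = LPair.radical Q P z a := hR
  have hFD : FourData V z a := h.fourData V hV
  have memV := hFD.mem_iff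
  have hzV : z ∈ V := (memV z).mpr (Or.inr (Or.inl rfl))
  have haV : a ∈ V := (memV a).mpr (Or.inr (Or.inr (Or.inl rfl)))
  have hza := h.za_comm
  -- the centralizer of V
  have memCV : ∀ c : G, c ∈ Subgroup.centralizer (V : Set G) ↔ c * z = z * c ∧ c * a = a * c := by
    intro c
    rw [Subgroup.mem_centralizer_iff]
    constructor
    · intro hc
      exact ⟨(hc z hzV).symm, (hc a haV).symm⟩
    · rintro ⟨h1, h2⟩ v hv
      rcases (memV v).mp hv with h3 | h3 | h3 | h3
      · rw [h3]; simp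
      · rw [h3]; exact h1.symm
      · rw [h3]; exact h2.symm
      · rw [h3]
        calc z * a * c = z * (a * c) := by group
          _ = z * (c * a) := by rw [h2]
          _ = (z * c) * a := by group
          _ = (c * z) * a := by rw [h1]
          _ = c * (z * a) := by group
  have memK : ∀ c : G, c ∈ Subgroup.centralizer ({z} : Set G) ⊓ Subgroup.centralizer (V : Set G) ↔
      c * z = z * c ∧ c * a = a * c := by
    intro c
    rw [Subgroup.mem_inf, memCV, Subgroup.mem_centralizer_singleton_iff]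
    tauto
  have hXN : X ≤ Subgroup.normalizer (V : Set G) := by
    rw [hX]; exact h.le_normalizer_four V hV
  have hRX : R ≤ X := by
    rw [hRr, hX]; exact h.radical_le
  have hRz : ∀ r ∈ R, r * z = z * r := by
    intro r hr
    rw [hRr] at hr
    exact Subgroup.mem_centralizer_singleton_iff.mp (h.radical_le_centralizer_z hr)
  have hRa : ∀ r ∈ R, r * a = a * r := by
    intro r hr
    rw [hRr] at hr
    exact Subgroup.mem_centralizer_singleton_iff.mp (h.radical_le_centralizer_a hr)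
  have hYR : ∀ y ∈ X, y * z = z * y → y * a = a * y → y ∈ R := by
    intro y hy h1 h2
    rw [hRr]
    rw [hX] at hy
    exact h.centralizer_le_radical hy h1 h2
  have hCX : ∀ c : G, c * z = z * c → c * a = a * c → ∀ x ∈ X, c * x * c⁻¹ ∈ X := by
    intro c h1 h2 x hx
    rw [hX] at hx ⊢
    exact h.conj_mem_sup h1 h2 x hx
  -- the permutation representation
  obtain ⟨u, hu, hua⟩ := h.esQ.exists_conj h.aQ h.a_ne_one h.ne
  obtain ⟨t, ht, htz⟩ := h.esP.exists_conj h.zP h.z_ne_one h.ne.symm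
  have huX : u ∈ X := by rw [hX]; exact (le_sup_left : Q ≤ Q ⊔ P) hu
  have htX : t ∈ X := by rw [hX]; exact (le_sup_right : P ≤ Q ⊔ P) ht
  have huz : u * z * u⁻¹ = z := by
    rw [h.esQ.central u hu]; group
  have hta : t * a * t⁻¹ = a := by
    rw [h.esP.central t ht]; group
  have huza : u * (z * a) * u⁻¹ = a := by
    calc u * (z * a) * u⁻¹ = (u * z * u⁻¹) * (u * a * u⁻¹) := by group
      _ = z * (z * a) := by rw [huz, hua]
      _ = (z * z) * a := by group
      _ = a := by rw [h.esQ.sq, one_mul]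
  have htza : t * (z * a) * t⁻¹ = z := by
    calc t * (z * a) * t⁻¹ = (t * z * t⁻¹) * (t * a * t⁻¹) := by group
      _ = (a * z) * a := by rw [htz, hta]
      _ = (z * a) * a := by rw [hza]
      _ = z * (a * a) := by group
      _ = z := by rw [h.esP.sq, mul_one]
  have hpu : hFD.perm ⟨u, hXN huX⟩ = Equiv.swap 1 2 := by
    ext i
    have : hFD.perm ⟨u, hXN huX⟩ i = Equiv.swap 1 2 i := by
      fin_cases i
      · show hFD.perm ⟨u, hXN huX⟩ 0 = 0
        rw [hFD.perm_apply_eq_iff]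
        exact huz
      · show hFD.perm ⟨u, hXN huX⟩ 1 = 2
        rw [hFD.perm_apply_eq_iff]
        exact hua
      · show hFD.perm ⟨u, hXN huX⟩ 2 = 1
        rw [hFD.perm_apply_eq_iff]
        exact huza
    rw [this]
  have hpt : hFD.perm ⟨t, hXN htX⟩ = Equiv.swap 0 2 := by
    ext i
    have : hFD.perm ⟨t, hXN htX⟩ i = Equiv.swap 0 2 i := by
      fin_cases i
      · show hFD.perm ⟨t, hXN htX⟩ 0 = 2
        rw [hFD.perm_apply_eq_iff]
        show t * z * t⁻¹ = z * a
        rw [htz, hza]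
      · show hFD.perm ⟨t, hXN htX⟩ 1 = 1
        rw [hFD.perm_apply_eq_iff]
        exact hta
      · show hFD.perm ⟨t, hXN htX⟩ 2 = 0
        rw [hFD.perm_apply_eq_iff]
        exact htza
    rw [this]
  -- restriction to X
  obtain ⟨ψ, hψ⟩ : ∃ ψ : ↥X →* Equiv.Perm (Fin 3), ψ = hFD.perm.comp (Subgroup.inclusion hXN) := ⟨_, rfl⟩
  have hψu : ψ ⟨u, huX⟩ = Equiv.swap 1 2 := by rw [hψ]; exact hpu
  have hψt : ψ ⟨t, htX⟩ = Equiv.swap 0 2 := by rw [hψ]; exact hpt
  have hsurj : Function.Surjective ψ := by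
    intro σ
    rcases perm_fin_three_cases σ with h1 | h1 | h1 | h1 | h1 | h1
    · exact ⟨1, by rw [h1, map_one]⟩
    · exact ⟨⟨u, huX⟩, by rw [h1, hψu]⟩
    · exact ⟨⟨t, htX⟩, by rw [h1, hψt]⟩
    · exact ⟨⟨u, huX⟩ * ⟨t, htX⟩, by rw [h1, map_mul, hψu, hψt]⟩
    · exact ⟨⟨t, htX⟩ * ⟨u, huX⟩, by rw [h1, map_mul, hψu, hψt]⟩
    · exact ⟨⟨u, huX⟩ * ⟨t, htX⟩ * ⟨u, huX⟩, by rw [h1, map_mul, map_mul, hψu, hψt]⟩
  have hψ1 : ∀ x : ↥X, ψ x = 1 ↔ (x : G) * z = z * (x : G) ∧ (x : G) * a = a * (x : G) := by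
    intro x
    rw [hψ]
    exact hFD.perm_eq_one_iff (Subgroup.inclusion hXN x)
  have hker : ψ.ker = R.subgroupOf X := by
    ext x
    rw [MonoidHom.mem_ker, hψ1, Subgroup.mem_subgroupOf]
    constructor
    · rintro ⟨h1, h2⟩
      exact hYR _ x.2 h1 h2
    · intro hx
      exact ⟨hRz _ hx, hRa _ hx⟩
  have hnormal : (R.subgroupOf X).Normal := by
    rw [← hker]; exact MonoidHom.normal_ker ψ
  -- decomposition of the normalizer of V
  have hdecomp : ∀ y ∈ Subgroup.normalizer (V : Set G), ∃ x ∈ X, ∃ c : G,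
      c * z = z * c ∧ c * a = a * c ∧ y = x * c := by
    intro y hy
    obtain ⟨x, hx⟩ := hsurj (hFD.perm ⟨y, hy⟩)
    have hc : hFD.perm ((Subgroup.inclusion hXN x)⁻¹ * ⟨y, hy⟩) = 1 := by
      rw [map_mul, map_inv]
      have : hFD.perm (Subgroup.inclusion hXN x) = ψ x := by rw [hψ]; rfl
      rw [this, hx]; group
    rw [hFD.perm_eq_one_iff] at hc
    refine ⟨(x : G), x.2, (x : G)⁻¹ * y, hc.1, hc.2, ?_⟩
    group
  refine ⟨?_, ?_, ⟨hnormal, ?_⟩, ?_, ?_, ?_, ?_, ?_⟩
  · -- R = X ⊓ C(V)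
    apply le_antisymm
    · intro r hr
      exact Subgroup.mem_inf.mpr ⟨hRX hr, (memCV r).mpr ⟨hRz r hr, hRa r hr⟩⟩
    · intro y hy
      have hy' := Subgroup.mem_inf.mp hy
      have := (memCV y).mp hy'.2
      exact hYR y hy'.1 this.1 this.2
  · -- R = O_2(X)
    apply le_antisymm
    · intro r hr
      have hR2 : IsPGroup 2 R := by rw [hRr]; exact h.isPGroup_radical
      have hle : R.subgroupOf X ≤ Cfsg.pCore 2 ↥X :=
        le_sSup ⟨hnormal, hR2.comap_subtype⟩
      exact ⟨⟨r, hRX hr⟩, hle (Subgroup.mem_subgroupOf.mpr hr), rfl⟩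
    · rintro _ ⟨x, hx, rfl⟩
      have hK : (Cfsg.pCore 2 ↥X).map ψ = ⊥ := by
        haveI : ((Cfsg.pCore 2 ↥X).map ψ).Normal :=
          Subgroup.Normal.map inferInstance ψ hsurj
        exact normal_two_subgroup_perm_three _ (pCore_isPGroup.map ψ)
      have h1 : ψ x ∈ (Cfsg.pCore 2 ↥X).map ψ := Subgroup.mem_map_of_mem ψ hx
      rw [hK, Subgroup.mem_bot] at h1
      have h2 : x ∈ ψ.ker := h1
      rw [hker, Subgroup.mem_subgroupOf] at h2
      exact h2
  · -- X / R ≅ S₃
    haveI := hnormal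
    exact ⟨(QuotientGroup.quotientMulEquivOfEq hker.symm).trans
      (QuotientGroup.quotientKerEquivOfSurjective ψ hsurj)⟩
  · -- N(V) = X C_H(V)
    apply le_antisymm
    · intro y hy
      obtain ⟨x, hx, c, hc1, hc2, rfl⟩ := hdecomp y hy
      exact Subgroup.mul_mem_sup hx ((memK c).mpr ⟨hc1, hc2⟩)
    · apply sup_le hXN
      exact inf_le_right.trans (Subgroup.centralizer_le_normalizer _)
  · -- X ⊴ N(V)
    intro y hy x hx
    obtain ⟨x0, hx0, c, hc1, hc2, rfl⟩ := hdecomp y hy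
    have h1 := hCX c hc1 hc2 x hx
    have h2 := X.mul_mem (X.mul_mem hx0 h1) (X.inv_mem hx0)
    have e : x0 * (c * x * c⁻¹) * x0⁻¹ = x0 * c * x * (x0 * c)⁻¹ := by group
    rw [e] at h2; exact h2
  · -- R ≤ C_H(V)
    intro r hr
    exact (memK r).mpr ⟨hRz r hr, hRa r hr⟩
  · -- [X, C_H(V)] ≤ R
    intro x hx c hc
    have hc' := (memK c).mp hc
    have hcN : c ∈ Subgroup.normalizer (V : Set G) :=
      Subgroup.centralizer_le_normalizer _ ((memCV c).mpr hc')
    have hmemX : x * c * x⁻¹ * c⁻¹ ∈ X := by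
      have h1 := hCX c hc'.1 hc'.2 x⁻¹ (X.inv_mem hx)
      have := X.mul_mem hx h1
      have e : x * (c * x⁻¹ * c⁻¹) = x * c * x⁻¹ * c⁻¹ := by group
      rw [e] at this; exact this
    have hc1 : hFD.perm ⟨c, hcN⟩ = 1 := (hFD.perm_eq_one_iff _).mpr hc'
    have hperm : hFD.perm (⟨x, hXN hx⟩ * ⟨c, hcN⟩ * ⟨x, hXN hx⟩⁻¹ * ⟨c, hcN⟩⁻¹) = 1 := by
      rw [map_mul, map_mul, map_mul, map_inv, map_inv, hc1]; group
    rw [hFD.perm_eq_one_iff] at hperm
    exact hYR _ hmemX hperm.1 hperm.2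
  · -- X ⊓ C_H(V) = R
    apply le_antisymm
    · intro y hy
      have hy' := Subgroup.mem_inf.mp hy
      have := (memK y).mp hy'.2
      exact hYR y hy'.1 this.1 this.2
    · intro r hr
      exact Subgroup.mem_inf.mpr ⟨hRX hr, (memK r).mpr ⟨hRz r hr, hRa r hr⟩⟩

end Cfsg.Agent.S5430
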