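import Cfsg.Statements.S5431
import Cfsg.Agent.Lib.Helper89.PairRadical

set_option autoImplicit false
open Cfsg

namespace Cfsg.Agent.S5431

open Cfsg.Agent.Helper89
open scoped commutatorElement

/-- Let Q be a large extraspecial 2-subgroup of the finite group G (extraspecial; centralizer equal to its centre; normal in the centralizer of its centre; normalizing no non-trivial subgroup of odd order) with centre generated by z, an involution, of width w ≥ 2 (order 2^(2w+1)); let g be an element outside the centralizer H of z with g z g⁻¹ in Q; write V for the subgroup generated by z and g z g⁻¹, X for the subgroup generated by Q and g Q g⁻¹, R for the subgroup generated by the centralizer of z in g Q g⁻¹ and the centralizer of g z g⁻¹ in Q, and E for the intersection of Q and g Q g⁻¹. Then V is the centre of R, E lies in the second centre of R, R is nilpotent of class at most 3, E and R/E are elementary abelian, R/E is the direct product of the images of the centralizer of g z g⁻¹ in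 Q and of the centralizer of z in g Q g⁻¹ (R is their product and they meet in E), and the commutator subgroup of X and E lies in V. -/
theorem result {G : Type*} [Group G] [Finite G] (Q : Subgroup G) (hQ : Cfsg.IsLargeExtraspecial Q) (z : G) (hz : ((Subgroup.center ↥Q).map Q.subtype) = Subgroup.zpowers z) (hz2 : orderOf z = 2) (w : ℕ) (hw : 2 ≤ w) (hcard : Nat.card ↥Q = 2 ^ (2 * w + 1)) (g : G) (hgH : g ∉ Subgroup.centralizer ({z} : Set G)) (hgQ : g * z * g⁻¹ ∈ Q) (V X R E : Subgroup G) (hV : V = Subgroup.closure ({z, g * z * g⁻¹} : Set G)) (hX : X = Q ⊔ (Q).map (MulAut.conj g).toMonoidHom) (hR : R = ((Q).map (MulAut.conj g).toMonoidHom ⊓ Subgroup.centralizer ({z} : Set G)) ⊔ (Q ⊓ Subgroup.centralizer ({g * z * g⁻¹} : Set G))) (hE : E = Q ⊓ (Q).map (MulAut.conj g).toMonoidHom) : (Subgroup.center ↥R).map R.subtype = V ∧ E ≤ (Subgroup.upperCentralSeries ↥R 2).map R.subtype ∧ Subgroup.upperCentralSeries ↥R 3 = ⊤ ∧ Cfsg.IsElementaryAbelian 2 E ∧ (∀ x ∈ R, ∀ y ∈ R, x * y * x⁻¹ * y⁻¹ ∈ E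 ∧ x ^ 2 ∈ E) ∧ ((Q).map (MulAut.conj g).toMonoidHom ⊓ Subgroup.centralizer ({z} : Set G)) ⊓ (Q ⊓ Subgroup.centralizer ({g * z * g⁻¹} : Set G)) = E ∧ ⁅X, E⁆ ≤ V := by
  have : Fact (Nat.Prime 2) := ⟨Nat.prime_two⟩
  obtain ⟨hL1, hL2, hL3, hL4⟩ := hQ
  obtain ⟨z', hES, hZ⟩ := ES.of_extraspecial Q hL1
  have hz1 : z ≠ 1 := by
    intro h
    rw [h, orderOf_one] at hz2
    omega
  have hzz' : z' = z := by
    have : z ∈ (Subgroup.center ↥Q).map Q.subtype := by rw [hz]; exact Subgroup.mem_zpowers z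
    rcases (hZ z).mp this with h | h
    · exact absurd h hz1
    · exact h.symm
  subst hzz'
  -- C_G(Q) = {1, z}
  have hC : ∀ x : G, (∀ y ∈ Q, x * y = y * x) → x = 1 ∨ x = z' := by
    intro x hx
    apply (hZ x).mp
    rw [← hL2, Subgroup.mem_centralizer_iff]
    intro y hy
    exact (hx y hy).symm
  -- C_G(z) ≤ N_G(Q)
  have hN : ∀ x : G, x * z' = z' * x → ∀ y ∈ Q, x * y * x⁻¹ ∈ Q := by
    intro x hx y hy
    have hxC : x ∈ Subgroup.centralizer ((((Subgroup.center ↥Q).map Q.subtype : Subgroup G)) : Set G) := by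
      rw [Subgroup.mem_centralizer_iff]
      intro v hv
      rcases (hZ v).mp hv with h | h
      · rw [h]; simp
      · rw [h]; exact hx.symm
    have hxN := hL3 hxC
    exact (Subgroup.mem_normalizer_iff.mp hxN y).mp hy
  have hne0 : g * z' * g⁻¹ ≠ z' := by
    intro h
    apply hgH
    rw [Subgroup.mem_centralizer_singleton_iff]
    have := congrArg (fun w => w * g) h
    simpa [mul_assoc] using this
  have hP0 : ES (Q.map (MulAut.conj g).toMonoidHom) (g * z' * g⁻¹) := hES.conj g
  have hcard32 : 32 ≤ Nat.card Q := by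
    rw [hcard]
    calc 32 = 2 ^ 5 := by norm_num
      _ ≤ 2 ^ (2 * w + 1) := Nat.pow_le_pow_right (by norm_num) (by omega)
  have hzP0 : z' ∈ Q.map (MulAut.conj g).toMonoidHom :=
    center_mem_conj Q z' hES hC hN hcard32 g hgQ hne0
  have hNP0 := normalizes_conj Q z' hN g
  -- abstract `a` and `P`
  obtain ⟨a, ha⟩ : ∃ a : G, a = g * z' * g⁻¹ := ⟨_, rfl⟩
  obtain ⟨P, hPdef⟩ : ∃ P : Subgroup G, P = Q.map (MulAut.conj g).toMonoidHom := ⟨_, rfl⟩
  rw [← ha] at hgQ hV hR hne0 hP0 hNP0
  rw [← hPdef] at hX hR hE hP0 hzP0 hNP0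
  rw [← ha, ← hPdef]
  clear ha hPdef hgH hL2 hL3 hL4 hz hcard
  -- basic facts
  have hP : ES P a := hP0
  have haQ : a ∈ Q := hgQ
  have hzP : z' ∈ P := hzP0
  have hne : a ≠ z' := hne0
  have hNP : ∀ x : G, x * a = a * x → ∀ y ∈ P, x * y * x⁻¹ ∈ P := hNP0
  have ha1 : a ≠ 1 := hP.ne_one
  have hasq : a * a = 1 := hP.sq
  have hzsq : z' * z' = 1 := hES.sq
  have hza : z' * a = a * z' := (hES.central a haQ).symm
  have haP : a ∈ P := hP.mem
  have hzQ : z' ∈ Q := hES.mem
  -- membership lemmas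
  have memV : ∀ x : G, x ∈ V ↔ x = 1 ∨ x = z' ∨ x = a ∨ x = z' * a := by
    intro x
    rw [hV]
    exact mem_closure_pair_iff hzsq hasq hza x
  have memE : ∀ x : G, x ∈ E ↔ x ∈ Q ∧ x ∈ P := by
    intro x
    rw [hE, Subgroup.mem_inf]
  have mem1 : ∀ x : G, x ∈ Q ⊓ Subgroup.centralizer ({a} : Set G) ↔ x ∈ Q ∧ x * a = a * x := by
    intro x
    rw [Subgroup.mem_inf, Subgroup.mem_centralizer_singleton_iff]
  have mem2 : ∀ x : G, x ∈ P ⊓ Subgroup.centralizer ({z'} : Set G) ↔ x ∈ P ∧ x * z' = z' * x := by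
    intro x
    rw [Subgroup.mem_inf, Subgroup.mem_centralizer_singleton_iff]
  have hzE : z' ∈ E := (memE _).mpr ⟨hzQ, hzP⟩
  have haE : a ∈ E := (memE _).mpr ⟨haQ, haP⟩
  have hVE : V ≤ E := by
    intro x hx
    rcases (memV x).mp hx with h | h | h | h
    · rw [h]; exact E.one_mem
    · rw [h]; exact hzE
    · rw [h]; exact haE
    · rw [h]; exact E.mul_mem hzE haE
  have hzV : z' ∈ V := (memV _).mpr (Or.inr (Or.inl rfl))
  have haV : a ∈ V := (memV _).mpr (Or.inr (Or.inr (Or.inl rfl)))
  have h1zV : ∀ x : G, x = 1 ∨ x = z' → x ∈ V := by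
    rintro x (h | h)
    · rw [h]; exact V.one_mem
    · rw [h]; exact hzV
  have h1aV : ∀ x : G, x = 1 ∨ x = a → x ∈ V := by
    rintro x (h | h)
    · rw [h]; exact V.one_mem
    · rw [h]; exact haV
  have hE1 : E ≤ Q ⊓ Subgroup.centralizer ({a} : Set G) := by
    intro x hx
    have hx' := (memE x).mp hx
    exact (mem1 x).mpr ⟨hx'.1, hP.central x hx'.2⟩
  have hE2 : E ≤ P ⊓ Subgroup.centralizer ({z'} : Set G) := by
    intro x hx
    have hx' := (memE x).mp hx
    exact (mem2 x).mpr ⟨hx'.2, hES.central x hx'.1⟩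
  have hR1 : Q ⊓ Subgroup.centralizer ({a} : Set G) ≤ R := by rw [hR]; exact le_sup_right
  have hR2 : P ⊓ Subgroup.centralizer ({z'} : Set G) ≤ R := by rw [hR]; exact le_sup_left
  have hER : E ≤ R := hE1.trans hR1
  have hRcl : R = Subgroup.closure (((P ⊓ Subgroup.centralizer ({z'} : Set G) : Subgroup G) : Set G) ∪
      ((Q ⊓ Subgroup.centralizer ({a} : Set G) : Subgroup G) : Set G)) := by
    rw [hR, Subgroup.sup_eq_closure]
  have hXcl : X = Subgroup.closure ((Q : Set G) ∪ (P : Set G)) := by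
    rw [hX, Subgroup.sup_eq_closure]
  have hRX : R ≤ X := by
    rw [hR, hX]
    exact sup_le (inf_le_left.trans le_sup_right) (inf_le_left.trans le_sup_left)
  have hRz : R ≤ Subgroup.centralizer ({z'} : Set G) := by
    rw [hR]
    apply sup_le inf_le_right
    intro x hx
    rw [Subgroup.mem_centralizer_singleton_iff]
    exact hES.central x ((mem1 x).mp hx).1
  have hRa : R ≤ Subgroup.centralizer ({a} : Set G) := by
    rw [hR]
    apply sup_le _ inf_le_right
    intro x hx
    rw [Subgroup.mem_centralizer_singleton_iff]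
    exact hP.central x ((mem2 x).mp hx).1
  -- commutators with E land in V
  have hXE : ∀ x ∈ X, ∀ e ∈ E, x * e * x⁻¹ * e⁻¹ ∈ V := by
    intro x hx e he
    rw [hXcl] at hx
    refine (commutator_mem_of_mem_closure_left V ((Q : Set G) ∪ (P : Set G)) (E : Set G) ?_ ?_ x hx).2 e he
    · rintro s (hs | hs) v hv
      · have hvQ : v ∈ Q := ((memE v).mp (hVE hv)).1
        constructor
        · have h1 := h1zV _ (hES.comm s hs v hvQ)
          have := V.mul_mem h1 hv
          simpa [mul_assoc] using this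
        · have h1 := h1zV _ (hES.comm s⁻¹ (Q.inv_mem hs) v hvQ)
          have := V.mul_mem h1 hv
          simpa [mul_assoc] using this
      · have hvP : v ∈ P := ((memE v).mp (hVE hv)).2
        constructor
        · have h1 := h1aV _ (hP.comm s hs v hvP)
          have := V.mul_mem h1 hv
          simpa [mul_assoc] using this
        · have h1 := h1aV _ (hP.comm s⁻¹ (P.inv_mem hs) v hvP)
          have := V.mul_mem h1 hv
          simpa [mul_assoc] using this
    · rintro s (hs | hs) t ht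
      · exact h1zV _ (hES.comm s hs t ((memE t).mp ht).1)
      · exact h1aV _ (hP.comm s hs t ((memE t).mp ht).2)
  -- R/E is elementary abelian
  have hnormE : ∀ s : G, (s ∈ Q ⊓ Subgroup.centralizer ({a} : Set G) ∨
      s ∈ P ⊓ Subgroup.centralizer ({z'} : Set G)) → ∀ v ∈ E, s * v * s⁻¹ ∈ E := by
    rintro s (hs | hs) v hv
    · have hs' := (mem1 s).mp hs
      have hv' := (memE v).mp hv
      exact (memE _).mpr ⟨Q.mul_mem (Q.mul_mem hs'.1 hv'.1) (Q.inv_mem hs'.1), hNP s hs'.2 v hv'.2⟩
    · have hs' := (mem2 s).mp hs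
      have hv' := (memE v).mp hv
      exact (memE _).mpr ⟨hN s hs'.2 v hv'.1, P.mul_mem (P.mul_mem hs'.1 hv'.2) (P.inv_mem hs'.1)⟩
  have hRE : ∀ x ∈ R, ∀ y ∈ R, x * y * x⁻¹ * y⁻¹ ∈ E ∧ x ^ 2 ∈ E := by
    intro x hx y hy
    rw [hRcl] at hx hy
    refine elemAb_mod_of_closure E _ ?_ ?_ ?_ x hx y hy
    · rintro s hs v hv
      have hs' : s ∈ Q ⊓ Subgroup.centralizer ({a} : Set G) ∨
          s ∈ P ⊓ Subgroup.centralizer ({z'} : Set G) := by
        rcases hs with hs | hs
        · exact Or.inr hs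
        · exact Or.inl hs
      have hs'' : s⁻¹ ∈ Q ⊓ Subgroup.centralizer ({a} : Set G) ∨
          s⁻¹ ∈ P ⊓ Subgroup.centralizer ({z'} : Set G) := by
        rcases hs' with hs | hs
        · exact Or.inl (Subgroup.inv_mem _ hs)
        · exact Or.inr (Subgroup.inv_mem _ hs)
      refine ⟨hnormE s hs' v hv, ?_⟩
      have := hnormE s⁻¹ hs'' v hv
      simpa using this
    · rintro s (hs | hs) t (ht | ht)
      · have hs' := (mem2 s).mp hs
        have ht' := (mem2 t).mp ht
        exact hVE (h1aV _ (hP.comm s hs'.1 t ht'.1))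
      · have hs' := (mem2 s).mp hs
        have ht' := (mem1 t).mp ht
        refine (memE _).mpr ⟨?_, ?_⟩
        · exact Q.mul_mem (hN s hs'.2 t ht'.1) (Q.inv_mem ht'.1)
        · have h1 : t * s⁻¹ * t⁻¹ ∈ P := hNP t ht'.2 _ (P.inv_mem hs'.1)
          have := P.mul_mem hs'.1 h1
          have e : s * (t * s⁻¹ * t⁻¹) = s * t * s⁻¹ * t⁻¹ := by group
          rw [e] at this
          exact this
      · have hs' := (mem1 s).mp hs
        have ht' := (mem2 t).mp ht
        refine (memE _).mpr ⟨?_, ?_⟩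
        · have h1 : t * s⁻¹ * t⁻¹ ∈ Q := hN t ht'.2 _ (Q.inv_mem hs'.1)
          have := Q.mul_mem hs'.1 h1
          have e : s * (t * s⁻¹ * t⁻¹) = s * t * s⁻¹ * t⁻¹ := by group
          rw [e] at this
          exact this
        · exact P.mul_mem (hNP s hs'.2 t ht'.1) (P.inv_mem ht'.1)
      · have hs' := (mem1 s).mp hs
        have ht' := (mem1 t).mp ht
        exact hVE (h1zV _ (hES.comm s hs'.1 t ht'.1))
    · rintro s (hs | hs)
      · exact hVE (h1aV _ (hP.sq_mem ((mem2 s).mp hs).1))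
      · exact hVE (h1zV _ (hES.sq_mem ((mem1 s).mp hs).1))
  -- the centre of R
  have hcenter : (Subgroup.center ↥R).map R.subtype = V := by
    ext x
    rw [mem_center_map_subtype_iff, memV]
    constructor
    · rintro ⟨hxR, hcomm⟩
      apply hES.centralizer_centralizer hC hN haQ ha1 hne hasq
      intro r hr hra
      exact (hcomm r (hR1 ((mem1 r).mpr ⟨hr, hra⟩))).symm
    · intro hx
      have hxV : x ∈ V := (memV x).mpr hx
      refine ⟨hER (hVE hxV), ?_⟩
      intro y hy
      have hyz : y * z' = z' * y := Subgroup.mem_centralizer_singleton_iff.mp (hRz hy)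
      have hya : y * a = a * y := Subgroup.mem_centralizer_singleton_iff.mp (hRa hy)
      rcases hx with h | h | h | h
      · rw [h]; simp
      · rw [h]; exact hyz
      · rw [h]; exact hya
      · rw [h]
        calc y * (z' * a) = (y * z') * a := by group
          _ = (z' * y) * a := by rw [hyz]
          _ = z' * (y * a) := by group
          _ = z' * (a * y) := by rw [hya]
          _ = z' * a * y := by group
  have hcoe : ∀ u : ↥R, (u : G) ∈ V → u ∈ Subgroup.center ↥R := by
    intro u hu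
    rw [← hcenter] at hu
    obtain ⟨v, hv, hvu⟩ := hu
    have : v = u := Subtype.ext hvu
    rw [← this]; exact hv
  -- E ≤ Z₂(R)
  have hZ2 : ∀ e : ↥R, (e : G) ∈ E → e ∈ Subgroup.upperCentralSeries ↥R 2 := by
    intro e he
    show e ∈ Subgroup.upperCentralSeries ↥R (1 + 1)
    rw [Subgroup.mem_upperCentralSeries_succ_iff]
    intro y
    rw [Subgroup.upperCentralSeries_one]
    apply hcoe
    have h1 := hXE (y : G) (hRX y.2) (e : G) he
    have e1 : ((⁅e, y⁆ : ↥R) : G) = ((y : G) * (e : G) * (y : G)⁻¹ * (e : G)⁻¹)⁻¹ := by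
      rw [commutatorElement_def]
      simp only [Subgroup.coe_mul, Subgroup.coe_inv]
      group
    rw [e1]
    exact V.inv_mem h1
  refine ⟨hcenter, ?_, ?_, ?_, hRE, ?_, ?_⟩
  · intro e he
    exact ⟨⟨e, hER he⟩, hZ2 ⟨e, hER he⟩ he, rfl⟩
  · rw [eq_top_iff]
    intro x _
    show x ∈ Subgroup.upperCentralSeries ↥R (2 + 1)
    rw [Subgroup.mem_upperCentralSeries_succ_iff]
    intro y
    apply hZ2
    have h1 := (hRE (x : G) x.2 (y : G) y.2).1
    have e1 : ((⁅x, y⁆ : ↥R) : G) = (x : G) * (y : G) * (x : G)⁻¹ * (y : G)⁻¹ := by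
      rw [commutatorElement_def]
      simp only [Subgroup.coe_mul, Subgroup.coe_inv]
    rw [e1]
    exact h1
  · refine ⟨⟨⟨fun x y => ?_⟩⟩, ?_⟩
    · apply Subtype.ext
      have hx := (memE _).mp x.2
      have hy := (memE _).mp y.2
      show (x : G) * (y : G) = (y : G) * (x : G)
      rcases hES.comm _ hx.1 _ hy.1 with h1 | h1
      · exact comm_of_commutator_eq_one h1
      · rcases hP.comm _ hx.2 _ hy.2 with h2 | h2
        · exact comm_of_commutator_eq_one h2
        · exfalso
          exact hne (h2.symm.trans h1)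
    · intro x hx
      have hx' := (memE _).mp hx
      rw [pow_two]
      rcases hES.sq_mem hx'.1 with h1 | h1
      · exact h1
      · rcases hP.sq_mem hx'.2 with h2 | h2
        · exact h2
        · exfalso
          exact hne (h2.symm.trans h1)
  · apply le_antisymm
    · intro x hx
      have hx' := Subgroup.mem_inf.mp hx
      exact (memE x).mpr ⟨((mem1 x).mp hx'.2).1, ((mem2 x).mp hx'.1).1⟩
    · exact le_inf hE2 hE1
  · rw [Subgroup.commutator_le]
    intro x hx e he
    rw [commutatorElement_def]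
    exact hXE x hx e he

end Cfsg.Agent.S5431
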