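import Cfsg.Statements.S5433
import Mathlib

set_option autoImplicit false
open Cfsg

namespace Cfsg.Agent.S5433

/-- Let Q be a large extraspecial 2-subgroup of the finite group G (extraspecial; centralizer equal to its centre; normal in the centralizer of its centre; normalizing no non-trivial subgroup of odd order), and L a normal subgroup of G containing Q. Then G is the product of L and the normalizer of Q. -/
theorem result {G : Type*} [Group G] [Finite G] (Q : Subgroup G) (hQ : Cfsg.IsLargeExtraspecial Q) (L : Subgroup G) [L.Normal] (hQL : Q ≤ L) : L ⊔ Subgroup.normalizer (Q : Set G) = ⊤ := by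
  obtain ⟨⟨⟨hp, -, -⟩, hcard⟩, hcent, hnorm, -⟩ := hQ
  have : Fact (Nat.Prime 2) := ⟨Nat.prime_two⟩
  -- a Sylow 2-subgroup of L containing Q
  have hpQ' : IsPGroup 2 (Q.subgroupOf L) := by
    have : IsPGroup 2 Q := hp
    exact this.comap_subtype
  obtain ⟨P, hP⟩ := hpQ'.exists_le_sylow
  have hfrat := Sylow.normalizer_sup_eq_top P
  set P' : Subgroup G := (P : Subgroup L).map L.subtype with hP'
  have hQP' : Q ≤ P' := by
    intro x hx
    refine ⟨⟨x, hQL hx⟩, hP ?_, rfl⟩
    exact hx
  have hP'pg : IsPGroup 2 P' := P.2.map L.subtype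
  -- the centre of Q as a subgroup of G
  set Z : Subgroup G := (Subgroup.center Q).map Q.subtype with hZ
  have hZcard : Nat.card Z = 2 := by
    rw [hZ, Subgroup.card_map_of_injective Q.subtype_injective]
    exact hcard
  -- centre of P' nontrivial
  have hQnt : Nontrivial Q := by
    by_contra h
    rw [not_nontrivial_iff_subsingleton] at h
    have : Nat.card (Subgroup.center Q) = 1 := Nat.card_unique
    omega
  have hP'nt : Nontrivial P' := by
    obtain ⟨a, b, hab⟩ := hQnt
    exact ⟨⟨a.1, hQP' a.2⟩, ⟨b.1, hQP' b.2⟩, fun h => hab (Subtype.ext (by simpa using congrArg Subtype.val h))⟩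
  have hcnt : Nontrivial (Subgroup.center P') := hP'pg.center_nontrivial
  -- Z(P') ≤ Z
  have hZP' : (Subgroup.center P').map P'.subtype ≤ Z := by
    rw [← hcent]
    rintro _ ⟨c, hc, rfl⟩
    rw [Subgroup.mem_centralizer_iff]
    intro q hq
    have := Subgroup.mem_center_iff.mp hc ⟨q, hQP' hq⟩
    simpa using congrArg Subtype.val this
  have hZP'eq : (Subgroup.center P').map P'.subtype = Z := by
    apply Subgroup.eq_of_le_of_card_ge hZP'
    rw [hZcard, Subgroup.card_map_of_injective P'.subtype_injective]
    exact Finite.one_lt_card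
  -- normalizer of P' ≤ normalizer of Q
  have hN : Subgroup.normalizer (P' : Set G) ≤ Subgroup.normalizer (Q : Set G) := by
    refine le_trans ?_ hnorm
    intro g hg
    rw [Subgroup.mem_centralizer_iff]
    intro x hx
    have hx' : x ∈ Z := hx
    -- g⁻¹ x g ∈ Z
    have hgx : g⁻¹ * x * g ∈ Z := by
      rw [← hZP'eq] at hx' ⊢
      obtain ⟨c, hc, rfl⟩ := hx'
      have hmem : g⁻¹ * (c : G) * g ∈ P' := by
        have := (Subgroup.mem_normalizer_iff'' .. |>.mp hg) (c : G)
        exact this.mp c.2
      refine ⟨⟨g⁻¹ * c * g, hmem⟩, ?_, rfl⟩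
      refine Subgroup.mem_center_iff.mpr ?_
      intro y
      have hy : g * (y : G) * g⁻¹ ∈ P' := by
        have := (Subgroup.mem_normalizer_iff .. |>.mp hg) (y : G)
        exact this.mp y.2
      have hcy := Subgroup.mem_center_iff.mp hc ⟨g * y * g⁻¹, hy⟩
      have hcy' : g * (y : G) * g⁻¹ * (c : G) = (c : G) * (g * (y : G) * g⁻¹) := by
        simpa using congrArg Subtype.val hcy
      apply Subtype.ext
      simp only [Subgroup.coe_mul]
      calc (y : G) * (g⁻¹ * c * g) = g⁻¹ * (g * y * g⁻¹ * c) * g := by group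
        _ = g⁻¹ * (c * (g * y * g⁻¹)) * g := by rw [hcy']
        _ = g⁻¹ * c * g * y := by group
    by_cases hx1 : x = 1
    · subst hx1; simp
    · obtain ⟨y, hy, huniq⟩ := (Nat.card_eq_two_iff' (1 : Z)).mp hZcard
      have h1 : (⟨x, hx'⟩ : Z) = y := huniq _ (fun h => hx1 (by simpa using congrArg Subtype.val h))
      have hne : g⁻¹ * x * g ≠ 1 := by
        intro h
        apply hx1
        have : x = g * (g⁻¹ * x * g) * g⁻¹ := by group
        rw [this, h]; group
      have h2 : (⟨g⁻¹ * x * g, hgx⟩ : Z) = y := huniq _ (fun h => hne (by simpa using congrArg Subtype.val h))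
      have h : g⁻¹ * x * g = x := by
        have := h2.trans h1.symm
        simpa using congrArg Subtype.val this
      calc x * g = g * (g⁻¹ * x * g) := by group
        _ = g * x := by rw [h]
  rw [eq_top_iff, ← hfrat, sup_comm]
  exact sup_le_sup_left hN L

end Cfsg.Agent.S5433
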