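import Cfsg.Statements.S5434
import Mathlib
import Cfsg.Agent.Lib.Helper90.Extraspecial
import Cfsg.Agent.Lib.Helper24.SZInternal

set_option autoImplicit false
open Cfsg

namespace Cfsg.Agent.S5434

private theorem mem_centralizer_sup_aux {G : Type*} [Group G] {H K : Subgroup G} {x : G}
    (hH : x ∈ Subgroup.centralizer (H : Set G)) (hK : x ∈ Subgroup.centralizer (K : Set G)) :
    x ∈ Subgroup.centralizer ((H ⊔ K : Subgroup G) : Set G) := by
  have h : H ⊔ K ≤ Subgroup.centralizer ({x} : Set G) := by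
    refine sup_le ?_ ?_
    · intro y hy
      rw [Subgroup.mem_centralizer_iff]
      intro z hz
      rw [Set.mem_singleton_iff] at hz
      subst hz
      exact ((Subgroup.mem_centralizer_iff.mp hH) y hy).symm
    · intro y hy
      rw [Subgroup.mem_centralizer_iff]
      intro z hz
      rw [Set.mem_singleton_iff] at hz
      subst hz
      exact ((Subgroup.mem_centralizer_iff.mp hK) y hy).symm
  rw [Subgroup.mem_centralizer_iff]
  intro y hy
  exact ((Subgroup.mem_centralizer_iff.mp (h hy)) x rfl).symm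

/-- Let Q be a large extraspecial 2-subgroup of the finite group G (extraspecial; centralizer equal to its centre; normal in the centralizer of its centre; normalizing no non-trivial subgroup of odd order), and A a non-trivial subgroup of odd order of the normalizer of Q. Then Q is the central product of the centralizer of A in Q and the commutator subgroup [Q, A] (they generate Q and commute elementwise), [Q, A] is extraspecial, and the centralizer of A in Q is either the centre of Q or extraspecial. -/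
theorem result {G : Type*} [Group G] [Finite G] (Q : Subgroup G) (hQ : Cfsg.IsLargeExtraspecial Q) (A : Subgroup G) (hA : A ≤ Subgroup.normalizer (Q : Set G)) (hAodd : Odd (Nat.card ↥A)) (hA1 : A ≠ ⊥) : (Q ⊓ Subgroup.centralizer (A : Set G)) ⊔ ⁅Q, A⁆ = Q ∧ (∀ x ∈ Q ⊓ Subgroup.centralizer (A : Set G), ∀ y ∈ ⁅Q, A⁆, x * y = y * x) ∧ Cfsg.IsExtraspecial 2 ↥⁅Q, A⁆ ∧ (Q ⊓ Subgroup.centralizer (A : Set G) = ((Subgroup.center ↥Q).map Q.subtype) ∨ Cfsg.IsExtraspecial 2 ↥(Q ⊓ Subgroup.centralizer (A : Set G))) := by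
  have : Fact (Nat.Prime 2) := ⟨Nat.prime_two⟩
  obtain ⟨hQes, hcent, -, -⟩ := hQ
  obtain ⟨⟨hpQ, hfratQ, hcommQ⟩, hcardQ⟩ := id hQes
  have hZcard : Nat.card ((Subgroup.center Q).map Q.subtype) = 2 := by
    rw [Subgroup.card_map_of_injective Q.subtype_injective]
    exact hcardQ
  have hcop : (Nat.card A).Coprime (Nat.card Q) := by
    obtain ⟨n, hn⟩ := hpQ.exists_card_eq
    rw [hn]
    exact Nat.Coprime.pow_right n (Nat.coprime_two_right.mpr hAodd)
  have hsolv : Group.IsSolvable Q := by
    have : Group.IsNilpotent Q := hpQ.isNilpotent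
    infer_instance
  have hdec : Q = ⁅Q, A⁆ ⊔ (Q ⊓ Subgroup.centralizer (A : Set G)) :=
    Cfsg.Agent.Helper24.eq_commutator_sup_centralizer Q A hA hcop hsolv
  have hQ₁Q : ⁅Q, A⁆ ≤ Q := Cfsg.Agent.Helper24.commutator_le_of_le_normalizer Q A hA
  have hQQ : ⁅Q, Q⁆ = (Subgroup.center Q).map Q.subtype := by
    rw [← Subgroup.map_subtype_commutator, hcommQ]
  -- A centralizes Z
  have hZA : (Subgroup.center Q).map Q.subtype ≤ Subgroup.centralizer (A : Set G) := by
    intro z hz
    rw [Subgroup.mem_centralizer_iff]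
    intro a ha
    by_cases hz1 : z = 1
    · subst hz1; simp
    have hconj : a * z * a⁻¹ ∈ (Subgroup.center Q).map Q.subtype := by
      rw [Cfsg.Agent.Helper90.mem_map_center_iff] at hz ⊢
      refine ⟨(Subgroup.mem_normalizer_iff.mp (hA ha) z).mp hz.1, fun y hy => ?_⟩
      have hy' : a⁻¹ * y * a ∈ Q := (Subgroup.mem_normalizer_iff''.mp (hA ha) y).mp hy
      have := hz.2 _ hy'
      calc y * (a * z * a⁻¹) = a * (a⁻¹ * y * a * z) * a⁻¹ := by group
        _ = a * (z * (a⁻¹ * y * a)) * a⁻¹ := by rw [this]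
        _ = a * z * a⁻¹ * y := by group
    obtain ⟨w, -, hw⟩ := (Nat.card_eq_two_iff' (1 : ((Subgroup.center Q).map Q.subtype))).mp hZcard
    have h1 := hw ⟨z, hz⟩ (fun h => hz1 (by simpa using congrArg Subtype.val h))
    have h2 := hw ⟨a * z * a⁻¹, hconj⟩ (fun h => hz1 (by
      have := congrArg Subtype.val h
      simp only [Subgroup.coe_one] at this
      calc z = a⁻¹ * (a * z * a⁻¹) * a := by group
        _ = 1 := by rw [this]; group))
    have h3 : a * z * a⁻¹ = z := by
      have := h2.trans h1.symm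
      simpa using congrArg Subtype.val this
    calc a * z = a * z * a⁻¹ * a := by group
      _ = z * a := by rw [h3]
  have hZA' : ⁅(Subgroup.center Q).map Q.subtype, A⁆ = ⊥ :=
    Subgroup.commutator_eq_bot_iff_le_centralizer.mpr hZA
  -- three subgroups lemma
  have hCA : ⁅A, Q ⊓ Subgroup.centralizer (A : Set G)⁆ = ⊥ := by
    rw [Subgroup.commutator_comm, Subgroup.commutator_eq_bot_iff_le_centralizer]
    exact inf_le_right
  have hQ₁C : ⁅⁅Q, A⁆, Q ⊓ Subgroup.centralizer (A : Set G)⁆ = ⊥ := by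
    apply Subgroup.commutator_commutator_eq_bot_of_rotate
    · rw [hCA, Subgroup.commutator_bot_left]
    · rw [eq_bot_iff, ← hZA']
      refine Subgroup.commutator_mono ?_ le_rfl
      rw [← hQQ]
      exact Subgroup.commutator_mono inf_le_left le_rfl
  have hQ₁C' : ⁅Q, A⁆ ≤ Subgroup.centralizer ((Q ⊓ Subgroup.centralizer (A : Set G) : Subgroup G) : Set G) :=
    Subgroup.commutator_eq_bot_iff_le_centralizer.mp hQ₁C
  have hCQ₁' : Q ⊓ Subgroup.centralizer (A : Set G) ≤ Subgroup.centralizer ((⁅Q, A⁆ : Subgroup G) : Set G) :=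
    Subgroup.le_centralizer_iff.mp hQ₁C'
  -- elements centralizing both factors lie in Z
  have hboth : ∀ x : G, x ∈ Subgroup.centralizer ((⁅Q, A⁆ : Subgroup G) : Set G) →
      x ∈ Subgroup.centralizer ((Q ⊓ Subgroup.centralizer (A : Set G) : Subgroup G) : Set G) →
      x ∈ (Subgroup.center Q).map Q.subtype := by
    intro x h1 h2
    rw [← hcent]
    have := mem_centralizer_sup_aux h1 h2
    rwa [← hdec] at this
  -- Q₁ is not abelian
  have hna₁ : ∃ x ∈ ⁅Q, A⁆, ∃ y ∈ ⁅Q, A⁆, x * y ≠ y * x := by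
    by_contra hab
    push Not at hab
    have hle : ⁅Q, A⁆ ≤ (Subgroup.center Q).map Q.subtype := by
      intro x hx
      refine hboth x ?_ (hQ₁C' hx)
      rw [Subgroup.mem_centralizer_iff]
      intro y hy
      exact hab y hy x hx
    have h2 : ⁅⁅Q, A⁆, A⁆ = ⊥ := by
      rw [eq_bot_iff, ← hZA']
      exact Subgroup.commutator_mono hle le_rfl
    have hAle := Cfsg.Agent.Helper24.le_centralizer_of_coprime Q A hA hcop h2
    rw [hcent] at hAle
    have hdvd : Nat.card A ∣ 2 := hZcard ▸ Subgroup.card_dvd_of_le hAle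
    rcases (Nat.dvd_prime Nat.prime_two).mp hdvd with h1 | h2
    · exact hA1 (Subgroup.card_eq_one.mp h1)
    · rw [h2] at hAodd
      exact absurd hAodd (by decide)
  have hes₁ := Cfsg.Agent.Helper90.isExtraspecial_two_of_le Q ⁅Q, A⁆ hQes hQ₁Q hna₁ (by
    intro x hx hxc
    refine hboth x ?_ (hQ₁C' hx)
    rw [Subgroup.mem_centralizer_iff]
    intro y hy
    exact hxc y hy)
  refine ⟨?_, ?_, hes₁.1, ?_⟩
  · rw [sup_comm]; exact hdec.symm
  · intro x hx y hy
    exact (Subgroup.mem_centralizer_iff.mp (hQ₁C' hy)) x hx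
  · by_cases hab : ∀ x ∈ Q ⊓ Subgroup.centralizer (A : Set G), ∀ y ∈ Q ⊓ Subgroup.centralizer (A : Set G), x * y = y * x
    · left
      apply le_antisymm
      · intro x hx
        refine hboth x (hCQ₁' hx) ?_
        rw [Subgroup.mem_centralizer_iff]
        intro y hy
        exact hab y hy x hx
      · refine le_inf ?_ hZA
        exact Subgroup.map_subtype_le _
    · right
      push Not at hab
      refine (Cfsg.Agent.Helper90.isExtraspecial_two_of_le Q _ hQes inf_le_left hab ?_).1
      intro x hx hxc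
      refine hboth x (hCQ₁' hx) ?_
      rw [Subgroup.mem_centralizer_iff]
      intro y hy
      exact hxc y hy

end Cfsg.Agent.S5434
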