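import Cfsg.Statements.S5435
import Mathlib
import Cfsg.Agent.Lib.Helper2.PGroup
import Cfsg.Agent.Lib.Helper2.Frobenius
import Cfsg.Agent.Lib.Helper48.TransferInv
import Cfsg.Agent.Lib.Helper34.Dihedral2
import Cfsg.Agent.S0216
import Cfsg.Agent.S0206

set_option autoImplicit false
open Cfsg

namespace Cfsg.Agent.S5435

/-- an element of odd order killed by a power of two is trivial -/
theorem eq_one_of_odd_of_pow {G : Type*} [Group G] (w : G) (hodd : Odd (orderOf w)) (k : ℕ)
    (h : w ^ 2 ^ k = 1) : w = 1 := by
  have h1 : orderOf w ∣ 2 ^ k := orderOf_dvd_of_pow_eq_one h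
  have h2 : Nat.Coprime (orderOf w) (2 ^ k) :=
    Nat.Coprime.pow_right k (Nat.coprime_two_right.mpr hodd)
  exact orderOf_eq_one_iff.mp (Nat.Coprime.eq_one_of_dvd h2 h1)

/-- the cyclic group generated by an involution -/
theorem mem_zpowers_invol {G : Type*} [Group G] {z w : G} (hz : z * z = 1)
    (h : w ∈ Subgroup.zpowers z) : w = 1 ∨ w = z := by
  obtain ⟨k, rfl⟩ := Subgroup.mem_zpowers_iff.mp h
  have hz2 : z ^ (2 : ℤ) = 1 := by
    rw [show (2 : ℤ) = ((2 : ℕ) : ℤ) from rfl, zpow_natCast, pow_two]; exact hz
  rcases Int.emod_two_eq_zero_or_one k with h0 | h1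
  · left
    have : k = 2 * (k / 2) := by omega
    rw [this, zpow_mul, hz2, one_zpow]
  · right
    have : k = 2 * (k / 2) + 1 := by omega
    rw [this, zpow_add, zpow_mul, hz2, one_zpow, one_mul, zpow_one]

/-- An involution with a 2-group centralizer all of whose commutators have odd order:
Frobenius' condition holds (so the group has a normal 2-complement). -/
theorem frobCond_of_isolated {G : Type*} [Group G] [Finite G] (z : G) (hz : z * z = 1)
    (hC : IsPGroup 2 (Subgroup.centralizer ({z} : Set G)))
    (hodd : ∀ g : G, Odd (orderOf (z * g * z⁻¹ * g⁻¹))) : Helper2.FrobCond 2 G := by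
  haveI : Fact (Nat.Prime 2) := ⟨Nat.prime_two⟩
  have hzinv : z⁻¹ = z := inv_eq_of_mul_eq_one_right hz
  have hzp : IsPGroup 2 (Subgroup.zpowers z) := by
    rintro ⟨x, hx⟩
    refine ⟨1, ?_⟩
    apply Subtype.ext
    rcases mem_zpowers_invol hz hx with rfl | rfl
    · simp
    · simp [pow_two, hz]
  obtain ⟨P, hP⟩ := hzp.exists_le_sylow
  have hzP : z ∈ P := hP (Subgroup.mem_zpowers z)
  have hzcen : ∀ s ∈ P, s * z = z * s := by
    intro s hs
    have hw : z * s * z⁻¹ * s⁻¹ ∈ (P : Subgroup G) :=
      (P : Subgroup G).mul_mem ((P : Subgroup G).mul_mem ((P : Subgroup G).mul_mem hzP hs)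
        ((P : Subgroup G).inv_mem hzP)) ((P : Subgroup G).inv_mem hs)
    obtain ⟨k, hk⟩ := P.isPGroup' ⟨_, hw⟩
    have hk' : (z * s * z⁻¹ * s⁻¹) ^ 2 ^ k = 1 := by
      have := congrArg Subtype.val hk
      simpa using this
    have h1 := eq_one_of_odd_of_pow _ (hodd s) k hk'
    calc s * z = (z * s * z⁻¹ * s⁻¹)⁻¹ * (z * s) := by group
      _ = z * s := by rw [h1, inv_one, one_mul]
  apply Helper2.frobCond_of_sylow P
  intro Q hQP g hg hgo
  have hzQ : ∀ q ∈ Q, q * z = z * q := fun q hq => hzcen q (hQP hq)
  set v := g * z * g⁻¹ with hv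
  have hvQ : ∀ q ∈ Q, q * v = v * q := by
    intro q hq
    have hq' : g⁻¹ * q * g ∈ Q := by
      have h1 : g * (g⁻¹ * q * g) * g⁻¹ = q := by group
      exact (Subgroup.mem_normalizer_iff.mp hg (g⁻¹ * q * g)).mpr (h1.symm ▸ hq)
    have h1 := hzQ _ hq'
    calc q * v = g * ((g⁻¹ * q * g) * z) * g⁻¹ := by rw [hv]; group
      _ = g * (z * (g⁻¹ * q * g)) * g⁻¹ := by rw [h1]
      _ = v * q := by rw [hv]; group
  set w := z * g * z⁻¹ * g⁻¹ with hw
  have hwv : w = z * v := by rw [hw, hv, hzinv]; group
  have hv2 : v * v = 1 := by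
    rw [hv]
    calc g * z * g⁻¹ * (g * z * g⁻¹) = g * (z * z) * g⁻¹ := by group
      _ = 1 := by rw [hz]; group
  have hvinv : v⁻¹ = v := inv_eq_of_mul_eq_one_right hv2
  obtain ⟨k, hk⟩ := hodd g
  set c := w ^ k with hc
  have hwpow : w ^ (2 * k + 1) = 1 := by rw [← hk]; exact pow_orderOf_eq_one w
  have hzw : z * w * z⁻¹ = w⁻¹ := by
    rw [hwv, mul_inv_rev, hvinv, hzinv, ← mul_assoc z z v, hz, one_mul]
  have hzc : z * c * z⁻¹ = c⁻¹ := by
    rw [hc, ← inv_pow, ← hzw, conj_pow]
  have hczc : c * z * c⁻¹ = v := by
    have h1 : c * z * c⁻¹ = c * (z * c * z⁻¹)⁻¹ * z := by group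
    rw [h1, hzc, inv_inv]
    have h2 : c * c = w⁻¹ := by
      rw [hc, ← pow_add, ← two_mul]
      apply eq_inv_of_mul_eq_one_left
      rw [← pow_succ]; exact hwpow
    rw [h2, hwv, mul_inv_rev, inv_mul_cancel_right]
    exact hvinv
  set r := c⁻¹ * g with hr
  have hrz : r * z = z * r := by
    have h1 : c⁻¹ * v * c = z := by rw [← hczc]; group
    calc r * z = (c⁻¹ * (g * z * g⁻¹) * c) * (c⁻¹ * g) := by rw [hr]; group
      _ = z * r := by rw [← hv, h1]
  have hrC : r ∈ Subgroup.centralizer ({z} : Set G) := by
    rw [Subgroup.mem_centralizer_singleton_iff]; exact hrz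
  obtain ⟨j, hj⟩ := hC ⟨r, hrC⟩
  have hj' : r ^ 2 ^ j = 1 := by simpa using congrArg Subtype.val hj
  have hcC : c ∈ Subgroup.centralizer (Q : Set G) := by
    apply Subgroup.pow_mem
    rw [hwv]
    apply Subgroup.mul_mem
    · rw [Subgroup.mem_centralizer_iff]; intro q hq; exact hzQ q hq
    · rw [Subgroup.mem_centralizer_iff]; intro q hq; exact hvQ q hq
  have hcN : c ∈ Subgroup.normalizer (Q : Set G) := Subgroup.centralizer_le_normalizer _ hcC
  have hrN : r ∈ Subgroup.normalizer (Q : Set G) :=
    Subgroup.mul_mem _ (Subgroup.inv_mem _ hcN) hg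
  let φ := Q.normalizerMonoidHom
  have hφc : φ ⟨c, hcN⟩ = 1 := by
    have : (⟨c, hcN⟩ : Subgroup.normalizer (Q : Set G)) ∈ φ.ker := by
      rw [Subgroup.normalizerMonoidHom_ker, Subgroup.mem_subgroupOf]; exact hcC
    exact this
  have hgr : (⟨g, hg⟩ : Subgroup.normalizer (Q : Set G)) = ⟨c, hcN⟩ * ⟨r, hrN⟩ := by
    apply Subtype.ext; simp [hr]
  have hφg : φ ⟨g, hg⟩ = φ ⟨r, hrN⟩ := by rw [hgr, map_mul, hφc, one_mul]
  have ho1 : orderOf (φ ⟨g, hg⟩) ∣ orderOf g := by
    have := orderOf_map_dvd φ (⟨g, hg⟩ : Subgroup.normalizer (Q : Set G))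
    rwa [Subgroup.orderOf_mk] at this
  have ho2 : orderOf (φ ⟨g, hg⟩) ∣ 2 ^ j := by
    rw [hφg]
    apply orderOf_dvd_of_pow_eq_one
    rw [← map_pow]
    have : (⟨r, hrN⟩ : Subgroup.normalizer (Q : Set G)) ^ 2 ^ j = 1 :=
      Subtype.ext (by simpa using hj')
    rw [this, map_one]
  have ho3 : orderOf (φ ⟨g, hg⟩) = 1 := by
    have hcop : Nat.Coprime (orderOf g) (2 ^ j) := Nat.Coprime.pow_right j hgo
    exact Nat.eq_one_of_dvd_coprimes hcop ho1 ho2
  have hker : (⟨g, hg⟩ : Subgroup.normalizer (Q : Set G)) ∈ φ.ker := orderOf_eq_one_iff.mp ho3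
  rw [Subgroup.normalizerMonoidHom_ker, Subgroup.mem_subgroupOf] at hker
  exact hker

/-- Let L be a finite non-abelian simple group with an involution z whose centralizer R is a Sylow 2-subgroup of L whose Frattini subgroup is the subgroup generated by z. Then R is dihedral of order 8. -/
theorem result {L : Type*} [Group L] [Finite L] [IsSimpleGroup L] (hL : ¬ IsMulCommutative L) (z : L) (hz : orderOf z = 2) (R : Sylow 2 L) (hR : (R : Subgroup L) = Subgroup.centralizer ({z} : Set L)) (hΦ : (frattini ↥(R : Subgroup L)).map (R : Subgroup L).subtype = Subgroup.zpowers z) : Nonempty (↥(R : Subgroup L) ≃* DihedralGroup 4) := by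
  haveI : Fact (Nat.Prime 2) := ⟨Nat.prime_two⟩
  have hz2 : z * z = 1 := by rw [← pow_two, ← hz]; exact pow_orderOf_eq_one z
  have hz1 : z ≠ 1 := by rintro rfl; rw [orderOf_one] at hz; omega
  have hzinv : z⁻¹ = z := inv_eq_of_mul_eq_one_right hz2
  have memR : ∀ x : L, x ∈ (R : Subgroup L) ↔ x * z = z * x := by
    intro x; rw [hR, Subgroup.mem_centralizer_singleton_iff]
  have hzR : z ∈ (R : Subgroup L) := (memR z).mpr rfl
  have hRp : IsPGroup 2 ↥(R : Subgroup L) := R.isPGroup'
  -- Frattini facts
  have hfr : ∀ y : ↥(R : Subgroup L), y ∈ frattini ↥(R : Subgroup L) →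
      (y : L) = 1 ∨ (y : L) = z := by
    intro y hy
    have : (y : L) ∈ (frattini ↥(R : Subgroup L)).map (R : Subgroup L).subtype := ⟨y, hy, rfl⟩
    rw [hΦ] at this
    exact mem_zpowers_invol hz2 this
  have hsq : ∀ x ∈ (R : Subgroup L), x * x = 1 ∨ x * x = z := by
    intro x hx
    have := hfr _ (Helper2.pow_mem_frattini hRp ⟨x, hx⟩)
    simpa [pow_two] using this
  have hcomm : ∀ x ∈ (R : Subgroup L), ∀ y ∈ (R : Subgroup L),
      x * y * x⁻¹ * y⁻¹ = 1 ∨ x * y * x⁻¹ * y⁻¹ = z := by
    intro x hx y hy
    have := hfr _ (Helper2.commutatorElement_mem_frattini hRp ⟨x, hx⟩ ⟨y, hy⟩)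
    simpa [commutatorElement_def] using this
  have hzfr : (⟨z, hzR⟩ : ↥(R : Subgroup L)) ∈ frattini ↥(R : Subgroup L) := by
    have : z ∈ (frattini ↥(R : Subgroup L)).map (R : Subgroup L).subtype := by
      rw [hΦ]; exact Subgroup.mem_zpowers z
    obtain ⟨y, hy, hyz⟩ := this
    have : y = ⟨z, hzR⟩ := Subtype.ext hyz
    rwa [this] at hy
  -- `N(R) = R`
  have hNR : ∀ g : L, g ∈ Subgroup.normalizer ((R : Subgroup L) : Set L) →
      g ∈ (R : Subgroup L) := by
    intro g hg
    let φ : MulAut ↥(R : Subgroup L) := (R : Subgroup L).normalizerMonoidHom ⟨g, hg⟩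
    have hchar : (frattini ↥(R : Subgroup L)).Characteristic := frattini_characteristic
    have h1 : φ ⟨z, hzR⟩ ∈ frattini ↥(R : Subgroup L) := by
      have h0 := hchar.fixed φ
      have h2 : (⟨z, hzR⟩ : ↥(R : Subgroup L)) ∈
          (frattini ↥(R : Subgroup L)).comap φ.toMonoidHom := by rw [h0]; exact hzfr
      exact h2
    have h3 := hfr _ h1
    have h4 : ((φ ⟨z, hzR⟩ : ↥(R : Subgroup L)) : L) = g * z * g⁻¹ := rfl
    rw [h4] at h3
    rcases h3 with h3 | h3
    · exfalso; apply hz1
      calc z = g⁻¹ * (g * z * g⁻¹) * g := by group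
        _ = 1 := by rw [h3]; group
    · rw [memR]
      calc g * z = (g * z * g⁻¹) * g := by group
        _ = z * g := by rw [h3]
  by_cases hiso : ∀ g : L, g * z * g⁻¹ ∈ R → g * z * g⁻¹ = z
  · -- the isolated case is impossible
    exfalso
    have hodd := (S0216.result R z hz hzR).mp hiso
    have hC : IsPGroup 2 (Subgroup.centralizer ({z} : Set L)) := hR ▸ R.isPGroup'
    obtain ⟨P, N, hNn, hNc⟩ := Helper2.frobenius 2 (frobCond_of_isolated z hz2 hC hodd)
    have hcard := hNc.card_mul
    have h2dvd : 2 ∣ Nat.card L := by rw [← hz]; exact orderOf_dvd_natCard z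
    rcases hNn.eq_bot_or_eq_top with h | h
    · rw [h, Subgroup.card_bot, one_mul] at hcard
      have hPtop : (P : Subgroup L) = ⊤ := Subgroup.eq_top_of_card_eq (P : Subgroup L) hcard
      have hLp : IsPGroup 2 L := by
        intro x
        obtain ⟨k, hk⟩ := P.isPGroup' ⟨x, hPtop ▸ Subgroup.mem_top x⟩
        exact ⟨k, by simpa using congrArg Subtype.val hk⟩
      haveI : Nontrivial L := ⟨⟨z, 1, hz1⟩⟩
      have hcen : Subgroup.center L ≠ ⊥ := by
        haveI := hLp.center_nontrivial
        exact (Subgroup.nontrivial_iff_ne_bot _).mp this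
      have hcentop : Subgroup.center L = ⊤ :=
        ((inferInstance : (Subgroup.center L).Normal).eq_bot_or_eq_top).resolve_left hcen
      apply hL
      refine ⟨⟨fun a b => ?_⟩⟩
      have : b ∈ Subgroup.center L := hcentop ▸ Subgroup.mem_top b
      exact (Subgroup.mem_center_iff.mp this a)
    · rw [h, Subgroup.card_top] at hcard
      have hP1 : Nat.card P = 1 := by
        have hpos : 0 < Nat.card L := Nat.card_pos
        exact Nat.eq_of_mul_eq_mul_left hpos (by rw [hcard, mul_one])
      have := P.dvd_card_of_dvd_card h2dvd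
      rw [hP1] at this; omega
  · -- a second conjugate `u` of `z` in `R`
    push_neg at hiso
    obtain ⟨g, hgR, hgz⟩ := hiso
    set u := g * z * g⁻¹ with hu
    have huR : u ∈ (R : Subgroup L) := hgR
    have hu2 : u * u = 1 := by
      rw [hu]
      calc g * z * g⁻¹ * (g * z * g⁻¹) = g * (z * z) * g⁻¹ := by group
        _ = 1 := by rw [hz2]; group
    have hu1 : u ≠ 1 := by
      intro h
      apply hz1
      calc z = g⁻¹ * u * g := by rw [hu]; group
        _ = 1 := by rw [h]; group
    have huz : u * z = z * u := (memR u).mp huR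
    have conjR : ∀ x : L, x * u = u * x → g⁻¹ * x * g ∈ (R : Subgroup L) := by
      intro x hx
      rw [memR]
      calc g⁻¹ * x * g * z = g⁻¹ * (x * u) * g := by rw [hu]; group
        _ = g⁻¹ * (u * x) * g := by rw [hx]
        _ = z * (g⁻¹ * x * g) := by rw [hu]; group
    have hsq_u : ∀ x : L, x * u = u * x → x * x = 1 ∨ x * x = u := by
      intro x hx
      rcases hsq _ (conjR x hx) with h | h
      · left
        calc x * x = g * (g⁻¹ * x * g * (g⁻¹ * x * g)) * g⁻¹ := by group
          _ = 1 := by rw [h]; group
      · right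
        calc x * x = g * (g⁻¹ * x * g * (g⁻¹ * x * g)) * g⁻¹ := by group
          _ = u := by rw [h]
    have hcomm_u : ∀ x y : L, x * u = u * x → y * u = u * y →
        x * y * x⁻¹ * y⁻¹ = 1 ∨ x * y * x⁻¹ * y⁻¹ = u := by
      intro x y hx hy
      rcases hcomm _ (conjR x hx) _ (conjR y hy) with h | h
      · left
        calc x * y * x⁻¹ * y⁻¹
            = g * (g⁻¹ * x * g * (g⁻¹ * y * g) * (g⁻¹ * x * g)⁻¹ * (g⁻¹ * y * g)⁻¹) * g⁻¹ := by
              group
          _ = 1 := by rw [h]; group
      · right
        calc x * y * x⁻¹ * y⁻¹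
            = g * (g⁻¹ * x * g * (g⁻¹ * y * g) * (g⁻¹ * x * g)⁻¹ * (g⁻¹ * y * g)⁻¹) * g⁻¹ := by
              group
          _ = u := by rw [h]
    -- `D = C_R(u)` is elementary abelian
    have hD2 : ∀ x : L, x * z = z * x → x * u = u * x → x * x = 1 := by
      intro x hxz hxu
      rcases hsq x ((memR x).mpr hxz) with h | h
      · exact h
      · rcases hsq_u x hxu with h' | h'
        · exact h'
        · exfalso; exact hgz (h'.symm.trans h)
    have hDc : ∀ x y : L, x * z = z * x → x * u = u * x → y * z = z * y → y * u = u * y →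
        x * y = y * x := by
      intro x y hxz hxu hyz hyu
      have h1 : x * y * x⁻¹ * y⁻¹ = 1 := by
        rcases hcomm x ((memR x).mpr hxz) y ((memR y).mpr hyz) with h | h
        · exact h
        · rcases hcomm_u x y hxu hyu with h' | h'
          · exact h'
          · exfalso; exact hgz (h'.symm.trans h)
      calc x * y = (x * y * x⁻¹ * y⁻¹) * (y * x) := by group
        _ = y * x := by rw [h1, one_mul]
    -- `u` is not central in `R`
    have hnc : ∃ t ∈ (R : Subgroup L), t * u ≠ u * t := by
      by_contra hall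
      push_neg at hall
      have hgN : g⁻¹ ∈ Subgroup.normalizer ((R : Subgroup L) : Set L) := by
        apply Helper34.Dih.mem_normalizer_of_conj_mem'
        intro y hy
        have := conjR y (hall y hy)
        simpa using this
      have hgR' : g⁻¹ ∈ (R : Subgroup L) := hNR _ hgN
      have h1 : g * z = z * g := (memR g).mp (by simpa using (R : Subgroup L).inv_mem hgR')
      apply hgz
      rw [hu, h1, mul_inv_cancel_right]
    obtain ⟨t₀, ht₀R, ht₀u⟩ := hnc
    have key : ∀ t ∈ (R : Subgroup L), t * u ≠ u * t → t * u * t⁻¹ = z * u := by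
      intro t htR htu
      rcases hcomm t htR u huR with h | h
      · exfalso; apply htu
        calc t * u = (t * u * t⁻¹ * u⁻¹) * (u * t) := by group
          _ = u * t := by rw [h, one_mul]
      · calc t * u * t⁻¹ = (t * u * t⁻¹ * u⁻¹) * u := by group
          _ = z * u := by rw [h]
    obtain ⟨t, htR, htu, ht2⟩ : ∃ t ∈ (R : Subgroup L), t * u * t⁻¹ = z * u ∧ t * t = 1 := by
      have h0 := key t₀ ht₀R ht₀u
      rcases hsq t₀ ht₀R with h | h
      · exact ⟨t₀, ht₀R, h0, h⟩
      · refine ⟨t₀ * u, (R : Subgroup L).mul_mem ht₀R huR, ?_, ?_⟩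
        · calc t₀ * u * u * (t₀ * u)⁻¹ = t₀ * u * t₀⁻¹ := by group
            _ = z * u := h0
        · calc t₀ * u * (t₀ * u) = (t₀ * u * t₀⁻¹) * (t₀ * t₀) * u := by group
            _ = z * u * z * u := by rw [h0, h]
            _ = z * (u * z) * u := by group
            _ = z * (z * u) * u := by rw [huz]
            _ = (z * z) * (u * u) := by group
            _ = 1 := by rw [hz2, hu2, one_mul]
    have htz : t * z = z * t := (memR t).mp htR
    have htu' : t * u = z * u * t := by
      calc t * u = (t * u * t⁻¹) * t := by group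
        _ = z * u * t := by rw [htu]
    have decomp : ∀ s ∈ (R : Subgroup L), (s * u = u * s) ∨ ((t * s) * u = u * (t * s)) := by
      intro s hs
      by_cases h : s * u = u * s
      · left; exact h
      · right
        have h1 := key s hs h
        have h1' : s * u = z * u * s := by
          calc s * u = (s * u * s⁻¹) * s := by group
            _ = z * u * s := by rw [h1]
        calc t * s * u = t * (s * u) := by group
          _ = t * (z * u * s) := by rw [h1']
          _ = (t * z) * u * s := by group
          _ = (z * t) * u * s := by rw [htz]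
          _ = z * (t * u) * s := by group
          _ = z * (z * u * t) * s := by rw [htu']
          _ = (z * z) * u * (t * s) := by group
          _ = u * (t * s) := by rw [hz2, one_mul]
    -- the centre of `R` has a single involution (transfer)
    have hZ : ∀ e ∈ (R : Subgroup L), (∀ s ∈ (R : Subgroup L), s * e = e * s) → e * e = 1 →
        e = 1 ∨ e = z := by
      intro e heR hecen he2
      by_contra hne
      push_neg at hne
      obtain ⟨he1, hez⟩ := hne
      have henf : (⟨e, heR⟩ : ↥(R : Subgroup L)) ∉ frattini ↥(R : Subgroup L) := by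
        intro h
        rcases hfr _ h with h' | h'
        · exact he1 h'
        · exact hez h'
      rw [Helper2.mem_frattini_iff'] at henf
      push_neg at henf
      obtain ⟨M, hM, heM⟩ := henf
      have hMi : M.index = 2 := Helper48.index_of_isCoatom_of_isPGroup hRp hM
      let ϕ := Helper48.signHomOfIndexTwo M hMi
      have hϕe : ϕ ⟨e, heR⟩ = -1 := Helper48.signHomOfIndexTwo_of_not_mem M hMi _ heM
      have hnorm : ∀ n ∈ Subgroup.normalizer ((R : Subgroup L) : Set L), n⁻¹ * e * n = e := by
        intro n hn
        have h1 := hecen n (hNR n hn)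
        calc n⁻¹ * e * n = n⁻¹ * (e * n) := by group
          _ = n⁻¹ * (n * e) := by rw [h1]
          _ = e := by group
      have htr := Helper48.transfer_central_involution (R : Subgroup L) R.isPGroup'
        R.not_dvd_index ϕ e heR hecen (by rw [pow_two]; exact he2) hnorm hϕe
      set τ : L →* ℤˣ := MonoidHom.transfer ϕ with hτ
      rcases (inferInstance : τ.ker.Normal).eq_bot_or_eq_top with h | h
      · apply hL
        refine ⟨⟨fun a b => ?_⟩⟩
        have hinj := (MonoidHom.ker_eq_bot_iff τ).mp h
        apply hinj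
        rw [map_mul, map_mul, mul_comm]
      · have h1 : e ∈ τ.ker := h ▸ Subgroup.mem_top e
        rw [MonoidHom.mem_ker, htr] at h1
        exact absurd h1 (by decide)
    have hCD : ∀ d : L, d * z = z * d → d * u = u * d → d * t = t * d → d = 1 ∨ d = z := by
      intro d hdz hdu hdt
      apply hZ d ((memR d).mpr hdz) ?_ (hD2 d hdz hdu)
      intro s hs
      have hsz : s * z = z * s := (memR s).mp hs
      rcases decomp s hs with h | h
      · exact hDc s d hsz h hdz hdu
      · have hts_z : (t * s) * z = z * (t * s) :=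
          (memR _).mp ((R : Subgroup L).mul_mem htR hs)
        have h1 : (t * s) * d = d * (t * s) := hDc (t * s) d hts_z h hdz hdu
        calc s * d = (t * t) * s * d := by rw [ht2, one_mul]
          _ = t * (t * s * d) := by group
          _ = t * (d * (t * s)) := by rw [h1]
          _ = (t * d) * (t * s) := by group
          _ = (d * t) * (t * s) := by rw [hdt]
          _ = d * ((t * t) * s) := by group
          _ = d * s := by rw [ht2, one_mul]
    have hD4 : ∀ d : L, d * z = z * d → d * u = u * d →
        d = 1 ∨ d = z ∨ d = u ∨ d = z * u := by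
      intro d hdz hdu
      by_cases hdt : d * t = t * d
      · rcases hCD d hdz hdu hdt with h | h
        · left; exact h
        · right; left; exact h
      · have hdR : d ∈ (R : Subgroup L) := (memR d).mpr hdz
        have h1 : t * d * t⁻¹ * d⁻¹ = z := by
          rcases hcomm t htR d hdR with h | h
          · exfalso; apply hdt
            have h' : t * d = d * t := by
              calc t * d = (t * d * t⁻¹ * d⁻¹) * (d * t) := by group
                _ = d * t := by rw [h, one_mul]
            exact h'.symm
          · exact h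
        have h2 : t * d = z * d * t := by
          calc t * d = (t * d * t⁻¹ * d⁻¹) * d * t := by group
            _ = z * d * t := by rw [h1]
        have h3 : (d * u) * t = t * (d * u) := by
          symm
          calc t * (d * u) = (t * d) * u := by group
            _ = z * d * t * u := by rw [h2]
            _ = z * d * (t * u) := by group
            _ = z * d * (z * u * t) := by rw [htu']
            _ = (z * (d * z)) * u * t := by group
            _ = (z * (z * d)) * u * t := by rw [hdz]
            _ = (z * z) * (d * u) * t := by group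
            _ = d * u * t := by rw [hz2, one_mul]
        have h4 : (d * u) * z = z * (d * u) := by
          calc d * u * z = d * (u * z) := by group
            _ = d * (z * u) := by rw [huz]
            _ = (d * z) * u := by group
            _ = (z * d) * u := by rw [hdz]
            _ = z * (d * u) := by group
        have h5 : (d * u) * u = u * (d * u) := by
          calc d * u * u = (d * u) * u := rfl
            _ = (u * d) * u := by rw [hdu]
            _ = u * (d * u) := by group
        rcases hCD (d * u) h4 h5 h3 with h | h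
        · right; right; left
          calc d = (d * u) * u := by rw [mul_assoc, hu2, mul_one]
            _ = u := by rw [h, one_mul]
        · right; right; right
          calc d = (d * u) * u := by rw [mul_assoc, hu2, mul_one]
            _ = z * u := by rw [h]
    -- `R = ⟨u, t⟩`
    have ht1 : t ≠ 1 := by
      rintro rfl
      apply hz1
      have h1 : u = z * u := by simpa using htu
      calc z = (z * u) * u⁻¹ := by group
        _ = 1 := by rw [← h1]; group
    have hut : u ≠ t := by
      rintro rfl
      apply hz1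
      have h1 : u = z * u := by simpa using htu
      calc z = (z * u) * u⁻¹ := by group
        _ = 1 := by rw [← h1]; group
    have hou : orderOf u = 2 := orderOf_eq_prime (by rw [pow_two]; exact hu2) hu1
    have hot : orderOf t = 2 := orderOf_eq_prime (by rw [pow_two]; exact ht2) ht1
    have hsq_ut : (u * t) * (u * t) = z := by
      calc u * t * (u * t) = u * (t * u) * t := by group
        _ = u * (z * u * t) * t := by rw [htu']
        _ = (u * z) * u * (t * t) := by group
        _ = (z * u) * u * (t * t) := by rw [huz]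
        _ = z * (u * u) * (t * t) := by group
        _ = z := by rw [hu2, ht2, mul_one, mul_one]
    have hord : orderOf (u * t) = 4 := by
      have h1 : ¬ (u * t) ^ 2 ^ 1 = 1 := by
        rw [pow_one, pow_two, hsq_ut]; exact hz1
      have h2 : (u * t) ^ 2 ^ (1 + 1) = 1 := by
        show (u * t) ^ 4 = 1
        calc (u * t) ^ 4 = ((u * t) * (u * t)) * ((u * t) * (u * t)) := by
              rw [show (4 : ℕ) = 2 + 2 from rfl, pow_add, pow_two]
          _ = 1 := by rw [hsq_ut, hz2]
      have := orderOf_eq_prime_pow h1 h2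
      simpa using this
    have hclos : Subgroup.closure ({u, t} : Set L) = (R : Subgroup L) := by
      apply le_antisymm
      · rw [Subgroup.closure_le]
        intro x hx
        rcases hx with rfl | rfl
        · exact huR
        · exact htR
      · have huc : u ∈ Subgroup.closure ({u, t} : Set L) := Subgroup.subset_closure (by simp)
        have htc : t ∈ Subgroup.closure ({u, t} : Set L) := Subgroup.subset_closure (by simp)
        have hzc : z ∈ Subgroup.closure ({u, t} : Set L) := by
          rw [← hsq_ut]
          exact Subgroup.mul_mem _ (Subgroup.mul_mem _ huc htc) (Subgroup.mul_mem _ huc htc)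
        have hDcl : ∀ d : L, d * z = z * d → d * u = u * d →
            d ∈ Subgroup.closure ({u, t} : Set L) := by
          intro d hdz hdu
          rcases hD4 d hdz hdu with rfl | rfl | rfl | rfl
          · exact Subgroup.one_mem _
          · exact hzc
          · exact huc
          · exact Subgroup.mul_mem _ hzc huc
        intro s hs
        have hsz : s * z = z * s := (memR s).mp hs
        rcases decomp s hs with h | h
        · exact hDcl s hsz h
        · have hts_z : (t * s) * z = z * (t * s) :=
            (memR _).mp ((R : Subgroup L).mul_mem htR hs)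
          have h1 := hDcl (t * s) hts_z h
          have h2 : s = t * (t * s) := by rw [← mul_assoc, ht2, one_mul]
          rw [h2]
          exact Subgroup.mul_mem _ htc h1
    obtain ⟨e⟩ := S0206.result u t hou hot hut
    rw [hord] at e
    exact ⟨(MulEquiv.subgroupCongr hclos.symm).trans e⟩

end Cfsg.Agent.S5435
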