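import Cfsg.Statements.S5436
import Mathlib
import Cfsg.Agent.Lib.Helper90.SimpleCrit
import Cfsg.Agent.Lib.Helper21.FStar

set_option autoImplicit false
open Cfsg

namespace Cfsg.Agent.S5436

open Subgroup in
/-- Let z be an involution of the finite group G with centralizer H whose generalized Fitting subgroup Q is extraspecial of width at least 2 (order 2^(2w+1), w ≥ 2); suppose some conjugate of z other than z lies in Q, H/Q is a non-abelian simple group, H acts irreducibly by conjugation on Q modulo the subgroup generated by z (the only H-invariant subgroups of Q containing z are that subgroup and Q), and Q is not the subgroup generated by the conjugates of z lying in H. Then G is simple. -/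
theorem result {G : Type*} [Group G] [Finite G] (z : G) (hz : orderOf z = 2) (Q : Subgroup (Subgroup.centralizer ({z} : Set G))) [Q.Normal] (hF : Cfsg.generalizedFittingSubgroup ↥(Subgroup.centralizer ({z} : Set G)) = Q) (hQ : Cfsg.IsExtraspecial 2 ↥Q) (w : ℕ) (hw : 2 ≤ w) (hcard : Nat.card ↥Q = 2 ^ (2 * w + 1)) (hnwc : ∃ g : G, (∃ hq : g * z * g⁻¹ ∈ Subgroup.centralizer ({z} : Set G), (⟨g * z * g⁻¹, hq⟩ : Subgroup.centralizer ({z} : Set G)) ∈ Q) ∧ g * z * g⁻¹ ≠ z) (hsimp : IsSimpleGroup (↥(Subgroup.centralizer ({z} : Set G)) ⧸ Q)) (hna : ¬ IsMulCommutative (↥(Subgroup.centralizer ({z} : Set G)) ⧸ Q)) (hirr : ∀ W : Subgroup (Subgroup.centralizer ({z} : Set G)), W.Normal → W ≤ Q → (W = Q ∨ ∀ x ∈ W, (x : G) ∈ Subgroup.zpowers z)) (hwcl : Subgroup.closure {x : Subgroup.centralizer ({z} : Set G) | IsConj z (x : G)} ≠ Q) : IsSimpleGroup G := by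
  have hz2 : z * z = 1 := by
    have := pow_orderOf_eq_one z
    rwa [hz, pow_two] at this
  have hz1 : z ≠ 1 := by
    intro h
    rw [h, orderOf_one] at hz
    omega
  have memH : ∀ x : G, x ∈ centralizer ({z} : Set G) ↔ x * z = z * x :=
    fun x => mem_centralizer_singleton_iff
  have hzH : z ∈ centralizer ({z} : Set G) := (memH z).mpr rfl
  -- C_H(Q) ≤ Q
  have hcentQ : centralizer (Q : Set (centralizer ({z} : Set G))) ≤ Q := by
    have := Cfsg.Agent.Helper21.centralizer_generalizedFittingSubgroup_le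
      (G := ↥(centralizer ({z} : Set G)))
    rwa [hF] at this
  have hzQ' : (⟨z, hzH⟩ : centralizer ({z} : Set G)) ∈ Q := by
    apply hcentQ
    rw [mem_centralizer_iff]
    intro y _
    apply Subtype.ext
    exact (memH y.1).mp y.2
  have hQGH : Q.map (centralizer ({z} : Set G)).subtype ≤ centralizer ({z} : Set G) :=
    map_subtype_le _
  have hzQ : z ∈ Q.map (centralizer ({z} : Set G)).subtype := ⟨⟨z, hzH⟩, hzQ', rfl⟩
  have memQG : ∀ (x : G) (hx : x ∈ centralizer ({z} : Set G)),
      x ∈ Q.map (centralizer ({z} : Set G)).subtype ↔ (⟨x, hx⟩ : centralizer ({z} : Set G)) ∈ Q := by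
    intro x hx
    constructor
    · rintro ⟨q, hq, hqx⟩
      have : q = ⟨x, hx⟩ := Subtype.ext hqx
      rwa [← this]
    · intro h
      exact ⟨⟨x, hx⟩, h, rfl⟩
  -- central elements of Q
  obtain ⟨⟨hpQ, hfratQ, hcommQ⟩, hcenQ⟩ := id hQ
  have hcen : ∀ c : Q, c ∈ center Q → ((c : centralizer ({z} : Set G)) : G) = 1 ∨
      ((c : centralizer ({z} : Set G)) : G) = z := by
    intro c hc
    by_cases hc1 : c = 1
    · left; rw [hc1]; rfl
    · right
      obtain ⟨y, -, huniq⟩ := (Nat.card_eq_two_iff' (1 : center Q)).mp hcenQ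
      have hzc : (⟨⟨z, hzH⟩, hzQ'⟩ : Q) ∈ center Q := by
        rw [mem_center_iff]
        intro y
        apply Subtype.ext
        apply Subtype.ext
        exact (memH y.1.1).mp y.1.2
      have e1 : (⟨c, hc⟩ : center Q) = y := huniq _ (fun h => hc1 (by
        simpa using congrArg Subtype.val h))
      have e2 : (⟨⟨⟨z, hzH⟩, hzQ'⟩, hzc⟩ : center Q) = y := huniq _ (fun h => hz1 (by
        have := congrArg (fun t : center Q => (((t : Q) : centralizer ({z} : Set G)) : G)) h
        simpa using this))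
      have := congrArg (fun t : center Q => (((t : Q) : centralizer ({z} : Set G)) : G)) (e1.trans e2.symm)
      simpa using this
  refine Cfsg.Agent.Helper90.isSimpleGroup_of_extraspecial_centralizer z hz2 hz1
    (Q.map (centralizer ({z} : Set G)).subtype) hQGH hzQ ?_ ?_ (hpQ.map _) ?_ ?_ ?_ ?_ ?_ ?_
  · -- h2
    intro x hx
    have hxz : x ∈ centralizer ({z} : Set G) := by
      rw [memH]
      exact ((mem_centralizer_iff.mp hx) z hzQ).symm
    rw [memQG x hxz]
    apply hcentQ
    rw [mem_centralizer_iff]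
    intro y hy
    apply Subtype.ext
    exact (mem_centralizer_iff.mp hx) y.1 ⟨y, hy, rfl⟩
  · -- h3
    have hstab : ∀ h ∈ centralizer ({z} : Set G), ∀ y ∈ Q.map (centralizer ({z} : Set G)).subtype,
        h * y * h⁻¹ ∈ Q.map (centralizer ({z} : Set G)).subtype := by
      rintro h hh _ ⟨q, hq, rfl⟩
      refine ⟨⟨h, hh⟩ * q * ⟨h, hh⟩⁻¹, Subgroup.Normal.conj_mem inferInstance q hq _, rfl⟩
    intro h hh
    rw [mem_normalizer_iff]
    intro y
    refine ⟨hstab h hh y, fun hy => ?_⟩
    have := hstab h⁻¹ (inv_mem hh) _ hy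
    have e : h⁻¹ * (h * y * h⁻¹) * h⁻¹⁻¹ = y := by group
    rwa [e] at this
  · -- h5
    rintro _ ⟨q, hq, rfl⟩ hx
    have hc : (⟨q, hq⟩ : Q) ∈ center Q := by
      rw [mem_center_iff]
      intro y
      apply Subtype.ext
      apply Subtype.ext
      exact hx y.1.1 ⟨y.1, y.2, rfl⟩
    exact hcen ⟨q, hq⟩ hc
  · -- h6
    rintro _ ⟨a, ha, rfl⟩ _ ⟨b, hb, rfl⟩
    have hc : (⟨a, ha⟩ : Q) * (⟨b, hb⟩ : Q) * (⟨a, ha⟩ : Q)⁻¹ * (⟨b, hb⟩ : Q)⁻¹ ∈ center Q := by
      rw [← hcommQ, _root_.commutator_def, ← commutatorElement_def]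
      exact commutator_mem_commutator (mem_top _) (mem_top _)
    have := hcen _ hc
    simpa using this
  · -- h7
    intro WG hWQ hWn
    have hWH : WG ≤ centralizer ({z} : Set G) := hWQ.trans hQGH
    have hnormal : (WG.subgroupOf (centralizer ({z} : Set G))).Normal :=
      (normal_subgroupOf_iff_le_normalizer hWH).mpr hWn
    have hle : WG.subgroupOf (centralizer ({z} : Set G)) ≤ Q := by
      intro x hx
      rw [mem_subgroupOf] at hx
      exact (memQG x.1 x.2).mp (hWQ hx)
    rcases hirr _ hnormal hle with h | h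
    · left
      rw [← map_subgroupOf_eq_of_le hWH, h]
    · right
      intro x hx
      exact h ⟨x, hWH hx⟩ (by rw [mem_subgroupOf]; exact hx)
  · -- h8
    obtain ⟨g, ⟨hq, hqQ⟩, hne⟩ := hnwc
    exact ⟨g, ⟨_, hqQ, rfl⟩, hne⟩
  · -- h9
    intro K hQK hKH hKn
    have hnormal : (K.subgroupOf (centralizer ({z} : Set G))).Normal :=
      (normal_subgroupOf_iff_le_normalizer hKH).mpr hKn
    have hQK' : Q ≤ K.subgroupOf (centralizer ({z} : Set G)) := by
      intro x hx
      rw [mem_subgroupOf]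
      exact hQK ⟨x, hx, rfl⟩
    have hmapn : ((K.subgroupOf (centralizer ({z} : Set G))).map (QuotientGroup.mk' Q)).Normal :=
      hnormal.map _ (QuotientGroup.mk'_surjective Q)
    rcases hsimp.eq_bot_or_eq_top_of_normal _ hmapn with h | h
    · left
      rw [Subgroup.map_eq_bot_iff, QuotientGroup.ker_mk'] at h
      apply le_antisymm _ hQK
      intro x hx
      exact ⟨⟨x, hKH hx⟩, h (by rw [mem_subgroupOf]; exact hx), rfl⟩
    · right
      have h' := congrArg (Subgroup.comap (QuotientGroup.mk' Q)) h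
      rw [comap_map_eq, QuotientGroup.ker_mk', sup_of_le_left hQK', comap_top] at h'
      exact le_antisymm hKH (subgroupOf_eq_top.mp h')
  · -- h10
    intro heq
    apply hwcl
    apply map_injective (centralizer ({z} : Set G)).subtype_injective
    rw [MonoidHom.map_closure, ← heq]
    congr 1
    ext x
    constructor
    · rintro ⟨y, hy, rfl⟩
      exact ⟨y.2, hy⟩
    · rintro ⟨hxH, hxc⟩
      exact ⟨⟨x, hxH⟩, hxc, rfl⟩

end Cfsg.Agent.S5436
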