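import Cfsg.Statements.S5437
import Mathlib

set_option autoImplicit false
open Cfsg

namespace Cfsg.Agent.S5437

lemma mem_conj_iff {G : Type*} [Group G] (H : Subgroup G) (g x : G) :
    x ∈ (H : Subgroup G).map (MulAut.conj g).toMonoidHom ↔ g⁻¹ * x * g ∈ H := by
  constructor
  · rintro ⟨h, hh, rfl⟩
    have : g⁻¹ * ((MulAut.conj g).toMonoidHom h) * g = h := by
      simp only [MulEquiv.toMonoidHom_eq_coe, MonoidHom.coe_coe, MulAut.conj_apply]
      group
    rw [this]; exact hh
  · intro h
    refine ⟨g⁻¹ * x * g, h, ?_⟩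
    simp [MulAut.conj_apply, mul_assoc]

lemma fix_iff {G : Type*} [Group G] (H : Subgroup G) (g x : G) :
    x • (QuotientGroup.mk g : G ⧸ H) = QuotientGroup.mk g ↔ g⁻¹ * x * g ∈ H := by
  rw [MulAction.Quotient.smul_mk, QuotientGroup.eq, smul_eq_mul]
  constructor
  · intro h
    have := H.inv_mem h
    simpa [mul_assoc] using this
  · intro h
    have := H.inv_mem h
    simpa [mul_assoc] using this

/-- Let I be a set of involutions of the finite group G closed under conjugation, and H a subgroup of G. The following are equivalent: (1) for every member x of I lying in H, the conjugates of x lying in H form a single H-class and the centralizer of x lies in H; (2) for every g outside H, no member of I lies in both H and g H g⁻¹; (3) every member of I lying in H fixes exactly one coset in the action of G on the cosets of H. -/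
theorem result {G : Type*} [Group G] [Finite G] (I : Set G) (hI : ∀ x ∈ I, orderOf x = 2) (hIc : ∀ g : G, ∀ x ∈ I, g * x * g⁻¹ ∈ I) (H : Subgroup G) : ((∀ x ∈ I, x ∈ H → (∀ g : G, g * x * g⁻¹ ∈ H → ∃ h ∈ H, h * x * h⁻¹ = g * x * g⁻¹) ∧ Subgroup.centralizer ({x} : Set G) ≤ H) ↔ (∀ g : G, g ∉ H → ∀ x ∈ I, ¬ (x ∈ H ∧ x ∈ (H : Subgroup G).map (MulAut.conj g).toMonoidHom))) ∧ ((∀ g : G, g ∉ H → ∀ x ∈ I, ¬ (x ∈ H ∧ x ∈ (H : Subgroup G).map (MulAut.conj g).toMonoidHom)) ↔ ∀ x ∈ I, x ∈ H → ∃! c : G ⧸ H, x • c = c) := by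
  simp only [mem_conj_iff]
  refine ⟨⟨?_, ?_⟩, ⟨?_, ?_⟩⟩
  · intro h1 g hg x hxI ⟨hxH, hgx⟩
    obtain ⟨hconj, hcent⟩ := h1 x hxI hxH
    obtain ⟨h, hh, hhx⟩ := hconj g⁻¹ (by simpa using hgx)
    apply hg
    have hgh : g * h ∈ Subgroup.centralizer ({x} : Set G) := by
      rw [Subgroup.mem_centralizer_singleton_iff]
      have e : h * x = g⁻¹ * x * g⁻¹⁻¹ * h := by
        rw [← hhx]; group
      calc g * h * x = g * (h * x) := by group
        _ = g * (g⁻¹ * x * g⁻¹⁻¹ * h) := by rw [e]
        _ = x * (g * h) := by group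
    have := hcent hgh
    have h2 : g = (g * h) * h⁻¹ := by group
    rw [h2]
    exact H.mul_mem this (H.inv_mem hh)
  · intro h2 x hxI hxH
    refine ⟨?_, ?_⟩
    · intro g hgx
      by_cases hg : g ∈ H
      · exact ⟨g, hg, rfl⟩
      · exfalso
        refine h2 g hg (g * x * g⁻¹) (hIc g x hxI) ⟨hgx, ?_⟩
        have : g⁻¹ * (g * x * g⁻¹) * g = x := by group
        rw [this]; exact hxH
    · intro c hc
      by_contra hcH
      refine h2 c hcH x hxI ⟨hxH, ?_⟩
      rw [Subgroup.mem_centralizer_singleton_iff] at hc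
      have : c⁻¹ * x * c = x := by
        calc c⁻¹ * x * c = c⁻¹ * (x * c) := by group
          _ = c⁻¹ * (c * x) := by rw [hc]
          _ = x := by group
      rw [this]; exact hxH
  · intro h2 x hxI hxH
    refine ⟨QuotientGroup.mk 1, ?_, ?_⟩
    · show x • (QuotientGroup.mk 1 : G ⧸ H) = QuotientGroup.mk 1
      rw [fix_iff]; simpa using hxH
    · intro c hc
      induction c using QuotientGroup.induction_on with
      | H g =>
        rw [fix_iff] at hc
        by_contra hne
        have hg : g ∉ H := by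
          intro hg
          apply hne
          rw [QuotientGroup.eq]
          simpa using H.inv_mem hg
        exact h2 g hg x hxI ⟨hxH, hc⟩
  · intro h3 g hg x hxI ⟨hxH, hgx⟩
    obtain ⟨c, -, huniq⟩ := h3 x hxI hxH
    have e1 : (QuotientGroup.mk 1 : G ⧸ H) = c := huniq _ (by show x • (QuotientGroup.mk 1 : G ⧸ H) = QuotientGroup.mk 1; rw [fix_iff]; simpa using hxH)
    have e2 : (QuotientGroup.mk g : G ⧸ H) = c := huniq _ (by show x • (QuotientGroup.mk g : G ⧸ H) = QuotientGroup.mk g; rw [fix_iff]; exact hgx)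
    have := e1.trans e2.symm
    rw [QuotientGroup.eq] at this
    apply hg
    simpa using this

end Cfsg.Agent.S5437
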