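import Cfsg.Statements.S5438
import Mathlib

set_option autoImplicit false
open Cfsg

namespace Cfsg.Agent.S5438

/-- a 2-power-order element can be conjugated into a given Sylow 2-subgroup -/
lemma conj_into_sylow {K : Type*} [Group K] [Finite K] (P : Sylow 2 K) (x : K)
    (hx : ∃ k : ℕ, orderOf x = 2 ^ k) : ∃ a : K, a * x * a⁻¹ ∈ P := by
  have : Fact (Nat.Prime 2) := ⟨Nat.prime_two⟩
  obtain ⟨k, hk⟩ := hx
  have hpg : IsPGroup 2 (Subgroup.zpowers x) := IsPGroup.of_card (n := k) (by rw [Nat.card_zpowers, hk])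
  obtain ⟨S, hS⟩ := hpg.exists_le_sylow
  obtain ⟨a, ha⟩ := MulAction.exists_smul_eq K S P
  refine ⟨a, ?_⟩
  have hxS : x ∈ (S : Subgroup K) := hS (Subgroup.mem_zpowers x)
  have : a * x * a⁻¹ ∈ ((a • S : Sylow 2 K) : Subgroup K) := by
    rw [Sylow.coe_subgroup_smul]
    exact ⟨x, hxS, by simp [MulAut.conj_apply]⟩
  rw [ha] at this
  exact this

/-- a 2-subgroup can be conjugated into a given Sylow 2-subgroup -/
lemma conj_sub_into_sylow {K : Type*} [Group K] [Finite K] (P : Sylow 2 K) (R : Subgroup K)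
    (hR : IsPGroup 2 R) : ∃ a : K, ∀ r ∈ R, a * r * a⁻¹ ∈ P := by
  have : Fact (Nat.Prime 2) := ⟨Nat.prime_two⟩
  obtain ⟨S, hS⟩ := hR.exists_le_sylow
  obtain ⟨a, ha⟩ := MulAction.exists_smul_eq K S P
  refine ⟨a, fun r hr => ?_⟩
  have hxS : r ∈ (S : Subgroup K) := hS hr
  have : a * r * a⁻¹ ∈ ((a • S : Sylow 2 K) : Subgroup K) := by
    rw [Sylow.coe_subgroup_smul]
    exact ⟨r, hxS, by simp [MulAut.conj_apply]⟩
  rw [ha] at this
  exact this

/-- Let z be a 2-central involution of the finite group G (an involution central in some Sylow 2-subgroup) and H a subgroup containing z such that the coset H is the only coset of H fixed by z (in the action of G on the cosets of H). Then H has odd index in G, and for every 2-element x of H the conjugates of x lying in H form a single H-class. -/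
theorem result {G : Type*} [Group G] [Finite G] (z : G) (hz : Cfsg.IsTwoCentralInvolution z) (H : Subgroup G) (hzH : z ∈ H) (hfix : ∀ g : G, g⁻¹ * z * g ∈ H → g ∈ H) : Odd H.index ∧ ∀ x ∈ H, (∃ k : ℕ, orderOf x = 2 ^ k) → ∀ g : G, g * x * g⁻¹ ∈ H → ∃ h ∈ H, h * x * h⁻¹ = g * x * g⁻¹ := by
  have hp2 : Fact (Nat.Prime 2) := ⟨Nat.prime_two⟩
  obtain ⟨hz2, P, hzP, hPz⟩ := hz
  -- centralizer of z is in H
  have hCz : ∀ c : G, c * z = z * c → c ∈ H := by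
    intro c hc
    apply hfix
    have : c⁻¹ * z * c = z := by
      calc c⁻¹ * z * c = c⁻¹ * (z * c) := by group
        _ = c⁻¹ * (c * z) := by rw [hc]
        _ = z := by group
    rw [this]; exact hzH
  have hPH : (P : Subgroup G) ≤ H := fun x hx => hCz x (hPz x hx)
  have hodd : Odd H.index := by
    have h1 : H.index ∣ (P : Subgroup G).index := Subgroup.index_dvd_of_le hPH
    have h2 : ¬ 2 ∣ (P : Subgroup G).index := P.not_dvd_index
    rw [← Nat.not_even_iff_odd, even_iff_two_dvd]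
    exact fun h => h2 (h.trans h1)
  refine ⟨hodd, ?_⟩
  -- Lemma A
  have hA : ∀ R : Subgroup G, IsPGroup 2 R → z ∈ R → R ≤ H := by
    intro R hR hzR
    obtain ⟨u, hu⟩ := conj_sub_into_sylow P R hR
    have huH : u⁻¹ ∈ H := by
      apply hfix
      rw [inv_inv]
      exact hPH (hu z hzR)
    have huH' : u ∈ H := by simpa using H.inv_mem huH
    intro r hr
    have h1 : u * r * u⁻¹ ∈ H := hPH (hu r hr)
    have h2 : r = u⁻¹ * (u * r * u⁻¹) * u := by group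
    rw [h2]
    exact H.mul_mem (H.mul_mem huH h1) huH'
  -- Lemma B
  have hB : ∀ x ∈ H, (∃ k : ℕ, orderOf x = 2 ^ k) → ∃ a ∈ H, a * x * a⁻¹ ∈ P := by
    intro x hxH hx
    obtain ⟨a, ha⟩ := conj_into_sylow (P.subtype hPH) ⟨x, hxH⟩ (by
      obtain ⟨k, hk⟩ := hx
      exact ⟨k, by rw [← hk, ← Subgroup.orderOf_coe]⟩)
    refine ⟨a, a.2, ?_⟩
    have h1 : a * ⟨x, hxH⟩ * a⁻¹ ∈ ((P.subtype hPH : Sylow 2 H) : Subgroup H) := ha
    rw [Sylow.coe_subtype, Subgroup.mem_subgroupOf] at h1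
    have h2 : (a : G) * x * (a : G)⁻¹ ∈ (P : Subgroup G) := by simpa using h1
    exact h2
  intro x hxH hx g hgx
  obtain ⟨a, haH, hax⟩ := hB x hxH hx
  have hy : ∃ k : ℕ, orderOf (g * x * g⁻¹) = 2 ^ k := by
    obtain ⟨k, hk⟩ := hx
    refine ⟨k, ?_⟩
    rw [← hk]
    have : g * x * g⁻¹ = MulAut.conj g x := by simp [MulAut.conj_apply]
    rw [this, MulEquiv.orderOf_eq]
  obtain ⟨b, hbH, hby⟩ := hB (g * x * g⁻¹) hgx hy
  set x₁ := a * x * a⁻¹ with hx₁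
  set y₁ := b * (g * x * g⁻¹) * b⁻¹ with hy₁
  set k := b * g * a⁻¹ with hk
  have hky : k * x₁ * k⁻¹ = y₁ := by
    rw [hk, hx₁, hy₁]; group
  have hzx₁ : x₁ * z = z * x₁ := hPz x₁ hax
  have hzy₁ : y₁ * z = z * y₁ := hPz y₁ hby
  set z₂ := k⁻¹ * z * k with hz₂
  have hz₂x₁ : x₁ * z₂ = z₂ * x₁ := by
    have e : x₁ = k⁻¹ * y₁ * k := by rw [← hky]; group
    rw [hz₂]
    calc x₁ * (k⁻¹ * z * k) = k⁻¹ * y₁ * k * (k⁻¹ * z * k) := by rw [← e]
      _ = k⁻¹ * (y₁ * z) * k := by group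
      _ = k⁻¹ * (z * y₁) * k := by rw [hzy₁]
      _ = (k⁻¹ * z * k) * (k⁻¹ * y₁ * k) := by group
      _ = (k⁻¹ * z * k) * x₁ := by rw [← e]
  -- work in the centralizer of x₁
  set C := Subgroup.centralizer ({x₁} : Set G) with hC
  have hzC : z ∈ C := by
    rw [hC, Subgroup.mem_centralizer_singleton_iff]; exact hzx₁.symm
  have hz₂C : z₂ ∈ C := by
    rw [hC, Subgroup.mem_centralizer_singleton_iff]; exact hz₂x₁.symm
  have hpgz : IsPGroup 2 (Subgroup.zpowers (⟨z, hzC⟩ : C)) :=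
    IsPGroup.of_card (n := 1) (by rw [Nat.card_zpowers, Subgroup.orderOf_mk, hz2]; rfl)
  obtain ⟨R₁, hR₁⟩ := hpgz.exists_le_sylow
  have hz₂ord : ∃ k : ℕ, orderOf (⟨z₂, hz₂C⟩ : C) = 2 ^ k := by
    refine ⟨1, ?_⟩
    rw [Subgroup.orderOf_mk, hz₂]
    have : k⁻¹ * z * k = MulAut.conj k⁻¹ z := by simp
    rw [this, MulEquiv.orderOf_eq, hz2]; rfl
  obtain ⟨c, hc⟩ := conj_into_sylow R₁ ⟨z₂, hz₂C⟩ hz₂ord
  have hR₁H : (R₁ : Subgroup C).map C.subtype ≤ H := by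
    apply hA
    · exact R₁.2.map C.subtype
    · exact ⟨⟨z, hzC⟩, hR₁ (Subgroup.mem_zpowers _), rfl⟩
  have hcz₂ : (c : G) * z₂ * (c : G)⁻¹ ∈ H := hR₁H ⟨_, hc, by simp⟩
  have hkc : k * (c : G)⁻¹ ∈ H := by
    apply hfix
    have : (k * (c : G)⁻¹)⁻¹ * z * (k * (c : G)⁻¹) = (c : G) * z₂ * (c : G)⁻¹ := by
      rw [hz₂]; group
    rw [this]; exact hcz₂
  have hcx₁ : (c : G) * x₁ = x₁ * (c : G) := by
    have h1 : (c : G) ∈ Subgroup.centralizer ({x₁} : Set G) := c.2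
    rw [Subgroup.mem_centralizer_singleton_iff] at h1
    exact h1
  refine ⟨b⁻¹ * (k * (c : G)⁻¹) * a, H.mul_mem (H.mul_mem (H.inv_mem hbH) hkc) haH, ?_⟩
  have e1 : (c : G)⁻¹ * x₁ * (c : G) = x₁ := by
    calc (c : G)⁻¹ * x₁ * (c : G) = (c : G)⁻¹ * (x₁ * (c : G)) := by group
      _ = (c : G)⁻¹ * ((c : G) * x₁) := by rw [hcx₁]
      _ = x₁ := by group
  calc b⁻¹ * (k * (c : G)⁻¹) * a * x * (b⁻¹ * (k * (c : G)⁻¹) * a)⁻¹
      = b⁻¹ * (k * ((c : G)⁻¹ * (a * x * a⁻¹) * (c : G)) * k⁻¹) * b := by group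
    _ = b⁻¹ * (k * x₁ * k⁻¹) * b := by rw [← hx₁, e1]
    _ = b⁻¹ * y₁ * b := by rw [hky]
    _ = g * x * g⁻¹ := by rw [hy₁]; group

end Cfsg.Agent.S5438
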