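import Cfsg.Statements.S5439
import Mathlib

set_option autoImplicit false
open Cfsg

namespace Cfsg.Agent.S5439

lemma inv_pow_comm {G : Type*} [Group G] (a t : G) (h : a * t * a⁻¹ = t⁻¹) (n : ℕ) :
    a * t ^ n = (t ^ n)⁻¹ * a := by
  have : a * t ^ n * a⁻¹ = (t ^ n)⁻¹ := by
    rw [← conj_pow, h, inv_pow]
  rw [← this]; group

lemma inv_comm' {G : Type*} [Group G] (a s : G) (h : a * s = s⁻¹ * a) : a * s⁻¹ = s * a := by
  calc a * s⁻¹ = s * (s⁻¹ * a) * s⁻¹ := by group
    _ = s * (a * s) * s⁻¹ := by rw [h]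
    _ = s * a := by group

lemma dihedral_aux {G : Type*} [Group G] [Finite G] (a b : G) (ha : a ^ 2 = 1) (hb : b ^ 2 = 1)
    (hab : ¬ IsConj a b) :
    ∃ u : G, u ≠ 1 ∧ u * a = a * u ∧ u * b = b * u ∧ (IsConj a (u * a) ∨ IsConj b (u * a)) := by
  have ha' : a⁻¹ = a := by
    rw [inv_eq_iff_mul_eq_one, ← pow_two]; exact ha
  have hb' : b⁻¹ = b := by
    rw [inv_eq_iff_mul_eq_one, ← pow_two]; exact hb
  set t := a * b with ht
  have hat : a * t * a⁻¹ = t⁻¹ := by
    rw [ht, mul_inv_rev, ha', hb', ← mul_assoc, ← pow_two, ha, one_mul]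
  have hbt : b * t * b⁻¹ = t⁻¹ := by
    rw [ht, mul_inv_rev, ha', hb', mul_assoc, mul_assoc, ← pow_two, hb, mul_one]
  have hn : 0 < orderOf t := orderOf_pos t
  rcases Nat.even_or_odd' (orderOf t) with ⟨m, hm | hm⟩
  · -- even order
    have hm0 : 0 < m := by omega
    have hu2 : (t ^ m) ^ 2 = 1 := by
      rw [← pow_mul, mul_comm, ← hm, pow_orderOf_eq_one]
    have hu' : (t ^ m)⁻¹ = t ^ m := by
      rw [inv_eq_iff_mul_eq_one, ← pow_two]; exact hu2
    have hau := inv_pow_comm a t hat m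
    have hbu := inv_pow_comm b t hbt m
    rw [hu'] at hau hbu
    refine ⟨t ^ m, ?_, hau.symm, hbu.symm, ?_⟩
    · exact pow_ne_one_of_lt_orderOf hm0.ne' (by omega)
    · rcases Nat.even_or_odd' m with ⟨j, hj | hj⟩
      · left
        rw [isConj_iff]
        refine ⟨t ^ j, ?_⟩
        have h1 := inv_comm' a (t ^ j) (inv_pow_comm a t hat j)
        calc t ^ j * a * (t ^ j)⁻¹ = t ^ j * (a * (t ^ j)⁻¹) := by group
          _ = t ^ j * (t ^ j * a) := by rw [h1]
          _ = t ^ m * a := by rw [hj, two_mul, pow_add, mul_assoc]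
      · right
        rw [isConj_iff]
        refine ⟨t ^ j * a, ?_⟩
        have h1 := inv_comm' a (t ^ j) (inv_pow_comm a t hat j)
        calc t ^ j * a * b * (t ^ j * a)⁻¹ = t ^ j * (a * b) * a⁻¹ * (t ^ j)⁻¹ := by group
          _ = t ^ j * t * (a * (t ^ j)⁻¹) := by rw [← ht, ha']; group
          _ = t ^ j * t * (t ^ j * a) := by rw [h1]
          _ = t ^ m * a := by
            rw [hj, pow_succ, two_mul, pow_add]
            have : Commute (t ^ j) t := (Commute.refl t).pow_left j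
            have e : t ^ j * t = t * t ^ j := this.eq
            rw [mul_assoc (t^j) t, ← mul_assoc t, ← e]
            group
  · exfalso
    apply hab
    rw [isConj_iff]
    refine ⟨a * (t ^ m)⁻¹, ?_⟩
    have h1 := inv_pow_comm a t hat m
    have h2 : (t ^ m)⁻¹ * (t ^ m)⁻¹ = t := by
      have : t ^ (2 * m + 1) = 1 := by rw [← hm, pow_orderOf_eq_one]
      rw [pow_succ, two_mul, pow_add] at this
      calc (t ^ m)⁻¹ * (t ^ m)⁻¹ = (t ^ m)⁻¹ * (t ^ m)⁻¹ * (t ^ m * t ^ m * t) := by rw [this, mul_one]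
        _ = t := by group
    calc a * (t ^ m)⁻¹ * a * (a * (t ^ m)⁻¹)⁻¹ = a * (t ^ m)⁻¹ * (a * t ^ m) * a⁻¹ := by group
      _ = a * (t ^ m)⁻¹ * ((t ^ m)⁻¹ * a) * a⁻¹ := by rw [h1]
      _ = a * ((t ^ m)⁻¹ * (t ^ m)⁻¹) := by group
      _ = a * t := by rw [h2]
      _ = b := by rw [ht, ← mul_assoc, ← pow_two, ha, one_mul]

lemma fix_iff {G : Type*} [Group G] (H : Subgroup G) (g x : G) :
    x • (QuotientGroup.mk g : G ⧸ H) = QuotientGroup.mk g ↔ g⁻¹ * x * g ∈ H := by
  rw [MulAction.Quotient.smul_mk, QuotientGroup.eq, smul_eq_mul]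
  constructor
  · intro h
    have := H.inv_mem h
    simpa [mul_assoc] using this
  · intro h
    have := H.inv_mem h
    simpa [mul_assoc] using this

/-- Let I and J be two different conjugacy classes of involutions of the finite group G and H a subgroup such that every member of I ∪ J fixes exactly one coset in the action on the cosets of H, and such that for every a in I ∩ H and every b in (I ∪ J) ∩ H different from a and commuting with it, the centralizer of a b lies in H. Then H = G. -/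
theorem result {G : Type*} [Group G] [Finite G] (I J : Set G) (a₀ b₀ : G) (ha₀ : orderOf a₀ = 2) (hb₀ : orderOf b₀ = 2) (hI : I = {x | IsConj a₀ x}) (hJ : J = {x | IsConj b₀ x}) (hIJ : I ≠ J) (H : Subgroup G) (hfix : ∀ x ∈ I ∪ J, ∃! c : G ⧸ H, x • c = c) (hcent : ∀ a ∈ I, a ∈ H → ∀ b ∈ I ∪ J, b ∈ H → a ≠ b → a * b = b * a → Subgroup.centralizer ({a * b} : Set G) ≤ H) : H = ⊤ := by
  have hab₀ : ¬ IsConj a₀ b₀ := by
    intro h
    apply hIJ
    rw [hI, hJ]
    ext x
    show IsConj a₀ x ↔ IsConj b₀ x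
    exact ⟨fun hx => h.symm.trans hx, fun hx => h.trans hx⟩
  have hImem : ∀ x, x ∈ I ↔ IsConj a₀ x := by intro x; rw [hI]; rfl
  have hJmem : ∀ x, x ∈ J ↔ IsConj b₀ x := by intro x; rw [hJ]; rfl
  have hIconj : ∀ x ∈ I, ∀ k : G, k * x * k⁻¹ ∈ I := by
    intro x hx k
    rw [hImem] at hx ⊢
    exact hx.trans (isConj_iff.mpr ⟨k, rfl⟩)
  have hJconj : ∀ x ∈ J, ∀ k : G, k * x * k⁻¹ ∈ J := by
    intro x hx k
    rw [hJmem] at hx ⊢
    exact hx.trans (isConj_iff.mpr ⟨k, rfl⟩)
  have hIJconj : ∀ x ∈ I ∪ J, ∀ k : G, k * x * k⁻¹ ∈ I ∪ J := by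
    rintro x (hx | hx) k
    · exact Or.inl (hIconj x hx k)
    · exact Or.inr (hJconj x hx k)
  have ha₀2 : a₀ ^ 2 = 1 := by rw [← ha₀, pow_orderOf_eq_one]
  have hb₀2 : b₀ ^ 2 = 1 := by rw [← hb₀, pow_orderOf_eq_one]
  have hI2 : ∀ a ∈ I, a ^ 2 = 1 := by
    intro a ha
    rw [hImem, isConj_iff] at ha
    obtain ⟨c, rfl⟩ := ha
    rw [conj_pow, ha₀2]; group
  have hJ2 : ∀ b ∈ J, b ^ 2 = 1 := by
    intro b hb
    rw [hJmem, isConj_iff] at hb
    obtain ⟨c, rfl⟩ := hb
    rw [conj_pow, hb₀2]; group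
  -- key claim
  have key : ∀ a ∈ I, ∀ b ∈ J, ∀ c : G ⧸ H, a • c = c → b • c = c := by
    intro a ha b hb c hac
    have hnc : ¬ IsConj a b := by
      intro h
      apply hab₀
      exact (((hImem a).mp ha).trans h).trans ((hJmem b).mp hb).symm
    obtain ⟨u, hu1, hua, hub, hconj⟩ := dihedral_aux a b (hI2 a ha) (hJ2 b hb) hnc
    have ha'IJ : u * a ∈ I ∪ J := by
      rcases hconj with h | h
      · left; rw [hImem]; exact ((hImem a).mp ha).trans h
      · right; rw [hJmem]; exact ((hJmem b).mp hb).trans h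
    have hcomm : a * (u * a) = (u * a) * a := by
      rw [← mul_assoc, ← hua]
    have haa' : a * (u * a) = u := by
      rw [← mul_assoc, ← hua, mul_assoc, ← pow_two, hI2 a ha, mul_one]
    have hne : a ≠ u * a := by
      intro h
      apply hu1
      have : u * a = 1 * a := by rw [one_mul]; exact h.symm
      exact mul_right_cancel this
    -- a' fixes c
    have ha'c : (u * a) • c = c := by
      obtain ⟨c', -, huniq⟩ := hfix a (Or.inl ha)
      have h1 : a • ((u * a) • c) = (u * a) • c := by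
        rw [smul_smul, hcomm, ← smul_smul, hac]
      rw [huniq _ h1, huniq _ hac]
    induction c using QuotientGroup.induction_on with
    | H g =>
      rw [fix_iff] at hac ha'c ⊢
      have hI' : g⁻¹ * a * g ∈ I := by
        have := hIconj a ha g⁻¹
        rwa [inv_inv] at this
      have hIJ' : g⁻¹ * (u * a) * g ∈ I ∪ J := by
        have := hIJconj (u * a) ha'IJ g⁻¹
        rwa [inv_inv] at this
      have hne' : g⁻¹ * a * g ≠ g⁻¹ * (u * a) * g := by
        intro h
        apply hne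
        have h2 : g * (g⁻¹ * a * g) * g⁻¹ = g * (g⁻¹ * (u * a) * g) * g⁻¹ := by rw [h]
        have e1 : g * (g⁻¹ * a * g) * g⁻¹ = a := by group
        have e2 : g * (g⁻¹ * (u * a) * g) * g⁻¹ = u * a := by group
        rw [e1, e2] at h2
        exact h2
      have hcomm' : g⁻¹ * a * g * (g⁻¹ * (u * a) * g) = g⁻¹ * (u * a) * g * (g⁻¹ * a * g) := by
        calc g⁻¹ * a * g * (g⁻¹ * (u * a) * g) = g⁻¹ * (a * (u * a)) * g := by group
          _ = g⁻¹ * ((u * a) * a) * g := by rw [hcomm]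
          _ = g⁻¹ * (u * a) * g * (g⁻¹ * a * g) := by group
      have hle := hcent _ hI' hac _ hIJ' ha'c hne' hcomm'
      apply hle
      rw [Subgroup.mem_centralizer_singleton_iff]
      have e : g⁻¹ * a * g * (g⁻¹ * (u * a) * g) = g⁻¹ * u * g := by
        calc g⁻¹ * a * g * (g⁻¹ * (u * a) * g) = g⁻¹ * (a * (u * a)) * g := by group
          _ = g⁻¹ * u * g := by rw [haa']
      rw [e]
      calc g⁻¹ * b * g * (g⁻¹ * u * g) = g⁻¹ * (b * u) * g := by group
        _ = g⁻¹ * (u * b) * g := by rw [hub]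
        _ = g⁻¹ * u * g * (g⁻¹ * b * g) := by group
  have ha₀I : a₀ ∈ I := by rw [hImem]
  have hb₀J : b₀ ∈ J := by rw [hJmem]
  obtain ⟨c₀, hb₀c₀, huniqb⟩ := hfix b₀ (Or.inr hb₀J)
  have hIc₀ : ∀ a ∈ I, a • c₀ = c₀ := by
    intro a ha
    obtain ⟨ca, hca, -⟩ := hfix a (Or.inl ha)
    have := key a ha b₀ hb₀J ca hca
    rw [← huniqb ca this]
    exact hca
  have hall : ∀ g : G, g • c₀ = c₀ := by
    intro g
    obtain ⟨c', -, huniq⟩ := hfix a₀ (Or.inl ha₀I)
    have h1 : a₀ • c₀ = c₀ := hIc₀ a₀ ha₀I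
    have h2 : a₀ • (g • c₀) = g • c₀ := by
      have h3 := hIc₀ (g⁻¹ * a₀ * g) (by have := hIconj a₀ ha₀I g⁻¹; rwa [inv_inv] at this)
      calc a₀ • (g • c₀) = (g * (g⁻¹ * a₀ * g)) • c₀ := by rw [smul_smul]; congr 1; group
        _ = g • c₀ := by rw [← smul_smul, h3]
    rw [huniq _ h2, huniq _ h1]
  rw [eq_top_iff]
  intro x _
  induction c₀ using QuotientGroup.induction_on with
  | H k =>
    have h1 := hall k⁻¹
    have h2 := hall (x * k⁻¹)
    rw [MulAction.Quotient.smul_mk, smul_eq_mul] at h1 h2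
    have h3 : ((x : G) : G ⧸ H) = ((1 : G) : G ⧸ H) := by
      have e1 : x * k⁻¹ * k = x := by group
      have e2 : k⁻¹ * k = 1 := by group
      rw [e1] at h2
      rw [e2] at h1
      rw [h2, h1]
    rw [QuotientGroup.eq] at h3
    have := H.inv_mem h3
    simpa using this

end Cfsg.Agent.S5439
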