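import Cfsg.Statements.S5459
import Mathlib

set_option autoImplicit false
open Cfsg
open scoped commutatorElement

namespace Cfsg.Agent.S5459

/-- the conjugation map on a conjugacy class, as a graph hom of the commuting graph -/
def cj {G : Type*} [Group G] (d g : G) : (Cfsg.commutingGraph (conjugatesOf d)) →g (Cfsg.commutingGraph (conjugatesOf d)) where
  toFun x := ⟨g * x.1 * g⁻¹, by
    have hx : IsConj d x.1 := x.2
    exact hx.trans (isConj_iff.mpr ⟨g, rfl⟩)⟩
  map_rel' := by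
    intro a b hab
    rw [Cfsg.commutingGraph, SimpleGraph.fromRel_adj] at hab ⊢
    obtain ⟨hne, hc⟩ := hab
    refine ⟨?_, ?_⟩
    · intro h
      apply hne
      have h1 : g * a.1 * g⁻¹ = g * b.1 * g⁻¹ := congrArg Subtype.val h
      apply Subtype.ext
      have h2 : g⁻¹ * (g * a.1 * g⁻¹) * g = g⁻¹ * (g * b.1 * g⁻¹) * g := by rw [h1]
      simpa [mul_assoc] using h2
    · have key : ∀ x y : G, Commute x y → Commute (g * x * g⁻¹) (g * y * g⁻¹) := by
        intro x y hxy
        show g * x * g⁻¹ * (g * y * g⁻¹) = g * y * g⁻¹ * (g * x * g⁻¹)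
        calc g * x * g⁻¹ * (g * y * g⁻¹) = g * (x * y) * g⁻¹ := by group
          _ = g * (y * x) * g⁻¹ := by rw [hxy.eq]
          _ = g * y * g⁻¹ * (g * x * g⁻¹) := by group
      rcases hc with hc | hc
      · exact Or.inl (key _ _ hc)
      · exact Or.inr (key _ _ hc)

lemma cj_val {G : Type*} [Group G] (d g : G) (x : conjugatesOf d) : ((cj d g) x).1 = g * x.1 * g⁻¹ := rfl

lemma comm_aux {G : Type*} [Group G] (z l s : G) (hz : z * (l * s * l⁻¹) = (l * s * l⁻¹) * z) :
    ⁅z * l, s⁆ = ⁅l, s⁆ := by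
  rw [commutatorElement_def, commutatorElement_def]
  calc z * l * s * (z * l)⁻¹ * s⁻¹ = z * (l * s * l⁻¹) * z⁻¹ * s⁻¹ := by group
    _ = (l * s * l⁻¹) * z * z⁻¹ * s⁻¹ := by rw [hz]
    _ = l * s * l⁻¹ * s⁻¹ := by group

/-- Let G be a finite group with a quasisimple normal subgroup L and an involution d such that G is generated by L and d, the centre of L has odd order, and d inverts every element of the centre of L. If the commuting graph on the conjugacy class of the image of d in G modulo the centre of L is connected, then the commuting graph on the conjugacy class of d is connected. -/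
theorem result {G : Type*} [Group G] [Finite G] (L : Subgroup G) [L.Normal] (hL : Cfsg.IsQuasisimple ↥L) (d : G) (hd : orderOf d = 2) (hgen : L ⊔ Subgroup.zpowers d = ⊤) (hodd : Odd (Nat.card ↥(Subgroup.center ↥L))) (hinv : ∀ c ∈ (Subgroup.center ↥L).map L.subtype, d * c * d⁻¹ = c⁻¹) [hn : ((Subgroup.center ↥L).map L.subtype).Normal] (hconn : (Cfsg.commutingGraph (conjugatesOf (QuotientGroup.mk d : G ⧸ (Subgroup.center ↥L).map L.subtype))).Connected) : (Cfsg.commutingGraph (conjugatesOf d)).Connected := by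
  set Z : Subgroup G := (Subgroup.center ↥L).map L.subtype with hZ
  have hZL : Z ≤ L := by
    rintro _ ⟨c, -, rfl⟩
    exact c.2
  have hZcomm : ∀ z ∈ Z, ∀ l ∈ L, z * l = l * z := by
    rintro _ ⟨c, hc, rfl⟩ l hl
    have := Subgroup.mem_center_iff.mp hc ⟨l, hl⟩
    have h2 := congrArg Subtype.val this
    simpa using h2.symm
  have hZcard : Odd (Nat.card Z) := by
    rw [hZ, Subgroup.card_map_of_injective L.subtype_injective]
    exact hodd
  -- every element of Z is a square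
  have hsq : ∀ c ∈ Z, ∃ w ∈ Z, w * w = c := by
    intro c hc
    obtain ⟨k, hk⟩ := hZcard
    refine ⟨c ^ (k + 1), Z.pow_mem hc _, ?_⟩
    have h1 : c ^ (Nat.card Z) = 1 := by
      have h2 := congrArg Subtype.val (pow_card_eq_one' (G := Z) (x := ⟨c, hc⟩))
      rw [Subgroup.coe_pow] at h2
      exact h2
    rw [← pow_add]
    have : k + 1 + (k + 1) = Nat.card Z + 1 := by omega
    rw [this, pow_add, h1, one_mul, pow_one]
  have hd2 : d * d = 1 := by
    rw [← pow_two, ← hd, pow_orderOf_eq_one]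
  -- properties of the class of d
  have hD2 : ∀ x ∈ conjugatesOf d, x * x = 1 := by
    intro x hx
    obtain ⟨g, rfl⟩ := isConj_iff.mp (show IsConj d x from hx)
    calc g * d * g⁻¹ * (g * d * g⁻¹) = g * (d * d) * g⁻¹ := by group
      _ = 1 := by rw [hd2]; group
  have hDinv : ∀ x ∈ conjugatesOf d, ∀ c ∈ Z, x * c * x⁻¹ = c⁻¹ := by
    intro x hx c hc
    obtain ⟨g, rfl⟩ := isConj_iff.mp (show IsConj d x from hx)
    have hc' : g⁻¹ * c * g ∈ Z := by
      have := hn.conj_mem c hc g⁻¹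
      simpa using this
    have := hinv _ hc'
    calc g * d * g⁻¹ * c * (g * d * g⁻¹)⁻¹ = g * (d * (g⁻¹ * c * g) * d⁻¹) * g⁻¹ := by group
      _ = g * (g⁻¹ * c * g)⁻¹ * g⁻¹ := by rw [this]
      _ = c⁻¹ := by group
  have hDconj : ∀ x ∈ conjugatesOf d, ∀ g : G, g * x * g⁻¹ ∈ conjugatesOf d := by
    intro x hx g
    exact (show IsConj d x from hx).trans (isConj_iff.mpr ⟨g, rfl⟩)
  -- Claim A
  have hA : ∀ x ∈ conjugatesOf d, ∀ c ∈ Z, ∃ w ∈ Z, w * x * w⁻¹ = x * c := by
    intro x hx c hc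
    obtain ⟨w, hw, hww⟩ := hsq c⁻¹ (Z.inv_mem hc)
    refine ⟨w, hw, ?_⟩
    have h1 : x * w * x⁻¹ = w⁻¹ := hDinv x hx w hw
    have hx' : x⁻¹ = x := by
      rw [inv_eq_iff_mul_eq_one]; exact hD2 x hx
    have h1' : x * w⁻¹ * x⁻¹ = w⁻¹⁻¹ := hDinv x hx w⁻¹ (Z.inv_mem hw)
    have h2 : w * x = x * w⁻¹ := by
      calc w * x = w⁻¹⁻¹ * x := by rw [inv_inv]
        _ = x * w⁻¹ * x⁻¹ * x := by rw [h1']
        _ = x * w⁻¹ := by group
    calc w * x * w⁻¹ = x * w⁻¹ * w⁻¹ := by rw [h2]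
      _ = x * (w * w)⁻¹ := by group
      _ = x * c := by rw [hww, inv_inv]
  have hAmem : ∀ x ∈ conjugatesOf d, ∀ c ∈ Z, x * c ∈ conjugatesOf d := by
    intro x hx c hc
    obtain ⟨w, -, hw⟩ := hA x hx c hc
    rw [← hw]
    exact hDconj x hx w
  -- Claim B
  have hB : ∀ x ∈ conjugatesOf d, ∀ y ∈ conjugatesOf d,
      Commute (QuotientGroup.mk x : G ⧸ Z) (QuotientGroup.mk y) → ∃ c ∈ Z, Commute x (y * c) := by
    intro x hx y hy hxy
    have h1 : y⁻¹ * (x * y * x⁻¹) ∈ Z := by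
      rw [← QuotientGroup.eq]
      have := hxy.eq
      simp only [← QuotientGroup.mk_mul] at this
      rw [QuotientGroup.mk_mul, QuotientGroup.mk_mul, QuotientGroup.mk_inv]
      rw [QuotientGroup.mk_mul] at this
      rw [this]
      simp
    obtain ⟨c, hc, hcc⟩ := hsq _ h1
    refine ⟨c, hc, ?_⟩
    have h2 : x * c * x⁻¹ = c⁻¹ := hDinv x hx c hc
    show x * (y * c) = y * c * x
    have h3 : x * (y * c) * x⁻¹ = y * c := by
      calc x * (y * c) * x⁻¹ = y * (y⁻¹ * (x * y * x⁻¹)) * (x * c * x⁻¹) := by group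
        _ = y * (c * c) * c⁻¹ := by rw [← hcc, h2]
        _ = y * c := by group
    calc x * (y * c) = x * (y * c) * x⁻¹ * x := by group
      _ = y * c * x := by rw [h3]
  -- graphs
  set Γ := Cfsg.commutingGraph (conjugatesOf d) with hΓ
  set Γ' := Cfsg.commutingGraph (conjugatesOf (QuotientGroup.mk d : G ⧸ Z)) with hΓ'
  let d₀ : conjugatesOf d := ⟨d, mem_conjugatesOf_self⟩
  -- path lifting
  have lift : ∀ (u v : conjugatesOf (QuotientGroup.mk d : G ⧸ Z)) (p : Γ'.Walk u v)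
      (x : conjugatesOf d), (QuotientGroup.mk x.1 : G ⧸ Z) = u.1 →
      ∃ y : conjugatesOf d, (QuotientGroup.mk y.1 : G ⧸ Z) = v.1 ∧ Γ.Reachable x y := by
    intro u v p
    induction p with
    | nil => intro x hx; exact ⟨x, hx, SimpleGraph.Reachable.refl _⟩
    | @cons u w v h p ih =>
      intro x hx
      rw [hΓ', Cfsg.commutingGraph, SimpleGraph.fromRel_adj] at h
      obtain ⟨hne, hc⟩ := h
      have hc' : Commute u.1 w.1 := by
        rcases hc with hc | hc
        · exact hc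
        · exact hc.symm
      obtain ⟨gbar, hg⟩ := isConj_iff.mp (show IsConj _ w.1 from w.2)
      obtain ⟨g, rfl⟩ := QuotientGroup.mk_surjective gbar
      have hy₀ : g * d * g⁻¹ ∈ conjugatesOf d := hDconj d mem_conjugatesOf_self g
      have hy₀w : (QuotientGroup.mk (g * d * g⁻¹) : G ⧸ Z) = w.1 := by
        rw [← hg]; simp
      obtain ⟨c, hc, hcomm⟩ := hB x.1 x.2 _ hy₀ (by rw [hx, hy₀w]; exact hc')
      let y' : conjugatesOf d := ⟨g * d * g⁻¹ * c, hAmem _ hy₀ c hc⟩
      have hy'w : (QuotientGroup.mk y'.1 : G ⧸ Z) = w.1 := by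
        rw [← hy₀w]
        show (QuotientGroup.mk (g * d * g⁻¹ * c) : G ⧸ Z) = _
        rw [QuotientGroup.mk_mul, (QuotientGroup.eq_one_iff c).mpr hc, mul_one]
      obtain ⟨y, hyv, hreach⟩ := ih y' hy'w
      refine ⟨y, hyv, SimpleGraph.Reachable.trans ?_ hreach⟩
      apply SimpleGraph.Adj.reachable
      rw [hΓ, Cfsg.commutingGraph, SimpleGraph.fromRel_adj]
      refine ⟨?_, Or.inl hcomm⟩
      intro hxy
      apply hne
      apply Subtype.ext
      rw [← hx, ← hy'w, hxy]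
  -- the stabilizer of the component of d
  let S : Subgroup G :=
    { carrier := {g | Γ.Reachable d₀ (cj d g d₀)}
      one_mem' := by
        show Γ.Reachable d₀ (cj d 1 d₀)
        have : cj d 1 d₀ = d₀ := by
          apply Subtype.ext; rw [cj_val]; simp
        rw [this]
      mul_mem' := by
        intro a b ha hb
        show Γ.Reachable d₀ (cj d (a * b) d₀)
        have h1 : Γ.Reachable (cj d a d₀) (cj d a (cj d b d₀)) := SimpleGraph.Reachable.map (cj d a) hb
        have h2 : cj d a (cj d b d₀) = cj d (a * b) d₀ := by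
          apply Subtype.ext; simp only [cj_val]; group
        rw [h2] at h1
        exact SimpleGraph.Reachable.trans ha h1
      inv_mem' := by
        intro a ha
        show Γ.Reachable d₀ (cj d a⁻¹ d₀)
        have h1 : Γ.Reachable (cj d a⁻¹ d₀) (cj d a⁻¹ (cj d a d₀)) := SimpleGraph.Reachable.map (cj d a⁻¹) ha
        have h2 : cj d a⁻¹ (cj d a d₀) = d₀ := by
          apply Subtype.ext; simp only [cj_val]; group
        rw [h2] at h1
        exact h1.symm }
  have hSmem : ∀ g, g ∈ S ↔ Γ.Reachable d₀ (cj d g d₀) := fun g => Iff.rfl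
  -- (i)
  have h_i : ∀ g : G, ∃ w ∈ Z, w * g ∈ S := by
    intro g
    let u : conjugatesOf (QuotientGroup.mk d : G ⧸ Z) := ⟨QuotientGroup.mk d, mem_conjugatesOf_self⟩
    let v : conjugatesOf (QuotientGroup.mk d : G ⧸ Z) := ⟨QuotientGroup.mk (g * d * g⁻¹), by
      show IsConj _ _
      rw [isConj_iff]
      exact ⟨QuotientGroup.mk g, by simp⟩⟩
    obtain ⟨p⟩ := hconn.preconnected u v
    obtain ⟨y, hyv, hreach⟩ := lift u v p d₀ rfl
    have h1 : (g * d * g⁻¹)⁻¹ * y.1 ∈ Z := by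
      rw [← QuotientGroup.eq]; exact hyv.symm
    obtain ⟨w, hw, hwy⟩ := hA (g * d * g⁻¹) (hDconj d mem_conjugatesOf_self g) _ h1
    refine ⟨w, hw, ?_⟩
    rw [hSmem]
    have : cj d (w * g) d₀ = y := by
      apply Subtype.ext
      rw [cj_val]
      show w * g * d * (w * g)⁻¹ = y.1
      calc w * g * d * (w * g)⁻¹ = w * (g * d * g⁻¹) * w⁻¹ := by group
        _ = g * d * g⁻¹ * ((g * d * g⁻¹)⁻¹ * y.1) := hwy
        _ = y.1 := by group
    rw [this]
    exact hreach
  -- (ii) L ≤ S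
  have hLS : L ≤ S := by
    have hperf : ⁅L, L⁆ = L := Subgroup.isPerfect_iff.mp hL.1
    rw [← hperf, Subgroup.commutator_le]
    intro l₁ hl₁ l₂ hl₂
    obtain ⟨z₁, hz₁, hs₁⟩ := h_i l₁
    obtain ⟨z₂, hz₂, hs₂⟩ := h_i l₂
    have e1 : ⁅z₁ * l₁, z₂ * l₂⁆ = ⁅l₁, z₂ * l₂⁆ := by
      apply comm_aux
      apply hZcomm z₁ hz₁
      exact L.mul_mem (L.mul_mem hl₁ (L.mul_mem (hZL hz₂) hl₂)) (L.inv_mem hl₁)
    have e2 : ⁅z₂ * l₂, l₁⁆ = ⁅l₂, l₁⁆ := by
      apply comm_aux
      apply hZcomm z₂ hz₂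
      exact L.mul_mem (L.mul_mem hl₂ hl₁) (L.inv_mem hl₂)
    have e3 : ⁅l₁, z₂ * l₂⁆ = ⁅l₁, l₂⁆ := by
      rw [← commutatorElement_inv, e2, commutatorElement_inv]
    rw [← e3, ← e1, commutatorElement_def]
    exact S.mul_mem (S.mul_mem (S.mul_mem hs₁ hs₂) (S.inv_mem hs₁)) (S.inv_mem hs₂)
  have hZS : Z ≤ S := hZL.trans hLS
  have hStop : ∀ g : G, g ∈ S := by
    intro g
    obtain ⟨w, hw, hwg⟩ := h_i g
    have : g = w⁻¹ * (w * g) := by group
    rw [this]
    exact S.mul_mem (S.inv_mem (hZS hw)) hwg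
  rw [SimpleGraph.connected_iff_exists_forall_reachable]
  refine ⟨d₀, fun x => ?_⟩
  obtain ⟨g, hg⟩ := isConj_iff.mp (show IsConj d x.1 from x.2)
  have h1 := (hSmem g).mp (hStop g)
  have h2 : cj d g d₀ = x := by
    apply Subtype.ext
    rw [cj_val]
    exact hg
  rw [h2] at h1
  exact h1

end Cfsg.Agent.S5459
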