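import Cfsg.Statements.S5515
import Cfsg.Agent.S2608
import Cfsg.Agent.S1265
import Cfsg.Agent.S0817
import Cfsg.Agent.Lib.Helper43.Ext.Main

set_option autoImplicit false
open Cfsg

namespace Cfsg.Agent.S5515

theorem index_six {G : Type*} [Group G] (N : Subgroup G) [N.Normal]
    (hq : Nonempty (G ⧸ N ≃* Equiv.Perm (Fin 3))) : N.index = 6 := by
  obtain ⟨ε⟩ := hq
  rw [Subgroup.index_eq_card, Nat.card_congr ε.toEquiv, Nat.card_eq_fintype_card, Fintype.card_perm,
    Fintype.card_fin]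
  rfl

/-- `Out(PΩ⁺₈(3)) ≅ S₄` -/
theorem out_equiv_perm4 :
    Nonempty (Cfsg.Out (Cfsg.POmega (ZMod 3) (Cfsg.quadFormPlus 4 (ZMod 3))) ≃* Equiv.Perm (Fin 4)) := by
  haveI : Fact (Nat.Prime 3) := ⟨Nat.prime_three⟩
  have h := Cfsg.Agent.S2608.result (F := ZMod 3) (p := 3) (f := 1) (m := 4) le_rfl
    (by rw [ZMod.card, pow_one]) (by norm_num) le_rfl
  rw [if_pos rfl] at h
  obtain ⟨ε⟩ := h
  haveI : Unique (Multiplicative (ZMod 1)) := inferInstanceAs (Unique (Fin 1))
  exact ⟨ε.trans MulEquiv.prodUnique⟩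

/-- Let G and G′ be finite groups whose generalized Fitting subgroups are isomorphic to PΩ⁺(8, 3) (the commutator subgroup of the isometry group of the hyperbolic quadratic form in dimension 8 over the field with three elements, modulo its centre) with quotients isomorphic to the symmetric group of degree 3. Then G and G′ are isomorphic. -/
theorem result {G G' : Type*} [Group G] [Finite G] [Group G'] [Finite G'] (hF : Nonempty (↥(Cfsg.generalizedFittingSubgroup G) ≃* Cfsg.POmega (ZMod 3) (Cfsg.quadFormPlus 4 (ZMod 3)))) (hF' : Nonempty (↥(Cfsg.generalizedFittingSubgroup G') ≃* Cfsg.POmega (ZMod 3) (Cfsg.quadFormPlus 4 (ZMod 3)))) [hn : (Cfsg.generalizedFittingSubgroup G).Normal] [hn' : (Cfsg.generalizedFittingSubgroup G').Normal] (hq : Nonempty (G ⧸ Cfsg.generalizedFittingSubgroup G ≃* Equiv.Perm (Fin 3))) (hq' : Nonempty (G' ⧸ Cfsg.generalizedFittingSubgroup G' ≃* Equiv.Perm (Fin 3))) : Nonempty (G ≃* G') := by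
  haveI : Fact (Nat.Prime 3) := ⟨Nat.prime_three⟩
  obtain ⟨e⟩ := hF
  obtain ⟨e'⟩ := hF'
  obtain ⟨ω⟩ := out_equiv_perm4
  have hZ : Subgroup.center (Cfsg.POmega (ZMod 3) (Cfsg.quadFormPlus 4 (ZMod 3))) = ⊥ :=
    Cfsg.Agent.S0817.center_eq_bot (F := ZMod 3) 4 le_rfl
  exact Cfsg.Agent.Helper43.Ext.ext_unique hZ ω
    (Cfsg.generalizedFittingSubgroup G) e Cfsg.Agent.S1265.result (index_six _ hq)
    (Cfsg.generalizedFittingSubgroup G') e' Cfsg.Agent.S1265.result (index_six _ hq')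

end Cfsg.Agent.S5515
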