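import Cfsg.Statements.S5521
import Cfsg.Agent.Lib.Helper7.M24Order

set_option autoImplicit false
open Cfsg

namespace Cfsg.Agent.S5521

open Cfsg.Agent.Helper7

theorem card_golayPt : (Finset.univ : Finset GolayPt).card = 24 := by decide

theorem card_le_pow (H : Subgroup (Equiv.Perm GolayPt)) (bs : List GolayPt) :
    Nat.card H ≤ 24 ^ bs.length * Nat.card ↥(stabL H bs) := by
  induction bs generalizing H with
  | nil => simp [stabL]
  | cons b bs ih =>
    have h1 := card_le_mul H b Finset.univ (fun g _ => Finset.mem_univ _)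
    rw [card_golayPt] at h1
    have h2 := ih (stabIn H b)
    rw [stabL, List.length_cons, pow_succ]
    calc Nat.card H ≤ 24 * Nat.card ↥(stabIn H b) := h1
      _ ≤ 24 * (24 ^ bs.length * Nat.card ↥(stabL (stabIn H b) bs)) := Nat.mul_le_mul_left _ h2
      _ = 24 ^ bs.length * 24 * Nat.card ↥(stabL (stabIn H b) bs) := by ring

theorem base_finset_card : (([23, 0, 1, 2, 3, 5, 4].map pt).toFinset : Finset GolayPt).card = 7 := by
  decide

theorem result :
    (∀ B : Finset Cfsg.GolayPt, B.card ≤ 6 → ∃ g ∈ Cfsg.M24, g ≠ 1 ∧ ∀ b ∈ B, g b = b) ∧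
    (∃ B : Finset Cfsg.GolayPt, B.card = 7 ∧ ∀ g ∈ Cfsg.M24, (∀ b ∈ B, g b = b) → g = 1) := by
  constructor
  · intro B hB
    have h1 := card_le_pow M24 B.toList
    rw [card_M24, Finset.length_toList] at h1
    have hpow : 24 ^ B.card ≤ 24 ^ 6 := Nat.pow_le_pow_right (by norm_num) hB
    have h2 : 2 ≤ Nat.card ↥(stabL M24 B.toList) := by
      by_contra hlt
      push Not at hlt
      have h3 : Nat.card ↥(stabL M24 B.toList) ≤ 1 := by omega
      have h4 : 24 ^ B.card * Nat.card ↥(stabL M24 B.toList) ≤ 24 ^ 6 * 1 :=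
        Nat.mul_le_mul hpow h3
      norm_num at h4
      omega
    have hne : stabL M24 B.toList ≠ ⊥ := by
      intro h
      rw [h, Subgroup.card_bot] at h2
      omega
    obtain ⟨⟨g, hg⟩, hg1'⟩ := (Subgroup.ne_bot_iff_exists_ne_one).mp hne
    have hg1 : g ≠ 1 := fun h => hg1' (Subtype.ext h)
    rw [mem_stabL] at hg
    exact ⟨g, hg.1, hg1, fun b hb => hg.2 b (Finset.mem_toList.mpr hb)⟩
  · refine ⟨([23, 0, 1, 2, 3, 5, 4].map pt).toFinset, base_finset_card, ?_⟩
    intro g hg hfix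
    have : g ∈ stabL M24 ([23, 0, 1, 2, 3, 5, 4].map pt) := by
      rw [mem_stabL]
      exact ⟨hg, fun b hb => hfix b (List.mem_toFinset.mpr hb)⟩
    rw [m24_stab7] at this
    exact Subgroup.mem_bot.mp this

end Cfsg.Agent.S5521
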