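import Cfsg.Statements.S5522
import Cfsg.Agent.Lib.Helper91.M11Sylow

set_option autoImplicit false
open Cfsg

namespace Cfsg.Agent.S5522

open Cfsg.Agent.Helper91 Cfsg.Agent.Helper7 Pointwise

theorem card_compl_sq : Fintype.card {x : GolayPt // x ∉ Spor.squareDodecad} = 12 := by
  rw [Fintype.card_subtype_compl, Fintype.card_coe, squareDodecad_eq, card_ofMask']
  decide +kernel

/-- The Mathieu group M₁₁, realised as the stabiliser of one point of the dodecad of squares inside the stabiliser M₁₂ of that dodecad in M₂₄, acts on the twelve coordinate positions outside the dodecad of squares (its 3-transitive action of degree 12); in this action every element of prime order fixes a point, i.e. the action is elusive. -/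
theorem result (g : Equiv.Perm Cfsg.GolayPt) (hg : g ∈ Cfsg.Spor.M11) (hord : (orderOf g).Prime) :
    ∃ x : Cfsg.GolayPt, x ∉ Cfsg.Spor.squareDodecad ∧ g x = x := by
  by_cases h23 : orderOf g = 2 ∨ orderOf g = 3
  · exact m11_fix_of_order hg h23
  · push Not at h23
    have hS : g ∈ setStab Spor.squareDodecad := by
      rw [M11_eq, mem_stabL] at hg
      exact hg.1
    have hinv : ∀ x, g x ∉ Spor.squareDodecad ↔ x ∉ Spor.squareDodecad := fun x =>
      not_congr (setStab_mem_iff hS x)
    have hp : Fact (orderOf g).Prime := ⟨hord⟩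
    have hdvd : ¬ orderOf g ∣ Fintype.card {x : GolayPt // x ∉ Spor.squareDodecad} := by
      rw [card_compl_sq]
      intro hd
      have h12 : (12 : ℕ) = 2 * 2 * 3 := by norm_num
      rw [h12] at hd
      rcases (Nat.Prime.dvd_mul hord).mp hd with hd | hd
      · rcases (Nat.Prime.dvd_mul hord).mp hd with hd | hd
        · exact h23.1 ((Nat.prime_dvd_prime_iff_eq hord Nat.prime_two).mp hd)
        · exact h23.1 ((Nat.prime_dvd_prime_iff_eq hord Nat.prime_two).mp hd)
      · exact h23.2 ((Nat.prime_dvd_prime_iff_eq hord Nat.prime_three).mp hd)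
    have hpow : (g.subtypePerm (p := fun x => x ∉ Spor.squareDodecad) hinv) ^ (orderOf g) ^ 1 = 1 := by
      rw [pow_one, Equiv.Perm.subtypePerm_pow]
      ext x
      simp [pow_orderOf_eq_one]
    obtain ⟨a, ha⟩ := Equiv.Perm.exists_fixed_point_of_prime (n := 1) hdvd hpow
    exact ⟨a.1, a.2, congrArg Subtype.val ha⟩

end Cfsg.Agent.S5522
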