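import Cfsg.Statements.S5529
import Cfsg.Agent.Lib.Helper92.M23Neg
import Cfsg.Agent.Lib.Helper92.M23Pos
-- import your own Cfsg.Agent.* helpers here

set_option autoImplicit false
open Cfsg

namespace Cfsg.Agent.S5529

open Cfsg.Agent.Helper92.M23PQR

/-- A prime dividing `|M23|` is one of `2, 3, 5, 7, 11, 23`. -/
theorem prime_cases {p : ℕ} (hp : p.Prime) (hd : p ∣ 10200960) :
    p = 2 ∨ p = 3 ∨ p = 5 ∨ p = 7 ∨ p = 11 ∨ p = 23 := by
  have e : (10200960 : ℕ) = 2 ^ 7 * (3 ^ 2 * (5 * (7 * (11 * 23)))) := by norm_num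
  rw [e] at hd
  rcases (Nat.Prime.dvd_mul hp).mp hd with h | h
  · exact Or.inl ((Nat.prime_dvd_prime_iff_eq hp (by norm_num)).mp (hp.dvd_of_dvd_pow h))
  rcases (Nat.Prime.dvd_mul hp).mp h with h | h
  · exact Or.inr (Or.inl ((Nat.prime_dvd_prime_iff_eq hp (by norm_num)).mp (hp.dvd_of_dvd_pow h)))
  rcases (Nat.Prime.dvd_mul hp).mp h with h | h
  · exact Or.inr (Or.inr (Or.inl ((Nat.prime_dvd_prime_iff_eq hp (by norm_num)).mp h)))
  rcases (Nat.Prime.dvd_mul hp).mp h with h | h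
  · exact Or.inr (Or.inr (Or.inr (Or.inl ((Nat.prime_dvd_prime_iff_eq hp (by norm_num)).mp h))))
  rcases (Nat.Prime.dvd_mul hp).mp h with h | h
  · exact Or.inr (Or.inr (Or.inr (Or.inr (Or.inl
      ((Nat.prime_dvd_prime_iff_eq hp (by norm_num)).mp h)))))
  · exact Or.inr (Or.inr (Or.inr (Or.inr (Or.inr
      ((Nat.prime_dvd_prime_iff_eq hp (by norm_num)).mp h)))))

/-- The table of generating pairs covers all non-exceptional triples. -/
theorem posData_complete : ∀ p ∈ [2, 3, 5, 7, 11, 23], ∀ q ∈ [2, 3, 5, 7, 11, 23],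
    ∀ r ∈ [2, 3, 5, 7, 11, 23], p ≤ q → q ≤ r → ¬ (p = 2 ∧ q = 2) →
    ¬ ((p = 2 ∧ q = 3) ∨ (p = 2 ∧ q = 5 ∧ r = 5) ∨ (p = 2 ∧ q = 5 ∧ r = 7) ∨
      (p = 3 ∧ q = 3 ∧ r ≤ 7)) →
    ∃ e ∈ posData, e.p = p ∧ e.q = q ∧ e.r = r := by
  decide +kernel

/-- Generation of the Mathieu group M₂₃ (the stabiliser of a point in the Mathieu group M₂₄ acting on 24 points) by triples of prime orders. Let p ≤ q ≤ r be primes dividing |M₂₃| = 10200960 = 2⁷·3²·5·7·11·23, not both p and q equal to 2. Then M₂₃ contains elements x, y, z of orders p, q, r with xyz = 1 and ⟨x, y⟩ = M₂₃ if and only if (p, q, r) is none of: (2, 3, r) for any r, (2, 5, 5), (2, 5, 7), (3, 3, 3), (3, 3, 5), (3, 3, 7). -/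
theorem result (p q r : ℕ) (hp : p.Prime) (hq : q.Prime)
    (hr : r.Prime) (hpq : p ≤ q) (hqr : q ≤ r) (hp2 : ¬ (p = 2 ∧ q = 2))
    (hdvd : p ∣ 10200960 ∧ q ∣ 10200960 ∧ r ∣ 10200960) :
    (∃ x y z : Cfsg.Spor.M23, orderOf x = p ∧ orderOf y = q ∧ orderOf z = r ∧ x * y * z = 1 ∧
        Subgroup.closure {x, y} = ⊤) ↔
      ¬ ((p = 2 ∧ q = 3) ∨ (p = 2 ∧ q = 5 ∧ r = 5) ∨ (p = 2 ∧ q = 5 ∧ r = 7) ∨ (p = 3 ∧ q = 3 ∧ r ≤ 7)) := by
  have hpc := prime_cases hp hdvd.1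
  have hqc := prime_cases hq hdvd.2.1
  have hrc := prime_cases hr hdvd.2.2
  constructor
  · rintro ⟨x, y, z, hx, hy, hz, hxyz, hcl⟩ hex
    have hg : Gen (x : Equiv.Perm GolayPt) (y : Equiv.Perm GolayPt) :=
      closure_of_eq_top _ x y hcl
    have hxo : orderOf (x : Equiv.Perm GolayPt) = p := by rw [Subgroup.orderOf_coe]; exact hx
    have hyo : orderOf (y : Equiv.Perm GolayPt) = q := by rw [Subgroup.orderOf_coe]; exact hy
    have hxy : x * y = z⁻¹ := eq_inv_of_mul_eq_one_left hxyz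
    have hpow : ((x : Equiv.Perm GolayPt) * (y : Equiv.Perm GolayPt)) ^ r = 1 := by
      have h1 : (x * y) ^ r = 1 := by
        rw [hxy, ← hz, ← orderOf_inv z]
        exact pow_orderOf_eq_one _
      have := congrArg (Subtype.val) h1
      simpa using this
    apply neg_main hg hxo hyo hpow
    rcases hex with ⟨rfl, rfl⟩ | ⟨rfl, rfl, rfl⟩ | ⟨rfl, rfl, rfl⟩ | ⟨rfl, rfl, hr7⟩
    · left
      refine ⟨rfl, rfl, ?_⟩
      rcases hrc with rfl | rfl | rfl | rfl | rfl | rfl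
      · omega
      all_goals simp [R5]
    · right; left
      exact ⟨rfl, rfl, by simp [R2]⟩
    · right; left
      exact ⟨rfl, rfl, by simp [R2]⟩
    · right; right
      refine ⟨rfl, rfl, ?_⟩
      rcases hrc with rfl | rfl | rfl | rfl | rfl | rfl
      · omega
      · simp [R3]
      · simp [R3]
      · simp [R3]
      · omega
      · omega
  · intro hne
    have mem6 : ∀ n : ℕ, (n = 2 ∨ n = 3 ∨ n = 5 ∨ n = 7 ∨ n = 11 ∨ n = 23) →
        n ∈ [2, 3, 5, 7, 11, 23] := by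
      intro n hn
      simp only [List.mem_cons, List.not_mem_nil, or_false]
      exact hn
    obtain ⟨e, he, rfl, rfl, rfl⟩ := posData_complete p (mem6 p hpc) q (mem6 q hqc) r (mem6 r hrc)
      hpq hqr hp2 hne
    exact pos_of_ok e (List.all_eq_true.mp posData_ok e he) hp hq hr

end Cfsg.Agent.S5529
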