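import Cfsg.Statements.S5541
import Mathlib

set_option autoImplicit false
open Cfsg

namespace Cfsg.Agent.S5541

section aux

variable {H : Type*} [Group H] {U : Type*} [AddCommGroup U] [Module ℝ U]
  (ρ : Representation ℝ H U) (B : LinearMap.BilinForm ℝ U)

theorem rho_inv_apply (g : H) (w : U) : ρ g (ρ g⁻¹ w) = w := by
  have h : ρ g * ρ g⁻¹ = 1 := by rw [← map_mul, mul_inv_cancel, map_one]
  have := congrArg (fun f : U →ₗ[ℝ] U => f w) h
  simpa using this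

theorem ker_eq_bot (hirr : ∀ W : Submodule ℝ U, (∀ g : H, W.map (ρ g) ≤ W) → W = ⊥ ∨ W = ⊤)
    (hB0 : B ≠ 0) (hBi : ∀ (g : H) (u v : U), B (ρ g u) (ρ g v) = B u v) :
    LinearMap.ker B = ⊥ := by
  have hinv : ∀ g : H, (LinearMap.ker B).map (ρ g) ≤ LinearMap.ker B := by
    intro g x hx
    rcases hx with ⟨u, hu, rfl⟩
    rw [SetLike.mem_coe, LinearMap.mem_ker] at hu
    rw [LinearMap.mem_ker]
    ext w
    have : B (ρ g u) w = B u (ρ g⁻¹ w) := by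
      conv_lhs => rw [← rho_inv_apply ρ g w]
      rw [hBi]
    rw [this, hu]
    simp
  rcases hirr (LinearMap.ker B) hinv with h | h
  · exact h
  · exfalso
    apply hB0
    ext u v
    have hu : u ∈ LinearMap.ker B := by rw [h]; trivial
    rw [LinearMap.mem_ker] at hu
    rw [hu]
    simp

end aux

theorem result {H : Type*} [Group H] {U : Type*} [AddCommGroup U] [Module ℝ U] [FiniteDimensional ℝ U] (ρ : Representation ℝ H U) (hirr : ∀ W : Submodule ℝ U, (∀ g : H, W.map (ρ g) ≤ W) → W = ⊥ ∨ W = ⊤) (B : LinearMap.BilinForm ℝ U) (hB0 : B ≠ 0) (hBs : ∀ u v, B u v = B v u) (hBi : ∀ (g : H) (u v : U), B (ρ g u) (ρ g v) = B u v) : (∃ m : U →ₗ[ℝ] U →ₗ[ℝ] U, m ≠ 0 ∧ (∀ u v, m u v = m v u) ∧ (∀ (g : H) (u v : U), m (ρ g u) (ρ g v) = ρ g (m u v)) ∧ ∀ m' : U →ₗ[ℝ] U →ₗ[ℝ] U, (∀ (g : H) (u v : U), m' (ρ g u) (ρ g v) = ρ g (m' u v)) → ∃ c : ℝ, m' = c • m) ↔ (∃ t : U →ₗ[ℝ] U →ₗ[ℝ] U →ₗ[ℝ] ℝ, t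 ≠ 0 ∧ (∀ u v w, t u v w = t v u w ∧ t u v w = t u w v) ∧ (∀ (g : H) (u v w : U), t (ρ g u) (ρ g v) (ρ g w) = t u v w) ∧ ∀ t' : U →ₗ[ℝ] U →ₗ[ℝ] U →ₗ[ℝ] ℝ, (∀ (g : H) (u v w : U), t' (ρ g u) (ρ g v) (ρ g w) = t' u v w) → ∃ c : ℝ, t' = c • t) := by
  have hker := ker_eq_bot ρ B hirr hB0 hBi
  have hinj : Function.Injective B := LinearMap.ker_eq_bot.mp hker
  -- the equivalence with the dual
  let e : U ≃ₗ[ℝ] (U →ₗ[ℝ] ℝ) :=
    LinearMap.linearEquivOfInjective B hinj Subspace.dual_finrank_eq.symm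
  have he : ∀ u w, e u w = B u w := fun u w => rfl
  have hes : ∀ (φ : U →ₗ[ℝ] ℝ) (w : U), B (e.symm φ) w = φ w := by
    intro φ w
    rw [← he, LinearEquiv.apply_symm_apply]
  -- separation
  have hsep : ∀ x y : U, (∀ w, B x w = B y w) → x = y := by
    intro x y h
    apply hinj
    ext w
    exact h w
  -- Φ and Ψ
  let Φ : (U →ₗ[ℝ] U →ₗ[ℝ] U) → (U →ₗ[ℝ] U →ₗ[ℝ] U →ₗ[ℝ] ℝ) := fun m => m.compr₂ B
  let Ψ : (U →ₗ[ℝ] U →ₗ[ℝ] U →ₗ[ℝ] ℝ) → (U →ₗ[ℝ] U →ₗ[ℝ] U) := fun t => t.compr₂ e.symm.toLinearMap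
  have hΦ : ∀ m u v w, Φ m u v w = B (m u v) w := fun m u v w => rfl
  have hΨ : ∀ t u v w, B (Ψ t u v) w = t u v w := by
    intro t u v w
    show B (e.symm (t u v)) w = t u v w
    rw [hes]
  have hΦΨ : ∀ t, Φ (Ψ t) = t := by
    intro t; ext u v w; rw [hΦ, hΨ]
  have hΨΦ : ∀ m, Ψ (Φ m) = m := by
    intro m; ext u v; apply hsep; intro w; rw [hΨ, hΦ]
  have hΦsmul : ∀ (c : ℝ) m, Φ (c • m) = c • Φ m := by
    intro c m; ext u v w; simp [hΦ]
  have hΨsmul : ∀ (c : ℝ) t, Ψ (c • t) = c • Ψ t := by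
    intro c t; ext u v; apply hsep; intro w; simp [hΨ]
  have hΦinv : ∀ m, (∀ (g : H) (u v : U), m (ρ g u) (ρ g v) = ρ g (m u v)) →
      ∀ (g : H) (u v w : U), Φ m (ρ g u) (ρ g v) (ρ g w) = Φ m u v w := by
    intro m hm g u v w
    rw [hΦ, hΦ, hm, hBi]
  have hΨeq : ∀ t, (∀ (g : H) (u v w : U), t (ρ g u) (ρ g v) (ρ g w) = t u v w) →
      ∀ (g : H) (u v : U), Ψ t (ρ g u) (ρ g v) = ρ g (Ψ t u v) := by
    intro t ht g u v
    apply hsep
    intro w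
    rw [hΨ]
    have h1 : B (ρ g (Ψ t u v)) w = B (Ψ t u v) (ρ g⁻¹ w) := by
      conv_lhs => rw [← rho_inv_apply ρ g w]
      rw [hBi]
    rw [h1, hΨ, ← ht g u v (ρ g⁻¹ w), rho_inv_apply]
  have hΦ0 : ∀ m, Φ m = 0 → m = 0 := by
    intro m h
    rw [← hΨΦ m, h]
    ext u v
    apply hsep
    intro w
    simp [hΨ]
  have hΨ0 : ∀ t, Ψ t = 0 → t = 0 := by
    intro t h
    rw [← hΦΨ t, h]
    ext u v w
    simp [hΦ]
  constructor
  · rintro ⟨m, hm0, hmc, hme, hmu⟩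
    have ht0 : Φ m ≠ 0 := fun h => hm0 (hΦ0 m h)
    have hS1 : ∀ u v w, Φ m u v w = Φ m v u w := by
      intro u v w; rw [hΦ, hΦ, hmc]
    -- the flipped form
    let t' : U →ₗ[ℝ] U →ₗ[ℝ] U →ₗ[ℝ] ℝ :=
      (LinearMap.lflip (R := ℝ) (M := U) (N := U) (P := ℝ)).toLinearMap.comp (Φ m)
    have ht' : ∀ u v w, t' u v w = Φ m u w v := fun u v w => rfl
    have ht'inv : ∀ (g : H) (u v w : U), t' (ρ g u) (ρ g v) (ρ g w) = t' u v w := by
      intro g u v w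
      rw [ht', ht', hΦinv m hme]
    obtain ⟨c, hc⟩ := hmu (Ψ t') (hΨeq t' ht'inv)
    have hc' : t' = c • Φ m := by
      rw [← hΦΨ t', hc, hΦsmul]
    have hflip : ∀ u v w, Φ m u w v = c * Φ m u v w := by
      intro u v w
      rw [← ht', hc']
      simp
    -- find nonzero value
    have hex : ∃ u v w, Φ m u v w ≠ 0 := by
      by_contra hcon
      push Not at hcon
      apply ht0
      ext u v w
      simpa using hcon u v w
    obtain ⟨u₀, v₀, w₀, hne⟩ := hex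
    have hcsq : c * c = 1 := by
      have h1 := hflip u₀ v₀ w₀
      have h2 := hflip u₀ w₀ v₀
      rw [h1] at h2
      have : (c * c - 1) * Φ m u₀ v₀ w₀ = 0 := by linarith
      rcases mul_eq_zero.mp this with h | h
      · linarith
      · exact absurd h hne
    have hc1 : c = 1 := by
      have : (c - 1) * (c + 1) = 0 := by ring_nf; linarith
      rcases mul_eq_zero.mp this with h | h
      · linarith
      · exfalso
        have hcm : c = -1 := by linarith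
        apply hne
        have e1 := hS1 u₀ v₀ w₀
        have e2 := hflip v₀ w₀ u₀
        have e3 := hS1 v₀ w₀ u₀
        have e4 := hflip w₀ u₀ v₀
        have e5 := hS1 w₀ u₀ v₀
        have e6 := hflip u₀ v₀ w₀
        rw [hcm] at e2 e4 e6
        linarith
    refine ⟨Φ m, ht0, ?_, hΦinv m hme, ?_⟩
    · intro u v w
      refine ⟨hS1 u v w, ?_⟩
      have := hflip u v w
      rw [hc1, one_mul] at this
      exact this.symm
    · intro t'' ht''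
      obtain ⟨c', hc'⟩ := hmu (Ψ t'') (hΨeq t'' ht'')
      refine ⟨c', ?_⟩
      rw [← hΦΨ t'', hc', hΦsmul]
  · rintro ⟨t, ht0, hts, hti, htu⟩
    refine ⟨Ψ t, fun h => ht0 (hΨ0 t h), ?_, hΨeq t hti, ?_⟩
    · intro u v
      apply hsep
      intro w
      rw [hΨ, hΨ]
      exact (hts u v w).1
    · intro m' hm'
      obtain ⟨c, hc⟩ := htu (Φ m') (hΦinv m' hm')
      refine ⟨c, ?_⟩
      rw [← hΨΦ m', hc, hΨsmul]

end Cfsg.Agent.S5541
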