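import Cfsg.Statements.S5543
import Mathlib

set_option autoImplicit false
open Cfsg

namespace Cfsg.Agent.S5543

theorem result {V : Type*} [AddCommGroup V] [Module ℝ V] [FiniteDimensional ℝ V] (mul : V →ₗ[ℝ] V →ₗ[ℝ] V) (B : LinearMap.BilinForm ℝ V) (hV : Cfsg.Axial.IsMajoranaAmbient mul B) (X : Subgroup (V ≃ₗ[ℝ] V)) (hX : ∀ x ∈ X, x * x = 1) (ax : (V ≃ₗ[ℝ] V) → V) (hax : ∀ x ∈ X, x ≠ 1 → Cfsg.Axial.IsMajoranaPair mul B x (ax x)) (h1 : ∀ x ∈ X, x ≠ 1 → B (ax x) (ax x) = 1) (h2A : ∀ x ∈ X, ∀ y ∈ X, x ≠ 1 → y ≠ 1 → x ≠ y → mul (ax x) (ax y) = (1 / 8 : ℝ) • (ax x + ax y - ax (x * y))) : Nat.card ↥X ≤ 4 := by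
  classical
  by_contra hcard
  push Not at hcard
  have sq : ∀ a ∈ X, a * a = 1 := hX
  have comm : ∀ a ∈ X, ∀ b ∈ X, a * b = b * a := by
    intro a ha b hb
    have h1 := sq (a*b) (X.mul_mem ha hb)
    have h2 : a * ((a * b) * (a * b)) * b = (a * a) * (b * a) * (b * b) := by group
    rw [h1, sq a ha, sq b hb] at h2
    simpa using h2
  have key : ∀ S : Finset (V ≃ₗ[ℝ] V), S.card ≤ 4 → ∃ z ∈ X, z ∉ S := by
    intro S hS
    have h1 : (↑S : Set (V ≃ₗ[ℝ] V)).ncard < (X : Set (V ≃ₗ[ℝ] V)).ncard := by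
      rw [Set.ncard_coe_finset]
      have : (X : Set (V ≃ₗ[ℝ] V)).ncard = Nat.card X := (Nat.card_coe_set_eq _).symm
      omega
    obtain ⟨z, hz, hzS⟩ := Set.exists_mem_notMem_of_ncard_lt_ncard h1 S.finite_toSet
    exact ⟨z, hz, by simpa using hzS⟩
  obtain ⟨x, hx, hx1⟩ := key {1} (by simp)
  obtain ⟨y, hy, hy1⟩ := key {1, x} (by
    refine le_trans (Finset.card_insert_le _ _) ?_
    simp)
  obtain ⟨z, hz, hz1⟩ := key {1, x, y, x * y} (by
    refine le_trans (Finset.card_insert_le _ _) ?_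
    refine Nat.succ_le_succ (le_trans (Finset.card_insert_le _ _) ?_)
    refine Nat.succ_le_succ (le_trans (Finset.card_insert_le _ _) ?_)
    simp)
  simp only [Finset.mem_insert, Finset.mem_singleton, not_or] at hx1 hy1 hz1
  obtain ⟨hyn1, hyx⟩ := hy1
  obtain ⟨hzn1, hzx, hzy, hzxy⟩ := hz1
  -- membership
  have hxy : x * y ∈ X := X.mul_mem hx hy
  have hxz : x * z ∈ X := X.mul_mem hx hz
  have hyz : y * z ∈ X := X.mul_mem hy hz
  have hxyz : x * (y * z) ∈ X := X.mul_mem hx hyz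
  -- identities
  have sx := sq x hx
  have sy := sq y hy
  have sz := sq z hz
  have cyx : y * x = x * y := comm y hy x hx
  have czx : z * x = x * z := comm z hz x hx
  have czy : z * y = y * z := comm z hz y hy
  have sx' : ∀ a, x * (x * a) = a := fun a => by rw [← mul_assoc, sx, one_mul]
  have sy' : ∀ a, y * (y * a) = a := fun a => by rw [← mul_assoc, sy, one_mul]
  have sz' : ∀ a, z * (z * a) = a := fun a => by rw [← mul_assoc, sz, one_mul]
  have cyx' : ∀ a, y * (x * a) = x * (y * a) := fun a => by rw [← mul_assoc, cyx, mul_assoc]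
  have czx' : ∀ a, z * (x * a) = x * (z * a) := fun a => by rw [← mul_assoc, czx, mul_assoc]
  have czy' : ∀ a, z * (y * a) = y * (z * a) := fun a => by rw [← mul_assoc, czy, mul_assoc]
  -- non-identity
  have nxy : x * y ≠ 1 := by
    intro h
    apply hyx
    have := sx' y
    rw [h, mul_one] at this
    exact this.symm
  have nxz : x * z ≠ 1 := by
    intro h
    apply hzx
    have := sx' z
    rw [h, mul_one] at this
    exact this.symm
  have nyz : y * z ≠ 1 := by
    intro h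
    apply hzy
    have := sy' z
    rw [h, mul_one] at this
    exact this.symm
  have nxyz : x * (y * z) ≠ 1 := by
    intro h
    apply hzxy
    have h2 : x * (y * (x * (y * z))) = x * (y * 1) := by rw [h]
    rw [cyx', sx', sy', mul_one] at h2
    exact h2
  -- a tool for distinctness
  have dist : ∀ p ∈ X, ∀ q ∈ X, p * q ≠ 1 → p ≠ q := by
    intro p _ q hq hpq h
    apply hpq
    rw [h]
    exact sq q hq
  -- the needed distinctness facts
  have d_x_y : x ≠ y := fun h => hyx h.symm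
  have d_x_xy : x ≠ x * y := dist x hx _ hxy (by rw [sx']; exact hyn1)
  have d_x_z : x ≠ z := fun h => hzx h.symm
  have d_x_xz : x ≠ x * z := dist x hx _ hxz (by rw [sx']; exact hzn1)
  have d_x_yz : x ≠ y * z := dist x hx _ hyz nxyz
  have d_x_xyz : x ≠ x * (y * z) := dist x hx _ hxyz (by rw [sx']; exact nyz)
  have d_y_z : y ≠ z := fun h => hzy h.symm
  have d_y_xz : y ≠ x * z := dist y hy _ hxz (by rw [cyx']; exact nxyz)
  have d_xy_z : x * y ≠ z := fun h => hzxy h.symm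
  have d_xy_xz : x * y ≠ x * z := dist _ hxy _ hxz (by
    rw [mul_assoc, cyx', sx']; exact nyz)
  have d_yz_xyz : y * z ≠ x * (y * z) := dist _ hyz _ hxyz (by
    rw [mul_assoc, czx', cyx', czy', sy', sz, mul_one]; exact hx1)
  -- the products
  have P := h2A
  have p1 := P x hx y hy hx1 hyn1 d_x_y
  have p2 := P x hx _ hxy hx1 nxy d_x_xy
  have p3 := P x hx z hz hx1 hzn1 d_x_z
  have p4 := P x hx _ hxz hx1 nxz d_x_xz
  have p5 := P x hx _ hyz hx1 nyz d_x_yz
  have p6 := P x hx _ hxyz hx1 nxyz d_x_xyz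
  have p7 := P y hy z hz hyn1 hzn1 d_y_z
  have p8 := P y hy _ hxz hyn1 nxz d_y_xz
  have p9 := P _ hxy z hz nxy hzn1 d_xy_z
  have p10 := P _ hxy _ hxz nxy nxz d_xy_xz
  have p11 := P _ hyz _ hxyz nyz nxyz d_yz_xyz
  rw [sx'] at p2 p4 p6
  rw [cyx'] at p8
  rw [mul_assoc] at p9
  rw [mul_assoc, cyx', sx'] at p10
  rw [mul_assoc, czx', cyx', czy', sy', sz, mul_one] at p11
  obtain ⟨-, -, ⟨⟨hne, hidem, -, hfus⟩, -⟩, -⟩ := hax x hx hx1
  obtain ⟨-, -, ⟨⟨-, hidem', -, -⟩, -⟩, -⟩ := hax _ hyz nyz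
  -- abbreviations
  set A := ax x with hA
  set Ay := ax y with hAy
  set Az := ax z with hAz
  set Axy := ax (x * y) with hAxy
  set Axz := ax (x * z) with hAxz
  set Ayz := ax (y * z) with hAyz
  set Axyz := ax (x * (y * z)) with hAxyz
  -- eigenvectors
  have hu : Ay - Axy ∈ Axial.eigen mul A (1/4) := by
    rw [Axial.eigen, Module.End.mem_eigenspace_iff, map_sub, p1, p2]
    module
  have hv : Az - Axz ∈ Axial.eigen mul A (1/4) := by
    rw [Axial.eigen, Module.End.mem_eigenspace_iff, map_sub, p3, p4]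
    module
  have hw : Ayz - Axyz ∈ Axial.eigen mul A (1/4) := by
    rw [Axial.eigen, Module.End.mem_eigenspace_iff, map_sub, p5, p6]
    module
  -- commutativity of mul
  have hcm : ∀ u v : V, mul u v = mul v u := hV.1
  have huv : mul (Ay - Axy) (Az - Axz) = (-(1/4 : ℝ)) • (Ayz - Axyz) := by
    simp only [map_sub, LinearMap.sub_apply]
    rw [p7, p8, p9, p10]
    module
  have hspec : (1/4 : ℝ) ∈ Axial.majoranaSpectrum := by
    simp [Axial.majoranaSpectrum]
  have hf := hfus (1/4) hspec (1/4) hspec _ hu _ hv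
  have hlaw : Axial.monsterLaw (1/4 : ℝ) (1/32) (1/4) (1/4) = {1, 0} := by
    unfold Axial.monsterLaw
    norm_num
  rw [hlaw, huv] at hf
  -- independence
  have hind := Module.End.eigenspaces_iSupIndep (mul A)
  have hdisj := hind (1/4 : ℝ)
  have hle : Axial.eigenSum mul A {1, 0} ≤ ⨆ j, ⨆ (_ : j ≠ (1/4 : ℝ)), Module.End.eigenspace (mul A) j := by
    unfold Axial.eigenSum Axial.eigen
    apply iSup_le
    intro c
    apply iSup_le
    intro hc
    have hc4 : c ≠ (1/4 : ℝ) := by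
      rcases hc with rfl | rfl <;> norm_num
    exact le_iSup₂_of_le c hc4 le_rfl
  have hw' : (-(1/4 : ℝ)) • (Ayz - Axyz) ∈ Module.End.eigenspace (mul A) (1/4) :=
    Submodule.smul_mem _ _ hw
  have hzero : (-(1/4 : ℝ)) • (Ayz - Axyz) = 0 := by
    have := Submodule.disjoint_def.mp hdisj _ hw' (hle hf)
    exact this
  have heq : Ayz = Axyz := by
    have h4 : (-(1/4 : ℝ)) ≠ 0 := by norm_num
    have := (smul_eq_zero.mp hzero).resolve_left h4
    exact sub_eq_zero.mp this
  -- final contradiction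
  rw [← heq] at p11
  rw [hidem'] at p11
  have hA6 : A = (-6 : ℝ) • Ayz := by
    have : (8 : ℝ) • Ayz = (8 : ℝ) • ((1 / 8 : ℝ) • (Ayz + Ayz - A)) := by rw [← p11]
    have h3 : A = Ayz + Ayz - (8:ℝ) • Ayz := by
      rw [this]; module
    rw [h3]; module
  have h7 : (7 : ℝ) • A = 0 := by
    have hi := hidem
    rw [hA6] at hi
    simp only [map_smul, LinearMap.smul_apply, hidem'] at hi
    rw [hA6]
    have : (36 : ℝ) • Ayz = (-6 : ℝ) • Ayz := by
      rw [← hi]; module
    have h42 : (42 : ℝ) • Ayz = 0 := by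
      have : (36 : ℝ) • Ayz - (-6 : ℝ) • Ayz = 0 := sub_eq_zero.mpr this
      rw [← this]; module
    have : Ayz = 0 := (smul_eq_zero.mp h42).resolve_left (by norm_num)
    rw [this]; simp
  exact hne ((smul_eq_zero.mp h7).resolve_left (by norm_num))

end Cfsg.Agent.S5543
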