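import Cfsg.Statements.S5545
import Cfsg.Agent.Lib.Helper91.Majorana

set_option autoImplicit false
open Cfsg

namespace Cfsg.Agent.S5545

open Cfsg.Agent.Helper91 Cfsg.Axial

theorem result {V : Type*} [AddCommGroup V] [Module ℝ V] [FiniteDimensional ℝ V] (mul : V →ₗ[ℝ] V →ₗ[ℝ] V) (B : LinearMap.BilinForm ℝ V) (hV : Cfsg.Axial.IsMajoranaAmbient mul B) (μ₀ μ₁ : V ≃ₗ[ℝ] V) (a₀ a₁ : V) (h₀ : Cfsg.Axial.IsMajoranaPair mul B μ₀ a₀) (h₁ : Cfsg.Axial.IsMajoranaPair mul B μ₁ a₁) (hu₀ : ∀ a : V, Cfsg.Axial.IsMajoranaPair mul B μ₀ a → a = a₀) (hu₁ : ∀ a : V, Cfsg.Axial.IsMajoranaPair mul B μ₁ a → a = a₁) (hn₀ : B a₀ a₀ = 1) (hn₁ : B a₁ a₁ = 1) (hc : μ₀ * μ₁ = μ₁ * μ₀) (hne : a₀ ≠ a₁) : (B a₀ a₁ = 0 ∧ mul a₀ a₁ = 0) ∨ (B a₀ a₁ = 1 / 8 ∧ mul (a₀ + a₁ - (8 : ℝ) • mul a₀ a₁) (a₀ + a₁ - (8 : ℝ) • mul a₀ a₁) = a₀ + a₁ - (8 : ℝ) • mul a₀ a₁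 ∧ mul a₀ (a₀ + a₁ - (8 : ℝ) • mul a₀ a₁) = (1 / 8 : ℝ) • (a₀ + (a₀ + a₁ - (8 : ℝ) • mul a₀ a₁) - a₁) ∧ mul a₁ (a₀ + a₁ - (8 : ℝ) • mul a₀ a₁) = (1 / 8 : ℝ) • (a₁ + (a₀ + a₁ - (8 : ℝ) • mul a₀ a₁) - a₀)) := by
  have hcomm := hV.1
  have hsymm := hV.2.1
  -- commutation elementwise
  have hc' : ∀ w, μ₀ (μ₁ w) = μ₁ (μ₀ w) := by
    intro w
    have := congrArg (fun f : V ≃ₗ[ℝ] V => f w) hc
    simpa using this
  -- μ₁ a₀ = a₀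
  have hfix0 : μ₁ a₀ = a₀ := by
    apply hu₀
    refine majoranaPair_transport (B := B) μ₁ h₁.1 h₁.2.1 μ₀ μ₀ a₀ h₀ ?_
    intro v
    rw [← hc', LinearEquiv.apply_symm_apply]
  have hfix1 : μ₀ a₁ = a₁ := by
    apply hu₁
    refine majoranaPair_transport (B := B) μ₀ h₀.1 h₀.2.1 μ₁ μ₁ a₁ h₁ ?_
    intro v
    rw [hc', LinearEquiv.apply_symm_apply]
  have hidem0 : mul a₀ a₀ = a₀ := h₀.2.2.1.1.2.1
  have hidem1 : mul a₁ a₁ = a₁ := h₁.2.2.1.1.2.1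
  obtain ⟨A1, A2, A3⟩ := fixed_algebra mul B hV μ₀ a₀ a₁ h₀ hn₀ hidem1 hfix1
  obtain ⟨B1, B2, B3⟩ := fixed_algebra mul B hV μ₁ a₁ a₀ h₁ hn₁ hidem0 hfix0
  rw [hsymm a₁ a₀, hcomm a₁ a₀] at B1 B3
  set l := B a₀ a₁ with hl
  set p := mul a₀ a₁ with hp
  have E1 := A3 B1
  have E2 := B3 A1
  have hkey : (8 * l^2 - l) • (a₀ - a₁) = 0 := by
    linear_combination (norm := module) E2 - E1
  have hl : 8 * l^2 - l = 0 := by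
    rcases smul_eq_zero.mp hkey with h | h
    · exact h
    · exact absurd (sub_eq_zero.mp h) hne
  have hl' : l * (8 * l - 1) = 0 := by ring_nf; ring_nf at hl; linarith
  rcases mul_eq_zero.mp hl' with h | h
  · left
    exact ⟨h, A2 h⟩
  · right
    have hl8 : l = 1/8 := by linarith
    rw [hl8] at A1 B1 E1
    refine ⟨hl8, ?_, ?_, ?_⟩
    · simp only [map_add, map_sub, map_smul, LinearMap.add_apply, LinearMap.sub_apply,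
        LinearMap.smul_apply, hidem0, hidem1, hcomm a₁ a₀, hcomm p a₀, hcomm p a₁, ← hp, A1, B1]
      linear_combination (norm := module) (4 : ℝ) • E1
    · simp only [map_add, map_sub, map_smul, hidem0, ← hp, A1]
      module
    · simp only [map_add, map_sub, map_smul, hidem1, hcomm a₁ a₀, ← hp, B1]
      module

end Cfsg.Agent.S5545
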