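import Cfsg.Statements.S5546
import Mathlib

set_option autoImplicit false
open Cfsg

namespace Cfsg.Agent.S5546

open Cfsg.Spor

/-- `8 e_p`. -/
def E (p : GolayPt) : GolayPt → ℤ := fun q => if q = p then 8 else 0

theorem sum_E (p : GolayPt) : ∑ i, E p i = 8 := by
  simp [E]

theorem E_mem (p : GolayPt) : E p ∈ leechLattice := by
  apply AddSubgroup.subset_closure
  refine mem_leechSet_of_const_mod_four (E p) 0 0 (by decide) ?_ ?_
  · intro i
    unfold E
    split_ifs <;> decide
  · rw [sum_E]; decide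

def EL (p : GolayPt) : leechLattice := ⟨E p, E_mem p⟩

/-- The integer matrix of `g` (times 8). -/
def M (g : Equiv.Perm leechLattice) : Matrix GolayPt GolayPt ℤ :=
  fun i j => ((g (EL j) : leechLattice) : GolayPt → ℤ) i

theorem eight_smul_eq_sum (x : leechLattice) :
    (8 : ℤ) • x = ∑ j, ((x : GolayPt → ℤ) j) • EL j := by
  apply Subtype.ext
  funext i
  rw [AddSubgroup.coe_zsmul]
  have : ((∑ j, ((x : GolayPt → ℤ) j) • EL j : leechLattice) : GolayPt → ℤ)
      = ∑ j, ((x : GolayPt → ℤ) j) • E j := by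
    rw [AddSubgroup.val_finsetSum]
    rfl
  rw [this]
  simp [E, mul_comm]
  
theorem mulVec_eq (g : Equiv.Perm leechLattice)
    (hg : ∀ v w : leechLattice, g (v + w) = g v + g w) (x : leechLattice) :
    (M g).mulVec (x : GolayPt → ℤ) = (8 : ℤ) • ((g x : leechLattice) : GolayPt → ℤ) := by
  let φ : leechLattice →+ leechLattice := AddMonoidHom.mk' g hg
  have hφ : ∀ v, φ v = g v := fun v => rfl
  have h1 : (8 : ℤ) • g x = ∑ j, ((x : GolayPt → ℤ) j) • g (EL j) := by
    rw [← hφ, ← map_zsmul, eight_smul_eq_sum, map_sum]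
    apply Finset.sum_congr rfl
    intro j _
    rw [map_zsmul, hφ]
  have h2 := congrArg (fun v : leechLattice => (v : GolayPt → ℤ)) h1
  simp only [AddSubgroup.coe_zsmul] at h2
  rw [h2]
  funext i
  rw [AddSubgroup.val_finsetSum]
  simp only [Matrix.mulVec, dotProduct, M, Finset.sum_apply]
  apply Finset.sum_congr rfl
  intro j _
  simp [mul_comm]

theorem M_mul (g h : Equiv.Perm leechLattice)
    (hg : ∀ v w : leechLattice, g (v + w) = g v + g w) :
    M g * M h = (8 : ℤ) • M (g * h) := by
  ext i j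
  have := congrFun (mulVec_eq g hg (h (EL j))) i
  rw [Matrix.mul_apply, Matrix.smul_apply, smul_eq_mul]
  exact this

theorem M_one : M 1 = (8 : ℤ) • (1 : Matrix GolayPt GolayPt ℤ) := by
  ext i j
  simp only [M, Equiv.Perm.one_apply, EL, E, Matrix.smul_apply, Matrix.one_apply]
  split_ifs <;> simp

theorem two_dot (a b : GolayPt → ℤ) :
    2 * dotInt a b = sqNorm (a + b) - sqNorm a - sqNorm b := by
  unfold dotInt sqNorm
  rw [Finset.mul_sum, ← Finset.sum_sub_distrib, ← Finset.sum_sub_distrib]
  apply Finset.sum_congr rfl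
  intro i _
  simp only [Pi.add_apply]
  ring

theorem dot_preserved (g : Equiv.Perm leechLattice) (hg : g ∈ Co0) (v w : leechLattice) :
    dotInt ((g v : leechLattice) : GolayPt → ℤ) ((g w : leechLattice) : GolayPt → ℤ)
      = dotInt (v : GolayPt → ℤ) (w : GolayPt → ℤ) := by
  obtain ⟨hadd, hn⟩ := hg
  have h1 := two_dot ((g v : leechLattice) : GolayPt → ℤ) ((g w : leechLattice) : GolayPt → ℤ)
  have h2 := two_dot (v : GolayPt → ℤ) (w : GolayPt → ℤ)
  have h3 : ((g v : leechLattice) : GolayPt → ℤ) + ((g w : leechLattice) : GolayPt → ℤ)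
      = ((g (v + w) : leechLattice) : GolayPt → ℤ) := by
    rw [hadd]; rfl
  have h4 : (v : GolayPt → ℤ) + (w : GolayPt → ℤ) = ((v + w : leechLattice) : GolayPt → ℤ) := rfl
  rw [h3, hn, hn, hn] at h1
  rw [h4] at h2
  omega

theorem dot_E (j k : GolayPt) : dotInt (E j) (E k) = if j = k then 64 else 0 := by
  unfold dotInt E
  by_cases h : j = k
  · subst h
    simp
  · simp only [h, if_false]
    apply Finset.sum_eq_zero
    intro i _
    by_cases h1 : i = j
    · subst h1
      simp [h]
    · simp [h1]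

theorem M_orth (g : Equiv.Perm leechLattice) (hg : g ∈ Co0) :
    (M g).transpose * M g = (64 : ℤ) • (1 : Matrix GolayPt GolayPt ℤ) := by
  ext j k
  rw [Matrix.mul_apply]
  have := dot_preserved g hg (EL j) (EL k)
  simp only [EL] at this
  rw [dot_E] at this
  simp only [Matrix.transpose_apply, Matrix.smul_apply, Matrix.one_apply, M]
  unfold dotInt at this
  simp only [EL]
  rw [this]
  split_ifs <;> simp

/-- reduction mod 13 -/
def R (g : Equiv.Perm leechLattice) : Matrix GolayPt GolayPt (ZMod 13) :=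
  (5 : ZMod 13) • (M g).map (Int.castRingHom (ZMod 13))

theorem R_mul (g h : Equiv.Perm leechLattice)
    (hg : ∀ v w : leechLattice, g (v + w) = g v + g w) :
    R g * R h = R (g * h) := by
  unfold R
  rw [Matrix.smul_mul, Matrix.mul_smul, ← Matrix.map_mul, M_mul g h hg, smul_smul]
  have : ((8 : ℤ) • M (g * h)).map (Int.castRingHom (ZMod 13))
      = (8 : ZMod 13) • (M (g * h)).map (Int.castRingHom (ZMod 13)) := by
    ext i j
    simp only [Matrix.map_apply, Matrix.smul_apply, smul_eq_mul, Int.coe_castRingHom, Int.cast_mul]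
    norm_num
  rw [this, smul_smul]
  congr 1

theorem R_one : R 1 = 1 := by
  unfold R
  rw [M_one]
  ext i j
  simp only [Matrix.smul_apply, Matrix.map_apply, Matrix.one_apply]
  split_ifs
  · simp; decide
  · simp

theorem R_orth (g : Equiv.Perm leechLattice) (hg : g ∈ Co0) :
    (R g).transpose * R g = 1 := by
  unfold R
  rw [Matrix.transpose_smul, Matrix.smul_mul, Matrix.mul_smul, ← Matrix.transpose_map,
    ← Matrix.map_mul, M_orth g hg, smul_smul]
  ext i j
  simp only [Matrix.smul_apply, Matrix.map_apply, Matrix.one_apply]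
  split_ifs
  · simp; decide
  · simp

def ubar : GolayPt → ZMod 13 := fun p => ((vecU p : ℤ) : ZMod 13)

def P : Matrix (ZMod 23) GolayPt (ZMod 13) := fun j p =>
  match p with
  | none => if j = 0 then -1 else 0
  | some k => if j = k then 1 else 0

def Q : Matrix GolayPt (ZMod 23) (ZMod 13) := fun p k =>
  match p with
  | none => 0
  | some j => if j = k then 1 else 0

def r' : GolayPt → ZMod 13 := fun p =>
  match p with
  | none => 10
  | some _ => 0

set_option maxRecDepth 100000 in
theorem PQ : P * Q = 1 := by decide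

set_option maxRecDepth 100000 in
theorem QP : Q * P = 1 - Matrix.vecMulVec ubar r' := by decide

set_option maxRecDepth 100000 in
theorem P_ubar : P.mulVec ubar = 0 := by decide

theorem R_ubar (g : Equiv.Perm leechLattice) (hg : g ∈ Co2) : (R g).mulVec ubar = ubar := by
  obtain ⟨hg0, hstab⟩ := hg
  have hfix : g leechU = leechU := hstab
  have h1 := mulVec_eq g hg0.1 leechU
  rw [hfix] at h1
  funext i
  have h2 := congrFun h1 i
  have h3 := RingHom.map_mulVec (Int.castRingHom (ZMod 13)) (M g) (leechU : GolayPt → ℤ) i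
  rw [h2] at h3
  have hub : ubar = (Int.castRingHom (ZMod 13)) ∘ ((leechU : leechLattice) : GolayPt → ℤ) := rfl
  unfold R
  rw [Matrix.smul_mulVec, hub, Pi.smul_apply, ← h3]
  simp only [Pi.smul_apply, smul_eq_mul, Function.comp_apply, map_mul]
  rw [← mul_assoc]
  have : (5 : ZMod 13) * (Int.castRingHom (ZMod 13)) 8 = 1 := by decide
  rw [this, one_mul]

def f₀fun (g : Co2) : Matrix (ZMod 23) (ZMod 23) (ZMod 13) := P * R (g : Equiv.Perm leechLattice) * Q

theorem f₀_mul (g h : Co2) : f₀fun (g * h) = f₀fun g * f₀fun h := by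
  unfold f₀fun
  have hgadd := g.2.1.1
  have hR : R ((g * h : Co2) : Equiv.Perm leechLattice)
      = R (g : Equiv.Perm leechLattice) * R (h : Equiv.Perm leechLattice) := by
    rw [Subgroup.coe_mul, R_mul _ _ hgadd]
  have e1 : P * R (g : Equiv.Perm leechLattice) * Q * (P * R (h : Equiv.Perm leechLattice) * Q)
      = P * R (g : Equiv.Perm leechLattice) * (Q * P) * R (h : Equiv.Perm leechLattice) * Q := by
    simp only [Matrix.mul_assoc]
  rw [e1, QP, Matrix.mul_sub, Matrix.mul_one, Matrix.sub_mul, Matrix.sub_mul]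
  have e2 : P * R (g : Equiv.Perm leechLattice) * Matrix.vecMulVec ubar r' = 0 := by
    rw [Matrix.mul_assoc, Matrix.mul_vecMulVec, R_ubar _ g.2, Matrix.mul_vecMulVec, P_ubar,
      Matrix.zero_vecMulVec]
  rw [e2, Matrix.zero_mul, Matrix.zero_mul, sub_zero, hR]
  simp only [Matrix.mul_assoc]

theorem f₀_one : f₀fun 1 = 1 := by
  unfold f₀fun
  show P * R 1 * Q = 1
  rw [R_one, Matrix.mul_one, PQ]

def f₀ : Co2 →* Matrix (ZMod 23) (ZMod 23) (ZMod 13) where
  toFun := f₀fun
  map_one' := f₀_one
  map_mul' := f₀_mul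

theorem R_eq_one_of_f₀ (g : Co2) (h : f₀fun g = 1) : R (g : Equiv.Perm leechLattice) = 1 := by
  set T := R (g : Equiv.Perm leechLattice) with hT
  set N := Matrix.vecMulVec ubar r' with hN
  have hTu : T.mulVec ubar = ubar := R_ubar _ g.2
  have horth : T.transpose * T = 1 := R_orth _ g.2.1
  have hPTQ : P * T * Q = 1 := h
  have hTN : T * N = N := by rw [hN, Matrix.mul_vecMulVec, hTu]
  -- (QP) T (QP) = QP
  have h1 : (Q * P) * T * (Q * P) = Q * P := by
    have : (Q * P) * T * (Q * P) = Q * (P * T * Q) * P := by simp only [Matrix.mul_assoc]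
    rw [this, hPTQ, Matrix.mul_one]
  rw [QP] at h1
  -- T = 1 + vecMulVec ubar s
  have h2 : T = 1 + Matrix.vecMulVec ubar (Matrix.vecMul r' (T - N)) := by
    have h3 : (1 - N) * T * (1 - N) = T - N - N * (T - N) := by
      rw [Matrix.mul_assoc, Matrix.mul_sub T, Matrix.mul_one, hTN, Matrix.sub_mul, Matrix.one_mul]
    rw [h3] at h1
    have h4 : N * (T - N) = Matrix.vecMulVec ubar (Matrix.vecMul r' (T - N)) := by
      rw [hN, Matrix.vecMulVec_mul]
    rw [← h4]
    generalize N * (T - N) = K at h1 ⊢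
    have h5 : T = (T - N - K) + N + K := by abel
    rw [h5, h1]
    abel
  set s := Matrix.vecMul r' (T - N) with hs
  -- Tᵀ ubar = ubar
  have h6 : T.transpose.mulVec ubar = ubar := by
    conv_lhs => rw [← hTu]
    rw [Matrix.mulVec_mulVec, horth, Matrix.one_mulVec]
  have h7 : T.transpose = 1 + Matrix.vecMulVec s ubar := by
    rw [h2, Matrix.transpose_add, Matrix.transpose_one, Matrix.transpose_vecMulVec]
  rw [h7, Matrix.add_mulVec, Matrix.one_mulVec, Matrix.vecMulVec_mulVec] at h6
  have h8 : (ubar ⬝ᵥ ubar) = 6 := by decide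
  rw [h8] at h6
  have h9 : MulOpposite.op (6 : ZMod 13) • s = 0 := by
    have := h6
    rw [add_eq_left] at this
    exact this
  have h10 : s = 0 := by
    funext i
    have hi := congrFun h9 i
    simp only [Pi.smul_apply, MulOpposite.smul_eq_mul_unop, MulOpposite.unop_op, Pi.zero_apply] at hi
    have h6' : (6 : ZMod 13) ≠ 0 := by decide
    have : Fact (Nat.Prime 13) := ⟨by norm_num⟩
    rcases mul_eq_zero.mp hi with h | h
    · exact h
    · exact absurd h h6'
  rw [h2, h10, Matrix.vecMulVec_zero, add_zero]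

theorem sqNorm_sub_le (a b : GolayPt → ℤ) : sqNorm (a - b) ≤ 2 * sqNorm a + 2 * sqNorm b := by
  have h : sqNorm (a + b) + sqNorm (a - b) = 2 * sqNorm a + 2 * sqNorm b := by
    unfold sqNorm
    rw [Finset.mul_sum, Finset.mul_sum, ← Finset.sum_add_distrib, ← Finset.sum_add_distrib]
    apply Finset.sum_congr rfl
    intro i _
    simp only [Pi.add_apply, Pi.sub_apply]
    ring
  have h0 : 0 ≤ sqNorm (a + b) := by
    unfold sqNorm
    apply Finset.sum_nonneg
    intro i _
    positivity
  omega

theorem cast_eq_of_R_one (g : Equiv.Perm leechLattice) (hg : g ∈ Co0) (hR : R g = 1)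
    (x : leechLattice) (i : GolayPt) :
    ((((g x : leechLattice) : GolayPt → ℤ) i : ℤ) : ZMod 13) = (((x : GolayPt → ℤ) i : ℤ) : ZMod 13) := by
  have hM : ∀ i j, ((M g i j : ℤ) : ZMod 13) = if i = j then 8 else 0 := by
    intro i j
    have := congrFun (congrFun hR i) j
    unfold R at this
    simp only [Matrix.smul_apply, Matrix.map_apply, Matrix.one_apply, smul_eq_mul,
      Int.coe_castRingHom] at this
    have h2 : ((M g i j : ℤ) : ZMod 13) = 8 * (5 * ((M g i j : ℤ) : ZMod 13)) := by
      rw [← mul_assoc]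
      have : (8 : ZMod 13) * 5 = 1 := by decide
      rw [this, one_mul]
    rw [h2, this]
    split_ifs <;> simp
  have h1 := congrFun (mulVec_eq g hg.1 x) i
  have h3 := congrArg (fun z : ℤ => (z : ZMod 13)) h1
  simp only [Matrix.mulVec, dotProduct, Pi.smul_apply, smul_eq_mul, Int.cast_sum, Int.cast_mul, hM] at h3
  simp only [ite_mul, zero_mul, Finset.sum_ite_eq, Finset.mem_univ, if_true] at h3
  have h8 : ∀ a b : ZMod 13, 8 * a = 8 * b → a = b := by decide
  exact (h8 _ _ h3).symm

theorem fix_short (g : Equiv.Perm leechLattice) (hg : g ∈ Co0) (hR : R g = 1)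
    (x : leechLattice) (hx : sqNorm (x : GolayPt → ℤ) ≤ 42) : g x = x := by
  apply Subtype.ext
  set y : GolayPt → ℤ := ((g x : leechLattice) : GolayPt → ℤ) - (x : GolayPt → ℤ) with hy
  have hdiv : ∀ i, (13 : ℤ) ∣ y i := by
    intro i
    have := cast_eq_of_R_one g hg hR x i
    rw [hy, Pi.sub_apply]
    have h2 : ((((g x : leechLattice) : GolayPt → ℤ) i - (x : GolayPt → ℤ) i : ℤ) : ZMod 13) = 0 := by
      rw [Int.cast_sub, this, sub_self]
    exact (ZMod.intCast_zmod_eq_zero_iff_dvd _ 13).mp h2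
  have hle : sqNorm y ≤ 168 := by
    have := sqNorm_sub_le ((g x : leechLattice) : GolayPt → ℤ) (x : GolayPt → ℤ)
    rw [hg.2 x, ← hy] at this
    omega
  have hy0 : y = 0 := by
    funext i
    by_contra hne
    have hne' : y i ≠ 0 := hne
    have h1 : (y i) ^ 2 ≤ sqNorm y := by
      unfold sqNorm
      exact Finset.single_le_sum (f := fun i => y i ^ 2) (fun j _ => by positivity) (Finset.mem_univ i)
    obtain ⟨k, hk⟩ := hdiv i
    have hk0 : k ≠ 0 := by
      intro h
      apply hne'
      rw [hk, h, mul_zero]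
    have hk2 : 1 ≤ k ^ 2 := by
      have : 0 < k ^ 2 := by positivity
      omega
    have : (y i) ^ 2 = 169 * k ^ 2 := by rw [hk]; ring
    omega
  have := sub_eq_zero.mp hy0
  exact this

def Fp (a b : GolayPt) : GolayPt → ℤ := fun q => (if q = a then 4 else 0) + (if q = b then 4 else 0)
def Fm (a b : GolayPt) : GolayPt → ℤ := fun q => (if q = a then 4 else 0) - (if q = b then 4 else 0)

theorem Fp_mem (a b : GolayPt) : Fp a b ∈ leechLattice := by
  apply AddSubgroup.subset_closure
  refine mem_leechSet_of_const_mod_four (Fp a b) 0 0 (by decide) ?_ ?_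
  · intro i
    unfold Fp
    split_ifs <;> decide
  · have : ∑ i, Fp a b i = 8 := by
      unfold Fp
      rw [Finset.sum_add_distrib]
      simp
    rw [this]; decide

theorem Fm_mem (a b : GolayPt) : Fm a b ∈ leechLattice := by
  apply AddSubgroup.subset_closure
  refine mem_leechSet_of_const_mod_four (Fm a b) 0 0 (by decide) ?_ ?_
  · intro i
    unfold Fm
    split_ifs <;> decide
  · have : ∑ i, Fm a b i = 0 := by
      unfold Fm
      rw [Finset.sum_sub_distrib]
      simp
    rw [this]; decide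

theorem sqNorm_Fp (a b : GolayPt) (hab : a ≠ b) : sqNorm (Fp a b) = 32 := by
  unfold sqNorm Fp
  have : ∀ q : GolayPt, ((if q = a then (4:ℤ) else 0) + (if q = b then 4 else 0)) ^ 2
      = (if q = a then 16 else 0) + (if q = b then 16 else 0) := by
    intro q
    by_cases h1 : q = a
    · have h2 : q ≠ b := fun h => hab (h1 ▸ h)
      simp [h1, h2, hab]
    · by_cases h2 : q = b
      · subst h2; simp [h1]
      · simp [h1, h2]
  simp only [this, Finset.sum_add_distrib]
  simp

theorem sqNorm_Fm (a b : GolayPt) (hab : a ≠ b) : sqNorm (Fm a b) = 32 := by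
  unfold sqNorm Fm
  have : ∀ q : GolayPt, ((if q = a then (4:ℤ) else 0) - (if q = b then 4 else 0)) ^ 2
      = (if q = a then 16 else 0) + (if q = b then 16 else 0) := by
    intro q
    by_cases h1 : q = a
    · have h2 : q ≠ b := fun h => hab (h1 ▸ h)
      simp [h1, h2, hab]
    · by_cases h2 : q = b
      · subst h2; simp [h1]
      · simp [h1, h2]
  simp only [this, Finset.sum_add_distrib]
  simp

theorem E_eq (a b : GolayPt) (hab : a ≠ b) : E a = Fp a b + Fm a b := by
  funext q
  unfold E Fp Fm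
  simp only [Pi.add_apply]
  by_cases h1 : q = a
  · have h2 : q ≠ b := fun h => hab (h1 ▸ h)
    simp [h1, h2, hab]
  · by_cases h2 : q = b
    · subst h2; simp [h1]
    · simp [h1, h2]

theorem exists_ne (a : GolayPt) : ∃ b : GolayPt, a ≠ b := by
  cases a with
  | none => exact ⟨some 0, by simp⟩
  | some x => exact ⟨none, by simp⟩

theorem eq_one_of_R_one (g : Equiv.Perm leechLattice) (hg : g ∈ Co0) (hR : R g = 1) : g = 1 := by
  have hE : ∀ a, g (EL a) = EL a := by
    intro a
    obtain ⟨b, hab⟩ := exists_ne a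
    have h1 : EL a = (⟨Fp a b, Fp_mem a b⟩ : leechLattice) + ⟨Fm a b, Fm_mem a b⟩ := by
      apply Subtype.ext
      exact E_eq a b hab
    rw [h1, hg.1]
    rw [fix_short g hg hR ⟨Fp a b, Fp_mem a b⟩ (by rw [sqNorm_Fp a b hab]; norm_num),
      fix_short g hg hR ⟨Fm a b, Fm_mem a b⟩ (by rw [sqNorm_Fm a b hab]; norm_num)]
  have hM : M g = (8 : ℤ) • (1 : Matrix GolayPt GolayPt ℤ) := by
    rw [← M_one]
    ext i j
    simp only [M, hE, Equiv.Perm.one_apply]
  apply Equiv.ext
  intro x
  apply Subtype.ext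
  funext i
  have h1 := congrFun (mulVec_eq g hg.1 x) i
  rw [hM, Matrix.smul_mulVec, Matrix.one_mulVec] at h1
  simp only [Pi.smul_apply, smul_eq_mul] at h1
  have : ((g x : leechLattice) : GolayPt → ℤ) i = (x : GolayPt → ℤ) i := by omega
  rw [this]
  rfl

theorem f₀_inj : Function.Injective f₀ := by
  rw [injective_iff_map_eq_one]
  intro g hg
  have hR := R_eq_one_of_f₀ g hg
  have := eq_one_of_R_one (g : Equiv.Perm leechLattice) g.2.1 hR
  exact Subtype.ext this

theorem toHomUnits_inj : Function.Injective f₀.toHomUnits := by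
  intro g h hgh
  have := congrArg (fun u : (Matrix (ZMod 23) (ZMod 23) (ZMod 13))ˣ => (u : Matrix (ZMod 23) (ZMod 23) (ZMod 13))) hgh
  simp only [MonoidHom.coe_toHomUnits] at this
  exact f₀_inj this

noncomputable def φ : (Matrix (ZMod 23) (ZMod 23) (ZMod 13))ˣ ≃* (Matrix (Fin 23) (Fin 23) (ZMod 13))ˣ :=
  Units.mapEquiv (Matrix.reindexAlgEquiv (ZMod 13) (ZMod 13) (ZMod.finEquiv 23).toEquiv.symm).toMulEquiv

theorem result : ∃ f : ↥Cfsg.Spor.Co2 →* GL (Fin 23) (ZMod 13), Function.Injective f := by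
  refine ⟨φ.toMonoidHom.comp f₀.toHomUnits, ?_⟩
  rw [MonoidHom.coe_comp]
  exact φ.injective.comp toHomUnits_inj

end Cfsg.Agent.S5546
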