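import Cfsg.Statements.S5549
import Cfsg.Agent.Lib.Helper91.Cocode
import Cfsg.Agent.Lib.Helper91.DuadPerm
import Cfsg.Agent.Lib.Helper7.Steiner

set_option autoImplicit false
open Cfsg

namespace Cfsg.Agent.S5549

open Cfsg.Agent.Helper91 Cfsg.Agent.Helper7 Pointwise

/-- The code as a type. -/
abbrev CC := ↥golayCode

/-- The linear automorphisms of the code. -/
abbrev GLC := CC ≃ₗ[ZMod 2] CC

/-- The hypotheses on the group `X`. -/
structure Hyp (X : Subgroup GLC) : Prop where
  h1 : ∀ x ∈ X, ∀ e : CC, (e : V24) = oneW → x e = e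
  hM : ∀ σ ∈ M24, ∃ x ∈ X, ∀ c : CC, ((x c : CC) : V24) = act σ (c : V24)
  horb : ∀ x ∈ X, ∀ c : CC, ∃ σ ∈ M24, ((x c : CC) : V24) = act σ (c : V24) ∨
    ((x c : CC) : V24) = act σ (c : V24) + oneW

/-- The all-ones word as an element of the code. -/
def oneC : CC := ⟨oneW, oneW_mem_golayCode⟩

/-- An octad as an element of the code. -/
def indC (o : Finset GolayPt) (ho : o ∈ octads) : CC :=
  ⟨indW o, (mem_supports_iff _ o).mp ((mem_octads_iff o).mp ho).1⟩

theorem dotB_oneW_right (f : V24) : dotB f oneW = ∑ p, f p := by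
  rw [dotB_comm, dotB_one_left]

theorem add_self_V (v : V24) : v + v = 0 := by
  funext p
  exact zmod2_add_self (v p)

theorem oneW_add_oneW : oneW + oneW = (0 : V24) := add_self_V oneW

theorem add_eq_of_add_eq {b u1 u2 e1 e2 : V24} (h1 : b + u1 = e1) (h2 : b + u2 = e2) :
    u1 + u2 = e1 + e2 := by
  rw [← h1, ← h2]
  calc u1 + u2 = (b + b) + (u1 + u2) := by rw [add_self_V, zero_add]
    _ = b + u1 + (b + u2) := by abel

theorem eq_add_of_add_eq {b u e : V24} (h : b + u = e) : b = u + e := by
  rw [← h]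
  calc b = b + (u + u) := by rw [add_self_V, add_zero]
    _ = u + (b + u) := by abel

/-- The octad attached to a code word of weight `8` or `16`. -/
def octOf (v : V24) : Finset GolayPt :=
  if (support₂ v).card = 8 then support₂ v else (support₂ v)ᶜ

theorem octOf_spec {X : Subgroup GLC} (H : Hyp X) {y : GLC} (hy : y ∈ X) {o : Finset GolayPt}
    (ho : o ∈ octads) :
    octOf ((y (indC o ho) : CC) : V24) ∈ octads ∧
      (indW (octOf ((y (indC o ho) : CC) : V24)) + ((y (indC o ho) : CC) : V24) = 0 ∨
        indW (octOf ((y (indC o ho) : CC) : V24)) + ((y (indC o ho) : CC) : V24) = oneW) := by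
  obtain ⟨σ, hσ, h | h⟩ := H.horb y hy (indC o ho)
  · have e : ((y (indC o ho) : CC) : V24) = indW (σ • o) := by
      rw [h]
      exact act_indW σ o
    have ho' := smul_mem_octads hσ ho
    have hc : (support₂ (indW (σ • o))).card = 8 := by
      rw [support₂_indW]
      exact ((mem_octads_iff _).mp ho').2
    rw [e, octOf, if_pos hc, support₂_indW]
    exact ⟨ho', Or.inl (add_self_V _)⟩
  · have e : ((y (indC o ho) : CC) : V24) = indW (σ • o) + oneW := by
      rw [h]
      show act σ (indW o) + oneW = _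
      rw [act_indW]
    have ho' := smul_mem_octads hσ ho
    have hc : (support₂ (indW (σ • o) + oneW)).card ≠ 8 := by
      rw [support₂_add_one, Finset.card_compl, support₂_indW, ((mem_octads_iff _).mp ho').2,
        card_golayPt]
      norm_num
    rw [e, octOf, if_neg hc, support₂_add_one, compl_compl, support₂_indW]
    refine ⟨ho', Or.inr ?_⟩
    rw [← add_assoc, add_self_V, zero_add]

theorem ncard_le {X : Subgroup GLC} (H : Hyp X) {y : GLC} (hy : y ∈ X) {f f' : V24}
    (hf : ∑ p, f p = 0)
    (hrel : ∀ c : CC, dotB f' (c : V24) = dotB f ((y c : CC) : V24)) :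
    (oddOctads f').ncard ≤ (oddOctads f).ncard := by
  classical
  let g : Finset GolayPt → Finset GolayPt := fun o =>
    if ho : o ∈ octads then octOf ((y (indC o ho) : CC) : V24) else o
  have hg : ∀ o (ho : o ∈ octads), g o = octOf ((y (indC o ho) : CC) : V24) :=
    fun o ho => dif_pos ho
  apply Set.ncard_le_ncard_of_injOn g
  · rintro o ⟨ho, hodd⟩
    rw [hg o ho]
    obtain ⟨h1, h2⟩ := octOf_spec H hy ho
    refine ⟨h1, ?_⟩
    have e1 : dotB f ((y (indC o ho) : CC) : V24) = 1 := by
      rw [← hrel]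
      exact hodd
    rcases h2 with h2 | h2
    · rw [eq_of_add_eq_zero h2]
      exact e1
    · rw [eq_add_of_add_eq h2, map_add, dotB_oneW_right, hf, add_zero]
      exact e1
  · rintro o1 ⟨ho1, _⟩ o2 ⟨ho2, _⟩ h12
    rw [hg o1 ho1, hg o2 ho2] at h12
    obtain ⟨_, h1⟩ := octOf_spec H hy ho1
    obtain ⟨_, h2⟩ := octOf_spec H hy ho2
    rw [h12] at h1
    have hsum : ((y (indC o1 ho1) : CC) : V24) + ((y (indC o2 ho2) : CC) : V24) = 0 ∨
        ((y (indC o1 ho1) : CC) : V24) + ((y (indC o2 ho2) : CC) : V24) = oneW := by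
      rcases h1 with h1 | h1 <;> rcases h2 with h2 | h2
      · left; rw [add_eq_of_add_eq h1 h2, add_zero]
      · right; rw [add_eq_of_add_eq h1 h2, zero_add]
      · right; rw [add_eq_of_add_eq h1 h2, add_zero]
      · left; rw [add_eq_of_add_eq h1 h2, oneW_add_oneW]
    have hmap : ((y (indC o1 ho1 + indC o2 ho2) : CC) : V24) =
        ((y (indC o1 ho1) : CC) : V24) + ((y (indC o2 ho2) : CC) : V24) := by
      rw [map_add]
      rfl
    rcases hsum with hs | hs
    · have : y (indC o1 ho1 + indC o2 ho2) = 0 := by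
        apply Subtype.ext
        rw [hmap, hs]
        rfl
      have h0 := (LinearEquiv.map_eq_zero_iff y).mp this
      have h0' : indW o1 + indW o2 = 0 := congrArg Subtype.val h0
      have := congrArg support₂ (eq_of_add_eq_zero h0')
      rwa [support₂_indW, support₂_indW] at this
    · exfalso
      have hone : y oneC = oneC := H.h1 y hy oneC rfl
      have : y (indC o1 ho1 + indC o2 ho2) = y oneC := by
        rw [hone]
        apply Subtype.ext
        rw [hmap, hs]
        rfl
      have h0 := y.injective this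
      have h0' : indW o1 + indW o2 = oneW := congrArg Subtype.val h0
      have h3 := congrArg support₂ (eq_add_of_add_eq h0')
      rw [support₂_indW, support₂_add_one, support₂_indW] at h3
      have hc := congrArg Finset.card h3
      rw [Finset.card_compl, ((mem_octads_iff _).mp ho1).2, ((mem_octads_iff _).mp ho2).2,
        card_golayPt] at hc
      omega

theorem ncard_eq {X : Subgroup GLC} (H : Hyp X) {y : GLC} (hy : y ∈ X) {f f' : V24}
    (hf : ∑ p, f p = 0)
    (hrel : ∀ c : CC, dotB f' (c : V24) = dotB f ((y c : CC) : V24)) :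
    (oddOctads f').ncard = (oddOctads f).ncard := by
  apply le_antisymm (ncard_le H hy hf hrel)
  have hf' : ∑ p, f' p = 0 := by
    rw [← dotB_oneW_right]
    have := hrel oneC
    rw [H.h1 y hy oneC rfl] at this
    have e : dotB f' oneW = dotB f oneW := this
    rw [e, dotB_oneW_right, hf]
  apply ncard_le H (X.inv_mem hy) hf'
  intro c
  have := hrel (y⁻¹ c)
  have e : y (y⁻¹ c) = c := by
    simp only [LinearEquiv.coe_inv, LinearEquiv.apply_symm_apply]
  rw [e] at this
  exact this.symm

theorem ncard_act {X : Subgroup GLC} (H : Hyp X) {σ : Equiv.Perm GolayPt} (hσ : σ ∈ M24)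
    {f : V24} (hf : ∑ p, f p = 0) : (oddOctads (act σ f)).ncard = (oddOctads f).ncard := by
  obtain ⟨y, hy, hyc⟩ := H.hM σ⁻¹ (M24.inv_mem hσ)
  apply ncard_eq H hy hf
  intro c
  rw [hyc c, dotB_comm, dotB_act_right, dotB_comm]

theorem pairW_zero_one : pairW (pt 0) (pt 1) = decW 3 := by
  funext p
  revert p
  decide

theorem ncard_pair {X : Subgroup GLC} (H : Hyp X) {a b : GolayPt} (hab : a ≠ b) :
    (oddOctads (pairW a b)).ncard = 352 := by
  obtain ⟨σ, hσ, ha, hb⟩ := two_trans (p := pt 0) (q := pt 1) (by decide) hab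
  have : pairW a b = act σ (pairW (pt 0) (pt 1)) := by rw [act_pairW, ha, hb]
  rw [this, ncard_act H hσ (sum_pairW _ _), pairW_zero_one, ncard_oddOctads_three]

theorem ncard_tetrad {X : Subgroup GLC} (H : Hyp X) {g : V24} (hg : (support₂ g).card = 4) :
    (oddOctads g).ncard = 384 := by
  have hnd := (support₂ g).nodup_toList
  have hlen : (support₂ g).toList.length = 4 := by rw [Finset.length_toList, hg]
  obtain ⟨σ, hσ, hmap⟩ := m24_five_trans [pt 0, pt 1, pt 2, pt 3] (support₂ g).toList
    (by decide) hnd (by rw [hlen]; rfl) (by simp)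
  have hs : σ • ofMask 15 = support₂ g := by
    have e : ofMask 15 = [pt 0, pt 1, pt 2, pt 3].toFinset := by decide
    have e2 : ([pt 0, pt 1, pt 2, pt 3] : List GolayPt).toFinset.image σ =
        (([pt 0, pt 1, pt 2, pt 3] : List GolayPt).map σ).toFinset := by
      ext x
      simp
    rw [e, smul_finset_eq, e2, hmap, Finset.toList_toFinset]
  have hgd : g = act σ (decW 15) := by
    rw [← indW_ofMask, act_indW, hs, indW_support₂]
  have hev : ∑ p, decW 15 p = 0 := by
    rw [sum_decW]
    decide
  rw [hgd, ncard_act H hσ hev, ncard_oddOctads_fifteen]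

theorem oddOctads_zero : oddOctads (0 : V24) = ∅ := by
  ext o
  simp [oddOctads]

theorem exists_dual_pair {X : Subgroup GLC} (H : Hyp X) {y : GLC} (hy : y ∈ X) {a b : GolayPt}
    (hab : a ≠ b) : ∃ a' b' : GolayPt, a' ≠ b' ∧
      ∀ c : CC, dotB (pairW a' b') (c : V24) = dotB (pairW a b) ((y c : CC) : V24) := by
  obtain ⟨f', hf'⟩ := exists_dotB_repr golayCode
    ((dotB (pairW a b)).comp (golayCode.subtype.comp y.toLinearMap))
  have hrel : ∀ c : CC, dotB f' (c : V24) = dotB (pairW a b) ((y c : CC) : V24) := fun c => hf' c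
  have hf'even : ∑ p, f' p = 0 := by
    rw [← dotB_oneW_right]
    have := hrel oneC
    rw [H.h1 y hy oneC rfl] at this
    have e : dotB f' oneW = dotB (pairW a b) oneW := this
    rw [e, dotB_oneW_right, sum_pairW]
  obtain ⟨c0, hc0, hcases⟩ := even_coset_cases f' hf'even
  have hrel' : ∀ c : CC, dotB (f' + c0) (c : V24) = dotB (pairW a b) ((y c : CC) : V24) := by
    intro c
    have h0 : dotB c0 (c : V24) = 0 := by
      rw [dotB_apply]
      exact Cfsg.Agent.S0362.result c0 c hc0 c.2
    rw [map_add, LinearMap.add_apply, hrel, h0, add_zero]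
  have hN := ncard_eq H hy (sum_pairW a b) hrel'
  rw [ncard_pair H hab] at hN
  rcases hcases with h | ⟨a', b', hab', h⟩ | h
  · rw [h, oddOctads_zero, Set.ncard_empty] at hN
    omega
  · exact ⟨a', b', hab', by rw [← h]; exact hrel'⟩
  · rw [ncard_tetrad H h] at hN
    omega

theorem support_pairW_card_le (a b : GolayPt) : (support₂ (pairW a b)).card ≤ 2 := by
  by_cases hab : a = b
  · rw [hab, pairW_self]
    have : support₂ (0 : V24) = ∅ := by
      ext p
      rw [mem_support₂]
      simp
    rw [this]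
    simp
  · rw [support₂_pairW hab, Finset.card_pair hab]

theorem card_support_add_le (v w : V24) :
    (support₂ (v + w)).card ≤ (support₂ v).card + (support₂ w).card := by
  rw [Cfsg.Agent.Helper26.support₂_add]
  exact (Finset.card_le_card (Finset.symmDiff_subset_union)).trans (Finset.card_union_le _ _)

/-- Two words inducing the same functional on the code and differing in fewer than eight
places are equal. -/
theorem eq_of_dotB_eq {v w : V24} (h : ∀ c : CC, dotB v (c : V24) = dotB w (c : V24))
    (hlt : (support₂ (v + w)).card < 8) : v = w := by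
  have hmem : v + w ∈ golayCode := by
    rw [← orthogonal_golayCode, LinearMap.BilinForm.mem_orthogonal_iff]
    intro n hn
    rw [dotB_comm, map_add, LinearMap.add_apply, h ⟨n, hn⟩]
    exact zmod2_add_self _
  have hemp : support₂ (v + w) = ∅ := by
    by_contra hne
    have := min_weight _ ⟨v + w, hmem, rfl⟩ hne
    omega
  have h0 : v + w = 0 := by
    rw [← indW_support₂ (v + w), hemp]
    funext p
    simp [indW]
  exact eq_of_add_eq_zero h0

theorem pairW_comm (a b : GolayPt) : pairW a b = pairW b a := add_comm _ _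

theorem pairW_add (a b d : GolayPt) : pairW a b + pairW a d = pairW b d := by
  rw [pairW, pairW, pairW]
  calc Pi.single a 1 + Pi.single b 1 + (Pi.single a 1 + Pi.single d 1)
      = (Pi.single a 1 + Pi.single a 1) + (Pi.single b 1 + Pi.single d 1) := by abel
    _ = Pi.single b 1 + Pi.single d 1 := by rw [add_self_V, zero_add]

theorem dotB_pairW (p q : GolayPt) (v : V24) : dotB (pairW p q) v = v p + v q := by
  rw [pairW, map_add, LinearMap.add_apply, dotB_comm, dotB_single_right, dotB_comm,
    dotB_single_right]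

theorem main {X : Subgroup GLC} (H : Hyp X) {y : GLC} (hy : y ∈ X) :
    ∃ σ ∈ M24, ∀ c : CC, ((y c : CC) : V24) = act σ (c : V24) ∨
      ((y c : CC) : V24) = act σ (c : V24) + oneW := by
  classical
  have hex : ∀ ab : {ab : GolayPt × GolayPt // ab.1 ≠ ab.2}, ∃ a' b' : GolayPt, a' ≠ b' ∧
      ∀ c : CC, dotB (pairW a' b') (c : V24) = dotB (pairW ab.1.1 ab.1.2) ((y c : CC) : V24) :=
    fun ab => exists_dual_pair H hy ab.2
  choose A B hAB hrel using hex
  let dl : GolayPt → GolayPt → V24 := fun a b =>
    if h : a = b then 0 else pairW (A ⟨(a, b), h⟩) (B ⟨(a, b), h⟩)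
  have dl_ne : ∀ a b (h : a ≠ b), dl a b = pairW (A ⟨(a, b), h⟩) (B ⟨(a, b), h⟩) :=
    fun a b h => dif_neg h
  have dl_self : ∀ a, dl a a = 0 := fun a => dif_pos rfl
  have dl_rel : ∀ a b, a ≠ b → ∀ c : CC,
      dotB (dl a b) (c : V24) = dotB (pairW a b) ((y c : CC) : V24) := by
    intro a b h c
    rw [dl_ne a b h]
    exact hrel ⟨(a, b), h⟩ c
  have dl_card : ∀ a b, (support₂ (dl a b)).card ≤ 2 := by
    intro a b
    by_cases h : a = b
    · rw [h, dl_self, ← pairW_self b]
      exact support_pairW_card_le b b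
    · rw [dl_ne a b h]
      exact support_pairW_card_le _ _
  have hduad : ∀ a b, a ≠ b → ∃ a' b', a' ≠ b' ∧ dl a b = pairW a' b' :=
    fun a b h => ⟨_, _, hAB ⟨(a, b), h⟩, dl_ne a b h⟩
  have hsymm : ∀ a b, dl a b = dl b a := by
    intro a b
    by_cases h : a = b
    · rw [h]
    · apply eq_of_dotB_eq
      · intro c
        rw [dl_rel a b h, dl_rel b a (Ne.symm h), pairW_comm]
      · have := card_support_add_le (dl a b) (dl b a)
        have := dl_card a b
        have := dl_card b a
        omega
  have hadd : ∀ a b d, a ≠ b → a ≠ d → b ≠ d → dl a b + dl a d = dl b d := by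
    intro a b d h1 h2 h3
    apply eq_of_dotB_eq
    · intro c
      rw [map_add, LinearMap.add_apply, dl_rel a b h1, dl_rel a d h2, dl_rel b d h3,
        ← LinearMap.add_apply, ← map_add, pairW_add]
    · have := card_support_add_le (dl a b + dl a d) (dl b d)
      have := card_support_add_le (dl a b) (dl a d)
      have := dl_card a b
      have := dl_card a d
      have := dl_card b d
      omega
  have hinj : ∀ a b d e, a ≠ b → d ≠ e → dl a b = dl d e → pairW a b = pairW d e := by
    intro a b d e h1 h2 heq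
    apply eq_of_dotB_eq
    · intro c
      have e1 := dl_rel a b h1 (y⁻¹ c)
      have e2 := dl_rel d e h2 (y⁻¹ c)
      have e3 : y (y⁻¹ c) = c := by
        simp only [LinearEquiv.coe_inv, LinearEquiv.apply_symm_apply]
      rw [e3] at e1 e2
      rw [← e1, ← e2, heq]
    · have := card_support_add_le (pairW a b) (pairW d e)
      have := support_pairW_card_le a b
      have := support_pairW_card_le d e
      omega
  obtain ⟨π, hπinj, hπ⟩ := exists_point_map dl hduad hsymm hadd hinj
  have hval : ∀ (c : CC) (a b : GolayPt),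
      (c : V24) (π a) + (c : V24) (π b) = ((y c : CC) : V24) a + ((y c : CC) : V24) b := by
    intro c a b
    by_cases hab : a = b
    · rw [hab, zmod2_add_self, zmod2_add_self]
    · have := dl_rel a b hab c
      rw [hπ a b hab, dotB_pairW, dotB_pairW] at this
      exact this
  let πe : Equiv.Perm GolayPt := Equiv.ofBijective π (Finite.injective_iff_bijective.mp hπinj)
  have hact : ∀ (v : V24) (p : GolayPt), act πe⁻¹ v p = v (π p) := fun v p => rfl
  have hconst : ∀ c : CC, ((y c : CC) : V24) = act πe⁻¹ (c : V24) ∨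
      ((y c : CC) : V24) = act πe⁻¹ (c : V24) + oneW := by
    intro c
    have hw : ∀ a : GolayPt, ((y c : CC) : V24) a + act πe⁻¹ (c : V24) a =
        ((y c : CC) : V24) (pt 0) + act πe⁻¹ (c : V24) (pt 0) := by
      intro a
      have := hval c a (pt 0)
      rw [hact, hact]
      generalize (c : V24) (π a) = x1 at this ⊢
      generalize (c : V24) (π (pt 0)) = x2 at this ⊢
      generalize ((y c : CC) : V24) a = x3 at this ⊢
      generalize ((y c : CC) : V24) (pt 0) = x4 at this ⊢
      revert x1 x2 x3 x4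
      decide
    have hz : ∀ z : ZMod 2, z = 0 ∨ z = 1 := by decide
    rcases hz (((y c : CC) : V24) (pt 0) + act πe⁻¹ (c : V24) (pt 0)) with h0 | h0
    · left
      apply eq_of_add_eq_zero
      funext a
      rw [Pi.add_apply, hw a, h0]
      rfl
    · right
      have : ((y c : CC) : V24) + act πe⁻¹ (c : V24) = oneW := by
        funext a
        rw [Pi.add_apply, hw a, h0]
      rw [eq_add_of_add_eq this]
  have hσ : πe⁻¹ ∈ M24 := by
    apply mem_M24_of_key
    intro t
    have hq : qrWord t ∈ golayCode := Submodule.subset_span (Or.inl ⟨t, rfl⟩)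
    show act πe⁻¹ (qrWord t) ∈ golayCode
    rcases hconst ⟨qrWord t, hq⟩ with h | h
    · have e : act πe⁻¹ (qrWord t) = ((y ⟨qrWord t, hq⟩ : CC) : V24) := h.symm
      rw [e]
      exact (y ⟨qrWord t, hq⟩).2
    · have e : act πe⁻¹ (qrWord t) = ((y ⟨qrWord t, hq⟩ : CC) : V24) + oneW := by
        rw [h, add_oneW_add_oneW]
      rw [e]
      exact golayCode.add_mem (y ⟨qrWord t, hq⟩).2 oneW_mem_golayCode
  exact ⟨πe⁻¹, hσ, hconst⟩

/-- Let X be a group of linear automorphisms of the length-24 binary Golay code of the definitions that fix the all-ones word, containing the coordinate-permutation action of every element of the code's automorphism group (the Mathieu group of degree 24), and such that every element of X sends each codeword into its orbit under that Mathieu group up to adding the all-ones word (X has the same orbits as the Mathieu group on the code modulo the all-ones word). Then every element of X agrees, modulo the all-ones word, with the action of a single element of the Mathieu group: X induces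 exactly the Mathieu group on the code modulo the all-ones word. -/
theorem result (X : Subgroup (↥Cfsg.golayCode ≃ₗ[ZMod 2] ↥Cfsg.golayCode)) (h1 : ∀ x ∈ X, ∀ e : ↥Cfsg.golayCode, (e : (Cfsg.GolayPt → ZMod 2)) = (fun _ => (1 : ZMod 2)) → x e = e) (hM : ∀ σ ∈ Cfsg.M24, ∃ x ∈ X, ∀ c : ↥Cfsg.golayCode, ((x c : ↥Cfsg.golayCode) : (Cfsg.GolayPt → ZMod 2)) = fun p => (c : (Cfsg.GolayPt → ZMod 2)) (σ.symm p)) (horb : ∀ x ∈ X, ∀ c : ↥Cfsg.golayCode, ∃ σ ∈ Cfsg.M24, ((x c : ↥Cfsg.golayCode) : (Cfsg.GolayPt → ZMod 2)) = (fun p => (c : (Cfsg.GolayPt → ZMod 2)) (σ.symm p)) ∨ ((x c : ↥Cfsg.golayCode) : (Cfsg.GolayPt → ZMod 2)) = (fun p => (c : (Cfsg.GolayPt → ZMod 2)) (σ.symm p)) + fun _ => (1 : ZMod 2)) (x : ↥Cfsg.golayCode ≃ₗ[ZMod 2] ↥Cfsg.golayCode) (hx : x ∈ X) : ∃ σ ∈ Cfsg.M24, ∀ c : ↥Cfsg.golayCode, ((x c : ↥Cfsg.golayCode) : (Cfsg.GolayPt → ZMod 2)) = (fun p => (c : (Cfsg.GolayPt → ZMod 2)) (σ.symm p)) ∨ ((x c : ↥Cfsg.golayCode) : (Cfsg.GolayPt → ZMod 2)) = (fun p => (c : (Cfsg.GolayPt → ZMod 2)) (σ.symm p)) + fun _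 => (1 : ZMod 2) :=
  main (X := X) ⟨h1, hM, horb⟩ hx

end Cfsg.Agent.S5549
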