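import Cfsg.Statements.S5550
import Cfsg.Agent.Lib.Helper91.Coinv

set_option autoImplicit false
open Cfsg

namespace Cfsg.Agent.S5550

open Cfsg.Agent.Helper91 Cfsg.Agent.Helper7 Pointwise in
/-- Let u be a word of the length-24 binary Golay code of the definitions (possibly zero or all-ones) and w any binary word of length 24 outside the code. Then some automorphism of the code (a coordinate permutation preserving it) fixes u but moves w to a word not congruent to w modulo the code: the stabilizer of a codeword fixes no non-zero element of the quotient of the space of all words by the code. -/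
theorem result (u : (Cfsg.GolayPt → ZMod 2)) (hu : u ∈ Cfsg.golayCode) (w : (Cfsg.GolayPt → ZMod 2)) (hw : w ∉ Cfsg.golayCode) : ∃ σ ∈ Cfsg.M24, (fun p => u (σ.symm p)) = u ∧ (fun p => w (σ.symm p)) - w ∉ Cfsg.golayCode := by
  have hfix : ∀ (σ : Equiv.Perm GolayPt) (b : Finset GolayPt), σ • b = b →
      act σ (indW b) = indW b := by
    intro σ b hb
    rw [act_indW, hb]
  by_cases h0 : u = 0
  · obtain ⟨σ, hσ, -, hm⟩ := noFixedCoset_octad (ofMask_mem_octads mask_facts.1) w hw
    exact ⟨σ, hσ, by rw [h0]; rfl, hm⟩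
  by_cases h1 : u = oneW
  · obtain ⟨σ, hσ, -, hm⟩ := noFixedCoset_octad (ofMask_mem_octads mask_facts.1) w hw
    exact ⟨σ, hσ, by rw [h1], hm⟩
  have hb : support₂ u ∈ supports (golayCode : Set W) := ⟨u, hu, rfl⟩
  rcases card_support_cases hu h0 h1 with h | h | h
  · obtain ⟨σ, hσ, hf, hm⟩ := noFixedCoset_octad ((mem_octads_iff _).mpr ⟨hb, h⟩) w hw
    refine ⟨σ, hσ, ?_, hm⟩
    have := hfix σ _ hf
    rwa [indW_support₂] at this
  · obtain ⟨σ, hσ, hf, hm⟩ := noFixedCoset_dodecad ((mem_dodecads_iff _).mpr ⟨hb, h⟩) w hw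
    refine ⟨σ, hσ, ?_, hm⟩
    have := hfix σ _ hf
    rwa [indW_support₂] at this
  · have hc' : u + oneW ∈ golayCode := golayCode.add_mem hu oneW_mem_golayCode
    have hb' : support₂ (u + oneW) ∈ supports (golayCode : Set W) := ⟨_, hc', rfl⟩
    have hcard : (support₂ (u + oneW)).card = 8 := by
      rw [support₂_add_one, Finset.card_compl, h, card_golayPt]
    obtain ⟨σ, hσ, hf, hm⟩ := noFixedCoset_octad ((mem_octads_iff _).mpr ⟨hb', hcard⟩) w hw
    refine ⟨σ, hσ, ?_, hm⟩
    have := hfix σ _ hf
    rw [indW_support₂, act_add, act_one] at this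
    exact add_right_cancel this

end Cfsg.Agent.S5550
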