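import Cfsg.Statements.S5553
import Cfsg.Agent.Lib.Helper92.LeechIndex

set_option autoImplicit false
open Cfsg

namespace Cfsg.Agent.S5553

/-- The Leech lattice of the definitions has an additive subgroup A containing twice the lattice, of index 2^12 in the lattice, all of whose vectors have squared length divisible by 32: the invariant quadratic form 'squared length over 16 modulo 2' on the lattice modulo twice the lattice (a 24-dimensional space over the field with two elements) vanishes on a 12-dimensional subspace, so it is of plus type. -/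
theorem result : ∃ A : AddSubgroup (Cfsg.GolayPt → ℤ), A ≤ Cfsg.leechLattice ∧ (∀ v ∈ Cfsg.leechLattice, (2 : ℤ) • v ∈ A) ∧ (A.addSubgroupOf Cfsg.leechLattice).index = 2 ^ 12 ∧ ∀ v ∈ A, (32 : ℤ) ∣ Cfsg.sqNorm v := by
  refine ⟨Cfsg.Agent.Helper92.phi.ker.map Cfsg.leechLattice.subtype, ?_, ?_, ?_, ?_⟩
  · rintro x ⟨v, -, rfl⟩
    exact v.2
  · intro v hv
    refine ⟨⟨v, hv⟩ + ⟨v, hv⟩, ?_, ?_⟩
    · rw [SetLike.mem_coe, AddMonoidHom.mem_ker, map_add]
      funext i
      simp only [Pi.add_apply, Pi.zero_apply]
      exact CharTwo.add_self_eq_zero _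
    · simp only [AddSubgroup.coe_subtype, AddSubgroup.coe_add]
      rw [two_smul]
  · unfold AddSubgroup.addSubgroupOf
    rw [AddSubgroup.comap_map_eq_self_of_injective Cfsg.leechLattice.subtype_injective]
    exact Cfsg.Agent.Helper92.index_phi_ker
  · rintro x ⟨v, hv, rfl⟩
    rw [SetLike.mem_coe, AddMonoidHom.mem_ker] at hv
    exact Cfsg.Agent.Helper92.sqNorm_kernel v.2 hv

end Cfsg.Agent.S5553
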