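import Cfsg.Statements.S5555
import Mathlib
import Cfsg.Agent.S0215
import Cfsg.Agent.S0827
import Cfsg.Agent.Lib.Helper88.TTPerpMain

set_option autoImplicit false
open Cfsg

namespace Cfsg.Agent.S5555

/-- commuting involutions of `SU_3(2)` are equal -/
theorem su3_invol_eq {F : Type*} [Field F] [Fintype F] (hF : Fintype.card F = 4)
    {x y : SU 3 F 2} (hx : x * x = 1) (hy : y * y = 1) (hx1 : x ≠ 1) (hy1 : y ≠ 1)
    (hxy : x * y = y * x) : x = y := by
  have hmon : ∀ z : SU 3 F 2, z * z = 1 →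
      z ∈ (Cfsg.Agent.S5908.monSub : Subgroup (SU 3 F 2)) := by
    intro z hz
    apply Cfsg.Agent.S5908.mem_monSub_of_zero hF
    apply Cfsg.Agent.S5908.exists_zero_of_sq_scalar hF (Cfsg.Agent.S5908.mat_unitary z) 1
    rw [← Cfsg.Agent.S5908.mat_mul, hz, Cfsg.Agent.S5908.mat_one, one_smul]
  have h32 : ∀ z : SU 3 F 2, z ^ 3 = 1 → z * z = 1 → z = 1 := by
    intro z h3 h2
    calc z = z ^ 3 * (z * z)⁻¹ := by rw [pow_succ, pow_two]; group
      _ = 1 := by rw [h3, h2]; simp
  have hanti : ∀ z : SU 3 F 2, z * z = 1 → z ≠ 1 →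
      Cfsg.Agent.S0827.Anti (Cfsg.Agent.S5908.mat z) := by
    intro z hz hz1
    rcases Cfsg.Agent.S0827.mem_E_or_anti (hmon z hz) with h | h
    · exact absurd (h32 z (Cfsg.Agent.S0827.pow_three_of_mem_E hF h) hz) hz1
    · exact h
  have hcyc : Cfsg.Agent.S0827.Cyc (Cfsg.Agent.S5908.mat (x * y)) := by
    rw [Cfsg.Agent.S5908.mat_mul]
    exact (hanti x hx hx1).mul_anti (hanti y hy hy1)
  have hE : x * y ∈ (Cfsg.Agent.S0827.E : Subgroup (SU 3 F 2)) :=
    (Cfsg.Agent.S0827.mem_E _).mpr hcyc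
  have h3 := Cfsg.Agent.S0827.pow_three_of_mem_E hF hE
  have h2 : (x * y) * (x * y) = 1 := by
    calc x * y * (x * y) = x * (y * x) * y := by group
      _ = x * (x * y) * y := by rw [hxy]
      _ = (x * x) * (y * y) := by group
      _ = 1 := by rw [hx, hy, one_mul]
  have h1 : x * y = 1 := h32 _ h3 h2
  have h4 := eq_inv_of_mul_eq_one_left h1
  rw [h4]
  exact inv_eq_of_mul_eq_one_left hy

open Cfsg.Agent.Helper88 Cfsg.Agent.Helper88.TTPerp in
/-- Let G be a finite group generated by a conjugacy class D of 3-transpositions, with trivial centre and with generalized Fitting subgroup F*(G) = O₂(G) (so the Fitting subgroup is O₂(G) too). If G/O₂(G) is isomorphic to the derived group of SU₃(2) (the group of order 54 generated by nine 3-transpositions), then O₂(G) has a complement in G. -/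
theorem result {G : Type*} [Group G] [Finite G] {D : Set G} (hD : Cfsg.IsThreeTranspositionClass D)
    (hZ : Subgroup.center G = ⊥) (hF : Cfsg.generalizedFittingSubgroup G = Cfsg.pCore 2 G)
    (hq : ∃ (F : Type) (_ : Field F) (_ : Fintype F), Fintype.card F = 4 ∧ Nonempty (G ⧸ Cfsg.pCore 2 G ≃* ↥(commutator ↥(Cfsg.SU 3 F 2)))) :
    ∃ K : Subgroup G, (Cfsg.pCore 2 G).IsComplement' K := by
  obtain ⟨F, instF, instFt, hF4, ⟨φ⟩⟩ := hq
  have : Fact (Nat.Prime 2) := ⟨Nat.prime_two⟩
  have : Fact (Nat.Prime 3) := ⟨Nat.prime_three⟩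
  have hT : TT D := TT.of_class hD
  have hNn : (Cfsg.pCore 2 G).Normal := pCore_normal 2 G
  have hN2 : IsPGroup 2 (Cfsg.pCore 2 G) := pCore_isPGroup 2 G
  obtain ⟨d, hd, hDconj⟩ := hD.2.1
  by_cases hDN : ∃ x ∈ D, x ∈ Cfsg.pCore 2 G
  · obtain ⟨x, hx, hxN⟩ := hDN
    have htop : Cfsg.pCore 2 G = ⊤ := by
      rw [eq_top_iff, ← hD.2.2, Subgroup.closure_le]
      intro y hy
      have hx' : x ∈ conjugatesOf d := by rw [← hDconj]; exact hx
      have hy' : y ∈ conjugatesOf d := by rw [← hDconj]; exact hy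
      obtain ⟨g1, hg1⟩ := isConj_iff.mp (hx' : IsConj d x)
      obtain ⟨g2, hg2⟩ := isConj_iff.mp (hy' : IsConj d y)
      have e : y = (g2 * g1⁻¹) * x * (g2 * g1⁻¹)⁻¹ := by rw [← hg1, ← hg2]; group
      rw [e]
      exact hNn.conj_mem x hxN _
    rw [htop]
    exact ⟨⊥, Subgroup.isComplement'_top_bot⟩
  · push Not at hDN
    have hkey : ∀ a ∈ D, ∀ b ∈ D, Commute a b → a * b ∈ Cfsg.pCore 2 G := by
      intro a ha b hb hab
      have hne : ∀ c ∈ D, φ (c : G ⧸ Cfsg.pCore 2 G) ≠ 1 := by
        intro c hc h1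
        have h2 : (c : G ⧸ Cfsg.pCore 2 G) = 1 := by
          apply φ.injective; rw [h1, map_one]
        exact hDN c hc ((QuotientGroup.eq_one_iff c).mp h2)
      have hsq : ∀ c ∈ D, φ (c : G ⧸ Cfsg.pCore 2 G) * φ (c : G ⧸ Cfsg.pCore 2 G) = 1 := by
        intro c hc
        rw [← map_mul, ← QuotientGroup.mk_mul, hT.sq c hc]
        exact map_one φ
      have hcomm : φ (a : G ⧸ Cfsg.pCore 2 G) * φ (b : G ⧸ Cfsg.pCore 2 G)
          = φ (b : G ⧸ Cfsg.pCore 2 G) * φ (a : G ⧸ Cfsg.pCore 2 G) := by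
        rw [← map_mul, ← map_mul, ← QuotientGroup.mk_mul, ← QuotientGroup.mk_mul, hab.eq]
      have hval : ((φ (a : G ⧸ Cfsg.pCore 2 G) : ↥(commutator ↥(Cfsg.SU 3 F 2))) : SU 3 F 2)
          = ((φ (b : G ⧸ Cfsg.pCore 2 G) : ↥(commutator ↥(Cfsg.SU 3 F 2))) : SU 3 F 2) := by
        apply su3_invol_eq hF4
        · have := congrArg Subtype.val (hsq a ha); simpa using this
        · have := congrArg Subtype.val (hsq b hb); simpa using this
        · intro h; exact hne a ha (Subtype.ext h)
        · intro h; exact hne b hb (Subtype.ext h)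
        · have := congrArg Subtype.val hcomm; simpa using this
      have hab' : (a : G ⧸ Cfsg.pCore 2 G) = (b : G ⧸ Cfsg.pCore 2 G) :=
        φ.injective (Subtype.ext hval)
      rw [QuotientGroup.eq, hT.inv_eq ha] at hab'
      exact hab'
    have hC : TC D := by
      refine ⟨hT, ?_, hD.2.2, ?_, ?_⟩
      · intro x hx h1
        have := hD.1.1 x hx
        rw [h1, orderOf_one] at this
        omega
      · intro a ha b hb c hc hab hbc
        apply commute_of_mem hT ha hc hN2
        have e : a * c = (a * b) * (b * c) := by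
          calc a * c = a * 1 * c := by group
            _ = a * (b * b) * c := by rw [hT.sq b hb]
            _ = _ := by group
        rw [e]
        exact Subgroup.mul_mem _ (hkey a ha b hb hab) (hkey b hb c hc hbc)
      · by_contra hcon
        push Not at hcon
        have h2 : IsPGroup 2 (Subgroup.closure D) :=
          isPGroup_two_closure (fun x hx => hT.sq x hx) hcon
        have htn : (Subgroup.closure D).Normal := by rw [hD.2.2]; infer_instance
        have hle := le_pCore htn h2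
        exact hDN d hd (hle (Subgroup.subset_closure hd))
    have hN : Core D (Cfsg.pCore 2 G) := ⟨hN2, hkey⟩
    obtain ⟨D₀, hS⟩ := exists_section
      (fun G _ _ P x hx hxP hiso => Cfsg.Agent.S0215.result P x hx hxP hiso) (Nat.card G) G D rfl hC
      d hd
    obtain ⟨P, h1, h2⟩ := sylow_of_section
      (fun G _ _ P x hx hxP hiso => Cfsg.Agent.S0215.result P x hx hxP hiso) hC (Cfsg.pCore 2 G) hN hS
    refine ⟨Subgroup.zpowers d ⊔ (P : Subgroup G), ?_⟩
    have hdd : d * d = 1 := hT.sq d hd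
    have hPd : ∀ x ∈ (P : Subgroup G), d * x * d⁻¹ ∈ (P : Subgroup G) :=
      fun x hx => (Subgroup.mem_normalizer_iff.mp h1 x).mp hx
    apply Subgroup.isComplement'_of_disjoint_and_mul_eq_univ
    · rw [Subgroup.disjoint_def]
      intro x hxN hxK
      have hle : Subgroup.zpowers d ⊔ (P : Subgroup G) ≤ adjoin (P : Subgroup G) d hdd hPd := by
        apply sup_le
        · rw [Subgroup.zpowers_le]
          right
          rw [hdd]; exact Subgroup.one_mem _
        · intro p hp; exact Or.inl hp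
      rcases hle hxK with hxP | hxP
      · exact Subgroup.disjoint_def.mp
          (IsPGroup.disjoint_of_ne 2 3 (by norm_num) _ _ hN2 P.isPGroup') hxN hxP
      · exfalso
        have hT2 : IsPGroup 2 (Cfsg.pCore 2 G ⊔ Subgroup.zpowers d : Subgroup G) :=
          IsPGroup.to_sup_of_normal_left hN2 (isPGroup_two_zpowers hdd)
        have hmem : x * d ∈ Cfsg.pCore 2 G ⊔ Subgroup.zpowers d :=
          Subgroup.mul_mem _ (Subgroup.mem_sup_left hxN)
            (Subgroup.mem_sup_right (Subgroup.mem_zpowers d))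
        have h3 : x * d = 1 := Subgroup.disjoint_def.mp
          (IsPGroup.disjoint_of_ne 2 3 (by norm_num) _ _ hT2 P.isPGroup') hmem hxP
        apply hDN d hd
        have e : d = x⁻¹ := (eq_inv_of_mul_eq_one_right h3)
        rw [e]; exact Subgroup.inv_mem _ hxN
    · rw [← Subgroup.normal_mul, Subgroup.coe_eq_univ, eq_top_iff, ← h2]
      refine sup_le ?_ le_sup_left
      exact le_sup_right

end Cfsg.Agent.S5555
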