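import Cfsg.Statements.S5562

set_option autoImplicit false
open Cfsg

namespace Cfsg.Agent.S5562

/-- conjugates of an involution square to one -/
theorem sq_of_mem {G : Type*} [Group G] {d e : G} (hd : d * d = 1) (he : e ∈ conjugatesOf d) :
    e * e = 1 := by
  obtain ⟨c, rfl⟩ := isConj_iff.mp he
  calc c * d * c⁻¹ * (c * d * c⁻¹) = c * (d * d) * c⁻¹ := by group
    _ = 1 := by rw [hd]; group

theorem conj_mem {G : Type*} [Group G] {d e : G} (he : e ∈ conjugatesOf d) (c : G) :
    c * e * c⁻¹ ∈ conjugatesOf d :=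
  IsConj.trans he (isConj_iff.mpr ⟨c, rfl⟩)

theorem pow_odd_of_sq {G : Type*} [Group G] {t : G} (ht : t * t = 1) {n : ℕ} (hn : Odd n) :
    t ^ n = t := by
  obtain ⟨k, rfl⟩ := hn
  rw [pow_succ, pow_mul, pow_two, ht, one_pow, one_mul]

/-- the key computation for uniqueness -/
theorem key_unique {G : Type*} [Group G] {e x a : G} (hxx : x * x = 1)
    (hax : Commute a x) (hea : Commute e (a * x)) (haa : a * a = 1) {o : ℕ} (ho : Odd o)
    (hpow : (e * a) ^ o = 1) : a * x = (e * x) ^ o := by
  set t := a * x with ht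
  have htx : Commute t x := by
    show a * x * x = x * (a * x)
    rw [← mul_assoc, ← hax.eq]
  have hte : Commute t e := hea.symm
  have htr : Commute t (e * x) := hte.mul_right htx
  have htt : t * t = 1 := by
    show a * x * (a * x) = 1
    calc a * x * (a * x) = a * (x * a) * x := by group
      _ = a * (a * x) * x := by rw [hax.eq]
      _ = (a * a) * (x * x) := by group
      _ = 1 := by rw [haa, hxx, one_mul]
  have hea' : e * a = t * (e * x) := by
    have : a = t * x := by
      show a = a * x * x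
      rw [mul_assoc, hxx, mul_one]
    calc e * a = e * (t * x) := by rw [← this]
      _ = (e * t) * x := by group
      _ = (t * e) * x := by rw [hte.eq]
      _ = t * (e * x) := by group
  rw [hea', htr.mul_pow, pow_odd_of_sq htt ho] at hpow
  -- t * r^o = 1
  have h1 : (e * x) ^ o = t⁻¹ := eq_inv_of_mul_eq_one_right hpow
  have h2 : t⁻¹ = t := inv_eq_of_mul_eq_one_left htt
  rw [h1, h2]

theorem result {G : Type*} [Group G] [Finite G] (d : G) (hd : orderOf d = 2)
    (hodd : ∀ a ∈ conjugatesOf d, ∀ b ∈ conjugatesOf d, Odd (orderOf (a * b)))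
    (x : G) (hx : orderOf x = 2) :
    ∀ e ∈ conjugatesOf d,
      ∃! a : G, a ∈ conjugatesOf d ∧ Commute a x ∧ Commute e (a * x) := by
  intro e he
  have hxx : x * x = 1 := by rw [← pow_two, ← hx, pow_orderOf_eq_one]
  have hdd : d * d = 1 := by rw [← pow_two, ← hd, pow_orderOf_eq_one]
  have hee : e * e = 1 := sq_of_mem hdd he
  have hxinv : x⁻¹ = x := inv_eq_of_mul_eq_one_left hxx
  have heinv : e⁻¹ = e := inv_eq_of_mul_eq_one_left hee
  -- uniqueness part as a separate fact
  have huniq : ∀ a₁ a₂ : G, (a₁ ∈ conjugatesOf d ∧ Commute a₁ x ∧ Commute e (a₁ * x)) →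
      (a₂ ∈ conjugatesOf d ∧ Commute a₂ x ∧ Commute e (a₂ * x)) → a₁ = a₂ := by
    rintro a₁ a₂ ⟨h1d, h1x, h1e⟩ ⟨h2d, h2x, h2e⟩
    have ho1 := hodd e he a₁ h1d
    have ho2 := hodd e he a₂ h2d
    have k1 := key_unique hxx h1x h1e (sq_of_mem hdd h1d) ho1 (pow_orderOf_eq_one _)
    have k2 := key_unique hxx h2x h2e (sq_of_mem hdd h2d) ho2 (pow_orderOf_eq_one _)
    have s1 : (a₁ * x) * (a₁ * x) = 1 := by
      calc a₁ * x * (a₁ * x) = a₁ * (x * a₁) * x := by group
        _ = a₁ * (a₁ * x) * x := by rw [h1x.eq]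
        _ = (a₁ * a₁) * (x * x) := by group
        _ = 1 := by rw [sq_of_mem hdd h1d, hxx, one_mul]
    have s2 : (a₂ * x) * (a₂ * x) = 1 := by
      calc a₂ * x * (a₂ * x) = a₂ * (x * a₂) * x := by group
        _ = a₂ * (a₂ * x) * x := by rw [h2x.eq]
        _ = (a₂ * a₂) * (x * x) := by group
        _ = 1 := by rw [sq_of_mem hdd h2d, hxx, one_mul]
    have e1 : a₁ * x = (e * x) ^ (orderOf (e * a₁) * orderOf (e * a₂)) := by
      rw [pow_mul, ← k1, pow_odd_of_sq s1 ho2]
    have e2 : a₂ * x = (e * x) ^ (orderOf (e * a₁) * orderOf (e * a₂)) := by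
      rw [mul_comm, pow_mul, ← k2, pow_odd_of_sq s2 ho1]
    exact mul_right_cancel (e1.trans e2.symm)
  -- existence
  set y := e * x * e * x with hy
  have hyodd : Odd (orderOf y) := by
    have := hodd e he (x * e * x⁻¹) (conj_mem he x)
    rw [hxinv] at this
    have h2 : e * (x * e * x) = y := by rw [hy]; group
    rwa [h2] at this
  obtain ⟨k, hk⟩ := hyodd
  have hym : y ^ (2 * k + 1) = 1 := by rw [← hk, pow_orderOf_eq_one]
  -- e and x invert y
  have hey : e * y * e⁻¹ = y⁻¹ := by
    rw [hy, heinv]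
    have : (e * x * e * x)⁻¹ = x⁻¹ * e⁻¹ * x⁻¹ * e⁻¹ := by group
    rw [this, hxinv, heinv]
    calc e * (e * x * e * x) * e = (e * e) * x * e * x * e := by group
      _ = x * e * x * e := by rw [hee, one_mul]
  have hxy : x * y * x⁻¹ = y⁻¹ := by
    rw [hy, hxinv]
    have : (e * x * e * x)⁻¹ = x⁻¹ * e⁻¹ * x⁻¹ * e⁻¹ := by group
    rw [this, hxinv, heinv]
    calc x * (e * x * e * x) * x = x * e * x * e * (x * x) := by group
      _ = x * e * x * e := by rw [hxx, mul_one]
  have heyp : ∀ j : ℕ, e * y ^ j * e⁻¹ = (y ^ j)⁻¹ := by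
    intro j
    rw [← conj_pow, hey, inv_pow]
  have hxyp : ∀ j : ℕ, x * y ^ j * x⁻¹ = (y ^ j)⁻¹ := by
    intro j
    rw [← conj_pow, hxy, inv_pow]
  set w := y ^ (k + 1) with hw
  set v := y ^ ((k + 1) * (k + 1)) with hv
  have hvv : v * v = w := by
    rw [hv, hw, ← pow_add]
    have : (k + 1) * (k + 1) + (k + 1) * (k + 1) = (2 * k + 1) * (k + 1) + (k + 1) := by ring
    rw [this, pow_add, pow_mul, hym, one_pow, one_mul]
  -- y * w⁻¹ = w
  have hyw : y * w⁻¹ = w := by
    apply mul_inv_eq_of_eq_mul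
    rw [hw, ← pow_add]
    have : k + 1 + (k + 1) = (2 * k + 1) + 1 := by ring
    rw [this, pow_succ, hym, one_mul]
  have hxe : x * e = e * y * x := by
    rw [hy]
    calc x * e = (e * e) * x * e * (x * x) := by rw [hee, hxx]; group
      _ = e * (e * x * e * x) * x := by group
  have hxw : x * w = w⁻¹ * x := by
    have h1 := hxyp (k + 1)
    rw [← hw, hxinv] at h1
    calc x * w = x * w * (x * x) := by rw [hxx, mul_one]
      _ = (x * w * x) * x := by group
      _ = w⁻¹ * x := by rw [h1]
  have hew : e * w = w⁻¹ * e := by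
    have h1 := heyp (k + 1)
    rw [← hw, heinv] at h1
    calc e * w = e * w * (e * e) := by rw [hee, mul_one]
      _ = (e * w * e) * e := by group
      _ = w⁻¹ * e := by rw [h1]
  have hmem : e * w ∈ conjugatesOf d := by
    have : e * w = v⁻¹ * e * v⁻¹⁻¹ := by
      have h1 := heyp ((k + 1) * (k + 1))
      rw [← hv, heinv] at h1
      rw [inv_inv, ← h1, ← hvv]
      calc e * (v * v) = e * v * (e * e) * v := by rw [hee]; group
        _ = e * v * e * e * v := by group
    rw [this]
    exact conj_mem he _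
  have hcx : Commute (e * w) x := by
    show e * w * x = x * (e * w)
    calc e * w * x = e * (y * w⁻¹) * x := by rw [hyw]
      _ = e * y * (w⁻¹ * x) := by group
      _ = e * y * (x * w) := by rw [hxw]
      _ = (e * y * x) * w := by group
      _ = x * e * w := by rw [← hxe]
      _ = x * (e * w) := by group
  have hexy : y * x * e = e * x := by
    rw [hy]
    calc e * x * e * x * x * e = e * x * e * (x * x) * e := by group
      _ = e * x * (e * e) := by rw [hxx]; group
      _ = e * x := by rw [hee, mul_one]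
  have hwy : w⁻¹ * y = w := by
    have hc : Commute y w⁻¹ := ((Commute.refl y).pow_right (k + 1)).inv_right
    rw [← hc.eq, hyw]
  have hce : Commute e (e * w * x) := by
    show e * (e * w * x) = e * w * x * e
    calc e * (e * w * x) = e * (e * w) * x := by group
      _ = e * (w⁻¹ * e) * x := by rw [hew]
      _ = e * w⁻¹ * (e * x) := by group
      _ = e * w⁻¹ * (y * x * e) := by rw [hexy]
      _ = e * (w⁻¹ * y) * x * e := by group
      _ = e * w * x * e := by rw [hwy]
  exact ⟨e * w, ⟨hmem, hcx, hce⟩, fun a' ha' => huniq a' (e * w) ha' ⟨hmem, hcx, hce⟩⟩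

end Cfsg.Agent.S5562
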