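import Mathlib
import Cfsg.Statements.S5594
import Cfsg.Agent.Lib.Helper92.Monomial
import Cfsg.Agent.Lib.Helper7.Gens

set_option autoImplicit false
open Cfsg

namespace Cfsg.Agent.S5594
open Cfsg.Agent.Helper7 Cfsg.Agent.Helper92

/-- the dodecad of squares -/
def dod : Finset GolayPt := support₂ (qrWord 0)

theorem dod_mem : dod ∈ Code := ⟨qrWord 0, Submodule.subset_span (Or.inl ⟨0, rfl⟩), rfl⟩

/-- sign changes on the dodecad of squares composed with `x ↦ -1/x` -/
def T (x : GolayPt → ℤ) : GolayPt → ℤ := signedPerm projInv dod x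

theorem projInv_symm_symm : ∀ i : GolayPt, projInv.symm (projInv.symm i) = i := by decide

theorem dod_swap : ∀ i : GolayPt, (i ∈ dod) ↔ ¬ (projInv.symm i ∈ dod) := by
  intro i
  rw [dod, mem_support₂, mem_support₂]
  revert i
  decide

theorem T_T (x : GolayPt → ℤ) : T (T x) = -x := by
  funext i
  simp only [T, signedPerm_apply, Pi.neg_apply, projInv_symm_symm]
  by_cases hi : i ∈ dod
  · have := (dod_swap i).mp hi
    simp [hi, this]
  · have : projInv.symm i ∈ dod := by
      by_contra h
      exact hi ((dod_swap i).mpr h)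
    simp [hi, this]

theorem T_mem {x : GolayPt → ℤ} (hx : x ∈ leechLattice) : T x ∈ leechLattice :=
  signedPerm_mem_leechLattice hx projInv_mem dod_mem

/-- the lattice automorphism induced by `T` -/
def gPerm : Equiv.Perm leechLattice where
  toFun v := ⟨T v, T_mem v.2⟩
  invFun v := ⟨-T v, AddSubgroup.neg_mem _ (T_mem v.2)⟩
  left_inv v := by
    apply Subtype.ext
    show -T (T v) = v
    rw [T_T, neg_neg]
  right_inv v := by
    apply Subtype.ext
    show T (-T v) = v
    have h : T (-T v) = -T (T v) := signedPerm_neg _ _ _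
    rw [h, T_T, neg_neg]

theorem gPerm_mem : gPerm ∈ Co0 := by
  refine ⟨fun v w => ?_, fun v => ?_⟩
  · apply Subtype.ext
    show T ((v : GolayPt → ℤ) + w) = T v + T w
    exact signedPerm_add _ _ _ _
  · show sqNorm (T v) = sqNorm (v : GolayPt → ℤ)
    exact sqNorm_signedPerm _ _ _

/-- negation on the lattice -/
def nPerm : Equiv.Perm leechLattice := Equiv.neg _

theorem nPerm_mem : nPerm ∈ Co0 := by
  refine ⟨fun v w => ?_, fun v => ?_⟩
  · show -(v + w) = -v + -w
    rw [neg_add]
  · show sqNorm ((-v : leechLattice) : GolayPt → ℤ) = sqNorm (v : GolayPt → ℤ)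
    unfold sqNorm
    simp

theorem gPerm_sq : gPerm * gPerm = nPerm := by
  ext v : 2
  show T (T v) = -(v : GolayPt → ℤ)
  exact T_T _

/-- a nonzero lattice vector -/
def x0 : GolayPt → ℤ := fun _ => 8

theorem x0_mem : x0 ∈ leechLattice := by
  apply AddSubgroup.subset_closure
  refine ⟨0, fun i => by show (8 : ℤ) ≡ 0 [ZMOD 2]; decide, by decide, fun k => ?_⟩
  by_cases hk : (8 : ℤ) ≡ k [ZMOD 4]
  · have : (Finset.univ.filter fun i => x0 i ≡ k [ZMOD 4]) = Finset.univ := by
      ext i; simp [x0, hk]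
    rw [this]; exact univ_mem
  · have : (Finset.univ.filter fun i => x0 i ≡ k [ZMOD 4]) = ∅ := by
      ext i; simp [x0, hk]
    rw [this]; exact empty_mem

theorem nPerm_ne_one : nPerm ≠ 1 := by
  intro h
  have := congrArg (fun f : Equiv.Perm leechLattice => ((f ⟨x0, x0_mem⟩ : leechLattice) : GolayPt → ℤ) none) h
  simp only [nPerm, Equiv.neg_apply, Equiv.Perm.coe_one, id_eq] at this
  revert this
  show ¬ (-(8 : ℤ) = 8)
  decide

theorem no_compl {G : Type*} [Group G] (n g : G) (hn : n ≠ 1) (hg : g * g = n)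
    (hn2 : n * n = 1) (hc : ∀ f : G, Commute n f) :
    ∀ K : Subgroup G, ¬ (Subgroup.zpowers n).IsComplement' K := by
  intro K hK
  obtain ⟨⟨h, k⟩, hhk, -⟩ := (Subgroup.isComplement'_def.mp hK).existsUnique g
  simp only at hhk
  obtain ⟨j, hj⟩ := Subgroup.mem_zpowers_iff.mp h.2
  have hcomm : Commute (h : G) (k : G) := by
    rw [← hj]; exact (hc k).zpow_left j
  have hh : (h : G) * h = 1 := by
    rw [← hj, ← (Commute.refl n).mul_zpow, hn2, one_zpow]
  have hk : n ∈ K := by
    have : n = (k : G) * k := by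
      rw [← hg, ← hhk]
      calc (h : G) * k * (h * k) = (h : G) * (k * h) * k := by group
        _ = (h : G) * (h * k) * k := by rw [hcomm.eq]
        _ = ((h : G) * h) * (k * k) := by group
        _ = (k : G) * k := by rw [hh, one_mul]
    rw [this]
    exact K.mul_mem k.2 k.2
  exact hn (Subgroup.disjoint_def.mp hK.disjoint (Subgroup.mem_zpowers n) hk)

theorem result :
    ∃ n : ↥Cfsg.Co0, (∀ v : ↥Cfsg.leechLattice, ((n • v : ↥Cfsg.leechLattice) : Cfsg.GolayPt → ℤ) = -(v : Cfsg.GolayPt → ℤ)) ∧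
    ∀ K : Subgroup ↥Cfsg.Co0, ¬ (Subgroup.zpowers n).IsComplement' K := by
  refine ⟨⟨nPerm, nPerm_mem⟩, fun v => rfl, ?_⟩
  apply no_compl (⟨nPerm, nPerm_mem⟩ : ↥Co0) ⟨gPerm, gPerm_mem⟩
  · intro h
    exact nPerm_ne_one (congrArg Subtype.val h)
  · apply Subtype.ext
    exact gPerm_sq
  · apply Subtype.ext
    show nPerm * nPerm = 1
    ext v : 2
    show -(-(v : GolayPt → ℤ)) = v
    rw [neg_neg]
  · intro f
    apply Subtype.ext
    show nPerm * (f : Equiv.Perm leechLattice) = f * nPerm
    ext v : 1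
    show -((f : Equiv.Perm leechLattice) v) = (f : Equiv.Perm leechLattice) (-v)
    have hadd := f.2.1
    have h0 : (f : Equiv.Perm leechLattice) 0 = 0 := by
      have := hadd 0 0
      rw [add_zero] at this
      exact left_eq_add.mp this
    have := hadd v (-v)
    rw [add_neg_cancel, h0] at this
    exact (eq_neg_of_add_eq_zero_right this.symm).symm ▸ rfl

end Cfsg.Agent.S5594
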