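import Mathlib
import Cfsg.Statements.S5595
import Cfsg.Agent.Lib.Helper92.LargeExtra2

set_option autoImplicit false
open Cfsg

namespace Cfsg.Agent.S5595
open Cfsg.Agent.Helper92
open scoped commutatorElement

theorem result {G : Type*} [Group G] [Finite G]
    (Q : G → Subgroup G)
    (hQ : ∀ x : G, Q x = (Cfsg.pCore 2 ↥(Subgroup.centralizer ({x} : Set G))).map (Subgroup.centralizer ({x} : Set G)).subtype)
    (z : G) (hz : orderOf z = 2) (hE : Cfsg.IsExtraspecial 2 ↥(Q z))
    (hC : Subgroup.centralizer ((Q z : Subgroup G) : Set G) ≤ Q z)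
    (g : G) (hx : g * z * g⁻¹ ∈ Q z) : z ∈ Q (g * z * g⁻¹) := by
  have : Fact (Nat.Prime 2) := ⟨Nat.prime_two⟩
  have hQ' : ∀ x, Q x = coreIn 2 (Subgroup.centralizer ({x} : Set G)) := hQ
  have hz2 : z * z = 1 := by rw [← pow_two, ← hz, pow_orderOf_eq_one]
  have hz1 : z ≠ 1 := by
    intro h
    rw [h, orderOf_one] at hz
    exact absurd hz (by norm_num)
  have P1 : ∀ x, ∀ a ∈ Q x, cjg a x = x := by
    intro x a ha
    rw [hQ'] at ha
    exact mem_centralizer_iff_cjg.mp (coreIn_le 2 _ ha)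
  have P2 : ∀ x, IsPGroup 2 (Q x) := by
    intro x
    rw [hQ']
    exact coreIn_isPGroup 2 _
  have P3 : ∀ x c, cjg c x = x → ∀ a ∈ Q x, cjg c a ∈ Q x := by
    intro x c hc a ha
    rw [hQ'] at ha ⊢
    exact coreIn_conj_mem 2 _ (mem_centralizer_iff_cjg.mpr hc) ha
  have P4 : ∀ x n a, a ∈ Q x → cjg n a ∈ Q (cjg n x) := by
    intro x n a ha
    rw [hQ'] at ha ⊢
    exact conj_mem_coreIn_centralizer n ha
  have E3 : ∀ w, (∀ a ∈ Q z, cjg a w = w) → w ∈ Q z := by
    intro w hw
    apply hC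
    rw [Subgroup.mem_centralizer_iff]
    intro a ha
    exact comm_of_cjg (hw a ha)
  have hzQ : z ∈ Q z := E3 z (fun a ha => P1 z a ha)
  -- the centre of Q z
  obtain ⟨⟨-, -, hcomm⟩, hcard⟩ := hE
  set ζ : ↥(Q z) := ⟨z, hzQ⟩ with hζ
  have hζc : ζ ∈ Subgroup.center ↥(Q z) := by
    rw [Subgroup.mem_center_iff]
    intro k
    apply Subtype.ext
    exact comm_of_cjg (P1 z k k.2)
  have hζ1 : (⟨ζ, hζc⟩ : Subgroup.center ↥(Q z)) ≠ 1 := by
    intro h
    apply hz1
    have h2 : ζ = 1 := congrArg Subtype.val h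
    exact congrArg Subtype.val h2
  have hcen : ∀ w ∈ Subgroup.center ↥(Q z), w = 1 ∨ w = ζ := by
    intro w hw
    obtain ⟨y, -, hy⟩ := (Nat.card_eq_two_iff' (1 : Subgroup.center ↥(Q z))).mp hcard
    by_cases h1 : w = 1
    · exact Or.inl h1
    · right
      have e1 : (⟨w, hw⟩ : Subgroup.center ↥(Q z)) = y := hy _ (by
        intro h
        apply h1
        exact congrArg Subtype.val h)
      have e2 : (⟨ζ, hζc⟩ : Subgroup.center ↥(Q z)) = y := hy _ hζ1
      exact congrArg Subtype.val (e1.trans e2.symm)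
  have E1 : ∀ a ∈ Q z, ∀ b ∈ Q z, cjg a b = b ∨ cjg a b = z * b := by
    intro a ha b hb
    have hmem : ⁅(⟨a, ha⟩ : ↥(Q z)), ⟨b, hb⟩⁆ ∈ Subgroup.center ↥(Q z) := by
      rw [← hcomm, commutator_def]
      exact Subgroup.commutator_mem_commutator (Subgroup.mem_top _) (Subgroup.mem_top _)
    rcases hcen _ hmem with h | h
    · left
      have := congrArg (fun w : ↥(Q z) => (w : G)) h
      simp only [commutatorElement_def, Subgroup.coe_mul, Subgroup.coe_inv, Subgroup.coe_one] at this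
      unfold cjg
      calc a * b * a⁻¹ = a * b * a⁻¹ * b⁻¹ * b := by group
        _ = b := by rw [this, one_mul]
    · right
      have := congrArg (fun w : ↥(Q z) => (w : G)) h
      simp only [commutatorElement_def, Subgroup.coe_mul, Subgroup.coe_inv, hζ] at this
      unfold cjg
      calc a * b * a⁻¹ = a * b * a⁻¹ * b⁻¹ * b := by group
        _ = z * b := by rw [this]
  have E2 : ∀ w ∈ Q z, (∀ a ∈ Q z, cjg a w = w) → w = 1 ∨ w = z := by
    intro w hw hall
    have hmem : (⟨w, hw⟩ : ↥(Q z)) ∈ Subgroup.center ↥(Q z) := by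
      rw [Subgroup.mem_center_iff]
      intro k
      apply Subtype.ext
      exact comm_of_cjg (hall k k.2)
    rcases hcen _ hmem with h | h
    · left; exact congrArg (fun w : ↥(Q z) => (w : G)) h
    · right; exact congrArg (fun w : ↥(Q z) => (w : G)) h
  exact large_extra_symm Q P1 P2 P3 P4 z hz2 hz1 E1 E2 E3 g hx

end Cfsg.Agent.S5595
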