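import Mathlib
import Cfsg.Statements.S5598
import Cfsg.Agent.Lib.Helper92.LargeExtraSetup

set_option autoImplicit false
open Cfsg

namespace Cfsg.Agent.S5598
open Cfsg.Agent.Helper92

theorem result {G : Type*} [Group G] [Finite G]
    (Q : G → Subgroup G)
    (hQ : ∀ x : G, Q x = (Cfsg.pCore 2 ↥(Subgroup.centralizer ({x} : Set G))).map (Subgroup.centralizer ({x} : Set G)).subtype)
    (z : G) (hz : orderOf z = 2) (hE : Cfsg.IsExtraspecial 2 ↥(Q z))
    (hC : Subgroup.centralizer ((Q z : Subgroup G) : Set G) ≤ Q z)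
    (U : Subgroup G) (hU2 : ∀ u ∈ U, u * u = 1)
    (hS : ∀ u ∈ U, u ≠ 1 → ∃ g : G, g * z * g⁻¹ = u)
    (hO : ∀ u ∈ U, ∀ v ∈ U, u ≠ 1 → v ≠ 1 → v ∈ Q u)
    (QU LU : Subgroup G) (hQU : QU = ⨅ u ∈ ((U : Set G) \ {1}), Q u) (hLU : LU = ⨆ u ∈ ((U : Set G) \ {1}), Q u)
    (T : Set G) (hT : Subgroup.closure T = U) (hT1 : (1 : G) ∉ T) :
    QU = ⨅ t ∈ T, Q t := by
  have hset := setting_of_hyps Q hQ z hz hE hC
  have hTU : T ⊆ U := by
    rw [← hT]
    exact Subgroup.subset_closure
  rw [hQU]
  apply le_antisymm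
  · apply le_iInf₂
    intro t ht
    exact iInf₂_le t ⟨hTU ht, fun h => hT1 (by rw [Set.mem_singleton_iff] at h; rw [← h]; exact ht)⟩
  · apply le_iInf₂
    intro u hu x hx
    have hxT : ∀ t ∈ T, x ∈ Q t := by
      intro t ht
      have := (Subgroup.mem_iInf.mp hx) t
      exact (Subgroup.mem_iInf.mp this) ht
    have key : ∀ u ∈ Subgroup.closure T, u ∈ U ∧ (u ≠ 1 → x ∈ Q u) := by
      intro u hu
      induction hu using Subgroup.closure_induction with
      | mem t ht => exact ⟨hTU ht, fun _ => hxT t ht⟩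
      | one => exact ⟨U.one_mem, fun h => absurd rfl h⟩
      | mul a b _ _ iha ihb =>
        refine ⟨U.mul_mem iha.1 ihb.1, fun hab => ?_⟩
        by_cases ha1 : a = 1
        · rw [ha1, one_mul] at hab ⊢
          exact ihb.2 hab
        by_cases hb1 : b = 1
        · rw [hb1, mul_one] at hab ⊢
          exact iha.2 hab
        obtain ⟨g, hg⟩ := hS a iha.1 ha1
        have hsa : LESetting Q a := by
          have := hset.conj g
          rwa [show cjg g z = a from hg] at this
        have hba : b ≠ a := by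
          intro h
          apply hab
          rw [h]
          exact hU2 a iha.1
        exact hsa.inf_le_mul (hO a iha.1 b ihb.1 ha1 hb1) hb1 hba
          (hO (a * b) (U.mul_mem iha.1 ihb.1) a iha.1 hab ha1) (iha.2 ha1) (ihb.2 hb1)
      | inv a _ iha =>
        have : a⁻¹ = a := inv_eq_of_mul_eq_one_left (hU2 a iha.1)
        rw [this]
        exact iha
    have huU : u ∈ Subgroup.closure T := by
      rw [hT]
      exact hu.1
    exact (key u huU).2 (fun h => hu.2 (by rw [Set.mem_singleton_iff]; exact h))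

end Cfsg.Agent.S5598
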