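import Mathlib
import Cfsg.Statements.S5599
import Cfsg.Agent.Lib.Helper7.Gens

set_option autoImplicit false
open Cfsg

namespace Cfsg.Agent.S5599
open Cfsg.Agent.Helper7
open scoped Pointwise

/-- function on points given by a table -/
def tabFun (l : List ℕ) (p : GolayPt) : GolayPt := pt (l.getD (idx p) 0)

/-- permutation from a table and the table of its inverse -/
def permOfTab (l linv : List ℕ) (h1 : ∀ p, tabFun linv (tabFun l p) = p)
    (h2 : ∀ p, tabFun l (tabFun linv p) = p) : Equiv.Perm GolayPt :=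
  ⟨tabFun l, tabFun linv, h1, h2⟩

theorem tab_permOfTab (l linv : List ℕ) (h1 : ∀ p, tabFun linv (tabFun l p) = p)
    (h2 : ∀ p, tabFun l (tabFun linv p) = p) (hl : ∀ i < 24, l.getD i 0 < 24) :
    Tab (permOfTab l linv h1 h2) l := by
  intro p
  show idx (pt (l.getD (idx p) 0)) = l.getD (idx p) 0
  exact idx_pt _ (hl _ (idx_lt p))

def lMul2 : List ℕ := [0, 2, 4, 6, 8, 10, 12, 14, 16, 18, 20, 22, 1, 3, 5, 7, 9, 11, 13, 15, 17, 19, 21, 23]
def lMul2Inv : List ℕ := [0, 12, 1, 13, 2, 14, 3, 15, 4, 16, 5, 17, 6, 18, 7, 19, 8, 20, 9, 21, 10, 22, 11, 23]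
def lA : List ℕ := [0, 21, 8, 9, 22, 2, 15, 11, 14, 1, 17, 6, 12, 7, 4, 20, 13, 3, 5, 10, 16, 19, 18, 23]
def lAInv : List ℕ := [0, 9, 5, 17, 14, 18, 11, 13, 2, 3, 19, 7, 12, 16, 8, 6, 20, 10, 22, 21, 15, 1, 4, 23]
def lB : List ℕ := [0, 12, 22, 13, 18, 6, 20, 10, 7, 21, 1, 5, 9, 14, 11, 15, 17, 19, 2, 4, 3, 8, 16, 23]
def lBInv : List ℕ := [0, 10, 18, 20, 19, 11, 5, 8, 21, 12, 7, 14, 1, 3, 13, 15, 22, 16, 4, 17, 6, 9, 2, 23]
def lSwap : List ℕ := [23, 1, 2, 3, 4, 5, 6, 7, 8, 9, 10, 11, 12, 13, 14, 15, 16, 17, 18, 19, 20, 21, 22, 0]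

/-- multiplication by 2 -/
def x1 : Equiv.Perm GolayPt := permOfTab lMul2 lMul2Inv (by decide) (by decide)
/-- an element of order 7 fixing `none`, `some 0`, `some 12` -/
def xA : Equiv.Perm GolayPt := permOfTab lA lAInv (by decide) (by decide)
/-- an element of order 7 fixing `none`, `some 0`, `some 15` -/
def xB : Equiv.Perm GolayPt := permOfTab lB lBInv (by decide) (by decide)

theorem tab_x1 : Tab x1 lMul2 := tab_permOfTab _ _ _ _ (by decide)
theorem tab_xA : Tab xA lA := tab_permOfTab _ _ _ _ (by decide)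
theorem tab_xB : Tab xB lB := tab_permOfTab _ _ _ _ (by decide)

theorem x1_mem : x1 ∈ M24 := mem_M24_of_tab tab_x1 (by decide)
theorem xA_mem : xA ∈ M24 := mem_M24_of_tab tab_xA (by decide)
theorem xB_mem : xB ∈ M24 := mem_M24_of_tab tab_xB (by decide)

theorem mem_M22_iff (x : Equiv.Perm GolayPt) :
    x ∈ Spor.M22 ↔ x ∈ M24 ∧ x none = none ∧ x (some 0) = some 0 := by
  unfold Spor.M22 Spor.M23
  simp only [Subgroup.mem_inf, MulAction.mem_stabilizer_iff, Equiv.Perm.smul_def]
  tauto

theorem x1_mem22 : x1 ∈ Spor.M22 := (mem_M22_iff _).mpr ⟨x1_mem, by decide, by decide⟩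
theorem xA_mem22 : xA ∈ Spor.M22 := (mem_M22_iff _).mpr ⟨xA_mem, by decide, by decide⟩
theorem xB_mem22 : xB ∈ Spor.M22 := (mem_M22_iff _).mpr ⟨xB_mem, by decide, by decide⟩

theorem fix_xA : ∀ p, xA p = p → p = none ∨ p = some 0 ∨ p = some 12 := by decide
theorem fix_xB : ∀ p, xB p = p → p = none ∨ p = some 0 ∨ p = some 15 := by decide
theorem xA_12 : xA (some 12) = some 12 := by decide
theorem xB_15 : xB (some 15) = some 15 := by decide

theorem orbits_x1 : ∀ p : GolayPt, p ≠ none → p ≠ some 0 →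
    ∃ k < 11, p = (x1 : GolayPt → GolayPt)^[k] (some 12) ∨
      p = (x1 : GolayPt → GolayPt)^[k] (some 15) := by decide

theorem fix_of_commute {c x : Equiv.Perm GolayPt} (hcx : c * x = x * c) {p : GolayPt}
    (hp : x p = p) : x (c p) = c p := by
  have := congrArg (fun f : Equiv.Perm GolayPt => f p) hcx
  simp only [Equiv.Perm.mul_apply, hp] at this
  exact this.symm

/-- the transposition of `none` and `some 0` does not preserve the code -/
theorem not_mem_of_tab_swap {c : Equiv.Perm GolayPt} (hc : Tab c lSwap) : c ∉ M24 := by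
  intro hmem
  have h1 : ofMask (genMask 0) ∈ supports (golayCode : Set W) :=
    (ofMask_mem_iff _ (by decide)).mpr (by decide)
  have h2 := smul_mem_supports hmem h1
  rw [smul_ofMask hc, ofMask_mem_iff _ (permMask_lt hc _)] at h2
  revert h2
  decide

theorem centralizer_swap {c : Equiv.Perm GolayPt} (h0 : c none = some 0) (h1 : c (some 0) = none)
    (c1 : c * x1 = x1 * c) (cA : c * xA = xA * c) (cB : c * xB = xB * c) : Tab c lSwap := by
  have hA : c (some 12) = some 12 := by
    rcases fix_xA _ (fix_of_commute cA xA_12) with h | h | h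
    · rw [← h1] at h; exact absurd (c.injective h) (by decide)
    · rw [← h0] at h; exact absurd (c.injective h) (by decide)
    · exact h
  have hB : c (some 15) = some 15 := by
    rcases fix_xB _ (fix_of_commute cB xB_15) with h | h | h
    · rw [← h1] at h; exact absurd (c.injective h) (by decide)
    · rw [← h0] at h; exact absurd (c.injective h) (by decide)
    · exact h
  have hstep : ∀ p, c p = p → c (x1 p) = x1 p := by
    intro p hp
    have := congrArg (fun f : Equiv.Perm GolayPt => f p) c1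
    simp only [Equiv.Perm.mul_apply, hp] at this
    exact this
  have hiter : ∀ (k : ℕ) (p : GolayPt), c p = p →
      c ((x1 : GolayPt → GolayPt)^[k] p) = (x1 : GolayPt → GolayPt)^[k] p := by
    intro k
    induction k with
    | zero => intro p hp; simpa using hp
    | succ k ih =>
      intro p hp
      rw [Function.iterate_succ_apply']
      exact hstep _ (ih p hp)
  have hfix : ∀ p : GolayPt, p ≠ none → p ≠ some 0 → c p = p := by
    intro p hp1 hp2
    obtain ⟨k, -, h | h⟩ := orbits_x1 p hp1 hp2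
    · rw [h]; exact hiter k _ hA
    · rw [h]; exact hiter k _ hB
  intro p
  by_cases hp1 : p = none
  · rw [hp1, h0]; decide
  · by_cases hp2 : p = some 0
    · rw [hp2, h1]; decide
    · rw [hfix p hp1 hp2]
      revert p
      decide

theorem result (g : Equiv.Perm Cfsg.GolayPt) (hg : g ∈ Cfsg.M24) (h₁ : g none = some 0) (h₂ : g (some 0) = none) : Cfsg.Spor.M22.relIndex (Cfsg.M24 ⊓ MulAction.stabilizer (Equiv.Perm Cfsg.GolayPt) ({none, some 0} : Finset Cfsg.GolayPt)) = 2 ∧ (∀ x ∈ Cfsg.Spor.M22, g * x * g⁻¹ ∈ Cfsg.Spor.M22) ∧ ¬ ∃ h ∈ Cfsg.Spor.M22, ∀ x ∈ Cfsg.Spor.M22, g * x * g⁻¹ = h * x * h⁻¹ := by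
  have hg1 : g⁻¹ (some 0) = none := by rw [Equiv.Perm.inv_eq_iff_eq, h₁]
  have hg2 : g⁻¹ none = some 0 := by rw [Equiv.Perm.inv_eq_iff_eq, h₂]
  refine ⟨?_, ?_, ?_⟩
  · rw [Subgroup.relIndex_eq_two_iff]
    have hpair : ∀ b : Equiv.Perm GolayPt,
        b • ({none, some 0} : Finset GolayPt) = {none, some 0} →
        (b none = none ∧ b (some 0) = some 0) ∨ (b none = some 0 ∧ b (some 0) = none) := by
      intro b hb
      have m1 : b • (none : GolayPt) ∈ b • ({none, some 0} : Finset GolayPt) :=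
        Finset.smul_mem_smul_finset (by simp)
      have m2 : b • (some 0 : GolayPt) ∈ b • ({none, some 0} : Finset GolayPt) :=
        Finset.smul_mem_smul_finset (by simp)
      rw [hb] at m1 m2
      simp only [Finset.mem_insert, Finset.mem_singleton, Equiv.Perm.smul_def] at m1 m2
      rcases m1 with m1 | m1 <;> rcases m2 with m2 | m2
      · exact absurd (b.injective (m1.trans m2.symm)) (by decide)
      · exact Or.inl ⟨m1, m2⟩
      · exact Or.inr ⟨m1, m2⟩
      · exact absurd (b.injective (m1.trans m2.symm)) (by decide)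
    refine ⟨g, ?_, ?_⟩
    · rw [Subgroup.mem_inf, MulAction.mem_stabilizer_iff]
      refine ⟨hg, ?_⟩
      ext p
      simp only [Finset.mem_smul_finset, Finset.mem_insert, Finset.mem_singleton,
        Equiv.Perm.smul_def]
      constructor
      · rintro ⟨q, hq | hq, rfl⟩
        · rw [hq, h₁]; right; rfl
        · rw [hq, h₂]; left; rfl
      · rintro (hp | hp)
        · exact ⟨some 0, Or.inr rfl, by rw [h₂, hp]⟩
        · exact ⟨none, Or.inl rfl, by rw [h₁, hp]⟩
    · intro b hb
      rw [Subgroup.mem_inf, MulAction.mem_stabilizer_iff] at hb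
      rcases hpair b hb.2 with ⟨e1, e2⟩ | ⟨e1, e2⟩
      · right
        refine ⟨(mem_M22_iff b).mpr ⟨hb.1, e1, e2⟩, ?_⟩
        intro hbg
        have := ((mem_M22_iff _).mp hbg).2.1
        simp only [Equiv.Perm.mul_apply, h₁, e2] at this
        exact absurd this (by decide)
      · left
        refine ⟨(mem_M22_iff _).mpr ⟨Subgroup.mul_mem _ hb.1 hg, ?_, ?_⟩, ?_⟩
        · simp only [Equiv.Perm.mul_apply, h₁, e2]
        · simp only [Equiv.Perm.mul_apply, h₂, e1]
        · intro hb22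
          have := ((mem_M22_iff _).mp hb22).2.1
          rw [e1] at this
          exact absurd this (by decide)
  · intro x hx
    rw [mem_M22_iff] at hx ⊢
    refine ⟨Subgroup.mul_mem _ (Subgroup.mul_mem _ hg hx.1) (Subgroup.inv_mem _ hg), ?_, ?_⟩
    · simp only [Equiv.Perm.mul_apply, hg2, hx.2.2, h₂]
    · simp only [Equiv.Perm.mul_apply, hg1, hx.2.1, h₁]
  · rintro ⟨h, hh, hconj⟩
    have hh' := (mem_M22_iff h).mp hh
    have hcomm : ∀ x ∈ Spor.M22, (h⁻¹ * g) * x = x * (h⁻¹ * g) := by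
      intro x hx
      have := hconj x hx
      calc h⁻¹ * g * x = h⁻¹ * (g * x * g⁻¹) * g := by group
        _ = h⁻¹ * (h * x * h⁻¹) * g := by rw [this]
        _ = x * (h⁻¹ * g) := by group
    have hi1 : h⁻¹ (some 0) = some 0 := by rw [Equiv.Perm.inv_eq_iff_eq, hh'.2.2]
    have hi2 : h⁻¹ none = none := by rw [Equiv.Perm.inv_eq_iff_eq, hh'.2.1]
    have hc0 : (h⁻¹ * g) none = some 0 := by simp only [Equiv.Perm.mul_apply, h₁, hi1]
    have hc1 : (h⁻¹ * g) (some 0) = none := by simp only [Equiv.Perm.mul_apply, h₂, hi2]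
    have htab := centralizer_swap hc0 hc1 (hcomm _ x1_mem22) (hcomm _ xA_mem22) (hcomm _ xB_mem22)
    exact not_mem_of_tab_swap htab (Subgroup.mul_mem _ (Subgroup.inv_mem _ hh'.1) hg)

end Cfsg.Agent.S5599
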