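import Cfsg.Statements.S5600
import Cfsg.Agent.Lib.Helper92.SixSets2
-- import your own Cfsg.Agent.* helpers here

set_option autoImplicit false
open scoped Pointwise
open Cfsg

namespace Cfsg.Agent.S5600

open Cfsg Cfsg.Agent.Helper7 Cfsg.Agent.Helper92

theorem mem_of_translate {E : Finset GolayPt} {L : List ℕ} {k : Equiv.Perm GolayPt}
    (hkE : k • E = finL L) {p : GolayPt} (hp : p ∈ E) : ∃ c ∈ L, pt c = k p := by
  have : k p ∈ k • E := by
    have := Finset.smul_mem_smul_finset (a := k) hp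
    rwa [Equiv.Perm.smul_def] at this
  rw [hkE] at this
  exact mem_finL.mp this

theorem inv_mem_of_translate {E : Finset GolayPt} {L : List ℕ} {k : Equiv.Perm GolayPt}
    (hkE : k • E = finL L) {c : ℕ} (hc : c ∈ L) : k⁻¹ (pt c) ∈ E := by
  have : pt c ∈ k • E := by rw [hkE]; exact mem_finL.mpr ⟨c, hc, rfl⟩
  obtain ⟨p, hp, hpc⟩ := Finset.mem_smul_finset.mp this
  rw [Equiv.Perm.smul_def] at hpc
  rw [← hpc]
  simpa using hp

theorem card_ptwise {E : Finset GolayPt} {L : List ℕ} {k : Equiv.Perm GolayPt} (hk : k ∈ M24)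
    (hkE : k • E = finL L) :
    Nat.card {g : Equiv.Perm GolayPt // g ∈ M24 ∧ ∀ p ∈ E, g p = p} =
      Nat.card ↥(stabL M24 (L.map pt)) := by
  apply Nat.card_congr
  refine Equiv.subtypeEquiv (MulAut.conj k).toEquiv ?_
  intro g
  show _ ↔ k * g * k⁻¹ ∈ stabL M24 (L.map pt)
  rw [mem_stabL]
  constructor
  · rintro ⟨hg, hfix⟩
    refine ⟨M24.mul_mem (M24.mul_mem hk hg) (M24.inv_mem hk), ?_⟩
    intro b hb
    obtain ⟨c, hc, rfl⟩ := List.mem_map.mp hb
    simp only [Equiv.Perm.mul_apply]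
    rw [hfix _ (inv_mem_of_translate hkE hc)]
    simp
  · rintro ⟨hg, hfix⟩
    constructor
    · have : g = k⁻¹ * (k * g * k⁻¹) * k := by group
      rw [this]
      exact M24.mul_mem (M24.mul_mem (M24.inv_mem hk) hg) hk
    · intro p hp
      obtain ⟨c, hc, hcp⟩ := mem_of_translate hkE hp
      have := hfix _ (List.mem_map.mpr ⟨c, hc, rfl⟩)
      rw [hcp] at this
      simp only [Equiv.Perm.mul_apply] at this
      have h2 : k⁻¹ (k p) = p := by simp
      rw [h2] at this
      exact k.injective this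

theorem card_setwise {E F : Finset GolayPt} {k : Equiv.Perm GolayPt} (hk : k ∈ M24)
    (hkE : k • E = F) :
    Nat.card ↥(MulAction.stabilizer ↥M24 E) = Nat.card ↥(setStab F) := by
  apply Nat.card_congr
  refine ⟨fun x => ⟨k * (x.1 : Equiv.Perm GolayPt) * k⁻¹, ?_⟩,
    fun y => ⟨⟨k⁻¹ * y.1 * k, ?_⟩, ?_⟩, ?_, ?_⟩
  · rw [mem_setStab]
    refine ⟨M24.mul_mem (M24.mul_mem hk x.1.2) (M24.inv_mem hk), ?_⟩
    have hx : (x.1 : Equiv.Perm GolayPt) • E = E := x.2
    rw [← hkE, mul_smul, mul_smul, inv_smul_smul, hx]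
  · exact M24.mul_mem (M24.mul_mem (M24.inv_mem hk) (mem_setStab.mp y.2).1) hk
  · show (k⁻¹ * y.1 * k) • E = E
    rw [mul_smul, mul_smul, hkE, (mem_setStab.mp y.2).2, ← hkE, inv_smul_smul]
  · intro x
    apply Subtype.ext
    apply Subtype.ext
    show k⁻¹ * (k * (x.1 : Equiv.Perm GolayPt) * k⁻¹) * k = x.1
    group
  · intro y
    apply Subtype.ext
    show k * (k⁻¹ * y.1 * k) * k⁻¹ = y.1
    group

theorem smul_subset {k : Equiv.Perm GolayPt} {E o : Finset GolayPt} (h : E ⊆ o) :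
    k • E ⊆ k • o := by
  intro q hq
  obtain ⟨p, hp, rfl⟩ := Finset.mem_smul_finset.mp hq
  exact Finset.smul_mem_smul_finset (h hp)


/-- Although the group of the length-24 code is only 5-transitive on the 24 points, it induces the full symmetric group on every 6-element subset: every permutation of a 6-set E is the restriction of an element of the group mapping E to itself. The pointwise stabiliser of E has order 16 when E lies in an octad and order 3 otherwise; in the latter case the setwise stabiliser of E has order 2160. -/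
theorem result (E : Finset Cfsg.GolayPt) (hE : E.card = 6) : (∀ σ : Equiv.Perm ↥E, ∃ g ∈ Cfsg.M24, ∀ p : ↥E, g p = σ p) ∧ ((∃ o ∈ Cfsg.octads, E ⊆ o) → Nat.card {g : Equiv.Perm Cfsg.GolayPt // g ∈ Cfsg.M24 ∧ ∀ p ∈ E, g p = p} = 16) ∧ ((¬ ∃ o ∈ Cfsg.octads, E ⊆ o) → Nat.card {g : Equiv.Perm Cfsg.GolayPt // g ∈ Cfsg.M24 ∧ ∀ p ∈ E, g p = p} = 3 ∧ Nat.card ↥(MulAction.stabilizer Cfsg.M24 E) = 2160) := by
  obtain ⟨k, hk, hcase⟩ := six_normal E hE
  rcases hcase with hkE | hkE
  · -- inside an octad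
    have hoct : ∃ o ∈ octads, E ⊆ o := by
      refine ⟨k⁻¹ • ofMask baseOct, smul_mem_octads (M24.inv_mem hk) (isOct_spec baseOct_isOct), ?_⟩
      have := smul_subset (k := k⁻¹) (hkE ▸ six1_sub : k • E ⊆ ofMask baseOct)
      rwa [inv_smul_smul] at this
    refine ⟨?_, ?_, ?_⟩
    · exact induce_all E (swap_of_translate goodTabs_swaps1 (by decide) swapsOK1 hk hkE)
    · intro _
      rw [card_ptwise hk hkE, card_P1]
    · intro hno
      exact absurd hoct hno
  · -- in no octad
    have hno : ¬ ∃ o ∈ octads, E ⊆ o := by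
      rintro ⟨o, ho, hEo⟩
      apply six2_not_sub (smul_mem_octads hk ho)
      rw [← hkE]
      exact smul_subset hEo
    refine ⟨?_, ?_, ?_⟩
    · exact induce_all E (swap_of_translate goodTabs_swaps2 (by decide) swapsOK2 hk hkE)
    · intro hoct
      exact absurd hoct hno
    · intro _
      exact ⟨by rw [card_ptwise hk hkE, card_P2], by rw [card_setwise hk hkE, card_setStab2]⟩

end Cfsg.Agent.S5600
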