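import Cfsg.Statements.S5601
import Cfsg.Agent.Lib.Helper92.Classes3
-- import your own Cfsg.Agent.* helpers here

set_option autoImplicit false
open scoped Pointwise
open Cfsg

namespace Cfsg.Agent.S5601

open Cfsg Cfsg.Agent.Helper7 Cfsg.Agent.Helper92

theorem l3A_mem : g5Tabs.any (fun l => eqTab l l3A) = true := by decide +kernel
theorem l3B_mem : g5Tabs.any (fun l => eqTab (mulTab r3B_4 l) l3B) = true := by decide +kernel

theorem exA : ∃ σ ∈ M24, Tab σ l3A := by
  obtain ⟨l, hl, he⟩ := List.any_eq_true.mp l3A_mem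
  obtain ⟨σ, hσ, ht, hlen⟩ := goodTabs_g5M l hl
  rw [eq_of_eqTab hlen he] at ht
  exact ⟨σ, hσ, ht⟩

theorem exB : ∃ σ ∈ M24, Tab σ l3B := by
  obtain ⟨l, hl, he⟩ := List.any_eq_true.mp l3B_mem
  obtain ⟨σ, hσ, ht, hlen⟩ := goodTabs_g5M l hl
  obtain ⟨r, hr, htr, hlenr⟩ := goodTabs_cls r3B_4 (reps_mem _ (by simp))
  have := htr.mul ht hlen
  rw [eq_of_eqTab (by rw [mulTab_length, hlen]) he] at this
  exact ⟨r * σ, M24.mul_mem hr hσ, this⟩

theorem tab_unique {σ τ : Equiv.Perm GolayPt} {l : List ℕ} (h : Tab σ l) (h' : Tab τ l) :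
    σ = τ := by
  apply Equiv.ext
  intro p
  apply idx_injective
  rw [h p, h' p]

theorem fixCount_l3A : fixCount l3A = 6 := by decide +kernel
theorem fixCount_l3B : fixCount l3B = 0 := by decide +kernel
theorem cube_l3A : eqTab (mulTab (mulTab l3A l3A) l3A) idTab = true := by decide +kernel
theorem cube_l3B : eqTab (mulTab (mulTab l3B l3B) l3B) idTab = true := by decide +kernel
theorem ne_l3A : eqTab l3A idTab = false := by decide +kernel
theorem ne_l3B : eqTab l3B idTab = false := by decide +kernel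

theorem order3_of_tab {σ : Equiv.Perm GolayPt} {l : List ℕ} (ht : Tab σ l) (hl : l.length = 24)
    (hc : eqTab (mulTab (mulTab l l) l) idTab = true) (hne : eqTab l idTab = false) :
    orderOf σ = 3 := by
  have h3 : σ ^ 3 = 1 := by
    have t := (ht.mul ht hl).mul ht hl
    rw [eq_of_eqTab (by rw [mulTab_length, hl]) hc] at t
    have := tab_id_eq_one t
    rw [pow_succ, pow_two]
    exact this
  have hne1 : σ ≠ 1 := by
    rintro rfl
    have := tab_ext ht tab_one hl rfl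
    rw [eqTab_of_eq this] at hne
    exact absurd hne (by decide)
  exact orderOf_eq_prime h3 hne1

/-- a subgroup of order three is generated by an element of order three -/
theorem gen_of_card3 (X : Subgroup ↥M24) (h : Nat.card X = 3) :
    ∃ x : ↥M24, orderOf x = 3 ∧ X = Subgroup.zpowers x := by
  have : Finite X := Nat.finite_of_card_ne_zero (by rw [h]; norm_num)
  obtain ⟨g, hg⟩ : ∃ g : X, g ≠ 1 := by
    have : 1 < Nat.card X := by rw [h]; norm_num
    have : Nontrivial X := Finite.one_lt_card_iff_nontrivial.mp this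
    exact exists_ne 1
  have hord : orderOf g = 3 := by
    have hdvd : orderOf g ∣ 3 := h ▸ orderOf_dvd_natCard g
    rcases (Nat.dvd_prime (by norm_num : Nat.Prime 3)).mp hdvd with h1 | h3
    · exact absurd (orderOf_eq_one_iff.mp h1) hg
    · exact h3
  refine ⟨g.1, ?_, ?_⟩
  · rw [← hord]; exact Subgroup.orderOf_coe g
  · symm
    apply Subgroup.eq_of_le_of_card_ge
    · rw [Subgroup.zpowers_le]; exact g.2
    · rw [h, Nat.card_zpowers, Subgroup.orderOf_coe, hord]

theorem fixed_eq (x : ↥M24) :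
    {p : GolayPt | ∀ y ∈ Subgroup.zpowers x, ((y : ↥M24) : Equiv.Perm GolayPt) p = p} =
      {p | (x : Equiv.Perm GolayPt) p = p} := by
  ext p
  simp only [Set.mem_ofPred_eq]
  constructor
  · intro h; exact h x (Subgroup.mem_zpowers x)
  · intro h y hy
    obtain ⟨k, rfl⟩ := Subgroup.mem_zpowers_iff.mp hy
    rw [Subgroup.coe_zpow]
    exact Equiv.Perm.zpow_apply_eq_self_of_apply_eq_self h k

theorem ncard_fix (f : Equiv.Perm GolayPt) :
    {p : GolayPt | f p = p}.ncard = (Finset.univ.filter fun p => f p = p).card := by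
  rw [← Set.ncard_coe_finset]
  congr 1
  ext p
  simp

theorem ncard_zpowers (x : ↥M24) :
    {p : GolayPt | ∀ y ∈ Subgroup.zpowers x, ((y : ↥M24) : Equiv.Perm GolayPt) p = p}.ncard =
      (Finset.univ.filter fun p => (x : Equiv.Perm GolayPt) p = p).card := by
  rw [fixed_eq, ncard_fix]

theorem smul_zpowers (k x : ↥M24) :
    MulAut.conj k • Subgroup.zpowers x = Subgroup.zpowers (k * x * k⁻¹) := by
  show Subgroup.map (MulAut.conj k).toMonoidHom (Subgroup.zpowers x) = _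
  rw [MonoidHom.map_zpowers]
  rfl

theorem conj_of_same_tab {x y : ↥M24} {l : List ℕ}
    (hx : ∃ h ∈ M24, Tab (h * (x : Equiv.Perm GolayPt) * h⁻¹) l)
    (hy : ∃ h ∈ M24, Tab (h * (y : Equiv.Perm GolayPt) * h⁻¹) l) :
    ∃ k : ↥M24, MulAut.conj k • Subgroup.zpowers x = Subgroup.zpowers y := by
  obtain ⟨h1, hh1, t1⟩ := hx
  obtain ⟨h2, hh2, t2⟩ := hy
  have e := tab_unique t1 t2
  refine ⟨⟨h2, hh2⟩⁻¹ * ⟨h1, hh1⟩, ?_⟩
  rw [smul_zpowers]
  congr 1
  apply Subtype.ext
  simp only [Subgroup.coe_mul, Subgroup.coe_inv, mul_inv_rev, inv_inv]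
  have : (y : Equiv.Perm GolayPt) = h2⁻¹ * (h1 * x * h1⁻¹) * h2 := by
    rw [e]; group
  rw [this]; group

theorem fpf_of_card {f : Equiv.Perm GolayPt}
    (h : (Finset.univ.filter fun p => f p = p).card = 0) : ∀ p, f p ≠ p := by
  intro p hp
  have : p ∈ Finset.univ.filter fun p => f p = p := by simp [hp]
  rw [Finset.card_eq_zero.mp h] at this
  simp at this

/-- The group of the length-24 code has exactly two conjugacy classes of subgroups of order 3: a subgroup of order 3 fixes either exactly 6 of the 24 points or none of them, both cases occur, and two subgroups of order 3 with the same number of fixed points are conjugate. -/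
theorem result : (∀ X : Subgroup ↥Cfsg.M24, Nat.card X = 3 → {p : Cfsg.GolayPt | ∀ x ∈ X, ((x : ↥Cfsg.M24) : Equiv.Perm Cfsg.GolayPt) p = p}.ncard = 6 ∨ {p : Cfsg.GolayPt | ∀ x ∈ X, ((x : ↥Cfsg.M24) : Equiv.Perm Cfsg.GolayPt) p = p}.ncard = 0) ∧ (∃ X : Subgroup ↥Cfsg.M24, Nat.card X = 3 ∧ {p : Cfsg.GolayPt | ∀ x ∈ X, ((x : ↥Cfsg.M24) : Equiv.Perm Cfsg.GolayPt) p = p}.ncard = 6) ∧ (∃ X : Subgroup ↥Cfsg.M24, Nat.card X = 3 ∧ {p : Cfsg.GolayPt | ∀ x ∈ X, ((x : ↥Cfsg.M24) : Equiv.Perm Cfsg.GolayPt) p = p}.ncard = 0) ∧ ∀ X Y : Subgroup ↥Cfsg.M24, Nat.card X = 3 → Nat.card Y = 3 → {p : Cfsg.GolayPt | ∀ x ∈ X, ((x : ↥Cfsg.M24) : Equiv.Perm Cfsg.GolayPt) p = p}.ncard = {p : Cfsg.GolayPt | ∀ x ∈ Y, ((x : ↥Cfsg.M24) : Equiv.Perm Cfsg.GolayPt) p = p}.ncard → ∃ k : ↥Cfsg.M24, MulAut.conj k • X = Y := by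
  refine ⟨?_, ?_, ?_, ?_⟩
  · intro X hX
    obtain ⟨x, hx3, rfl⟩ := gen_of_card3 X hX
    rw [ncard_zpowers]
    have h3 : orderOf (x : Equiv.Perm GolayPt) = 3 := by rw [Subgroup.orderOf_coe, hx3]
    rcases ord3_fix x.2 h3 with h | h
    · exact Or.inr h
    · exact Or.inl h
  · obtain ⟨σ, hσ, ht⟩ := exA
    have h3 : orderOf σ = 3 := order3_of_tab ht rfl cube_l3A ne_l3A
    refine ⟨Subgroup.zpowers ⟨σ, hσ⟩, ?_, ?_⟩
    · rw [Nat.card_zpowers, ← Subgroup.orderOf_coe]; exact h3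
    · rw [ncard_zpowers]
      show (Finset.univ.filter fun p => σ p = p).card = 6
      rw [card_fixed ht, fixCount_l3A]
  · obtain ⟨σ, hσ, ht⟩ := exB
    have h3 : orderOf σ = 3 := order3_of_tab ht rfl cube_l3B ne_l3B
    refine ⟨Subgroup.zpowers ⟨σ, hσ⟩, ?_, ?_⟩
    · rw [Nat.card_zpowers, ← Subgroup.orderOf_coe]; exact h3
    · rw [ncard_zpowers]
      show (Finset.univ.filter fun p => σ p = p).card = 0
      rw [card_fixed ht, fixCount_l3B]
  · intro X Y hX hY hXY
    obtain ⟨x, hx3, rfl⟩ := gen_of_card3 X hX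
    obtain ⟨y, hy3, rfl⟩ := gen_of_card3 Y hY
    rw [ncard_zpowers, ncard_zpowers] at hXY
    have hx3' : orderOf (x : Equiv.Perm GolayPt) = 3 := by rw [Subgroup.orderOf_coe, hx3]
    have hy3' : orderOf (y : Equiv.Perm GolayPt) = 3 := by rw [Subgroup.orderOf_coe, hy3]
    rcases ord3_fix x.2 hx3' with h | h
    · have h' := hXY ▸ h
      exact conj_of_same_tab (class3B x.2 hx3' (fpf_of_card h)) (class3B y.2 hy3' (fpf_of_card h'))
    · have h' := hXY ▸ h
      exact conj_of_same_tab (class3A x.2 h) (class3A y.2 h')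

end Cfsg.Agent.S5601
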