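import Cfsg.Statements.S5603
import Cfsg.Agent.Lib.Helper92.Classes2
import Cfsg.Agent.Lib.Helper92.Counts

set_option autoImplicit false
open scoped Pointwise
open Cfsg

namespace Cfsg.Agent.S5603

open Cfsg.Agent.Helper7 Cfsg.Agent.Helper92 in
theorem cnt_sext : (sextetData.filter (fixS l3B)).length = 7 := by decide +kernel

open Cfsg.Agent.Helper7 Cfsg.Agent.Helper92 in
theorem cnt_trio : (trioData.filter (fixB l3B)).length = 15 := by decide +kernel

/-- A fixed-point-free element of order 3 of the group of the length-24 code maps to themselves exactly 7 sextets and exactly 15 trios. -/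
theorem result (g : Equiv.Perm Cfsg.GolayPt) (hg : g ∈ Cfsg.M24) (h₃ : orderOf g = 3) (h₀ : ∀ p, g p ≠ p) : {S : Finset (Finset Cfsg.GolayPt) | S ∈ Cfsg.sextets ∧ g • S = S}.ncard = 7 ∧ {T : Finset (Finset Cfsg.GolayPt) | T ∈ Cfsg.trios ∧ g • T = T}.ncard = 15 := by
  obtain ⟨h, hh, ht⟩ := Cfsg.Agent.Helper92.class3B hg h₃ h₀
  have hmem : h * g * h⁻¹ ∈ Cfsg.M24 :=
    Cfsg.M24.mul_mem (Cfsg.M24.mul_mem hh hg) (Cfsg.M24.inv_mem hh)
  have hlen : Cfsg.Agent.Helper92.l3B.length = 24 := rfl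
  refine ⟨?_, ?_⟩
  · rw [← Cfsg.Agent.Helper92.ncard_fixed_conj Cfsg.sextets h g
      (Cfsg.Agent.Helper92.sextets_inv hh), Cfsg.Agent.Helper92.ncard_fixed_sextets hmem ht hlen]
    exact cnt_sext
  · rw [← Cfsg.Agent.Helper92.ncard_fixed_conj Cfsg.trios h g
      (Cfsg.Agent.Helper92.trios_inv hh), Cfsg.Agent.Helper92.ncard_fixed_trios ht hlen]
    exact cnt_trio

end Cfsg.Agent.S5603
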