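import Cfsg.Statements.S5604
import Cfsg.Agent.Lib.Helper92.Ord7c

set_option autoImplicit false
open scoped Pointwise
open Cfsg

namespace Cfsg.Agent.S5604
open Cfsg.Agent.Helper7 Cfsg.Agent.Helper92

theorem mem_conj_smul {G : Type*} [Group G] (H : Subgroup G) (g h : G) :
    h ∈ MulAut.conj g • H ↔ g⁻¹ * h * g ∈ H := by
  rw [Subgroup.mem_pointwise_smul_iff_inv_smul_mem, MulAut.smul_def, ← map_inv,
    MulAut.conj_apply, inv_inv]

theorem mem_normalizer_conj {G : Type*} [Group G] (H : Subgroup G) (g n : G) :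
    n ∈ Subgroup.normalizer ((MulAut.conj g • H : Subgroup G) : Set G) ↔
      g⁻¹ * n * g ∈ Subgroup.normalizer (H : Set G) := by
  rw [Subgroup.mem_normalizer_iff, Subgroup.mem_normalizer_iff]
  constructor
  · intro h x
    have := h (g * x * g⁻¹)
    rw [mem_conj_smul, mem_conj_smul] at this
    have e1 : g⁻¹ * (g * x * g⁻¹) * g = x := by group
    have e2 : g⁻¹ * (n * (g * x * g⁻¹) * n⁻¹) * g = g⁻¹ * n * g * x * (g⁻¹ * n * g)⁻¹ := by group
    rw [e1, e2] at this
    exact this
  · intro h x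
    rw [mem_conj_smul, mem_conj_smul]
    have := h (g⁻¹ * x * g)
    have e2 : g⁻¹ * n * g * (g⁻¹ * x * g) * (g⁻¹ * n * g)⁻¹ = g⁻¹ * (n * x * n⁻¹) * g := by group
    rw [e2] at this
    exact this

theorem mem_centralizer_conj {G : Type*} [Group G] (H : Subgroup G) (g c : G) :
    c ∈ Subgroup.centralizer ((MulAut.conj g • H : Subgroup G) : Set G) ↔
      g⁻¹ * c * g ∈ Subgroup.centralizer (H : Set G) := by
  rw [Subgroup.mem_centralizer_iff, Subgroup.mem_centralizer_iff]
  constructor
  · intro h x hx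
    have hx' : g * x * g⁻¹ ∈ ((MulAut.conj g • H : Subgroup G) : Set G) := by
      rw [SetLike.mem_coe, mem_conj_smul]
      have e1 : g⁻¹ * (g * x * g⁻¹) * g = x := by group
      rw [e1]
      exact hx
    have := h (g * x * g⁻¹) hx'
    calc x * (g⁻¹ * c * g) = g⁻¹ * (g * x * g⁻¹ * c) * g := by group
      _ = g⁻¹ * (c * (g * x * g⁻¹)) * g := by rw [this]
      _ = g⁻¹ * c * g * x := by group
  · intro h x hx
    rw [SetLike.mem_coe, mem_conj_smul] at hx
    have := h _ hx
    calc x * c = g * (g⁻¹ * x * g * (g⁻¹ * c * g)) * g⁻¹ := by group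
      _ = g * (g⁻¹ * c * g * (g⁻¹ * x * g)) * g⁻¹ := by rw [this]
      _ = c * x := by group

theorem card_normalizer_conj {G : Type*} [Group G] (H : Subgroup G) (g : G) :
    Nat.card ↥(Subgroup.normalizer ((MulAut.conj g • H : Subgroup G) : Set G)) =
      Nat.card ↥(Subgroup.normalizer (H : Set G)) :=
  Nat.card_congr (Equiv.subtypeEquiv (MulAut.conj g).symm.toEquiv (fun n => by
    rw [mem_normalizer_conj]; rfl))

theorem card_centralizer_conj {G : Type*} [Group G] (H : Subgroup G) (g : G) :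
    Nat.card ↥(Subgroup.centralizer ((MulAut.conj g • H : Subgroup G) : Set G)) =
      Nat.card ↥(Subgroup.centralizer (H : Set G)) :=
  Nat.card_congr (Equiv.subtypeEquiv (MulAut.conj g).symm.toEquiv (fun n => by
    rw [mem_centralizer_conj]; rfl))

theorem fac7 : (Nat.card ↥M24).factorization 7 = 1 := by
  rw [card_M24, show (244823040 : ℕ) = 7 * 34974720 from rfl,
    Nat.factorization_mul (by norm_num) (by norm_num), Finsupp.add_apply,
    Nat.Prime.factorization_self (by norm_num),
    Nat.factorization_eq_zero_of_not_dvd (by norm_num)]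

/-- For a subgroup S of order 7 of the group of the length-24 code (a Sylow 7-subgroup): the normaliser of S has order 126, the centraliser of S has order 42 and is non-abelian, and the whole normaliser leaves some trio invariant. (These are the orders of a Frobenius group of order 21 times a symmetric group of degree 3; the isomorphism type itself is not asserted here.) -/
theorem result (S : Subgroup ↥Cfsg.M24) (hS : Nat.card S = 7) : Nat.card ↥(Subgroup.normalizer (S : Set ↥Cfsg.M24)) = 126 ∧ Nat.card ↥(Subgroup.centralizer (S : Set ↥Cfsg.M24)) = 42 ∧ (∃ x ∈ Subgroup.centralizer (S : Set ↥Cfsg.M24), ∃ y ∈ Subgroup.centralizer (S : Set ↥Cfsg.M24), x * y ≠ y * x) ∧ ∃ T ∈ Cfsg.trios, ∀ n ∈ Subgroup.normalizer (S : Set ↥Cfsg.M24), ((n : ↥Cfsg.M24) : Equiv.Perm Cfsg.GolayPt) • T = T := by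
  have : Fact (Nat.Prime 7) := ⟨by norm_num⟩
  have hS' : Nat.card S = 7 ^ (Nat.card ↥M24).factorization 7 := by rw [fac7, pow_one, hS]
  have hS7 : Nat.card S7 = 7 ^ (Nat.card ↥M24).factorization 7 := by
    rw [fac7, pow_one, card_S7]
  obtain ⟨g, hg⟩ := MulAction.exists_smul_eq ↥M24 (Sylow.ofCard S7 hS7) (Sylow.ofCard S hS')
  have hSeq : S = MulAut.conj g • S7 := by
    have := congrArg (fun R : Sylow 7 ↥M24 => (R : Subgroup ↥M24)) hg
    exact this.symm
  rw [hSeq]
  refine ⟨?_, ?_, ?_, ?_⟩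
  · rw [card_normalizer_conj, card_N7, card_N7_eq]
  · rw [card_centralizer_conj, card_C7, card_C7_eq]
  · obtain ⟨x, hx, y, hy, hxy⟩ := c7_noncomm
    obtain ⟨x', hx', rfl⟩ := hx
    obtain ⟨y', hy', rfl⟩ := hy
    have ex : g⁻¹ * (g * x' * g⁻¹) * g = x' := by group
    have ey : g⁻¹ * (g * y' * g⁻¹) * g = y' := by group
    refine ⟨g * x' * g⁻¹, (mem_centralizer_conj _ _ _).mpr (by rw [ex]; exact hx'),
      g * y' * g⁻¹, (mem_centralizer_conj _ _ _).mpr (by rw [ey]; exact hy'), ?_⟩
    intro h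
    apply hxy
    have : x' * y' = y' * x' := by
      calc x' * y' = g⁻¹ * (g * x' * g⁻¹ * (g * y' * g⁻¹)) * g := by group
        _ = g⁻¹ * (g * y' * g⁻¹ * (g * x' * g⁻¹)) * g := by rw [h]
        _ = y' * x' := by group
    exact congrArg Subtype.val this
  · refine ⟨(g : Equiv.Perm GolayPt) • dec trio7, smul_mem_trios g.2 trio7_trio, ?_⟩
    intro n hn
    have h1 := (mem_normalizer_conj _ _ _).mp hn
    have h2 : ((g⁻¹ * n * g : ↥M24) : Equiv.Perm GolayPt) ∈ N7 := ⟨_, h1, rfl⟩
    have h3 := (mem_N7.mp h2).trio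
    rw [← mul_smul]
    have e : (n : Equiv.Perm GolayPt) * (g : Equiv.Perm GolayPt) =
        (g : Equiv.Perm GolayPt) * ((g⁻¹ * n * g : ↥M24) : Equiv.Perm GolayPt) := by
      have : n * g = g * (g⁻¹ * n * g) := by group
      exact congrArg Subtype.val this
    rw [e, mul_smul, h3]

end Cfsg.Agent.S5604
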