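import Cfsg.Statements.S5606
import Cfsg.Agent.Lib.Helper92.Classes2
import Cfsg.Agent.Lib.Helper92.Counts

set_option autoImplicit false
open scoped Pointwise
open Cfsg

namespace Cfsg.Agent.S5606

open Cfsg.Agent.Helper7 Cfsg.Agent.Helper92 in
theorem cnt_oct : (octL.filter (fixM l2B)).length = 15 := by decide +kernel

open Cfsg.Agent.Helper7 Cfsg.Agent.Helper92 in
theorem cnt_trio : (trioData.filter (fixB l2B)).length = 75 := by decide +kernel

open Cfsg.Agent.Helper7 Cfsg.Agent.Helper92 in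
theorem cnt_sext : (sextetData.filter (fixS l2B)).length = 51 := by decide +kernel

/-- A fixed-point-free involution of the group of the length-24 code maps to themselves exactly 15 octads, exactly 75 trios and exactly 51 sextets. -/
theorem result (g : Equiv.Perm Cfsg.GolayPt) (hg : g ∈ Cfsg.M24) (h₂ : orderOf g = 2) (h₀ : ∀ p, g p ≠ p) : {o : Finset Cfsg.GolayPt | o ∈ Cfsg.octads ∧ g • o = o}.ncard = 15 ∧ {T : Finset (Finset Cfsg.GolayPt) | T ∈ Cfsg.trios ∧ g • T = T}.ncard = 75 ∧ {S : Finset (Finset Cfsg.GolayPt) | S ∈ Cfsg.sextets ∧ g • S = S}.ncard = 51 := by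
  obtain ⟨h, hh, ht⟩ := Cfsg.Agent.Helper92.class2B hg h₂ h₀
  have hmem : h * g * h⁻¹ ∈ Cfsg.M24 :=
    Cfsg.M24.mul_mem (Cfsg.M24.mul_mem hh hg) (Cfsg.M24.inv_mem hh)
  have hlen : Cfsg.Agent.Helper92.l2B.length = 24 := rfl
  refine ⟨?_, ?_, ?_⟩
  · rw [← Cfsg.Agent.Helper92.ncard_fixed_conj Cfsg.octads h g
      (Cfsg.Agent.Helper92.octads_inv hh), Cfsg.Agent.Helper92.ncard_fixed_octads ht hlen]
    exact cnt_oct
  · rw [← Cfsg.Agent.Helper92.ncard_fixed_conj Cfsg.trios h g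
      (Cfsg.Agent.Helper92.trios_inv hh), Cfsg.Agent.Helper92.ncard_fixed_trios ht hlen]
    exact cnt_trio
  · rw [← Cfsg.Agent.Helper92.ncard_fixed_conj Cfsg.sextets h g
      (Cfsg.Agent.Helper92.sextets_inv hh), Cfsg.Agent.Helper92.ncard_fixed_sextets hmem ht hlen]
    exact cnt_sext

end Cfsg.Agent.S5606
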