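import Cfsg.Statements.S5607
import Cfsg.Agent.Lib.Helper92.Cent2B
import Cfsg.Agent.Lib.Helper7.Chain2
-- import your own Cfsg.Agent.* helpers here

set_option autoImplicit false
open scoped Pointwise
open Cfsg

namespace Cfsg.Agent.S5607

open Cfsg Cfsg.Agent.Helper7 Cfsg.Agent.Helper92

/-- The centraliser in `M24` as a subgroup of the symmetric group. -/
def Cent (t : Equiv.Perm GolayPt) : Subgroup (Equiv.Perm GolayPt) :=
  M24 ⊓ Subgroup.centralizer {t}

theorem mem_Cent {t c : Equiv.Perm GolayPt} : c ∈ Cent t ↔ c ∈ M24 ∧ c * t = t * c := by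
  rw [Cent, Subgroup.mem_inf, Subgroup.mem_centralizer_iff]
  simp only [Set.mem_singleton_iff, forall_eq]
  rw [eq_comm]

/-! ### certificates -/

theorem lvl0 : (List.range 24).all (fun q => certB [] 23 q) = true := by decide +kernel
theorem lvl1 : [1, 2].all (fun q => certB [23] 1 q) = true := by decide +kernel
theorem lvl2 : (List.range 24).all (fun q => [23, 0, 1, 2].contains q || certB [23, 1] 3 q) = true := by
  decide +kernel
def orb3 : List ℕ := [4, 8, 11, 12, 13, 16, 18, 22]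
theorem lvl3 : orb3.all (fun q => certB [23, 1, 3] 4 q) = true := by decide +kernel
theorem up3 : g5Tabs.all (fun l => !(eqTab (mulTab l l2B) (mulTab l2B l)) ||
    orb3.contains (l.getD 4 0)) = true := by decide +kernel
theorem up4 : g5Tabs.all (fun l => !(eqTab (mulTab l l2B) (mulTab l2B l)) ||
    !(Nat.beq (l.getD 4 0) 4) || eqTab l idTab) = true := by decide +kernel

theorem fix_image {t0 c : Equiv.Perm GolayPt} (hcomm : c * t0 = t0 * c) {p : GolayPt}
    (hp : c p = p) : c (t0 p) = t0 p := by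
  have := congrArg (fun f : Equiv.Perm GolayPt => f p) hcomm
  simp only [Equiv.Perm.mul_apply] at this
  rw [this, hp]

theorem bits_T : ∀ i < 24, (8388615 : ℕ).testBit i = true → i = 0 ∨ i = 1 ∨ i = 2 ∨ i = 23 := by
  decide

section
variable {t0 : Equiv.Perm GolayPt} (ht0 : Tab t0 l2B)
include ht0

theorem t0_23 : t0 (pt 23) = pt 0 := by rw [tab_apply_idx ht0]; rfl
theorem t0_1 : t0 (pt 1) = pt 2 := by rw [tab_apply_idx ht0]; rfl
theorem t0_3 : t0 (pt 3) = pt 5 := by rw [tab_apply_idx ht0]; rfl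

/-- level 0: transitivity -/
theorem trans0 (q : GolayPt) : ∃ c ∈ Cent t0, c (pt 23) = q := by
  have h := List.all_eq_true.mp lvl0 (idx q) (List.mem_range.mpr (idx_lt q))
  obtain ⟨c, hc, hcomm, -, himg⟩ := cert_spec ht0 (by norm_num) (by simp) h
  exact ⟨c, mem_Cent.mpr ⟨hc, hcomm⟩, by rw [himg, pt_idx]⟩

theorem card0 : Nat.card (Cent t0) = 24 * Nat.card ↥(stabIn (Cent t0) (pt 23)) := by
  have := card_eq_mul_of_orbit (Cent t0) (pt 23) Finset.univ
    (fun q => ⟨fun _ => trans0 ht0 q, fun _ => Finset.mem_univ q⟩)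
  rw [this]
  rfl

/-- the tetrad containing the point 23 -/
theorem tetrad23 {c : Equiv.Perm GolayPt} (hc : c ∈ Cent t0) (h23 : c (pt 23) = pt 23) :
    c • ofMask 8388615 = ofMask 8388615 := by
  obtain ⟨hcM, hcomm⟩ := mem_Cent.mp hc
  have hT : ofMask 8388615 ∈ dec sext2B := mem_dec.mpr ⟨_, by decide, rfl⟩
  have hcT : c • ofMask 8388615 ∈ dec sext2B := by
    rw [← cent_sext2B ht0 hcM hcomm]
    exact Finset.smul_mem_smul_finset hT
  have h1 : pt 23 ∈ ofMask 8388615 := by rw [mem_ofMask']; decide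
  have h2 : pt 23 ∈ c • ofMask 8388615 := by
    have := Finset.smul_mem_smul_finset (a := c) h1
    rwa [Equiv.Perm.smul_def, h23] at this
  by_contra hne
  exact Finset.disjoint_left.mp (sextet_disjoint sext2B_sextet hcT hT hne) h2 h1

theorem up1 {c : Equiv.Perm GolayPt} (hc : c ∈ stabIn (Cent t0) (pt 23)) :
    c (pt 1) = pt 1 ∨ c (pt 1) = pt 2 := by
  obtain ⟨hc, h23⟩ := mem_stabIn.mp hc
  obtain ⟨hcM, hcomm⟩ := mem_Cent.mp hc
  have hT := tetrad23 ht0 hc h23
  have h0 : c (pt 0) = pt 0 := by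
    have := fix_image hcomm h23
    rwa [t0_23 ht0] at this
  have h1 : pt 1 ∈ ofMask 8388615 := by rw [mem_ofMask']; decide
  have h2 : c (pt 1) ∈ ofMask 8388615 := by
    have := Finset.smul_mem_smul_finset (a := c) h1
    rwa [Equiv.Perm.smul_def, hT] at this
  rw [mem_ofMask'] at h2
  rcases bits_T _ (idx_lt _) h2 with h | h | h | h
  · exfalso
    have : c (pt 1) = c (pt 0) := by rw [h0, ← pt_idx (c (pt 1)), h]
    exact absurd (c.injective this) (by decide)
  · left; rw [← pt_idx (c (pt 1)), h]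
  · right; rw [← pt_idx (c (pt 1)), h]
  · exfalso
    have : c (pt 1) = c (pt 23) := by rw [h23, ← pt_idx (c (pt 1)), h]
    exact absurd (c.injective this) (by decide)

theorem card1 : Nat.card ↥(stabIn (Cent t0) (pt 23)) =
    2 * Nat.card ↥(stabIn (stabIn (Cent t0) (pt 23)) (pt 1)) := by
  have := card_eq_mul_of_orbit (stabIn (Cent t0) (pt 23)) (pt 1) {pt 1, pt 2} (by
    intro q
    constructor
    · intro hq
      have hq' : idx q ∈ [1, 2] := by
        rw [Finset.mem_insert, Finset.mem_singleton] at hq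
        rcases hq with rfl | rfl <;> decide
      have h := List.all_eq_true.mp lvl1 (idx q) hq'
      obtain ⟨c, hc, hcomm, hfix, himg⟩ := cert_spec ht0 (by norm_num) (by simp) h
      exact ⟨c, mem_stabIn.mpr ⟨mem_Cent.mpr ⟨hc, hcomm⟩, hfix 23 (by simp)⟩,
        by rw [himg, pt_idx]⟩
    · rintro ⟨c, hc, rfl⟩
      rw [Finset.mem_insert, Finset.mem_singleton]
      exact up1 ht0 hc)
  rw [this]
  rfl

/-- the remaining twenty points -/
def rest20 : Finset GolayPt := Finset.univ.filter fun p => ¬ (idx p = 23 ∨ idx p = 0 ∨ idx p = 1 ∨ idx p = 2)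

theorem card2 : Nat.card ↥(stabIn (stabIn (Cent t0) (pt 23)) (pt 1)) =
    20 * Nat.card ↥(stabIn (stabIn (stabIn (Cent t0) (pt 23)) (pt 1)) (pt 3)) := by
  have := card_eq_mul_of_orbit (stabIn (stabIn (Cent t0) (pt 23)) (pt 1)) (pt 3) rest20 (by
    intro q
    constructor
    · intro hq
      have hq' : ¬ (idx q = 23 ∨ idx q = 0 ∨ idx q = 1 ∨ idx q = 2) := by
        simpa [rest20] using hq
      have h := List.all_eq_true.mp lvl2 (idx q) (List.mem_range.mpr (idx_lt q))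
      rw [Bool.or_eq_true] at h
      rcases h with h | h
      · exfalso
        apply hq'
        simpa using h
      · obtain ⟨c, hc, hcomm, hfix, himg⟩ := cert_spec ht0 (by norm_num) (by simp) h
        exact ⟨c, mem_stabIn.mpr ⟨mem_stabIn.mpr ⟨mem_Cent.mpr ⟨hc, hcomm⟩, hfix 23 (by simp)⟩,
          hfix 1 (by simp)⟩, by rw [himg, pt_idx]⟩
    · rintro ⟨c, hc, rfl⟩
      obtain ⟨hc1, h1⟩ := mem_stabIn.mp hc
      obtain ⟨hc0, h23⟩ := mem_stabIn.mp hc1
      obtain ⟨hcM, hcomm⟩ := mem_Cent.mp hc0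
      have h0 : c (pt 0) = pt 0 := by
        have := fix_image hcomm h23
        rwa [t0_23 ht0] at this
      have h2 : c (pt 2) = pt 2 := by
        have := fix_image hcomm h1
        rwa [t0_1 ht0] at this
      have key : ∀ j, j < 24 → c (pt j) = pt j → (pt 3 : GolayPt) ≠ pt j → idx (c (pt 3)) ≠ j := by
        intro j hj hfix hne h
        apply hne
        apply c.injective
        rw [hfix, ← pt_idx (c (pt 3)), h]
      simp only [rest20, Finset.mem_filter, Finset.mem_univ, true_and, not_or]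
      exact ⟨key 23 (by norm_num) h23 (by decide), key 0 (by norm_num) h0 (by decide),
        key 1 (by norm_num) h1 (by decide), key 2 (by norm_num) h2 (by decide)⟩)
  rw [this]
  rfl

theorem mem_lvl3 {c : Equiv.Perm GolayPt}
    (hc : c ∈ stabIn (stabIn (stabIn (Cent t0) (pt 23)) (pt 1)) (pt 3)) :
    c ∈ G5 ∧ c * t0 = t0 * c := by
  obtain ⟨hc2, h3⟩ := mem_stabIn.mp hc
  obtain ⟨hc1, h1⟩ := mem_stabIn.mp hc2
  obtain ⟨hc0, h23⟩ := mem_stabIn.mp hc1
  obtain ⟨hcM, hcomm⟩ := mem_Cent.mp hc0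
  have h0 : c (pt 0) = pt 0 := by
    have := fix_image hcomm h23
    rwa [t0_23 ht0] at this
  have h2 : c (pt 2) = pt 2 := by
    have := fix_image hcomm h1
    rwa [t0_1 ht0] at this
  refine ⟨mem_G5.mpr ⟨hcM, ?_⟩, hcomm⟩
  intro b hb
  simp only [base5, List.mem_cons, List.not_mem_nil, or_false] at hb
  rcases hb with rfl | rfl | rfl | rfl | rfl
  · exact h23
  · exact h0
  · exact h1
  · exact h2
  · exact h3

theorem card3 : Nat.card ↥(stabIn (stabIn (stabIn (Cent t0) (pt 23)) (pt 1)) (pt 3)) =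
    8 * Nat.card ↥(stabIn (stabIn (stabIn (stabIn (Cent t0) (pt 23)) (pt 1)) (pt 3)) (pt 4)) := by
  have := card_eq_mul_of_orbit (stabIn (stabIn (stabIn (Cent t0) (pt 23)) (pt 1)) (pt 3)) (pt 4)
    (orb3.map pt).toFinset (by
    intro q
    rw [List.mem_toFinset, List.mem_map]
    constructor
    · rintro ⟨j, hj, rfl⟩
      have h := List.all_eq_true.mp lvl3 j hj
      obtain ⟨c, hc, hcomm, hfix, himg⟩ := cert_spec ht0 (by norm_num) (by simp) h
      exact ⟨c, mem_stabIn.mpr ⟨mem_stabIn.mpr ⟨mem_stabIn.mpr ⟨mem_Cent.mpr ⟨hc, hcomm⟩,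
        hfix 23 (by simp)⟩, hfix 1 (by simp)⟩, hfix 3 (by simp)⟩, himg⟩
    · rintro ⟨c, hc, rfl⟩
      obtain ⟨hG5, hcomm⟩ := mem_lvl3 ht0 hc
      obtain ⟨l, hl, ht⟩ := g5_elem hG5
      have h := List.all_eq_true.mp up3 l hl
      rw [Bool.or_eq_true, tabs_of_comm ht (g5_len hl) ht0 hcomm] at h
      rcases h with h | h
      · exact absurd h (by decide)
      · refine ⟨l.getD 4 0, by simpa using h, ?_⟩
        rw [tab_apply_idx ht]; rfl)
  rw [this]
  rfl

theorem card4 :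
    Nat.card ↥(stabIn (stabIn (stabIn (stabIn (Cent t0) (pt 23)) (pt 1)) (pt 3)) (pt 4)) = 1 := by
  rw [Subgroup.card_eq_one, Subgroup.eq_bot_iff_forall]
  intro c hc
  obtain ⟨hc3, h4⟩ := mem_stabIn.mp hc
  obtain ⟨hG5, hcomm⟩ := mem_lvl3 ht0 hc3
  obtain ⟨l, hl, ht⟩ := g5_elem hG5
  have h := List.all_eq_true.mp up4 l hl
  rw [Bool.or_eq_true, Bool.or_eq_true, tabs_of_comm ht (g5_len hl) ht0 hcomm,
    (Nat.beq_eq).mpr (tab_getD_eq ht (by norm_num) (by norm_num) h4)] at h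
  rcases h with (h | h) | h
  · exact absurd h (by decide)
  · exact absurd h (by decide)
  · rw [eq_of_eqTab (g5_len hl) h] at ht
    exact tab_id_eq_one ht

theorem card_Cent : Nat.card (Cent t0) = 7680 := by
  rw [card0 ht0, card1 ht0, card2 ht0, card3 ht0, card4 ht0]

theorem trans_Cent (p q : GolayPt) : ∃ c ∈ Cent t0, c p = q := by
  obtain ⟨c1, hc1, h1⟩ := trans0 ht0 p
  obtain ⟨c2, hc2, h2⟩ := trans0 ht0 q
  refine ⟨c2 * c1⁻¹, (Cent t0).mul_mem hc2 ((Cent t0).inv_mem hc1), ?_⟩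
  rw [Equiv.Perm.mul_apply, ← h1]
  simp [h2]

end

theorem conj_comm_iff (h c t : Equiv.Perm GolayPt) :
    (h * c * h⁻¹) * (h * t * h⁻¹) = (h * t * h⁻¹) * (h * c * h⁻¹) ↔ c * t = t * c := by
  constructor
  · intro e
    have e1 : h * (c * t) * h⁻¹ = h * (t * c) * h⁻¹ := by
      have a1 : h * (c * t) * h⁻¹ = (h * c * h⁻¹) * (h * t * h⁻¹) := by group
      have a2 : h * (t * c) * h⁻¹ = (h * t * h⁻¹) * (h * c * h⁻¹) := by group
      rw [a1, a2, e]
    exact mul_left_cancel (mul_right_cancel e1)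
  · intro e
    have a1 : (h * c * h⁻¹) * (h * t * h⁻¹) = h * (c * t) * h⁻¹ := by group
    have a2 : (h * t * h⁻¹) * (h * c * h⁻¹) = h * (t * c) * h⁻¹ := by group
    rw [a1, a2, e]

theorem conj_mem_iff {h : Equiv.Perm GolayPt} (hh : h ∈ M24) (c : Equiv.Perm GolayPt) :
    h * c * h⁻¹ ∈ M24 ↔ c ∈ M24 := by
  rw [Subgroup.mul_mem_cancel_right _ (M24.inv_mem hh), Subgroup.mul_mem_cancel_left _ hh]


/-- For a fixed-point-free involution t of the group of the length-24 code: its centraliser in that group has order 7680, is transitive on the 24 points, and is contained, together with t, in the stabiliser of some sextet. -/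
theorem result (t : Equiv.Perm Cfsg.GolayPt) (ht : t ∈ Cfsg.M24) (h₂ : orderOf t = 2) (h₀ : ∀ p, t p ≠ p) : Nat.card {c : Equiv.Perm Cfsg.GolayPt // c ∈ Cfsg.M24 ∧ c * t = t * c} = 7680 ∧ (∀ p q : Cfsg.GolayPt, ∃ c ∈ Cfsg.M24, c * t = t * c ∧ c p = q) ∧ ∃ S ∈ Cfsg.sextets, t • S = S ∧ ∀ c ∈ Cfsg.M24, c * t = t * c → c • S = S := by
  obtain ⟨h, hh, ht0⟩ := class2B ht h₂ h₀
  have hcard : Nat.card {c : Equiv.Perm GolayPt // c ∈ M24 ∧ c * t = t * c} =
      Nat.card (Cent (h * t * h⁻¹)) := by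
    apply Nat.card_congr
    refine Equiv.subtypeEquiv (MulAut.conj h).toEquiv ?_
    intro c
    show _ ↔ h * c * h⁻¹ ∈ Cent (h * t * h⁻¹)
    rw [mem_Cent, conj_mem_iff hh, conj_comm_iff]
  refine ⟨by rw [hcard, card_Cent ht0], ?_, ?_⟩
  · intro p q
    obtain ⟨c, hc, hcpq⟩ := trans_Cent ht0 (h p) (h q)
    obtain ⟨hcM, hcomm⟩ := mem_Cent.mp hc
    refine ⟨h⁻¹ * c * h, M24.mul_mem (M24.mul_mem (M24.inv_mem hh) hcM) hh, ?_, ?_⟩
    · have e : c = h * (h⁻¹ * c * h) * h⁻¹ := by group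
      rw [e] at hcomm
      exact (conj_comm_iff h _ t).mp hcomm
    · simp only [Equiv.Perm.mul_apply]
      rw [hcpq]
      simp
  · refine ⟨h⁻¹ • dec sext2B, smul_mem_sextets (M24.inv_mem hh) sext2B_sextet, ?_, ?_⟩
    · have e : t = h⁻¹ * (h * t * h⁻¹) * h := by group
      rw [e, mul_smul, mul_smul, smul_inv_smul,
        smul_family_of_fix (sext2B_tetrad_fix ht0)]
    · intro c hc hcomm
      have hc' : h * c * h⁻¹ ∈ Cent (h * t * h⁻¹) := by
        rw [mem_Cent, conj_mem_iff hh, conj_comm_iff]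
        exact ⟨hc, hcomm⟩
      obtain ⟨hcM, hcomm'⟩ := mem_Cent.mp hc'
      have := cent_sext2B ht0 hcM hcomm'
      have e : c = h⁻¹ * (h * c * h⁻¹) * h := by group
      rw [e, mul_smul, mul_smul, smul_inv_smul, this]

end Cfsg.Agent.S5607
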