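import Cfsg.Statements.S5608
import Cfsg.Agent.Lib.Helper92.Classes3

set_option autoImplicit false
open scoped Pointwise
open Cfsg

namespace Cfsg.Agent.S5608

open Cfsg Cfsg.Agent.Helper7 Cfsg.Agent.Helper92

/-- No element of order three of the five-point stabiliser commutes with a fixed-point-free
involution in the coset of `r`. -/
def noComm (r : List ℕ) : Bool :=
  g5Tabs.all fun l => !(fpfB (mulTab r l)) ||
    !(eqTab (mulTab (mulTab r l) (mulTab r l)) idTab) ||
    g5Tabs.all fun l' => eqTab l' idTab || !(eqTab (mulTab (mulTab l' l') l') idTab) ||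
      !(eqTab (mulTab (mulTab r l) l') (mulTab l' (mulTab r l)))

theorem noComm_5 : noComm r2B_5 = true := by decide +kernel
theorem noComm_4 : noComm r2B_4 = true := by decide +kernel

/-- A fixed-point-free element of order three preserving a finite set. -/
theorem three_dvd_of_fpf (x : Equiv.Perm GolayPt) (F : Finset GolayPt)
    (hF : ∀ p, p ∈ F ↔ x p ∈ F) (h3 : x ^ 3 = 1) (h0 : ∀ p ∈ F, x p ≠ p) : 3 ∣ F.card := by
  have : Fact (Nat.Prime 3) := ⟨by norm_num⟩
  have hF' : ∀ p, x p ∈ F ↔ p ∈ F := fun p => (hF p).symm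
  let σ : Equiv.Perm {p // p ∈ F} := x.subtypePerm hF'
  have hσ : σ ^ 3 ^ 1 = 1 := by
    rw [pow_one]
    show (x.subtypePerm hF') ^ 3 = 1
    rw [Equiv.Perm.subtypePerm_pow]
    ext q
    simp [h3]
  have hsupp : σ.supportᶜ = ∅ := by
    rw [Finset.compl_eq_empty_iff]
    ext q
    simp only [Equiv.Perm.mem_support, Finset.mem_univ, iff_true]
    intro h
    apply h0 q.1 q.2
    have := congrArg Subtype.val h
    simpa [σ] using this
  have := Equiv.Perm.card_compl_support_modEq hσ
  rw [hsupp, Finset.card_empty, Fintype.card_coe] at this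
  exact (Nat.modEq_zero_iff_dvd.mp this.symm)

/-- the impossible case: six fixed points for the element of order three, none for the
involution -/
theorem case_six_zero (x s : Equiv.Perm GolayPt) (hx : x ∈ M24) (hs : s ∈ M24)
    (h₃ : orderOf x = 3) (h₂ : orderOf s = 2) (hc : x * s = s * x)
    (h6 : (Finset.univ.filter fun p => x p = p).card = 6) (h0 : ∀ p, s p ≠ p) : False := by
  have hsq := sq_eq_one_of_orderOf h₂
  have hss : ∀ p, s (s p) = p := fun p => by
    have := congrArg (fun f : Equiv.Perm GolayPt => f p) hsq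
    simpa using this
  set F := Finset.univ.filter fun p => x p = p with hFdef
  have memF : ∀ p, p ∈ F ↔ x p = p := fun p => by simp [hFdef]
  have sF : ∀ p, p ∈ F → s p ∈ F := by
    intro p hp
    rw [memF] at hp ⊢
    have := congrArg (fun f : Equiv.Perm GolayPt => f p) hc
    simp only [Equiv.Perm.mul_apply] at this
    rw [this, hp]
  obtain ⟨f1, hf1⟩ := Finset.card_pos.mp (by rw [h6]; norm_num : 0 < F.card)
  obtain ⟨f2, hf2⟩ : ∃ f2, f2 = s f1 := ⟨_, rfl⟩
  obtain ⟨f3, hf3, hf3s⟩ := Finset.exists_mem_notMem_of_card_lt_card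
    (s := {f1, f2}) (t := F) (by
      have := Finset.card_le_two (a := f1) (b := f2)
      omega)
  obtain ⟨f4, hf4⟩ : ∃ f4, f4 = s f3 := ⟨_, rfl⟩
  obtain ⟨f5, hf5, hf5s⟩ := Finset.exists_mem_notMem_of_card_lt_card
    (s := {f1, f2, f3, f4}) (t := F) (by
      have := Finset.card_le_four (a := f1) (b := f2) (c := f3) (d := f4)
      omega)
  obtain ⟨f6, hf6⟩ : ∃ f6, f6 = s f5 := ⟨_, rfl⟩
  simp only [Finset.mem_insert, Finset.mem_singleton, not_or] at hf3s hf5s
  have hF2 : f2 ∈ F := hf2 ▸ sF f1 hf1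
  have hF4 : f4 ∈ F := hf4 ▸ sF f3 hf3
  have hF6 : f6 ∈ F := hf6 ▸ sF f5 hf5
  have n12 : f1 ≠ f2 := fun h => h0 f1 (by rw [← hf2]; exact h.symm)
  have n34 : f3 ≠ f4 := fun h => h0 f3 (by rw [← hf4]; exact h.symm)
  have n41 : f4 ≠ f1 := fun h => hf3s.2 (by
    have : s f4 = s f1 := by rw [h]
    rw [hf4, hss, ← hf2] at this
    exact this)
  have n42 : f4 ≠ f2 := fun h => hf3s.1 (s.injective (by rw [← hf4, ← hf2]; exact h))
  have n61 : f6 ≠ f1 := fun h => hf5s.2.1 (by
    have : s f6 = s f1 := by rw [h]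
    rw [hf6, hss, ← hf2] at this
    exact this)
  have n62 : f6 ≠ f2 := fun h => hf5s.1 (s.injective (by rw [← hf6, ← hf2]; exact h))
  have n63 : f6 ≠ f3 := fun h => hf5s.2.2.2 (by
    have : s f6 = s f3 := by rw [h]
    rw [hf6, hss, ← hf4] at this
    exact this)
  have n64 : f6 ≠ f4 := fun h => hf5s.2.2.1 (s.injective (by rw [← hf6, ← hf4]; exact h))
  have n65 : f6 ≠ f5 := fun h => h0 f5 (by rw [← hf6]; exact h)
  have hnd : [f1, f2, f3, f4, f5].Nodup := by
    simp only [List.nodup_cons, List.mem_cons, List.not_mem_nil, or_false, not_or,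
      List.nodup_nil, and_true, not_false_eq_true]
    exact ⟨⟨n12, Ne.symm hf3s.1, Ne.symm n41, Ne.symm hf5s.1⟩,
      ⟨Ne.symm hf3s.2, Ne.symm n42, Ne.symm hf5s.2.1⟩, ⟨n34, Ne.symm hf5s.2.2.1⟩,
      Ne.symm hf5s.2.2.2⟩
  obtain ⟨h, hh, hmap⟩ := exists_to_base [f1, f2, f3, f4, f5] hnd rfl
  simp only [List.map_cons, List.map_nil, base5, List.cons.injEq, and_true] at hmap
  obtain ⟨e1, e2, e3, e4, e5⟩ := hmap
  set x1 := h * x * h⁻¹ with hx1
  set s1 := h * s * h⁻¹ with hs1
  have hx1mem : x1 ∈ M24 := M24.mul_mem (M24.mul_mem hh hx) (M24.inv_mem hh)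
  have hs1mem : s1 ∈ M24 := M24.mul_mem (M24.mul_mem hh hs) (M24.inv_mem hh)
  have a1 : x1 (pt 23) = pt 23 := by rw [← e1, hx1, conj_apply, (memF f1).mp hf1]
  have a2 : x1 (pt 0) = pt 0 := by rw [← e2, hx1, conj_apply, (memF f2).mp hF2]
  have a3 : x1 (pt 1) = pt 1 := by rw [← e3, hx1, conj_apply, (memF f3).mp hf3]
  have a4 : x1 (pt 2) = pt 2 := by rw [← e4, hx1, conj_apply, (memF f4).mp hF4]
  have a5 : x1 (pt 3) = pt 3 := by rw [← e5, hx1, conj_apply, (memF f5).mp hf5]
  have i1 : s1 (pt 23) = pt 0 := by rw [← e1, hs1, conj_apply, ← hf2, e2]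
  have i2 : s1 (pt 0) = pt 23 := by rw [← e2, hs1, conj_apply, hf2, hss, e1]
  have i3 : s1 (pt 1) = pt 2 := by rw [← e3, hs1, conj_apply, ← hf4, e4]
  have i4 : s1 (pt 2) = pt 1 := by rw [← e4, hs1, conj_apply, hf4, hss, e3]
  have i5 : s1 (pt 3) = h f6 := by rw [← e5, hs1, conj_apply, ← hf6]
  have hY : s1 (pt 3) ∉ base5.map pt := by
    rw [i5, mem_base_iff]
    rintro (hY | hY | hY | hY | hY)
    · exact n61 (h.injective (hY.trans e1.symm))
    · exact n62 (h.injective (hY.trans e2.symm))
    · exact n63 (h.injective (hY.trans e3.symm))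
    · exact n64 (h.injective (hY.trans e4.symm))
    · exact n65 (h.injective (hY.trans e5.symm))
  obtain ⟨k, hk, hkY⟩ := g5_move hY
  have hk' := mem_G5.mp hk
  have kfix : ∀ b ∈ base5, k (pt b) = pt b := hk'.2
  set x2 := k * x1 * k⁻¹ with hx2
  set s2 := k * s1 * k⁻¹ with hs2
  have hx1G : x1 ∈ G5 := by
    rw [mem_G5]
    refine ⟨hx1mem, ?_⟩
    intro b hb
    simp only [base5, List.mem_cons, List.not_mem_nil, or_false] at hb
    rcases hb with rfl | rfl | rfl | rfl | rfl
    · exact a1
    · exact a2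
    · exact a3
    · exact a4
    · exact a5
  have hx2G : x2 ∈ G5 := G5.mul_mem (G5.mul_mem hk hx1G) (G5.inv_mem hk)
  have hs2mem : s2 ∈ M24 := M24.mul_mem (M24.mul_mem hk'.1 hs1mem) (M24.inv_mem hk'.1)
  have j1 : s2 (pt 23) = pt 0 := by
    have := conj_apply k s1 (pt 23)
    rwa [kfix 23 (by decide), i1, kfix 0 (by decide)] at this
  have j2 : s2 (pt 0) = pt 23 := by
    have := conj_apply k s1 (pt 0)
    rwa [kfix 0 (by decide), i2, kfix 23 (by decide)] at this
  have j3 : s2 (pt 1) = pt 2 := by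
    have := conj_apply k s1 (pt 1)
    rwa [kfix 1 (by decide), i3, kfix 2 (by decide)] at this
  have j4 : s2 (pt 2) = pt 1 := by
    have := conj_apply k s1 (pt 2)
    rwa [kfix 2 (by decide), i4, kfix 1 (by decide)] at this
  have j5 : s2 (pt 3) = k (s1 (pt 3)) := by
    have := conj_apply k s1 (pt 3)
    rwa [kfix 3 (by decide)] at this
  have hfpf2 : ∀ p, s2 p ≠ p := by
    intro p hp
    apply h0 (h⁻¹ (k⁻¹ p))
    have := congrArg (fun y => h⁻¹ (k⁻¹ y)) hp
    simpa [hs2, hs1] using this
  have hsq2 : s2 * s2 = 1 := by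
    have : orderOf s2 = 2 := by rw [hs2, orderOf_conj', hs1, orderOf_conj', h₂]
    exact sq_eq_one_of_orderOf this
  have hord2 : orderOf x2 = 3 := by rw [hx2, orderOf_conj', hx1, orderOf_conj', h₃]
  have hcomm2 : s2 * x2 = x2 * s2 := by
    have hc1 : s1 * x1 = x1 * s1 := by
      rw [hs1, hx1]
      have : h * s * h⁻¹ * (h * x * h⁻¹) = h * (s * x) * h⁻¹ := by group
      rw [this, ← hc]
      group
    rw [hs2, hx2]
    have : k * s1 * k⁻¹ * (k * x1 * k⁻¹) = k * (s1 * x1) * k⁻¹ := by group
    rw [this, hc1]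
    group
  obtain ⟨l', hl', ht'⟩ := g5_elem hx2G
  have hlen' := g5_len hl'
  have hne' : l' ≠ idTab := tab_ne_idTab ht' (ne_one_of_orderOf hord2 (by norm_num))
  have hcube' : mulTab (mulTab l' l') l' = idTab :=
    tab_cube_eq ht' hlen' (cube_eq_one_of_orderOf hord2)
  have hfin : ∀ (lr : List ℕ), lr ∈ clsTabs → (∀ b ∈ base5, s2 (pt b) = pt (lr.getD b 0)) →
      noComm lr = true → False := by
    intro lr hlr himg hall
    obtain ⟨l, hl, ht, hlen⟩ := coset_tab hs2mem hlr himg
    have h1 := List.all_eq_true.mp hall l hl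
    simp only [Bool.or_eq_true, Bool.not_eq_true'] at h1
    rcases h1 with (h1 | h1) | h1
    · rw [fpfB_of (tab_ne_of_fpf ht hfpf2)] at h1
      exact absurd h1 (by decide)
    · rw [eqTab_of_eq (tab_sq_eq ht hlen hsq2)] at h1
      exact absurd h1 (by decide)
    · have h2 := List.all_eq_true.mp h1 l' hl'
      simp only [Bool.or_eq_true, Bool.not_eq_true'] at h2
      rcases h2 with (h2 | h2) | h2
      · exact hne' (eq_of_eqTab hlen' h2)
      · rw [eqTab_of_eq hcube'] at h2
        exact absurd h2 (by decide)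
      · have e : mulTab (mulTab lr l) l' = mulTab l' (mulTab lr l) := by
          have t1 := ht.mul ht' hlen'
          have t2 := ht'.mul ht hlen
          rw [hcomm2] at t1
          exact tab_ext t1 t2 (by rw [mulTab_length, hlen']) (by rw [mulTab_length, hlen])
        rw [eqTab_of_eq e] at h2
        exact absurd h2 (by decide)
  rcases hkY with hkY | hkY
  · apply hfin r2B_5 (reps_mem _ (by simp)) _ noComm_5
    intro b hb
    simp only [base5, List.mem_cons, List.not_mem_nil, or_false] at hb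
    rcases hb with rfl | rfl | rfl | rfl | rfl
    · exact j1
    · exact j2
    · exact j3
    · exact j4
    · rw [j5, hkY]; rfl
  · apply hfin r2B_4 (reps_mem _ (by simp)) _ noComm_4
    intro b hb
    simp only [base5, List.mem_cons, List.not_mem_nil, or_false] at hb
    rcases hb with rfl | rfl | rfl | rfl | rfl
    · exact j1
    · exact j2
    · exact j3
    · exact j4
    · rw [j5, hkY]; rfl

/-- If an element of order 3 and an involution of the group of the length-24 code commute, then either the element of order 3 has exactly 6 fixed points and the involution exactly 8, or both are fixed-point-free. -/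
theorem result (x s : Equiv.Perm Cfsg.GolayPt) (hx : x ∈ Cfsg.M24) (hs : s ∈ Cfsg.M24) (h₃ : orderOf x = 3) (h₂ : orderOf s = 2) (hc : Commute x s) : ((Finset.univ.filter fun p => x p = p).card = 6 ∧ (Finset.univ.filter fun p => s p = p).card = 8) ∨ ((Finset.univ.filter fun p => x p = p).card = 0 ∧ (Finset.univ.filter fun p => s p = p).card = 0) := by
  have hcomm : x * s = s * x := hc.eq
  rcases ord3_fix hx h₃ with hx0 | hx6 <;> rcases invol_fix hs h₂ with hs0 | hs8
  · exact Or.inr ⟨hx0, hs0⟩
  · -- x fixed-point-free, s with eight fixed points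
    exfalso
    have hx0' : ∀ p, x p ≠ p := by
      intro p hp
      have : p ∈ Finset.univ.filter fun p => x p = p := by simp [hp]
      rw [Finset.card_eq_zero.mp hx0] at this
      simp at this
    have h3 : x ^ 3 = 1 := by rw [← h₃]; exact pow_orderOf_eq_one x
    have hF : ∀ p, p ∈ (Finset.univ.filter fun p => s p = p) ↔
        x p ∈ (Finset.univ.filter fun p => s p = p) := by
      intro p
      simp only [Finset.mem_filter, Finset.mem_univ, true_and]
      have := congrArg (fun f : Equiv.Perm GolayPt => f p) hcomm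
      simp only [Equiv.Perm.mul_apply] at this
      constructor
      · intro hp; rw [← this, hp]
      · intro hp; rw [← this] at hp; exact x.injective hp
    have := three_dvd_of_fpf x _ hF h3 (fun p _ => hx0' p)
    rw [hs8] at this
    omega
  · exfalso
    have hs0' : ∀ p, s p ≠ p := by
      intro p hp
      have : p ∈ Finset.univ.filter fun p => s p = p := by simp [hp]
      rw [Finset.card_eq_zero.mp hs0] at this
      simp at this
    exact case_six_zero x s hx hs h₃ h₂ hcomm hx6 hs0'
  · exact Or.inl ⟨hx6, hs8⟩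

end Cfsg.Agent.S5608
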