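import Cfsg.Statements.S5609
import Cfsg.Agent.Lib.Helper92.OctadGraph

set_option autoImplicit false
open scoped Pointwise
open Cfsg

namespace Cfsg.Agent.S5609

open Cfsg.Agent.Helper7 Cfsg.Agent.Helper92 in
theorem adj_iff (u v : Cfsg.octads) :
    (Cfsg.blockGraph Cfsg.octads).Adj u v ↔ u ≠ v ∧ Disjoint (u : Finset Cfsg.GolayPt) v := by
  unfold Cfsg.blockGraph
  rw [SimpleGraph.fromRel_adj]
  constructor
  · rintro ⟨h1, h2 | h2⟩
    · exact ⟨h1, h2⟩
    · exact ⟨h1, h2.symm⟩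
  · rintro ⟨h1, h2⟩
    exact ⟨h1, Or.inl h2⟩

open Cfsg.Agent.Helper7 Cfsg.Agent.Helper92 in
theorem ne_of_disjoint {a b : Finset Cfsg.GolayPt} (ha : a ∈ Cfsg.octads) (hab : Disjoint a b) :
    a ≠ b := by
  rintro rfl
  rw [disjoint_self] at hab
  have := ha.2
  rw [hab] at this
  simp at this

open Cfsg.Agent.Helper7 Cfsg.Agent.Helper92 in
theorem no_common {o o' a : Finset Cfsg.GolayPt} (ho : o ∈ Cfsg.octads) (ho' : o' ∈ Cfsg.octads)
    (ha : a ∈ Cfsg.octads) (h2 : (o ∩ o').card = 2) (h1 : Disjoint a o) (h1' : Disjoint a o') :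
    False := by
  have hs : symmDiff o a ∈ Code := symmDiff_mem ho.1 ha.1
  have hs' : symmDiff (symmDiff o a) o' ∈ Code := symmDiff_mem hs ho'.1
  have e1 := Cfsg.Agent.Helper92.card_symmDiff_add o a
  have e2 := Cfsg.Agent.Helper92.card_symmDiff_add (symmDiff o a) o'
  have hoa : o ∩ a = ∅ := Finset.disjoint_iff_inter_eq_empty.mp h1.symm
  have hao' : a ∩ o' = ∅ := Finset.disjoint_iff_inter_eq_empty.mp h1'
  have e3 : symmDiff o a ∩ o' = o ∩ o' := by
    rw [h1.symm.symmDiff_eq_sup, Finset.sup_eq_union, Finset.union_inter_distrib_right, hao',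
      Finset.union_empty]
  rw [e3, h2] at e2
  rw [hoa, Finset.card_empty, ho.2, ha.2] at e1
  rw [ho'.2] at e2
  rcases weight_cases _ hs' with h | h | h | h | h <;> omega

open Cfsg.Agent.Helper7 Cfsg.Agent.Helper92 in
theorem inter_cases {o o' : Finset Cfsg.GolayPt} (ho : o ∈ Cfsg.octads) (ho' : o' ∈ Cfsg.octads)
    (hne : o ≠ o') : (o ∩ o').card = 0 ∨ (o ∩ o').card = 2 ∨ (o ∩ o').card = 4 := by
  have h1 : (o ∩ o').card < 5 := by
    by_contra h
    exact hne (octad_eq_of_inter ho ho' (by omega))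
  have h2 := two_dvd_card_inter ho.1 ho'.1
  omega

open Cfsg.Agent.Helper7 Cfsg.Agent.Helper92 in
/-- Walks of the expected length between two distinct octads. -/
theorem walks (u v : Cfsg.octads) (hne : u ≠ v) :
    (((u : Finset Cfsg.GolayPt) ∩ v).card = 0 → (Cfsg.blockGraph Cfsg.octads).Adj u v) ∧
    (((u : Finset Cfsg.GolayPt) ∩ v).card = 4 →
      ∃ w, (Cfsg.blockGraph Cfsg.octads).Adj u w ∧ (Cfsg.blockGraph Cfsg.octads).Adj w v) ∧
    (((u : Finset Cfsg.GolayPt) ∩ v).card = 2 →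
      ∃ w x, (Cfsg.blockGraph Cfsg.octads).Adj u w ∧ (Cfsg.blockGraph Cfsg.octads).Adj w x ∧
        (Cfsg.blockGraph Cfsg.octads).Adj x v) := by
  obtain ⟨o, ho⟩ := u
  obtain ⟨o', ho'⟩ := v
  refine ⟨?_, ?_, ?_⟩
  · intro h0
    rw [adj_iff]
    exact ⟨hne, Finset.disjoint_iff_inter_eq_empty.mpr (Finset.card_eq_zero.mp h0)⟩
  · intro h4
    obtain ⟨a, ha, h1, h2⟩ := exists_disjoint_both ho ho' h4
    refine ⟨⟨a, ha⟩, ?_, ?_⟩
    · rw [adj_iff]
      refine ⟨?_, h1.symm⟩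
      intro h
      exact ne_of_disjoint ha h1 (congrArg Subtype.val h).symm
    · rw [adj_iff]
      refine ⟨?_, h2⟩
      intro h
      exact ne_of_disjoint ha h2 (congrArg Subtype.val h)
  · intro h2
    obtain ⟨a, ha, h1, h4⟩ := exists_disjoint_four ho ho' h2
    obtain ⟨b, hb, hb1, hb2⟩ := exists_disjoint_both ha ho' h4
    refine ⟨⟨a, ha⟩, ⟨b, hb⟩, ?_, ?_, ?_⟩
    · rw [adj_iff]
      refine ⟨?_, h1.symm⟩
      intro h
      exact ne_of_disjoint ha h1 (congrArg Subtype.val h).symm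
    · rw [adj_iff]
      refine ⟨?_, hb1.symm⟩
      intro h
      exact ne_of_disjoint hb hb1 (congrArg Subtype.val h).symm
    · rw [adj_iff]
      refine ⟨?_, hb2⟩
      intro h
      exact ne_of_disjoint hb hb2 (congrArg Subtype.val h)

open Cfsg.Agent.Helper7 Cfsg.Agent.Helper92 in
theorem reach (u v : Cfsg.octads) : (Cfsg.blockGraph Cfsg.octads).Reachable u v := by
  by_cases hne : u = v
  · rw [hne]
  obtain ⟨w0, w4, w2⟩ := walks u v hne
  have hne' : (u : Finset Cfsg.GolayPt) ≠ v := fun h => hne (Subtype.ext h)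
  rcases inter_cases u.2 v.2 hne' with h | h | h
  · exact (w0 h).reachable
  · obtain ⟨w, x, h1, h2, h3⟩ := w2 h
    exact h1.reachable.trans (h2.reachable.trans h3.reachable)
  · obtain ⟨w, h1, h2⟩ := w4 h
    exact h1.reachable.trans h2.reachable

/-- In the graph on the 759 octads of the length-24 code in which two octads are adjacent when they are disjoint, the graph is connected (of diameter 3) and two distinct octads are at distance 1, 2 or 3 exactly when they meet in 0, 4 or 2 points respectively. -/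
theorem result (o o' : Finset Cfsg.GolayPt) (ho : o ∈ Cfsg.octads) (ho' : o' ∈ Cfsg.octads) (hne : o ≠ o') : (Cfsg.blockGraph Cfsg.octads).Connected ∧ ((Cfsg.blockGraph Cfsg.octads).dist ⟨o, ho⟩ ⟨o', ho'⟩ = 1 ↔ (o ∩ o').card = 0) ∧ ((Cfsg.blockGraph Cfsg.octads).dist ⟨o, ho⟩ ⟨o', ho'⟩ = 2 ↔ (o ∩ o').card = 4) ∧ ((Cfsg.blockGraph Cfsg.octads).dist ⟨o, ho⟩ ⟨o', ho'⟩ = 3 ↔ (o ∩ o').card = 2) := by
  have hne' : (⟨o, ho⟩ : Cfsg.octads) ≠ ⟨o', ho'⟩ := fun h => hne (congrArg Subtype.val h)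
  have hconn : (Cfsg.blockGraph Cfsg.octads).Connected :=
    { preconnected := reach
      nonempty := ⟨⟨o, ho⟩⟩ }
  refine ⟨hconn, ?_⟩
  obtain ⟨w0, w4, w2⟩ := walks ⟨o, ho⟩ ⟨o', ho'⟩ hne'
  have hr := reach ⟨o, ho⟩ ⟨o', ho'⟩
  have hpos := hr.pos_dist_of_ne hne'
  have hadj : (Cfsg.blockGraph Cfsg.octads).dist ⟨o, ho⟩ ⟨o', ho'⟩ = 1 ↔ (o ∩ o').card = 0 := by
    rw [SimpleGraph.dist_eq_one_iff_adj]
    constructor
    · intro h
      rw [adj_iff] at h
      exact Finset.card_eq_zero.mpr (Finset.disjoint_iff_inter_eq_empty.mp h.2)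
    · exact w0
  rcases inter_cases ho ho' hne with h | h | h
  · have h1 := hadj.mpr h
    rw [h1, h]
    simp
  · -- distance 3
    obtain ⟨w, x, a1, a2, a3⟩ := w2 h
    have hle : (Cfsg.blockGraph Cfsg.octads).dist ⟨o, ho⟩ ⟨o', ho'⟩ ≤ 3 := by
      have := SimpleGraph.dist_le (SimpleGraph.Walk.cons a1 (SimpleGraph.Walk.cons a2
        (SimpleGraph.Walk.cons a3 SimpleGraph.Walk.nil)))
      simpa using this
    have hn1 : (Cfsg.blockGraph Cfsg.octads).dist ⟨o, ho⟩ ⟨o', ho'⟩ ≠ 1 := by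
      intro h1
      have := hadj.mp h1
      omega
    have hn2 : (Cfsg.blockGraph Cfsg.octads).dist ⟨o, ho⟩ ⟨o', ho'⟩ ≠ 2 := by
      intro h2
      have he : (Cfsg.blockGraph Cfsg.octads).edist ⟨o, ho⟩ ⟨o', ho'⟩ = 2 := by
        rw [← hr.coe_dist_eq_edist, h2]; rfl
      obtain ⟨-, -, ⟨c, hc⟩⟩ := SimpleGraph.edist_eq_two_iff.mp he
      rw [SimpleGraph.mem_commonNeighbors, adj_iff, adj_iff] at hc
      exact no_common ho ho' c.2 h hc.1.2.symm hc.2.2.symm
    have h3 : (Cfsg.blockGraph Cfsg.octads).dist ⟨o, ho⟩ ⟨o', ho'⟩ = 3 := by omega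
    rw [h3, h]
    simp
  · -- distance 2
    obtain ⟨w, a1, a2⟩ := w4 h
    have hle : (Cfsg.blockGraph Cfsg.octads).dist ⟨o, ho⟩ ⟨o', ho'⟩ ≤ 2 := by
      have := SimpleGraph.dist_le (SimpleGraph.Walk.cons a1 (SimpleGraph.Walk.cons a2
        SimpleGraph.Walk.nil))
      simpa using this
    have hn1 : (Cfsg.blockGraph Cfsg.octads).dist ⟨o, ho⟩ ⟨o', ho'⟩ ≠ 1 := by
      intro h1
      have := hadj.mp h1
      omega
    have h2 : (Cfsg.blockGraph Cfsg.octads).dist ⟨o, ho⟩ ⟨o', ho'⟩ = 2 := by omega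
    rw [h2, h]
    simp

end Cfsg.Agent.S5609
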