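import Cfsg.Statements.S5610
import Cfsg.Agent.Lib.Helper92.OrbOct
import Cfsg.Agent.Lib.Helper7.M12Card
-- import your own Cfsg.Agent.* helpers here

set_option autoImplicit false
open scoped Pointwise
open Cfsg

namespace Cfsg.Agent.S5610

open Cfsg Cfsg.Agent.Helper7 Cfsg.Agent.Helper92

theorem trio_sum : bO_trio.map (fun x => (x.1, x.2.2.length + 1)) =
    [(100000002, 15), (10200, 3360), (20001, 420)] := by decide +kernel

theorem sext_sum : bO_sext.map (fun x => (x.1, x.2.2.length + 1)) =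
    [(20004, 35), (1050, 896), (402, 840)] := by decide +kernel

/-- the base octad -/
def m0 : ℕ := 5279

theorem q0_eq : bO_q0 = [m0] := rfl

theorem m0_mem : m0 ∈ octL := by decide +kernel

theorem stab_iff (g : Equiv.Perm GolayPt) : g • dec bO_q0 = dec bO_q0 ↔ g • ofMask m0 = ofMask m0 := by
  rw [q0_eq, dec_singleton, Finset.smul_finset_singleton, Finset.singleton_inj]

/-- Facts about the classes of a family relative to the base octad. -/
theorem base_facts (Φ : Fam) {classes : List (ℕ × List ℕ × List ℕ)}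
    (hvals : (classes.map (·.1)).Nodup) (hreps : ∀ x ∈ classes, x.2.1 ∈ Φ.data)
    (hcov : coverCheck bO_q0 (bitmaps bO_tabs Φ.key classes) Φ.key Φ.data = true) :
    (∀ g ∈ M24, ∀ x ∈ Φ.F, g • x ∈ Φ.F) ∧
    (∀ g ∈ M24, g • ofMask m0 = ofMask m0 → ∀ x ∈ Φ.F,
      patF (dec bO_q0) (g • x) = patF (dec bO_q0) x) ∧
    (∀ x ∈ Φ.F, ∀ y ∈ Φ.F, patF (dec bO_q0) x = patF (dec bO_q0) y →
      ∃ g ∈ M24, g • ofMask m0 = ofMask m0 ∧ g • x = y) ∧
    (∀ X ∈ Φ.F, ∃ p ∈ classes.map (fun x => (x.1, x.2.2.length + 1)),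
      p.1 = patF (dec bO_q0) X) ∧
    (∀ p ∈ classes.map (fun x => (x.1, x.2.2.length + 1)),
      {X | X ∈ Φ.F ∧ patF (dec bO_q0) X = p.1}.ncard ≤ p.2) := by
  obtain ⟨h1, h2, h3⟩ := orbit_cert Φ bO_q0_incr bO_good hvals hreps hcov
  refine ⟨Φ.smul_mem, ?_, ?_, ?_, ?_⟩
  · intro g _ hg x _
    exact patF_of_stab ((stab_iff g).mpr hg) x
  · intro x hx y hy hxy
    obtain ⟨g, hg, hgB, hgx⟩ := h2 x hx y hy hxy
    exact ⟨g, hg, (stab_iff g).mp hgB, hgx⟩
  · intro X hX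
    obtain ⟨x, hx, hv⟩ := h1 X hX
    exact ⟨(x.1, x.2.2.length + 1), List.mem_map.mpr ⟨x, hx, rfl⟩, hv⟩
  · intro p hp
    obtain ⟨x, hx, rfl⟩ := List.mem_map.mp hp
    exact h3 x hx


/-- The stabiliser of an octad in the group of the length-24 code has exactly three orbits on the 3795 trios, of sizes 15, 420 and 3360, and exactly three orbits on the 1771 sextets, of sizes 35, 840 and 896. -/
theorem result (o : Finset Cfsg.GolayPt) (ho : o ∈ Cfsg.octads) : (∃ X₁ ∈ Cfsg.trios, ∃ X₂ ∈ Cfsg.trios, ∃ X₃ ∈ Cfsg.trios, (MulAction.orbit ↥(MulAction.stabilizer Cfsg.M24 o) X₁).ncard = 15 ∧ (MulAction.orbit ↥(MulAction.stabilizer Cfsg.M24 o) X₂).ncard = 420 ∧ (MulAction.orbit ↥(MulAction.stabilizer Cfsg.M24 o) X₃).ncard = 3360 ∧ Cfsg.trios = MulAction.orbit ↥(MulAction.stabilizer Cfsg.M24 o) X₁ ∪ MulAction.orbit ↥(MulAction.stabilizer Cfsg.M24 o) X₂ ∪ MulAction.orbit ↥(MulAction.stabilizer Cfsg.M24 o) X₃) ∧ (∃ Y₁ ∈ Cfsg.sextets, ∃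 Y₂ ∈ Cfsg.sextets, ∃ Y₃ ∈ Cfsg.sextets, (MulAction.orbit ↥(MulAction.stabilizer Cfsg.M24 o) Y₁).ncard = 35 ∧ (MulAction.orbit ↥(MulAction.stabilizer Cfsg.M24 o) Y₂).ncard = 840 ∧ (MulAction.orbit ↥(MulAction.stabilizer Cfsg.M24 o) Y₃).ncard = 896 ∧ Cfsg.sextets = MulAction.orbit ↥(MulAction.stabilizer Cfsg.M24 o) Y₁ ∪ MulAction.orbit ↥(MulAction.stabilizer Cfsg.M24 o) Y₂ ∪ MulAction.orbit ↥(MulAction.stabilizer Cfsg.M24 o) Y₃) := by
  obtain ⟨h, hh, rfl⟩ := octad_trans (ofMask_octL_mem m0_mem) ho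
  constructor
  · obtain ⟨f1, f2, f3, f4, f5⟩ := base_facts famTrio bO_trio_vals bO_trio_reps bO_trio_cover
    rw [trio_sum] at f4 f5
    have hcls : ∀ x ∈ trios, patF (dec bO_q0) x = 100000002 ∨ patF (dec bO_q0) x = 20001 ∨
        patF (dec bO_q0) x = 10200 := by
      intro x hx
      obtain ⟨p, hp, hv⟩ := f4 x hx
      simp only [List.mem_cons, List.not_mem_nil, or_false] at hp
      rcases hp with rfl | rfl | rfl
      · exact Or.inl hv.symm
      · exact Or.inr (Or.inr hv.symm)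
      · exact Or.inr (Or.inl hv.symm)
    obtain ⟨c1, c2, c3⟩ := counts3 trios (patF (dec bO_q0)) hcls (Set.toFinite _)
      ncard_trios_total (f5 (100000002, 15) (by simp)) (f5 (20001, 420) (by simp))
      (f5 (10200, 3360) (by simp)) (by norm_num)
    exact final3 (ofMask m0) trios (patF (dec bO_q0)) f1 f2 f3 hcls c1 c2 c3 (by norm_num)
      (by norm_num) (by norm_num) hh
  · obtain ⟨f1, f2, f3, f4, f5⟩ := base_facts famSext bO_sext_vals bO_sext_reps bO_sext_cover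
    rw [sext_sum] at f4 f5
    have hcls : ∀ x ∈ sextets, patF (dec bO_q0) x = 20004 ∨ patF (dec bO_q0) x = 402 ∨
        patF (dec bO_q0) x = 1050 := by
      intro x hx
      obtain ⟨p, hp, hv⟩ := f4 x hx
      simp only [List.mem_cons, List.not_mem_nil, or_false] at hp
      rcases hp with rfl | rfl | rfl
      · exact Or.inl hv.symm
      · exact Or.inr (Or.inr hv.symm)
      · exact Or.inr (Or.inl hv.symm)
    obtain ⟨c1, c2, c3⟩ := counts3 sextets (patF (dec bO_q0)) hcls (Set.toFinite _)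
      ncard_sextets_total (f5 (20004, 35) (by simp)) (f5 (402, 840) (by simp))
      (f5 (1050, 896) (by simp)) (by norm_num)
    exact final3 (ofMask m0) sextets (patF (dec bO_q0)) f1 f2 f3 hcls c1 c2 c3 (by norm_num)
      (by norm_num) (by norm_num) hh

end Cfsg.Agent.S5610
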