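import Cfsg.Statements.S5611
import Cfsg.Agent.Lib.Helper92.OrbSext
import Cfsg.Agent.Lib.Helper92.OrbTrans
-- import your own Cfsg.Agent.* helpers here

set_option autoImplicit false
open scoped Pointwise
open Cfsg

namespace Cfsg.Agent.S5611

open Cfsg Cfsg.Agent.Helper7 Cfsg.Agent.Helper92

theorem base_mem : dec bS_q0 ∈ sextets := dec_mem_sextets (by decide +kernel)

/-- The stabiliser of a sextet in the group of the length-24 code has exactly three orbits on the 759 octads, of sizes 15, 360 and 384, and exactly four orbits on the 3795 trios, of sizes 15, 180, 720 and 2880. -/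
theorem result (S : Finset (Finset Cfsg.GolayPt)) (hS : S ∈ Cfsg.sextets) : (∃ X₁ ∈ Cfsg.octads, ∃ X₂ ∈ Cfsg.octads, ∃ X₃ ∈ Cfsg.octads, (MulAction.orbit ↥(MulAction.stabilizer Cfsg.M24 S) X₁).ncard = 15 ∧ (MulAction.orbit ↥(MulAction.stabilizer Cfsg.M24 S) X₂).ncard = 360 ∧ (MulAction.orbit ↥(MulAction.stabilizer Cfsg.M24 S) X₃).ncard = 384 ∧ Cfsg.octads = MulAction.orbit ↥(MulAction.stabilizer Cfsg.M24 S) X₁ ∪ MulAction.orbit ↥(MulAction.stabilizer Cfsg.M24 S) X₂ ∪ MulAction.orbit ↥(MulAction.stabilizer Cfsg.M24 S) X₃) ∧ (∃ Y₁ ∈ Cfsg.trios, ∃ Y₂ ∈ Cfsg.trios, ∃ Y₃ ∈ Cfsg.trios, ∃ Y₄ ∈ Cfsg.trios, (MulAction.orbit ↥(MulAction.stabilizer Cfsg.M24 S) Y₁).ncard = 15 ∧ (MulAction.orbit ↥(MulAction.stabilizer Cfsg.M24 S) Y₂).ncard = 180 ∧ (MulAction.orbit ↥(MulAction.stabilizer Cfsg.M24 S) Y₃).ncard = 720 ∧ (MulAction.orbit ↥(MulAction.stabilizer Cfsg.M24 S) Y₄).ncard = 2880 ∧ Cfsg.trios = MulAction.orbit ↥(MulAction.stabilizer Cfsg.M24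 S) Y₁ ∪ MulAction.orbit ↥(MulAction.stabilizer Cfsg.M24 S) Y₂ ∪ MulAction.orbit ↥(MulAction.stabilizer Cfsg.M24 S) Y₃ ∪ MulAction.orbit ↥(MulAction.stabilizer Cfsg.M24 S) Y₄) := by
  obtain ⟨h, hh, rfl⟩ := sextets_trans base_mem hS
  constructor
  · obtain ⟨f1, f2, f3, f4, f5⟩ := oct_target_facts bS_q0_incr bS_good bS_oct_vals bS_oct_reps bS_oct_cover
    rw [bS_oct_sum] at f4 f5
    have hcls : ∀ x ∈ octads, patF (dec bS_q0) {x} = 20004 ∨ patF (dec bS_q0) {x} = 402 ∨ patF (dec bS_q0) {x} = 1050 := by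
      intro x hx
      obtain ⟨p, hp, hv⟩ := f4 x hx
      simp only [List.mem_cons, List.not_mem_nil, or_false] at hp
      rcases hp with rfl | rfl | rfl
      all_goals simp only [← hv]
      all_goals simp
    obtain ⟨c1, c2, c3⟩ := counts3 octads (fun o : Finset GolayPt => patF (dec bS_q0) {o}) hcls (Set.toFinite _)
      ncard_octads (f5 (20004, 15) (by simp)) (f5 (402, 360) (by simp)) (f5 (1050, 384) (by simp)) (by norm_num)
    exact final3 (dec bS_q0) octads (fun o : Finset GolayPt => patF (dec bS_q0) {o}) f1 f2 f3 hcls c1 c2 c3 (by norm_num) (by norm_num) (by norm_num) hh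
  · obtain ⟨f1, f2, f3, f4, f5⟩ := fam_target_facts famTrio bS_q0_incr bS_good bS_trio_vals bS_trio_reps bS_trio_cover
    rw [bS_trio_sum] at f4 f5
    have hcls : ∀ x ∈ trios, patF (dec bS_q0) x = 60012 ∨ patF (dec bS_q0) x = 20808 ∨ patF (dec bS_q0) x = 1206 ∨ patF (dec bS_q0) x = 2502 := by
      intro x hx
      obtain ⟨p, hp, hv⟩ := f4 x hx
      simp only [List.mem_cons, List.not_mem_nil, or_false] at hp
      rcases hp with rfl | rfl | rfl | rfl
      all_goals simp only [← hv]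
      all_goals simp
    obtain ⟨c1, c2, c3, c4⟩ := counts4 trios (patF (dec bS_q0)) hcls (Set.toFinite _)
      ncard_trios_total (f5 (60012, 15) (by simp)) (f5 (20808, 180) (by simp)) (f5 (1206, 720) (by simp)) (f5 (2502, 2880) (by simp)) (by norm_num)
    exact final4 (dec bS_q0) trios (patF (dec bS_q0)) f1 f2 f3 hcls c1 c2 c3 c4 (by norm_num) (by norm_num) (by norm_num) (by norm_num) hh

end Cfsg.Agent.S5611
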