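import Cfsg.Statements.S5612
import Cfsg.Agent.Lib.Helper92.OrbTrio
import Cfsg.Agent.Lib.Helper92.OrbTrans
-- import your own Cfsg.Agent.* helpers here

set_option autoImplicit false
open scoped Pointwise
open Cfsg

namespace Cfsg.Agent.S5612

open Cfsg Cfsg.Agent.Helper7 Cfsg.Agent.Helper92

theorem base_mem : dec bT_q0 ∈ trios := dec_mem_trios (by decide +kernel)

/-- The stabiliser of a trio in the group of the length-24 code has exactly three orbits on the 759 octads, of sizes 3, 84 and 672, and exactly four orbits on the 1771 sextets, of sizes 7, 84, 336 and 1344. -/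
theorem result (T : Finset (Finset Cfsg.GolayPt)) (hT : T ∈ Cfsg.trios) : (∃ X₁ ∈ Cfsg.octads, ∃ X₂ ∈ Cfsg.octads, ∃ X₃ ∈ Cfsg.octads, (MulAction.orbit ↥(MulAction.stabilizer Cfsg.M24 T) X₁).ncard = 3 ∧ (MulAction.orbit ↥(MulAction.stabilizer Cfsg.M24 T) X₂).ncard = 84 ∧ (MulAction.orbit ↥(MulAction.stabilizer Cfsg.M24 T) X₃).ncard = 672 ∧ Cfsg.octads = MulAction.orbit ↥(MulAction.stabilizer Cfsg.M24 T) X₁ ∪ MulAction.orbit ↥(MulAction.stabilizer Cfsg.M24 T) X₂ ∪ MulAction.orbit ↥(MulAction.stabilizer Cfsg.M24 T) X₃) ∧ (∃ Y₁ ∈ Cfsg.sextets, ∃ Y₂ ∈ Cfsg.sextets, ∃ Y₃ ∈ Cfsg.sextets, ∃ Y₄ ∈ Cfsg.sextets, (MulAction.orbit ↥(MulAction.stabilizer Cfsg.M24 T) Y₁).ncard = 7 ∧ (MulAction.orbit ↥(MulAction.stabilizer Cfsg.M24 T) Y₂).ncard = 84 ∧ (MulAction.orbit ↥(MulAction.stabilizer Cfsg.M24 T) Y₃).ncard = 336 ∧ (MulAction.orbit ↥(MulAction.stabilizer Cfsg.M24 T) Y₄).ncard = 1344 ∧ Cfsg.sextets = MulAction.orbit ↥(MulAction.stabilizer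 Cfsg.M24 T) Y₁ ∪ MulAction.orbit ↥(MulAction.stabilizer Cfsg.M24 T) Y₂ ∪ MulAction.orbit ↥(MulAction.stabilizer Cfsg.M24 T) Y₃ ∪ MulAction.orbit ↥(MulAction.stabilizer Cfsg.M24 T) Y₄) := by
  obtain ⟨h, hh, rfl⟩ := trios_trans base_mem hT
  constructor
  · obtain ⟨f1, f2, f3, f4, f5⟩ := oct_target_facts bT_q0_incr bT_good bT_oct_vals bT_oct_reps bT_oct_cover
    rw [bT_oct_sum] at f4 f5
    have hcls : ∀ x ∈ octads, patF (dec bT_q0) {x} = 100000002 ∨ patF (dec bT_q0) {x} = 20001 ∨ patF (dec bT_q0) {x} = 10200 := by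
      intro x hx
      obtain ⟨p, hp, hv⟩ := f4 x hx
      simp only [List.mem_cons, List.not_mem_nil, or_false] at hp
      rcases hp with rfl | rfl | rfl
      all_goals simp only [← hv]
      all_goals simp
    obtain ⟨c1, c2, c3⟩ := counts3 octads (fun o : Finset GolayPt => patF (dec bT_q0) {o}) hcls (Set.toFinite _)
      ncard_octads (f5 (100000002, 3) (by simp)) (f5 (20001, 84) (by simp)) (f5 (10200, 672) (by simp)) (by norm_num)
    exact final3 (dec bT_q0) octads (fun o : Finset GolayPt => patF (dec bT_q0) {o}) f1 f2 f3 hcls c1 c2 c3 (by norm_num) (by norm_num) (by norm_num) hh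
  · obtain ⟨f1, f2, f3, f4, f5⟩ := fam_target_facts famSext bT_q0_incr bT_good bT_sext_vals bT_sext_reps bT_sext_cover
    rw [bT_sext_sum] at f4 f5
    have hcls : ∀ x ∈ sextets, patF (dec bT_q0) x = 60012 ∨ patF (dec bT_q0) x = 20808 ∨ patF (dec bT_q0) x = 1206 ∨ patF (dec bT_q0) x = 2502 := by
      intro x hx
      obtain ⟨p, hp, hv⟩ := f4 x hx
      simp only [List.mem_cons, List.not_mem_nil, or_false] at hp
      rcases hp with rfl | rfl | rfl | rfl
      all_goals simp only [← hv]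
      all_goals simp
    obtain ⟨c1, c2, c3, c4⟩ := counts4 sextets (patF (dec bT_q0)) hcls (Set.toFinite _)
      ncard_sextets_total (f5 (60012, 7) (by simp)) (f5 (20808, 84) (by simp)) (f5 (1206, 336) (by simp)) (f5 (2502, 1344) (by simp)) (by norm_num)
    exact final4 (dec bT_q0) sextets (patF (dec bT_q0)) f1 f2 f3 hcls c1 c2 c3 c4 (by norm_num) (by norm_num) (by norm_num) (by norm_num) hh

end Cfsg.Agent.S5612
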