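import Cfsg.Statements.S5613
import Cfsg.Agent.S1556
import Cfsg.Agent.Lib.Helper91.OctadPairs

set_option autoImplicit false
open Cfsg

namespace Cfsg.Agent.S5613

open Cfsg.Agent.Helper91 Cfsg.Agent.Helper7 Pointwise

/-- The orbit of `o'` under the stabiliser of `o` consists of the octads meeting `o` like `o'`. -/
theorem orbit_eq (o o' : Finset GolayPt) (ho : o ∈ octads) (ho' : o' ∈ octads) :
    MulAction.orbit ↥(MulAction.stabilizer ↥M24 o) o' = meetSet o (o ∩ o').card := by
  ext b
  constructor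
  · rintro ⟨h, rfl⟩
    have hfix : (h : ↥M24) • o = o := h.2
    refine ⟨smul_mem_octads (h : ↥M24).2 ho', ?_⟩
    have key : ∀ (g : Equiv.Perm GolayPt), g • o = o → (o ∩ g • o').card = (o ∩ o').card := by
      intro g hg
      have := card_smul_inter g o o'
      rwa [hg] at this
    exact key _ hfix
  · rintro ⟨hb, hk⟩
    obtain ⟨g, hg, hgo, hgb⟩ := Cfsg.Agent.S1556.result o o' b ho ho' hb hk.symm
    exact ⟨⟨⟨g, hg⟩, hgo⟩, hgb⟩

theorem card_joint (o o' : Finset GolayPt) (ho : o ∈ octads) (ho' : o' ∈ octads) :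
    322560 = (meetSet o (o ∩ o').card).ncard *
      Nat.card ↥(MulAction.stabilizer ↥M24 o ⊓ MulAction.stabilizer ↥M24 o') := by
  have h := Nat.card_congr
    (MulAction.orbitProdStabilizerEquivGroup ↥(MulAction.stabilizer ↥M24 o) o')
  rw [Nat.card_prod, orbit_eq o o' ho ho', Nat.card_coe_set_eq, card_stab_octad ho] at h
  have e : MulAction.stabilizer ↥(MulAction.stabilizer ↥M24 o) o' =
      (MulAction.stabilizer ↥M24 o ⊓ MulAction.stabilizer ↥M24 o').subgroupOf
        (MulAction.stabilizer ↥M24 o) := by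
    ext x
    rw [Subgroup.mem_subgroupOf, Subgroup.mem_inf, MulAction.mem_stabilizer_iff,
      MulAction.mem_stabilizer_iff, MulAction.mem_stabilizer_iff]
    constructor
    · intro hx
      exact ⟨x.2, hx⟩
    · intro hx
      exact hx.2
  rw [e, Nat.card_congr (Subgroup.subgroupOfEquivOfLe inf_le_left).toEquiv] at h
  exact h.symm

/-- In the group of the length-24 code, the joint stabiliser of two octads has order 10752, 1152 or 720 according as the octads meet in 0, 4 or 2 points. -/
theorem result (o o' : Finset Cfsg.GolayPt) (ho : o ∈ Cfsg.octads) (ho' : o' ∈ Cfsg.octads) : ((o ∩ o').card = 0 → Nat.card ↥(MulAction.stabilizer Cfsg.M24 o ⊓ MulAction.stabilizer Cfsg.M24 o') = 10752) ∧ ((o ∩ o').card = 4 → Nat.card ↥(MulAction.stabilizer Cfsg.M24 o ⊓ MulAction.stabilizer Cfsg.M24 o') = 1152) ∧ ((o ∩ o').card = 2 → Nat.card ↥(MulAction.stabilizer Cfsg.M24 o ⊓ MulAction.stabilizer Cfsg.M24 o') = 720) := by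
  have h := card_joint o o' ho ho'
  obtain ⟨c0, c2, c4⟩ := ncard_meetSet ho
  refine ⟨fun hk => ?_, fun hk => ?_, fun hk => ?_⟩
  · rw [hk, c0] at h; omega
  · rw [hk, c4] at h; omega
  · rw [hk, c2] at h; omega

end Cfsg.Agent.S5613
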