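import Cfsg.Statements.S5614
import Mathlib
import Cfsg.Agent.Lib.Helper27.Trans
import Cfsg.Agent.Lib.Helper27.M12Faithful

set_option autoImplicit false
set_option maxRecDepth 1000000
open scoped Pointwise
open Cfsg

namespace Cfsg.Agent.S5614

open Cfsg.Agent.Helper27

/-- Generators (with inverses) of the stabiliser of the base octad. -/
def gensS : List (ℕ × ℕ) :=
  [(935165299019436837641675542890888300, 528658017339645164678841129220745586),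
   (528658017339645164678841129220745586, 935165299019436837641675542890888300),
   (929475984097646384198261300894405742, 694678136041760588759720188949079726),
   (694678136041760588759720188949079726, 929475984097646384198261300894405742)]

theorem gensS_ok : ∀ g ∈ gensS, genOK [oct0] g = true := by decide +kernel

/-- The octads meeting the base octad in exactly two points. -/
def meet2List : List ℕ := octadList.filter (fun m => pop (oct0 &&& m) == 2)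

def wordsS : List (List ℕ) :=
  [[], [0,0,2,0,2,1], [2,2], [1,1,3,0], [1,1,3,1,1], [1,1,1,3], [0,0,0,3,0], [2,1,2,0,3],
   [0,2,0,0], [0,0,0,2,1,1,2], [0,0,0], [0,2,1], [1,1,2,0,2,2], [3,1,1,3,1], [1,1,1,3,3,0],
   [2,1,2,0,0,2], [2,0,3,1,1], [1,1,1,2,1,2], [1,3,0,3,3], [3,1,3,1,3,1], [0,0,0,2,1,3,3],
   [1,1,2,2,2,1,3], [1,1,3,0,0,2,1], [0,0,0,0,2,1], [1,3,0,2], [1,1,3,1,2,1], [2,0], [2,1,2,0,2,0],
   [1,2,1], [2,2,1,3,0,0,3], [0,3,0,2,0], [3,1,1,2,2], [0,3,0], [1,2,0,2,1], [3,3,0,0],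
   [3,1,1,2,0], [3,1,2,1,2], [0,2,1,2,2,2], [0,0,0,2,2,2], [0,0,3,3,1,3], [0,2,1,3,0,3],
   [1,3,0,0,0], [3,1,2,2], [3,1,3,3,0,3], [1,1,2,0,0,0], [0,0,0,3,3,0], [3,1,2], [0,0,3,3,1],
   [3,1,3], [1,1,2,2,2,1], [2,2,1,3,0,2], [0,0,3,1,3,0,2], [1,1,1,1,3,0,3], [2,1,2,0,2],
   [2,0,0,3,1,3,0], [1,2,0,0], [0,3,0,0,2,0,2], [1,1,1,2,1,1,2], [1,1,1,3,1,1], [0,0,0,3,1,1],
   [1,1,1,1,3,1], [0,0,2,2,1,1,2], [0,0,2,1,2], [1,1,1], [0,0,2,0,0], [0,3,0,0,2,1], [1,2,1,1,1,2],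
   [0,0,0,2,0,0,0], [1,2,0,3,0], [1,3,0,2,2], [2,1,1,1,1,1], [0,0,0,2,1], [1,1,2,1,3], [3,0,2,0,3],
   [0,0,2,2,0], [0,2,1,3,0], [3,0], [3,1,1,2,2,2], [3,1,3,0,2], [3,1,1,3,3], [0,2,1,1,2,1],
   [0,3,0,0,2], [0,0,0,3,0,3], [0,2,0,0,0], [3,3,0,3,1], [3,1,1,2], [0,0,2,1], [1,1,3,3,0,2],
   [1,3,0,0,3,1], [1,3,0,0,3], [0,0,3,0], [0,0,0,0,2,0], [0,0,3,3,1,2], [2,1,2], [0,0,0,3,3,1],
   [0,2,1,1,1,2,0], [1,3,0,0], [2,1,3,1], [0,3,0,2,0,2], [1,1,1,2,2], [0,2,1,1,2,1,3], [0,0,3],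
   [2,0,3,0], [2,0,0,0,2,0], [2,1,1], [2,0,3,1,1,1], [0,3,0,3], [0,0,2,0,0,3], [3,0,2,0],
   [2,0,2,0,0,0], [2,0,2], [2,0,3,0,0,2,1], [2,0,3,3,0], [1,3,0,0,0,2,1], [2,0,3,3,1,1],
   [1,3,0,3,1,1], [0,0,0,0,2,1,2], [2,0,3,3], [3,1,1,1,3,1], [0,0,3,1,3,1,1], [2,0,2,2,2],
   [1,1,2,1,1], [1,3,0,0,2,2,2], [3,1,1,3], [2,0,3,0,2], [0,0,2,2], [0,0,2,2,1,1], [0,0,3,3,1,1,3],
   [2,1,1,3], [3,3,0,3,1,2], [2,2,2], [3,1,3,0], [3], [0,0,3,1,3,0,0], [2,0,3,0,0,2,0],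
   [0,2,1,3,0,2], [1,3,0,3,1], [3,1,3,3], [2,0,0,0,3,1], [1,1,2,0,2,1], [1,1,2,1,3,0], [1,1,1,2],
   [1,1,3,1,2], [1,3,0,2,2,1], [3,1,2,0,0,0], [3,3,0,0,3], [0,0,3,3,0,0], [0,0,0,3,3], [1,1,1,3,3],
   [1,1,3,0,2], [1,1,1,2,2,2], [3,0,2,0,3,1], [1,3,0,0,2,2], [3,0,2,1], [0,2,1,3,0,2,1],
   [2,2,2,0,2], [1,3,0,3], [3,1,1,1,3,0], [1,1,2,0,2], [1,1,3,3,0,3], [2,2,1,3,0,0], [3,1,1],
   [2,1,2,0,3,3], [0,0,0,2], [2,1,2,0], [3,1,2,0], [2,1,1,1,3,0], [3,1,3,3,0], [2,0,0,3,3],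
   [1,1,2,2,0], [0,0,2,0,2], [2,0,0,3,0,0], [0,0,2,0,0,0], [1,1,3,3], [1,1,2,2,1], [2,2,1,2,0],
   [0,2,1,1,2], [2,2,1,2], [3,3,0,0,0], [3,0,3,1,2,2], [0,2,0,0,0,0,3], [3,3,0,2,0,0],
   [2,0,3,1,2,1], [2,0,3,0,2,1], [2,0,3,3,1,2], [1,1,1,2,0], [3,1,3,1,1], [0,3,0,3,3,1], [3,1,1,1],
   [1,1,3,0,2,0], [0,0,0,2,0], [2,1,1,3,1], [3,1,2,0,0], [3,3,0], [1,1,3,0,0,0], [3,3,0,2],
   [3,1,3,1,2,1], [0,0,0,0,3,3], [3,1,1,2,1], [0,0,0,3,0,0], [1,1,2,0,0,2], [0,0,0,3,1,3],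
   [0,2,1,1,1,3], [3,1,3,1,2], [0,2,1,1], [1,1,2,0,0,3], [0,2,1,3,3,0], [2,1,1,1], [1,2,1,2,0],
   [1,1,1,2,2,0,3], [3,1,2,1,1], [0,3,0,3,1], [2,2,1,2,0,0], [1], [2,0,3,1,2], [3,3,1],
   [0,2,0,0,0,0], [2,2,1], [3,3,1,2], [3,1,1,2,1,1], [1,3,0,0,3,0], [3,0,3,1,2,1], [0,0,3,3,0,0,0],
   [0,0,0,2,0,2], [2,0,0,0], [2,0,3,3,1,3], [2,0,2,0,3], [0,2,1,1,3,1], [2,1,1,3,0], [0,0,3,1],
   [0,0,3,3,0], [0,3], [1,1,1,1,2,0], [0,2], [0,0,2,0], [3,3,0,3], [1,1,2,2,0,2], [2,0,3,0,0],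
   [0,2,1,3,1,2], [0,0,0,2,1,1,1], [2,0,0,2], [0,0,3,1,1,2], [2,1,1,1,1], [2,2,1,2,2],
   [2,0,2,0,3,0], [0,0,0,0,2], [1,1,2], [1,3,0,3,3,1], [2,2,1,3], [3,1,2,1,1,1], [2,2,1,3,3],
   [3,3,0,2,0,2], [2,0,0,3,0,2], [2,0,2,0], [2,0,2,2,0], [0,0,3,1,3,1], [0,0,0,2,2,1,3],
   [3,1,3,3,1], [2,0,0,0,3], [3,1,3,1], [2,1,1,1,1,2], [1,1,3,0,0,2], [0,2,1,1,1,2], [0,0,3,1,1],
   [1,1,2,2,0,3], [3,1,2,2,0], [2,0,2,2,0,0], [2,0,2,2,2,1], [3,0,2,0,3,0], [0,2,1,1,3],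
   [1,1,2,2,1,2], [2,2,1,2,2,2], [1,3], [2,0,0], [1,1,3,0,2,0,2], [0,0,3,1,3], [2,1,1,1,3],
   [0,2,1,1,2,2], [3,1,3,1,3], [2,0,3,3,1], [0,0,0,0,3,1], [0,0,2,2,2], [1,1,1,1,3], [2,0,0,3,1,3],
   [1,2,1,1,1], [0,2,1,2,2], [1,1,1,1,2], [2,0,0,3,1], [2,0,0,3,1,1], [1,3,0,0,3,3], [1,1,2,2,1,1],
   [1,1,1,1,2,0,0], [0,3,0,0], [0,0,0,2,0,0,2], [0,0,2], [2,0,0,2,0], [2,2,2,0,3], [2,2,1,3,0],
   [3,0,3], [1,1,1,2,1,3], [2,0,3], [1,1,2,1], [0,2,1,1,1,2,1], [2,1,2,0,0], [2,2,2,0],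
   [0,2,0,0,0,3,3], [1,1,3,3,0,0], [1,3,0,0,3,1,3], [0,0,0,3], [3,1,3,0,3], [1,3,0,0,2], [1,1,3,1],
   [1,1,2,2,0,2,1], [3,1,3,0,2,2], [0,0], [3,0,3,1,2,2,1], [1,1,1,1,3,3], [3,1,1,2,0,3], [2,1,3],
   [0,2,0,0,0,2,0], [2,1], [1,1,3,0,2,1], [3,1], [3,1,1,3,1,2], [1,2,1,1], [1,1,3,3,0],
   [2,0,0,3,3,1], [3,3], [0,2,0,0,0,3], [1,1,1,1,2,2,2], [1,1,2,2,1,3,1], [0,3,0,0,2,0], [0,3,0,2],
   [1,1,3,3,0,2,0], [1,1,2,1,1,1], [1,3,0], [2,2,1,2,2,1], [1,1,2,0], [1,1,1,2,1], [1,3,0,3,1,3],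
   [0,0,2,2,1], [3,0,2,0,3,3], [2,1,2,0,0,3], [1,1,1,1,3,0], [0,3,0,0,3], [2,0,3,0,3], [1,1,1,1],
   [0,3,0,2,1], [0,2,0], [0,0,0,2,1,3], [2,0,3,3,0,3], [3,1,3,0,0], [0,2,0,0,0,2], [0,0,0,2,2],
   [0,2,1,3,3], [1,1,3,0,2,2], [0,0,0,3,1,1,3], [0,0,0,2,0,0], [2,0,2,0,3,1], [3,3,0,0,2],
   [1,1,3,0,3], [0,0,2,2,1,1,3], [0,0,2,0,2,1,2], [0,0,0,2,1,1,3], [0,0,0,2,1,1], [3,0,2],
   [0,0,3,1,3,0], [3,0,2,0,0], [2,0,2,2], [1,1,2,1,2], [2,2,1,2,2,1,2], [2,0,0,2,0,0],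
   [0,0,3,3,1,1], [0,0,0,3,0,2], [1,1,1,1,2,2], [0,2,1,3], [0,2,1,2], [0,0,3,3], [1,3,0,0,0,2,0],
   [3,1,2,2,2], [1,1,1,2,2,1,1], [1,2,1,2], [1,3,0,2,0], [1,2,1,1,1,3], [3,1,2,1], [1,1,1,2,1,1],
   [1,3,0,0,0,2], [2,0,2,1], [2,0,0,0,3,0], [0,3,0,3,3], [2], [2,0,3,1,1,2], [0,0,0,0,3],
   [0,0,2,2,2,1], [2,2,2,0,0,3], [2,0,0,3,0], [1,1,1,3,1,2], [1,2,0], [1,1], [1,2], [0,0,3,1,1,3],
   [1,2,0,2], [1,1,1,2,2,1], [0,0,0,2,2,1], [1,1,1,2,2,0], [2,0,0,0,3,3], [3,1,1,1,2,2],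
   [0,0,3,1,3,1,3], [0,2,1,3,1], [2,0,0,0,2], [2,0,2,0,0,2], [0], [0,0,0,0,2,2], [0,2,1,1,1],
   [0,0,2,1,1], [0,2,1,1,2,0], [3,3,0,2,0], [2,1,1,3,0,2], [2,1,1,1,3,3], [3,1,1,1,2], [0,0,0,3,1],
   [1,1,2,2,1,3], [1,1,3,0,0], [2,0,0,3], [1,1,2,2], [3,0,3,1,2], [1,1,3], [2,0,0,2,2],
   [0,0,0,0,2,2,2], [1,1,1,3,1], [0,0,0,0], [0,0,2,0,0,0,3], [3,3,1,3], [1,1,2,0,0], [1,2,0,3],
   [3,0,3,1], [2,0,2,0,3,0,2], [1,1,2,2,2], [2,0,3,0,0,2], [2,0,2,2,1], [2,0,2,0,0],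
   [2,0,3,3,1,3,0], [3,1,1,2,1,3], [3,1,1,1,3], [1,3,0,3,3,0], [3,1,1,3,1,1], [2,2,2,0,0],
   [2,0,3,1]]

theorem meet2_cert :
    certCheck gensS (fun _ => [12222476]) (fun m => [m]) meet2List wordsS = true := by
  decide +kernel

theorem meet2List_length : meet2List.length = 448 := by decide +kernel

theorem mem_meet2List {m : ℕ} : m ∈ meet2List ↔ m ∈ octadList ∧ pop (oct0 &&& m) = 2 := by
  unfold meet2List
  rw [List.mem_filter, beq_iff_eq]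

theorem oct0_mem : oct0 ∈ octadList := by decide +kernel

theorem o1_mem : 12222476 ∈ meet2List := by decide +kernel

theorem xor_eq : oct0 ^^^ 12222476 = dod0 := by decide +kernel

theorem dod0_mem : toFinset dod0 ∈ dodecads := by
  rw [mem_dodecads_iff']
  exact ⟨dod0, by decide +kernel, rfl⟩

theorem mem_meet2_iff {s : Finset GolayPt} :
    (s ∈ octads ∧ (toFinset oct0 ∩ s).card = 2) ↔ ∃ m ∈ meet2List, s = toFinset m := by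
  constructor
  · rintro ⟨hs, hc⟩
    obtain ⟨m, hm, rfl⟩ := mem_octads_iff'.mp hs
    refine ⟨m, mem_meet2List.mpr ⟨hm, ?_⟩, rfl⟩
    rw [← card_toFinset, toFinset_and, hc]
  · rintro ⟨m, hm, rfl⟩
    obtain ⟨h1, h2⟩ := mem_meet2List.mp hm
    refine ⟨toFinset_mem_octads h1, ?_⟩
    rw [← toFinset_and, card_toFinset, h2]

/-- Base case: the stabiliser of the base octad is transitive on the octads meeting it in two
points. -/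
theorem base_trans {s : Finset GolayPt} (hs : s ∈ octads) (hc : (toFinset oct0 ∩ s).card = 2) :
    ∃ g ∈ stabOf [oct0], g • toFinset 12222476 = s := by
  obtain ⟨m, hm, rfl⟩ := mem_meet2_iff.mp ⟨hs, hc⟩
  exact reach_single (certCheck_spec gensS_ok _ _ _ _ meet2_cert m hm)

theorem ncard_meet2_base :
    {s : Finset GolayPt | s ∈ octads ∧ (toFinset oct0 ∩ s).card = 2}.ncard = 448 := by
  have h : {s : Finset GolayPt | s ∈ octads ∧ (toFinset oct0 ∩ s).card = 2} =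
      {s : Finset GolayPt | ∃ m ∈ meet2List, s = toFinset m} := by
    ext s
    exact mem_meet2_iff
  rw [h, ncard_of_list meet2List (octadList_nodup.filter _)
    (fun m hm => octadList_lt (mem_meet2List.mp hm).1), meet2List_length]

/-- Any pair of octads meeting in two points is the image of the base pair. -/
theorem exists_base {o o' : Finset GolayPt} (ho : o ∈ octads) (ho' : o' ∈ octads)
    (h₂ : (o ∩ o').card = 2) :
    ∃ k ∈ M24, k • toFinset oct0 = o ∧ k • toFinset 12222476 = o' := by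
  obtain ⟨k1, hk1, rfl⟩ := octads_transitive ho
  have h1 : k1⁻¹ • o' ∈ octads := (smul_mem_octads (M24.inv_mem hk1)).mpr ho'
  have h2 : (toFinset oct0 ∩ k1⁻¹ • o').card = 2 := by
    have : toFinset oct0 ∩ k1⁻¹ • o' = k1⁻¹ • (k1 • toFinset oct0 ∩ o') := by
      rw [Finset.smul_finset_inter, inv_smul_smul]
    rw [this, Finset.card_smul_finset, h₂]
  obtain ⟨g, hg, e⟩ := base_trans h1 h2
  refine ⟨k1 * g, M24.mul_mem hk1 hg.1, ?_, ?_⟩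
  · rw [mul_smul, hg.2 oct0 (by simp)]
  · rw [mul_smul, e, smul_inv_smul]

/-- In the group of the length-24 code, the joint stabiliser of two octads meeting in exactly two points is isomorphic to the symmetric group of degree 6. -/
theorem result (o o' : Finset Cfsg.GolayPt) (ho : o ∈ Cfsg.octads) (ho' : o' ∈ Cfsg.octads) (h₂ : (o ∩ o').card = 2) : Nonempty (↥(MulAction.stabilizer Cfsg.M24 o ⊓ MulAction.stabilizer Cfsg.M24 o') ≃* Equiv.Perm (Fin 6)) := by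
  -- the dodecad and the invariant hexad
  have hd : symmDiff o o' ∈ dodecads := by
    obtain ⟨k, hk, rfl, rfl⟩ := exists_base ho ho' h₂
    have : symmDiff (k • toFinset oct0) (k • toFinset 12222476) = k • toFinset dod0 := by
      rw [← xor_eq, toFinset_xor, Finset.smul_finset_symmDiff]
    rw [this]
    exact (smul_mem_dodecads hk).mpr dod0_mem
  have hocard : o.card = 8 := ho.2
  have hTcard : (o \ o').card = 6 := by
    have := Finset.card_sdiff_add_card_inter o o'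
    omega
  have hTsub : o \ o' ⊆ symmDiff o o' := by
    intro x hx
    rw [Finset.mem_symmDiff]
    rw [Finset.mem_sdiff] at hx
    exact Or.inl hx
  -- the order of the group
  have hcardG : Nat.card ↥(MulAction.stabilizer Cfsg.M24 o ⊓ MulAction.stabilizer Cfsg.M24 o')
      = 720 := by
    have hM := Cfsg.Agent.Helper7.card_stab_octad ho
    have hos := Nat.card_congr (MulAction.orbitProdStabilizerEquivGroup
      ↥(MulAction.stabilizer Cfsg.M24 o) o')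
    rw [Nat.card_prod, hM] at hos
    have horb : MulAction.orbit ↥(MulAction.stabilizer Cfsg.M24 o) o' =
        {s : Finset GolayPt | s ∈ octads ∧ (o ∩ s).card = 2} := by
      ext s
      constructor
      · rintro ⟨⟨⟨g, hg⟩, h1⟩, rfl⟩
        change g • o = o at h1
        change g • o' ∈ octads ∧ (o ∩ g • o').card = 2
        refine ⟨(smul_mem_octads hg).mpr ho', ?_⟩
        conv_lhs => rw [← h1]
        rw [← Finset.smul_finset_inter, Finset.card_smul_finset, h₂]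
      · rintro ⟨hs, hc⟩
        obtain ⟨k, hk, e1, e2⟩ := exists_base ho ho' h₂
        obtain ⟨k', hk', e1', e2'⟩ := exists_base ho hs hc
        refine ⟨⟨⟨k' * k⁻¹, M24.mul_mem hk' (M24.inv_mem hk)⟩, ?_⟩, ?_⟩
        · change (k' * k⁻¹) • o = o
          have : k⁻¹ • o = toFinset oct0 := by rw [← e1, inv_smul_smul]
          rw [mul_smul, this, e1']
        · change (k' * k⁻¹) • o' = s
          have : k⁻¹ • o' = toFinset 12222476 := by rw [← e2, inv_smul_smul]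
          rw [mul_smul, this, e2']
    have hn : {s : Finset GolayPt | s ∈ octads ∧ (o ∩ s).card = 2}.ncard = 448 := by
      obtain ⟨k, hk, rfl⟩ := octads_transitive ho
      rw [ncard_transport k {s : Finset GolayPt | s ∈ octads ∧ (toFinset oct0 ∩ s).card = 2}
        {s : Finset GolayPt | s ∈ octads ∧ (k • toFinset oct0 ∩ s).card = 2} ?_, ncard_meet2_base]
      intro s
      simp only [Set.mem_ofPred_eq]
      rw [smul_mem_octads hk, ← Finset.smul_finset_inter, Finset.card_smul_finset]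
    rw [horb, Nat.card_coe_set_eq, hn] at hos
    have hequiv : ↥(MulAction.stabilizer Cfsg.M24 o ⊓ MulAction.stabilizer Cfsg.M24 o') ≃
        ↥(MulAction.stabilizer ↥(MulAction.stabilizer Cfsg.M24 o) o') :=
      { toFun := fun g => ⟨⟨g.1, g.2.1⟩, g.2.2⟩
        invFun := fun g => ⟨g.1.1, g.1.2, g.2⟩
        left_inv := fun g => rfl
        right_inv := fun g => rfl }
    rw [Nat.card_congr hequiv]
    omega
  refine mulEquiv_perm_of_invariant hd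
    (MulAction.stabilizer Cfsg.M24 o ⊓ MulAction.stabilizer Cfsg.M24 o')
    ?_ (o \ o') hTsub hTcard (by norm_num) ?_ (by rw [hcardG]; decide)
  · rintro ⟨g, hg⟩ ⟨h1, h2⟩
    change g • o = o at h1
    change g • o' = o' at h2
    change g • symmDiff o o' = symmDiff o o'
    rw [Finset.smul_finset_symmDiff, h1, h2]
  · rintro ⟨g, hg⟩ ⟨h1, h2⟩
    change g • o = o at h1
    change g • o' = o' at h2
    change g • (o \ o') = o \ o'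
    rw [Finset.smul_finset_sdiff, h1, h2]

end Cfsg.Agent.S5614
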