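import Cfsg.Statements.S5615
import Mathlib
import Cfsg.Agent.Lib.Helper27.Trans
import Cfsg.Agent.Lib.Helper27.Pairs
import Cfsg.Agent.Lib.Helper27.TabHom
import Cfsg.Agent.Lib.Helper27.QuartetsTrans
import Cfsg.Agent.Lib.Helper26.Trios
import Cfsg.Agent.Lib.Helper26.OctadSplit

set_option autoImplicit false
set_option maxRecDepth 1000000
open scoped Pointwise
open Cfsg

namespace Cfsg.Agent.S5615

open Cfsg.Agent.Helper27

/-- The complement of the base octad. -/
def cmask : ℕ := 3715070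

/-- One octad (the smaller mask) from each of the fifteen trios through the base octad. -/
def AL : List ℕ :=
  [10558, 36294, 42232, 525274, 535268, 560668, 567074, 1050548, 1060490, 1084018, 1090380,
   1573998, 1584464, 1608104, 1613974]

def A (i : ℕ) : ℕ := AL.getD i 0
def B (i : ℕ) : ℕ := Nat.xor (A i) cmask

/-- Generators of the stabiliser of the base octad. -/
def gensH : List (ℕ × ℕ) :=
  [(935165299019436837641675542890888300, 528658017339645164678841129220745586),
   (528658017339645164678841129220745586, 935165299019436837641675542890888300),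
   (929475984097646384198261300894405742, 694678136041760588759720188949079726),
   (694678136041760588759720188949079726, 929475984097646384198261300894405742)]

/-- Codes `15 * i + j` of the ordered pairs of distinct trios. -/
def codes : List ℕ :=
  [1, 2, 3, 4, 5, 6, 7, 8, 9, 10, 11, 12, 13, 14, 15, 17, 18, 19, 20, 21, 22, 23, 24, 25, 26, 27,
   28, 29, 30, 31, 33, 34, 35, 36, 37, 38, 39, 40, 41, 42, 43, 44, 45, 46, 47, 49, 50, 51, 52, 53,
   54, 55, 56, 57, 58, 59, 60, 61, 62, 63, 65, 66, 67, 68, 69, 70, 71, 72, 73, 74, 75, 76, 77, 78,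
   79, 81, 82, 83, 84, 85, 86, 87, 88, 89, 90, 91, 92, 93, 94, 95, 97, 98, 99, 100, 101, 102, 103,
   104, 105, 106, 107, 108, 109, 110, 111, 113, 114, 115, 116, 117, 118, 119, 120, 121, 122, 123,
   124, 125, 126, 127, 129, 130, 131, 132, 133, 134, 135, 136, 137, 138, 139, 140, 141, 142, 143,
   145, 146, 147, 148, 149, 150, 151, 152, 153, 154, 155, 156, 157, 158, 159, 161, 162, 163, 164,
   165, 166, 167, 168, 169, 170, 171, 172, 173, 174, 175, 177, 178, 179, 180, 181, 182, 183, 184,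
   185, 186, 187, 188, 189, 190, 191, 193, 194, 195, 196, 197, 198, 199, 200, 201, 202, 203, 204,
   205, 206, 207, 209, 210, 211, 212, 213, 214, 215, 216, 217, 218, 219, 220, 221, 222, 223]

def wordsP : List (List ℕ) :=
  [[], [0,3,0], [1,1,2,0,0,3], [0,2,0,0,0,3], [2,0,0,2], [2,0,2,1,3], [0,2,1,1,2], [1,2,2,1,1,2],
   [2,0,2,1,2,2], [2,0,0,3,3], [0,0,2,2,1,1], [1,3,1,1,1], [2,0,2,0,2], [3,1,1,3], [0,3,0,2], [2],
   [0,2,1,1,2,2], [2,0,0,3], [0,3,1,1,3,0,0], [3,0,0,2,0], [2,0,0,2,2], [0,2,0,0,0], [2,0,2,1],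
   [1,1,2,0,0], [2,0,3,1], [1,3,1,1,1,2], [3,1,1], [0,0,2,2,1,1,2], [3], [0,3,0,3], [2,0,0,2,2,2],
   [1,2,2,1,1], [0,2,1,1], [2,0,2,1,2], [1,1,2,0,0,3,3], [2,0,0], [3,1,2,0], [0,2,0,0,0,3,3],
   [3,1,1,2], [1,3,1,1,1,3], [0,0,2,2,1,1,3], [2,0,2,0], [0,0,2,0,3,0], [0,2,1,1,2,1,3], [0,2,1,2],
   [0,0,3,3,0], [0,0,2,1,1,2,0], [1,2,2,1,2], [0,0,0], [1,3], [0,0,2,1,2,0], [0,2,0,2,1],
   [1,2,0,0], [0,3,3], [2,0,0,2,1,3], [1,1,3,1], [0,0,0,3,0,3], [2,0,0,2,0], [1,3,1,1],
   [0,0,2,1,1,3,1], [0,0,2,2,1], [3,0,0,3], [1,2], [2,1,1,1,3], [0,0,2,1,3,1], [0,0,0,2,2],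
   [1,1,2,0,3,3], [0], [3,1,1,3,0], [2,0,0,2,1,2], [0,2,1,3], [1,1,1,3,1,2], [0,0,0,3,0,2],
   [0,0,2,2,1,2,2], [2,0,2,1,1], [3,0,0,2], [0,2,0,0], [0,0,0,3,3], [1,1,1,3,0], [3,0,3],
   [0,3,1,1,3,0], [2,1], [1,1,2,0], [3,1,1,1], [0,0,2], [0,0,3], [0,0,2,2,2], [1,3,1,2], [0,0,2,0],
   [0,0,3,1], [0,0,2,1,3,3], [0,0,2,1,2,2], [0,0,2,0,0], [0,0,2,1], [0,0,3,1,1], [0,0,3,0],
   [0,0,2,1,1], [1,3,1,2,0], [0,0,0,2,2,2,1], [0,2,1], [0,0,2,0,3,0,3], [0,2,0,0,2], [3,0],
   [0,0,0,3], [1,1,1,3,0,2], [2,0,2,1,1,2], [1,2,2,1], [0,0,3,3,0,3], [2,0,0,0], [2,1,2],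
   [1,2,0,0,3], [0,2,1,3,1,1,1], [1,1,1,3,1], [0,0,0,3,0], [2,1,2,0], [1,2,2], [0,0,0,2,2,2],
   [2,1,1,1], [1,1,1,3,0,3], [0,0,2,2,1,2], [3,0,0], [1,2,0,0,3,0], [3,1,1,1,3], [0,2],
   [0,2,1,3,1,1], [1,1,2,0,3], [0,0,3,3], [0,0,2,2], [0,0], [0,0,2,1,3], [0,0,2,1,2],
   [0,0,2,1,2,2,2], [3,0,0,3,0], [1,3,1], [1,2,0], [0,0,2,0,3], [0,0,2,1,1,2], [0,0,3,0,2],
   [0,0,3,1,1,3], [0,0,2,1,1,3], [0,2,1,2,2], [1,1,1,2,0], [0,2,1,1,2,1], [0,0,0,2], [2,1,1,3,0],
   [1], [2,0,2,1,3,1], [1,2,2,1,1,2,1], [0,0,2,2,1,3], [3,0,0,3,3], [2,0,0,2,1], [0,3],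
   [1,1,3,1,2], [1,2,0,0,2], [2,0,2,1,1,1], [2,1,1], [0,2,0], [3,0,0,0], [1,1,1,3], [0,2,1,2,0,3],
   [3,0,0,2,1], [1,1,1,2,2], [0,3,1,1,3], [0,0,0,2,1,3,3], [0,2,1,3,1], [0,0,0,3,0,0], [1,3,0,3],
   [1,1,2], [1,1,2,0,0,0], [1,1,2,0,0,0,2], [1,1,2,0,0,0,3], [2,0,2], [3,1,2], [2,0,3],
   [2,0,0,3,0,2], [2,0], [2,0,3,3], [2,0,0,3,0], [3,1], [0,2,1,1,1], [0,2,1,1,1,3], [0,2,1,1,1,2],
   [2,1,1,3], [0,3,1], [2,0,2,1,1,1,3], [0,2,1,2,0,2], [0,2,0,2,0], [1,1,1,2], [0,0,0,2,1,3,0],
   [0,3,1,1,2], [0,2,1,2,0,0], [0,0,0,2,1], [1,1,3,0], [1,1], [0,0,0,3,0,0,3], [1,3,0,2],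
   [0,2,0,2], [2,0,2,1,1,1,2], [0,3,3,0], [1,1,3,0,3], [0,0,0,2,1,1], [0,3,1,1], [0,0,0,2,1,3],
   [0,2,1,2,0], [1,1,1], [0,0,3,3,0,0], [2,1,1,3,1], [1,3,0], [0,0,0,3,0,0,2], [1,1,3]]

/-- The sixteen elements of the pointwise stabiliser of the base octad. -/
def kT : List (ℕ × ℕ) :=
  [(984818244535754528103549039458486304, 984818244535754528103549039458486304),
   (984330238668445353307680420861740096, 984330238668445353307680420861740096),
   (984561664131678682933695704404628576, 984561664131678682933695704404628576),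
   (984365217902686453248235801272398976, 984365217902686453248235801272398976),
   (984232233431490913630068531325373600, 984232233431490913630068531325373600),
   (984474077397641743376427032193378496, 984474077397641743376427032193378496),
   (984159739662526352166722481920720096, 984159739662526352166722481920720096),
   (984778551226145691544909149262458112, 984778551226145691544909149262458112),
   (984035668360141982437242148508390688, 984035668360141982437242148508390688),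
   (984106537951624291307853224808683840, 984106537951624291307853224808683840),
   (984723249968559545477841165439377760, 984723249968559545477841165439377760),
   (984193134333667655196206109968142752, 984193134333667655196206109968142752),
   (984067557695403189637163205127740896, 984067557695403189637163205127740896),
   (984389065579339274464679472059863648, 984389065579339274464679472059863648),
   (984266143084858087375752989286682240, 984266143084858087375752989286682240),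
   (983991419431302060320892116034627232, 983991419431302060320892116034627232)]

/-- Normalisation: replace an octad disjoint from the base octad by the smaller of it and its
complement in the sixteen remaining points. -/
def normC (x : List ℕ) : List ℕ := x.map fun m => min m (Nat.xor m cmask)

theorem C_valid : (List.range 15).all (fun i => octadList.contains (A i) && octadList.contains (B i)
    && (A i &&& oct0 == 0) && (B i &&& oct0 == 0) && (A i &&& B i == 0)) = true := by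
  decide +kernel

theorem oct0_mem : oct0 ∈ octadList := by decide +kernel

theorem C_complete : octadList.all (fun m => (m &&& oct0 != 0) ||
    AL.contains (min m (Nat.xor m cmask))) = true := by decide +kernel

theorem C_inj : (List.range 15).all (fun i => (A i != oct0) && (List.range 15).all (fun j =>
    !(A i == A j || A i == B j) || i == j)) = true := by decide +kernel

theorem gensH_ok : ∀ g ∈ gensH, genOK [oct0] g = true := by decide +kernel

theorem pair_cert : certCheckN gensH normC (fun _ => [A 0, A 1])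
    (fun c => [A (c / 15), A (c % 15)]) codes wordsP = true := by decide +kernel

theorem codes_spec : ∀ i < 15, ∀ j < 15, i ≠ j → 15 * i + j ∈ codes := by decide +kernel

/-- The table describes an element of `M24` fixing the base octad pointwise and every trio through
it. -/
def kOK (g : ℕ × ℕ) : Bool :=
  checkInv g.1 g.2 && inM24 g.2 && (permMask g.2 oct0 == oct0) &&
    (List.range 24).all (fun b => !oct0.testBit b || lk g.1 b == b) &&
    (List.range 15).all (fun i => min (permMask g.2 (A i)) (Nat.xor (permMask g.2 (A i)) cmask) == A i)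

theorem kT_ok : ∀ g ∈ kT, kOK g = true := by decide +kernel

theorem kT_targets : ∀ q < 24, oct0.testBit q = false → ∃ g ∈ kT, lk g.1 1 = q := by
  decide +kernel

/-! ### Trios from masks -/

abbrev o0 : Finset GolayPt := toFinset oct0

theorem o0_mem : o0 ∈ octads := toFinset_mem_octads oct0_mem

theorem disjoint_of_land {a b : ℕ} (h : a &&& b = 0) : Disjoint (toFinset a) (toFinset b) := by
  rw [Finset.disjoint_iff_inter_eq_empty, ← toFinset_and, h, toFinset_zero]

theorem land_of_disjoint {a b : ℕ} (ha : a < 2 ^ 24) (h : Disjoint (toFinset a) (toFinset b)) :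
    a &&& b = 0 := by
  rw [Finset.disjoint_iff_inter_eq_empty, ← toFinset_and, ← toFinset_zero] at h
  exact toFinset_inj (lt_of_le_of_lt Nat.and_le_left ha) (by norm_num) h

theorem ne_of_octad_disjoint {s t : Finset GolayPt} (hs : s ∈ octads) (hd : Disjoint s t) :
    s ≠ t := by
  rintro rfl
  rw [Finset.disjoint_self_iff_empty] at hd
  have := hs.2
  rw [hd] at this
  simp at this

theorem trio3_mem {a b c : ℕ} (ha : a ∈ octadList) (hb : b ∈ octadList) (hc : c ∈ octadList)
    (hab : a &&& b = 0) (hac : a &&& c = 0) (hbc : b &&& c = 0) :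
    ({toFinset a, toFinset b, toFinset c} : Finset (Finset GolayPt)) ∈ trios := by
  have ha' := toFinset_mem_octads ha
  have hb' := toFinset_mem_octads hb
  have hc' := toFinset_mem_octads hc
  have dab := disjoint_of_land hab
  have dac := disjoint_of_land hac
  have dbc := disjoint_of_land hbc
  have nab := ne_of_octad_disjoint ha' dab
  have nac := ne_of_octad_disjoint ha' dac
  have nbc := ne_of_octad_disjoint hb' dbc
  refine ⟨?_, ?_, ?_⟩
  · rw [Finset.card_insert_of_notMem, Finset.card_insert_of_notMem, Finset.card_singleton]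
    · simpa using nbc
    · simp only [Finset.mem_insert, Finset.mem_singleton]
      rintro (h | h)
      · exact nab h
      · exact nac h
  · intro o ho
    simp only [Finset.mem_insert, Finset.mem_singleton] at ho
    rcases ho with rfl | rfl | rfl
    · exact ha'
    · exact hb'
    · exact hc'
  · intro o ho u hu hne
    simp only [Finset.mem_insert, Finset.mem_singleton] at ho hu
    rcases ho with rfl | rfl | rfl <;> rcases hu with rfl | rfl | rfl
    · exact absurd rfl hne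
    · exact dab
    · exact dac
    · exact dab.symm
    · exact absurd rfl hne
    · exact dbc
    · exact dac.symm
    · exact dbc.symm
    · exact absurd rfl hne

theorem A_spec {i : ℕ} (hi : i < 15) : A i ∈ octadList ∧ B i ∈ octadList ∧ A i &&& oct0 = 0 ∧
    B i &&& oct0 = 0 ∧ A i &&& B i = 0 := by
  have := List.all_eq_true.mp C_valid i (List.mem_range.mpr hi)
  simp only [Bool.and_eq_true, List.contains_iff_mem, beq_iff_eq] at this
  tauto

/-- The fifteen trios through the base octad. -/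
def Tr (i : ℕ) : Finset (Finset GolayPt) := {o0, toFinset (A i), toFinset (B i)}

theorem Tr_mem {i : ℕ} (hi : i < 15) : Tr i ∈ trios := by
  obtain ⟨h1, h2, h3, h4, h5⟩ := A_spec hi
  exact trio3_mem oct0_mem h1 h2 (by rw [Nat.land_comm]; exact h3) (by rw [Nat.land_comm]; exact h4) h5

theorem o0_mem_Tr (i : ℕ) : o0 ∈ Tr i := by simp [Tr]

theorem A_mem_Tr (i : ℕ) : toFinset (A i) ∈ Tr i := by simp [Tr]

theorem B_mem_Tr (i : ℕ) : toFinset (B i) ∈ Tr i := by simp [Tr]

theorem A_ne_o0 {i : ℕ} (hi : i < 15) : toFinset (A i) ≠ o0 :=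
  ne_of_octad_disjoint (toFinset_mem_octads (A_spec hi).1) (disjoint_of_land (A_spec hi).2.2.1)

theorem xor_cmask_cancel (m : ℕ) : Nat.xor (Nat.xor m cmask) cmask = m := by
  show (m ^^^ cmask) ^^^ cmask = m
  rw [Nat.xor_assoc, Nat.xor_self, Nat.xor_zero]

/-- A mask whose normalisation is `A i` describes one of the two further octads of `Tr i`. -/
theorem mem_Tr_of_norm {i m : ℕ} (h : min m (Nat.xor m cmask) = A i) : toFinset m ∈ Tr i := by
  rcases min_choice m (Nat.xor m cmask) with h1 | h1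
  · rw [h1] at h
    rw [h]
    exact A_mem_Tr i
  · rw [h1] at h
    have : B i = m := by
      unfold B
      rw [← h]
      exact xor_cmask_cancel m
    rw [← this]
    exact B_mem_Tr i

theorem exists_Tr {T : Finset (Finset GolayPt)} (hT : T ∈ trios) (ho : o0 ∈ T) :
    ∃ i < 15, T = Tr i := by
  obtain ⟨a, ha, hne⟩ : ∃ a ∈ T, a ≠ o0 := Finset.exists_mem_ne (by rw [hT.1]; norm_num) o0
  have hao := Cfsg.Agent.Helper26.trio_octad hT ha
  obtain ⟨m, hm, rfl⟩ := mem_octads_iff'.mp hao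
  have hdis : Disjoint (toFinset m) o0 := Cfsg.Agent.Helper26.trio_disjoint hT ha ho hne
  have hland : m &&& oct0 = 0 := land_of_disjoint (octadList_lt hm) hdis
  have h1 := List.all_eq_true.mp C_complete m hm
  rw [hland] at h1
  simp only [bne_self_eq_false, Bool.false_or, List.contains_iff_mem] at h1
  obtain ⟨i, hi, hA⟩ := List.mem_iff_getElem.mp h1
  have hi' : i < 15 := hi
  have hAi : A i = min m (Nat.xor m cmask) := by
    unfold A
    rw [List.getD_eq_getElem _ _ hi]
    exact hA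
  refine ⟨i, hi', ?_⟩
  exact Cfsg.Agent.Helper26.trio_eq_of_two_of_two hT (Tr_mem hi') ho ha (o0_mem_Tr i)
    (mem_Tr_of_norm hAi.symm) hne.symm

theorem Tr_injective {i j : ℕ} (hi : i < 15) (hj : j < 15) (h : Tr i = Tr j) : i = j := by
  have h1 : toFinset (A i) ∈ Tr j := by rw [← h]; exact A_mem_Tr i
  have hc := List.all_eq_true.mp C_inj i (List.mem_range.mpr hi)
  rw [Bool.and_eq_true] at hc
  have hc2 := List.all_eq_true.mp hc.2 j (List.mem_range.mpr hj)
  have hAi := octadList_lt (A_spec hi).1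
  simp only [Tr, Finset.mem_insert, Finset.mem_singleton] at h1
  rcases h1 with h1 | h1 | h1
  · exact absurd h1 (A_ne_o0 hi)
  · have := toFinset_inj hAi (octadList_lt (A_spec hj).1) h1
    simpa [this] using hc2
  · have := toFinset_inj hAi (octadList_lt (A_spec hj).2.1) h1
    simpa [this] using hc2

theorem base_count : {T : Finset (Finset GolayPt) | T ∈ trios ∧ o0 ∈ T}.ncard = 15 := by
  have : {T : Finset (Finset GolayPt) | T ∈ trios ∧ o0 ∈ T} = Tr '' ↑(Finset.range 15) := by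
    ext T
    simp only [Set.mem_ofPred_eq, Set.mem_image, Finset.coe_range, Set.mem_Iio]
    constructor
    · rintro ⟨hT, ho⟩
      obtain ⟨i, hi, rfl⟩ := exists_Tr hT ho
      exact ⟨i, hi, rfl⟩
    · rintro ⟨i, hi, rfl⟩
      exact ⟨Tr_mem hi, o0_mem_Tr i⟩
  rw [this, Set.InjOn.ncard_image, Set.ncard_coe_finset, Finset.card_range]
  intro i hi j hj h
  simp only [Finset.coe_range, Set.mem_Iio] at hi hj
  exact Tr_injective hi hj h

/-! ### Double transitivity at the base octad -/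

theorem smul_Tr_of {g : Equiv.Perm GolayPt} (hg : g ∈ stabOf [oct0]) {k i : ℕ} (hk : k < 15)
    (hi : i < 15) {x1 : ℕ} (e1 : toFinset x1 = g • toFinset (A k))
    (hx1 : min x1 (Nat.xor x1 cmask) = A i) : g • Tr k = Tr i := by
  have hgo : g • o0 = o0 := hg.2 oct0 (by simp)
  have h1 : g • Tr k ∈ trios := Cfsg.Agent.Helper26.smul_mem_trios hg.1 (Tr_mem hk)
  have h2 : o0 ∈ g • Tr k := by
    rw [← hgo]
    exact Finset.smul_mem_smul_finset (o0_mem_Tr k)
  have h3 : toFinset x1 ∈ g • Tr k := by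
    rw [e1]
    exact Finset.smul_mem_smul_finset (A_mem_Tr k)
  have h4 : o0 ≠ toFinset x1 := by
    rw [e1]
    intro h
    rw [← hgo] at h
    exact A_ne_o0 hk (MulAction.injective g h).symm
  exact Cfsg.Agent.Helper26.trio_eq_of_two_of_two h1 (Tr_mem hi) h2 h3 (o0_mem_Tr i)
    (mem_Tr_of_norm hx1) h4

theorem base_two_trans {i j : ℕ} (hi : i < 15) (hj : j < 15) (hij : i ≠ j) :
    ∃ g ∈ stabOf [oct0], g • Tr 0 = Tr i ∧ g • Tr 1 = Tr j := by
  obtain ⟨x, hx, g, hg, e⟩ := certCheckN_spec gensH_ok normC _ _ _ _ pair_cert (15 * i + j)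
    (codes_spec i hi j hj hij)
  have h1 : (15 * i + j) / 15 = i := by omega
  have h2 : (15 * i + j) % 15 = j := by omega
  rw [h1, h2] at hx
  have hlen : x.length = 2 := by
    have := congrArg List.length e
    simpa using this
  obtain ⟨x1, x2, rfl⟩ := List.length_eq_two.mp hlen
  simp only [normC, List.map_cons, List.map_nil, List.cons.injEq, and_true] at hx e
  exact ⟨g, hg, smul_Tr_of hg (by norm_num) hi e.1 hx.1, smul_Tr_of hg (by norm_num) hj e.2 hx.2⟩

/-! ### The pointwise stabiliser of the base octad -/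

theorem pt1_not_mem : pt 1 ∉ o0 := by
  rw [pt_mem_toFinset (by norm_num)]
  decide +kernel

theorem kOK_spec {t : ℕ × ℕ} (h : kOK t = true) :
    checkInv t.1 t.2 = true ∧ permOf t ∈ stabOf [oct0] ∧
      permOf t ∈ Cfsg.Agent.Helper7.octFix o0 ∧ ∀ i < 15, permOf t • Tr i = Tr i := by
  unfold kOK at h
  simp only [Bool.and_eq_true, beq_iff_eq] at h
  obtain ⟨⟨⟨⟨h1, h2⟩, h3⟩, h4⟩, h5⟩ := h
  have hM : permOf t ∈ M24 := permOf_mem_M24 h1 h2
  have hS : permOf t ∈ stabOf [oct0] := by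
    refine ⟨hM, ?_⟩
    intro m hm
    simp only [List.mem_cons, List.not_mem_nil, or_false] at hm
    rw [hm, permOf_smul h1, h3]
  refine ⟨h1, hS, ?_, ?_⟩
  · rw [Cfsg.Agent.Helper7.mem_octFix]
    refine ⟨hM, ?_⟩
    intro p hp
    have hb := List.all_eq_true.mp h4 (idx p) (List.mem_range.mpr (idx_lt p))
    rw [mem_toFinset] at hp
    rw [hp] at hb
    simp only [Bool.not_true, Bool.false_or, beq_iff_eq] at hb
    rw [permOf_apply h1, hb, pt_idx]
  · intro i hi
    have hb := List.all_eq_true.mp h5 i (List.mem_range.mpr hi)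
    rw [beq_iff_eq] at hb
    exact smul_Tr_of hS hi hi (permOf_smul h1 (A i)).symm hb

theorem base_fix {g : Equiv.Perm GolayPt} (hg : g ∈ Cfsg.Agent.Helper7.octFix o0) {i : ℕ}
    (hi : i < 15) : g • Tr i = Tr i := by
  have hg' := Cfsg.Agent.Helper7.mem_octFix.mp hg
  -- the image of `pt 1` lies outside the base octad
  have hq : g (pt 1) ∉ o0 := by
    intro h
    have := hg'.2 _ h
    exact pt1_not_mem (g.injective this ▸ h)
  obtain ⟨t, ht, hl⟩ := kT_targets (idx (g (pt 1))) (idx_lt _) (by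
    rw [mem_toFinset] at hq
    simpa using hq)
  obtain ⟨h1, hS, hF, hTr⟩ := kOK_spec (kT_ok t ht)
  have hp : permOf t (pt 1) = g (pt 1) := by
    rw [permOf_apply h1, idx_pt (by norm_num), hl, pt_idx]
  have : (permOf t)⁻¹ * g = 1 := by
    apply Cfsg.Agent.Helper26.octFix_semiregular o0_mem
      (Subgroup.mul_mem _ (Subgroup.inv_mem _ hF) hg) pt1_not_mem
    rw [Equiv.Perm.mul_apply, ← hp]
    simp
  rw [inv_mul_eq_one] at this
  rw [← this]
  exact hTr i hi

/-! ### Transport to an arbitrary octad -/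

theorem smul_mem_iff (h : Equiv.Perm GolayPt) (o : Finset GolayPt) (T : Finset (Finset GolayPt)) :
    h • o ∈ T ↔ o ∈ h⁻¹ • T := by
  rw [← Finset.smul_mem_smul_finset_iff h⁻¹, inv_smul_smul]

/-- The trios through `h • o0` are the images of the fifteen base trios. -/
theorem exists_Tr' {h : Equiv.Perm GolayPt} (hh : h ∈ M24) {T : Finset (Finset GolayPt)}
    (hT : T ∈ trios) (ho : h • o0 ∈ T) : ∃ i < 15, T = h • Tr i := by
  have h1 : h⁻¹ • T ∈ trios := Cfsg.Agent.Helper26.smul_mem_trios (M24.inv_mem hh) hT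
  have h2 : o0 ∈ h⁻¹ • T := (smul_mem_iff h o0 T).mp ho
  obtain ⟨i, hi, e⟩ := exists_Tr h1 h2
  exact ⟨i, hi, by rw [← e, smul_inv_smul]⟩

theorem count (o : Finset GolayPt) (ho : o ∈ octads) :
    {T : Finset (Finset GolayPt) | T ∈ trios ∧ o ∈ T}.ncard = 15 := by
  obtain ⟨h, hh, rfl⟩ := octads_transitive ho
  have : {T : Finset (Finset GolayPt) | T ∈ trios ∧ h • o0 ∈ T} =
      (fun T => h • T) '' {T : Finset (Finset GolayPt) | T ∈ trios ∧ o0 ∈ T} := by
    ext T
    simp only [Set.mem_ofPred_eq, Set.mem_image]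
    constructor
    · rintro ⟨hT, hoT⟩
      exact ⟨h⁻¹ • T, ⟨Cfsg.Agent.Helper26.smul_mem_trios (M24.inv_mem hh) hT,
        (smul_mem_iff h o0 T).mp hoT⟩, smul_inv_smul h T⟩
    · rintro ⟨T', ⟨hT', hoT'⟩, rfl⟩
      exact ⟨Cfsg.Agent.Helper26.smul_mem_trios hh hT', Finset.smul_mem_smul_finset hoT'⟩
  rw [this, Set.ncard_image_of_injective _ (MulAction.injective h), base_count]

theorem two_trans (o : Finset GolayPt) (ho : o ∈ octads)
    (T₁ T₂ T₁' T₂' : Finset (Finset GolayPt)) (h1 : T₁ ∈ trios) (h2 : T₂ ∈ trios)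
    (h1' : T₁' ∈ trios) (h2' : T₂' ∈ trios) (o1 : o ∈ T₁) (o2 : o ∈ T₂) (o1' : o ∈ T₁')
    (o2' : o ∈ T₂') (hne : T₁ ≠ T₂) (hne' : T₁' ≠ T₂') :
    ∃ g ∈ M24, g • o = o ∧ g • T₁ = T₁' ∧ g • T₂ = T₂' := by
  obtain ⟨h, hh, rfl⟩ := octads_transitive ho
  obtain ⟨i, hi, rfl⟩ := exists_Tr' hh h1 o1
  obtain ⟨j, hj, rfl⟩ := exists_Tr' hh h2 o2
  obtain ⟨i', hi', rfl⟩ := exists_Tr' hh h1' o1'
  obtain ⟨j', hj', rfl⟩ := exists_Tr' hh h2' o2'
  have hij : i ≠ j := by rintro rfl; exact hne rfl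
  have hij' : i' ≠ j' := by rintro rfl; exact hne' rfl
  obtain ⟨g1, hg1, a1, b1⟩ := base_two_trans hi hj hij
  obtain ⟨g2, hg2, a2, b2⟩ := base_two_trans hi' hj' hij'
  have hg1o : g1 • o0 = o0 := hg1.2 oct0 (by simp)
  have hg2o : g2 • o0 = o0 := hg2.2 oct0 (by simp)
  refine ⟨h * g2 * g1⁻¹ * h⁻¹,
    M24.mul_mem (M24.mul_mem (M24.mul_mem hh hg2.1) (M24.inv_mem hg1.1)) (M24.inv_mem hh), ?_, ?_, ?_⟩
  · rw [mul_smul, mul_smul, mul_smul, inv_smul_smul, inv_smul_eq_iff.mpr hg1o.symm, hg2o]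
  · rw [mul_smul, mul_smul, mul_smul, inv_smul_smul, ← a1, inv_smul_smul, a2]
  · rw [mul_smul, mul_smul, mul_smul, inv_smul_smul, ← b1, inv_smul_smul, b2]

/-- Elements fixing an octad pointwise fix every trio through it. -/
theorem fix_of_pointwise {o : Finset GolayPt} (ho : o ∈ octads) {g : Equiv.Perm GolayPt}
    (hg : g ∈ M24) (hfix : ∀ p ∈ o, g p = p) {T : Finset (Finset GolayPt)} (hT : T ∈ trios)
    (hoT : o ∈ T) : g • T = T := by
  obtain ⟨h, hh, rfl⟩ := octads_transitive ho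
  obtain ⟨i, hi, rfl⟩ := exists_Tr' hh hT hoT
  have hmem : h⁻¹ * g * h ∈ Cfsg.Agent.Helper7.octFix o0 := by
    rw [Cfsg.Agent.Helper7.mem_octFix]
    refine ⟨M24.mul_mem (M24.mul_mem (M24.inv_mem hh) hg) hh, ?_⟩
    intro p hp
    have : h p ∈ h • o0 := by
      rw [← Equiv.Perm.smul_def]
      exact Finset.smul_mem_smul_finset hp
    simp only [Equiv.Perm.mul_apply]
    rw [hfix _ this]
    simp
  have := base_fix hmem hi
  rw [mul_smul, mul_smul, inv_smul_eq_iff] at this
  exact this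

/-! ### The kernel of the action on the trios -/

open Cfsg.Agent.Helper26 in
theorem pointwise_of_fix {o : Finset GolayPt} (ho : o ∈ octads) {g : Equiv.Perm GolayPt}
    (hg : g ∈ M24) (hgo : g • o = o)
    (hfix : ∀ T ∈ trios, o ∈ T → g • T = T) : ∀ p ∈ o, g p = p := by
  classical
  have hstab : ∀ h : ↥(setStabM o), (h : Equiv.Perm GolayPt) ∈ M24 ∧
      (h : Equiv.Perm GolayPt) • o = o := fun h =>
    ⟨(Subgroup.mem_inf.mp h.2).1, MulAction.mem_stabilizer_iff.mp (Subgroup.mem_inf.mp h.2).2⟩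
  -- the kernel of the action on the trios through `o`
  let K : Subgroup ↥(setStabM o) :=
    { carrier := {k | ∀ T ∈ trios, o ∈ T → (k : Equiv.Perm GolayPt) • T = T}
      one_mem' := by
        intro T _ _
        exact one_smul _ T
      mul_mem' := by
        intro a b ha hb T hT hoT
        show ((a : Equiv.Perm GolayPt) * (b : Equiv.Perm GolayPt)) • T = T
        rw [mul_smul, hb T hT hoT, ha T hT hoT]
      inv_mem' := by
        intro a ha T hT hoT
        show ((a : Equiv.Perm GolayPt))⁻¹ • T = T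
        rw [inv_smul_eq_iff, ha T hT hoT] }
  have hKn : K.Normal := by
    constructor
    intro k hk h T hT hoT
    show ((h : Equiv.Perm GolayPt) * (k : Equiv.Perm GolayPt) * (h : Equiv.Perm GolayPt)⁻¹) • T = T
    have h1 : (h : Equiv.Perm GolayPt)⁻¹ • T ∈ trios :=
      smul_mem_trios (M24.inv_mem (hstab h).1) hT
    have h2 : o ∈ (h : Equiv.Perm GolayPt)⁻¹ • T := by
      rw [← smul_mem_iff, (hstab h).2]
      exact hoT
    rw [mul_smul, mul_smul, hk _ h1 h2, smul_inv_smul]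
  have hsimple : IsSimpleGroup ↥((resHom o).range) := by
    rw [resHom_range_eq ho]
    apply alternatingGroup.isSimpleGroup
    rw [Nat.card_eq_fintype_card, Fintype.card_coe, ho.2]
    norm_num
  have hNn : (K.map (resHom o).rangeRestrict).Normal :=
    hKn.map _ (resHom o).rangeRestrict_surjective
  let g' : ↥(setStabM o) := ⟨g, Subgroup.mem_inf.mpr ⟨hg, MulAction.mem_stabilizer_iff.mpr hgo⟩⟩
  have hg'K : g' ∈ K := hfix
  rcases hNn.eq_bot_or_eq_top with hN | hN
  · have h1 : (resHom o).rangeRestrict g' ∈ K.map (resHom o).rangeRestrict :=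
      Subgroup.mem_map_of_mem _ hg'K
    rw [hN, Subgroup.mem_bot] at h1
    have hfg : resHom o g' = 1 := congrArg Subtype.val h1
    intro p hp
    have := congrArg (fun e : Equiv.Perm ↥o => ((e ⟨p, hp⟩ : ↥o) : GolayPt)) hfg
    simpa [resHom_apply] using this
  · exfalso
    have hc := count o ho
    have hlt : 1 < {T : Finset (Finset GolayPt) | T ∈ trios ∧ o ∈ T}.ncard := by
      rw [hc]; norm_num
    obtain ⟨T1, T2, hT1, hT2, hne⟩ := (Set.one_lt_ncard_iff).mp hlt
    obtain ⟨h, hh, hho, e1, -⟩ := two_trans o ho T1 T2 T2 T1 hT1.1 hT2.1 hT2.1 hT1.1 hT1.2 hT2.2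
      hT2.2 hT1.2 hne hne.symm
    let h' : ↥(setStabM o) := ⟨h, Subgroup.mem_inf.mpr ⟨hh, MulAction.mem_stabilizer_iff.mpr hho⟩⟩
    have h1 : (resHom o).rangeRestrict h' ∈ K.map (resHom o).rangeRestrict := by
      rw [hN]; trivial
    obtain ⟨k, hk, hkf⟩ := Subgroup.mem_map.mp h1
    have hfk : resHom o k = resHom o h' := congrArg Subtype.val hkf
    have hpt : ∀ p ∈ o, ((k : Equiv.Perm GolayPt)⁻¹ * h) p = p := by
      intro p hp
      have := congrArg (fun e : Equiv.Perm ↥o => ((e ⟨p, hp⟩ : ↥o) : GolayPt)) hfk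
      simp only [resHom_apply] at this
      rw [Equiv.Perm.mul_apply]
      show (k : Equiv.Perm GolayPt)⁻¹ (h p) = p
      rw [← this]
      simp
    have hfix1 := fix_of_pointwise ho (M24.mul_mem (M24.inv_mem (hstab k).1) hh) hpt hT1.1 hT1.2
    rw [mul_smul, e1, inv_smul_eq_iff, hk T1 hT1.1 hT1.2] at hfix1
    exact hne hfix1.symm

/-- An octad of the length-24 code lies in exactly 15 trios; the stabiliser of the octad in the code's group acts doubly transitively on these 15 trios, and the kernel of this action is the pointwise stabiliser of the octad. -/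
theorem result (o : Finset Cfsg.GolayPt) (ho : o ∈ Cfsg.octads) : {T : Finset (Finset Cfsg.GolayPt) | T ∈ Cfsg.trios ∧ o ∈ T}.ncard = 15 ∧ (∀ T₁ T₂ T₁' T₂' : Finset (Finset Cfsg.GolayPt), T₁ ∈ Cfsg.trios → T₂ ∈ Cfsg.trios → T₁' ∈ Cfsg.trios → T₂' ∈ Cfsg.trios → o ∈ T₁ → o ∈ T₂ → o ∈ T₁' → o ∈ T₂' → T₁ ≠ T₂ → T₁' ≠ T₂' → ∃ g ∈ Cfsg.M24, g • o = o ∧ g • T₁ = T₁' ∧ g • T₂ = T₂') ∧ ∀ g ∈ Cfsg.M24, g • o = o → ((∀ T ∈ Cfsg.trios, o ∈ T → g • T = T) ↔ ∀ p ∈ o, g p = p) := by
  refine ⟨count o ho, ?_, ?_⟩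
  · intro T₁ T₂ T₁' T₂' h1 h2 h1' h2' o1 o2 o1' o2' hne hne'
    exact two_trans o ho T₁ T₂ T₁' T₂' h1 h2 h1' h2' o1 o2 o1' o2' hne hne'
  · intro g hg hgo
    constructor
    · intro h
      exact pointwise_of_fix ho hg hgo h
    · intro h T hT hoT
      exact fix_of_pointwise ho hg h hT hoT

end Cfsg.Agent.S5615
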