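import Cfsg.Statements.S5616
import Mathlib
import Cfsg.Agent.Lib.Helper26.Y3Data

set_option autoImplicit false
open scoped Pointwise
open Cfsg

namespace Cfsg.Agent.S5616

open Cfsg.Agent.Helper26 Cfsg.Agent.Helper27

/-- The number of members of the family meeting `Y`. -/
def fc (Y : Finset GolayPt) (S : Finset (Finset GolayPt)) : ℕ :=
  (S.filter fun t => (t ∩ Y).Nonempty).card

theorem fc_smul (g : Equiv.Perm GolayPt) (Y : Finset GolayPt) (S : Finset (Finset GolayPt)) :
    fc (g • Y) (g • S) = fc Y S := by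
  unfold fc
  have h1 : g • S = S.image (fun t => g • t) := rfl
  rw [h1, Finset.filter_image, Finset.card_image_of_injective _ (MulAction.injective g)]
  congr 1
  apply Finset.filter_congr
  intro t _
  rw [← Finset.smul_finset_inter, Finset.smul_finset_nonempty]

/-- The base triad. -/
def Y0 : Finset GolayPt := toFinset 7

/-- The stabiliser of the base triad. -/
def HY : Subgroup (Equiv.Perm GolayPt) := M24 ⊓ MulAction.stabilizer (Equiv.Perm GolayPt) Y0

theorem y3GensIn : GensIn HY y3Gens := by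
  intro g hg
  have h := y3Gens_ok g hg
  refine ⟨genOK_checkInv h, ?_⟩
  have h2 := permOf_mem_stabOf h
  rw [mem_stabOf] at h2
  exact ⟨h2.1, h2.2 7 (by simp)⟩

theorem meets_iff (m : ℕ) :
    (toFinset m ∩ Y0).Nonempty ↔ (!(Nat.beq (Nat.land m 7) 0)) = true := by
  unfold Y0
  rw [← toFinset_and]
  have hlt : m &&& 7 < 2 ^ 24 := lt_of_le_of_lt Nat.and_le_right (by norm_num)
  by_cases h0 : m &&& 7 = 0
  · have : Nat.beq (Nat.land m 7) 0 = true := by
      show Nat.beq (m &&& 7) 0 = true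
      rw [h0]; rfl
    rw [this, h0, toFinset_zero]
    simp
  · have : Nat.beq (Nat.land m 7) 0 = false := by
      rw [Bool.eq_false_iff]
      intro h
      exact h0 (Nat.eq_of_beq_eq_true h)
    rw [this]
    simp only [Bool.not_false, iff_true]
    rw [Finset.nonempty_iff_ne_empty, ← toFinset_zero]
    intro h
    exact h0 (toFinset_inj hlt (by norm_num) h)

theorem fc_toQ {L : List ℕ} (hnd : (L.map toFinset).Nodup) :
    fc Y0 (toQ L) = (L.filter (fun m => !(Nat.beq (Nat.land m 7) 0))).length := by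
  have hnd' : ((L.filter (fun m => !(Nat.beq (Nat.land m 7) 0))).map toFinset).Nodup :=
    (List.filter_sublist.map toFinset).nodup hnd
  rw [← List.length_map (f := toFinset), ← List.toFinset_card_of_nodup hnd']
  unfold fc toQ
  congr 1
  ext t
  simp only [Finset.mem_filter, List.mem_toFinset, List.mem_map, List.mem_filter]
  constructor
  · rintro ⟨⟨m, hm, rfl⟩, h⟩
    exact ⟨m, ⟨hm, (meets_iff m).mp h⟩, rfl⟩
  · rintro ⟨m, ⟨hm, h⟩, rfl⟩
    exact ⟨⟨m, hm, rfl⟩, (meets_iff m).mpr h⟩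

/-- The certified classification of the sextets under the stabiliser of the base triad. -/
theorem y3Certificate : SextetCert HY (fc Y0) 3 y3Rep (fun i => i + 1) y3Items := by
  refine SextetCert.mk' (gens := y3Gens) (words := y3Words) inf_le_left ?_ y3GensIn y3Masks y3Cls
    ?_ ?_ ?_ y3Cert
  · intro g hg X
    have hgY : g • Y0 = Y0 := hg.2
    conv_lhs => rw [← hgY]
    exact fc_smul g Y0 X
  · intro i hi
    obtain ⟨h1, h2, _⟩ := y3XL_ok i hi
    obtain ⟨_, _, h3, _⟩ := sextetOK_spec h1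
    exact (h3 _ h2).1
  · intro i hi
    obtain ⟨h1, h2, h3⟩ := y3XL_ok i hi
    have hmem : toFinset (y3Rep i) ∈ toQ (y3XL i) := mem_toQ.mpr ⟨_, h2, rfl⟩
    rw [← sextet_eq_sx (toQ_mem_sextets h1) hmem, fc_toQ (sextetOK_nodup h1), h3]
  · intro i _ j _ h
    simpa using h

theorem card_Y0 : Y0.card = 3 := by
  unfold Y0
  rw [card_toFinset]
  decide

theorem fc_pos_le {S : Finset (Finset GolayPt)} (hS : S ∈ sextets) :
    ∃ i < 3, fc Y0 S = i + 1 := by
  obtain ⟨i, hi, h, _⟩ := y3Certificate.classify hS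
  exact ⟨i, hi, h⟩

theorem base_count (c : ℕ) (hc : c < 3) :
    {S : Finset (Finset GolayPt) | S ∈ sextets ∧ fc Y0 S = c + 1}.ncard =
      [21, 630, 1120].getD c 0 := by
  rw [← y3Count c hc]
  exact y3Certificate.count hc

theorem count_transport (h : Equiv.Perm GolayPt) (hh : h ∈ M24) (c : ℕ) :
    {S : Finset (Finset GolayPt) | S ∈ sextets ∧ fc (h • Y0) S = c}.ncard =
      {S : Finset (Finset GolayPt) | S ∈ sextets ∧ fc Y0 S = c}.ncard := by
  have : {S : Finset (Finset GolayPt) | S ∈ sextets ∧ fc (h • Y0) S = c} =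
      (fun X => h • X) '' {S : Finset (Finset GolayPt) | S ∈ sextets ∧ fc Y0 S = c} := by
    ext X
    constructor
    · rintro ⟨hX, hp⟩
      refine ⟨h⁻¹ • X, ⟨smul_mem_sextets (M24.inv_mem hh) hX, ?_⟩, smul_inv_smul h X⟩
      rw [← fc_smul h, smul_inv_smul]; exact hp
    · rintro ⟨X0, ⟨hX0, hp⟩, rfl⟩
      exact ⟨smul_mem_sextets hh hX0, by rw [fc_smul]; exact hp⟩
  rw [this, Set.ncard_image_of_injective _ (MulAction.injective h)]

/-- Let Y be a set of 3 of the 24 points. The sextets of the length-24 code whose tetrads meeting Y number 1, 2 or 3 are respectively 21, 630 and 1120 in number, and two sextets with the same number of tetrads meeting Y are conjugate under the setwise stabiliser of Y in the code's group. -/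
theorem result (Y : Finset Cfsg.GolayPt) (hY : Y.card = 3) : {S : Finset (Finset Cfsg.GolayPt) | S ∈ Cfsg.sextets ∧ (S.filter fun t => (t ∩ Y).Nonempty).card = 1}.ncard = 21 ∧ {S : Finset (Finset Cfsg.GolayPt) | S ∈ Cfsg.sextets ∧ (S.filter fun t => (t ∩ Y).Nonempty).card = 2}.ncard = 630 ∧ {S : Finset (Finset Cfsg.GolayPt) | S ∈ Cfsg.sextets ∧ (S.filter fun t => (t ∩ Y).Nonempty).card = 3}.ncard = 1120 ∧ ∀ S S' : Finset (Finset Cfsg.GolayPt), S ∈ Cfsg.sextets → S' ∈ Cfsg.sextets → (S.filter fun t => (t ∩ Y).Nonempty).card = (S'.filter fun t => (t ∩ Y).Nonempty).card → ∃ g ∈ Cfsg.M24, g • Y = Y ∧ g • S = S' := by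
  obtain ⟨h, hh, -, rfl⟩ := m24_trans_pair ∅ Y0 Y (by simp) (by simp)
    (by simp [card_Y0, hY]) (by simp [card_Y0])
  refine ⟨?_, ?_, ?_, ?_⟩
  · exact (count_transport h hh 1).trans (base_count 0 (by norm_num))
  · exact (count_transport h hh 2).trans (base_count 1 (by norm_num))
  · exact (count_transport h hh 3).trans (base_count 2 (by norm_num))
  · intro S S' hS hS' hfc
    have hfc' : fc (h • Y0) S = fc (h • Y0) S' := hfc
    have e1 : fc (h • Y0) S = fc Y0 (h⁻¹ • S) := by
      rw [← fc_smul h Y0 (h⁻¹ • S), smul_inv_smul]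
    have e2 : fc (h • Y0) S' = fc Y0 (h⁻¹ • S') := by
      rw [← fc_smul h Y0 (h⁻¹ • S'), smul_inv_smul]
    rw [e1, e2] at hfc'
    obtain ⟨g, hg, hgS⟩ := y3Certificate.trans (smul_mem_sextets (M24.inv_mem hh) hS)
      (smul_mem_sextets (M24.inv_mem hh) hS') hfc'
    refine ⟨h * g * h⁻¹, M24.mul_mem (M24.mul_mem hh hg.1) (M24.inv_mem hh), ?_, ?_⟩
    · have hgY : g • Y0 = Y0 := hg.2
      rw [mul_smul, mul_smul, inv_smul_smul, hgY]
    · rw [mul_smul, mul_smul, hgS, smul_inv_smul]

end Cfsg.Agent.S5616
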