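import Cfsg.Statements.S5617
import Mathlib
import Cfsg.Agent.Lib.Helper26.DDData
import Cfsg.Agent.Lib.Helper26.SextetClassesPat

set_option autoImplicit false
open scoped Pointwise
open Cfsg

namespace Cfsg.Agent.S5617

open Cfsg.Agent.Helper26 Cfsg.Agent.Helper27

theorem toFinset_full' : toFinset 16777215 = Finset.univ := by
  ext p
  simp only [mem_toFinset, Finset.mem_univ, iff_true]
  have : (16777215 : ℕ) = 2 ^ 24 - 1 := by norm_num
  rw [this, Nat.testBit_two_pow_sub_one]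
  simpa using Helper27.idx_lt p

theorem toFinset_compl_mask (m : ℕ) : toFinset (16777215 ^^^ m) = Finset.univ \ toFinset m := by
  rw [toFinset_xor, toFinset_full']
  ext p
  simp [Finset.mem_symmDiff]

/-- The base pair. -/
def Q0 : Finset (Finset GolayPt) := toQ ddQ0L

theorem Q0_eq : Q0 = {toFinset dod0, Finset.univ \ toFinset dod0} := by
  unfold Q0
  rw [ddQ0L_ok]
  unfold toQ
  simp [toFinset_compl_mask]

theorem ddQ_nodup : (ddQ0L.map toFinset).Nodup := by
  apply nodup_map_toFinset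
  · decide
  · decide

theorem ddCertificate : SextetCert (famStab Q0) (pat Q0) 3 ddRep ddPat ddItems :=
  SextetCert.mkPat (XL := ddXL) (gens := ddGens) (words := ddWords) ddQ_nodup ddGens_ok ddMasks
    ddCls ddXL_ok ddPat_inj ddCert

theorem smul_pair (h : Equiv.Perm GolayPt) (a : Finset GolayPt) :
    h • ({a, Finset.univ \ a} : Finset (Finset GolayPt)) = {h • a, Finset.univ \ h • a} := by
  rw [Finset.smul_finset_insert, Finset.smul_finset_singleton]
  congr 2
  ext x
  rw [← Finset.inv_smul_mem_iff, Finset.mem_sdiff, Finset.mem_sdiff, ← Finset.inv_smul_mem_iff]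
  simp

/-- The setwise stabiliser, in the group of the length-24 code, of a complementary pair of dodecads has exactly three orbits on the 1771 sextets, of sizes 396, 495 and 880. -/
theorem result (d : Finset Cfsg.GolayPt) (hd : d ∈ Cfsg.dodecads) : ∃ X₁ ∈ Cfsg.sextets, ∃ X₂ ∈ Cfsg.sextets, ∃ X₃ ∈ Cfsg.sextets, (MulAction.orbit ↥(MulAction.stabilizer Cfsg.M24 ({d, Finset.univ \ d} : Finset (Finset Cfsg.GolayPt))) X₁).ncard = 396 ∧ (MulAction.orbit ↥(MulAction.stabilizer Cfsg.M24 ({d, Finset.univ \ d} : Finset (Finset Cfsg.GolayPt))) X₂).ncard = 495 ∧ (MulAction.orbit ↥(MulAction.stabilizer Cfsg.M24 ({d, Finset.univ \ d} : Finset (Finset Cfsg.GolayPt))) X₃).ncard = 880 ∧ Cfsg.sextets = MulAction.orbit ↥(MulAction.stabilizer Cfsg.M24 ({d, Finset.univ \ d} : Finset (Finset Cfsg.GolayPt))) X₁ ∪ MulAction.orbit ↥(MulAction.stabilizer Cfsg.M24 ({d, Finset.univ \ d} : Finset (Finset Cfsg.GolayPt))) X₂ ∪ MulAction.orbit ↥(MulAction.stabilizer Cfsg.M24 ({d,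 Finset.univ \ d} : Finset (Finset Cfsg.GolayPt))) X₃ := by
  obtain ⟨h, hh, rfl⟩ := dodecads_transitive hd
  have hQ : ({h • toFinset dod0, Finset.univ \ h • toFinset dod0} : Finset (Finset GolayPt)) =
      h • Q0 := by
    rw [Q0_eq, smul_pair]
  rw [hQ]
  have C := ddCertificate
  have hcount : ∀ i < 3, {X : Finset (Finset GolayPt) | X ∈ sextets ∧
      pat (h • Q0) X = ddPat i}.ncard = [396, 495, 880].getD i 0 := by
    intro i hi
    rw [C.pat_count hh hi, ddCount i hi]
  have hne : ∀ i < 3, ∃ X, X ∈ sextets ∧ pat (h • Q0) X = ddPat i := by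
    intro i hi
    have : {X : Finset (Finset GolayPt) | X ∈ sextets ∧ pat (h • Q0) X = ddPat i}.Nonempty := by
      apply Set.nonempty_of_ncard_ne_zero
      rw [hcount i hi]
      interval_cases i <;> simp
    exact this
  obtain ⟨X₁, hX₁, hp₁⟩ := hne 0 (by norm_num)
  obtain ⟨X₂, hX₂, hp₂⟩ := hne 1 (by norm_num)
  obtain ⟨X₃, hX₃, hp₃⟩ := hne 2 (by norm_num)
  refine ⟨X₁, hX₁, X₂, hX₂, X₃, hX₃, ?_, ?_, ?_, ?_⟩
  · rw [C.pat_orbit_eq hh hX₁ hp₁]; exact hcount 0 (by norm_num)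
  · rw [C.pat_orbit_eq hh hX₂ hp₂]; exact hcount 1 (by norm_num)
  · rw [C.pat_orbit_eq hh hX₃ hp₃]; exact hcount 2 (by norm_num)
  · rw [C.pat_orbit_eq hh hX₁ hp₁, C.pat_orbit_eq hh hX₂ hp₂, C.pat_orbit_eq hh hX₃ hp₃]
    ext X
    simp only [Set.mem_union]
    constructor
    · intro hX
      obtain ⟨i, hi, hp⟩ := C.pat_classify hh hX
      interval_cases i
      · exact Or.inl (Or.inl ⟨hX, hp⟩)
      · exact Or.inl (Or.inr ⟨hX, hp⟩)
      · exact Or.inr ⟨hX, hp⟩
    · rintro ((h | h) | h)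
      · exact h.1
      · exact h.1
      · exact h.1

end Cfsg.Agent.S5617
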