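import Cfsg.Statements.S5618
import Mathlib
import Cfsg.Agent.Lib.Helper27.QuartetsTrans
import Cfsg.Agent.Lib.Helper27.M12Faithful

set_option autoImplicit false
set_option maxRecDepth 1000000
open scoped Pointwise
open Cfsg

namespace Cfsg.Agent.S5618

open Cfsg.Agent.Helper27

def hexWords : List (List ℕ) :=
  [[], [2,0,2,1,2,1], [3,0,3,0], [3,1,2,2,0], [3,1,2,0], [3,0,2,2,1], [3,1,2,1], [2,1,2,2,1],
   [1,2,0,2,2,0], [3,1,2,2], [2,0,2,0,2,2], [1,3,1], [3,0,3,1], [1], [1,3], [2,1,2,2,0], [3,0,3],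
   [2,0,2,1,2], [2,1,2,2], [2,0,2,1,2,2], [0], [1,2,0,2,2], [1,2,0,2,2,1], [2,0,2,1,2,0], [1,3,0],
   [3,0,2,2], [1,2,0,2,1,2,2], [0,2,2,0,2], [3,1,2,0,3], [3,1,2], [1,2,0,3], [1,2,2], [2,2,1,2,0],
   [1,2], [2,1], [2,0,2,1,3], [2,0,2,1], [0,2,2,1], [3,0,2,2,1,2], [1,3,0,2,1], [3], [2,0,2,0,2],
   [1,2,0], [0,3,1,2,1,2,1], [0,2,2], [2,0,2,0,2,0], [1,2,0,2,1], [3,0], [1,3,0,2], [0,2,2,0,3],
   [2], [2,0,2,0,3], [2,0,2], [2,2,1], [3,1,2,0,2], [3,1,3], [2,1,2,0,2,0], [3,0,3,1,2], [0,2],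
   [3,0,3,1,3], [2,1,2], [1,2,0,2,1,3], [0,3,0,2,2,1], [2,1,3], [3,1,2,2,0,2], [1,3,1,3],
   [0,2,1,2,1], [2,1,2,2,1,3], [3,1,2,2,0,3], [1,3,1,2], [3,0,3,0,2], [0,3,1,2,1], [2,0,2,0,2,1],
   [2,0], [1,3,0,2,0], [2,2], [0,3,1,2,1,2], [2,0,2,0], [2,2,1,2], [3,1], [1,2,0,2], [0,2,2,0],
   [0,2,2,0,3,0], [1,2,1], [3,1,2,0,2,1], [3,0,2], [3,1,2,0,2,0], [1,2,1,3], [0,3], [1,2,0,2,1,2],
   [0,2,0,2,0,2,1], [0,3,1,2,0,2], [1,2,0,2,1,3,0], [0,3,1,2,0,3], [0,2,0], [0,2,1,2], [0,2,1,3],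
   [0,3,1,3], [0,3,0,2,2], [2,1,2,0,2,1], [2,1,2,0], [3,0,3,1,3,0], [0,3,0], [1,2,0,2,1,2,0],
   [1,3,1,2,1,3], [1,3,1,2,0], [0,2,0,2,0], [0,3,1,3,0,2], [0,2,1,2,2,1], [0,3,1,2], [0,2,0,2,0,2],
   [0,3,0,3], [0,3,0,2], [2,1,2,0,2], [0,3,0,2,2,0], [0,3,1,2,0,3,0], [0,3,1,3,0], [3,0,3,1,3,1],
   [0,3,1,2,0,2,2], [0,2,1], [3,0,3,1,2,1], [2,1,3,1], [0,3,1,2,0], [0,2,1,2,2], [0,2,1,2,2,1,3],
   [0,3,1], [0,3,1,3,0,2,1], [0,2,0,2], [1,3,1,2,1], [1,3,1,2,0,2], [0,3,1,3,0,2,0], [0,2,0,2,1]]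

theorem hex_cert :
    certCheck gensM12 (fun _ => [4542465]) (fun m => [m]) hexadList hexWords = true := by
  decide +kernel

theorem hexadList_nodup : hexadList.Nodup := by decide +kernel

theorem hex0_mem : 4542465 ∈ hexadList := by decide +kernel

/-- Base case: the stabiliser of the base dodecad is transitive on its hexads. -/
theorem base_trans {C : Finset GolayPt} (hC : C ∈ hexadsOn (toFinset dod0)) :
    ∃ g ∈ stabOf [dod0], g • toFinset 4542465 = C := by
  obtain ⟨m, hm, rfl⟩ := mem_hexadsOn_base.mp hC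
  exact reach_single (certCheck_spec gensM12_ok _ _ _ _ hex_cert m hm)

theorem ncard_hexads_base : (hexadsOn (toFinset dod0)).ncard = 132 := by
  have h : hexadsOn (toFinset dod0) = {s : Finset GolayPt | ∃ m ∈ hexadList, s = toFinset m} := by
    ext s
    exact mem_hexadsOn_base
  rw [h, ncard_of_list hexadList hexadList_nodup (fun m hm => hexadList_lt hm)]
  decide

theorem card_of_mem_hexadsOn {d C : Finset GolayPt} (hC : C ∈ hexadsOn d) : C.card = 6 := hC.1

theorem subset_of_mem_hexadsOn {d C : Finset GolayPt} (hC : C ∈ hexadsOn d) : C ⊆ d := by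
  obtain ⟨_, o, _, e⟩ := hC
  rw [← e]; exact Finset.inter_subset_right

/-- For a dodecad d of the length-24 code and a hexad C on it (a 6-point intersection of d with an octad): the joint stabiliser of d and C in the code's group is isomorphic to the symmetric group of degree 6, and it acts faithfully both on the six points of C and on the six points of d outside C. -/
theorem result (d : Finset Cfsg.GolayPt) (hd : d ∈ Cfsg.dodecads) (C : Finset Cfsg.GolayPt) (hC : C ∈ Cfsg.hexadsOn d) : Nonempty (↥(MulAction.stabilizer Cfsg.M24 d ⊓ MulAction.stabilizer Cfsg.M24 C) ≃* Equiv.Perm (Fin 6)) ∧ (∀ g ∈ MulAction.stabilizer Cfsg.M24 d ⊓ MulAction.stabilizer Cfsg.M24 C, (∀ p ∈ C, ((g : ↥Cfsg.M24) : Equiv.Perm Cfsg.GolayPt) p = p) → g = 1) ∧ ∀ g ∈ MulAction.stabilizer Cfsg.M24 d ⊓ MulAction.stabilizer Cfsg.M24 C, (∀ p ∈ d \ C, ((g : ↥Cfsg.M24) : Equiv.Perm Cfsg.GolayPt) p = p) → g = 1 := by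
  have hCcard := card_of_mem_hexadsOn hC
  have hCsub := subset_of_mem_hexadsOn hC
  have hdcard : d.card = 12 := by
    obtain ⟨m, hm, rfl⟩ := mem_dodecads_iff'.mp hd
    rw [card_toFinset]
    exact dodecadList_pop hm
  refine ⟨?_, ?_, ?_⟩
  · -- the order of the group, by orbit-stabiliser
    have hcardG : Nat.card ↥(MulAction.stabilizer Cfsg.M24 d ⊓ MulAction.stabilizer Cfsg.M24 C)
        = 720 := by
      have hM := Cfsg.Agent.Helper7.card_stab_dodecad hd
      have hos := Nat.card_congr (MulAction.orbitProdStabilizerEquivGroup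
        ↥(MulAction.stabilizer Cfsg.M24 d) C)
      rw [Nat.card_prod, hM] at hos
      have horb : MulAction.orbit ↥(MulAction.stabilizer Cfsg.M24 d) C = hexadsOn d := by
        obtain ⟨k, hk, rfl⟩ := dodecads_transitive hd
        ext C'
        constructor
        · rintro ⟨⟨⟨g, hg⟩, h1⟩, rfl⟩
          change g • (k • toFinset dod0) = k • toFinset dod0 at h1
          change g • C ∈ hexadsOn (k • toFinset dod0)
          have := (smul_mem_hexadsOn hg (k • toFinset dod0) C).mpr hC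
          rwa [h1] at this
        · intro hC'
          have h1 : k⁻¹ • C ∈ hexadsOn (toFinset dod0) := by
            have := (smul_mem_hexadsOn (M24.inv_mem hk) (k • toFinset dod0) C).mpr hC
            rwa [inv_smul_smul] at this
          have h2 : k⁻¹ • C' ∈ hexadsOn (toFinset dod0) := by
            have := (smul_mem_hexadsOn (M24.inv_mem hk) (k • toFinset dod0) C').mpr hC'
            rwa [inv_smul_smul] at this
          obtain ⟨g1, hg1, e1⟩ := base_trans h1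
          obtain ⟨g2, hg2, e2⟩ := base_trans h2
          have hg0 : g2 * g1⁻¹ ∈ stabOf [dod0] :=
            (stabOf [dod0]).mul_mem hg2 ((stabOf [dod0]).inv_mem hg1)
          refine ⟨⟨⟨k * (g2 * g1⁻¹) * k⁻¹, conj_mem_M24 hk hg0⟩, ?_⟩, ?_⟩
          · exact conj_fix hg0 (by simp)
          · change (k * (g2 * g1⁻¹) * k⁻¹) • C = C'
            rw [mul_smul, mul_smul, mul_smul, ← e1, inv_smul_smul, e2, smul_inv_smul]
      have hn : (hexadsOn d).ncard = 132 := by
        obtain ⟨k, hk, rfl⟩ := dodecads_transitive hd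
        rw [ncard_transport k (hexadsOn (toFinset dod0)) (hexadsOn (k • toFinset dod0))
          (fun s => (smul_mem_hexadsOn hk _ s).symm), ncard_hexads_base]
      rw [horb, Nat.card_coe_set_eq, hn] at hos
      have hequiv : ↥(MulAction.stabilizer Cfsg.M24 d ⊓ MulAction.stabilizer Cfsg.M24 C) ≃
          ↥(MulAction.stabilizer ↥(MulAction.stabilizer Cfsg.M24 d) C) :=
        { toFun := fun g => ⟨⟨g.1, g.2.1⟩, g.2.2⟩
          invFun := fun g => ⟨g.1.1, g.1.2, g.2⟩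
          left_inv := fun g => rfl
          right_inv := fun g => rfl }
      rw [Nat.card_congr hequiv]
      omega
    exact mulEquiv_perm_of_invariant hd
      (MulAction.stabilizer Cfsg.M24 d ⊓ MulAction.stabilizer Cfsg.M24 C)
      (fun g hg => hg.1) C hCsub hCcard (by norm_num)
      (fun g hg => hg.2) (by rw [hcardG]; decide)
  · rintro ⟨g, hg⟩ ⟨h1, _⟩ hfix
    have := eq_one_of_fix_five hd hg h1 C (by rw [hCcard]; norm_num) hCsub hfix
    exact Subtype.ext this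
  · rintro ⟨g, hg⟩ ⟨h1, _⟩ hfix
    have hc : (d \ C).card = 6 := by
      rw [Finset.card_sdiff_of_subset hCsub, hdcard, hCcard]
    have := eq_one_of_fix_five hd hg h1 (d \ C) (by rw [hc]; norm_num) Finset.sdiff_subset hfix
    exact Subtype.ext this

end Cfsg.Agent.S5618
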