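import Cfsg.Statements.S5619
import Mathlib
import Cfsg.Agent.Lib.Helper95.SubAct
import Cfsg.Agent.Lib.Helper95.SharpDeg
import Cfsg.Agent.Lib.Helper95.Sharp2Deg9
import Cfsg.Agent.S0388

set_option autoImplicit false
open scoped Pointwise
open Cfsg

namespace Cfsg.Agent.S5619

open MulAction Cfsg.Agent.Helper95 Cfsg.Agent.Helper95.SharpDeg Cfsg.Agent.Helper95.Sharp2

/-- `M₁₁` as the stabiliser of a dodecad and a point. -/
abbrev G1 (d : Finset Cfsg.GolayPt) (p : Cfsg.GolayPt) : Subgroup Cfsg.M24 :=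
  stabilizer Cfsg.M24 d ⊓ stabilizer Cfsg.M24 p

/-- `M₉` -/
abbrev X9 (d : Finset Cfsg.GolayPt) (p q r : Cfsg.GolayPt) : Subgroup Cfsg.M24 :=
  stabilizer Cfsg.M24 d ⊓ stabilizer Cfsg.M24 p ⊓ stabilizer Cfsg.M24 q ⊓ stabilizer Cfsg.M24 r

/-- the eleven points -/
abbrev Ω11 (d : Finset Cfsg.GolayPt) (p : Cfsg.GolayPt) :=
  subAct (G1 d p) ((d.erase p : Finset Cfsg.GolayPt) : Set Cfsg.GolayPt)
    (Cfsg.Agent.S0388.inv_erase d p)

/-- the nine points, as a set -/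
def Δ9 (d : Finset Cfsg.GolayPt) (p q r : Cfsg.GolayPt) : Set Cfsg.GolayPt :=
  ((((d.erase p).erase q).erase r : Finset Cfsg.GolayPt) : Set Cfsg.GolayPt)

theorem mem_Δ9 {d : Finset Cfsg.GolayPt} {p q r x : Cfsg.GolayPt} :
    x ∈ Δ9 d p q r ↔ x ∈ d ∧ x ≠ p ∧ x ≠ q ∧ x ≠ r := by
  unfold Δ9
  rw [Finset.mem_coe, Finset.mem_erase, Finset.mem_erase, Finset.mem_erase]
  tauto

theorem inv9 (d : Finset Cfsg.GolayPt) (p q r : Cfsg.GolayPt) :
    ∀ g ∈ X9 d p q r, ∀ x ∈ Δ9 d p q r, g • x ∈ Δ9 d p q r := by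
  intro g hg x hx
  have hgd : g • d = d := hg.1.1.1
  have hgp : g • p = p := hg.1.1.2
  have hgq : g • q = q := hg.1.2
  have hgr : g • r = r := hg.2
  rw [mem_Δ9] at hx ⊢
  refine ⟨?_, fun h => hx.2.1 ?_, fun h => hx.2.2.1 ?_, fun h => hx.2.2.2 ?_⟩
  · have := Finset.smul_mem_smul_finset (a := g) hx.1
    rw [hgd] at this
    exact this
  · rw [← hgp] at h
    exact smul_left_cancel g h
  · rw [← hgq] at h
    exact smul_left_cancel g h
  · rw [← hgr] at h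
    exact smul_left_cancel g h

/-- the nine points -/
abbrev Ω9 (d : Finset Cfsg.GolayPt) (p q r : Cfsg.GolayPt) :=
  subAct (X9 d p q r) (Δ9 d p q r) (inv9 d p q r)

theorem card_Ω11 (d : Finset Cfsg.GolayPt) (hd : d ∈ Cfsg.dodecads) (p : Cfsg.GolayPt)
    (hp : p ∈ d) : Nat.card (Ω11 d p) = 11 := by
  have hdcard : d.card = 12 := hd.2
  have : Nat.card (Ω11 d p) =
      Nat.card ((d.erase p : Finset Cfsg.GolayPt) : Set Cfsg.GolayPt) := rfl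
  rw [this, Nat.card_coe_set_eq, Set.ncard_coe_finset, Finset.card_erase_of_mem hp, hdcard]

theorem card_Ω9 (d : Finset Cfsg.GolayPt) (hd : d ∈ Cfsg.dodecads) (p q r : Cfsg.GolayPt)
    (hp : p ∈ d) (hq : q ∈ d) (hr : r ∈ d) (hpq : p ≠ q) (hpr : p ≠ r) (hqr : q ≠ r) :
    Nat.card (Ω9 d p q r) = 9 := by
  have hdcard : d.card = 12 := hd.2
  have : Nat.card (Ω9 d p q r) = Nat.card (Δ9 d p q r) := rfl
  rw [this, Nat.card_coe_set_eq]
  unfold Δ9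
  rw [Set.ncard_coe_finset, Finset.card_erase_of_mem, Finset.card_erase_of_mem,
    Finset.card_erase_of_mem hp, hdcard]
  · rw [Finset.mem_erase]
    exact ⟨hpq.symm, hq⟩
  · rw [Finset.mem_erase, Finset.mem_erase]
    exact ⟨hqr.symm, hpr.symm, hr⟩

theorem sharp4_G1 (d : Finset Cfsg.GolayPt) (hd : d ∈ Cfsg.dodecads) (p : Cfsg.GolayPt)
    (hp : p ∈ d) : Sharp4 (G1 d p) (Ω11 d p) := by
  classical
  have : Fintype (Ω11 d p) := Fintype.ofFinite _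
  have hn : Fintype.card (Ω11 d p) = 11 := by
    rw [← Nat.card_eq_fintype_card]
    exact card_Ω11 d hd p hp
  have hne : Nonempty (Fin 4 ↪ Ω11 d p) :=
    Function.Embedding.nonempty_of_card_le (by rw [Fintype.card_fin, hn]; norm_num)
  obtain ⟨h4, hsharp, -⟩ := sharp_of_existsUnique (G1 d p)
    ((d.erase p : Finset Cfsg.GolayPt) : Set Cfsg.GolayPt) (Cfsg.Agent.S0388.inv_erase d p) 4 hne
    (fun x y hx hy => Cfsg.Agent.S0388.sharp4 d hd p hp x y hx hy)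
  exact sharp4_of h4 hsharp

/-- a point of the eleven -/
def mk11 {d : Finset Cfsg.GolayPt} {p : Cfsg.GolayPt} (x : Cfsg.GolayPt) (hx : x ∈ d)
    (hxp : x ≠ p) : Ω11 d p :=
  ⟨x, by
    show x ∈ ((d.erase p : Finset Cfsg.GolayPt) : Set Cfsg.GolayPt)
    rw [Finset.mem_coe, Finset.mem_erase]
    exact ⟨hxp, hx⟩⟩

theorem mk11_ne {d : Finset Cfsg.GolayPt} {p : Cfsg.GolayPt} {x y : Cfsg.GolayPt} (hx : x ∈ d)
    (hxp : x ≠ p) (hy : y ∈ d) (hyp : y ≠ p) (hxy : x ≠ y) :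
    (mk11 x hx hxp : Ω11 d p) ≠ mk11 y hy hyp :=
  fun h => hxy (congrArg Subtype.val h)

/-- lifting a point of the nine to the eleven -/
def lift9 {d : Finset Cfsg.GolayPt} {p q r : Cfsg.GolayPt} (a : Ω9 d p q r) : Ω11 d p :=
  mk11 a.1 (mem_Δ9.mp a.2).1 (mem_Δ9.mp a.2).2.1

theorem sharp2_X9 (d : Finset Cfsg.GolayPt) (hd : d ∈ Cfsg.dodecads) (p q r : Cfsg.GolayPt)
    (hp : p ∈ d) (hq : q ∈ d) (hr : r ∈ d) (hpq : p ≠ q) (hpr : p ≠ r) (hqr : q ≠ r) :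
    Sharp2 (X9 d p q r) (Ω9 d p q r) := by
  have S4 := sharp4_G1 d hd p hp
  have hdist : ∀ a b : Ω9 d p q r, a ≠ b →
      Dist4 (mk11 q hq hpq.symm : Ω11 d p) (mk11 r hr hpr.symm) (lift9 a) (lift9 b) := by
    intro a b hab
    have ha := mem_Δ9.mp a.2
    have hb := mem_Δ9.mp b.2
    refine ⟨mk11_ne _ _ _ _ hqr, mk11_ne _ _ _ _ ha.2.2.1.symm, mk11_ne _ _ _ _ hb.2.2.1.symm,
      mk11_ne _ _ _ _ ha.2.2.2.symm, mk11_ne _ _ _ _ hb.2.2.2.symm,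
      mk11_ne _ _ _ _ (fun h => hab (Subtype.ext h))⟩
  constructor
  · intro a b c e hab hce
    obtain ⟨g, g1, g2, g3, g4⟩ := S4.trans _ _ _ _ _ _ _ _ (hdist a b hab) (hdist c e hce)
    have g1' : (g : Cfsg.M24) • q = q := congrArg Subtype.val g1
    have g2' : (g : Cfsg.M24) • r = r := congrArg Subtype.val g2
    have g3' : (g : Cfsg.M24) • a.1 = c.1 := congrArg Subtype.val g3
    have g4' : (g : Cfsg.M24) • b.1 = e.1 := congrArg Subtype.val g4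
    refine ⟨⟨g.1, ⟨⟨g.2, g1'⟩, g2'⟩⟩, Subtype.ext g3', Subtype.ext g4'⟩
  · intro g a b hab ha hb
    have hgG1 : (g : Cfsg.M24) ∈ G1 d p := g.2.1.1
    have hgq : (g : Cfsg.M24) • q = q := g.2.1.2
    have hgr : (g : Cfsg.M24) • r = r := g.2.2
    have ha' : (g : Cfsg.M24) • a.1 = a.1 := congrArg Subtype.val ha
    have hb' : (g : Cfsg.M24) • b.1 = b.1 := congrArg Subtype.val hb
    have := S4.sharp ⟨g.1, hgG1⟩ _ _ _ _ (hdist a b hab) (Subtype.ext hgq) (Subtype.ext hgr)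
      (Subtype.ext ha') (Subtype.ext hb')
    have e : ((⟨g.1, hgG1⟩ : G1 d p) : Cfsg.M24) = ((1 : G1 d p) : Cfsg.M24) :=
      congrArg Subtype.val this
    apply Subtype.ext
    exact e

theorem not_cyclic_stab (d : Finset Cfsg.GolayPt) (hd : d ∈ Cfsg.dodecads) (p q r : Cfsg.GolayPt)
    (hp : p ∈ d) (hq : q ∈ d) (hr : r ∈ d) (hpq : p ≠ q) (hpr : p ≠ r) (hqr : q ≠ r)
    (s : Ω9 d p q r) : ¬ IsCyclic (stabilizer (X9 d p q r) s) := by
  classical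
  have S4 := sharp4_G1 d hd p hp
  have hs := mem_Δ9.mp s.2
  have hdcard : d.card = 12 := hd.2
  -- four more points
  let D : Finset Cfsg.GolayPt := (((d.erase p).erase q).erase r).erase s.1
  have hD : D.card = 8 := by
    show ((((d.erase p).erase q).erase r).erase s.1).card = 8
    rw [Finset.card_erase_of_mem, Finset.card_erase_of_mem, Finset.card_erase_of_mem,
      Finset.card_erase_of_mem hp, hdcard]
    · rw [Finset.mem_erase]
      exact ⟨hpq.symm, hq⟩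
    · rw [Finset.mem_erase, Finset.mem_erase]
      exact ⟨hqr.symm, hpr.symm, hr⟩
    · rw [Finset.mem_erase, Finset.mem_erase, Finset.mem_erase]
      exact ⟨hs.2.2.2, hs.2.2.1, hs.2.1, hs.1⟩
  have hDmem : ∀ x ∈ D, x ∈ d ∧ x ≠ p ∧ x ≠ q ∧ x ≠ r ∧ x ≠ s.1 := by
    intro x hx
    have hx' : x ∈ (((d.erase p).erase q).erase r).erase s.1 := hx
    rw [Finset.mem_erase, Finset.mem_erase, Finset.mem_erase, Finset.mem_erase] at hx'
    tauto
  obtain ⟨f⟩ : Nonempty (Fin 4 ↪ D) :=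
    Function.Embedding.nonempty_of_card_le (by rw [Fintype.card_fin, Fintype.card_coe, hD]; norm_num)
  have hf : ∀ i j : Fin 4, i ≠ j → (f i).1 ≠ (f j).1 := by
    intro i j hij h
    exact hij (f.injective (Subtype.ext h))
  have m0 := hDmem _ (f 0).2
  have m1 := hDmem _ (f 1).2
  have m2 := hDmem _ (f 2).2
  have m3 := hDmem _ (f 3).2
  have key := not_isCyclic_T3 S4
    (p1 := mk11 q hq hpq.symm) (p2 := mk11 r hr hpr.symm) (p3 := mk11 s.1 hs.1 hs.2.1)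
    (p4 := mk11 (f 0).1 m0.1 m0.2.1) (q1 := mk11 (f 1).1 m1.1 m1.2.1)
    (q2 := mk11 (f 2).1 m2.1 m2.2.1) (q3 := mk11 (f 3).1 m3.1 m3.2.1)
    ⟨mk11_ne _ _ _ _ hqr, mk11_ne _ _ _ _ hs.2.2.1.symm, mk11_ne _ _ _ _ m0.2.2.1.symm,
      mk11_ne _ _ _ _ hs.2.2.2.symm, mk11_ne _ _ _ _ m0.2.2.2.1.symm,
      mk11_ne _ _ _ _ m0.2.2.2.2.symm⟩
    ⟨mk11_ne _ _ _ _ (hf 0 1 (by decide)), mk11_ne _ _ _ _ (hf 0 2 (by decide)),
      mk11_ne _ _ _ _ (hf 0 3 (by decide)), mk11_ne _ _ _ _ (hf 1 2 (by decide)),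
      mk11_ne _ _ _ _ (hf 1 3 (by decide)), mk11_ne _ _ _ _ (hf 2 3 (by decide))⟩
    ⟨mk11_ne _ _ _ _ m1.2.2.1, mk11_ne _ _ _ _ m1.2.2.2.1, mk11_ne _ _ _ _ m1.2.2.2.2⟩
    ⟨mk11_ne _ _ _ _ m2.2.2.1, mk11_ne _ _ _ _ m2.2.2.2.1, mk11_ne _ _ _ _ m2.2.2.2.2⟩
    ⟨mk11_ne _ _ _ _ m3.2.2.1, mk11_ne _ _ _ _ m3.2.2.2.1, mk11_ne _ _ _ _ m3.2.2.2.2⟩
  intro hcyc
  apply key
  -- a surjective homomorphism onto the three point stabiliser
  have hmem : ∀ g : stabilizer (X9 d p q r) s,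
      (⟨((g : X9 d p q r) : Cfsg.M24), (g : X9 d p q r).2.1.1⟩ : G1 d p) ∈
        T3 (G1 d p) (mk11 q hq hpq.symm : Ω11 d p) (mk11 r hr hpr.symm)
          (mk11 s.1 hs.1 hs.2.1) := by
    intro g
    rw [mem_T3]
    refine ⟨Subtype.ext ?_, Subtype.ext ?_, Subtype.ext ?_⟩
    · exact (g : X9 d p q r).2.1.2
    · exact (g : X9 d p q r).2.2
    · have h3 : (g : X9 d p q r) • s = s := g.2
      have e : ((g : X9 d p q r) : Cfsg.M24) • s.1 = s.1 := congrArg Subtype.val h3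
      exact e
  let φ : stabilizer (X9 d p q r) s →* T3 (G1 d p) (mk11 q hq hpq.symm : Ω11 d p)
      (mk11 r hr hpr.symm) (mk11 s.1 hs.1 hs.2.1) :=
    { toFun := fun g => ⟨⟨((g : X9 d p q r) : Cfsg.M24), (g : X9 d p q r).2.1.1⟩, hmem g⟩
      map_one' := rfl
      map_mul' := fun _ _ => rfl }
  apply isCyclic_of_surjective φ
  intro y
  have hy := mem_T3.mp y.2
  have y1 : ((y : G1 d p) : Cfsg.M24) • q = q := congrArg Subtype.val hy.1
  have y2 : ((y : G1 d p) : Cfsg.M24) • r = r := congrArg Subtype.val hy.2.1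
  have y3 : ((y : G1 d p) : Cfsg.M24) • s.1 = s.1 := congrArg Subtype.val hy.2.2
  refine ⟨⟨⟨((y : G1 d p) : Cfsg.M24), ⟨⟨(y : G1 d p).2, y1⟩, y2⟩⟩, Subtype.ext y3⟩, ?_⟩
  apply Subtype.ext
  apply Subtype.ext
  rfl

/-- In the group of the length-24 code, the subgroup fixing a dodecad setwise and three of its points individually (a group of order 72) has a normal Sylow 3-subgroup that is elementary abelian of order 9, and its Sylow 2-subgroups are quaternion of order 8. -/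
theorem result (d : Finset Cfsg.GolayPt) (hd : d ∈ Cfsg.dodecads) (p q r : Cfsg.GolayPt) (hp : p ∈ d) (hq : q ∈ d) (hr : r ∈ d) (hpq : p ≠ q) (hpr : p ≠ r) (hqr : q ≠ r) : (∀ Q : Sylow 3 ↥(MulAction.stabilizer Cfsg.M24 d ⊓ MulAction.stabilizer Cfsg.M24 p ⊓ MulAction.stabilizer Cfsg.M24 q ⊓ MulAction.stabilizer Cfsg.M24 r), (Q : Subgroup ↥(MulAction.stabilizer Cfsg.M24 d ⊓ MulAction.stabilizer Cfsg.M24 p ⊓ MulAction.stabilizer Cfsg.M24 q ⊓ MulAction.stabilizer Cfsg.M24 r)).Normal ∧ Nat.card ↥Q = 9 ∧ ∀ x ∈ (Q : Subgroup ↥(MulAction.stabilizer Cfsg.M24 d ⊓ MulAction.stabilizer Cfsg.M24 p ⊓ MulAction.stabilizer Cfsg.M24 q ⊓ MulAction.stabilizer Cfsg.M24 r)), x ^ 3 = 1) ∧ ∀ P : Sylow 2 ↥(MulAction.stabilizer Cfsg.M24 d ⊓ MulAction.stabilizer Cfsg.M24 p ⊓ MulAction.stabilizer Cfsg.M24 q ⊓ MulAction.stabilizer Cfsg.M24 r), Nonempty (↥P ≃* QuaternionGroup 2) := by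
  have h2 := sharp2_X9 d hd p q r hp hq hr hpq hpr hqr
  have hc := card_Ω9 d hd p q r hp hq hr hpq hpr hqr
  haveI : Finite (Ω9 d p q r) := Nat.finite_of_card_ne_zero (by rw [hc]; norm_num)
  exact sylow_of_sharp2_nine h2 hc (not_cyclic_stab d hd p q r hp hq hr hpq hpr hqr)

end Cfsg.Agent.S5619
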