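import Cfsg.Statements.S5620
import Cfsg.Agent.Lib.Helper91.M11Sylow
import Cfsg.Agent.Lib.Helper7.M11

set_option autoImplicit false
open Cfsg

namespace Cfsg.Agent.S5620

open Cfsg.Agent.Helper91 Cfsg.Agent.Helper7 Pointwise

theorem perm_inv_apply_self (f : Equiv.Perm GolayPt) (x : GolayPt) : f⁻¹ (f x) = x := by simp

theorem perm_apply_inv_self (f : Equiv.Perm GolayPt) (x : GolayPt) : f (f⁻¹ x) = x := by simp

/-- The stabiliser of the extra point in `M12`. -/
abbrev K11 : Subgroup (Equiv.Perm GolayPt) :=
  Spor.M12 ⊓ MulAction.stabilizer (Equiv.Perm GolayPt) (none : GolayPt)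

theorem mem_K11 (x : Equiv.Perm GolayPt) :
    x ∈ K11 ↔ x ∈ M24 ∧ x • Spor.squareDodecad = Spor.squareDodecad ∧ x none = none := by
  rw [K11, Spor.M12, Subgroup.mem_inf, Subgroup.mem_inf, MulAction.mem_stabilizer_iff,
    MulAction.mem_stabilizer_iff, and_assoc]
  rfl

theorem mem_M11' (x : Equiv.Perm GolayPt) :
    x ∈ Spor.M11 ↔ x ∈ M24 ∧ x • Spor.squareDodecad = Spor.squareDodecad ∧ x (pt 0) = pt 0 := by
  rw [mem_M11_iff, squareDodecad_eq]

theorem smul_compl_iff (x : Equiv.Perm GolayPt) (d : Finset GolayPt) :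
    x • (Finset.univ \ d) = Finset.univ \ d ↔ x • d = d := by
  constructor
  · intro h
    rw [Finset.smul_finset_sdiff, Finset.smul_finset_univ] at h
    have := congrArg (fun s => Finset.univ \ s) h
    simpa using this
  · intro h
    rw [Finset.smul_finset_sdiff, Finset.smul_finset_univ, h]

theorem projInv_smul_sq :
    projInv • Spor.squareDodecad = Finset.univ \ Spor.squareDodecad := by
  rw [squareDodecad_eq, smul_ofMask tab_projInv, ← pm_eq _ (by decide)]
  have e : pm lProjInv sqMask = 16436384 := by decide +kernel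
  rw [e]
  decide +kernel

theorem projInv_zero : projInv (pt 0) = none := by decide

/-- Conjugation by an element `g` of `M24` that maps the dodecad onto its complement and the
residue `0` to the extra point carries `M11` onto `K11`. -/
theorem conj_M11 {g : Equiv.Perm GolayPt} (hg : g ∈ M24)
    (hD : g • Spor.squareDodecad = Finset.univ \ Spor.squareDodecad) (h0 : g (pt 0) = none) :
    MulAut.conj g • Spor.M11 = K11 := by
  ext x
  rw [Subgroup.mem_pointwise_smul_iff_inv_smul_mem, MulAut.smul_def, MulAut.conj_inv_apply,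
    mem_M11', mem_K11]
  constructor
  · rintro ⟨h1, h2, h3⟩
    have hx : x = g * (g⁻¹ * x * g) * g⁻¹ := by group
    refine ⟨?_, ?_, ?_⟩
    · rw [hx]
      exact M24.mul_mem (M24.mul_mem hg h1) (M24.inv_mem hg)
    · rw [← smul_compl_iff, ← hD]
      conv_lhs => rw [hx, mul_smul, mul_smul, inv_smul_smul, h2]
    · have := h3
      simp only [Equiv.Perm.mul_apply] at this
      have e := congrArg g this
      rw [perm_apply_inv_self, h0] at e
      exact e
  · rintro ⟨h1, h2, h3⟩
    refine ⟨M24.mul_mem (M24.mul_mem (M24.inv_mem hg) h1) hg, ?_, ?_⟩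
    · have h2' := (smul_compl_iff x _).mpr h2
      rw [← hD] at h2'
      rw [mul_smul, mul_smul, h2', inv_smul_smul]
    · simp only [Equiv.Perm.mul_apply]
      rw [h0, h3, ← h0, perm_inv_apply_self]

/-- `M11` fixes no point outside the dodecad of squares. -/
theorem M11_moves {w : GolayPt} (hw : w ∉ Spor.squareDodecad) : ∃ x ∈ Spor.M11, x w ≠ w := by
  have hex : ∃ w' : GolayPt, w' ∉ Spor.squareDodecad ∧ w' ≠ w := by
    rw [squareDodecad_eq] at hw ⊢
    revert w
    decide +kernel
  obtain ⟨w', hw', hne⟩ := hex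
  have h0 : pt 0 ∈ Spor.squareDodecad := by
    rw [squareDodecad_eq, mem_ofMask]
    decide
  obtain ⟨x, hx, hmap⟩ := m11_three_trans squareDodecad_mem h0 [w] [w'] (by simp) (by simp)
    (by simpa using hw) (by simpa using hw') rfl (by simp)
  rw [← M11_eq] at hx
  refine ⟨x, hx, ?_⟩
  simp only [List.map_cons, List.map_nil, List.cons.injEq, and_true] at hmap
  rw [hmap]
  exact hne

/-- Inside the stabiliser of the dodecad of squares (a Mathieu group of degree 12), the stabiliser of the residue 0 (a point of the dodecad) and the stabiliser of the extra point (a point outside the dodecad) are isomorphic but not conjugate; conjugation by a suitable element of the code's group that maps the dodecad of squares onto its complement carries the first onto the second. -/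
theorem result : Nonempty (↥(Cfsg.Spor.M12 ⊓ MulAction.stabilizer (Equiv.Perm Cfsg.GolayPt) (none : Cfsg.GolayPt)) ≃* ↥Cfsg.Spor.M11) ∧ (¬ ∃ k ∈ Cfsg.Spor.M12, MulAut.conj k • Cfsg.Spor.M11 = Cfsg.Spor.M12 ⊓ MulAction.stabilizer (Equiv.Perm Cfsg.GolayPt) (none : Cfsg.GolayPt)) ∧ ∃ g ∈ Cfsg.M24, g • Cfsg.Spor.squareDodecad = Finset.univ \ Cfsg.Spor.squareDodecad ∧ MulAut.conj g • Cfsg.Spor.M11 = Cfsg.Spor.M12 ⊓ MulAction.stabilizer (Equiv.Perm Cfsg.GolayPt) (none : Cfsg.GolayPt) := by
  have hconj := conj_M11 projInv_mem projInv_smul_sq projInv_zero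
  refine ⟨?_, ?_, projInv, projInv_mem, projInv_smul_sq, hconj⟩
  · exact ⟨((Subgroup.equivSMul (MulAut.conj projInv) Spor.M11).trans
      (MulEquiv.subgroupCongr hconj)).symm⟩
  · rintro ⟨k, hk, hkc⟩
    have hkS : k ∈ setStab Spor.squareDodecad := hk
    have h0 : pt 0 ∈ Spor.squareDodecad := by
      rw [squareDodecad_eq, mem_ofMask]
      decide
    have hk0 : k (pt 0) ∈ Spor.squareDodecad := (setStab_mem_iff hkS _).mpr h0
    -- every element of `K11` fixes `k 0`
    have hfix : ∀ y ∈ K11, y (k (pt 0)) = k (pt 0) := by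
      intro y hy0
      have hy : y ∈ MulAut.conj k • Spor.M11 := by rw [hkc]; exact hy0
      rw [Subgroup.mem_pointwise_smul_iff_inv_smul_mem, MulAut.smul_def,
        MulAut.conj_inv_apply, mem_M11'] at hy
      have := hy.2.2
      simp only [Equiv.Perm.mul_apply] at this
      have e := congrArg k this
      rwa [perm_apply_inv_self] at e
    -- but `K11 = g M11 g⁻¹` moves it
    have hw : projInv⁻¹ (k (pt 0)) ∉ Spor.squareDodecad := by
      intro hin
      have : projInv (projInv⁻¹ (k (pt 0))) ∈ projInv • Spor.squareDodecad := by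
        rw [smul_finset_eq]
        exact Finset.mem_image_of_mem _ hin
      rw [perm_apply_inv_self, projInv_smul_sq, Finset.mem_sdiff] at this
      exact this.2 hk0
    obtain ⟨x, hx, hxw⟩ := M11_moves hw
    have hy : projInv * x * projInv⁻¹ ∈ K11 := by
      rw [← hconj, Subgroup.mem_pointwise_smul_iff_inv_smul_mem, MulAut.smul_def,
        MulAut.conj_inv_apply]
      have : projInv⁻¹ * (projInv * x * projInv⁻¹) * projInv = x := by group
      rw [this]
      exact hx
    have := hfix _ hy
    simp only [Equiv.Perm.mul_apply] at this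
    apply hxw
    apply projInv.injective
    rw [this, perm_apply_inv_self]

end Cfsg.Agent.S5620
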