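import Cfsg.Statements.S5622
import Cfsg.Agent.Lib.Helper93.Golay2

set_option autoImplicit false
open Cfsg

namespace Cfsg.Agent.S5622

open Cfsg.Agent.Helper93 in
/-- Let C be a self-dual binary code of length 24 with minimum weight at least 8 (a 12-dimensional subspace of the 24-dimensional space over the field with two elements, any two of whose words have dot product zero, with no non-zero word of weight below 8 — an abstract extended binary Golay code). Then the minimum weight of C is exactly 8, and the supports of the words of weight 8 (the octads) form a Steiner system S(5, 8, 24) on the 24 coordinates: every 5 coordinates lie in the support of exactly one word of weight 8. -/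
theorem result (C : Submodule (ZMod 2) (Fin 24 → ZMod 2)) (hdim : Module.finrank (ZMod 2) C = 12) (horth : ∀ v ∈ C, ∀ w ∈ C, ∑ i, v i * w i = 0) (hmin : ∀ w ∈ C, w ≠ 0 → 8 ≤ hammingNorm w) : (∃ w ∈ C, hammingNorm w = 8) ∧ Cfsg.IsSteinerSystem 5 8 (Cfsg.wordsOfWeight (C : Set (Fin 24 → ZMod 2)) 8) := by
  have hsupp : ∀ u : Fin 24 → ZMod 2, Cfsg.support₂ u = supp u := fun u => by
    unfold Cfsg.support₂ supp; congr
  obtain ⟨c0, hc0, h80, -⟩ := octad_exists hdim hmin (Finset.univ.filter fun i : Fin 24 => i.val < 5)
    (by decide)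
  refine ⟨⟨c0, hc0, h80⟩, ?_, ?_⟩
  · intro b hb
    exact hb.2
  · intro s hs
    obtain ⟨c, hc, h8, hsub⟩ := octad_exists hdim hmin s hs
    refine ⟨supp c, ⟨⟨⟨c, hc, hsupp c⟩, by rw [← hammingNorm_eq_card_supp]; exact h8⟩, hsub⟩, ?_⟩
    rintro b' ⟨⟨⟨c', hc', rfl⟩, hb'card⟩, hsub'⟩
    rw [hsupp] at hb'card hsub' ⊢
    have h8' : hammingNorm c' = 8 := by rw [hammingNorm_eq_card_supp]; exact hb'card
    have h5 : 5 ≤ (supp c' ∩ supp c).card := by
      rw [← hs]
      exact Finset.card_le_card (Finset.subset_inter hsub' hsub)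
    rw [octad_unique hmin hc' hc h8' h8 h5]

end Cfsg.Agent.S5622
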