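import Cfsg.Statements.S5625
import Mathlib

set_option autoImplicit false
open Cfsg

namespace Cfsg.Agent.S5625

open Finset

section aux

variable {α : Type*} [Fintype α] [DecidableEq α]

/-- number of blocks containing `X` -/
def N (BB : Finset (Finset α)) (X : Finset α) : ℕ := (BB.filter (fun b => X ⊆ b)).card

lemma step (BB : Finset (Finset α)) (h8 : ∀ b ∈ BB, b.card = 8) (X : Finset α) (L : ℕ)
    (hL : ∀ p, p ∉ X → N BB (insert p X) = L) :
    N BB X * (8 - X.card) = (Fintype.card α - X.card) * L := by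
  have h := Finset.sum_card_bipartiteAbove_eq_sum_card_bipartiteBelow
    (s := BB.filter (fun b => X ⊆ b)) (t := (univ : Finset α) \ X) (fun b p => p ∈ b)
  have h1 : ∀ b ∈ BB.filter (fun b => X ⊆ b),
      (((univ : Finset α) \ X).bipartiteAbove (fun b p => p ∈ b) b).card = 8 - X.card := by
    intro b hb
    rw [Finset.mem_filter] at hb
    have : ((univ : Finset α) \ X).bipartiteAbove (fun b p => p ∈ b) b = b \ X := by
      ext p
      simp only [mem_bipartiteAbove, Finset.mem_sdiff, Finset.mem_univ, true_and]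
      tauto
    rw [this, Finset.card_sdiff_of_subset hb.2, h8 b hb.1]
  have h2 : ∀ p ∈ (univ : Finset α) \ X,
      ((BB.filter (fun b => X ⊆ b)).bipartiteBelow (fun b p => p ∈ b) p).card = L := by
    intro p hp
    rw [Finset.mem_sdiff] at hp
    rw [← hL p hp.2]
    unfold N
    congr 1
    ext b
    simp only [mem_bipartiteBelow, Finset.mem_filter, Finset.insert_subset_iff]
    tauto
  rw [Finset.sum_congr rfl h1, Finset.sum_congr rfl h2, Finset.sum_const, Finset.sum_const,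
    smul_eq_mul, smul_eq_mul, Finset.card_sdiff_of_subset (Finset.subset_univ X), Finset.card_univ] at h
  exact h


variable (hα : Fintype.card α = 24) (BB : Finset (Finset α)) (h8 : ∀ b ∈ BB, b.card = 8)
  (hS : ∀ s : Finset α, s.card = 5 → ∃! b, b ∈ BB ∧ s ⊆ b)

include hS in
lemma N5 (X : Finset α) (hX : X.card = 5) : N BB X = 1 := by
  obtain ⟨b0, hb0, huniq⟩ := hS X hX
  unfold N
  rw [Finset.card_eq_one]
  refine ⟨b0, ?_⟩
  ext b
  simp only [Finset.mem_filter, Finset.mem_singleton]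
  constructor
  · intro h; exact huniq b h
  · rintro rfl; exact hb0

include hα h8 hS in
lemma N4 (X : Finset α) (hX : X.card = 4) : N BB X = 5 := by
  have h := step BB h8 X 1 (fun p hp => N5 BB hS _ (by rw [Finset.card_insert_of_notMem hp, hX]))
  rw [hα, hX] at h
  omega

include hα h8 hS in
lemma N3 (X : Finset α) (hX : X.card = 3) : N BB X = 21 := by
  have h := step BB h8 X 5 (fun p hp => N4 hα BB h8 hS _ (by rw [Finset.card_insert_of_notMem hp, hX]))
  rw [hα, hX] at h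
  omega

include hα h8 hS in
lemma N2 (X : Finset α) (hX : X.card = 2) : N BB X = 77 := by
  have h := step BB h8 X 21 (fun p hp => N3 hα BB h8 hS _ (by rw [Finset.card_insert_of_notMem hp, hX]))
  rw [hα, hX] at h
  omega

include hα h8 hS in
lemma N1 (X : Finset α) (hX : X.card = 1) : N BB X = 253 := by
  have h := step BB h8 X 77 (fun p hp => N2 hα BB h8 hS _ (by rw [Finset.card_insert_of_notMem hp, hX]))
  rw [hα, hX] at h
  omega

include hα h8 hS in
lemma N0 : N BB ∅ = 759 := by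
  have h := step BB h8 ∅ 253 (fun p hp => N1 hα BB h8 hS _ (by rw [Finset.card_insert_of_notMem hp]; rfl))
  rw [hα, Finset.card_empty] at h
  omega


omit [Fintype α] in
lemma inter_card_three (b : Finset α) {y1 y2 y3 : α} (h12 : y1 ≠ y2) (h13 : y1 ≠ y3) (h23 : y2 ≠ y3) :
    (b ∩ {y1, y2, y3}).card =
      (if y1 ∈ b then 1 else 0) + (if y2 ∈ b then 1 else 0) + (if y3 ∈ b then 1 else 0) := by
  by_cases h1 : y1 ∈ b <;> by_cases h2 : y2 ∈ b <;> by_cases h3 : y3 ∈ b <;>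
    simp [Finset.inter_insert_of_mem, Finset.inter_insert_of_notMem, Finset.inter_singleton_of_mem,
      Finset.inter_singleton_of_notMem, h1, h2, h3, Finset.card_insert_of_notMem, h12, h13, h23]

include hα h8 hS in
lemma counts (Y : Finset α) (hY : Y.card = 3) :
    (BB.filter (fun b => (b ∩ Y).card = 3)).card = 21 ∧
    (BB.filter (fun b => (b ∩ Y).card = 2)).card = 168 ∧
    (BB.filter (fun b => (b ∩ Y).card = 1)).card = 360 ∧
    (BB.filter (fun b => (b ∩ Y).card = 0)).card = 210 := by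
  obtain ⟨y1, y2, y3, h12, h13, h23, rfl⟩ := Finset.card_eq_three.mp hY
  have e0 : ∑ b ∈ BB, 1 = 759 := by
    rw [← N0 hα BB h8 hS]; unfold N; simp
  have e1 : ∑ b ∈ BB, (if y1 ∈ b then 1 else 0) = 253 := by
    rw [← Finset.card_filter, ← N1 hα BB h8 hS {y1} (by simp)]; unfold N; simp
  have e2 : ∑ b ∈ BB, (if y2 ∈ b then 1 else 0) = 253 := by
    rw [← Finset.card_filter, ← N1 hα BB h8 hS {y2} (by simp)]; unfold N; simp
  have e3 : ∑ b ∈ BB, (if y3 ∈ b then 1 else 0) = 253 := by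
    rw [← Finset.card_filter, ← N1 hα BB h8 hS {y3} (by simp)]; unfold N; simp
  have e12 : ∑ b ∈ BB, (if y1 ∈ b ∧ y2 ∈ b then 1 else 0) = 77 := by
    rw [← Finset.card_filter, ← N2 hα BB h8 hS {y1, y2} (Finset.card_pair h12)]; unfold N
    simp [Finset.insert_subset_iff]
  have e13 : ∑ b ∈ BB, (if y1 ∈ b ∧ y3 ∈ b then 1 else 0) = 77 := by
    rw [← Finset.card_filter, ← N2 hα BB h8 hS {y1, y3} (Finset.card_pair h13)]; unfold N
    simp [Finset.insert_subset_iff]
  have e23 : ∑ b ∈ BB, (if y2 ∈ b ∧ y3 ∈ b then 1 else 0) = 77 := by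
    rw [← Finset.card_filter, ← N2 hα BB h8 hS {y2, y3} (Finset.card_pair h23)]; unfold N
    simp [Finset.insert_subset_iff]
  have e123 : ∑ b ∈ BB, (if y1 ∈ b ∧ y2 ∈ b ∧ y3 ∈ b then 1 else 0) = 21 := by
    rw [← Finset.card_filter, ← N3 hα BB h8 hS {y1, y2, y3} (by
      rw [Finset.card_eq_three]; exact ⟨y1, y2, y3, h12, h13, h23, rfl⟩)]; unfold N
    simp [Finset.insert_subset_iff]
  have k3 : ∀ b ∈ BB, (if (b ∩ {y1, y2, y3}).card = 3 then 1 else 0) =
      (if y1 ∈ b ∧ y2 ∈ b ∧ y3 ∈ b then 1 else 0) := by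
    intro b _
    rw [inter_card_three b h12 h13 h23]
    by_cases h1 : y1 ∈ b <;> by_cases h2 : y2 ∈ b <;> by_cases h3 : y3 ∈ b <;> simp [h1, h2, h3]
  have k2 : ∀ b ∈ BB, (if (b ∩ {y1, y2, y3}).card = 2 then 1 else 0) +
      3 * (if y1 ∈ b ∧ y2 ∈ b ∧ y3 ∈ b then 1 else 0) =
      (if y1 ∈ b ∧ y2 ∈ b then 1 else 0) + (if y1 ∈ b ∧ y3 ∈ b then 1 else 0) +
      (if y2 ∈ b ∧ y3 ∈ b then 1 else 0) := by
    intro b _
    rw [inter_card_three b h12 h13 h23]
    by_cases h1 : y1 ∈ b <;> by_cases h2 : y2 ∈ b <;> by_cases h3 : y3 ∈ b <;> simp [h1, h2, h3]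
  have k1 : ∀ b ∈ BB, (if (b ∩ {y1, y2, y3}).card = 1 then 1 else 0) +
      2 * ((if y1 ∈ b ∧ y2 ∈ b then 1 else 0) + (if y1 ∈ b ∧ y3 ∈ b then 1 else 0) +
      (if y2 ∈ b ∧ y3 ∈ b then 1 else 0)) =
      (if y1 ∈ b then 1 else 0) + (if y2 ∈ b then 1 else 0) + (if y3 ∈ b then 1 else 0) +
      3 * (if y1 ∈ b ∧ y2 ∈ b ∧ y3 ∈ b then 1 else 0) := by
    intro b _
    rw [inter_card_three b h12 h13 h23]
    by_cases h1 : y1 ∈ b <;> by_cases h2 : y2 ∈ b <;> by_cases h3 : y3 ∈ b <;> simp [h1, h2, h3]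
  have k0 : ∀ b ∈ BB, (if (b ∩ {y1, y2, y3}).card = 0 then 1 else 0) +
      ((if y1 ∈ b then 1 else 0) + (if y2 ∈ b then 1 else 0) + (if y3 ∈ b then 1 else 0)) +
      (if y1 ∈ b ∧ y2 ∈ b ∧ y3 ∈ b then 1 else 0) =
      1 + ((if y1 ∈ b ∧ y2 ∈ b then 1 else 0) + (if y1 ∈ b ∧ y3 ∈ b then 1 else 0) +
      (if y2 ∈ b ∧ y3 ∈ b then 1 else 0)) := by
    intro b _
    rw [inter_card_three b h12 h13 h23]
    by_cases h1 : y1 ∈ b <;> by_cases h2 : y2 ∈ b <;> by_cases h3 : y3 ∈ b <;> simp [h1, h2, h3]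
  have s3 := Finset.sum_congr rfl k3
  have s2 := Finset.sum_congr rfl k2
  have s1 := Finset.sum_congr rfl k1
  have s0 := Finset.sum_congr rfl k0
  simp only [Finset.sum_add_distrib, ← Finset.mul_sum, e0, e1, e2, e3, e12, e13, e23, e123,
    ← Finset.card_filter] at s3 s2 s1 s0
  refine ⟨s3, ?_, ?_, ?_⟩ <;> omega

end aux

/-- In any Steiner system S(5, 8, 24) and for any set Y of three points, the blocks meeting Y in exactly 3, 2, 1 and 0 points number 21, 168, 360 and 210 respectively (so there are 759 blocks in all). -/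
theorem result (α : Type*) [Fintype α] [DecidableEq α] (hα : Fintype.card α = 24) (B : Set (Finset α)) (hB : Cfsg.IsSteinerSystem 5 8 B) (Y : Finset α) (hY : Y.card = 3) : {b : Finset α | b ∈ B ∧ (b ∩ Y).card = 3}.ncard = 21 ∧ {b : Finset α | b ∈ B ∧ (b ∩ Y).card = 2}.ncard = 168 ∧ {b : Finset α | b ∈ B ∧ (b ∩ Y).card = 1}.ncard = 360 ∧ {b : Finset α | b ∈ B ∧ (b ∩ Y).card = 0}.ncard = 210 := by
  classical
  have hfin : B.Finite := Set.toFinite B
  set BB : Finset (Finset α) := hfin.toFinset with hBB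
  have hmem : ∀ b, b ∈ BB ↔ b ∈ B := fun b => Set.Finite.mem_toFinset hfin
  have h8 : ∀ b ∈ BB, b.card = 8 := fun b hb => hB.1 b ((hmem b).mp hb)
  have hS : ∀ s : Finset α, s.card = 5 → ∃! b, b ∈ BB ∧ s ⊆ b := by
    intro s hs
    obtain ⟨b, hb, hu⟩ := hB.2 s hs
    exact ⟨b, ⟨(hmem b).mpr hb.1, hb.2⟩, fun y hy => hu y ⟨(hmem y).mp hy.1, hy.2⟩⟩
  have hc := counts hα BB h8 hS Y hY
  have conv : ∀ k : ℕ, {b : Finset α | b ∈ B ∧ (b ∩ Y).card = k}.ncard =
      (BB.filter (fun b => (b ∩ Y).card = k)).card := by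
    intro k
    rw [← Set.ncard_coe_finset]
    congr 1
    ext b
    simp [hmem]
  rw [conv, conv, conv, conv]
  exact hc


end Cfsg.Agent.S5625
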