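import Cfsg.Statements.S5632
import Cfsg.Agent.Lib.Helper93.Transvec

set_option autoImplicit false
open Cfsg

namespace Cfsg.Agent.S5632

open Cfsg.Agent.Helper93 Matrix in
/-- For a finite field F and subspaces 0 < W < U of F^n with dim W + dim U = n, the elements of SL_n(F) stabilising both W and U form a subgroup that is not maximal in SL_n(F): some subgroup lies strictly between it and SL_n(F). -/
theorem result {F : Type*} [Field F] [Fintype F] (n : ℕ) (W U : Submodule F (Fin n → F)) (hW0 : W ≠ ⊥) (hWU : W < U) (hdim : Module.finrank F W + Module.finrank F U = n) : ∃ K : Subgroup (Matrix.GeneralLinearGroup (Fin n) F), Cfsg.Geo.subspaceStabilizer W ⊓ Cfsg.Geo.subspaceStabilizer U ⊓ Cfsg.Geo.specialLinear (Fin n) F < K ∧ K < Cfsg.Geo.specialLinear (Fin n) F := by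
  have hW1 : W ≠ ⊤ := fun h => by rw [h] at hWU; exact not_top_lt hWU
  have hU1 : U ≠ ⊤ := by
    intro h
    rw [h, finrank_top, Module.finrank_fin_fun] at hdim
    have : Module.finrank F W = 0 := by omega
    exact hW0 (Submodule.finrank_eq_zero.mp this)
  refine ⟨Cfsg.Geo.subspaceStabilizer W ⊓ Cfsg.Geo.specialLinear (Fin n) F, ?_, ?_⟩
  · rw [SetLike.lt_iff_le_and_exists]
    refine ⟨fun g hg => ⟨hg.1.1, hg.2⟩, ?_⟩
    obtain ⟨u, huU, huW⟩ := SetLike.exists_of_lt hWU
    obtain ⟨v, hv⟩ : ∃ v, v ∉ U := by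
      by_contra hcon
      push Not at hcon
      exact hU1 (eq_top_iff.mpr fun x _ => hcon x)
    have huP : u ∉ W ⊔ Submodule.span F {v} := by
      intro hmem
      obtain ⟨w, hw, y, hy, rfl⟩ := Submodule.mem_sup.mp hmem
      obtain ⟨c, rfl⟩ := Submodule.mem_span_singleton.mp hy
      by_cases hc : c = 0
      · subst hc
        rw [zero_smul, add_zero] at huW
        exact huW hw
      · have h1 : c • v ∈ U := by
          have := U.sub_mem huU (hWU.le hw)
          simpa using this
        have := U.smul_mem c⁻¹ h1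
        rw [smul_smul, inv_mul_cancel₀ hc, one_smul] at this
        exact hv this
    obtain ⟨φ, hφP, hφu⟩ := exists_functional _ u huP
    have hφv : φ ⬝ᵥ v = 0 := hφP v (Submodule.mem_sup_right (Submodule.mem_span_singleton_self v))
    have hφW : ∀ x ∈ W, φ ⬝ᵥ x = 0 := fun x hx => hφP x (Submodule.mem_sup_left hx)
    refine ⟨tv φ v hφv, ⟨tv_mem_stab_of_vanish W φ v hφv hφW, tv_mem_SL φ v hφv⟩, ?_⟩
    intro hmem
    exact tv_notMem_stab U φ v hφv u huU hφu hv hmem.1.2
  · rw [SetLike.lt_iff_le_and_exists]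
    refine ⟨inf_le_right, ?_⟩
    obtain ⟨g, hg, hgW⟩ := exists_SL_notMem_stab W hW0 hW1
    exact ⟨g, hg, fun h => hgW h.1⟩

end Cfsg.Agent.S5632
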