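import Cfsg.Statements.S5633
import Cfsg.Agent.Lib.Helper93.Transvec

set_option autoImplicit false
open Cfsg

namespace Cfsg.Agent.S5633

open Cfsg.Agent.Helper93 Matrix in
/-- For a finite field F and complementary non-zero subspaces W ⊕ U = F^n with dim W < dim U, the elements of SL_n(F) stabilising both W and U form a subgroup that is not maximal in SL_n(F): some subgroup lies strictly between it and SL_n(F). -/
theorem result {F : Type*} [Field F] [Fintype F] (n : ℕ) (W U : Submodule F (Fin n → F)) (hW0 : W ≠ ⊥) (hWU : W ⊓ U = ⊥) (hWU' : W ⊔ U = ⊤) (hdim : Module.finrank F W < Module.finrank F U) : ∃ K : Subgroup (Matrix.GeneralLinearGroup (Fin n) F), Cfsg.Geo.subspaceStabilizer W ⊓ Cfsg.Geo.subspaceStabilizer U ⊓ Cfsg.Geo.specialLinear (Fin n) F < K ∧ K < Cfsg.Geo.specialLinear (Fin n) F := by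
  have hU0 : U ≠ ⊥ := by
    intro h
    rw [h, finrank_bot] at hdim
    omega
  have hW1 : W ≠ ⊤ := by
    intro h
    rw [h, top_inf_eq] at hWU
    exact hU0 hWU
  refine ⟨Cfsg.Geo.subspaceStabilizer W ⊓ Cfsg.Geo.specialLinear (Fin n) F, ?_, ?_⟩
  · rw [SetLike.lt_iff_le_and_exists]
    refine ⟨fun g hg => ⟨hg.1.1, hg.2⟩, ?_⟩
    obtain ⟨u, huU, hu0⟩ := (Submodule.ne_bot_iff U).mp hU0
    obtain ⟨w, hwW, hw0⟩ := (Submodule.ne_bot_iff W).mp hW0
    have huW : u ∉ W := by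
      intro h
      have : u ∈ W ⊓ U := ⟨h, huU⟩
      rw [hWU, Submodule.mem_bot] at this
      exact hu0 this
    have hwU : w ∉ U := by
      intro h
      have : w ∈ W ⊓ U := ⟨hwW, h⟩
      rw [hWU, Submodule.mem_bot] at this
      exact hw0 this
    obtain ⟨φ, hφW, hφu⟩ := exists_functional W u huW
    have hφw : φ ⬝ᵥ w = 0 := hφW w hwW
    refine ⟨tv φ w hφw, ⟨tv_mem_stab_of_vanish W φ w hφw hφW, tv_mem_SL φ w hφw⟩, ?_⟩
    intro hmem
    exact tv_notMem_stab U φ w hφw u huU hφu hwU hmem.1.2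
  · rw [SetLike.lt_iff_le_and_exists]
    refine ⟨inf_le_right, ?_⟩
    obtain ⟨g, hg, hgW⟩ := exists_SL_notMem_stab W hW0 hW1
    exact ⟨g, hg, fun h => hgW h.1⟩

end Cfsg.Agent.S5633
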