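import Cfsg.Statements.S5658
import Cfsg.Agent.Lib.Helper93.USfF
import Cfsg.Agent.Lib.Helper64.USfP3
import Cfsg.Agent.Lib.Helper98.USfP2

set_option autoImplicit false
open Cfsg

namespace Cfsg.Agent.S5658

/-- Let F be the field with q² elements, n ≥ 13, and F₀ a subfield with |F| = |F₀| ^ r for an odd prime r. Let P be an invertible matrix such that the standard unitary form takes values in F₀ on the F₀-span of the columns of P. Then the elements of SU_n(q) lying in the subfield group of P (the conjugate by P of the product of GL_n(F₀) with the scalars) form a maximal subgroup of SU_n(q). -/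
theorem result {F : Type*} [Field F] [Fintype F] (n q : ℕ) (hF : Fintype.card F = q ^ 2) (hn : 13 ≤ n) (F₀ : Subfield F) (r : ℕ) (hr : r.Prime) (hro : Odd r) (hcard : Fintype.card F = Nat.card F₀ ^ r) (P : Matrix.GeneralLinearGroup (Fin n) F) (hP : Cfsg.Geo.IsFormRationalStructure (Cfsg.hermForm n F q) F₀ 1 P) : Cfsg.Geo.IsMaximalIn (Cfsg.GU n F q ⊓ Cfsg.Geo.specialLinear (Fin n) F) (Cfsg.Geo.subfieldSubgroup F₀ P ⊓ (Cfsg.GU n F q ⊓ Cfsg.Geo.specialLinear (Fin n) F)) := by
  have hf := Cfsg.Agent.Helper93.hermForm_unitary hF n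
  have hr2 : r ≠ 2 := by
    rintro rfl
    exact absurd hro (by decide)
  have hst : Cfsg.Agent.Helper93.SubfL.USf.SigSt (Cfsg.Agent.Helper93.frobQ hF) F₀ :=
    Cfsg.Agent.Helper93.SubfL.USf.sigSt_of_odd hr hr2 hcard hf.ne_refl hf.involutive
      (fun x hx => by rw [Cfsg.Agent.Helper93.frobQ_apply]; exact F₀.pow_mem hx q)
  have hn9 : 9 ≤ Fintype.card (Fin n) := by rw [Fintype.card_fin]; omega
  have hn13 : 13 ≤ Fintype.card (Fin n) := by rw [Fintype.card_fin]; exact hn
  have h := Cfsg.Agent.Helper93.SubfL.USf.su_subfield_max hf hst hn9 hr hcard P hP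
    (fun f' hf' M' C hN => Cfsg.Agent.Helper93.SubfL.USf.le_of_all_uctr C hn13
      (Cfsg.Agent.Helper93.SubfL.USf.uctr_of_bad C hn13 hr hcard hN))
  have e : Cfsg.Agent.Helper93.SubfL.SpSf.isomGroup (Cfsg.hermForm n F q) = Cfsg.GU n F q := by
    ext g
    exact (Cfsg.Agent.Helper93.mem_GU_iff_isom n g).symm
  rw [e] at h
  exact h

end Cfsg.Agent.S5658
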