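import Cfsg.Statements.S5659
import Cfsg.Agent.Lib.Helper93.UOSub5

set_option autoImplicit false
open Cfsg

namespace Cfsg.Agent.S5659

/-- Let F be the field with q² elements, q odd, n ≥ 13, and F₀ the subfield with q elements. Let P be an invertible matrix such that the standard unitary form takes values in F₀ on the F₀-span of the columns of P (so it restricts to a non-degenerate symmetric bilinear form there). Then the elements of SU_n(q) lying in the subfield group of P form a maximal subgroup of SU_n(q). -/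
theorem result {F : Type*} [Field F] [Fintype F] (n q : ℕ) (hF : Fintype.card F = q ^ 2) (hn : 13 ≤ n) (hodd : Odd q) (F₀ : Subfield F) (hcard : Fintype.card F = Nat.card F₀ ^ 2) (P : Matrix.GeneralLinearGroup (Fin n) F) (hP : Cfsg.Geo.IsFormRationalStructure (Cfsg.hermForm n F q) F₀ 1 P) : Cfsg.Geo.IsMaximalIn (Cfsg.GU n F q ⊓ Cfsg.Geo.specialLinear (Fin n) F) (Cfsg.Geo.subfieldSubgroup F₀ P ⊓ (Cfsg.GU n F q ⊓ Cfsg.Geo.specialLinear (Fin n) F)) := by
  have hf := Cfsg.Agent.Helper93.hermForm_unitary hF n
  have hoddF : Odd (Fintype.card F) := by rw [hF]; exact hodd.pow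
  have h2 : (2 : F) ≠ 0 := by
    intro h
    have h1 : ringChar F = 2 :=
      CharP.ringChar_of_prime_eq_zero Nat.prime_two (by exact_mod_cast h)
    have h3 := FiniteField.even_card_of_char_two h1
    rcases hoddF with ⟨k, hk⟩
    omega
  have hR : Cfsg.Agent.Helper93.RatStrO (Cfsg.Agent.Helper93.frobQ hF) (Cfsg.hermForm n F q)
      F₀ P := by
    refine ⟨fun x => Cfsg.Agent.Helper93.mem_subfield_iff_frob hF F₀ hcard x, ?_⟩
    rintro _ _ ⟨u, hu, rfl⟩ ⟨v, hv, rfl⟩
    have := hP u v hu hv
    rwa [one_mul] at this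
  exact Cfsg.Agent.Helper93.usub_o_max hf h2 (by rw [Fintype.card_fin]; exact hn) hR _
    (fun g => Iff.rfl)

end Cfsg.Agent.S5659
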