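import Cfsg.Statements.S5675
import Mathlib
import Cfsg.Agent.Lib.Helper13.OrthNondeg
import Cfsg.Agent.Lib.Helper43.OrthOdd

set_option autoImplicit false
open Cfsg

namespace Cfsg.Agent.S5675

/-- Let F be a finite field of odd order q, m ≥ 6, Q the standard quadratic form on F^(2m+1) and Ω the commutator subgroup of its isometry group. Let W be a non-zero subspace of even dimension on which the polar form of Q is non-degenerate; exclude the case q = 3, dim W = 2 with Q vanishing on some line of W (a plus-type plane). Then the elements of Ω stabilising W (equivalently, stabilising its orthogonal complement, of odd dimension) form a maximal subgroup of Ω. -/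
theorem result {F : Type*} [Field F] [Fintype F] (hodd : Odd (Fintype.card F)) (m : ℕ) (hm : 6 ≤ m) (W : Submodule F (Unit ⊕ (Fin m ⊕ Fin m) → F)) (hW0 : W ≠ ⊥) (hev : Even (Module.finrank F W)) (hW : Cfsg.Geo.IsNondegenerateOn (QuadraticMap.polar (Cfsg.quadFormOdd m F)) W) (hex : ¬ (Fintype.card F = 3 ∧ Module.finrank F W = 2 ∧ Cfsg.Geo.IsPlusTypeOn (Cfsg.quadFormOdd m F) W)) : Cfsg.Geo.IsMaximalIn (Cfsg.Geo.omegaGL (Cfsg.quadFormOdd m F)) (Cfsg.Geo.subspaceStabilizer W ⊓ Cfsg.Geo.omegaGL (Cfsg.quadFormOdd m F)) := by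
  classical
  have h2 : (2 : F) ≠ 0 := Cfsg.Agent.Helper93.two_ne_zero_of_odd_card hodd
  have hcard : Fintype.card (Unit ⊕ (Fin m ⊕ Fin m)) = 2 * m + 1 := by
    simp only [Fintype.card_sum, Fintype.card_unit, Fintype.card_fin]
    ring
  have hqodd : Fintype.card F ≠ 2 := by
    intro h
    rw [h] at hodd
    exact absurd hodd (by decide)
  have hq2 : 2 ≤ Fintype.card F := by
    have := Fintype.one_lt_card (α := F)
    omega
  rw [← Cfsg.Agent.Helper43.coe_stdOdd] at hW hex ⊢
  have hWnd : ∀ y ∈ W, y ≠ 0 → ∃ z ∈ W,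
      QuadraticMap.polar (⇑(Cfsg.Agent.Helper43.stdOdd F m)) z y ≠ 0 :=
    fun y hy hy0 => (hW y hy hy0).1
  have hW1 : W ≠ ⊤ := by
    rintro rfl
    rw [finrank_top, Module.finrank_fintype_fun_eq_card, hcard] at hev
    rcases hev with ⟨r, hr⟩
    omega
  apply Cfsg.Agent.Helper13.nondeg_stab_max (Cfsg.Agent.Helper43.stdOdd F m)
    (Cfsg.Agent.Helper43.stdOdd_nondegenerate F m h2) (by rw [hcard]; omega) W hWnd hW0 hW1
  · rw [hcard]
    omega
  · rintro hd2 ⟨s, hsW, hs0, hQs⟩
    by_contra hlt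
    apply hex
    refine ⟨by omega, hd2, Submodule.span F {s}, ?_, ?_, ?_⟩
    · rw [Submodule.span_le]
      exact Set.singleton_subset_iff.2 hsW
    · intro w hw
      obtain ⟨c, rfl⟩ := Submodule.mem_span_singleton.1 hw
      rw [QuadraticMap.map_smul, hQs, smul_zero]
    · rw [finrank_span_singleton hs0, hd2]
  · intro hd _
    rw [hcard] at hd
    rcases hev with ⟨r, hr⟩
    omega

end Cfsg.Agent.S5675
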