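import Cfsg.Statements.S5676
import Cfsg.Agent.Lib.Helper97.QuadGeo

set_option autoImplicit false
open Cfsg Cfsg.Geo

namespace Cfsg.Agent.S5676

section form

variable {F : Type*} [Field F] (m : ℕ)

theorem quadFormOdd_smul (c : F) (v : Unit ⊕ (Fin m ⊕ Fin m) → F) :
    Cfsg.quadFormOdd m F (c • v) = c ^ 2 * Cfsg.quadFormOdd m F v := by
  simp only [Cfsg.quadFormOdd, Pi.smul_apply, smul_eq_mul]
  rw [mul_add, Finset.mul_sum]
  congr 1
  · ring
  · refine Finset.sum_congr rfl fun i _ => ?_
    ring

/-- The polar form of the standard odd-dimensional quadratic form. -/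
theorem polar_quadFormOdd (u v : Unit ⊕ (Fin m ⊕ Fin m) → F) :
    QuadraticMap.polar (Cfsg.quadFormOdd m F) u v =
      2 * u (.inl ()) * v (.inl ()) +
        ∑ i : Fin m, (u (.inr (.inl i)) * v (.inr (.inr i)) + u (.inr (.inr i)) * v (.inr (.inl i))) := by
  simp only [QuadraticMap.polar, Cfsg.quadFormOdd, Pi.add_apply]
  have : ∀ a b c d e f : F, a + b - (c + d) - (e + f) = (a - c - e) + (b - d - f) := by
    intros; ring
  rw [this, ← Finset.sum_sub_distrib, ← Finset.sum_sub_distrib]
  congr 1
  · ring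
  · refine Finset.sum_congr rfl fun i _ => ?_
    ring

theorem bil_polar_quadFormOdd :
    IsBilinearForm (QuadraticMap.polar (Cfsg.quadFormOdd m F)) where
  add_left := by
    intro x y v
    simp only [polar_quadFormOdd, Pi.add_apply]
    rw [← add_add_add_comm, ← Finset.sum_add_distrib]
    congr 1
    · ring
    · refine Finset.sum_congr rfl fun i _ => ?_
      ring
  smul_left := by
    intro c x v
    simp only [polar_quadFormOdd, Pi.smul_apply, smul_eq_mul]
    rw [mul_add, Finset.mul_sum]
    congr 1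
    · ring
    · refine Finset.sum_congr rfl fun i _ => ?_
      ring
  add_right := by
    intro v x y
    simp only [polar_quadFormOdd, Pi.add_apply]
    rw [← add_add_add_comm, ← Finset.sum_add_distrib]
    congr 1
    · ring
    · refine Finset.sum_congr rfl fun i _ => ?_
      ring
  smul_right := by
    intro c v x
    simp only [polar_quadFormOdd, Pi.smul_apply, smul_eq_mul]
    rw [mul_add, Finset.mul_sum]
    congr 1
    · ring
    · refine Finset.sum_congr rfl fun i _ => ?_
      ring

theorem nondeg_polar_quadFormOdd (h2 : (2 : F) ≠ 0) :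
    IsNondegenerateForm (QuadraticMap.polar (Cfsg.quadFormOdd m F)) := by
  have key : ∀ v : Unit ⊕ (Fin m ⊕ Fin m) → F, v ≠ 0 →
      ∃ x, QuadraticMap.polar (Cfsg.quadFormOdd m F) x v ≠ 0 := by
    intro v hv
    have : ∃ j, v j ≠ 0 := by
      by_contra hcon
      push Not at hcon
      exact hv (funext hcon)
    obtain ⟨j, hj⟩ := this
    rcases j with ⟨⟩ | i₀ | i₀
    · refine ⟨Pi.single (.inl ()) 1, ?_⟩
      rw [polar_quadFormOdd]
      simp only [Pi.single_eq_same, mul_one, ne_eq, reduceCtorEq, not_false_eq_true,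
        Pi.single_eq_of_ne, zero_mul, add_zero, Finset.sum_const_zero]
      exact mul_ne_zero h2 hj
    · refine ⟨Pi.single (.inr (.inr i₀)) 1, ?_⟩
      rw [polar_quadFormOdd]
      have h0 : (Pi.single (Sum.inr (Sum.inr i₀)) (1 : F) : Unit ⊕ (Fin m ⊕ Fin m) → F)
          (Sum.inl ()) = 0 := by simp
      rw [h0, mul_zero, zero_mul, zero_add, Finset.sum_eq_single i₀]
      · simpa using hj
      · intro i _ hi
        have e1 : (Pi.single (Sum.inr (Sum.inr i₀)) (1 : F) : Unit ⊕ (Fin m ⊕ Fin m) → F)
            (Sum.inr (Sum.inr i)) = 0 := by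
          rw [Pi.single_apply, if_neg]
          intro h
          exact hi (by simpa using h)
        simp [e1]
      · intro h; exact absurd (Finset.mem_univ _) h
    · refine ⟨Pi.single (.inr (.inl i₀)) 1, ?_⟩
      rw [polar_quadFormOdd]
      have h0 : (Pi.single (Sum.inr (Sum.inl i₀)) (1 : F) : Unit ⊕ (Fin m ⊕ Fin m) → F)
          (Sum.inl ()) = 0 := by simp
      rw [h0, mul_zero, zero_mul, zero_add, Finset.sum_eq_single i₀]
      · simpa using hj
      · intro i _ hi
        have e1 : (Pi.single (Sum.inr (Sum.inl i₀)) (1 : F) : Unit ⊕ (Fin m ⊕ Fin m) → F)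
            (Sum.inr (Sum.inl i)) = 0 := by
          rw [Pi.single_apply, if_neg]
          intro h
          exact hi (by simpa using h)
        simp [e1]
      · intro h; exact absurd (Finset.mem_univ _) h
  intro v hv
  obtain ⟨x, hx⟩ := key v hv
  refine ⟨⟨x, hx⟩, ⟨x, ?_⟩⟩
  rw [QuadraticMap.polar_comm]
  exact hx

theorem isNondeg_quadFormOdd (h2 : (2 : F) ≠ 0) :
    IsNondegenerateQuadraticForm (Cfsg.quadFormOdd m F) :=
  ⟨quadFormOdd_smul m, bil_polar_quadFormOdd m, nondeg_polar_quadFormOdd m h2⟩

end form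

/-- Let F be the field with 3 elements, m ≥ 6, Q the standard quadratic form on F^(2m+1) and Ω the commutator subgroup of its isometry group. Let W be a 2-dimensional subspace on which the polar form is non-degenerate and which contains a line on which Q vanishes. Then the elements of Ω stabilising W form a subgroup that is not maximal: some subgroup lies strictly between it and Ω. -/
theorem result {F : Type*} [Field F] [Fintype F] (hq : Fintype.card F = 3) (m : ℕ) (hm : 6 ≤ m) (W : Submodule F (Unit ⊕ (Fin m ⊕ Fin m) → F)) (hdim : Module.finrank F W = 2) (hW : Cfsg.Geo.IsNondegenerateOn (QuadraticMap.polar (Cfsg.quadFormOdd m F)) W) (hplus : Cfsg.Geo.IsPlusTypeOn (Cfsg.quadFormOdd m F) W) : ∃ K : Subgroup (Matrix.GeneralLinearGroup (Unit ⊕ (Fin m ⊕ Fin m)) F), Cfsg.Geo.subspaceStabilizer W ⊓ Cfsg.Geo.omegaGL (Cfsg.quadFormOdd m F) < K ∧ K < Cfsg.Geo.omegaGL (Cfsg.quadFormOdd m F) := by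
  have h2 : (2 : F) ≠ 0 := Cfsg.Agent.S5667.two_ne_zero' hq
  refine Cfsg.Agent.Helper97.QG.plane_not_maximal (isNondeg_quadFormOdd m h2) (by omega) ?_ W hdim hW hplus
  simp only [Fintype.card_sum, Fintype.card_unit, Fintype.card_fin]
  omega

end Cfsg.Agent.S5676
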