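import Cfsg.Statements.S5677
import Mathlib
import Cfsg.Agent.Lib.Helper97.ODecFinal
import Cfsg.Agent.Lib.Helper43.OrthOdd

set_option autoImplicit false
open Cfsg

namespace Cfsg.Agent.S5677

/-- Let F be a finite field of odd order q, m ≥ 6, Q the standard quadratic form on F^(2m+1) and Ω the commutator subgroup of its isometry group. Let D be a decomposition of F^(2m+1) into t ≥ 2 pairwise orthogonal, pairwise Q-isometric subspaces of equal dimension k > 1 on which the polar form is non-degenerate. Unless q = 3 and k = 3, the elements of Ω permuting the members of D form a maximal subgroup of Ω. -/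
theorem result {F : Type*} [Field F] [Fintype F] (hodd : Odd (Fintype.card F)) (m : ℕ) (hm : 6 ≤ m) {t : ℕ} (k : ℕ) (hk : 1 < k) (D : Fin t → Submodule F (Unit ⊕ (Fin m ⊕ Fin m) → F)) (hD : Cfsg.Geo.IsOrthogonalMDecomposition (Cfsg.quadFormOdd m F) k D) (hex : ¬ (Fintype.card F = 3 ∧ k = 3)) : Cfsg.Geo.IsMaximalIn (Cfsg.Geo.omegaGL (Cfsg.quadFormOdd m F)) (Cfsg.Geo.decompositionStabilizer D ⊓ Cfsg.Geo.omegaGL (Cfsg.quadFormOdd m F)) := by
  classical
  have h2 : (2 : F) ≠ 0 := Cfsg.Agent.Helper93.two_ne_zero_of_odd_card hodd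
  have hcard : Fintype.card (Unit ⊕ (Fin m ⊕ Fin m)) = 2 * m + 1 := by
    simp only [Fintype.card_sum, Fintype.card_unit, Fintype.card_fin]
    ring
  rw [← Cfsg.Agent.Helper43.coe_stdOdd] at hD ⊢
  have h := Cfsg.Agent.Helper97.ODec.Dec.of hD
  have htk : t * k = 2 * m + 1 := by rw [h.card_ge, hcard]
  have hoddtk : Odd (t * k) := by rw [htk]; exact ⟨m, rfl⟩
  obtain ⟨⟨a, ha⟩, ⟨b, hb⟩⟩ := Nat.odd_mul.1 hoddtk
  have ht2 := h.two_le
  have hk3 : 3 ≤ k := by omega
  have ht3 : 3 ≤ t := by omega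
  have hqk : 5 ≤ Fintype.card F ∨ 5 ≤ k := by
    by_cases hq : 5 ≤ Fintype.card F
    · exact Or.inl hq
    · right
      have hq1 := Fintype.one_lt_card (α := F)
      obtain ⟨r, hr⟩ := hodd
      have hq3 : Fintype.card F = 3 := by omega
      have hk3' : k ≠ 3 := fun hk' => hex ⟨hq3, hk'⟩
      omega
  exact h.stab_max h2 (Cfsg.Agent.Helper43.stdOdd_nondegenerate F m h2) hk3 ht3 hqk

end Cfsg.Agent.S5677
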