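import Cfsg.Statements.S5678
import Cfsg.Agent.Lib.Helper97.QuadDecomp
import Cfsg.Agent.S5676

set_option autoImplicit false
open Cfsg

namespace Cfsg.Agent.S5678

open Cfsg.Geo

/-- The dimension count of an `m`-decomposition. -/
theorem card_eq_of_mdecomp {F : Type*} [Field F] {ι : Type} [Fintype ι] [DecidableEq ι]
    {t k : ℕ} (D : Fin t → Submodule F (ι → F)) (hD : IsMDecomposition k D) :
    Fintype.card ι = t * k := by
  classical
  have hint := DirectSum.isInternal_submodule_of_iSupIndep_of_iSup_eq_top hD.indep hD.iSup_eq_top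
  have e := LinearEquiv.ofBijective (DirectSum.coeLinearMap D) hint
  have h := e.finrank_eq
  rw [Module.finrank_directSum] at h
  simp only [hD.finrank_eq, Finset.sum_const, Finset.card_univ, Fintype.card_fin, smul_eq_mul,
    Module.finrank_fintype_fun_eq_card] at h
  exact h.symm

/-- Let F be the field with 3 elements, m ≥ 6, Q the standard quadratic form on F^(2m+1) and Ω the commutator subgroup of its isometry group. Let D be a decomposition of F^(2m+1) into t pairwise orthogonal, pairwise Q-isometric 3-dimensional subspaces on which the polar form is non-degenerate. Then the elements of Ω permuting the members of D form a subgroup that is not maximal: some subgroup lies strictly between it and Ω. -/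
theorem result {F : Type*} [Field F] [Fintype F] (hq : Fintype.card F = 3) (m : ℕ) (hm : 6 ≤ m) {t : ℕ} (D : Fin t → Submodule F (Unit ⊕ (Fin m ⊕ Fin m) → F)) (hD : Cfsg.Geo.IsOrthogonalMDecomposition (Cfsg.quadFormOdd m F) 3 D) : ∃ K : Subgroup (Matrix.GeneralLinearGroup (Unit ⊕ (Fin m ⊕ Fin m)) F), Cfsg.Geo.decompositionStabilizer D ⊓ Cfsg.Geo.omegaGL (Cfsg.quadFormOdd m F) < K ∧ K < Cfsg.Geo.omegaGL (Cfsg.quadFormOdd m F) := by
  classical
  have h2 : (2 : F) ≠ 0 := Cfsg.Agent.S5667.two_ne_zero' hq
  have hQ : IsNondegenerateQuadraticForm (Cfsg.quadFormOdd m F) :=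
    Cfsg.Agent.S5676.isNondeg_quadFormOdd m h2
  have hcard := card_eq_of_mdecomp D hD.decomp.decomp
  have hc : Fintype.card (Unit ⊕ (Fin m ⊕ Fin m)) = 1 + (m + m) := by
    simp
  have ht : 3 ≤ t := by
    rw [hc] at hcard
    by_contra hlt
    rw [not_le] at hlt
    have : t * 3 ≤ 2 * 3 := Nat.mul_le_mul_right 3 (by omega)
    omega
  refine Cfsg.Agent.Helper97.QD.decomp_not_maximal hQ hq ht (by norm_num) (by norm_num) D hD ?_
  exact Cfsg.Agent.Helper97.QD.exists_frame_sub3 hQ hq _ (hD.decomp.decomp.finrank_eq _)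
    (hD.decomp.nondegenerate _)

end Cfsg.Agent.S5678
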