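import Cfsg.Statements.S5713
import Cfsg.Agent.Lib.Helper97.BabaiD
import Cfsg.Agent.Lib.Helper97.BabaiE
import Cfsg.Agent.Lib.Helper97.BabaiF

set_option autoImplicit false
open Cfsg

namespace Cfsg.Agent.S5713

open Cfsg.Agent.Helper97 Cfsg.Agent.Helper97.Babai

/-- The natural-number form of the bound: `n ≤ (2m+1)²` with `m` the number of moved points. -/
theorem nat_bound {G Ω : Type*} [Group G] [Finite G] [MulAction G Ω] [FaithfulSMul G Ω]
    [Fintype Ω] [DecidableEq Ω]
    (hprim : MulAction.IsPreprimitive G Ω)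
    (hA : ¬ alternatingGroup Ω ≤ (MulAction.toPermHom G Ω).range)
    (g : G) (hg : g ≠ 1) :
    Fintype.card Ω ≤ (2 * (Finset.univ.filter (fun z : Ω => g • z ≠ z)).card + 1) ^ 2 := by
  classical
  have : Fintype G := Fintype.ofFinite G
  set Δ := Finset.univ.filter (fun z : Ω => g • z ≠ z) with hΔ
  have hmemΔ : ∀ z, z ∈ Δ ↔ g • z ≠ z := by
    intro z
    rw [hΔ, Finset.mem_filter]
    exact ⟨fun h => h.2, fun h => ⟨Finset.mem_univ _, h⟩⟩
  obtain ⟨x, hx⟩ : ∃ x : Ω, g • x ≠ x := by
    by_contra hcon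
    push Not at hcon
    apply hg
    apply FaithfulSMul.eq_of_smul_eq_smul (α := Ω)
    intro a
    rw [hcon a, one_smul]
  have hxΔ : x ∈ Δ := (hmemΔ x).mpr hx
  have htr : ∀ a b : Ω, ∃ k : G, k • a = b := fun a b => MulAction.exists_smul_eq G a b
  by_cases h2 : ∃ p1 p2 q1 q2 : Ω, p1 ≠ p2 ∧ q1 ≠ q2 ∧ ¬ SC G (p1, p2) (q1, q2)
  · have hcore := babai_core htr
      (fun p₀ h0 S hne hcl => hconn_of_isPreprimitive p₀ h0 S hne hcl) h2 x (g • x) (Ne.symm hx)
    have hsub : Dset G x (g • x) ⊆ Δ := by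
      intro z hz
      rw [hmemΔ]
      exact fun hfix => not_mem_Dset_of_fixed g hfix hz
    have hle := Finset.card_le_card hsub
    calc Fintype.card Ω ≤ (2 * (Dset G x (g • x)).card + 1) ^ 2 := hcore
      _ ≤ (2 * Δ.card + 1) ^ 2 := by gcongr
  · push Not at h2
    have h2t : ∀ a b a' b' : Ω, a ≠ b → a' ≠ b' → ∃ k : G, k • a = a' ∧ k • b = b' := by
      intro a b a' b' hab hab'
      exact h2 a b a' b' hab hab'
    by_cases h1 : ∃ h : G, (Δ.filter (fun a => h • a ∈ Δ)).card = 1
    · exfalso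
      obtain ⟨h, hh⟩ := h1
      rw [Finset.card_eq_one] at hh
      obtain ⟨a, ha⟩ := hh
      have hfa : ∀ z, z ∈ Δ → h • z ∈ Δ → z = a := by
        intro z hz1 hz2
        have : z ∈ Δ.filter (fun a => h • a ∈ Δ) := Finset.mem_filter.mpr ⟨hz1, hz2⟩
        rw [ha] at this
        exact Finset.mem_singleton.mp this
      have ha' : a ∈ Δ ∧ h • a ∈ Δ := by
        have : a ∈ Δ.filter (fun a => h • a ∈ Δ) := by
          rw [ha]; exact Finset.mem_singleton_self a
        exact Finset.mem_filter.mp this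
      apply hA
      have hσ : ∀ z, MulAction.toPermHom G Ω g z = g • z := fun z => rfl
      have hτ : ∀ z, MulAction.toPermHom G Ω (h⁻¹ * g * h) z = h⁻¹ • g • h • z := fun z => by
        rw [MulAction.toPermHom_apply, MulAction.toPerm_apply, mul_smul, mul_smul]
      have h3 : (MulAction.toPermHom G Ω g * MulAction.toPermHom G Ω (h⁻¹ * g * h)
          * (MulAction.toPermHom G Ω g)⁻¹
          * (MulAction.toPermHom G Ω (h⁻¹ * g * h))⁻¹).IsThreeCycle := by
        apply BabaiF.comm_isThreeCycle _ _ a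
        · rw [hσ]; exact (hmemΔ a).mp ha'.1
        · rw [hτ]
          intro e
          apply (hmemΔ (h • a)).mp ha'.2
          rw [inv_smul_eq_iff] at e
          exact e
        · intro z hz1 hz2
          rw [hσ] at hz1
          rw [hτ] at hz2
          apply hfa z ((hmemΔ z).mpr hz1)
          rw [hmemΔ]
          intro e
          apply hz2
          rw [e, inv_smul_smul]
      have hmem : (MulAction.toPermHom G Ω g * MulAction.toPermHom G Ω (h⁻¹ * g * h)
          * (MulAction.toPermHom G Ω g)⁻¹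
          * (MulAction.toPermHom G Ω (h⁻¹ * g * h))⁻¹) ∈ (MulAction.toPermHom G Ω).range := by
        have m1 : MulAction.toPermHom G Ω g ∈ (MulAction.toPermHom G Ω).range := ⟨g, rfl⟩
        have m2 : MulAction.toPermHom G Ω (h⁻¹ * g * h) ∈ (MulAction.toPermHom G Ω).range :=
          ⟨_, rfl⟩
        exact mul_mem (mul_mem (mul_mem m1 m2) (inv_mem m1)) (inv_mem m2)
      have hprim' : MulAction.IsPreprimitive (MulAction.toPermHom G Ω).range Ω := by
        let φ : G → (MulAction.toPermHom G Ω).range := (MulAction.toPermHom G Ω).rangeRestrict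
        let f : Ω →ₑ[φ] Ω := { toFun := id, map_smul' := fun m x => rfl }
        exact MulAction.IsPreprimitive.of_surjective (f := f) Function.surjective_id
      exact Equiv.Perm.alternatingGroup_le_of_isPreprimitive_of_isThreeCycle_mem hprim' h3 hmem
    · push Not at h1
      have hb := BabaiE.two_trans_bound h2t Δ ⟨x, hxΔ⟩ (fun h => by convert h1 h)
      have hm : 1 ≤ Δ.card := Finset.card_pos.mpr ⟨x, hxΔ⟩
      obtain ⟨k, hk⟩ : ∃ k, Δ.card = k + 1 := ⟨Δ.card - 1, by omega⟩
      rw [hk] at hb ⊢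
      rw [Nat.add_sub_cancel] at hb
      have : Fintype.card Ω ≤ k ^ 2 + 1 := by omega
      nlinarith

theorem result {G Ω : Type*} [Group G] [Finite G] [MulAction G Ω] [FaithfulSMul G Ω] [Fintype Ω] [DecidableEq Ω]
    (hprim : MulAction.IsPreprimitive G Ω)
    (hA : ¬ alternatingGroup Ω ≤ (MulAction.toPermHom G Ω).range)
    (g : G) (hg : g ≠ 1) :
    (Real.sqrt (Fintype.card Ω) - 1) / 2 ≤ (Fintype.card Ω : ℝ) - Nat.card (MulAction.fixedBy Ω g) := by
  classical
  have hnat := nat_bound hprim hA g hg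
  set m := (Finset.univ.filter (fun z : Ω => g • z ≠ z)).card with hm
  have hfix : Nat.card (MulAction.fixedBy Ω g) + m = Fintype.card Ω := by
    have e1 : Nat.card (MulAction.fixedBy Ω g)
        = (Finset.univ.filter (fun z : Ω => g • z = z)).card := by
      rw [Nat.card_eq_fintype_card, ← Fintype.card_subtype]
      rfl
    rw [e1, hm]
    exact Finset.card_filter_add_card_filter_not (s := Finset.univ) (fun z : Ω => g • z = z)
  have hfixR : (Nat.card (MulAction.fixedBy Ω g) : ℝ) + m = Fintype.card Ω := by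
    exact_mod_cast hfix
  have hnatR : (Fintype.card Ω : ℝ) ≤ (2 * (m : ℝ) + 1) ^ 2 := by
    exact_mod_cast hnat
  have hsq : Real.sqrt (Fintype.card Ω) ≤ 2 * (m : ℝ) + 1 := by
    rw [Real.sqrt_le_iff]
    exact ⟨by positivity, hnatR⟩
  linarith

end Cfsg.Agent.S5713
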