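import Cfsg.Statements.S5726

set_option autoImplicit false
open Cfsg

namespace Cfsg.Agent.S5726

/-- A Sylow `p`-subgroup is transitive on a transitive `G`-set of `p`-power size: here, the orbit of `ω` under `P`
is everything. -/
theorem sylow_orbit_eq_univ {G Ω : Type*} [Group G] [Finite G] [MulAction G Ω] [Finite Ω]
    [MulAction.IsPretransitive G Ω] (p k : ℕ) [Fact p.Prime] (hΩ : Nat.card Ω = p ^ k)
    (P : Sylow p G) (ω : Ω) : MulAction.orbit (P : Subgroup G) ω = Set.univ := by
  classical
  have hstab : MulAction.stabilizer (P : Subgroup G) ω = (MulAction.stabilizer G ω).subgroupOf (P : Subgroup G) := by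
    ext x
    simp only [MulAction.mem_stabilizer_iff, Subgroup.mem_subgroupOf]
    rfl
  have hidx : (MulAction.stabilizer G ω).index = p ^ k := by
    rw [MulAction.index_stabilizer_of_transitive, hΩ]
  -- p^k divides relIndex
  have h1 : (MulAction.stabilizer G ω ⊓ (P : Subgroup G)).relIndex (P : Subgroup G) * (P : Subgroup G).index
      = (MulAction.stabilizer G ω ⊓ (P : Subgroup G)).index := Subgroup.relIndex_mul_index inf_le_right
  have h2 : (MulAction.stabilizer G ω ⊓ (P : Subgroup G)).relIndex (MulAction.stabilizer G ω) * (MulAction.stabilizer G ω).index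
      = (MulAction.stabilizer G ω ⊓ (P : Subgroup G)).index := Subgroup.relIndex_mul_index inf_le_left
  rw [Subgroup.inf_relIndex_right] at h1
  have hdvd : p ^ k ∣ (MulAction.stabilizer G ω).relIndex (P : Subgroup G) * (P : Subgroup G).index := by
    rw [h1, ← h2, hidx]
    exact dvd_mul_left _ _
  have hcop : Nat.Coprime (p ^ k) (P : Subgroup G).index := by
    apply Nat.Coprime.pow_left
    exact (Nat.Prime.coprime_iff_not_dvd Fact.out).mpr P.not_dvd_index
  have hdvd' : p ^ k ∣ (MulAction.stabilizer G ω).relIndex (P : Subgroup G) := hcop.dvd_of_dvd_mul_right hdvd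
  have hcard : (MulAction.stabilizer (P : Subgroup G) ω).index = (MulAction.orbit (P : Subgroup G) ω).ncard :=
    MulAction.index_stabilizer _ _
  rw [hstab] at hcard
  change (MulAction.stabilizer G ω).relIndex (P : Subgroup G) = _ at hcard
  rw [hcard] at hdvd'
  have hpos : 0 < (MulAction.orbit (P : Subgroup G) ω).ncard := by
    rw [Set.ncard_pos (Set.toFinite _)]
    exact ⟨ω, MulAction.mem_orbit_self _⟩
  have hle : p ^ k ≤ (MulAction.orbit (P : Subgroup G) ω).ncard := Nat.le_of_dvd hpos hdvd'
  apply Set.eq_of_subset_of_ncard_le (Set.subset_univ _) _ (Set.toFinite _)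
  rw [Set.ncard_univ, hΩ]
  exact hle

/-- If a finite group acts faithfully and transitively on a set with p^k elements, p a prime and k ≥ 1, then some element of order p fixes no point. -/
theorem result {G Ω : Type*} [Group G] [Finite G] [MulAction G Ω] [FaithfulSMul G Ω] [Fintype Ω] (htr : MulAction.IsPretransitive G Ω)
    (p k : ℕ) (hp : p.Prime) (hk : 1 ≤ k) (hΩ : Fintype.card Ω = p ^ k) :
    ∃ g : G, orderOf g = p ∧ ∀ ω : Ω, g • ω ≠ ω := by
  classical
  have : Fact p.Prime := Fact.mk hp
  have hΩ' : Nat.card Ω = p ^ k := by rw [Nat.card_eq_fintype_card, hΩ]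
  obtain ⟨P⟩ := (inferInstance : Nonempty (Sylow p G))
  have horb := fun ω => sylow_orbit_eq_univ p k hΩ' P ω
  -- Ω is nonempty, P is nontrivial
  have hΩne : Nonempty Ω := by
    have : 0 < Fintype.card Ω := by rw [hΩ]; exact pow_pos hp.pos k
    exact Fintype.card_pos_iff.mp this
  obtain ⟨ω₀⟩ := hΩne
  have hPnt : Nontrivial (P : Subgroup G) := by
    by_contra hnt
    rw [not_nontrivial_iff_subsingleton] at hnt
    have h1 : MulAction.orbit (P : Subgroup G) ω₀ = {ω₀} := by
      ext x
      constructor
      · rintro ⟨g, rfl⟩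
        have : g = 1 := Subsingleton.elim _ _
        simp [this]
      · rintro rfl
        exact MulAction.mem_orbit_self _
    have h2 := horb ω₀
    rw [h1] at h2
    have h3 : Nat.card Ω = 1 := by
      rw [← Set.ncard_univ, ← h2, Set.ncard_singleton]
    rw [hΩ'] at h3
    have h4 : p ^ k ≥ p ^ 1 := Nat.pow_le_pow_right hp.pos hk
    rw [pow_one] at h4
    have := hp.two_le
    omega
  have hcnt : Nontrivial (Subgroup.center (P : Subgroup G)) := P.2.center_nontrivial
  -- an element of order p in the center
  have hpg : IsPGroup p (Subgroup.center (P : Subgroup G)) := P.2.to_subgroup _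
  have hdvd : p ∣ Nat.card (Subgroup.center (P : Subgroup G)) := by
    obtain ⟨n, hn⟩ := IsPGroup.iff_card.mp hpg
    rw [hn]
    have : n ≠ 0 := by
      rintro rfl
      have h1 : Nat.card (Subgroup.center (P : Subgroup G)) = 1 := by simpa using hn
      have := Finite.one_lt_card_iff_nontrivial.mpr hcnt
      omega
    exact dvd_pow_self p this
  obtain ⟨z, hz⟩ := exists_prime_orderOf_dvd_card' p hdvd
  refine ⟨((z : (P : Subgroup G)) : G), ?_, ?_⟩
  · rw [Subgroup.orderOf_coe, Subgroup.orderOf_coe]
    exact hz
  · intro ω hω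
    -- z fixes everything
    have hall : ∀ ω' : Ω, ((z : (P : Subgroup G)) : G) • ω' = (1 : G) • ω' := by
      intro ω'
      have hmem : ω' ∈ MulAction.orbit (P : Subgroup G) ω := by rw [horb ω]; trivial
      obtain ⟨x, rfl⟩ := hmem
      have hcomm : (z : (P : Subgroup G)) * x = x * (z : (P : Subgroup G)) :=
        (Subgroup.mem_center_iff.mp z.2 x).symm
      rw [one_smul]
      change ((z : (P : Subgroup G)) : G) • ((x : G) • ω) = (x : G) • ω
      rw [smul_smul, ← Subgroup.coe_mul, hcomm, Subgroup.coe_mul, ← smul_smul, hω]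
    have h1 : ((z : (P : Subgroup G)) : G) = 1 := FaithfulSMul.eq_of_smul_eq_smul hall
    have h2 : orderOf ((z : (P : Subgroup G)) : G) = p := by
      rw [Subgroup.orderOf_coe, Subgroup.orderOf_coe]; exact hz
    rw [h1, orderOf_one] at h2
    exact hp.one_lt.ne h2

end Cfsg.Agent.S5726
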