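import Cfsg.Statements.S5727
import Cfsg.Agent.S5726

set_option autoImplicit false
open Cfsg

namespace Cfsg.Agent.S5727

/-- For a transitive action and a Sylow `p`-subgroup `P`, every `p`-power dividing the degree divides every
`P`-orbit size. -/
theorem sylow_orbit_dvd {G Ω : Type*} [Group G] [Finite G] [MulAction G Ω] [Finite Ω]
    [MulAction.IsPretransitive G Ω] (p k : ℕ) [Fact p.Prime] (hΩ : p ^ k ∣ Nat.card Ω)
    (P : Sylow p G) (ω : Ω) : p ^ k ∣ (MulAction.orbit (P : Subgroup G) ω).ncard := by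
  classical
  have hstab : MulAction.stabilizer (P : Subgroup G) ω = (MulAction.stabilizer G ω).subgroupOf (P : Subgroup G) := by
    ext x
    simp only [MulAction.mem_stabilizer_iff, Subgroup.mem_subgroupOf]
    rfl
  have hidx : p ^ k ∣ (MulAction.stabilizer G ω).index := by
    rw [MulAction.index_stabilizer_of_transitive]; exact hΩ
  have h1 : (MulAction.stabilizer G ω ⊓ (P : Subgroup G)).relIndex (P : Subgroup G) * (P : Subgroup G).index
      = (MulAction.stabilizer G ω ⊓ (P : Subgroup G)).index := Subgroup.relIndex_mul_index inf_le_right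
  have h2 : (MulAction.stabilizer G ω ⊓ (P : Subgroup G)).relIndex (MulAction.stabilizer G ω) * (MulAction.stabilizer G ω).index
      = (MulAction.stabilizer G ω ⊓ (P : Subgroup G)).index := Subgroup.relIndex_mul_index inf_le_left
  rw [Subgroup.inf_relIndex_right] at h1
  have hdvd : p ^ k ∣ (MulAction.stabilizer G ω).relIndex (P : Subgroup G) * (P : Subgroup G).index := by
    rw [h1, ← h2]
    exact Dvd.dvd.mul_left hidx _
  have hcop : Nat.Coprime (p ^ k) (P : Subgroup G).index := by
    apply Nat.Coprime.pow_left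
    exact (Nat.Prime.coprime_iff_not_dvd Fact.out).mpr P.not_dvd_index
  have hdvd' : p ^ k ∣ (MulAction.stabilizer G ω).relIndex (P : Subgroup G) := hcop.dvd_of_dvd_mul_right hdvd
  have hcard : (MulAction.stabilizer (P : Subgroup G) ω).index = (MulAction.orbit (P : Subgroup G) ω).ncard :=
    MulAction.index_stabilizer _ _
  rw [hstab] at hcard
  change (MulAction.stabilizer G ω).relIndex (P : Subgroup G) = _ at hcard
  rw [hcard] at hdvd'
  exact hdvd'

/-- Elements of a `p`-subgroup acting faithfully on fewer than `p ^ 2` points have `p`-th power one. -/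
theorem pow_p_eq_one {G Ω : Type*} [Group G] [MulAction G Ω] [FaithfulSMul G Ω] [Fintype Ω]
    (p : ℕ) (hp : p.Prime) (hΩ : Fintype.card Ω < p ^ 2) (x : G) (j : ℕ) (hx : orderOf x = p ^ j) :
    x ^ p = 1 := by
  apply FaithfulSMul.eq_of_smul_eq_smul (α := Ω)
  intro ω
  rw [one_smul, MulAction.pow_smul_eq_iff_period_dvd]
  have h1 : MulAction.period x ω ∣ p ^ j := hx ▸ MulAction.period_dvd_orderOf x ω
  obtain ⟨i, -, hi⟩ := (Nat.dvd_prime_pow hp).mp h1
  have h2 : MulAction.period x ω ≤ Fintype.card Ω := by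
    rw [MulAction.period_eq_minimalPeriod]
    exact Function.minimalPeriod_le_card
  rw [hi] at h2 ⊢
  have h3 : p ^ i < p ^ 2 := lt_of_le_of_lt h2 hΩ
  have h4 : i < 2 := (Nat.pow_lt_pow_iff_right hp.one_lt).mp h3
  have h5 : i ≤ 1 := by omega
  calc p ^ i ∣ p ^ 1 := pow_dvd_pow p h5
    _ = p := pow_one p

/-- The number of fixed points of an element of `p`-power order is congruent to the degree. -/
theorem card_fixedBy_dvd {G Ω : Type*} [Group G] [MulAction G Ω] [Fintype Ω] [DecidableEq Ω]
    (p : ℕ) [Fact p.Prime] (hΩ : p ∣ Fintype.card Ω) (x : G) (j : ℕ) (hx : x ^ p ^ j = 1) :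
    p ∣ Nat.card (MulAction.fixedBy Ω x) := by
  have h1 : (MulAction.toEndHom x : Function.End Ω) ^ p ^ j = 1 := by
    rw [← map_pow, hx, map_one]
  have h2 := Equiv.Perm.card_fixedPoints_modEq (p := p) h1
  simp only [Fintype.card_eq_nat_card] at h2 hΩ
  have h3 : Nat.card (Function.fixedPoints (MulAction.toEndHom x : Function.End Ω))
      = Nat.card (MulAction.fixedBy Ω x) := by
    apply Nat.card_congr
    exact Equiv.setCongr (by ext ω; rfl)
  rw [h3] at h2
  exact (Nat.modEq_zero_iff_dvd.mp (h2.symm.trans (Nat.modEq_zero_iff_dvd.mpr hΩ)))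

/-- The case `m < p`. -/
theorem case_lt {G Ω : Type*} [Group G] [Finite G] [MulAction G Ω] [FaithfulSMul G Ω] [Fintype Ω]
    (htr : MulAction.IsPretransitive G Ω)
    (p m : ℕ) (hp : p.Prime) (hm : 1 ≤ m) (hmp : m < p) (hΩ : Fintype.card Ω = m * p) :
    ∃ g : G, orderOf g = p ∧ ∀ ω : Ω, g • ω ≠ ω := by
  classical
  have : Fact p.Prime := Fact.mk hp
  have hΩ' : Nat.card Ω = m * p := by rw [Nat.card_eq_fintype_card, hΩ]
  obtain ⟨P⟩ := (inferInstance : Nonempty (Sylow p G))
  have : Fintype (P : Subgroup G) := Fintype.ofFinite _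
  have hlt : Fintype.card Ω < p ^ 2 := by
    rw [hΩ, pow_two]
    exact Nat.mul_lt_mul_of_pos_right hmp hp.pos
  -- F1: p divides all orbit sizes
  have F1 : ∀ ω : Ω, p ∣ Nat.card (MulAction.orbit (P : Subgroup G) ω) := by
    intro ω
    have := sylow_orbit_dvd p 1 (by rw [pow_one, hΩ']; exact dvd_mul_left p m) P ω
    rw [pow_one] at this
    rwa [Nat.card_coe_set_eq]
  -- F2: exponent p
  have F2 : ∀ x : (P : Subgroup G), x ≠ 1 → orderOf x = p := by
    intro x hx
    obtain ⟨j, hj⟩ := (IsPGroup.iff_orderOf.mp P.2) x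
    have h1 : orderOf (x : G) = p ^ j := by rw [Subgroup.orderOf_coe]; exact hj
    have h2 : (x : G) ^ p = 1 := pow_p_eq_one (Ω := Ω) p hp hlt (x : G) j h1
    have h3 : x ^ p = 1 := by
      apply Subtype.ext
      rw [Subgroup.coe_pow, h2, Subgroup.coe_one]
    have h4 : orderOf x ∣ p := orderOf_dvd_of_pow_eq_one h3
    rcases (Nat.dvd_prime hp).mp h4 with h5 | h5
    · exact absurd (orderOf_eq_one_iff.mp h5) hx
    · exact h5
  -- F3: number of orbits times p is at most m * p
  have F3 : Fintype.card (Quotient (MulAction.orbitRel (P : Subgroup G) Ω)) * p ≤ m * p := by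
    have e := MulAction.selfEquivSigmaOrbits (P : Subgroup G) Ω
    have h1 : Nat.card Ω = ∑ q : Quotient (MulAction.orbitRel (P : Subgroup G) Ω),
        Nat.card (MulAction.orbit (P : Subgroup G) q.out) := by
      rw [Nat.card_congr e, Nat.card_sigma]
    have h2 : ∀ q : Quotient (MulAction.orbitRel (P : Subgroup G) Ω),
        p ≤ Nat.card (MulAction.orbit (P : Subgroup G) q.out) := by
      intro q
      apply Nat.le_of_dvd _ (F1 _)
      rw [Nat.card_pos_iff]
      exact ⟨⟨⟨q.out, MulAction.mem_orbit_self _⟩⟩, inferInstance⟩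
    have h3 := Finset.card_nsmul_le_sum Finset.univ
      (fun q : Quotient (MulAction.orbitRel (P : Subgroup G) Ω) =>
        Nat.card (MulAction.orbit (P : Subgroup G) q.out)) p (fun q _ => h2 q)
    rw [← h1, hΩ', smul_eq_mul, Finset.card_univ] at h3
    exact h3
  have F3' : Fintype.card (Quotient (MulAction.orbitRel (P : Subgroup G) Ω)) ≤ m :=
    Nat.le_of_mul_le_mul_right F3 hp.pos
  -- F4: Burnside
  have F4 := MulAction.sum_card_fixedBy_eq_card_orbits_mul_card_group (P : Subgroup G) Ω
  -- F5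
  have F5 : ∀ x : (P : Subgroup G), p ∣ Fintype.card (MulAction.fixedBy Ω x) := by
    intro x
    obtain ⟨j, hj⟩ := P.2 x
    rw [← Nat.card_eq_fintype_card]
    exact card_fixedBy_dvd p (by rw [hΩ]; exact dvd_mul_left p m) x j hj
  -- main
  by_contra hcon
  push Not at hcon
  have F6 : ∀ x : (P : Subgroup G), x ≠ 1 → p ≤ Fintype.card (MulAction.fixedBy Ω x) := by
    intro x hx
    obtain ⟨ω, hω⟩ := hcon (x : G) (by rw [Subgroup.orderOf_coe]; exact F2 x hx)
    apply Nat.le_of_dvd _ (F5 x)
    rw [Fintype.card_pos_iff]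
    exact ⟨⟨ω, hω⟩⟩
  have F7 : Fintype.card (MulAction.fixedBy Ω (1 : (P : Subgroup G))) = m * p := by
    rw [← hΩ]
    apply Fintype.card_congr
    exact (Equiv.subtypeUnivEquiv (fun ω => by simp))
  have F8 : m * p + (Fintype.card (P : Subgroup G) - 1) * p
      ≤ ∑ g : (P : Subgroup G), Fintype.card (MulAction.fixedBy Ω g) := by
    rw [← Finset.add_sum_erase Finset.univ _ (Finset.mem_univ (1 : (P : Subgroup G))), F7]
    apply Nat.add_le_add_left
    have h3 := Finset.card_nsmul_le_sum (Finset.univ.erase (1 : (P : Subgroup G)))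
      (fun g : (P : Subgroup G) => Fintype.card (MulAction.fixedBy Ω g)) p
      (fun g hg => F6 g (Finset.ne_of_mem_erase hg))
    rw [Finset.card_erase_of_mem (Finset.mem_univ _), Finset.card_univ, smul_eq_mul] at h3
    exact h3
  rw [F4] at F8
  have hPpos : 0 < Fintype.card (P : Subgroup G) := Fintype.card_pos
  have F9 : Fintype.card (Quotient (MulAction.orbitRel (P : Subgroup G) Ω)) * Fintype.card (P : Subgroup G)
      ≤ m * Fintype.card (P : Subgroup G) := Nat.mul_le_mul_right _ F3'
  have F10 : m * p + (Fintype.card (P : Subgroup G) - 1) * p ≤ m * Fintype.card (P : Subgroup G) :=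
    le_trans F8 F9
  -- arithmetic contradiction
  obtain ⟨c, hc⟩ : ∃ c, Fintype.card (P : Subgroup G) = c + 1 := ⟨_, (Nat.succ_pred_eq_of_pos hPpos).symm⟩
  rw [hc] at F10
  simp only [Nat.add_sub_cancel] at F10
  obtain ⟨d, hd⟩ : ∃ d, p = m + d + 1 := ⟨p - m - 1, by omega⟩
  subst hd
  nlinarith

/-- If a finite group acts faithfully and transitively on a set with m·p elements, where p is a prime and 1 ≤ m ≤ p, then some element of order p fixes no point. -/
theorem result {G Ω : Type*} [Group G] [Finite G] [MulAction G Ω] [FaithfulSMul G Ω] [Fintype Ω] (htr : MulAction.IsPretransitive G Ω)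
    (p m : ℕ) (hp : p.Prime) (hm : 1 ≤ m) (hmp : m ≤ p) (hΩ : Fintype.card Ω = m * p) :
    ∃ g : G, orderOf g = p ∧ ∀ ω : Ω, g • ω ≠ ω := by
  rcases lt_or_eq_of_le hmp with h | h
  · exact case_lt htr p m hp hm h hΩ
  · subst h
    exact Cfsg.Agent.S5726.result htr m 2 hp (by norm_num) (by rw [hΩ, pow_two])

end Cfsg.Agent.S5727
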