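import Cfsg.Statements.S5728
import Mathlib

set_option autoImplicit false
open Cfsg

namespace Cfsg.Agent.S5728

/-- An element of a field of characteristic `p` with `c ^ p = c` comes from the prime field. -/
theorem exists_algebraMap_eq (p : ℕ) [Fact p.Prime] (K : Type*) [Field K] [Algebra (ZMod p) K] [CharP K p]
    (c : K) (hc : c ^ p = c) : ∃ a : ZMod p, algebraMap (ZMod p) K a = c := by
  have h1 : c ∈ (⊥ : Subfield K) := (Subfield.mem_bot_iff_pow_eq_self K p).mpr hc
  rw [Subfield.bot_eq_of_zMod_algebra p] at h1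
  exact h1

/-- translation by `-y₀` lies in the affine group -/
theorem addRight_mem (K : Type) [Field K] (t : K) : Equiv.addRight t ∈ Cfsg.affineGroup K :=
  ⟨1, t, fun y => by simp⟩

theorem mulLeft_mem (K : Type) [Field K] (t : K) (ht : t ≠ 0) : Equiv.mulLeft₀ t ht ∈ Cfsg.affineGroup K :=
  ⟨Units.mk0 t ht, 0, fun y => by simp⟩

theorem result (p s : ℕ) [Fact p.Prime] (hs : p = 2 ^ s - 1)
    (g : Equiv.Perm (GaloisField p 2)) (hg : g ∈ Cfsg.affineGroup (GaloisField p 2)) (hord : (orderOf g).Prime) :
    ∃ x ∈ Cfsg.affineGroup (GaloisField p 2), ∃ a b : ZMod p, a ≠ 0 ∧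
      ∀ y : GaloisField p 2, (x * g * x⁻¹) y = algebraMap (ZMod p) (GaloisField p 2) a * y + algebraMap (ZMod p) (GaloisField p 2) b := by
  classical
  have hp : p.Prime := Fact.out
  obtain ⟨c, d, hgf⟩ := hg
  have hg1 : g ≠ 1 := by
    intro h
    rw [h, orderOf_one] at hord
    exact Nat.not_prime_one hord
  by_cases hc1 : (c : GaloisField p 2) = 1
  · -- translation
    have hd : d ≠ 0 := by
      intro hd
      apply hg1
      ext y
      rw [hgf, hc1, hd]; simp
    refine ⟨Equiv.mulLeft₀ d⁻¹ (inv_ne_zero hd), mulLeft_mem _ _ _, 1, 1, one_ne_zero, fun y => ?_⟩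
    rw [Equiv.Perm.mul_apply, Equiv.Perm.mul_apply, Equiv.Perm.inv_def, hgf, hc1]
    simp only [Equiv.mulLeft₀_symm_apply, Equiv.mulLeft₀_apply, map_one, one_mul, inv_inv]
    field_simp
  · -- fixed point y₀
    have hc1' : (1 - (c : GaloisField p 2)) ≠ 0 := fun h => hc1 (sub_eq_zero.mp h).symm
    set y₀ : GaloisField p 2 := d / (1 - c) with hy₀
    have hfix : (c : GaloisField p 2) * y₀ + d = y₀ := by
      rw [hy₀]; field_simp; ring
    set x : Equiv.Perm (GaloisField p 2) := Equiv.addRight (-y₀) with hx
    have hconj : ∀ y, (x * g * x⁻¹) y = (c : GaloisField p 2) * y := by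
      intro y
      rw [Equiv.Perm.mul_apply, Equiv.Perm.mul_apply, Equiv.Perm.inv_def, hgf]
      simp only [hx, Equiv.addRight_symm, Equiv.coe_addRight, neg_neg]
      linear_combination hfix
    have hpow : ∀ k : ℕ, ∀ y, ((x * g * x⁻¹) ^ k) y = (c : GaloisField p 2) ^ k * y := by
      intro k
      induction k with
      | zero => intro y; simp
      | succ k ih =>
        intro y
        rw [pow_succ, Equiv.Perm.mul_apply, hconj, ih]
        ring
    set r := orderOf g with hr
    have hcr : (c : GaloisField p 2) ^ r = 1 := by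
      have h1 : (x * g * x⁻¹) ^ r = 1 := by
        rw [conj_pow, hr, pow_orderOf_eq_one, mul_one, mul_inv_cancel]
      have h2 := hpow r 1
      rw [h1] at h2
      simpa using h2.symm
    have hc0 : (c : GaloisField p 2) ≠ 0 := c.ne_zero
    -- order of c is r
    have hordc : orderOf (c : GaloisField p 2) = r := by
      have h1 : orderOf (c : GaloisField p 2) ∣ r := orderOf_dvd_of_pow_eq_one hcr
      rcases (Nat.dvd_prime hord).mp h1 with h2 | h2
      · exact absurd (orderOf_eq_one_iff.mp h2) hc1
      · exact h2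
    have : Fintype (GaloisField p 2) := Fintype.ofFinite _
    have hcard : Fintype.card (GaloisField p 2) = p ^ 2 := by
      rw [← Nat.card_eq_fintype_card, GaloisField.card p 2 (by norm_num)]
    have hcq : (c : GaloisField p 2) ^ (p ^ 2 - 1) = 1 := by
      have := FiniteField.pow_card_sub_one_eq_one (c : GaloisField p 2) hc0
      rwa [hcard] at this
    have hrdvd : r ∣ p ^ 2 - 1 := by
      rw [← hordc]; exact orderOf_dvd_of_pow_eq_one hcq
    have hs1 : 1 ≤ 2 ^ s := Nat.one_le_two_pow
    have hfac : p ^ 2 - 1 = (p - 1) * 2 ^ s := by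
      have h2 : p + 1 = 2 ^ s := by omega
      rw [← h2]
      have : 1 ≤ p := hp.one_le
      obtain ⟨k, rfl⟩ : ∃ k, p = k + 1 := ⟨p - 1, by omega⟩
      simp only [Nat.add_sub_cancel]
      have : (k + 1) ^ 2 = k * (k + 1 + 1) + 1 := by ring
      rw [this, Nat.add_sub_cancel]
    rw [hfac] at hrdvd
    have hcp : (c : GaloisField p 2) ^ p = c := by
      rcases (Nat.Prime.dvd_mul hord).mp hrdvd with h1 | h1
      · -- r ∣ p - 1
        obtain ⟨k, hk⟩ := h1
        have h2 : (c : GaloisField p 2) ^ (p - 1) = 1 := by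
          rw [hk, pow_mul, hcr, one_pow]
        have h3 : (c : GaloisField p 2) ^ (p - 1 + 1) = c := by rw [pow_succ, h2, one_mul]
        have h4 : p - 1 + 1 = p := by have := hp.one_le; omega
        rwa [h4] at h3
      · -- r = 2
        have h2 : r ∣ 2 := hord.dvd_of_dvd_pow h1
        have h3 : r = 2 := (Nat.prime_dvd_prime_iff_eq hord Nat.prime_two).mp h2
        rw [h3] at hcr
        have h4 : ((c : GaloisField p 2) - 1) * (c + 1) = 0 := by ring_nf; rw [hcr]; ring
        rcases mul_eq_zero.mp h4 with h5 | h5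
        · exact absurd (sub_eq_zero.mp h5) hc1
        · have h6 : (c : GaloisField p 2) = -1 := eq_neg_of_add_eq_zero_left h5
          rw [h6]
          rcases hp.eq_two_or_odd' with h7 | h7
          · -- p = 2: then 2^s = 3 impossible
            exfalso
            have h8 : 2 ^ s = 3 := by omega
            rcases s with _ | _ | s
            · simp at h8
            · simp at h8
            · have : 4 ∣ 2 ^ (s + 1 + 1) := ⟨2 ^ s, by ring⟩
              omega
          · exact h7.neg_one_pow
    obtain ⟨a, ha⟩ := exists_algebraMap_eq p (GaloisField p 2) c hcp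
    refine ⟨x, addRight_mem _ _, a, 0, ?_, fun y => ?_⟩
    · rintro rfl
      rw [map_zero] at ha
      exact hc0 ha.symm
    · rw [hconj, ha, map_zero, add_zero]

end Cfsg.Agent.S5728
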