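import Cfsg.Statements.S5729

set_option autoImplicit false
open Cfsg

namespace Cfsg.Agent.S5729

/-- Burnside's lemma with `Nat.card`. -/
theorem burnside_nat (G X : Type*) [Group G] [MulAction G X] [Fintype G] [Finite X] :
    ∑ g : G, Nat.card (MulAction.fixedBy X g)
      = Nat.card (Quotient (MulAction.orbitRel G X)) * Nat.card G := by
  classical
  have : Fintype X := Fintype.ofFinite X
  have h := MulAction.sum_card_fixedBy_eq_card_orbits_mul_card_group G X
  simp only [Fintype.card_eq_nat_card] at h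
  exact h

theorem card_fixedBy_prod {G Ω : Type*} [Group G] [MulAction G Ω] (g : G) :
    Nat.card (MulAction.fixedBy (Ω × Ω) g) = Nat.card (MulAction.fixedBy Ω g) ^ 2 := by
  have h : MulAction.fixedBy (Ω × Ω) g = (MulAction.fixedBy Ω g) ×ˢ (MulAction.fixedBy Ω g) := by
    ext ⟨a, b⟩
    simp [MulAction.mem_fixedBy, Prod.ext_iff]
  rw [h, Nat.card_congr (Equiv.Set.prod _ _), Nat.card_prod, sq]

theorem two_le_card_orbits_prod {G Ω : Type*} [Group G] [MulAction G Ω] [Finite Ω] (a b : Ω) (hab : a ≠ b) :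
    2 ≤ Nat.card (Quotient (MulAction.orbitRel G (Ω × Ω))) := by
  have hne : (Quotient.mk'' (a, a) : Quotient (MulAction.orbitRel G (Ω × Ω))) ≠ Quotient.mk'' (a, b) := by
    intro h
    rw [Quotient.eq''] at h
    obtain ⟨g, hg⟩ := h
    simp only [Prod.smul_mk, Prod.mk.injEq] at hg
    exact hab (MulAction.injective g (hg.1.trans hg.2.symm))
  have : Nontrivial (Quotient (MulAction.orbitRel G (Ω × Ω))) := ⟨⟨_, _, hne⟩⟩
  exact Finite.one_lt_card_iff_nontrivial.mpr this

/-- The pointwise inequality: for `0 ≤ F ≤ n`, `F² + n ≤ (n+1) F + n [F = 0]`. -/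
theorem pointwise (n F : ℕ) (hF : F ≤ n) :
    F ^ 2 + n ≤ (n + 1) * F + n * (if F = 0 then 1 else 0) := by
  by_cases h : F = 0
  · subst h; simp
  · rw [if_neg h]
    obtain ⟨c, rfl⟩ : ∃ c, F = c + 1 := ⟨F - 1, by omega⟩
    obtain ⟨d, rfl⟩ : ∃ d, n = c + 1 + d := ⟨n - (c + 1), by omega⟩
    nlinarith

theorem pointwise_eq (n F : ℕ) (hF : F ≤ n) (h0 : F ≠ 0)
    (h : F ^ 2 + n = (n + 1) * F) : F = 1 ∨ F = n := by
  obtain ⟨c, rfl⟩ : ∃ c, F = c + 1 := ⟨F - 1, by omega⟩
  obtain ⟨d, rfl⟩ : ∃ d, n = c + 1 + d := ⟨n - (c + 1), by omega⟩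
  have h2 : c * d = 0 := by nlinarith
  rcases Nat.mul_eq_zero.mp h2 with h3 | h3
  · left; omega
  · right; omega

theorem result {G Ω : Type*} [Group G] [Finite G] [MulAction G Ω] [FaithfulSMul G Ω] [Fintype Ω] (htr : MulAction.IsPretransitive G Ω) (hn : 3 ≤ Fintype.card Ω) :
    ((MulAction.IsPretransitive G Ω ∧ (∃ g : G, g ≠ 1 ∧ ∃ ω : Ω, g • ω = ω) ∧ ∀ g : G, g ≠ 1 → Nat.card (MulAction.fixedBy Ω g) ≤ 1) ∧ Nat.card G = Fintype.card Ω * (Fintype.card Ω - 1) ∧ Fintype.card Ω * Nat.card {g : G // ∀ ω : Ω, g • ω ≠ ω} = Nat.card G) ∨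
    Nat.card G < Fintype.card Ω * Nat.card {g : G // ∀ ω : Ω, g • ω ≠ ω} := by
  classical
  have : Fintype G := Fintype.ofFinite G
  set n := Fintype.card Ω with hn_def
  set N := Nat.card G with hN_def
  have hnΩ : Nat.card Ω = n := Nat.card_eq_fintype_card
  have hNpos : 0 < N := Nat.card_pos
  -- two distinct points
  obtain ⟨a, b, hab⟩ : ∃ a b : Ω, a ≠ b := by
    have : 1 < Fintype.card Ω := by omega
    exact Fintype.one_lt_card_iff.mp this
  have : Nonempty Ω := ⟨a⟩
  let F : G → ℕ := fun g => Nat.card (MulAction.fixedBy Ω g)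
  let δ : G → ℕ := fun g => if F g = 0 then 1 else 0
  have hFle : ∀ g, F g ≤ n := by
    intro g
    rw [← hnΩ]
    exact Nat.card_le_card_of_injective (fun x => (x : Ω)) Subtype.val_injective
  -- B1
  have B1 : ∑ g : G, F g = N := by
    have h := burnside_nat G Ω
    have h1 : Nat.card (Quotient (MulAction.orbitRel G Ω)) = 1 := by
      have hs : Subsingleton (MulAction.orbitRel.Quotient G Ω) :=
        (MulAction.pretransitive_iff_subsingleton_quotient G Ω).mp htr
      have hne : Nonempty (MulAction.orbitRel.Quotient G Ω) := ⟨Quotient.mk'' a⟩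
      exact Nat.card_unique (α := MulAction.orbitRel.Quotient G Ω)
    rw [h1, one_mul] at h
    exact h
  -- B2
  obtain ⟨r, hr2, B2⟩ : ∃ r, 2 ≤ r ∧ ∑ g : G, F g ^ 2 = r * N := by
    refine ⟨Nat.card (Quotient (MulAction.orbitRel G (Ω × Ω))), two_le_card_orbits_prod a b hab, ?_⟩
    rw [← burnside_nat G (Ω × Ω)]
    exact Finset.sum_congr rfl (fun g _ => (card_fixedBy_prod g).symm)
  -- D
  have hD : Nat.card {g : G // ∀ ω : Ω, g • ω ≠ ω} = ∑ g : G, δ g := by
    rw [Nat.card_eq_fintype_card, Fintype.card_subtype, Finset.card_filter]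
    apply Finset.sum_congr rfl
    intro g _
    have : (∀ ω : Ω, g • ω ≠ ω) ↔ F g = 0 := by
      simp only [F]
      rw [Nat.card_eq_zero]
      constructor
      · intro h
        left
        exact ⟨fun ⟨ω, hω⟩ => h ω hω⟩
      · rintro (h | h)
        · intro ω hω
          exact h.false ⟨ω, hω⟩
        · exact absurd (inferInstance : Finite (MulAction.fixedBy Ω g)) (not_finite_iff_infinite.mpr h)
    simp only [δ, this]
  set D := Nat.card {g : G // ∀ ω : Ω, g • ω ≠ ω} with hD_def
  -- pointwise and sum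
  have hpt : ∀ g, F g ^ 2 + n ≤ (n + 1) * F g + n * δ g := fun g => pointwise n (F g) (hFle g)
  have hsum : ∑ g : G, (F g ^ 2 + n) ≤ ∑ g : G, ((n + 1) * F g + n * δ g) :=
    Finset.sum_le_sum (fun g _ => hpt g)
  have hL : ∑ g : G, (F g ^ 2 + n) = r * N + n * N := by
    rw [Finset.sum_add_distrib, B2, Finset.sum_const, Finset.card_univ, smul_eq_mul, hN_def,
      Nat.card_eq_fintype_card, mul_comm (Fintype.card G) n]
  have hR : ∑ g : G, ((n + 1) * F g + n * δ g) = (n + 1) * N + n * D := by
    rw [Finset.sum_add_distrib, ← Finset.mul_sum, ← Finset.mul_sum, B1, ← hD]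
  rw [hL, hR] at hsum
  -- N ≤ n D
  have hmain : N ≤ n * D := by nlinarith
  rcases lt_or_eq_of_le hmain with hlt | heq
  · right; exact hlt
  left
  -- equality case
  have hr : r = 2 := by
    have h1 : r * N ≤ 2 * N := by nlinarith
    have h2 : r ≤ 2 := Nat.le_of_mul_le_mul_right h1 hNpos
    omega
  subst hr
  have hsumeq : ∑ g : G, (F g ^ 2 + n) = ∑ g : G, ((n + 1) * F g + n * δ g) := by
    rw [hL, hR, ← heq]; ring
  have hpteq : ∀ g, F g ^ 2 + n = (n + 1) * F g + n * δ g := by
    intro g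
    exact (Finset.sum_eq_sum_iff_of_le (fun g _ => hpt g)).mp hsumeq g (Finset.mem_univ g)
  -- F 1 = n
  have hF1 : F 1 = n := by
    simp only [F]
    rw [← hnΩ]
    apply Nat.card_congr
    exact (Equiv.subtypeUnivEquiv (fun ω => by simp))
  -- for g ≠ 1, F g ≤ 1
  have hFne : ∀ g : G, g ≠ 1 → F g ≤ 1 := by
    intro g hg
    by_cases h0 : F g = 0
    · omega
    · have h1 := hpteq g
      simp only [δ, if_neg h0, mul_zero, add_zero] at h1
      rcases pointwise_eq n (F g) (hFle g) h0 h1 with h2 | h2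
      · omega
      · exfalso
        apply hg
        apply FaithfulSMul.eq_of_smul_eq_smul (α := Ω)
        intro ω
        rw [one_smul]
        have hfin : (MulAction.fixedBy Ω g) = Set.univ := by
          apply Set.eq_of_subset_of_ncard_le (Set.subset_univ _) _ (Set.toFinite _)
          rw [Set.ncard_univ, hnΩ, ← Nat.card_coe_set_eq]
          exact h2.ge
        have : ω ∈ MulAction.fixedBy Ω g := by rw [hfin]; trivial
        exact this
  -- D + 1 = n
  have hDn : D + 1 = n := by
    have h1 : ∀ g : G, F g + δ g = 1 + (if g = 1 then n - 1 else 0) := by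
      intro g
      by_cases hg : g = 1
      · subst hg
        simp only [δ, hF1, if_true]
        have : n ≠ 0 := by omega
        rw [if_neg this]
        omega
      · rw [if_neg hg]
        have := hFne g hg
        simp only [δ]
        by_cases h0 : F g = 0
        · rw [if_pos h0, h0]
        · rw [if_neg h0]; omega
    have h2 : ∑ g : G, (F g + δ g) = ∑ g : G, (1 + (if g = 1 then n - 1 else 0)) :=
      Finset.sum_congr rfl (fun g _ => h1 g)
    rw [Finset.sum_add_distrib, Finset.sum_add_distrib, B1, ← hD, Finset.sum_ite_eq' Finset.univ (1 : G)] at h2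
    simp only [Finset.sum_const, Finset.card_univ, smul_eq_mul, mul_one, Finset.mem_univ, if_true] at h2
    rw [← Nat.card_eq_fintype_card, ← hN_def] at h2
    omega
  have hNn : N = n * (n - 1) := by
    rw [heq, ← hDn, Nat.add_sub_cancel]
  refine ⟨⟨htr, ?_, ?_⟩, hNn, heq.symm⟩
  · -- existence of a non-identity element with a fixed point
    have hidx : (MulAction.stabilizer G a).index = n := by
      rw [MulAction.index_stabilizer_of_transitive, hnΩ]
    have hcard := (MulAction.stabilizer G a).card_mul_index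
    rw [hidx, ← hN_def, hNn] at hcard
    have hn0 : 0 < n := by omega
    have hs : Nat.card (MulAction.stabilizer G a) = n - 1 := by
      have : Nat.card (MulAction.stabilizer G a) * n = (n - 1) * n := by rw [hcard, mul_comm]
      exact Nat.eq_of_mul_eq_mul_right hn0 this
    have hs2 : 1 < Nat.card (MulAction.stabilizer G a) := by omega
    have hne : MulAction.stabilizer G a ≠ ⊥ := (Subgroup.one_lt_card_iff_ne_bot _).mp hs2
    obtain ⟨x, hx1⟩ := (Subgroup.ne_bot_iff_exists_ne_one).mp hne
    refine ⟨(x : G), ?_, a, x.2⟩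
    intro h
    apply hx1
    exact Subtype.ext h
  · intro g hg
    exact hFne g hg

end Cfsg.Agent.S5729
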