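import Cfsg.Statements.S5738
import Mathlib

set_option autoImplicit false
open Cfsg

namespace Cfsg.Agent.S5738

section
variable (F K : Type*) [Field F] [Field K] [Algebra F K]

/-- left multiplication as a monoid hom into units of `End`. -/
noncomputable abbrev lm : Kˣ →* (Module.End F K)ˣ :=
  Units.map ((Algebra.lmul F K : K →ₐ[F] Module.End F K) : K →* Module.End F K)

variable {F K}

theorem lm_apply (a : Kˣ) (x : K) : ((lm F K a : (Module.End F K)ˣ) : Module.End F K) x = a * x := by
  simp

theorem inv_apply_apply (g : (Module.End F K)ˣ) (x : K) :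
    (↑g⁻¹ : Module.End F K) ((g : Module.End F K) x) = x := by
  have h := g.inv_mul
  have h2 := congrArg (fun f : Module.End F K => f x) h
  simp only [Module.End.mul_apply, Module.End.one_apply] at h2
  exact h2

theorem apply_inv_apply (g : (Module.End F K)ˣ) (x : K) :
    (g : Module.End F K) ((↑g⁻¹ : Module.End F K) x) = x := by
  have h := g.mul_inv
  have h2 := congrArg (fun f : Module.End F K => f x) h
  simp only [Module.End.mul_apply, Module.End.one_apply] at h2
  exact h2

/-- the semilinear map `x ↦ a * σ x` as a unit of `End`. -/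
noncomputable def psi (p : Kˣ × (K ≃ₐ[F] K)) : (Module.End F K)ˣ :=
  lm F K p.1 * LinearMap.GeneralLinearGroup.ofLinearEquiv p.2.toLinearEquiv

theorem psi_apply (p : Kˣ × (K ≃ₐ[F] K)) (x : K) :
    ((psi p : (Module.End F K)ˣ) : Module.End F K) x = p.1 * p.2 x := by
  simp [psi, Module.End.mul_apply]

theorem psi_inv_apply (p : Kˣ × (K ≃ₐ[F] K)) (x : K) :
    ((↑(psi p)⁻¹ : Module.End F K)) x = p.2.symm ((p.1 : K)⁻¹ * x) := by
  have h : x = ((psi p : (Module.End F K)ˣ) : Module.End F K) (p.2.symm ((p.1 : K)⁻¹ * x)) := by
    rw [psi_apply]; simp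
  conv_lhs => rw [h]
  rw [inv_apply_apply]

theorem psi_injective : Function.Injective (psi (F := F) (K := K)) := by
  rintro ⟨a, σ⟩ ⟨b, τ⟩ h
  have h1 : ∀ x : K, (a : K) * σ x = b * τ x := by
    intro x
    have := congrArg (fun g : (Module.End F K)ˣ => (g : Module.End F K) x) h
    simpa [psi_apply] using this
  have hab : a = b := by
    have := h1 1
    simp only [map_one, mul_one] at this
    exact Units.ext this
  subst hab
  have hστ : σ = τ := by
    ext x
    have := h1 x
    exact mul_left_cancel₀ a.ne_zero this
  rw [hστ]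

theorem ext_end {g h : (Module.End F K)ˣ} (H : ∀ x : K, (g : Module.End F K) x = (h : Module.End F K) x) :
    g = h := by
  apply Units.ext
  ext x
  exact H x

theorem mul_coe_apply (g h : (Module.End F K)ˣ) (x : K) :
    ((g * h : (Module.End F K)ˣ) : Module.End F K) x = (g : Module.End F K) ((h : Module.End F K) x) := by
  simp [Module.End.mul_apply]

theorem psi_mem_normalizer (p : Kˣ × (K ≃ₐ[F] K)) :
    psi p ∈ Subgroup.normalizer (((lm F K).range : Subgroup (Module.End F K)ˣ) : Set (Module.End F K)ˣ) := by
  rw [Subgroup.mem_set_normalizer_iff]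
  intro h
  constructor
  · rintro ⟨y, rfl⟩
    refine ⟨Units.map (p.2 : K →* K) y, ?_⟩
    apply ext_end
    intro x
    rw [mul_coe_apply, mul_coe_apply, psi_apply, lm_apply, lm_apply, psi_inv_apply]
    simp only [map_mul, AlgEquiv.apply_symm_apply, Units.coe_map, MonoidHom.coe_coe]
    field_simp
  · rintro ⟨y, hy⟩
    refine ⟨Units.map (p.2.symm : K →* K) y, ?_⟩
    have hh : h = (psi p)⁻¹ * (psi p * h * (psi p)⁻¹) * psi p := by group
    rw [hh, ← hy]
    apply ext_end
    intro x
    rw [mul_coe_apply, mul_coe_apply, psi_apply, lm_apply, lm_apply, psi_inv_apply]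
    have e : (p.1 : K)⁻¹ * ((y : K) * ((p.1 : K) * p.2 x)) = (y : K) * p.2 x := by
      field_simp
    rw [e]
    simp only [map_mul, AlgEquiv.symm_apply_apply, Units.coe_map, MonoidHom.coe_coe]

end

section
variable {F K : Type*} [Field F] [Field K] [Algebra F K] [FiniteDimensional F K]

theorem mem_range_psi_of_mem_normalizer (g : (Module.End F K)ˣ)
    (hg : g ∈ Subgroup.normalizer (((lm F K).range : Subgroup (Module.End F K)ˣ) : Set (Module.End F K)ˣ)) :
    g ∈ Set.range (psi (F := F) (K := K)) := by
  rw [Subgroup.mem_set_normalizer_iff] at hg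
  -- the conjugation map
  let c : K := (↑g⁻¹ : Module.End F K) 1
  let s : K →ₗ[F] K := (g : Module.End F K) ∘ₗ (LinearMap.mulRight F c)
  have hs : ∀ x, s x = (g : Module.End F K) (x * c) := fun x => rfl
  have key : ∀ x y : K, (g : Module.End F K) (x * (↑g⁻¹ : Module.End F K) y) = s x * y := by
    intro x y
    by_cases hx : x = 0
    · subst hx; simp [hs]
    · obtain ⟨z, hz⟩ := (hg (lm F K (Units.mk0 x hx))).mp ⟨_, rfl⟩
      have e : ∀ w : K, (g : Module.End F K) (x * (↑g⁻¹ : Module.End F K) w) = z * w := by
        intro w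
        have := congrArg (fun h : (Module.End F K)ˣ => (h : Module.End F K) w) hz
        simp only [mul_coe_apply, lm_apply, Units.val_mk0] at this
        exact this.symm
      rw [e y, hs]
      have := e 1
      rw [mul_one] at this
      rw [this]
  have hs1 : s 1 = 1 := by
    rw [hs, one_mul]; exact apply_inv_apply g 1
  have hsmul : ∀ x y, s (x * y) = s x * s y := by
    intro x y
    have h1 := key x (s y)
    rw [hs y, inv_apply_apply] at h1
    rw [hs (x * y), mul_assoc, h1, hs y]
  let sa : K →ₐ[F] K := AlgHom.ofLinearMap s hs1 hsmul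
  have hbij : Function.Bijective sa := AlgHom.bijective sa
  let σ : K ≃ₐ[F] K := AlgEquiv.ofBijective sa hbij
  have hσ : ∀ x, σ x = s x := fun x => rfl
  have hg1 : (g : Module.End F K) 1 ≠ 0 := by
    intro h0
    have := inv_apply_apply g (1 : K)
    rw [h0, map_zero] at this
    exact zero_ne_one this
  refine ⟨(Units.mk0 _ hg1, σ), ?_⟩
  apply ext_end
  intro x
  rw [psi_apply]
  simp only [Units.val_mk0, hσ]
  have := key x ((g : Module.End F K) 1)
  rw [inv_apply_apply, mul_one] at this
  rw [this, mul_comm]

theorem range_psi_eq :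
    Set.range (psi (F := F) (K := K)) =
      (Subgroup.normalizer (((lm F K).range : Subgroup (Module.End F K)ˣ) : Set (Module.End F K)ˣ) : Set (Module.End F K)ˣ) := by
  ext g
  constructor
  · rintro ⟨p, rfl⟩; exact psi_mem_normalizer p
  · intro hg; exact mem_range_psi_of_mem_normalizer g hg

end

/-- Let F ⊆ K be finite fields with |F| = q and [K : F] = n ≥ 2, so |K| = q^n. Regard K as an n-dimensional F-vector space; the multiplications by non-zero elements of K form a cyclic subgroup of GL_F(K) of order q^n − 1 acting regularly on the non-zero vectors (a Singer group). Its normaliser in GL_F(K) has order n·(q^n − 1). -/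
theorem result {F K : Type*} [Field F] [Fintype F] [Field K] [Fintype K] [Algebra F K] (n : ℕ) (hn : 2 ≤ n) (hdim : Module.finrank F K = n) :
    Nat.card (Subgroup.normalizer (((Units.map ((Algebra.lmul F K : K →ₐ[F] Module.End F K) : K →* Module.End F K)).range : Subgroup (Module.End F K)ˣ) : Set (Module.End F K)ˣ)) = n * (Fintype.card K - 1) := by
  have hfd : FiniteDimensional F K := inferInstance
  have h1 : Nat.card (Subgroup.normalizer (((lm F K).range : Subgroup (Module.End F K)ˣ) : Set (Module.End F K)ˣ))
      = Nat.card (Set.range (psi (F := F) (K := K))) := by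
    rw [range_psi_eq]; rfl
  change Nat.card (Subgroup.normalizer (((lm F K).range : Subgroup (Module.End F K)ˣ) : Set (Module.End F K)ˣ)) = _
  rw [h1, Nat.card_range_of_injective psi_injective, Nat.card_prod, Nat.card_units,
    IsGalois.card_aut_eq_finrank, hdim, Nat.card_eq_fintype_card, mul_comm]

end Cfsg.Agent.S5738
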