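import Cfsg.Statements.S5739
import Mathlib

set_option autoImplicit false
open Cfsg

namespace Cfsg.Agent.S5739

section
variable (F K : Type*) [Field F] [Field K] [Algebra F K]

/-- left multiplication as a monoid hom into units of `End`. -/
noncomputable abbrev lm : Kˣ →* (Module.End F K)ˣ :=
  Units.map ((Algebra.lmul F K : K →ₐ[F] Module.End F K) : K →* Module.End F K)

variable {F K}

theorem lm_apply (a : Kˣ) (x : K) : ((lm F K a : (Module.End F K)ˣ) : Module.End F K) x = a * x := by
  simp

theorem inv_apply_apply (g : (Module.End F K)ˣ) (x : K) :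
    (↑g⁻¹ : Module.End F K) ((g : Module.End F K) x) = x := by
  have h := g.inv_mul
  have h2 := congrArg (fun f : Module.End F K => f x) h
  simp only [Module.End.mul_apply, Module.End.one_apply] at h2
  exact h2

theorem apply_inv_apply (g : (Module.End F K)ˣ) (x : K) :
    (g : Module.End F K) ((↑g⁻¹ : Module.End F K) x) = x := by
  have h := g.mul_inv
  have h2 := congrArg (fun f : Module.End F K => f x) h
  simp only [Module.End.mul_apply, Module.End.one_apply] at h2
  exact h2

theorem ext_end {g h : (Module.End F K)ˣ} (H : ∀ x : K, (g : Module.End F K) x = (h : Module.End F K) x) :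
    g = h := by
  apply Units.ext
  ext x
  exact H x

theorem mul_coe_apply (g h : (Module.End F K)ˣ) (x : K) :
    ((g * h : (Module.End F K)ˣ) : Module.End F K) x = (g : Module.End F K) ((h : Module.End F K) x) := by
  simp [Module.End.mul_apply]

/-- `x` and `y` are intertwined by `g`: `L_x ∘ g = g ∘ L_y`. -/
def Rel (g : (Module.End F K)ˣ) (x y : K) : Prop :=
  ∀ w : K, x * (g : Module.End F K) w = (g : Module.End F K) (y * w)

theorem rel_ne_zero {g : (Module.End F K)ˣ} {x y : K} (h : Rel g x y) (hx : x ≠ 0) : y ≠ 0 := by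
  rintro rfl
  have := h ((↑g⁻¹ : Module.End F K) 1)
  rw [apply_inv_apply, zero_mul, map_zero, mul_one] at this
  exact hx this

/-- the subfield of those `x` with `g⁻¹ L_x g` a multiplication. -/
def fieldE (g : (Module.End F K)ˣ) : IntermediateField F K where
  carrier := {x | ∃ y, Rel g x y}
  mul_mem' := by
    rintro x x' ⟨y, hy⟩ ⟨y', hy'⟩
    refine ⟨y * y', fun w => ?_⟩
    rw [mul_assoc, hy' w, hy, mul_assoc]
  one_mem' := ⟨1, fun w => by simp⟩
  add_mem' := by
    rintro x x' ⟨y, hy⟩ ⟨y', hy'⟩
    refine ⟨y + y', fun w => ?_⟩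
    rw [add_mul, add_mul, map_add, hy w, hy' w]
  zero_mem' := ⟨0, fun w => by simp⟩
  algebraMap_mem' := by
    intro a
    refine ⟨algebraMap F K a, fun w => ?_⟩
    rw [← Algebra.smul_def, ← Algebra.smul_def, map_smul]
  inv_mem' := by
    rintro x ⟨y, hy⟩
    by_cases hx : x = 0
    · subst hx
      exact ⟨0, fun w => by simp⟩
    · have hy0 := rel_ne_zero hy hx
      refine ⟨y⁻¹, fun w => ?_⟩
      have := hy (y⁻¹ * w)
      rw [← mul_assoc, mul_inv_cancel₀ hy0, one_mul] at this
      rw [← this, ← mul_assoc, inv_mul_cancel₀ hx, one_mul]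

theorem mem_fieldE (g : (Module.End F K)ˣ) (x : K) : x ∈ fieldE g ↔ ∃ y, Rel g x y := Iff.rfl

theorem rel_iff_conj (g : (Module.End F K)ˣ) (x y : Kˣ) :
    Rel g x y ↔ lm F K x = (MulAut.conj g).toMonoidHom (lm F K y) := by
  constructor
  · intro h
    apply ext_end
    intro w
    simp only [MulEquiv.toMonoidHom_eq_coe, MonoidHom.coe_coe, MulAut.conj_apply]
    rw [mul_coe_apply, mul_coe_apply, lm_apply, lm_apply]
    have := h ((↑g⁻¹ : Module.End F K) w)
    rw [apply_inv_apply] at this
    exact this
  · intro h w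
    have := congrArg (fun f : (Module.End F K)ˣ => (f : Module.End F K) ((g : Module.End F K) w)) h
    simp only [MulEquiv.toMonoidHom_eq_coe, MonoidHom.coe_coe, MulAut.conj_apply] at this
    rw [mul_coe_apply, mul_coe_apply, lm_apply, lm_apply, inv_apply_apply] at this
    exact this

/-- the embedding of the units of `fieldE g`. -/
noncomputable def phi (g : (Module.End F K)ˣ) : (fieldE g)ˣ →* (Module.End F K)ˣ :=
  (lm F K).comp (Units.map ((fieldE g).val : fieldE g →* K))

theorem lm_injective : Function.Injective (lm F K) := by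
  intro a b h
  have := congrArg (fun f : (Module.End F K)ˣ => (f : Module.End F K) 1) h
  simp only [lm_apply, mul_one] at this
  exact Units.ext this

theorem phi_injective (g : (Module.End F K)ˣ) : Function.Injective (phi g) := by
  intro a b h
  have h1 := lm_injective h
  have h2 := congrArg (fun u : Kˣ => (u : K)) h1
  simp only [Units.coe_map, MonoidHom.coe_coe, IntermediateField.coe_val] at h2
  exact Units.ext (Subtype.ext h2)

theorem phi_range (g : (Module.End F K)ˣ) :
    (phi g).range = ((lm F K).range).map (MulAut.conj g).toMonoidHom ⊓ (lm F K).range := by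
  ext h
  constructor
  · rintro ⟨e, rfl⟩
    refine ⟨?_, ⟨_, rfl⟩⟩
    obtain ⟨y, hy⟩ := (e : fieldE g).2
    have hx0 : ((e : fieldE g) : K) ≠ 0 := by
      intro h0
      exact e.ne_zero (Subtype.ext h0)
    have hy0 := rel_ne_zero hy hx0
    refine ⟨lm F K (Units.mk0 y hy0), ⟨_, rfl⟩, ?_⟩
    have : Rel g ((Units.map ((fieldE g).val : fieldE g →* K) e : Kˣ) : K) ((Units.mk0 y hy0 : Kˣ) : K) := by
      simpa using hy
    exact ((rel_iff_conj g _ _).mp this).symm
  · rintro ⟨⟨_, ⟨y, rfl⟩, hy⟩, ⟨x, rfl⟩⟩
    have hr : Rel g (x : K) (y : K) := (rel_iff_conj g x y).mpr hy.symm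
    have hxE : (x : K) ∈ fieldE g := ⟨y, hr⟩
    have hx0 : (⟨(x : K), hxE⟩ : fieldE g) ≠ 0 := by
      intro h0
      exact x.ne_zero (congrArg Subtype.val h0)
    refine ⟨Units.mk0 ⟨(x : K), hxE⟩ hx0, ?_⟩
    change lm F K _ = lm F K x
    congr 1
    apply Units.ext
    simp

end

/-- Let F ⊆ K be finite fields with |F| = q and [K : F] = n ≥ 2, and let M ≤ GL_F(K) be the Singer group of multiplications by non-zero elements of K. If g ∈ GL_F(K) does not normalise M, then the order of M ∩ gMg⁻¹ divides q^r − 1 for some proper divisor r of n. In particular, when n is prime, that order divides q − 1. -/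
theorem result {F K : Type*} [Field F] [Fintype F] [Field K] [Fintype K] [Algebra F K] (n : ℕ) (hn : 2 ≤ n) (hdim : Module.finrank F K = n)
    (g : (Module.End F K)ˣ) (hg : ((Units.map ((Algebra.lmul F K : K →ₐ[F] Module.End F K) : K →* Module.End F K)).range).map (MulAut.conj g).toMonoidHom ≠ (Units.map ((Algebra.lmul F K : K →ₐ[F] Module.End F K) : K →* Module.End F K)).range) :
    ∃ r : ℕ, 1 ≤ r ∧ r ∣ n ∧ r < n ∧ Nat.card ↥(((Units.map ((Algebra.lmul F K : K →ₐ[F] Module.End F K) : K →* Module.End F K)).range).map (MulAut.conj g).toMonoidHom ⊓ (Units.map ((Algebra.lmul F K : K →ₐ[F] Module.End F K) : K →* Module.End F K)).range) ∣ Fintype.card F ^ r - 1 := by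
  have hfd : FiniteDimensional F K := inferInstance
  have hfinE : Finite (Module.End F K) := DFunLike.finite (K →ₗ[F] K)
  have hfinU : Finite (Module.End F K)ˣ := inferInstance
  change ((lm F K).range).map (MulAut.conj g).toMonoidHom ≠ (lm F K).range at hg
  change ∃ r : ℕ, 1 ≤ r ∧ r ∣ n ∧ r < n ∧ Nat.card ↥(((lm F K).range).map (MulAut.conj g).toMonoidHom ⊓ (lm F K).range) ∣ Fintype.card F ^ r - 1
  refine ⟨Module.finrank F (fieldE g), Module.finrank_pos, ?_, ?_, ?_⟩
  · rw [← hdim, ← Module.finrank_mul_finrank F (fieldE g) K]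
    exact Dvd.intro _ rfl
  · have hle : Module.finrank F (fieldE g) ≤ n := by
      rw [← hdim]
      exact Submodule.finrank_le (fieldE g).toSubalgebra.toSubmodule
    refine lt_of_le_of_ne hle ?_
    intro heq
    apply hg
    have htop : (fieldE g).toSubalgebra.toSubmodule = ⊤ := by
      apply Submodule.eq_top_of_finrank_eq
      rw [hdim]; exact heq
    have hall : ∀ x : K, ∃ y, Rel g x y := by
      intro x
      have : x ∈ (fieldE g).toSubalgebra.toSubmodule := by rw [htop]; trivial
      exact this
    symm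
    apply Subgroup.eq_of_le_of_card_ge
    · rintro _ ⟨x, rfl⟩
      obtain ⟨y, hy⟩ := hall x
      have hy0 := rel_ne_zero hy x.ne_zero
      refine ⟨lm F K (Units.mk0 y hy0), ⟨_, rfl⟩, ?_⟩
      exact ((rel_iff_conj g x (Units.mk0 y hy0)).mp hy).symm
    · rw [Subgroup.card_map_of_injective (MulAut.conj g).injective]
  · rw [← phi_range, Nat.card_congr (MonoidHom.ofInjective (phi_injective g)).symm.toEquiv, Nat.card_units,
      Module.natCard_eq_pow_finrank (K := F), Nat.card_eq_fintype_card]

end Cfsg.Agent.S5739
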