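import Cfsg.Statements.S5747
import Mathlib

set_option autoImplicit false
open Cfsg

namespace Cfsg.Agent.S5747

section
variable {G Ω : Type*} [Group G] [MulAction G Ω]

/-- pointwise stabilizer of a list inside `H`. -/
def stabL (H : Subgroup G) : List Ω → Subgroup G
  | [] => H
  | x :: l => stabL (H ⊓ MulAction.stabilizer G x) l

theorem mem_stabL {H : Subgroup G} {l : List Ω} {g : G} :
    g ∈ stabL H l ↔ g ∈ H ∧ ∀ x ∈ l, g • x = x := by
  induction l generalizing H with
  | nil => simp [stabL]
  | cons a l ih =>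
    simp only [stabL, ih, Subgroup.mem_inf, MulAction.mem_stabilizer_iff, List.mem_cons,
      forall_eq_or_imp]
    tauto

theorem stabL_append (H : Subgroup G) (l m : List Ω) :
    stabL H (l ++ m) = stabL (stabL H l) m := by
  induction l generalizing H with
  | nil => rfl
  | cons a l ih => simp only [List.cons_append, stabL, ih]

theorem stabL_perm (H : Subgroup G) {l l' : List Ω} (h : l.Perm l') : stabL H l = stabL H l' := by
  ext g
  simp only [mem_stabL]
  constructor
  · rintro ⟨h1, h2⟩; exact ⟨h1, fun x hx => h2 x (h.mem_iff.mpr hx)⟩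
  · rintro ⟨h1, h2⟩; exact ⟨h1, fun x hx => h2 x (h.mem_iff.mp hx)⟩

theorem stabL_le (H : Subgroup G) (l : List Ω) : stabL H l ≤ H := fun _ hg => (mem_stabL.mp hg).1

theorem stabL_mono {H H' : Subgroup G} (h : H ≤ H') (l : List Ω) : stabL H l ≤ stabL H' l := by
  intro g hg
  rw [mem_stabL] at hg ⊢
  exact ⟨h hg.1, hg.2⟩

/-- irredundance relative to `H`. -/
def Irr (H : Subgroup G) : List Ω → Prop
  | [] => True
  | x :: l => (∃ g ∈ H, g • x ≠ x) ∧ Irr (H ⊓ MulAction.stabilizer G x) l

theorem irr_append (H : Subgroup G) (l m : List Ω) :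
    Irr H (l ++ m) ↔ Irr H l ∧ Irr (stabL H l) m := by
  induction l generalizing H with
  | nil => simp [Irr, stabL]
  | cons a l ih => simp only [List.cons_append, Irr, stabL, ih, and_assoc]

theorem irr_moved {H : Subgroup G} {l : List Ω} (h : Irr H l) {y : Ω} (hy : y ∈ l) :
    ∃ g ∈ H, g • y ≠ y := by
  induction l generalizing H with
  | nil => simp at hy
  | cons a l ih =>
    rcases List.mem_cons.mp hy with rfl | hy
    · exact h.1
    · obtain ⟨g, hg, hgy⟩ := ih h.2 hy
      exact ⟨g, hg.1, hgy⟩

theorem irr_nodup {H : Subgroup G} {l : List Ω} (h : Irr H l) : l.Nodup := by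
  induction l generalizing H with
  | nil => exact List.nodup_nil
  | cons a l ih =>
    refine List.nodup_cons.mpr ⟨?_, ih h.2⟩
    intro ha
    obtain ⟨g, hg, hga⟩ := irr_moved h.2 ha
    exact hga (MulAction.mem_stabilizer_iff.mp hg.2)

open Classical in
/-- greedy pruning of redundant points. -/
noncomputable def prune (H : Subgroup G) : List Ω → List Ω
  | [] => []
  | x :: l => if ∃ g ∈ H, g • x ≠ x then x :: prune (H ⊓ MulAction.stabilizer G x) l else prune H l

theorem prune_sublist (H : Subgroup G) (l : List Ω) : (prune H l).Sublist l := by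
  induction l generalizing H with
  | nil => exact List.Sublist.refl _
  | cons a l ih =>
    unfold prune
    split_ifs with h
    · exact (ih _).cons_cons a
    · exact (ih _).cons a

theorem irr_prune (H : Subgroup G) (l : List Ω) : Irr H (prune H l) := by
  induction l generalizing H with
  | nil => trivial
  | cons a l ih =>
    unfold prune
    split_ifs with h
    · exact ⟨h, ih _⟩
    · exact ih _

theorem stabL_prune (H : Subgroup G) (l : List Ω) : stabL H (prune H l) = stabL H l := by
  induction l generalizing H with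
  | nil => rfl
  | cons a l ih =>
    unfold prune
    split_ifs with h
    · simp only [stabL, ih]
    · have hH : H ⊓ MulAction.stabilizer G a = H := by
        apply inf_eq_left.mpr
        intro g hg
        by_contra hga
        exact h ⟨g, hg, fun e => hga (MulAction.mem_stabilizer_iff.mpr e)⟩
      simp only [stabL, ih, hH]

theorem prune_eq_self {H : Subgroup G} {l : List Ω} (h : Irr H l) : prune H l = l := by
  induction l generalizing H with
  | nil => rfl
  | cons a l ih =>
    unfold prune
    rw [if_pos h.1, ih h.2]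

/-- irredundant base (list version). -/
def IBL (G : Type*) [Group G] {Ω : Type*} [MulAction G Ω] (l : List Ω) : Prop :=
  Irr (⊤ : Subgroup G) l ∧ stabL (⊤ : Subgroup G) l = ⊥

theorem ibl_nodup {l : List Ω} (h : IBL G l) : l.Nodup := irr_nodup h.1

/-- same size implies reorderable (list version). -/
theorem perm_of_same (hs : ∀ l l' : List Ω, IBL G l → IBL G l' → l.length = l'.length)
    {l l' : List Ω} (h : IBL G l) (hp : l.Perm l') : IBL G l' := by
  have hst : stabL (⊤ : Subgroup G) l' = ⊥ := by rw [← stabL_perm ⊤ hp]; exact h.2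
  have hP : IBL G (prune (⊤ : Subgroup G) l') := ⟨irr_prune _ _, by rw [stabL_prune]; exact hst⟩
  have hlen : (prune (⊤ : Subgroup G) l').length = l'.length := by
    rw [← hs l _ h hP]; exact hp.length_eq
  have heq : prune (⊤ : Subgroup G) l' = l' := (prune_sublist _ _).eq_of_length hlen
  refine ⟨?_, hst⟩
  rw [← heq]; exact irr_prune _ _

/-- the exchange lemma. -/
theorem exchange (hp : ∀ l l' : List Ω, IBL G l → l.Perm l' → IBL G l')
    {l : List Ω} {a : Ω} {B : List Ω} (hA : IBL G (l ++ [a])) (hB : IBL G B) :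
    ∃ b ∈ B, IBL G (l ++ [b]) := by
  obtain ⟨hA1, hA2⟩ := hA
  rw [irr_append] at hA1
  rw [stabL_append] at hA2
  set H := stabL (⊤ : Subgroup G) l with hH
  obtain ⟨hl, ⟨g0, hg0H, hg0a⟩, -⟩ := hA1
  have hHa : H ⊓ MulAction.stabilizer G a = ⊥ := hA2
  have hB' : stabL H (prune H B) = ⊥ := by
    rw [stabL_prune, eq_bot_iff, ← hB.2]
    exact stabL_mono le_top B
  have hirr := irr_prune H B
  have hsub := prune_sublist H B
  rcases hlist : prune H B with _ | ⟨b, B''⟩
  · rw [hlist] at hB'
    have : H = ⊥ := hB'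
    rw [this, Subgroup.mem_bot] at hg0H
    subst hg0H
    exact absurd (one_smul G a) hg0a
  · rw [hlist] at hB' hirr hsub
    have hbB : b ∈ B := hsub.subset (List.mem_cons_self)
    refine ⟨b, hbB, ?_⟩
    obtain ⟨hb, hirr'⟩ := hirr
    rcases B'' with _ | ⟨b', B'''⟩
    · refine ⟨?_, ?_⟩
      · rw [irr_append]; exact ⟨hl, hb, trivial⟩
      · rw [stabL_append]; exact hB'
    · exfalso
      obtain ⟨⟨g, hg, hgb'⟩, -⟩ := hirr'
      have hga : g • a ≠ a := by
        intro e
        have : g ∈ H ⊓ MulAction.stabilizer G a := ⟨hg.1, MulAction.mem_stabilizer_iff.mpr e⟩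
        rw [hHa, Subgroup.mem_bot] at this
        subst this
        exact hgb' (one_smul G b')
      have h1 : IBL G (l ++ [b, a]) := by
        refine ⟨?_, ?_⟩
        · rw [irr_append]; exact ⟨hl, hb, ⟨g, hg, hga⟩, trivial⟩
        · rw [stabL_append, eq_bot_iff, ← hHa]
          intro x hx
          rw [← hH] at hx
          simp only [stabL, Subgroup.mem_inf] at hx ⊢
          exact ⟨hx.1.1, hx.2⟩
      have h2 : IBL G (l ++ [a, b]) :=
        hp _ _ h1 (List.Perm.append_left l (List.Perm.swap a b []))
      have h3 := h2.1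
      rw [irr_append] at h3
      obtain ⟨-, -, ⟨g', hg', hg'b⟩, -⟩ := h3
      rw [← hH, hHa, Subgroup.mem_bot] at hg'
      subst hg'
      exact hg'b (one_smul G b)

theorem main_aux (hp : ∀ l l' : List Ω, IBL G l → l.Perm l' → IBL G l')
    {B : List Ω} (hB : IBL G B) (A' : List Ω) :
    ∀ C : List Ω, IBL G (C ++ A') → C ⊆ B →
      ∃ C' : List Ω, C' ⊆ B ∧ IBL G C' ∧ C'.length = C.length + A'.length := by
  induction A' using List.reverseRecOn with
  | nil =>
    intro C hC hCB
    exact ⟨C, hCB, by simpa using hC, by simp⟩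
  | append_singleton A'' a ih =>
    intro C hC hCB
    rw [← List.append_assoc] at hC
    obtain ⟨b, hbB, hb⟩ := exchange hp hC hB
    have hb' : IBL G ((b :: C) ++ A'') := by
      refine hp _ _ hb ?_
      rw [List.cons_append]
      exact List.perm_append_singleton b (C ++ A'')
    obtain ⟨C', h1, h2, h3⟩ := ih (b :: C) hb' (List.cons_subset.mpr ⟨hbB, hCB⟩)
    refine ⟨C', h1, h2, ?_⟩
    rw [h3]; simp; omega

theorem length_le_of_perm (hp : ∀ l l' : List Ω, IBL G l → l.Perm l' → IBL G l')
    {A B : List Ω} (hA : IBL G A) (hB : IBL G B) : A.length ≤ B.length := by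
  obtain ⟨C', h1, h2, h3⟩ := main_aux hp hB A [] (by simpa using hA) (List.nil_subset _)
  have := ((ibl_nodup h2).subperm h1).length_le
  simp at h3
  omega

/-- reorderable implies same size (list version). -/
theorem same_of_perm (hp : ∀ l l' : List Ω, IBL G l → l.Perm l' → IBL G l')
    {A B : List Ω} (hA : IBL G A) (hB : IBL G B) : A.length = B.length :=
  le_antisymm (length_le_of_perm hp hA hB) (length_le_of_perm hp hB hA)

/-- generalised permutation invariance from adjacent swaps. -/
theorem perm_of_swap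
    (hsw : ∀ (l1 l2 : List Ω) (x y : Ω), IBL G (l1 ++ x :: y :: l2) → IBL G (l1 ++ y :: x :: l2))
    {l l' : List Ω} (hp : l.Perm l') : ∀ l1 : List Ω, IBL G (l1 ++ l) → IBL G (l1 ++ l') := by
  induction hp with
  | nil => intro l1 h; exact h
  | cons x _ ih =>
    intro l1 h
    have := ih (l1 ++ [x]) (by simpa using h)
    simpa using this
  | swap x y l => intro l1 h; exact hsw l1 l y x h
  | trans _ _ ih1 ih2 => intro l1 h; exact ih2 l1 (ih1 l1 h)

/-- the statement's notion of irredundant base. -/
def IB (G : Type*) [Group G] {Ω : Type*} [MulAction G Ω] {t : ℕ} (f : Fin t → Ω) : Prop :=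
  (∀ g : G, (∀ i : Fin t, g • f i = f i) → g = 1) ∧
    ∀ i : Fin t, ∃ g : G, (∀ j : Fin t, j < i → g • f j = f j) ∧ g • f i ≠ f i

theorem irr_ofFn (H : Subgroup G) {t : ℕ} (f : Fin t → Ω) :
    Irr H (List.ofFn f) ↔
      ∀ i : Fin t, ∃ g ∈ H, (∀ j : Fin t, j < i → g • f j = f j) ∧ g • f i ≠ f i := by
  induction t generalizing H with
  | zero => simp [Irr]
  | succ t ih =>
    rw [List.ofFn_succ]
    simp only [Irr]
    rw [ih, Fin.forall_fin_succ]
    apply and_congr
    · simp
    · apply forall_congr'
      intro i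
      constructor
      · rintro ⟨g, hg, h1, h2⟩
        refine ⟨g, hg.1, ?_, h2⟩
        intro j
        refine Fin.cases ?_ ?_ j
        · intro _; exact MulAction.mem_stabilizer_iff.mp hg.2
        · intro j hj
          exact h1 j (Fin.succ_lt_succ_iff.mp hj)
      · rintro ⟨g, hg, h1, h2⟩
        refine ⟨g, ⟨hg, MulAction.mem_stabilizer_iff.mpr (h1 0 (Fin.succ_pos i))⟩, ?_, h2⟩
        intro j hj
        exact h1 j.succ (Fin.succ_lt_succ_iff.mpr hj)

theorem ib_iff_ibl {t : ℕ} (f : Fin t → Ω) : IB G f ↔ IBL G (List.ofFn f) := by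
  unfold IB IBL
  rw [irr_ofFn, and_comm]
  apply and_congr
  · simp
  · rw [eq_bot_iff]
    constructor
    · intro h g hg
      rw [mem_stabL] at hg
      rw [Subgroup.mem_bot]
      apply h g
      intro i
      exact hg.2 _ (List.mem_ofFn.mpr ⟨i, rfl⟩)
    · intro h g hg
      have : g ∈ stabL (⊤ : Subgroup G) (List.ofFn f) := by
        rw [mem_stabL]
        refine ⟨Subgroup.mem_top g, ?_⟩
        intro x hx
        obtain ⟨i, rfl⟩ := List.mem_ofFn.mp hx
        exact hg i
      exact Subgroup.mem_bot.mp (h this)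

theorem ibl_iff_ib (l : List Ω) : IBL G l ↔ IB G (fun i : Fin l.length => l[i]) := by
  rw [ib_iff_ibl]
  simp

theorem swap_list (l1 l2 : List Ω) (x y : Ω) :
    ∃ σ : Equiv.Perm (Fin (l1 ++ x :: y :: l2).length),
      List.ofFn ((fun i : Fin (l1 ++ x :: y :: l2).length => (l1 ++ x :: y :: l2)[i]) ∘ σ)
        = l1 ++ y :: x :: l2 := by
  have ha : l1.length < (l1 ++ x :: y :: l2).length := by simp
  have hb : l1.length + 1 < (l1 ++ x :: y :: l2).length := by simp
  refine ⟨Equiv.swap ⟨l1.length, ha⟩ ⟨l1.length + 1, hb⟩, ?_⟩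
  apply List.ext_getElem
  · simp only [List.length_ofFn, List.length_append, List.length_cons]
  · intro n h1 h2
    simp only [List.getElem_ofFn, Function.comp_apply]
    have hn : n < (l1 ++ x :: y :: l2).length := by
      simp only [List.length_ofFn] at h1; exact h1
    by_cases c1 : n = l1.length
    · subst c1
      rw [show (⟨l1.length, by simpa using h1⟩ : Fin (l1 ++ x :: y :: l2).length) = ⟨l1.length, ha⟩ from rfl,
        Equiv.swap_apply_left]
      simp
    · by_cases c2 : n = l1.length + 1
      · subst c2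
        rw [show (⟨l1.length + 1, by simpa using h1⟩ : Fin (l1 ++ x :: y :: l2).length) = ⟨l1.length + 1, hb⟩ from rfl,
          Equiv.swap_apply_right]
        simp
      · rw [Equiv.swap_apply_of_ne_of_ne]
        · simp only [Fin.getElem_fin]
          by_cases c3 : n < l1.length
          · rw [List.getElem_append_left c3, List.getElem_append_left c3]
          · have c4 : l1.length + 2 ≤ n := by omega
            rw [List.getElem_append_right (by omega), List.getElem_append_right (by omega)]
            obtain ⟨m, hm⟩ : ∃ m, n - l1.length = m + 2 := ⟨n - l1.length - 2, by omega⟩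
            simp only [hm, List.getElem_cons_succ]
        · intro e; exact c1 (Fin.mk.inj_iff.mp e)
        · intro e; exact c2 (Fin.mk.inj_iff.mp e)

end

/-- Let a finite group G act on a finite set Ω. An irredundant base is a sequence of points ω₁, …, ω_t whose pointwise stabiliser is trivial and in which each ω_i is moved by some element fixing ω₁, …, ω_{i−1}. Then all irredundant bases have the same length if and only if every reordering of an irredundant base is again an irredundant base. -/
theorem result {G Ω : Type*} [Group G] [Finite G] [MulAction G Ω] [Fintype Ω] :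
    (∀ (t t' : ℕ) (f : Fin t → Ω) (f' : Fin t' → Ω), ((∀ g : G, (∀ i : Fin t, g • f i = f i) → g = 1) ∧ ∀ i : Fin t, ∃ g : G, (∀ j : Fin t, j < i → g • f j = f j) ∧ g • f i ≠ f i) → ((∀ g : G, (∀ i : Fin t', g • f' i = f' i) → g = 1) ∧ ∀ i : Fin t', ∃ g : G, (∀ j : Fin t', j < i → g • f' j = f' j) ∧ g • f' i ≠ f' i) → t = t') ↔
    (∀ (t : ℕ) (f : Fin t → Ω) (σ : Equiv.Perm (Fin t)), ((∀ g : G, (∀ i : Fin t, g • f i = f i) → g = 1) ∧ ∀ i : Fin t, ∃ g : G, (∀ j : Fin t, j < i → g • f j = f j) ∧ g • f i ≠ f i) → ((∀ g : G, (∀ i : Fin t, g • (f ∘ σ) i = (f ∘ σ) i) → g = 1) ∧ ∀ i : Fin t, ∃ g : G, (∀ j : Fin t, j < i → g • (f ∘ σ) j = (f ∘ σ) j) ∧ g • (f ∘ σ) i ≠ (f ∘ σ) i)) := by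
  change (∀ (t t' : ℕ) (f : Fin t → Ω) (f' : Fin t' → Ω), IB G f → IB G f' → t = t') ↔
    (∀ (t : ℕ) (f : Fin t → Ω) (σ : Equiv.Perm (Fin t)), IB G f → IB G (f ∘ σ))
  constructor
  · intro hA t f σ hf
    have hs : ∀ l l' : List Ω, IBL G l → IBL G l' → l.length = l'.length := by
      intro l l' hl hl'
      exact hA _ _ _ _ ((ibl_iff_ib l).mp hl) ((ibl_iff_ib l').mp hl')
    rw [ib_iff_ibl] at hf ⊢
    exact perm_of_same hs hf (σ.ofFn_comp_perm f).symm
  · intro hB t t' f f' hf hf'
    have hsw : ∀ (l1 l2 : List Ω) (x y : Ω), IBL G (l1 ++ x :: y :: l2) → IBL G (l1 ++ y :: x :: l2) := by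
      intro l1 l2 x y h
      obtain ⟨σ, hσ⟩ := swap_list l1 l2 x y
      have := hB _ _ σ ((ibl_iff_ib _).mp h)
      rw [ib_iff_ibl, hσ] at this
      exact this
    have hp : ∀ l l' : List Ω, IBL G l → l.Perm l' → IBL G l' := by
      intro l l' h hperm
      have := perm_of_swap hsw hperm [] (by simpa using h)
      simpa using this
    rw [ib_iff_ibl] at hf hf'
    have := same_of_perm hp hf hf'
    simpa using this

end Cfsg.Agent.S5747
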