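import Cfsg.Statements.S5754
import Mathlib

set_option autoImplicit false
open Cfsg

namespace Cfsg.Agent.S5754

open QuadraticMap

section
variable {F V : Type*} [Field F] [AddCommGroup V] [Module F V]

/-- the linear functional `y ↦ polar Q y x / Q x`. -/
noncomputable def rfun (Q : QuadraticForm F V) (x : V) : Module.Dual F V :=
  (Q x)⁻¹ • (polarBilin Q).flip x

theorem rfun_apply (Q : QuadraticForm F V) (x y : V) :
    rfun Q x y = (Q x)⁻¹ * polar Q y x := by
  simp [rfun]

theorem rfun_self (Q : QuadraticForm F V) (x : V) (hx : Q x ≠ 0) : rfun Q x x = 2 := by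
  rw [rfun_apply, polar_self]
  rw [two_smul, ← two_mul]
  field_simp

theorem map_sub_eq (Q : QuadraticForm F V) (a b : V) :
    Q (a - b) = Q a + Q b - polar Q a b := by
  have h := polar_neg_right Q a b
  simp only [polar] at h ⊢
  have h2 : Q (-b) = Q b := Q.map_neg b
  rw [sub_eq_add_neg]
  rw [h2] at h
  linear_combination h

/-- reflection along an anisotropic vector. -/
noncomputable def reflIso (Q : QuadraticForm F V) (x : V) (hx : Q x ≠ 0) : Q.IsometryEquiv Q :=
  { Module.reflection (rfun_self Q x hx) with
    map_app' := by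
      intro y
      change Q (Module.reflection (rfun_self Q x hx) y) = Q y
      rw [Module.reflection_apply, map_sub_eq, QuadraticMap.map_smul, polar_smul_right, rfun_apply]
      simp only [smul_eq_mul]
      field_simp
      ring }

theorem reflIso_apply (Q : QuadraticForm F V) (x : V) (hx : Q x ≠ 0) (y : V) :
    reflIso Q x hx y = y - ((Q x)⁻¹ * polar Q y x) • x := by
  change Module.reflection (rfun_self Q x hx) y = _
  rw [Module.reflection_apply, rfun_apply]

theorem polar_iso (Q : QuadraticForm F V) (φ : Q.IsometryEquiv Q) (a b : V) :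
    polar Q (φ a) (φ b) = polar Q a b := by
  simp only [polar]
  rw [← map_add, φ.map_app, φ.map_app, φ.map_app]

theorem exists_iso (Q : QuadraticForm F V) (hQ : Q.Anisotropic) {ι : Type*} (w w' : ι → V)
    (h1 : ∀ i, Q (w i) = Q (w' i)) (h2 : ∀ i j, polar Q (w i) (w j) = polar Q (w' i) (w' j))
    (s : Finset ι) : ∃ φ : Q.IsometryEquiv Q, ∀ i ∈ s, φ (w i) = w' i := by
  classical
  induction s using Finset.induction_on with
  | empty => exact ⟨QuadraticMap.IsometryEquiv.refl Q, by simp⟩
  | insert k s hk ih =>
    obtain ⟨φ, hφ⟩ := ih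
    by_cases hx : φ (w k) - w' k = 0
    · refine ⟨φ, ?_⟩
      intro i hi
      rcases Finset.mem_insert.mp hi with rfl | hi
      · exact sub_eq_zero.mp hx
      · exact hφ i hi
    · have hQx : Q (φ (w k) - w' k) ≠ 0 := fun h => hx (hQ _ h)
      refine ⟨φ.trans (reflIso Q _ hQx), ?_⟩
      intro i hi
      change reflIso Q _ hQx (φ (w i)) = w' i
      rw [reflIso_apply]
      rcases Finset.mem_insert.mp hi with rfl | hi
      · have e1 : polar Q (φ (w i)) (φ (w i) - w' i) = Q (φ (w i) - w' i) := by
          rw [polar_sub_right, polar_self, map_sub_eq, φ.map_app, ← h1 i, two_smul]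
        rw [e1, inv_mul_cancel₀ hQx, one_smul]
        abel
      · have e1 : polar Q (φ (w i)) (φ (w k) - w' k) = 0 := by
          rw [polar_sub_right, polar_iso, hφ i hi, h2 i k, sub_self]
        rw [e1, mul_zero, zero_smul, sub_zero, hφ i hi]

end

/-- Let V be a finite-dimensional vector space over a finite field F carrying an anisotropic quadratic form Q (Q(v) = 0 only for v = 0). Then the group of all maps v ↦ φ(v) + c, with φ an isometry of Q and c ∈ V, acts on V as a binary permutation group: given n ≥ 2 and two n-tuples u, u' of vectors such that every pair of corresponding entries of u is carried to that of u' by such a map, one such map carries u to u'. -/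
theorem result {F V : Type*} [Field F] [Finite F] [AddCommGroup V] [Module F V] [Module.Finite F V]
    (Q : QuadraticForm F V) (hQ : Q.Anisotropic) (n : ℕ) (hn : 2 ≤ n) (u u' : Fin n → V)
    (h2 : ∀ i j : Fin n, i ≠ j → ∃ (φ : Q.IsometryEquiv Q) (c : V), φ (u i) + c = u' i ∧ φ (u j) + c = u' j) :
    ∃ (φ : Q.IsometryEquiv Q) (c : V), ∀ i, φ (u i) + c = u' i := by
  have hd : ∀ i j : Fin n, Q (u i - u j) = Q (u' i - u' j) := by
    intro i j
    by_cases hij : i = j
    · subst hij; simp
    · obtain ⟨φ, c, hi, hj⟩ := h2 i j hij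
      rw [← hi, ← hj, add_sub_add_right_eq_sub, ← map_sub, φ.map_app]
  let z : Fin n := ⟨0, by omega⟩
  have hw1 : ∀ i, Q (u i - u z) = Q (u' i - u' z) := fun i => hd i z
  have hw2 : ∀ i j, polar Q (u i - u z) (u j - u z) = polar Q (u' i - u' z) (u' j - u' z) := by
    intro i j
    have e : ∀ a b : V, polar Q a b = Q a + Q b - Q (a - b) := by
      intro a b; rw [map_sub_eq]; ring
    rw [e, e, hw1 i, hw1 j, sub_sub_sub_cancel_right, sub_sub_sub_cancel_right, hd i j]
  obtain ⟨φ, hφ⟩ := exists_iso Q hQ (fun i => u i - u z) (fun i => u' i - u' z) hw1 hw2 Finset.univ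
  refine ⟨φ, u' z - φ (u z), ?_⟩
  intro i
  have := hφ i (Finset.mem_univ i)
  simp only [map_sub] at this
  rw [← sub_eq_zero]
  rw [← sub_eq_zero] at this
  rw [← this]
  abel

end Cfsg.Agent.S5754
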