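import Cfsg.Statements.S5763
import Mathlib

set_option autoImplicit false
open Cfsg

namespace Cfsg.Agent.S5763

/-- preservation of the two block relations of the binary tree on `Fin 8`. -/
def relPres (f : Fin 8 → Fin 8) : Prop :=
  ∀ i j : Fin 8, ((i.val / 2 = j.val / 2 ↔ (f i).val / 2 = (f j).val / 2) ∧
    (i.val / 4 = j.val / 4 ↔ (f i).val / 4 = (f j).val / 4))

instance (f : Fin 8 → Fin 8) : Decidable (relPres f) := by unfold relPres; infer_instance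

/-- the automorphism group of the binary tree: a Sylow 2-subgroup. -/
def H0 : Subgroup (Equiv.Perm (Fin 8)) where
  carrier := {σ | relPres ⇑σ}
  mul_mem' := by
    intro σ τ hσ hτ i j
    have h1 := hτ i j
    have h2 := hσ (τ i) (τ j)
    exact ⟨h1.1.trans h2.1, h1.2.trans h2.2⟩
  one_mem' := by
    intro i j
    exact ⟨Iff.rfl, Iff.rfl⟩
  inv_mem' := by
    intro σ hσ i j
    have h := hσ (σ⁻¹ i) (σ⁻¹ j)
    have e1 : ∀ x, σ (σ⁻¹ x) = x := fun x => by simp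
    rw [e1, e1] at h
    exact ⟨h.1.symm, h.2.symm⟩

theorem mem_H0 (σ : Equiv.Perm (Fin 8)) : σ ∈ H0 ↔ relPres ⇑σ := Iff.rfl

theorem half4 (σ : Equiv.Perm (Fin 8)) (hσ : relPres ⇑σ) (i : Fin 8) :
    (σ (σ i)).val / 4 = i.val / 4 := by
  have h := (hσ i (σ i)).2
  have h1 := (σ i).isLt
  have h2 := (σ (σ i)).isLt
  have h3 := i.isLt
  omega

theorem half2 (τ : Equiv.Perm (Fin 8)) (hτ : relPres ⇑τ) (h4 : ∀ i, (τ i).val / 4 = i.val / 4)
    (i : Fin 8) : (τ (τ i)).val / 2 = i.val / 2 := by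
  have h := (hτ i (τ i)).1
  have h1 := h4 i
  have h2 := h4 (τ i)
  have h3 := (τ i).isLt
  have h5 := (τ (τ i)).isLt
  have h6 := i.isLt
  omega

theorem half1 (ρ : Equiv.Perm (Fin 8)) (h2 : ∀ i, (ρ i).val / 2 = i.val / 2) (i : Fin 8) :
    ρ (ρ i) = i := by
  by_cases h : ρ i = i
  · rw [h, h]
  · have hne : ρ (ρ i) ≠ ρ i := fun e => h (ρ.injective e)
    have h3 := h2 i
    have h4 := h2 (ρ i)
    have h5 : (ρ (ρ i)).val ≠ (ρ i).val := fun e => hne (Fin.ext e)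
    have h6 : (ρ i).val ≠ i.val := fun e => h (Fin.ext e)
    apply Fin.ext
    omega

theorem pow_eight (σ : Equiv.Perm (Fin 8)) (hσ : σ ∈ H0) : σ ^ 8 = 1 := by
  have hτ : σ ^ 2 ∈ H0 := H0.pow_mem hσ 2
  have hρ : (σ ^ 2) ^ 2 ∈ H0 := H0.pow_mem hτ 2
  have e2 : ∀ (π : Equiv.Perm (Fin 8)) (i : Fin 8), (π ^ 2) i = π (π i) := by
    intro π i; rw [pow_two, Equiv.Perm.mul_apply]
  have h4 : ∀ i, ((σ ^ 2) i).val / 4 = i.val / 4 := by
    intro i; rw [e2]; exact half4 σ hσ i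
  have h2 : ∀ i, (((σ ^ 2) ^ 2) i).val / 2 = i.val / 2 := by
    intro i; rw [e2]; exact half2 (σ ^ 2) hτ h4 i
  have h1 : ∀ i, (((σ ^ 2) ^ 2) ^ 2) i = i := by
    intro i; rw [e2]; exact half1 _ h2 i
  have : σ ^ 8 = ((σ ^ 2) ^ 2) ^ 2 := by
    rw [← pow_mul, ← pow_mul]
  rw [this]
  ext i
  rw [h1 i]
  rfl

theorem isPGroup_H0 : IsPGroup 2 H0 := by
  intro g
  refine ⟨3, ?_⟩
  apply Subtype.ext
  have := pow_eight g.1 g.2
  simpa using this

/-- the property to be shown for every `y`. -/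
def P (y : Equiv.Perm (Fin 8)) : Prop :=
  ∃ h ∈ H0, h ≠ 1 ∧ y⁻¹ * h * y ∈ H0

theorem P_mul_right (y g : Equiv.Perm (Fin 8)) (hg : g ∈ H0) (hy : P y) : P (y * g) := by
  obtain ⟨h, hh, h1, hk⟩ := hy
  refine ⟨h, hh, h1, ?_⟩
  have : (y * g)⁻¹ * h * (y * g) = g⁻¹ * (y⁻¹ * h * y) * g := by group
  rw [this]
  exact H0.mul_mem (H0.mul_mem (H0.inv_mem hg) hk) hg

/-- the condition checked by the kernel. -/
def cond (v h k : Fin 8 → Fin 8) : Prop :=
  (∃ i, h i ≠ i) ∧ (∀ i, h (v i) = v (k i)) ∧ Function.Injective h ∧ relPres h ∧ relPres k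

instance (v h k : Fin 8 → Fin 8) : Decidable (cond v h k) := by unfold cond; infer_instance

theorem P_of_cond (y : Equiv.Perm (Fin 8)) (h k : Fin 8 → Fin 8) (hc : cond (⇑y) h k) : P y := by
  obtain ⟨⟨i0, hi0⟩, hcomm, hinj, hh, hk⟩ := hc
  let h' : Equiv.Perm (Fin 8) := Equiv.ofBijective h (Finite.injective_iff_bijective.mp hinj)
  have hh' : ∀ i, h' i = h i := fun i => rfl
  refine ⟨h', ?_, ?_, ?_⟩
  · exact hh
  · intro e
    apply hi0
    rw [← hh', e]; rfl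
  · intro i j
    have e : ∀ i, (y⁻¹ * h' * y) i = k i := by
      intro i
      rw [Equiv.Perm.mul_apply, Equiv.Perm.mul_apply, hh', hcomm]
      simp
    rw [e, e]
    exact hk i j

def lk (n i : Nat) : Nat := (n >>> (3 * i)) % 8
def dec (n : Nat) : Fin 8 → Fin 8 := fun i => Fin.ofNat 8 (n >>> (3 * i.val))
def encN (f : Nat → Nat) : Nat :=
  f 0 + (f 1 <<< 3) + (f 2 <<< 6) + (f 3 <<< 9) + (f 4 <<< 12) + (f 5 <<< 15) + (f 6 <<< 18) + (f 7 <<< 21)
def enc (v : Fin 8 → Fin 8) : Nat := encN (fun i => (v (Fin.ofNat 8 i)).val)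
def invN (n : Nat) : Nat :=
  (0 <<< (3 * lk n 0)) + (1 <<< (3 * lk n 1)) + (2 <<< (3 * lk n 2)) + (3 <<< (3 * lk n 3)) +
  (4 <<< (3 * lk n 4)) + (5 <<< (3 * lk n 5)) + (6 <<< (3 * lk n 6)) + (7 <<< (3 * lk n 7))
def compN (f g : Nat) : Nat := encN (fun i => lk f (lk g i))
def ppN : Nat := encN (fun i => i ^^^ 1)
def ttN (j : Nat) : Nat := encN (fun i => if i / 2 = j then i ^^^ 1 else i)

/-- candidate witnesses, computed from `v` (no correctness claim is needed for these). -/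
def cands (v : Fin 8 → Fin 8) : List ((Fin 8 → Fin 8) × (Fin 8 → Fin 8)) :=
  let vc := enc v
  let w := invN vc
  let c := compN vc (compN ppN (compN w ppN))
  let kc := compN ppN (compN w (compN ppN vc))
  [(dec (compN c c), dec (compN kc kc)), (dec c, dec kc),
   (dec (ttN 0), dec (compN w (compN (ttN 0) vc))), (dec (ttN 1), dec (compN w (compN (ttN 1) vc))),
   (dec (ttN 2), dec (compN w (compN (ttN 2) vc))), (dec (ttN 3), dec (compN w (compN (ttN 3) vc)))]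

set_option maxRecDepth 100000 in
set_option synthInstance.maxSize 2000 in
set_option synthInstance.maxHeartbeats 4000000 in
set_option maxHeartbeats 4000000 in
theorem leafAll : ∀ a0 : Fin 8, ∀ a1 : Fin 8, a0 < a1 → ∀ a2 : Fin 8, a0 < a2 → a2 ≠ a1 →
  ∀ a3 : Fin 8, a2 < a3 → a3 ≠ a1 →
  ∀ a4 : Fin 8, a0 < a4 → a4 ≠ a1 → a4 ≠ a2 → a4 ≠ a3 →
  ∀ a5 : Fin 8, a4 < a5 → a5 ≠ a1 → a5 ≠ a2 → a5 ≠ a3 →
  ∀ a6 : Fin 8, a4 < a6 → a6 ≠ a1 → a6 ≠ a2 → a6 ≠ a3 → a6 ≠ a5 →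
  ∀ a7 : Fin 8, a6 < a7 → a7 ≠ a1 → a7 ≠ a2 → a7 ≠ a3 → a7 ≠ a5 →
  ∃ p ∈ cands ![a0,a1,a2,a3,a4,a5,a6,a7], cond ![a0,a1,a2,a3,a4,a5,a6,a7] p.1 p.2 := by decide +kernel

theorem P7 (y : Equiv.Perm (Fin 8)) (h01 : y 0 < y 1) (h23 : y 2 < y 3) (h45 : y 4 < y 5)
    (h67 : y 6 < y 7) (h02 : y 0 < y 2) (h46 : y 4 < y 6) (h04 : y 0 < y 4) : P y := by
  have hne : ∀ i j : Fin 8, i ≠ j → y i ≠ y j := fun i j hij => y.injective.ne hij
  obtain ⟨p, -, hp⟩ := leafAll (y 0) (y 1) h01 (y 2) h02 (hne _ _ (by decide))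
    (y 3) h23 (hne _ _ (by decide))
    (y 4) h04 (hne _ _ (by decide)) (hne _ _ (by decide)) (hne _ _ (by decide))
    (y 5) h45 (hne _ _ (by decide)) (hne _ _ (by decide)) (hne _ _ (by decide))
    (y 6) h46 (hne _ _ (by decide)) (hne _ _ (by decide)) (hne _ _ (by decide)) (hne _ _ (by decide))
    (y 7) h67 (hne _ _ (by decide)) (hne _ _ (by decide)) (hne _ _ (by decide)) (hne _ _ (by decide))
  have hy : (⇑y : Fin 8 → Fin 8) = ![y 0, y 1, y 2, y 3, y 4, y 5, y 6, y 7] := by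
    funext i
    fin_cases i <;> rfl
  rw [← hy] at hp
  exact P_of_cond y p.1 p.2 hp


def s01 : Equiv.Perm (Fin 8) := Equiv.swap 0 1
def s23 : Equiv.Perm (Fin 8) := Equiv.swap 2 3
def s45 : Equiv.Perm (Fin 8) := Equiv.swap 4 5
def s67 : Equiv.Perm (Fin 8) := Equiv.swap 6 7
def u0 : Equiv.Perm (Fin 8) := Equiv.swap 0 2 * Equiv.swap 1 3
def u1 : Equiv.Perm (Fin 8) := Equiv.swap 4 6 * Equiv.swap 5 7
def ww : Equiv.Perm (Fin 8) := Equiv.swap 0 4 * Equiv.swap 1 5 * Equiv.swap 2 6 * Equiv.swap 3 7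

theorem s01_mem : s01 ∈ H0 := by rw [mem_H0]; decide
theorem s23_mem : s23 ∈ H0 := by rw [mem_H0]; decide
theorem s45_mem : s45 ∈ H0 := by rw [mem_H0]; decide
theorem s67_mem : s67 ∈ H0 := by rw [mem_H0]; decide
theorem u0_mem : u0 ∈ H0 := by rw [mem_H0]; decide
theorem u1_mem : u1 ∈ H0 := by rw [mem_H0]; decide
theorem ww_mem : ww ∈ H0 := by rw [mem_H0]; decide

theorem P_of_mul (y g : Equiv.Perm (Fin 8)) (hg : g ∈ H0) (h : P (y * g)) : P y := by
  have := P_mul_right (y * g) g⁻¹ (H0.inv_mem hg) h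
  simpa using this

theorem mul_val (y g : Equiv.Perm (Fin 8)) (i j : Fin 8) (h : g i = j) : (y * g) i = y j := by
  rw [Equiv.Perm.mul_apply, h]

theorem lt_mul (y g : Equiv.Perm (Fin 8)) (a b a' b' : Fin 8) (ha : g a = a') (hb : g b = b')
    (h : y a' < y b') : (y * g) a < (y * g) b := by
  rw [Equiv.Perm.mul_apply, Equiv.Perm.mul_apply, ha, hb]; exact h

theorem P6 (y : Equiv.Perm (Fin 8)) (h01 : y 0 < y 1) (h23 : y 2 < y 3) (h45 : y 4 < y 5)
    (h67 : y 6 < y 7) (h02 : y 0 < y 2) (h46 : y 4 < y 6) : P y := by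
  rcases lt_or_gt_of_ne (y.injective.ne (by decide : (0 : Fin 8) ≠ 4)) with h | h
  · exact P7 y h01 h23 h45 h67 h02 h46 h
  · apply P_of_mul y ww ww_mem
    exact P7 _ (lt_mul y ww 0 1 _ _ (by decide) (by decide) h45)
      (lt_mul y ww 2 3 _ _ (by decide) (by decide) h67)
      (lt_mul y ww 4 5 _ _ (by decide) (by decide) h01)
      (lt_mul y ww 6 7 _ _ (by decide) (by decide) h23)
      (lt_mul y ww 0 2 _ _ (by decide) (by decide) h46)
      (lt_mul y ww 4 6 _ _ (by decide) (by decide) h02)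
      (lt_mul y ww 0 4 _ _ (by decide) (by decide) h)

theorem P5 (y : Equiv.Perm (Fin 8)) (h01 : y 0 < y 1) (h23 : y 2 < y 3) (h45 : y 4 < y 5)
    (h67 : y 6 < y 7) (h02 : y 0 < y 2) : P y := by
  rcases lt_or_gt_of_ne (y.injective.ne (by decide : (4 : Fin 8) ≠ 6)) with h | h
  · exact P6 y h01 h23 h45 h67 h02 h
  · apply P_of_mul y u1 u1_mem
    exact P6 _ (lt_mul y u1 0 1 _ _ (by decide) (by decide) h01)
      (lt_mul y u1 2 3 _ _ (by decide) (by decide) h23)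
      (lt_mul y u1 4 5 _ _ (by decide) (by decide) h67)
      (lt_mul y u1 6 7 _ _ (by decide) (by decide) h45)
      (lt_mul y u1 0 2 _ _ (by decide) (by decide) h02)
      (lt_mul y u1 4 6 _ _ (by decide) (by decide) h)

theorem P4 (y : Equiv.Perm (Fin 8)) (h01 : y 0 < y 1) (h23 : y 2 < y 3) (h45 : y 4 < y 5)
    (h67 : y 6 < y 7) : P y := by
  rcases lt_or_gt_of_ne (y.injective.ne (by decide : (0 : Fin 8) ≠ 2)) with h | h
  · exact P5 y h01 h23 h45 h67 h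
  · apply P_of_mul y u0 u0_mem
    exact P5 _ (lt_mul y u0 0 1 _ _ (by decide) (by decide) h23)
      (lt_mul y u0 2 3 _ _ (by decide) (by decide) h01)
      (lt_mul y u0 4 5 _ _ (by decide) (by decide) h45)
      (lt_mul y u0 6 7 _ _ (by decide) (by decide) h67)
      (lt_mul y u0 0 2 _ _ (by decide) (by decide) h)

theorem P3 (y : Equiv.Perm (Fin 8)) (h01 : y 0 < y 1) (h23 : y 2 < y 3) (h45 : y 4 < y 5) :
    P y := by
  rcases lt_or_gt_of_ne (y.injective.ne (by decide : (6 : Fin 8) ≠ 7)) with h | h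
  · exact P4 y h01 h23 h45 h
  · apply P_of_mul y s67 s67_mem
    exact P4 _ (lt_mul y s67 0 1 _ _ (by decide) (by decide) h01)
      (lt_mul y s67 2 3 _ _ (by decide) (by decide) h23)
      (lt_mul y s67 4 5 _ _ (by decide) (by decide) h45)
      (lt_mul y s67 6 7 _ _ (by decide) (by decide) h)

theorem P2 (y : Equiv.Perm (Fin 8)) (h01 : y 0 < y 1) (h23 : y 2 < y 3) : P y := by
  rcases lt_or_gt_of_ne (y.injective.ne (by decide : (4 : Fin 8) ≠ 5)) with h | h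
  · exact P3 y h01 h23 h
  · apply P_of_mul y s45 s45_mem
    exact P3 _ (lt_mul y s45 0 1 _ _ (by decide) (by decide) h01)
      (lt_mul y s45 2 3 _ _ (by decide) (by decide) h23)
      (lt_mul y s45 4 5 _ _ (by decide) (by decide) h)

theorem P1 (y : Equiv.Perm (Fin 8)) (h01 : y 0 < y 1) : P y := by
  rcases lt_or_gt_of_ne (y.injective.ne (by decide : (2 : Fin 8) ≠ 3)) with h | h
  · exact P2 y h01 h
  · apply P_of_mul y s23 s23_mem
    exact P2 _ (lt_mul y s23 0 1 _ _ (by decide) (by decide) h01)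
      (lt_mul y s23 2 3 _ _ (by decide) (by decide) h)

theorem P0 (y : Equiv.Perm (Fin 8)) : P y := by
  rcases lt_or_gt_of_ne (y.injective.ne (by decide : (0 : Fin 8) ≠ 1)) with h | h
  · exact P1 y h
  · apply P_of_mul y s01 s01_mem
    exact P1 _ (lt_mul y s01 0 1 _ _ (by decide) (by decide) h)

/-- In the symmetric group on 8 letters any two Sylow 2-subgroups have non-trivial intersection: for a Sylow 2-subgroup H and every element x, H ∩ xHx⁻¹ ≠ 1. -/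
theorem result (H : Sylow 2 (Equiv.Perm (Fin 8))) (x : Equiv.Perm (Fin 8)) :
    (H : Subgroup (Equiv.Perm (Fin 8))) ⊓ (H : Subgroup (Equiv.Perm (Fin 8))).map (MulAut.conj x).toMonoidHom ≠ ⊥ := by
  obtain ⟨Q, hQ⟩ := isPGroup_H0.exists_le_sylow
  obtain ⟨g, hg⟩ := MulAction.exists_smul_eq (Equiv.Perm (Fin 8)) Q H
  have hmem : ∀ q ∈ H0, g * q * g⁻¹ ∈ (H : Subgroup (Equiv.Perm (Fin 8))) := by
    intro q hq
    rw [← hg, Sylow.coe_subgroup_smul]
    rw [Subgroup.mem_pointwise_smul_iff_inv_smul_mem]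
    have : (MulAut.conj g)⁻¹ • (g * q * g⁻¹) = q := by
      simp [MulAut.smul_def, mul_assoc]
    rw [this]
    exact hQ hq
  obtain ⟨h, hh, h1, hk⟩ := P0 (g⁻¹ * x * g)
  intro hbot
  have hz : g * h * g⁻¹ ∈ (H : Subgroup (Equiv.Perm (Fin 8))) ⊓
      (H : Subgroup (Equiv.Perm (Fin 8))).map (MulAut.conj x).toMonoidHom := by
    refine ⟨hmem h hh, ?_⟩
    refine ⟨x⁻¹ * (g * h * g⁻¹) * x, ?_, ?_⟩
    · have := hmem _ hk
      have e : g * ((g⁻¹ * x * g)⁻¹ * h * (g⁻¹ * x * g)) * g⁻¹ = x⁻¹ * (g * h * g⁻¹) * x := by group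
      rw [e] at this
      exact this
    · simp only [MulEquiv.toMonoidHom_eq_coe, MonoidHom.coe_coe, MulAut.conj_apply]
      group
  rw [hbot, Subgroup.mem_bot] at hz
  apply h1
  have : h = g⁻¹ * (g * h * g⁻¹) * g := by group
  rw [this, hz]
  group

end Cfsg.Agent.S5763
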