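import Cfsg.Statements.S5885

set_option autoImplicit false
open scoped Pointwise
open Cfsg MulAction Equiv

namespace Cfsg.Agent.S5885

section cyc
variable {X : Type*} [DecidableEq X]

/-- The 3-cycle `a → b → c → a`. -/
def cyc (a b c : X) : Perm X := swap a b * swap b c

theorem cyc_sign [Fintype X] {a b c : X} (hab : a ≠ b) (hbc : b ≠ c) : Perm.sign (cyc a b c) = 1 := by
  simp [cyc, Perm.sign_swap hab, Perm.sign_swap hbc]

theorem cyc_a {a b c : X} (hab : a ≠ b) (hac : a ≠ c) : cyc a b c a = b := by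
  simp [cyc, swap_apply_of_ne_of_ne hab hac]

theorem cyc_b {a b c : X} (hbc : b ≠ c) (hac : a ≠ c) : cyc a b c b = c := by
  simp [cyc, swap_apply_of_ne_of_ne hac.symm hbc.symm]

theorem cyc_of_ne {a b c x : X} (hxa : x ≠ a) (hxb : x ≠ b) (hxc : x ≠ c) : cyc a b c x = x := by
  simp [cyc, swap_apply_of_ne_of_ne hxb hxc, swap_apply_of_ne_of_ne hxa hxb]

end cyc

theorem core {G X : Type*} [Group G] [MulAction G X] [Fintype X] [DecidableEq X]
    (hoddX : Odd (Fintype.card X))
    (lift : ∀ σ : Perm X, Perm.sign σ = 1 → ∃ g : G, ∀ x, g • x = σ x)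
    (pt : X) (M H K : Subgroup G) (hMpt : stabilizer G pt = M)
    (hHM : H ≤ M) (hmax : IsCoatom (H.subgroupOf M)) (hHK : H ≤ K) (hHKM : K ⊓ M ≤ H) (hKM : ¬ K ≤ M) :
    IsCoatom (H.subgroupOf K) := by
  refine ⟨?_, fun L' hL' => ?_⟩
  · intro h
    rw [Subgroup.subgroupOf_eq_top] at h
    exact hKM (h.trans hHM)
  · by_contra hne
    obtain ⟨l', hl'L, hl'H⟩ := SetLike.exists_of_lt hL'
    obtain ⟨k', hk'⟩ : ∃ k' : K, k' ∉ L' := by
      by_contra hc
      simp only [not_exists, not_not] at hc
      exact hne (eq_top_iff.mpr fun x _ => hc x)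
    set L := L'.map K.subtype with hLdef
    have hLK : L ≤ K := Subgroup.map_subtype_le L'
    have hHL : H ≤ L := by
      intro h hh
      exact ⟨⟨h, hHK hh⟩, hL'.le (Subgroup.mem_subgroupOf.mpr hh), rfl⟩
    have memL : ∀ (x : K), (x : G) ∈ L ↔ x ∈ L' := by
      intro x
      constructor
      · rintro ⟨y, hy, hyx⟩
        have : y = x := Subtype.ext hyx
        rwa [← this]
      · intro hx
        exact ⟨x, hx, rfl⟩
    obtain ⟨l, hlK⟩ := l'
    obtain ⟨k, hkK⟩ := k'
    have hlL : l ∈ L := (memL ⟨l, hlK⟩).mpr hl'L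
    have hlH : l ∉ H := fun h => hl'H (Subgroup.mem_subgroupOf.mpr h)
    have hkL : k ∉ L := fun h => hk' ((memL ⟨k, hkK⟩).mp h)
    have memM : ∀ g : G, g ∈ M ↔ g • pt = pt := by
      intro g
      rw [← hMpt, mem_stabilizer_iff]
    -- the block
    set B : Set X := {x | ∃ a ∈ L, a • pt = x} with hB
    have hptB : pt ∈ B := ⟨1, L.one_mem, one_smul _ _⟩
    have B2 : ∀ a ∈ L, ∀ x ∈ B, a • x ∈ B := by
      rintro a ha x ⟨a₁, ha₁, rfl⟩
      exact ⟨a * a₁, L.mul_mem ha ha₁, mul_smul _ _ _⟩
    have B3 : ∀ g ∈ K, ∀ x ∈ B, g • x ∈ B → g ∈ L := by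
      rintro g hg x ⟨a, ha, rfl⟩ ⟨a', ha', hx⟩
      have h1 : a'⁻¹ * g * a ∈ M := by
        rw [memM, mul_smul, mul_smul, ← hx, inv_smul_smul]
      have h2 : a'⁻¹ * g * a ∈ K := K.mul_mem (K.mul_mem (K.inv_mem (hLK ha')) hg) (hLK ha)
      have h3 : a'⁻¹ * g * a ∈ L := hHL (hHKM ⟨h2, h1⟩)
      have h4 : g = a' * (a'⁻¹ * g * a) * a⁻¹ := by group
      rw [h4]
      exact L.mul_mem (L.mul_mem ha' h3) (L.inv_mem ha)
    have hLstab : L ≤ stabilizer G B := by
      intro a ha
      rw [mem_stabilizer_set]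
      intro x
      constructor
      · intro h
        have := B2 a⁻¹ (L.inv_mem ha) _ h
        rwa [inv_smul_smul] at this
      · exact B2 a ha x
    -- the points
    set u : X := l • pt with hu
    set v : X := k • pt with hv
    set w : X := k • u with hw
    have huB : u ∈ B := ⟨l, hlL, rfl⟩
    have hupt : u ≠ pt := by
      intro h
      exact hlH (hHKM ⟨hlK, (memM l).mpr h⟩)
    have hvB : v ∉ B := fun h => hkL (B3 k hkK pt hptB h)
    have hwB : w ∉ B := fun h => hkL (B3 k hkK u huB h)
    have hwv : w ≠ v := by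
      intro h
      exact hupt (MulAction.injective k h)
    have hvpt : v ≠ pt := fun h => hvB (h ▸ hptB)
    have hwpt : w ≠ pt := fun h => hwB (h ▸ hptB)
    have hvu : v ≠ u := fun h => hvB (h ▸ huB)
    have hwu : w ≠ u := fun h => hwB (h ▸ huB)
    -- the dichotomy
    have hHJ : H ≤ M ⊓ stabilizer G B := le_inf hHM (hHL.trans hLstab)
    have hcase : M ≤ stabilizer G B ∨ M ⊓ stabilizer G B ≤ H := by
      rcases eq_or_lt_of_le (Subgroup.subgroupOf_mono M hHJ) with h | h
      · right
        rw [Subgroup.subgroupOf_inj] at h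
        have : M ⊓ stabilizer G B ⊓ M = M ⊓ stabilizer G B := by
          rw [inf_comm, ← inf_assoc, inf_idem]
        rw [← this, ← h]
        exact inf_le_left
      · left
        have := hmax.2 _ h
        rw [Subgroup.subgroupOf_eq_top] at this
        exact this.trans inf_le_right
    rcases hcase with hc | hc
    · -- M stabilises B : impossible
      obtain ⟨g, hg⟩ := lift (cyc u v w) (cyc_sign hvu.symm hwv.symm)
      have hgpt : g • pt = pt := by
        rw [hg pt, cyc_of_ne hupt.symm hvpt.symm hwpt.symm]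
      have hgM : g ∈ M := (memM g).mpr hgpt
      have := hc hgM
      rw [mem_stabilizer_set] at this
      have h2 := (this u).mpr huB
      rw [hg u, cyc_a hvu.symm hwu.symm] at h2
      exact hvB h2
    · -- the stabiliser of pt and B is H
      obtain ⟨z, hzB, hzkB⟩ : ∃ z, z ∉ B ∧ z ∉ (fun x => k • x) '' B := by
        by_contra hcon
        simp only [not_exists, not_and, not_not] at hcon
        have hun : B ∪ (fun x => k • x) '' B = Set.univ := by
          ext z
          simp only [Set.mem_union, Set.mem_univ, iff_true]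
          by_cases hz : z ∈ B
          · exact Or.inl hz
          · exact Or.inr (hcon z hz)
        have hdisj : Disjoint B ((fun x => k • x) '' B) := by
          rw [Set.disjoint_left]
          rintro x hx ⟨y, hy, rfl⟩
          exact hkL (B3 k hkK y hy hx)
        have hcard : Fintype.card X = B.ncard + B.ncard := by
          rw [← Nat.card_eq_fintype_card, ← Set.ncard_univ, ← hun,
            Set.ncard_union_eq hdisj (Set.toFinite _) (Set.toFinite _),
            Set.ncard_image_of_injective _ (MulAction.injective k)]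
        rw [hcard] at hoddX
        exact (Nat.not_odd_iff_even.mpr ⟨_, rfl⟩) hoddX
      have hzv : z ≠ v := fun h => hzkB ⟨pt, hptB, h.symm⟩
      have hzw : z ≠ w := fun h => hzkB ⟨u, huB, h.symm⟩
      obtain ⟨g, hg⟩ := lift (cyc v w z) (cyc_sign hwv.symm hzw.symm)
      have hfix : ∀ x ∈ B, g • x = x := by
        intro x hx
        rw [hg x]
        apply cyc_of_ne
        · exact fun h => hvB (h ▸ hx)
        · exact fun h => hwB (h ▸ hx)
        · exact fun h => hzB (h ▸ hx)
      have hgM : g ∈ M := (memM g).mpr (hfix pt hptB)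
      have hgB : g ∈ stabilizer G B := by
        rw [mem_stabilizer_set]
        intro x
        constructor
        · intro h
          have h1 := hfix _ h
          have h2 := MulAction.injective g h1
          rwa [h2] at h
        · intro h
          rw [hfix x h]
          exact h
      have hgH : g ∈ H := hc ⟨hgM, hgB⟩
      have hgK : g ∈ K := hHK hgH
      have hcK : k⁻¹ * g * k ∈ K := K.mul_mem (K.mul_mem (K.inv_mem hkK) hgK) hkK
      have hgv : g • v = w := by
        rw [hg v, cyc_a hwv.symm hzv.symm]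
      have hgw : g • w = z := by
        rw [hg w, cyc_b hzw.symm hzv.symm]
      have hcpt : (k⁻¹ * g * k) • pt = u := by
        rw [mul_smul, mul_smul]
        change k⁻¹ • g • v = u
        rw [hgv, hw, inv_smul_smul]
      have hcL : k⁻¹ * g * k ∈ L := B3 _ hcK pt hptB (hcpt ▸ huB)
      have hcu : (k⁻¹ * g * k) • u = k⁻¹ • z := by
        rw [mul_smul, mul_smul]
        change k⁻¹ • g • w = k⁻¹ • z
        rw [hgw]
      have := B2 _ hcL u huB
      rw [hcu] at this
      apply hzkB
      exact ⟨k⁻¹ • z, this, smul_inv_smul k z⟩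

theorem exists_lift {G : Type*} [Group G] [Finite G] (n : ℕ)
    (hA : ∀ P : Subgroup (Equiv.Perm (Fin n)), MulAction.IsPreprimitive P (Fin n) → alternatingGroup (Fin n) ≤ P)
    (M : Subgroup G) (hM : IsCoatom M) (hn : M.index = n) [Fintype (G ⧸ M)] [DecidableEq (G ⧸ M)]
    (σ : Equiv.Perm (G ⧸ M)) (hσ : Equiv.Perm.sign σ = 1) : ∃ g : G, ∀ x : G ⧸ M, g • x = σ x := by
  have hcard : Nat.card (G ⧸ M) = n := hn
  have hnt : Nontrivial (G ⧸ M) := by
    rw [← Finite.one_lt_card_iff_nontrivial, hcard, ← hn]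
    have h1 : M.index ≠ 1 := fun h => hM.1 (Subgroup.index_eq_one.mp h)
    have h0 : M.index ≠ 0 := Subgroup.index_ne_zero_of_finite
    omega
  have hprim : IsPreprimitive G (G ⧸ M) := by
    rw [← isCoatom_stabilizer_iff_preprimitive G ((1 : G) : G ⧸ M), stabilizer_quotient]
    exact hM
  let e : (G ⧸ M) ≃ Fin n := Finite.equivFinOfCardEq hcard
  let φ : G →* Equiv.Perm (Fin n) := (e.permCongrHom.toMonoidHom).comp (MulAction.toPermHom G (G ⧸ M))
  let P : Subgroup (Equiv.Perm (Fin n)) := φ.range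
  let φ' : G → P := fun g => ⟨φ g, ⟨g, rfl⟩⟩
  let f : (G ⧸ M) →ₑ[φ'] Fin n :=
    { toFun := e
      map_smul' := by
        intro g x
        change e (g • x) = (φ g) (e x)
        simp [φ, Equiv.permCongrHom, Equiv.permCongr_apply] }
  have hP : IsPreprimitive P (Fin n) := IsPreprimitive.of_surjective (f := f) e.surjective
  have hAP := hA P hP
  have hmem : e.permCongr σ ∈ alternatingGroup (Fin n) := by
    rw [Equiv.Perm.mem_alternatingGroup, Equiv.Perm.sign_permCongr, hσ]
  obtain ⟨g, hg⟩ := hAP hmem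
  refine ⟨g, fun x => ?_⟩
  have h1 : e.permCongr (MulAction.toPerm g) = e.permCongr σ := hg
  have h2 := (Equiv.permCongr e).injective h1
  rw [← h2]
  rfl

theorem result {G : Type*} [Group G]
    [Finite G] (n : ℕ) (hodd : Odd n)
    (hA : ∀ P : Subgroup (Equiv.Perm (Fin n)), MulAction.IsPreprimitive P (Fin n) → alternatingGroup (Fin n) ≤ P)
    (M : Subgroup G) (hM : IsCoatom M) (hn : M.index = n) (H : Subgroup G) (hHM : H ≤ M)
    (hmax : IsCoatom (H.subgroupOf M)) (K : Subgroup G) (hK : IsCoatom K) (hHK : H ≤ K) :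
    IsCoatom (H.subgroupOf K) := by
  classical
  by_cases hKeq : K = M
  · subst hKeq
    exact hmax
  have hKM : ¬ K ≤ M := by
    intro h
    rcases eq_or_lt_of_le h with h' | h'
    · exact hKeq h'
    · exact hM.1 (hK.2 M h')
  have hMK : ¬ M ≤ K := by
    intro h
    rcases eq_or_lt_of_le h with h' | h'
    · exact hKeq h'.symm
    · exact hK.1 (hM.2 K h')
  have hHKM : K ⊓ M ≤ H := by
    have hle : H ≤ K ⊓ M := le_inf hHK hHM
    rcases eq_or_lt_of_le (Subgroup.subgroupOf_mono M hle) with h | h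
    · rw [Subgroup.subgroupOf_inj] at h
      have : K ⊓ M ⊓ M = K ⊓ M := by rw [inf_assoc, inf_idem]
      rw [← this, ← h]
      exact inf_le_left
    · have := hmax.2 _ h
      rw [Subgroup.subgroupOf_eq_top] at this
      exact absurd (this.trans inf_le_left) hMK
  have : Fintype (G ⧸ M) := Fintype.ofFinite _
  have hcardX : Fintype.card (G ⧸ M) = n := by
    rw [← Nat.card_eq_fintype_card]
    exact hn
  exact core (X := G ⧸ M) (hcardX ▸ hodd) (fun σ hσ => exists_lift n hA M hM hn σ hσ)
    ((1 : G) : G ⧸ M) M H K (stabilizer_quotient M) hHM hmax hHK hHKM hKM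

end Cfsg.Agent.S5885
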