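import Cfsg.Statements.S5890
import Cfsg.Agent.Lib.Helper41.PGLMeet6

set_option autoImplicit false
open Cfsg

namespace Cfsg.Agent.S5890

/-- Let F be a finite field with q ≥ 4 elements, let L ≤ PGL₂(F) be the image of SL₂(F) (a copy of PSL₂(F), of index gcd(2, q − 1)), and let M be a maximal subgroup of PGL₂(F) that does not contain L. Suppose q ∉ {7, 9, 11} and that q is not a prime congruent to ±11 or ±19 modulo 40. Then M ∩ L is a maximal subgroup of L. (For the excluded q there are maximal subgroups of PGL₂(q) — dihedral groups of order 12 and 16 at q = 7, of order 20 and 16 at q = 9, of order 20 at q = 11, and S₄ at the excluded primes — whose intersection with L is not maximal in L.) -/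
theorem result {F : Type*} [Field F]
    [Fintype F] (h4 : 4 ≤ Fintype.card F) (h7 : Fintype.card F ≠ 7) (h9 : Fintype.card F ≠ 9) (h11 : Fintype.card F ≠ 11)
    (h40 : (Fintype.card F).Prime → Fintype.card F % 40 ∉ ({11, 19, 21, 29} : Finset ℕ))
    (M : Subgroup (Matrix.ProjGenLinGroup (Fin 2) F)) (hM : IsCoatom M)
    (hML : ¬ (Matrix.ProjGenLinGroup.mk.comp Matrix.SpecialLinearGroup.toGL).range ≤ M) :
    IsCoatom ((M ⊓ (Matrix.ProjGenLinGroup.mk.comp Matrix.SpecialLinearGroup.toGL).range).subgroupOf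
      (Matrix.ProjGenLinGroup.mk.comp Matrix.SpecialLinearGroup.toGL).range) := by
  classical
  obtain ⟨p, hchar⟩ := CharP.exists F
  haveI := hchar
  haveI : Fact p.Prime := ⟨CharP.char_is_prime F p⟩
  rw [Cfsg.Agent.Helper41.PGLMax.range_eq] at hML ⊢
  by_cases hp2 : p = 2
  · subst hp2
    rw [Cfsg.Agent.Helper41.PGLMax.range_tau_eq_top, inf_top_eq]
    exact Cfsg.Agent.Helper41.PGLMax.isCoatom_subgroupOf_top M hM
  · have hodd : Odd (Fintype.card F) := Cfsg.Agent.Helper41.odd_card_of_char_ne_two p hp2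
    have h5 : 5 ≤ Fintype.card F := by
      obtain ⟨j, hj⟩ := hodd
      omega
    have hL2 := Cfsg.Agent.Helper41.PGLMax.index_range_tau hodd
    have hML' : ¬ M ≤ (Cfsg.Agent.Helper41.PGLMax.tau (F := F)).range :=
      Cfsg.Agent.Helper41.PGLMax.not_le_of_coatom _ hL2 M hM hML
    apply Cfsg.Agent.Helper41.PGLMax.isCoatom_meet_of_comap
    by_cases hpM : p ∣ Nat.card M
    · exact Cfsg.Agent.Helper41.PGLMax.comap_isCoatom_p_dvd p hp2 M hM hML' hML hpM
    · exact Cfsg.Agent.Helper41.PGLMax.comap_isCoatom_p_ndvd p hp2 h5 h7 h9 h11 h40 M hM hML' hpM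

end Cfsg.Agent.S5890
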