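import Cfsg.Statements.S5891
import Cfsg.Agent.Lib.Helper41.PGLMain

set_option autoImplicit false
open Cfsg

namespace Cfsg.Agent.S5891

/-- Let F be a finite field of odd order q > 3 and characteristic p, and let M be a maximal subgroup of PGL₂(F) not containing the image L of SL₂(F) (a copy of PSL₂(F) of index 2). Then one of the following holds: |M| = q(q − 1) (M is the stabiliser of a point of the projective line); q ≠ 5 and M is dihedral of order 2(q − 1); M is dihedral of order 2(q + 1); q = p ≡ ±3 (mod 8) and M ≅ S₄; or q = q₀^r for an odd prime r and M ≅ PGL₂(F₀) with |F₀| = q₀. -/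
theorem result {F : Type*} [Field F] [Fintype F]
    (hodd : Odd (Fintype.card F)) (h3 : 3 < Fintype.card F) (M : Subgroup (Matrix.ProjGenLinGroup (Fin 2) F)) (hM : IsCoatom M)
    (hML : ¬ (Matrix.ProjGenLinGroup.mk.comp Matrix.SpecialLinearGroup.toGL).range ≤ M) :
    Nat.card M = Fintype.card F * (Fintype.card F - 1) ∨
    (Fintype.card F ≠ 5 ∧ Nonempty (M ≃* DihedralGroup (Fintype.card F - 1))) ∨
    Nonempty (M ≃* DihedralGroup (Fintype.card F + 1)) ∨
    ((Fintype.card F).Prime ∧ (Fintype.card F % 8 = 3 ∨ Fintype.card F % 8 = 5) ∧ Nonempty (M ≃* Equiv.Perm (Fin 4))) ∨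
    (∃ (F₀ : Type) (_ : Field F₀) (_ : Fintype F₀) (r : ℕ), r.Prime ∧ Odd r ∧ Fintype.card F = Fintype.card F₀ ^ r ∧
        Nonempty (M ≃* Matrix.ProjGenLinGroup (Fin 2) F₀)) := by
  classical
  obtain ⟨p, hchar⟩ := CharP.exists F
  haveI := hchar
  haveI : Fact p.Prime := ⟨CharP.char_is_prime F p⟩
  have hpp : p.Prime := Fact.out
  have hp2 : p ≠ 2 := by
    rintro rfl
    obtain ⟨n, -, hn⟩ := FiniteField.card F 2
    have : Even (Fintype.card F) := by
      rw [hn]
      exact Nat.even_pow.mpr ⟨even_two, n.pos.ne'⟩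
    exact (Nat.not_even_iff_odd.mpr hodd) this
  have h5 : 5 ≤ Fintype.card F := by
    obtain ⟨j, hj⟩ := hodd
    omega
  rw [Cfsg.Agent.Helper41.PGLMax.range_eq] at hML
  have hL2 := Cfsg.Agent.Helper41.PGLMax.index_range_tau hodd
  have hML' : ¬ M ≤ (Cfsg.Agent.Helper41.PGLMax.tau (F := F)).range :=
    Cfsg.Agent.Helper41.PGLMax.not_le_of_coatom _ hL2 M hM hML
  by_cases hpM : p ∣ Nat.card M
  · rcases Cfsg.Agent.Helper41.PGLMax.main_p_dvd p hp2 M hM hML' hML hpM with h | h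
    · exact Or.inl h
    · exact Or.inr (Or.inr (Or.inr (Or.inr h)))
  · rcases Cfsg.Agent.Helper41.PGLMax.type_of_pprime p hodd M hpM with
      hcyc | ⟨n, hn, ⟨e⟩⟩ | ⟨⟨e⟩⟩ | ⟨⟨e⟩⟩ | ⟨⟨e⟩⟩
    · exact (Cfsg.Agent.Helper41.PGLMax.cyclic_case_gl p hp2 h5 M hM hML' hpM hcyc).elim
    · rcases Cfsg.Agent.Helper41.PGLMax.dihedral_case_gl p hp2 h5 M hM hML' hpM n hn e with
        ⟨hn1, hq5⟩ | hn1
      · right; left
        subst hn1
        exact ⟨hq5, ⟨e⟩⟩
      · right; right; left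
        subst hn1
        exact ⟨e⟩
    · exact absurd (Cfsg.Agent.Helper41.PGLMax.alt4_le_range hodd M e) hML'
    · obtain ⟨hpr, h8⟩ := Cfsg.Agent.Helper41.PGLMax.perm4_case_gl p hp2 h5 M hM hML' hpM e
      right; right; right; left
      exact ⟨hpr, h8, ⟨e⟩⟩
    · exact absurd (Cfsg.Agent.Helper41.PGLMax.alt5_le_range hodd M e) hML'

end Cfsg.Agent.S5891
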