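import Cfsg.Statements.S5892
import Cfsg.Agent.Lib.Helper41.PMaxA5

set_option autoImplicit false
set_option linter.unusedSectionVars false
set_option linter.unusedVariables false
set_option linter.style.haveILetI false
open Cfsg

namespace Cfsg.Agent.S5892

open Cfsg.Agent.Helper98.Ident Cfsg.Agent.Helper98.Dickson Cfsg.Agent.Helper41
  Cfsg.Agent.Helper41.PMax

theorem mod_eight_of_sq {q : ℕ} (hodd : Odd q) (h : q ^ 2 % 16 = 1) : q % 8 = 1 ∨ q % 8 = 7 := by
  rw [Nat.pow_mod] at h
  have hlt : q % 16 < 16 := Nat.mod_lt _ (by norm_num)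
  obtain ⟨j, hj⟩ := hodd
  have h8 : q % 8 = (q % 16) % 8 := by omega
  rw [h8]
  generalize q % 16 = r at h hlt
  interval_cases r <;> simp at h ⊢

theorem mod_five_of_sq {q : ℕ} (h : 5 ∣ q ^ 2 - 1) (hq : 1 ≤ q) : q % 5 = 1 ∨ q % 5 = 4 := by
  have h1 : 1 ≤ q ^ 2 := Nat.one_le_pow _ _ hq
  have h2 : q ^ 2 % 5 = 1 := by omega
  rw [Nat.pow_mod] at h2
  have hlt : q % 5 < 5 := Nat.mod_lt _ (by norm_num)
  generalize q % 5 = r at h2 hlt
  interval_cases r <;> simp at h2 ⊢

/-- Let F be a finite field of odd order q ≥ 5 and characteristic p, and let M be a maximal subgroup of PSL₂(F). Then one of the following holds: |M| = q(q − 1)/2 (the stabiliser of a point of the projective line); q ≥ 13 and M is dihedral of order q − 1; q ∉ {7, 9} and M is dihedral of order q + 1; q = q₀² and M ≅ PGL₂(F₀) with |F₀| = q₀; q = q₀^r for an odd prime r and M ≅ PSL₂(F₀) with |F₀| = q₀; q ≡ ±1 (mod 10) with q = p or q = p², p ≡ ±3 (mod 10), and M ≅ A₅; q = p ≡ ±3 (mod 8), q ≢ ±1 (mod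 10), and M ≅ A₄; or q = p ≡ ±1 (mod 8) and M ≅ S₄. -/
theorem result {F : Type*} [Field F] [Fintype F] (p : ℕ)
    [Fact p.Prime] [CharP F p] (hodd : Odd (Fintype.card F)) (h5 : 5 ≤ Fintype.card F)
    (M : Subgroup (Matrix.ProjectiveSpecialLinearGroup (Fin 2) F)) (hM : IsCoatom M) :
    2 * Nat.card M = Fintype.card F * (Fintype.card F - 1) ∨
    (13 ≤ Fintype.card F ∧ (∃ k : ℕ, 2 * k = Fintype.card F - 1 ∧ Nonempty (M ≃* DihedralGroup k))) ∨
    (Fintype.card F ≠ 7 ∧ Fintype.card F ≠ 9 ∧ (∃ k : ℕ, 2 * k = Fintype.card F + 1 ∧ Nonempty (M ≃* DihedralGroup k))) ∨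
    (∃ (F₀ : Type) (_ : Field F₀) (_ : Fintype F₀), Fintype.card F = Fintype.card F₀ ^ 2 ∧
        Nonempty (M ≃* Matrix.ProjGenLinGroup (Fin 2) F₀)) ∨
    (∃ (F₀ : Type) (_ : Field F₀) (_ : Fintype F₀) (r : ℕ), r.Prime ∧ Odd r ∧ Fintype.card F = Fintype.card F₀ ^ r ∧
        Nonempty (M ≃* Matrix.ProjectiveSpecialLinearGroup (Fin 2) F₀)) ∨
    ((Fintype.card F % 10 = 1 ∨ Fintype.card F % 10 = 9) ∧
        (Fintype.card F = p ∨ (Fintype.card F = p ^ 2 ∧ (p % 10 = 3 ∨ p % 10 = 7))) ∧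
        Nonempty (M ≃* alternatingGroup (Fin 5))) ∨
    (Fintype.card F = p ∧ (p % 8 = 3 ∨ p % 8 = 5) ∧ ¬ (p % 10 = 1 ∨ p % 10 = 9) ∧
        Nonempty (M ≃* alternatingGroup (Fin 4))) ∨
    (Fintype.card F = p ∧ (p % 8 = 1 ∨ p % 8 = 7) ∧ Nonempty (M ≃* Equiv.Perm (Fin 4))) := by
  classical
  have hpp : p.Prime := Fact.out
  obtain ⟨n, -, hn⟩ := FiniteField.card F p
  have hp2 : p ≠ 2 := by
    rintro rfl
    have : Even (Fintype.card F) := by
      rw [hn]
      exact (Nat.even_pow.mpr ⟨even_two, n.ne_zero⟩)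
    exact (Nat.not_even_iff_odd.mpr hodd) this
  have h2F : (2 : F) ≠ 0 := two_ne_zero_of_odd_card hodd
  have hpq : p ≤ Fintype.card F := by
    rw [hn]
    calc p = p ^ 1 := (pow_one p).symm
      _ ≤ p ^ (n : ℕ) := Nat.pow_le_pow_right hpp.pos n.pos
  haveI := finite_PG (F := F)
  rcases dickson_raw p M with hpM | ⟨σ, hB⟩ | ⟨h2, -⟩ | ⟨h3, ⟨e⟩⟩ | ⟨σ, k, hk, hu, hdec⟩
  · -- order prime to p
    rcases dickson_pprime p M hpM with hcyc | ⟨m, hm, ⟨e⟩⟩ | ⟨⟨e⟩⟩ | ⟨⟨e⟩⟩ | ⟨⟨e⟩⟩
    · exact (cyclic_case p hp2 h5 M hM hpM hcyc).elim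
    · obtain ⟨hn3, h⟩ := dihedral_case p hp2 h5 M hM hpM m hm e
      obtain ⟨ex1, ex2⟩ := dihedral_exceptions hodd h5 M hM m hn3 e
      rcases h with h | h
      · right; left
        exact ⟨ex1 h, m, h, ⟨e⟩⟩
      · right; right; left
        exact ⟨(ex2 h).1, (ex2 h).2, m, h, ⟨e⟩⟩
    · -- A4
      have hle := alt4_card_le p hp2 M hM hpM e
      rw [pow_one] at hle
      have hqp : Fintype.card F = p := le_antisymm hle hpq
      have h8 := alt4_mod_eight hodd h5 M hM e
      have h10 : ¬ (Fintype.card F % 10 = 1 ∨ Fintype.card F % 10 = 9) :=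
        fun h => alt4_not_mod_ten hodd h5 M hM e h
      rw [hqp] at h8 h10
      right; right; right; right; right; right; left
      exact ⟨hqp, h8, h10, ⟨e⟩⟩
    · -- S4
      have hle := perm4_card_le p hp2 M hM hpM e
      rw [pow_one] at hle
      have hqp : Fintype.card F = p := le_antisymm hle hpq
      have h16 : Fintype.card F ^ 2 % 16 = 1 := (Cfsg.Agent.S0803.result (F := F) rfl).mp ⟨M, ⟨e⟩⟩
      have h8 := mod_eight_of_sq hodd h16
      rw [hqp] at h8
      right; right; right; right; right; right; right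
      exact ⟨hqp, h8, ⟨e⟩⟩
    · -- A5
      have hle2 := alt5_card_le p hp2 M hM hpM e 2 (by norm_num) (sqrt_five_mem_two p hp2)
      have hn2 : (n : ℕ) ≤ 2 := by
        rw [hn] at hle2
        exact (Nat.pow_le_pow_iff_right hpp.one_lt).mp hle2
      have hcardM : Nat.card M = 60 := by
        rw [Nat.card_congr e.toEquiv, card_alternatingGroup_five]
      have hp5 : p ≠ 5 := by
        rintro rfl
        apply hpM
        rw [hcardM]
        norm_num
      have h5dvd : 5 ∣ Fintype.card F * (Fintype.card F ^ 2 - 1) :=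
        (alt5_le_psl2_iff (F := F) rfl).mp ⟨M, ⟨e⟩⟩
      have hcop : Nat.Coprime 5 (Fintype.card F) := by
        rw [hn]
        apply Nat.Coprime.pow_right
        rw [Nat.coprime_primes (by norm_num) hpp]
        exact fun h => hp5 h.symm
      have hd := hcop.dvd_of_dvd_mul_left h5dvd
      have hq5 := mod_five_of_sq hd (by omega)
      have hq10 : Fintype.card F % 10 = 1 ∨ Fintype.card F % 10 = 9 := by
        obtain ⟨j, hj⟩ := hodd
        omega
      right; right; right; right; right; left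
      refine ⟨hq10, ?_, ⟨e⟩⟩
      have hn12 : (n : ℕ) = 1 ∨ (n : ℕ) = 2 := by
        have := n.pos
        omega
      rcases hn12 with h1 | h2
      · left
        rw [hn, h1, pow_one]
      · right
        have hq2 : Fintype.card F = p ^ 2 := by rw [hn, h2]
        refine ⟨hq2, ?_⟩
        by_contra hcon
        have hpodd : p % 2 = 1 := by
          rcases hpp.eq_two_or_odd with h | h
          · exact absurd h hp2
          · exact h
        have hp5' : p % 5 ≠ 0 := by
          intro h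
          have : 5 ∣ p := Nat.dvd_of_mod_eq_zero h
          rw [Nat.prime_dvd_prime_iff_eq (by norm_num) hpp] at this
          exact hp5 this.symm
        have hp14 : p % 5 = 1 ∨ p % 5 = 4 := by
          push Not at hcon
          omega
        have hle1 := alt5_card_le p hp2 M hM hpM e 1 (by norm_num) (sqrt_five_mem_one p hp14)
        rw [hq2, pow_one] at hle1
        have : p * 2 ≤ p ^ 2 := by
          rw [pow_two]
          exact Nat.mul_le_mul_left p hpp.two_le
        have := hpp.pos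
        omega
  · -- Borel
    left
    have hM' := map_isCoatom σ M hM
    have := borel_case hodd (M.map σ.toMonoidHom) hM' hB
    rw [Nat.card_congr (σ.subgroupMap M).toEquiv]
    exact this
  · exact absurd h2 hp2
  · -- p = 3, A5
    subst h3
    have hq := alt5_char_three h5 M hM e
    right; right; right; right; right; left
    refine ⟨Or.inr (by rw [hq]), Or.inr ⟨by rw [hq]; norm_num, Or.inl (by norm_num)⟩, ⟨e⟩⟩
  · -- subfield
    have hM' := map_isCoatom σ M hM
    rcases subfield_case h2F (M.map σ.toMonoidHom) hM' k hk hu hdec with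
      ⟨F₀, i1, i2, hc, ⟨e'⟩⟩ | ⟨F₀, i1, i2, r, hr, hro, hc, ⟨e'⟩⟩
    · right; right; right; left
      exact ⟨F₀, i1, i2, hc, ⟨(σ.subgroupMap M).trans e'⟩⟩
    · right; right; right; right; left
      exact ⟨F₀, i1, i2, r, hr, hro, hc, ⟨(σ.subgroupMap M).trans e'⟩⟩

end Cfsg.Agent.S5892
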