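import Cfsg.Statements.S5893
import Cfsg.Agent.S1349
import Cfsg.Agent.Lib.Helper41.DicksonUse2
import Cfsg.Agent.Lib.Helper41.IcosaPSL2
import Cfsg.Agent.Lib.Helper98.DicksonFull
import Cfsg.Agent.Lib.Helper98.SL2Torus
import Cfsg.Agent.Lib.Helper98.PSL2Card

set_option autoImplicit false
set_option linter.unusedSectionVars false
set_option linter.unusedVariables false
set_option linter.unusedSimpArgs false
set_option linter.style.haveILetI false
open Cfsg

namespace Cfsg.Agent.S5893

open Cfsg.Agent.Helper98.Ident Cfsg.Agent.Helper98.Dickson Cfsg.Agent.Helper98.Torus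
  Cfsg.Agent.Helper98.Final

section char2

variable {F : Type*} [Field F] [Fintype F]

theorem mk_injective (h2 : (2 : F) = 0) :
    Function.Injective (QuotientGroup.mk' (Subgroup.center (S2 F))) := by
  rw [← MonoidHom.ker_eq_bot_iff, QuotientGroup.ker_mk']
  exact Cfsg.Agent.Helper41.sl2_center_eq_bot_char_two h2

/-- in characteristic two, `SL₂ = PSL₂` -/
noncomputable def eS (h2 : (2 : F) = 0) : S2 F ≃* Matrix.ProjectiveSpecialLinearGroup (Fin 2) F :=
  MulEquiv.ofBijective (QuotientGroup.mk' (Subgroup.center (S2 F)))
    ⟨mk_injective h2, QuotientGroup.mk'_surjective _⟩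

/-- in characteristic two, the preimage of `H` is isomorphic to `H` -/
noncomputable def e0 (h2 : (2 : F) = 0)
    (H : Subgroup (Matrix.ProjectiveSpecialLinearGroup (Fin 2) F)) : pre H ≃* H :=
  MulEquiv.ofBijective (proj H) ⟨by
    intro x y hxy
    apply Subtype.ext
    apply mk_injective h2
    exact congrArg Subtype.val hxy, proj_surjective H⟩

theorem pre_coatom (h2 : (2 : F) = 0)
    (H : Subgroup (Matrix.ProjectiveSpecialLinearGroup (Fin 2) F)) (hH : IsCoatom H) :
    IsCoatom (pre H) := by
  have h := ((eS h2).comapSubgroup.isCoatom_iff H).mpr hH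
  exact h

theorem map_coatom {G : Type*} [Group G] (σ : G ≃* G) (H : Subgroup G) (hH : IsCoatom H) :
    IsCoatom (H.map σ.toMonoidHom) := by
  have h := (σ.mapSubgroup.isCoatom_iff H).mpr hH
  exact h

theorem exists_model' (k : Subfield F) :
    ∃ (K2 : Type) (_ : Field K2) (_ : Fintype K2) (φ : K2 →+* F),
      φ.fieldRange = k ∧ Fintype.card K2 ^ (Module.finrank k F) = Fintype.card F := by
  classical
  let e : Shrink.{0} k ≃+* k := Shrink.ringEquiv.{0} k
  haveI : Fintype (Shrink.{0} k) := Fintype.ofEquiv k e.symm.toEquiv
  refine ⟨Shrink.{0} k, inferInstance, inferInstance, k.subtype.comp e.toRingHom, ?_, ?_⟩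
  · ext x
    rw [RingHom.mem_fieldRange]
    constructor
    · rintro ⟨y, rfl⟩
      exact (e y).2
    · intro hx
      exact ⟨e.symm ⟨x, hx⟩, by simp⟩
  · rw [Fintype.card_congr e.toEquiv]
    exact (Module.card_eq_pow_finrank (K := k) (V := F)).symm

theorem dih_conj (n : ℕ) (d : DihedralGroup n) :
    d * DihedralGroup.r 1 * d⁻¹ = DihedralGroup.r 1 ∨
      d * DihedralGroup.r 1 * d⁻¹ = (DihedralGroup.r 1)⁻¹ := by
  rcases d with i | i
  · left
    simp [DihedralGroup.r_mul_r]
  · right
    simp [DihedralGroup.sr_mul_r, DihedralGroup.sr_mul_sr]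

end char2

/-- Let F be a finite field of even order q ≥ 4 and let M be a maximal subgroup of PSL₂(F) (= SL₂(F) = PGL₂(F)). Then one of the following holds: |M| = q(q − 1) (the stabiliser of a point of the projective line, elementary abelian of order q extended by a cyclic group of order q − 1); M is dihedral of order 2(q − 1); M is dihedral of order 2(q + 1); or q = q₀^r for a prime r with q₀ ≠ 2 and M ≅ PSL₂(F₀) with |F₀| = q₀. -/
theorem result {F : Type*} [Field F] [Fintype F]
    (heven : Even (Fintype.card F)) (h4 : 4 ≤ Fintype.card F) (M : Subgroup (Matrix.ProjectiveSpecialLinearGroup (Fin 2) F)) (hM : IsCoatom M) :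
    Nat.card M = Fintype.card F * (Fintype.card F - 1) ∨
    Nonempty (M ≃* DihedralGroup (Fintype.card F - 1)) ∨
    Nonempty (M ≃* DihedralGroup (Fintype.card F + 1)) ∨
    (∃ (F₀ : Type) (_ : Field F₀) (_ : Fintype F₀) (r : ℕ), r.Prime ∧ Fintype.card F₀ ≠ 2 ∧
        Fintype.card F = Fintype.card F₀ ^ r ∧ Nonempty (M ≃* Matrix.ProjectiveSpecialLinearGroup (Fin 2) F₀)) := by
  classical
  have hchar : ringChar F = 2 :=
    FiniteField.even_card_iff_char_two.mpr (Nat.even_iff.mp heven)
  haveI : CharP F 2 := ringChar.of_eq hchar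
  haveI : Fact (Nat.Prime 2) := ⟨Nat.prime_two⟩
  have h2 : (2 : F) = 0 := by
    have := CharP.cast_eq_zero F 2
    exact_mod_cast this
  haveI finS : Finite (S2 F) :=
    inferInstanceAs (Finite {A : Matrix (Fin 2) (Fin 2) F // A.det = 1})
  haveI finG : Finite (Matrix.ProjectiveSpecialLinearGroup (Fin 2) F) :=
    inferInstanceAs (Finite (S2 F ⧸ _))
  have hKco := pre_coatom h2 M hM
  have hcardM : Nat.card (pre M) = Nat.card M := Nat.card_congr (e0 h2 M).toEquiv
  rcases dickson_raw 2 M with hodd | ⟨σ, hB⟩ | ⟨-, n, hn, hn2, ⟨e⟩⟩ | ⟨h3, -⟩ |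
    ⟨σ, k, hk, hu, hdec⟩
  · -- odd order
    exfalso
    rcases dickson_pprime 2 M hodd with hcyc | ⟨n, hn, ⟨e⟩⟩ | ⟨⟨e⟩⟩ | ⟨⟨e⟩⟩ | ⟨⟨e⟩⟩
    · haveI : IsCyclic (pre M) :=
        isCyclic_of_surjective (e0 h2 M).symm (e0 h2 M).symm.surjective
      obtain ⟨⟨X, hX⟩, hgen⟩ := IsCyclic.exists_generator (α := pre M)
      have hpowers : ∀ g ∈ pre M, ∃ i : ℤ, g = X ^ i := by
        intro g hg
        obtain ⟨i, hi⟩ := Subgroup.mem_zpowers_iff.mp (hgen ⟨g, hg⟩)
        refine ⟨i, ?_⟩
        have := congrArg Subtype.val hi
        simpa using this.symm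
      have hle : pre M ≤ NX X := by
        intro g hg
        obtain ⟨i, rfl⟩ := hpowers g hg
        left
        have : X ^ i * X = X * X ^ i := ((Commute.refl X).zpow_left i).eq
        rw [this, mul_inv_cancel_right]
      have hoddK : Odd (Nat.card (pre M)) := by
        rw [hcardM, ← Nat.not_even_iff_odd, even_iff_two_dvd]
        exact hodd
      by_cases ht : X.1.trace = 0
      · have hpow : X ^ Nat.card (pre M) = 1 := by
          have h := pow_card_eq_one' (G := pre M) (x := ⟨X, hX⟩)
          have h' := congrArg Subtype.val h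
          rw [Subgroup.coe_pow] at h'
          exact h'
        have hX1 := eq_one_of_odd_pow h2 X ht _ hoddK hpow
        have hbot : pre M = ⊥ := by
          rw [eq_bot_iff]
          intro g hg
          obtain ⟨i, rfl⟩ := hpowers g hg
          rw [hX1, one_zpow]
          exact Subgroup.mem_bot.mpr rfl
        apply (coatom_card_ne h2 h4 _ hKco).1
        rw [hbot]
        exact Subgroup.card_bot
      · rcases coatom_le_NX h2 h4 (pre M) hKco X ht hle with h | h
        · rw [hcardM] at h
          exact hodd ⟨_, h⟩
        · rw [hcardM] at h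
          exact hodd ⟨_, h⟩
    · apply hodd
      rw [Nat.card_congr e.toEquiv, DihedralGroup.nat_card]
      exact ⟨n, rfl⟩
    · apply hodd
      rw [Nat.card_congr e.toEquiv, Cfsg.Agent.Helper41.card_alternatingGroup_four]
      norm_num
    · apply hodd
      rw [Nat.card_congr e.toEquiv, Cfsg.Agent.Helper41.card_perm_four]
      norm_num
    · apply hodd
      rw [Nat.card_congr e.toEquiv, Cfsg.Agent.Helper41.card_alternatingGroup_five]
      norm_num
  · -- Borel
    left
    have hM' := map_coatom σ M hM
    have hle : M.map σ.toMonoidHom ≤ Cfsg.Agent.Helper41.borelP F := by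
      intro y hy
      obtain ⟨g, rfl⟩ := QuotientGroup.mk_surjective y
      rw [Cfsg.Agent.Helper41.mk_mem_borelP_iff]
      exact hB g hy
    have hne : Cfsg.Agent.Helper41.borelP F ≠ ⊤ := by
      intro h
      have := Cfsg.Agent.Helper41.index_borelP (F := F)
      rw [h, Subgroup.index_top] at this
      omega
    have heq : M.map σ.toMonoidHom = Cfsg.Agent.Helper41.borelP F := by
      rcases eq_or_lt_of_le hle with h | h
      · exact h
      · exact absurd (hM'.2 _ h) hne
    rw [Nat.card_congr (σ.subgroupMap M).toEquiv]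
    change Nat.card (M.map σ.toMonoidHom) = _
    rw [heq]
    exact Cfsg.Agent.Helper41.card_borelP_of_even rfl heven
  · -- dihedral
    have e' : pre M ≃* DihedralGroup n := (e0 h2 M).trans e
    have hcard : Nat.card (pre M) = 2 * n := by
      rw [Nat.card_congr e'.toEquiv, DihedralGroup.nat_card]
    by_cases hn1 : n = 1
    · exfalso
      apply (coatom_card_ne h2 h4 _ hKco).2
      rw [hcard, hn1]
    · set ρ : pre M := e'.symm (DihedralGroup.r 1) with hρ
      set X : S2 F := ρ.1 with hXdef
      have hle : pre M ≤ NX X := by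
        intro g hg
        rcases dih_conj n (e' ⟨g, hg⟩) with h | h
        · left
          have := congrArg e'.symm h
          rw [map_mul, map_mul, map_inv, e'.symm_apply_apply] at this
          exact congrArg Subtype.val this
        · right
          have := congrArg e'.symm h
          rw [map_mul, map_mul, map_inv, map_inv, e'.symm_apply_apply] at this
          exact congrArg Subtype.val this
      have ht : X.1.trace ≠ 0 := by
        intro ht
        have h1 := sq_eq_one_of_trace_zero h2 X ht
        have h1' : ρ * ρ = 1 := Subtype.ext h1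
        have h1'' : (DihedralGroup.r 1 : DihedralGroup n) * DihedralGroup.r 1 = 1 := by
          have := congrArg e' h1'
          rwa [map_mul, map_one, hρ, e'.apply_symm_apply] at this
        have hdvd : n ∣ 2 := by
          rw [← DihedralGroup.orderOf_r_one (n := n)]
          apply orderOf_dvd_of_pow_eq_one
          rw [pow_two]
          exact h1''
        have hle2 := Nat.le_of_dvd (by norm_num) hdvd
        have : n = 2 := by omega
        exact hn2 ⟨1, by omega⟩
      rcases coatom_le_NX h2 h4 (pre M) hKco X ht hle with h | h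
      · right; left
        have h5 : 2 * n = 2 * (Fintype.card F - 1) := hcard.symm.trans h
        have hn' : n = Fintype.card F - 1 := by omega
        rw [← hn']
        exact ⟨e⟩
      · right; right; left
        have h5 : 2 * n = 2 * (Fintype.card F + 1) := hcard.symm.trans h
        have hn' : n = Fintype.card F + 1 := by omega
        rw [← hn']
        exact ⟨e⟩
  · exfalso
    omega
  · -- subfield
    have hM' := map_coatom σ M hM
    have hL := pre_coatom h2 _ hM'
    set M' := M.map σ.toMonoidHom with hM'def
    have hLk : pre M' = SLK k := by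
      apply le_antisymm _ hk
      intro g hg
      obtain ⟨t, ht, ht2, hg0⟩ := hdec g hg
      have htk := mem_of_sq_mem h2 k t ht2
      have : g = g * (dd t)⁻¹ * dd t := by group
      rw [this]
      exact mul_mem hg0 (dd_mem_SLK k t htk)
    have hk_ne : k ≠ ⊤ := by
      intro h
      apply hL.1
      rw [hLk, h, eq_top_iff]
      intro g _ i j
      trivial
    have hmax : ∀ k₁ : Subfield F, k ≤ k₁ → k₁ = k ∨ k₁ = ⊤ := by
      intro k₁ hle
      have hle' : SLK k ≤ SLK k₁ := fun g hg i j => hle (hg i j)
      rcases eq_or_lt_of_le hle' with h | h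
      · left
        apply le_antisymm _ hle
        intro a ha
        have h1 : uu a ∈ SLK k₁ := by
          apply mem_SLK_of <;> simp [ha, zero_mem, one_mem]
        rw [← h] at h1
        have := h1 0 1
        simpa using this
      · right
        rw [← hLk] at h
        have htop := hL.2 _ h
        rw [eq_top_iff]
        intro a _
        have h1 : uu a ∈ SLK k₁ := by rw [htop]; trivial
        have := h1 0 1
        simpa using this
    have hprime := prime_finrank k hk_ne hmax
    obtain ⟨F₀, _, _, φ, hφ, hm⟩ := exists_model' k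
    obtain ⟨eM'⟩ := iso_psl φ M' (by rw [hφ]; exact hk) (by rw [hφ, ← hLk])
    have eM : M ≃* Matrix.ProjectiveSpecialLinearGroup (Fin 2) F₀ :=
      (σ.subgroupMap M).trans eM'
    by_cases hc2 : Fintype.card F₀ = 2
    · -- the case `SL₂(2)`
      have hcardM' : Nat.card (pre M') = 6 := by
        rw [Nat.card_congr (e0 h2 M').toEquiv, Nat.card_congr eM'.toEquiv,
          Cfsg.Agent.Helper98.PSL2Card.card_psl2_even hc2 (by decide)]
        norm_num
      have hdetl : (0 : F) * 1 - 1 * 1 = 1 := by linear_combination (-1 : F) * h2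
      have hdetb : (0 : F) * 0 - 1 * 1 = 1 := by linear_combination (-1 : F) * h2
      set l : S2 F := mk2 0 1 1 1 hdetl with hl
      set b : S2 F := mk2 0 1 1 0 hdetb with hb
      have hb2 : b ^ 2 = 1 := by
        rw [pow_two]
        apply ext2 <;> simp [mul_ent, hb]
      have hl3 : l ^ 3 = 1 := by
        rw [pow_succ, pow_two]
        apply ext2
        · simp [mul_ent, hl]
        · simp [mul_ent, hl]
          linear_combination h2
        · simp [mul_ent, hl]
          linear_combination h2
        · simp [mul_ent, hl]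
          linear_combination h2
      have hl2 : l ^ 2 ≠ 1 := by
        intro h
        have := congrArg (fun Y : S2 F => Y.1 0 1) h
        simp [pow_two, mul_ent, hl] at this
      have hinv : b * l * b⁻¹ = l⁻¹ := by
        apply ext2 <;> simp [mul_ent, inv_ent00, inv_ent01, inv_ent10, inv_ent11, hl, hb] <;>
          first | linear_combination h2 | linear_combination (-1 : F) * h2
      haveI : Fact (Nat.Prime 3) := ⟨Nat.prime_three⟩
      have hord : orderOf l = 3 :=
        orderOf_eq_prime hl3 (by intro h; apply hl2; rw [h, one_pow])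
      obtain ⟨eD⟩ := Cfsg.Agent.S1349.dihedral_of_inverts hb2 hl2 hinv
      rw [hord] at eD
      have hDle : Subgroup.zpowers b ⊔ Subgroup.zpowers l ≤ pre M' := by
        rw [hLk]
        apply sup_le <;> rw [Subgroup.zpowers_le] <;>
          (apply mem_SLK_of <;> simp [zero_mem, one_mem, hl, hb])
      have hDcard : Nat.card ↥(Subgroup.zpowers b ⊔ Subgroup.zpowers l) = 6 := by
        rw [Nat.card_congr eD.toEquiv, DihedralGroup.nat_card]
      have hDeq : Subgroup.zpowers b ⊔ Subgroup.zpowers l = pre M' :=
        Subgroup.eq_of_le_of_card_ge hDle (by rw [hDcard, hcardM'])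
      have hLN : pre M' ≤ NX l := by
        rw [← hDeq]
        apply sup_le <;> rw [Subgroup.zpowers_le]
        · exact Or.inr hinv
        · exact Or.inl (by group)
      have htl : l.1.trace ≠ 0 := by
        rw [Matrix.trace_fin_two]
        simp [hl]
      rcases coatom_le_NX h2 h4 (pre M') hL l htl hLN with h | h
      · right; left
        have h6 : 2 * (Fintype.card F - 1) = 6 := h.symm.trans hcardM'
        have hq3 : Fintype.card F - 1 = 3 := by omega
        rw [hq3]
        exact ⟨(σ.subgroupMap M).trans ((e0 h2 M').symm.trans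
          ((MulEquiv.subgroupCongr hDeq.symm).trans eD))⟩
      · exfalso
        have h6 : 2 * (Fintype.card F + 1) = 6 := h.symm.trans hcardM'
        omega
    · right; right; right
      exact ⟨F₀, inferInstance, inferInstance, Module.finrank k F, hprime, hc2, hm.symm, ⟨eM⟩⟩

end Cfsg.Agent.S5893
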