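import Cfsg.Statements.S5894
import Cfsg.Agent.Lib.Helper97.Partition
import Cfsg.Agent.Lib.Helper97.PointStab

set_option autoImplicit false
open scoped Pointwise
open Cfsg MulAction Cfsg.Agent.Helper97

namespace Cfsg.Agent.S5894

theorem fin2_eq : ∀ i j : Fin 2, (i = 0 ↔ j = 0) → i = j := by decide

theorem card_fiber (m : ℕ) (e : Fin (2 * m) ≃ Fin 2 × Fin m) (i : Fin 2) :
    Nat.card {x : Fin (2 * m) // (e x).1 = i} = m := by
  have eq : {x : Fin (2 * m) // (e x).1 = i} ≃ Fin m :=
    { toFun := fun x => (e x.1).2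
      invFun := fun t => ⟨e.symm (i, t), by simp⟩
      left_inv := by
        intro x
        apply Subtype.ext
        simp only
        have : (i, (e x.1).2) = e x.1 := Prod.ext x.2.symm rfl
        rw [this, Equiv.symm_apply_apply]
      right_inv := by
        intro t
        simp }
  rw [Nat.card_congr eq, Nat.card_fin]

theorem result (m : ℕ) (hm : 2 ≤ m) :
    ∃ M H K : Subgroup (Equiv.Perm (Fin (2 * m))), IsCoatom M ∧ M.index = 2 * m ∧ H ≤ M ∧ IsCoatom (H.subgroupOf M) ∧
      IsCoatom K ∧ H ≤ K ∧ ¬ IsCoatom (H.subgroupOf K) := by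
  set e : Fin (2 * m) ≃ Fin 2 × Fin m := finProdFinEquiv.symm with he
  set f : Fin (2 * m) → Fin 2 := fun x => (e x).1 with hf'
  have hf : ∀ i : Fin 2, Nat.card {x : Fin (2 * m) // f x = i} = m := fun i => card_fiber m e i
  set pt : Fin (2 * m) := e.symm (0, ⟨0, by omega⟩) with hpt
  set p1 : Fin (2 * m) := e.symm (0, ⟨1, by omega⟩) with hp1
  set p2 : Fin (2 * m) := e.symm (1, ⟨0, by omega⟩) with hp2
  set A : Set (Fin (2 * m)) := {x | f x = 0} with hA
  have hfpt : f pt = 0 := by simp [hf', hpt]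
  have hfp1 : f p1 = 0 := by simp [hf', hp1]
  have hfp2 : f p2 = 1 := by simp [hf', hp2]
  have hp1pt : p1 ≠ pt := by
    intro h
    have := e.symm.injective h
    simp [Fin.ext_iff] at this
  have hp2pt : p2 ≠ pt := by
    intro h
    have := e.symm.injective h
    simp at this
  have : Nontrivial (Fin (2 * m)) := ⟨⟨p1, pt, hp1pt⟩⟩
  refine ⟨stabilizer (Equiv.Perm (Fin (2 * m))) pt,
    stabilizer (Equiv.Perm (Fin (2 * m))) pt ⊓ stabilizer (Equiv.Perm (Fin (2 * m))) A,
    partSubgroup f, ?_, ?_, inf_le_left, ?_, ?_, ?_, ?_⟩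
  · exact IsPreprimitive.isCoatom_stabilizer_of_isPreprimitive (G := Equiv.Perm (Fin (2 * m))) pt
  · rw [index_stabilizer_of_transitive, Nat.card_fin]
  · apply isCoatom_subgroupOf_stabilizer_point pt A ⟨p1, hfp1, hp1pt⟩ ⟨p2, ?_, hp2pt⟩
    · rw [Nat.card_fin]; exact even_two_mul m
    · simp [hA, hfp2]
  · exact isCoatom_partSubgroup hm le_rfl f hf
  · intro g hg
    have hgA := (Subgroup.mem_inf.mp hg).2
    rw [mem_stabilizer_set] at hgA
    have key : ∀ x, f (g x) = f x := fun x => fin2_eq _ _ (hgA x)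
    intro x y
    rw [key x, key y]
  · intro hco
    set K := partSubgroup f with hK
    set H := stabilizer (Equiv.Perm (Fin (2 * m))) pt ⊓ stabilizer (Equiv.Perm (Fin (2 * m))) A with hH
    -- the intermediate subgroup
    have hAK : stabilizer (Equiv.Perm (Fin (2 * m))) A ≤ K := by
      intro g hgA
      rw [mem_stabilizer_set] at hgA
      have key : ∀ x, f (g x) = f x := fun x => fin2_eq _ _ (hgA x)
      intro x y
      rw [key x, key y]
    have hswap : Equiv.swap pt p1 ∈ stabilizer (Equiv.Perm (Fin (2 * m))) A :=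
      Equiv.Perm.swap_mem_stabilizer hfpt hfp1
    have hswapH : Equiv.swap pt p1 ∉ H := by
      intro h
      have := (Subgroup.mem_inf.mp h).1
      rw [mem_stabilizer_iff, Equiv.Perm.smul_def, Equiv.swap_apply_left] at this
      exact hp1pt this
    have hlt : H.subgroupOf K < (stabilizer (Equiv.Perm (Fin (2 * m))) A).subgroupOf K := by
      refine lt_of_le_of_ne ?_ ?_
      · exact Subgroup.subgroupOf_mono K inf_le_right
      · intro h
        have h1 : (⟨Equiv.swap pt p1, hAK hswap⟩ : K) ∈ (stabilizer (Equiv.Perm (Fin (2 * m))) A).subgroupOf K := hswap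
        rw [← h] at h1
        exact hswapH h1
    have htop := hco.2 _ hlt
    rw [Subgroup.subgroupOf_eq_top] at htop
    obtain ⟨k, hkK, hk⟩ := exists_perm_of_perm f hf (Equiv.swap 0 1)
    have hkA := htop hkK
    rw [mem_stabilizer_set] at hkA
    have := (hkA pt).mpr hfpt
    change f (k pt) = 0 at this
    rw [hk pt, hfpt, Equiv.swap_apply_left] at this
    exact absurd this (by decide)

end Cfsg.Agent.S5894
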