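import Cfsg.Statements.S5895
import Cfsg.Agent.S5894
import Cfsg.Agent.Lib.Helper97.Wreath

set_option autoImplicit false
open Cfsg MulAction Cfsg.Agent.Helper97

namespace Cfsg.Agent.S5895

theorem case_two (d : ℕ) (hd : 2 ≤ d) :
    ∃ (G : Type) (_ : Group G) (_ : Finite G) (M H K : Subgroup G), IsCoatom M ∧ M.index = 2 ^ d ∧ H ≤ M ∧
      IsCoatom (H.subgroupOf M) ∧ IsCoatom K ∧ H ≤ K ∧ ¬ IsCoatom (H.subgroupOf K) := by
  have hm : 2 ≤ 2 ^ (d - 1) := by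
    calc 2 = 2 ^ 1 := by norm_num
      _ ≤ 2 ^ (d - 1) := Nat.pow_le_pow_right (by norm_num) (by omega)
  obtain ⟨M, H, K, h1, h2, h3, h4, h5, h6, h7⟩ := Cfsg.Agent.S5894.result (2 ^ (d - 1)) hm
  refine ⟨Equiv.Perm (Fin (2 * 2 ^ (d - 1))), inferInstance, inferInstance, M, H, K, h1, ?_, h3, h4, h5, h6, h7⟩
  rw [h2, ← pow_succ']
  congr 1
  omega

theorem stab_not_normal (q : ℕ) (hq : 3 ≤ q) :
    ¬ (stabilizer (Equiv.Perm (Fin q)) (⟨0, by omega⟩ : Fin q)).Normal := by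
  intro hN
  set x0 : Fin q := ⟨0, by omega⟩ with hx0
  set x1 : Fin q := ⟨1, by omega⟩ with hx1
  set x2 : Fin q := ⟨2, by omega⟩ with hx2
  have h01 : x0 ≠ x1 := by simp [hx0, hx1, Fin.ext_iff]
  have h02 : x0 ≠ x2 := by simp [hx0, hx2, Fin.ext_iff]
  have h12 : x1 ≠ x2 := by simp [hx1, hx2, Fin.ext_iff]
  have hmem : Equiv.swap x1 x2 ∈ stabilizer (Equiv.Perm (Fin q)) x0 := by
    rw [mem_stabilizer_iff, Equiv.Perm.smul_def, Equiv.swap_apply_of_ne_of_ne h01 h02]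
  have := hN.conj_mem _ hmem (Equiv.swap x0 x1)
  rw [← Equiv.swap_apply_apply, Equiv.swap_apply_right, Equiv.swap_apply_of_ne_of_ne h02.symm h12.symm,
    mem_stabilizer_iff, Equiv.Perm.smul_def, Equiv.swap_apply_left] at this
  exact h02 this.symm

theorem case_odd (p d : ℕ) (hp : p.Prime) (hp2 : p ≠ 2) (hd : 2 ≤ d) :
    ∃ (G : Type) (_ : Group G) (_ : Finite G) (M H K : Subgroup G), IsCoatom M ∧ M.index = p ^ d ∧ H ≤ M ∧
      IsCoatom (H.subgroupOf M) ∧ IsCoatom K ∧ H ≤ K ∧ ¬ IsCoatom (H.subgroupOf K) := by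
  classical
  set r := d.minFac with hr
  have hrp : r.Prime := Nat.minFac_prime (by omega)
  obtain ⟨e, he⟩ : r ∣ d := Nat.minFac_dvd d
  have he1 : 1 ≤ e := by
    rcases Nat.eq_zero_or_pos e with h | h
    · subst h; omega
    · exact h
  have hp3 : 3 ≤ p := by
    have := hp.two_le
    omega
  set q := p ^ e with hq
  have hq3 : 3 ≤ q := by
    calc 3 ≤ p := hp3
      _ = p ^ 1 := (pow_one p).symm
      _ ≤ p ^ e := Nat.pow_le_pow_right (by omega) he1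
  have : NeZero r := ⟨hrp.ne_zero⟩
  have : Fact (1 < r) := ⟨hrp.one_lt⟩
  have : Nontrivial (Fin q) := ⟨⟨⟨0, by omega⟩, ⟨1, by omega⟩, by simp [Fin.ext_iff]⟩⟩
  set D0 : Subgroup (Equiv.Perm (Fin q)) := stabilizer (Equiv.Perm (Fin q)) (⟨0, by omega⟩ : Fin q) with hD0
  have hD0co : IsCoatom D0 :=
    IsPreprimitive.isCoatom_stabilizer_of_isPreprimitive (G := Equiv.Perm (Fin q)) _
  have hD0n : ¬ D0.Normal := stab_not_normal q hq3
  have hD0i : D0.index = q := by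
    rw [hD0, index_stabilizer_of_transitive, Nat.card_fin]
  have hQ : Nat.card (Multiplicative (ZMod r)) = r := by
    rw [Nat.card_eq_fintype_card, Fintype.card_multiplicative, ZMod.card]
  refine ⟨Equiv.Perm (Fin q) ≀ᵣ Multiplicative (ZMod r), inferInstance, inferInstance,
    wrSub D0, wrSub D0 ⊓ wrBase _ _, wrBase _ _, isCoatom_wrSub D0 hD0co hD0n, ?_, inf_le_left, ?_, ?_,
    inf_le_right, not_isCoatom_base D0 hD0co.1⟩
  · rw [index_wrSub, hD0i, hQ, hq, ← pow_mul, he, mul_comm]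
  · apply isCoatom_of_index_prime
    rw [index_base_in_wrSub, hQ]
    exact hrp
  · apply isCoatom_of_index_prime
    rw [index_wrBase, hQ]
    exact hrp

theorem result (p d : ℕ) (hp : p.Prime)
    (hd : 2 ≤ d) :
    ∃ (G : Type) (_ : Group G) (_ : Finite G) (M H K : Subgroup G), IsCoatom M ∧ M.index = p ^ d ∧ H ≤ M ∧
      IsCoatom (H.subgroupOf M) ∧ IsCoatom K ∧ H ≤ K ∧ ¬ IsCoatom (H.subgroupOf K) := by
  by_cases hp2 : p = 2
  · subst hp2
    exact case_two d hd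
  · exact case_odd p d hp hp2 hd

end Cfsg.Agent.S5895
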