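import Cfsg.Statements.S5896
import Cfsg.Agent.Lib.Helper97.ThreeCycle
import Cfsg.Agent.Lib.Helper97.PointStab

set_option autoImplicit false
set_option linter.style.haveILetI false
open Cfsg

namespace Cfsg.Agent.S5896

open Cfsg.Agent.Helper97

section dsub

variable {G G' : Type*} [Group G] [Group G']

/-- The derived series of a subgroup, computed inside the ambient group. -/
def dsub (X : Subgroup G) : ℕ → Subgroup G
  | 0 => X
  | n + 1 => ⁅dsub X n, dsub X n⁆

theorem dsub_zero (X : Subgroup G) : dsub X 0 = X := rfl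

theorem dsub_succ (X : Subgroup G) (n : ℕ) : dsub X (n + 1) = ⁅dsub X n, dsub X n⁆ := rfl

theorem dsub_mono {X Y : Subgroup G} (h : X ≤ Y) (n : ℕ) : dsub X n ≤ dsub Y n := by
  induction n with
  | zero => exact h
  | succ n ih => exact Subgroup.commutator_mono ih ih

theorem dsub_map (f : G →* G') (X : Subgroup G) (n : ℕ) : (dsub X n).map f = dsub (X.map f) n := by
  induction n with
  | zero => rfl
  | succ n ih => rw [dsub_succ, Subgroup.map_commutator, ih, dsub_succ]

theorem dsub_top (n : ℕ) : dsub (⊤ : Subgroup G) n = derivedSeries G n := by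
  induction n with
  | zero => rfl
  | succ n ih => rw [dsub_succ, ih, derivedSeries_succ]

theorem dsub_subtype (X : Subgroup G) (n : ℕ) :
    (derivedSeries X n).map X.subtype = dsub X n := by
  rw [← dsub_top, dsub_map, ← MonoidHom.range_eq_map, Subgroup.range_subtype]

theorem dsub_add (X : Subgroup G) (m n : ℕ) : dsub X (m + n) = dsub (dsub X m) n := by
  induction n with
  | zero => rfl
  | succ n ih => rw [← add_assoc, dsub_succ, ih, dsub_succ]

theorem dsub_bot (n : ℕ) : dsub (⊥ : Subgroup G) n = ⊥ := by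
  induction n with
  | zero => rfl
  | succ n ih => rw [dsub_succ, ih, Subgroup.commutator_bot_left]

end dsub

theorem isSolvable_pi {ι : Type*} {S : Type*} [Group S] [hS : Group.IsSolvable S] :
    Group.IsSolvable (ι → S) := by
  obtain ⟨n, hn⟩ := hS
  refine ⟨⟨n, ?_⟩⟩
  rw [eq_bot_iff]
  intro f hf
  rw [Subgroup.mem_bot]
  funext i
  have := map_derivedSeries_le_derivedSeries (Pi.evalMonoidHom (fun _ => S) i) n
    (Subgroup.mem_map_of_mem _ hf)
  rw [hn, Subgroup.mem_bot] at this
  exact this

section wreath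

open SemidirectProduct
open scoped commutatorElement

variable (S : Type) [Group S]

/-- The action of `A₅` on `S⁵` by permuting coordinates. -/
def act : alternatingGroup (Fin 5) →* MulAut (Fin 5 → S) where
  toFun σ :=
    { toFun := fun f i => f ((σ : Equiv.Perm (Fin 5)).symm i)
      invFun := fun f i => f ((σ : Equiv.Perm (Fin 5)) i)
      left_inv := fun f => by funext i; simp
      right_inv := fun f => by funext i; simp
      map_mul' := fun f g => rfl }
  map_one' := by
    ext f i
    rfl
  map_mul' σ τ := by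
    ext f i
    rfl

theorem act_apply (σ : alternatingGroup (Fin 5)) (f : Fin 5 → S) (i : Fin 5) :
    act S σ f i = f ((σ : Equiv.Perm (Fin 5)).symm i) := rfl

/-- The wreath product `S ≀ A₅` on five points. -/
abbrev W : Type := (Fin 5 → S) ⋊[act S] alternatingGroup (Fin 5)

variable {S}

theorem act_mulSingle (σ : alternatingGroup (Fin 5)) (a : Fin 5) (s : S) :
    act S σ (Pi.mulSingle a s) = Pi.mulSingle ((σ : Equiv.Perm (Fin 5)) a) s := by
  funext i
  rw [act_apply, Pi.mulSingle_apply, Pi.mulSingle_apply]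
  have : (σ : Equiv.Perm (Fin 5)).symm i = a ↔ i = (σ : Equiv.Perm (Fin 5)) a := by
    rw [Equiv.symm_apply_eq]
  simp only [this]

/-- The element with `s` at `a` and `s⁻¹` at `b`. -/
def e (a b : Fin 5) (s : S) : Fin 5 → S := Pi.mulSingle a s * Pi.mulSingle b s⁻¹

theorem act_e (σ : alternatingGroup (Fin 5)) (a b : Fin 5) (s : S) :
    act S σ (e a b s) = e ((σ : Equiv.Perm (Fin 5)) a) ((σ : Equiv.Perm (Fin 5)) b) s := by
  unfold e
  rw [map_mul, act_mulSingle, act_mulSingle]

theorem e_mul_inv {a b c : Fin 5} (hab : a ≠ b) (hca : c ≠ a) (hcb : c ≠ b) (s : S) :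
    e c b s * (e c a s)⁻¹ = e a b s := by
  funext i
  simp only [e, Pi.mul_apply, Pi.inv_apply, Pi.mulSingle_apply]
  by_cases h1 : i = c
  · subst h1
    simp [hca, hcb]
  · by_cases h2 : i = a
    · subst h2
      simp [hab, h1]
    · by_cases h3 : i = b
      · subst h3
        simp [h1, h2]
      · simp [h1, h2, h3]

theorem comm_inl_inr (f : Fin 5 → S) (σ : alternatingGroup (Fin 5)) :
    ⁅(inl f : W S), (inr σ : W S)⁆ = inl (f * act S σ f⁻¹) := by
  rw [commutatorElement_def, map_mul, inl_aut, map_inv, map_inv]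
  simp only [mul_assoc]

theorem exists_sigma {a b c : Fin 5} (hab : a ≠ b) (hca : c ≠ a) (hcb : c ≠ b) :
    ∃ σ : alternatingGroup (Fin 5), (σ : Equiv.Perm (Fin 5)) c = c ∧
      (σ : Equiv.Perm (Fin 5)) b = a := by
  obtain ⟨n, hna, hnb, hnc⟩ : ∃ n : Fin 5, n ≠ a ∧ n ≠ b ∧ n ≠ c := by
    revert a b c
    decide
  refine ⟨⟨c3 b a n, ?_⟩, ?_, ?_⟩
  · rw [Equiv.Perm.mem_alternatingGroup]
    exact c3_sign hab.symm hna.symm
  · exact c3_of_ne hcb hca hnc.symm
  · exact c3_a hab.symm hnb.symm

theorem key {a b c : Fin 5} (hab : a ≠ b) (hca : c ≠ a) (hcb : c ≠ b) (s : S)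
    (σ : alternatingGroup (Fin 5)) (hσc : (σ : Equiv.Perm (Fin 5)) c = c)
    (hσb : (σ : Equiv.Perm (Fin 5)) b = a) :
    ⁅(inl (e c b s) : W S), (inr σ : W S)⁆ = inl (e a b s) := by
  rw [comm_inl_inr, map_inv, act_e, hσc, hσb, e_mul_inv hab hca hcb]

end wreath

section step

open SemidirectProduct MulAction
open scoped commutatorElement

theorem exists_stable (T : Type*) [Group T] [Finite T] :
    ∃ n, derivedSeries T (n + 1) = derivedSeries T n := by
  by_contra hcon
  push Not at hcon
  have hlt : ∀ n, Nat.card (derivedSeries T (n + 1)) < Nat.card (derivedSeries T n) := by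
    intro n
    by_contra h
    push Not at h
    exact hcon n (Subgroup.eq_of_le_of_card_ge (derivedSeries_antitone T (Nat.le_succ n)) h)
  have hbound : ∀ n, Nat.card (derivedSeries T n) + n ≤ Nat.card (derivedSeries T 0) := by
    intro n
    induction n with
    | zero => exact le_rfl
    | succ n ih =>
      have := hlt n
      omega
  have := hbound (Nat.card (derivedSeries T 0) + 1)
  omega

theorem alt_four_solvable (Ω : Type*) [Fintype Ω] [DecidableEq Ω] (h : Fintype.card Ω = 4) :
    Group.IsSolvable (alternatingGroup Ω) := by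
  have h4 : Nat.card Ω = 4 := by rw [Nat.card_eq_fintype_card, h]
  refine ⟨⟨2, ?_⟩⟩
  rw [derivedSeries_succ, derivedSeries_one, ← alternatingGroup.kleinFour_eq_commutator h4,
    Subgroup.commutator_self_eq_bot_iff]
  have := alternatingGroup.kleinFour_isKleinFour (α := Ω) h4
  constructor
  constructor
  intro a b
  exact mul_comm_of_exponent_two (this.exponent_two) a b

theorem perm_four_solvable (Ω : Type*) [Fintype Ω] [DecidableEq Ω] (h : Fintype.card Ω = 4) :
    Group.IsSolvable (Equiv.Perm Ω) := by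
  haveI := alt_four_solvable Ω h
  refine Group.isSolvable_of_ker_le_range (alternatingGroup Ω).subtype
    (Equiv.Perm.sign : Equiv.Perm Ω →* ℤˣ) ?_
  rw [Subgroup.range_subtype]
  exact le_of_eq rfl

/-- The point stabiliser in `A₅`. -/
abbrev M5 : Subgroup (alternatingGroup (Fin 5)) := stabilizer (alternatingGroup (Fin 5)) (0 : Fin 5)

theorem mem_M5 (σ : alternatingGroup (Fin 5)) : σ ∈ M5 ↔ (σ : Equiv.Perm (Fin 5)) 0 = 0 := by
  rw [mem_stabilizer_iff]
  rfl

theorem isCoatom_M5 : IsCoatom M5 := by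
  haveI : IsPreprimitive (alternatingGroup (Fin 5)) (Fin 5) :=
    alternatingGroup.isPreprimitive_of_three_le_card (Fin 5) (by simp)
  exact IsPreprimitive.isCoatom_stabilizer_of_isPreprimitive _ _

theorem isSolvable_M5 : Group.IsSolvable M5 := by
  haveI : Group.IsSolvable (Equiv.Perm {x : Fin 5 // x ≠ 0}) :=
    perm_four_solvable _ (by simp)
  haveI : Group.IsSolvable (stabilizer (Equiv.Perm (Fin 5)) (0 : Fin 5)) :=
    Group.isSolvable_of_surjective (f := (pointStabEquiv (0 : Fin 5)).toMonoidHom)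
      (pointStabEquiv (0 : Fin 5)).surjective
  let f : M5 →* stabilizer (Equiv.Perm (Fin 5)) (0 : Fin 5) :=
    { toFun := fun σ => ⟨(σ.1 : Equiv.Perm (Fin 5)), (mem_M5 σ.1).mp σ.2⟩
      map_one' := rfl
      map_mul' := fun _ _ => rfl }
  refine Group.isSolvable_of_isSolvable_injective (f := f) ?_
  intro a b hab
  have := congrArg (fun x : stabilizer (Equiv.Perm (Fin 5)) (0 : Fin 5) => (x : Equiv.Perm (Fin 5))) hab
  exact Subtype.ext (Subtype.ext this)

variable (S : Type) [Group S]

instance finiteW [Finite S] : Finite (W S) := Finite.of_equiv _ (equivProd (φ := act S)).symm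

theorem inr_mem_derivedSeries (σ : alternatingGroup (Fin 5)) (j : ℕ) :
    (inr σ : W S) ∈ derivedSeries (W S) j := by
  have h1 : ∀ j, derivedSeries (alternatingGroup (Fin 5)) j = ⊤ := by
    intro j
    induction j with
    | zero => rfl
    | succ j ih =>
      rw [derivedSeries_succ, ih]
      exact commutator_alternatingGroup_eq_top (by simp)
  apply map_derivedSeries_le_derivedSeries (inr : alternatingGroup (Fin 5) →* W S) j
  apply Subgroup.mem_map_of_mem
  rw [h1]
  exact Subgroup.mem_top _

theorem inl_e_mem_derivedSeries {a b : Fin 5} (hab : a ≠ b) (s : S) (j : ℕ) :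
    (inl (e a b s) : W S) ∈ derivedSeries (W S) j := by
  induction j generalizing a b with
  | zero => exact Subgroup.mem_top _
  | succ j ih =>
    obtain ⟨c, hca, hcb⟩ : ∃ c : Fin 5, c ≠ a ∧ c ≠ b := by
      revert a b
      decide
    obtain ⟨σ, hσc, hσb⟩ := exists_sigma hab hca hcb
    rw [← key hab hca hcb s σ hσc hσb, derivedSeries_succ]
    exact Subgroup.commutator_mem_commutator (ih hcb) (inr_mem_derivedSeries S σ j)

theorem isSolvable_comap_M5 [hS : Group.IsSolvable S] :
    Group.IsSolvable (M5.comap (rightHom : W S →* alternatingGroup (Fin 5))) := by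
  haveI := isSolvable_M5
  haveI : Group.IsSolvable (Fin 5 → S) := isSolvable_pi
  let f : (Fin 5 → S) →* (M5.comap (rightHom : W S →* alternatingGroup (Fin 5))) :=
    (inl : (Fin 5 → S) →* W S).codRestrict _ (fun b => by
      rw [Subgroup.mem_comap, rightHom_inl]
      exact M5.one_mem)
  let g : (M5.comap (rightHom : W S →* alternatingGroup (Fin 5))) →* M5 :=
    ((rightHom : W S →* alternatingGroup (Fin 5)).comp (Subgroup.subtype _)).codRestrict M5
      (fun x => x.2)
  refine Group.isSolvable_of_ker_le_range f g ?_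
  intro x hx
  rw [MonoidHom.mem_ker] at hx
  have h1 : (rightHom : W S →* alternatingGroup (Fin 5)) (x : W S) = 1 := by
    have := congrArg Subtype.val hx
    exact this
  have h2 : (x : W S) ∈ (inl : (Fin 5 → S) →* W S).range := by
    rw [range_inl_eq_ker_rightHom, MonoidHom.mem_ker]
    exact h1
  obtain ⟨b, hb⟩ := h2
  exact ⟨b, Subtype.ext hb⟩

theorem step [Finite S] [hS : Group.IsSolvable S] (d : ℕ) (hd : derivedSeries S d ≠ ⊥) :
    ∃ (G : Type) (_ : Group G) (_ : Finite G) (H : Subgroup G), commutator G = ⊤ ∧ IsCoatom H ∧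
      Group.IsSolvable H ∧ derivedSeries H (d + 1) ≠ ⊥ := by
  obtain ⟨n₀, hn₀⟩ := exists_stable (W S)
  obtain ⟨P, hP⟩ : ∃ P : Subgroup (W S), P = derivedSeries (W S) n₀ := ⟨_, rfl⟩
  have hPP : ⁅P, P⁆ = P := by
    rw [hP, ← derivedSeries_succ, hn₀]
  have hinr : ∀ σ, (inr σ : W S) ∈ P := fun σ => hP ▸ inr_mem_derivedSeries S σ n₀
  have hinl : ∀ {a b : Fin 5}, a ≠ b → ∀ s : S, (inl (e a b s) : W S) ∈ P :=
    fun hab s => hP ▸ inl_e_mem_derivedSeries S hab s n₀
  let ψ : P →* alternatingGroup (Fin 5) := (rightHom : W S →* _).comp P.subtype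
  have hψ : Function.Surjective ψ := fun σ => ⟨⟨inr σ, hinr σ⟩, rightHom_inr (φ := act S) σ⟩
  refine ⟨P, inferInstance, inferInstance, M5.comap ψ, ?_, ?_, ?_, ?_⟩
  · -- perfect
    apply Subgroup.map_injective P.subtype_injective
    rw [Subgroup.map_subtype_commutator, hPP, ← MonoidHom.range_eq_map, Subgroup.range_subtype]
  · exact Subgroup.isCoatom_comap_of_surjective hψ isCoatom_M5
  · -- solvable
    haveI := isSolvable_comap_M5 S
    have hle : (M5.comap ψ).map P.subtype ≤ M5.comap (rightHom : W S →* alternatingGroup (Fin 5)) := by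
      rintro _ ⟨x, hx, rfl⟩
      exact hx
    haveI : Group.IsSolvable ((M5.comap ψ).map P.subtype) :=
      Group.isSolvable_of_isSolvable_injective (Subgroup.inclusion_injective hle)
    exact Group.isSolvable_of_isSolvable_injective
      (f := ((M5.comap ψ).equivMapOfInjective P.subtype P.subtype_injective).toMonoidHom)
      ((M5.comap ψ).equivMapOfInjective P.subtype P.subtype_injective).injective
  · -- derived length
    intro hbot
    obtain ⟨HT, hHT⟩ : ∃ HT : Subgroup (W S), HT = (M5.comap ψ).map P.subtype := ⟨_, rfl⟩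
    have h1 : dsub HT (d + 1) = ⊥ := by
      rw [hHT, ← dsub_map, ← dsub_subtype, hbot, Subgroup.map_bot, Subgroup.map_bot]
    have hmemHT : ∀ x : W S, x ∈ P → (rightHom : W S →* _) x ∈ M5 → x ∈ HT := by
      intro x hxP hxM
      rw [hHT]
      exact ⟨⟨x, hxP⟩, hxM, rfl⟩
    have hinlHT : ∀ {a b : Fin 5}, a ≠ b → ∀ s : S, (inl (e a b s) : W S) ∈ HT := by
      intro a b hab s
      apply hmemHT _ (hinl hab s)
      rw [rightHom_inl]
      exact M5.one_mem
    have hinrHT : ∀ σ ∈ M5, (inr σ : W S) ∈ HT := by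
      intro σ hσ
      apply hmemHT _ (hinr σ)
      rw [rightHom_inr]
      exact hσ
    have h2 : ∀ {a b : Fin 5}, a ≠ b → a ≠ 0 → b ≠ 0 → ∀ s : S,
        (inl (e a b s) : W S) ∈ dsub HT 1 := by
      intro a b hab ha hb s
      obtain ⟨σ, hσc, hσb⟩ := exists_sigma hab (Ne.symm ha) (Ne.symm hb)
      rw [← key hab (Ne.symm ha) (Ne.symm hb) s σ hσc hσb]
      exact Subgroup.commutator_mem_commutator (hinlHT (Ne.symm hb) s)
        (hinrHT σ ((mem_M5 σ).mpr hσc))
    obtain ⟨Y, hY⟩ : ∃ Y : Subgroup (Fin 5 → S), Y = (dsub HT 1).comap (inl : (Fin 5 → S) →* W S) :=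
      ⟨_, rfl⟩
    have hYle : Y.map (inl : (Fin 5 → S) →* W S) ≤ dsub HT 1 := by
      rw [hY]
      exact Subgroup.map_comap_le _ _
    have h3 : dsub (Y.map (inl : (Fin 5 → S) →* W S)) d = ⊥ := by
      rw [eq_bot_iff, ← h1, add_comm, dsub_add]
      exact dsub_mono hYle d
    rw [← dsub_map, Subgroup.map_eq_bot_iff_of_injective _ inl_injective] at h3
    have h4 : Y.map (Pi.evalMonoidHom (fun _ => S) (1 : Fin 5)) = ⊤ := by
      rw [eq_top_iff]
      intro s _
      refine ⟨e 1 2 s, ?_, ?_⟩
      · rw [hY]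
        exact h2 (by decide) (by decide) (by decide) s
      · simp [e]
    have h5 := congrArg (Subgroup.map (Pi.evalMonoidHom (fun _ => S) (1 : Fin 5))) h3
    rw [dsub_map, h4, dsub_top, Subgroup.map_bot] at h5
    exact hd h5

end step

theorem good (d : ℕ) :
    ∃ (S : Type) (_ : Group S) (_ : Finite S), Group.IsSolvable S ∧ derivedSeries S d ≠ ⊥ := by
  induction d with
  | zero =>
    refine ⟨ℤˣ, inferInstance, inferInstance, inferInstance, ?_⟩
    rw [derivedSeries_zero]
    intro h
    have h1 : (-1 : ℤˣ) ∈ (⊤ : Subgroup ℤˣ) := Subgroup.mem_top _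
    rw [h, Subgroup.mem_bot] at h1
    exact absurd h1 (by decide)
  | succ d ih =>
    obtain ⟨S, i1, i2, hsol, hd⟩ := ih
    obtain ⟨G, j1, j2, H, -, -, h3, h4⟩ := step S d hd
    exact ⟨H, inferInstance, inferInstance, h3, h4⟩

/-- Finite perfect groups have solvable maximal subgroups of unbounded derived length: for every d there is a finite perfect group G (equal to its commutator subgroup) with a solvable maximal subgroup H whose derived length exceeds d, i.e. the d-th term of the derived series of H is non-trivial. (Take the derived subgroup of a wreath product S ≀ A₅ with S solvable of large derived length, and H the preimage of a maximal subgroup of A₅.) -/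
theorem result (d : ℕ) :
    ∃ (G : Type) (_ : Group G) (_ : Finite G) (H : Subgroup G), commutator G = ⊤ ∧ IsCoatom H ∧ Group.IsSolvable H ∧
      derivedSeries H d ≠ ⊥ := by
  obtain ⟨S, i1, i2, hsol, hd⟩ := good d
  obtain ⟨G, j1, j2, H, h1, h2, h3, h4⟩ := step S d hd
  refine ⟨G, j1, j2, H, h1, h2, h3, ?_⟩
  intro h
  apply h4
  rw [derivedSeries_succ, h, Subgroup.commutator_bot_left]

end Cfsg.Agent.S5896
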