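import Cfsg.Statements.S5902
import Cfsg.Agent.S5901

set_option autoImplicit false
open Cfsg

namespace Cfsg.Agent.S5902

theorem conj_compl {G : Type*} [Group G] (g : G) (H C : Subgroup G)
    (h1 : H.map (MulAut.conj g).toMonoidHom ⊔ C = ⊤)
    (h2 : H.map (MulAut.conj g).toMonoidHom ⊓ C = ⊥) :
    ∃ C' : Subgroup G, H ⊔ C' = ⊤ ∧ H ⊓ C' = ⊥ := by
  refine ⟨C.map (MulAut.conj g⁻¹).toMonoidHom, ?_, ?_⟩
  · have := congrArg (Subgroup.map (MulAut.conj g⁻¹).toMonoidHom) h1
    rw [Subgroup.map_sup, Subgroup.map_map] at this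
    have hid : ((MulAut.conj g⁻¹).toMonoidHom.comp (MulAut.conj g).toMonoidHom) = MonoidHom.id G := by
      ext x; simp [MulAut.conj_apply, mul_assoc]
    rw [hid, Subgroup.map_id] at this
    rw [this]
    exact Subgroup.map_top_of_surjective _ (MulAut.conj g⁻¹).surjective
  · have := congrArg (Subgroup.map (MulAut.conj g⁻¹).toMonoidHom) h2
    rw [Subgroup.map_inf _ _ _ (MulAut.conj g⁻¹).injective, Subgroup.map_map] at this
    have hid : ((MulAut.conj g⁻¹).toMonoidHom.comp (MulAut.conj g).toMonoidHom) = MonoidHom.id G := by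
      ext x; simp [MulAut.conj_apply, mul_assoc]
    rw [hid, Subgroup.map_id] at this
    rw [this]
    exact Subgroup.map_bot _

theorem part1 {G : Type*} [Group G] [Finite G] (X M : Subgroup G)
    (hK : ComplementedLattice (Subgroup X))
    (hM : IsCoatom M) (hXM : X ≤ M) (huniq : ∀ M' : Subgroup G, IsCoatom M' → X ≤ M' → M' = M) :
    (∀ H : Subgroup G, ¬ H ≤ M.normalCore → ∃ C : Subgroup G, H ⊔ C = ⊤ ∧ H ⊓ C = ⊥) := by
  intro H hH
  -- some conjugate of H is not in M
  have : ∃ g : G, ¬ H.map (MulAut.conj g).toMonoidHom ≤ M := by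
    by_contra hcon
    simp only [not_exists, not_not] at hcon
    apply hH
    intro h hh
    rw [Subgroup.normalCore, Subgroup.mem_mk]
    intro g
    have := hcon g (Subgroup.mem_map_of_mem _ hh)
    simpa [MulAut.conj_apply] using this
  obtain ⟨g, hg⟩ := this
  have hX : X ≠ ⊤ := by
    rintro rfl
    exact hM.1 (top_le_iff.mp hXM)
  have hint : ∀ Y : Subgroup G, ⊥ ≤ Y → Y ≤ X → ∃ C : Subgroup G, ⊥ ≤ C ∧ C ≤ X ∧ Y ⊔ C = X ∧ Y ⊓ C = ⊥ := by
    intro Y _ hYX
    obtain ⟨C, hC⟩ := hK.exists_isCompl (Y.subgroupOf X)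
    refine ⟨C.map X.subtype, bot_le, Subgroup.map_subtype_le C, ?_, ?_⟩
    · have h := hC.sup_eq_top
      have := congrArg (Subgroup.map X.subtype) h
      rw [Subgroup.map_sup, Subgroup.map_subgroupOf_eq_of_le hYX] at this
      rw [this, ← MonoidHom.range_eq_map, Subgroup.range_subtype]
    · have h := hC.inf_eq_bot
      have := congrArg (Subgroup.map X.subtype) h
      rw [Subgroup.map_inf _ _ _ X.subtype_injective, Subgroup.map_subgroupOf_eq_of_le hYX] at this
      rw [this, Subgroup.map_bot]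
  obtain ⟨C, h1, h2⟩ := Cfsg.Agent.S5901.result ⊥ X M bot_le hX hint hM hXM huniq _ hg (inf_bot_eq _)
  exact conj_compl g H C h1 h2

theorem result {G : Type*} [Group G] [Finite G] (X M : Subgroup G)
    (hK : ComplementedLattice (Subgroup X))
    (hM : IsCoatom M) (hXM : X ≤ M) (huniq : ∀ M' : Subgroup G, IsCoatom M' → X ≤ M' → M' = M) :
    (∀ H : Subgroup G, ¬ H ≤ M.normalCore → ∃ C : Subgroup G, H ⊔ C = ⊤ ∧ H ⊓ C = ⊥) ∧
    ComplementedLattice (Subgroup (G ⧸ M.normalCore)) := by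
  have p1 := part1 X M hK hM hXM huniq
  refine ⟨p1, ⟨fun Hbar => ?_⟩⟩
  set N := M.normalCore with hN
  set π := QuotientGroup.mk' N with hπ
  by_cases hb : Hbar = ⊥
  · subst hb
    exact ⟨⊤, isCompl_bot_top⟩
  · have hH : ¬ Hbar.comap π ≤ N := by
      intro hle
      apply hb
      rw [eq_bot_iff]
      intro x hx
      obtain ⟨y, rfl⟩ := QuotientGroup.mk'_surjective N x
      have : y ∈ N := hle (show y ∈ Hbar.comap π from hx)
      rw [Subgroup.mem_bot]
      exact (QuotientGroup.eq_one_iff y).mpr this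
    obtain ⟨C, h1, h2⟩ := p1 _ hH
    refine ⟨C.map π, ?_⟩
    rw [isCompl_iff, disjoint_iff, codisjoint_iff]
    constructor
    · rw [eq_bot_iff]
      intro x ⟨hx1, hx2⟩
      obtain ⟨c, hc, rfl⟩ := hx2
      have : c ∈ Hbar.comap π ⊓ C := ⟨hx1, hc⟩
      rw [h2, Subgroup.mem_bot] at this
      subst this
      simp
    · have := congrArg (Subgroup.map π) h1
      rw [Subgroup.map_sup, Subgroup.map_comap_eq_self_of_surjective (QuotientGroup.mk'_surjective N)] at this
      rw [this]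
      exact Subgroup.map_top_of_surjective _ (QuotientGroup.mk'_surjective N)

end Cfsg.Agent.S5902
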