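import Cfsg.Statements.S5903
import Cfsg.Agent.S5902

set_option autoImplicit false
open Cfsg

namespace Cfsg.Agent.S5903

theorem interval_compl {G : Type*} [Group G] (X N : Subgroup G) (hNX : N ≤ X) [(N.subgroupOf X).Normal]
    (hK : ComplementedLattice (Subgroup (X ⧸ N.subgroupOf X))) :
    ∀ Y : Subgroup G, N ≤ Y → Y ≤ X → ∃ C : Subgroup G, N ≤ C ∧ C ≤ X ∧ Y ⊔ C = X ∧ Y ⊓ C = N := by
  intro Y hNY hYX
  set N' := N.subgroupOf X with hN'
  set π := QuotientGroup.mk' N' with hπ
  have hsurj : Function.Surjective π := QuotientGroup.mk'_surjective N'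
  have hker : π.ker = N' := QuotientGroup.ker_mk' N'
  obtain ⟨Cbar, hC⟩ := hK.exists_isCompl ((Y.subgroupOf X).map π)
  have hN'Y : N' ≤ Y.subgroupOf X := by
    intro x hx
    exact hNY hx
  have hcm : ((Y.subgroupOf X).map π).comap π = Y.subgroupOf X := by
    rw [Subgroup.comap_map_eq, hker, sup_eq_left.mpr hN'Y]
  have hN'C : N' ≤ Cbar.comap π := by
    intro x hx
    have h1 : π x = 1 := (QuotientGroup.eq_one_iff x).mpr hx
    rw [Subgroup.mem_comap, h1]
    exact one_mem _
  have hmapN' : N'.map X.subtype = N := Subgroup.map_subgroupOf_eq_of_le hNX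
  refine ⟨(Cbar.comap π).map X.subtype, ?_, Subgroup.map_subtype_le _, ?_, ?_⟩
  · rw [← hmapN']
    exact Subgroup.map_mono hN'C
  · have h := hC.sup_eq_top
    have h2 := congrArg (Subgroup.comap π) h
    rw [← Subgroup.comap_sup_eq π _ _ hsurj, hcm, Subgroup.comap_top] at h2
    have h3 := congrArg (Subgroup.map X.subtype) h2
    rw [Subgroup.map_sup, Subgroup.map_subgroupOf_eq_of_le hYX] at h3
    rw [h3, ← MonoidHom.range_eq_map, Subgroup.range_subtype]
  · have h := hC.inf_eq_bot
    have h2 := congrArg (Subgroup.comap π) h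
    rw [Subgroup.comap_inf, hcm] at h2
    have h3 := congrArg (Subgroup.map X.subtype) h2
    rw [Subgroup.map_inf _ _ _ X.subtype_injective, Subgroup.map_subgroupOf_eq_of_le hYX] at h3
    rw [h3, MonoidHom.comap_bot, hker, hmapN']

/-- The key conjugation lemma. -/
theorem exists_conj {G : Type*} [Group G] [IsSimpleGroup G] (M N H : Subgroup G)
    (hMtop : M ≠ ⊤) (hNbot : N ≠ ⊥) (hcen : ∀ n ∈ N, ∀ m ∈ M, m * n = n * m)
    (hHbot : H ≠ ⊥) (hHtop : H ≠ ⊤) :
    ∃ g : G, ¬ H.map (MulAut.conj g).toMonoidHom ≤ M ∧ ¬ N ≤ H.map (MulAut.conj g).toMonoidHom := by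
  by_contra hcon
  simp only [not_exists, not_and, not_not] at hcon
  -- reformulate
  have hAB : ∀ g : G, (∀ n ∈ N, g * n * g⁻¹ ∈ H) ∨ (∀ h ∈ H, g⁻¹ * h * g ∈ M) := by
    intro g
    by_cases hB : ∀ h ∈ H, g⁻¹ * h * g ∈ M
    · exact Or.inr hB
    · left
      have h1 : ¬ H.map (MulAut.conj g⁻¹).toMonoidHom ≤ M := by
        intro hle
        apply hB
        intro h hh
        have := hle (Subgroup.mem_map_of_mem _ hh)
        simpa [MulAut.conj_apply] using this
      have h2 := hcon g⁻¹ h1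
      intro n hn
      obtain ⟨h, hh, hhn⟩ := h2 hn
      simp only [MulEquiv.coe_toMonoidHom, MulAut.conj_apply, inv_inv] at hhn
      rw [← hhn]
      simpa [mul_assoc] using hh
  set L : Subgroup G := Subgroup.closure {x | ∃ g : G, (∀ n ∈ N, g * n * g⁻¹ ∈ H) ∧ ∃ n ∈ N, x = g * n * g⁻¹} with hL
  have hLH : L ≤ H := by
    rw [hL, Subgroup.closure_le]
    rintro x ⟨g, hg, n, hn, rfl⟩
    exact hg n hn
  -- conjugates of N lie in the normalizer of L
  have hnorm : Subgroup.normalClosure (N : Set G) ≤ Subgroup.normalizer (L : Set G) := by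
    rw [Subgroup.normalClosure, Subgroup.closure_le]
    intro y hy
    rw [Group.mem_conjugatesOfSet_iff] at hy
    obtain ⟨n, hn, hc⟩ := hy
    rw [isConj_iff] at hc
    obtain ⟨g, rfl⟩ := hc
    rcases hAB g with hA | hB
    · have : g * n * g⁻¹ ∈ L := Subgroup.subset_closure ⟨g, hA, n, hn, rfl⟩
      exact Subgroup.le_normalizer this
    · -- g n g⁻¹ centralizes H, hence L
      have hcomm : ∀ h ∈ H, (g * n * g⁻¹) * h = h * (g * n * g⁻¹) := by
        intro h hh
        have := hcen n hn _ (hB h hh)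
        calc g * n * g⁻¹ * h = g * (n * (g⁻¹ * h * g)) * g⁻¹ := by group
          _ = g * ((g⁻¹ * h * g) * n) * g⁻¹ := by rw [this]
          _ = h * (g * n * g⁻¹) := by group
      rw [SetLike.mem_coe, Subgroup.mem_normalizer_iff]
      intro x
      have key : ∀ x ∈ L, g * n * g⁻¹ * x * (g * n * g⁻¹)⁻¹ = x := by
        intro x hx
        rw [hcomm x (hLH hx)]
        group
      constructor
      · intro hx
        rw [key x hx]; exact hx
      · intro hx
        have h3 : (g * n * g⁻¹)⁻¹ * (g * n * g⁻¹ * x * (g * n * g⁻¹)⁻¹) * (g * n * g⁻¹) = x := by group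
        have h4 := hcomm _ (hLH hx)
        rw [← h3, mul_assoc, ← h4, ← mul_assoc, inv_mul_cancel, one_mul]
        exact hx
  have hNC : Subgroup.normalClosure (N : Set G) = ⊤ := by
    rcases (Subgroup.normalClosure_normal (s := (N : Set G))).eq_bot_or_eq_top with h | h
    · exact absurd (le_bot_iff.mp (h ▸ Subgroup.le_normalClosure)) hNbot
    · exact h
  have hLn : L.Normal := by
    rw [← Subgroup.normalizer_eq_top_iff]
    exact top_le_iff.mp (hNC ▸ hnorm)
  rcases hLn.eq_bot_or_eq_top with h | h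
  · -- L = ⊥ : then no g in A, so H ≤ core M = ⊥
    have hB : ∀ g : G, ∀ h ∈ H, g⁻¹ * h * g ∈ M := by
      intro g
      rcases hAB g with hA | hB
      · exfalso
        apply hNbot
        rw [eq_bot_iff]
        intro n hn
        have : g * n * g⁻¹ ∈ L := Subgroup.subset_closure ⟨g, hA, n, hn, rfl⟩
        rw [h, Subgroup.mem_bot] at this
        rw [Subgroup.mem_bot]
        have h5 : n = g⁻¹ * (g * n * g⁻¹) * g := by group
        rw [h5, this]; group
      · exact hB
    have hcore : H ≤ M.normalCore := by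
      intro h hh
      rw [Subgroup.normalCore, Subgroup.mem_mk]
      intro g
      have := hB g⁻¹ h hh
      simpa using this
    rcases (Subgroup.normalCore_normal M).eq_bot_or_eq_top with h' | h'
    · exact hHbot (le_bot_iff.mp (h' ▸ hcore))
    · exact hMtop (top_le_iff.mp (h' ▸ Subgroup.normalCore_le M))
  · exact hHtop (top_le_iff.mp (h ▸ hLH))

theorem result {G : Type*} [Group G] [Finite G] [IsSimpleGroup G] (X M N : Subgroup G)
    (hM : IsCoatom M) (hXM : X ≤ M) (huniq : ∀ M' : Subgroup G, IsCoatom M' → X ≤ M' → M' = M)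
    (hNX : N ≤ X) (hN : (Nat.card N).Prime) (hcen : ∀ n ∈ N, ∀ m ∈ M, m * n = n * m)
    [(N.subgroupOf X).Normal] (hK : ComplementedLattice (Subgroup (X ⧸ N.subgroupOf X))) :
    ComplementedLattice (Subgroup G) := by
  refine ⟨fun H => ?_⟩
  by_cases hb : H = ⊥
  · subst hb; exact ⟨⊤, isCompl_bot_top⟩
  by_cases ht : H = ⊤
  · subst ht; exact ⟨⊥, isCompl_top_bot⟩
  have hNbot : N ≠ ⊥ := by
    rintro rfl
    simp at hN
    exact Nat.not_prime_one hN
  obtain ⟨g, hg1, hg2⟩ := exists_conj M N H hM.1 hNbot hcen hb ht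
  have : Fact (Nat.card N).Prime := ⟨hN⟩
  have hdisj : H.map (MulAut.conj g).toMonoidHom ⊓ N = ⊥ := by
    rcases Subgroup.eq_bot_or_eq_top_of_prime_card ((H.map (MulAut.conj g).toMonoidHom).subgroupOf N) with h | h
    · rw [Subgroup.subgroupOf_eq_bot] at h
      exact h.eq_bot
    · rw [Subgroup.subgroupOf_eq_top] at h
      exact absurd h hg2
  have hX : X ≠ ⊤ := by
    rintro rfl
    exact hM.1 (top_le_iff.mp hXM)
  obtain ⟨C, h1, h2⟩ := Cfsg.Agent.S5901.result N X M hNX hX (interval_compl X N hNX hK) hM hXM huniq _ hg1 hdisj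
  obtain ⟨C', h1', h2'⟩ := Cfsg.Agent.S5902.conj_compl g H C h1 h2
  exact ⟨C', by rw [isCompl_iff, disjoint_iff, codisjoint_iff]; exact ⟨h2', h1'⟩⟩

end Cfsg.Agent.S5903
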