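import Cfsg.Statements.S5904

set_option autoImplicit false
open scoped Pointwise
open Cfsg

namespace Cfsg.Agent.S5904

theorem exists_swap_perm {Ω : Type*} [Finite Ω] (O : Set Ω) (hO : Nat.card O = Nat.card ↥Oᶜ) :
    ∃ w : Equiv.Perm Ω, ∀ x, w x ∈ O ↔ x ∉ O := by
  classical
  obtain ⟨e⟩ := Finite.card_eq.mp hO
  let s := Equiv.Set.sumCompl O
  let w : Equiv.Perm Ω := s.symm.trans (((Equiv.sumCongr e e.symm).trans (Equiv.sumComm _ _)).trans s)
  refine ⟨w, fun x => ?_⟩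
  by_cases hx : x ∈ O
  · have h1 : s.symm x = Sum.inl ⟨x, hx⟩ := Equiv.Set.sumCompl_symm_apply_of_mem hx
    have h2 : w x = (e ⟨x, hx⟩ : Ω) := by
      simp [w, h1, s]
    rw [h2]
    have := (e ⟨x, hx⟩).2
    simp only [Set.mem_compl_iff] at this
    simp [hx, this]
  · have h1 : s.symm x = Sum.inr ⟨x, hx⟩ := Equiv.Set.sumCompl_symm_apply_of_notMem hx
    have h2 : w x = (e.symm ⟨x, hx⟩ : Ω) := by
      simp [w, h1, s]
    rw [h2]
    have := (e.symm ⟨x, hx⟩).2
    simp [hx, this]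

theorem result {Ω : Type*} [Fintype Ω] [DecidableEq Ω] (hΩ : 2 < Fintype.card Ω)
    (O : Set Ω) (hO : Nat.card O = Nat.card ↥Oᶜ) :
    ¬ IsCoatom (MulAction.stabilizer (Equiv.Perm Ω) O) := by
  intro hco
  set K : Subgroup (Equiv.Perm Ω) := MulAction.stabilizer (Equiv.Perm Ω) ({O, Oᶜ} : Set (Set Ω)) with hK
  have memK : ∀ g : Equiv.Perm Ω, g ∈ K ↔ (g • O = O ∨ g • O = Oᶜ) := by
    intro g
    rw [hK, MulAction.mem_stabilizer_iff]
    have h1 : g • ({O, Oᶜ} : Set (Set Ω)) = {g • O, (g • O)ᶜ} := by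
      rw [← Set.image_smul, Set.image_pair, Set.smul_set_compl]
    rw [h1]
    constructor
    · intro h
      have : g • O ∈ ({g • O, (g • O)ᶜ} : Set (Set Ω)) := Set.mem_insert _ _
      rw [h] at this
      simpa using this
    · rintro (h | h)
      · rw [h]
      · rw [h, compl_compl, Set.pair_comm]
  -- cardinalities
  have hcard : Nat.card O + Nat.card ↥Oᶜ = Fintype.card Ω := by
    rw [Nat.card_coe_set_eq, Nat.card_coe_set_eq, Set.ncard_add_ncard_compl, Nat.card_eq_fintype_card]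
  have hO2 : 2 ≤ Nat.card O := by omega
  have hOc : 1 ≤ Nat.card ↥Oᶜ := by omega
  rw [Nat.card_coe_set_eq] at hO2 hOc
  obtain ⟨a, b, ha, hb, hab⟩ := (Set.one_lt_ncard_iff (Set.toFinite O)).mp hO2
  obtain ⟨c, hc⟩ := (Set.ncard_pos (Set.toFinite _)).mp hOc
  have hcO : c ∉ O := hc
  -- the swapping element
  obtain ⟨w, hw⟩ := exists_swap_perm O hO
  have hwO : w • O = Oᶜ := by
    ext y
    rw [Set.mem_smul_set_iff_inv_smul_mem, Set.mem_compl_iff]
    have := hw (w⁻¹ y)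
    have h2 : w (w⁻¹ y) = y := by simp
    rw [h2] at this
    rw [Equiv.Perm.smul_def, this, not_not]
  have hwK : w ∈ K := (memK w).mpr (Or.inr hwO)
  have hwS : w ∉ MulAction.stabilizer (Equiv.Perm Ω) O := by
    rw [MulAction.mem_stabilizer_iff, hwO]
    intro h
    have : a ∈ Oᶜ := by rw [h]; exact ha
    exact this ha
  have hlt : MulAction.stabilizer (Equiv.Perm Ω) O < K := by
    refine lt_of_le_of_ne ?_ ?_
    · intro g hg
      exact (memK g).mpr (Or.inl (MulAction.mem_stabilizer_iff.mp hg))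
    · intro h
      exact hwS (h ▸ hwK)
  have hKtop := hco.2 K hlt
  have ht : Equiv.swap b c ∈ K := hKtop ▸ Subgroup.mem_top _
  have hac : a ≠ c := fun h => hcO (h ▸ ha)
  have h1 : a ∈ Equiv.swap b c • O := by
    refine ⟨a, ha, ?_⟩
    simp [Equiv.swap_apply_of_ne_of_ne hab hac]
  have h2 : c ∈ Equiv.swap b c • O := by
    refine ⟨b, hb, ?_⟩
    simp
  rcases (memK _).mp ht with h | h
  · exact hcO (h ▸ h2)
  · have : a ∈ Oᶜ := h ▸ h1
    exact this ha

end Cfsg.Agent.S5904
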