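import Cfsg.Statements.S5909
import Cfsg.Agent.Lib.Helper97.Partition
import Cfsg.Agent.Lib.Helper97.ThreeCycle

set_option autoImplicit false
open Cfsg Equiv
open Cfsg.Agent.Helper97

namespace Cfsg.Agent.S5909

set_option linter.unusedSectionVars false
set_option linter.unusedVariables false

variable {Ω : Type*} [Fintype Ω] [DecidableEq Ω] {a b : ℕ}

/-- A permutation fixing every block lies in the partition stabiliser. -/
theorem mem_of_fix (f : Ω → Fin b) (g : Perm Ω) (h : ∀ x, f (g x) = f x) : g ∈ partSubgroup f := by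
  intro x y
  rw [h x, h y]

theorem exists_pair (ha : 2 ≤ a) (f : Ω → Fin b) (hf : ∀ i : Fin b, Nat.card {x : Ω // f x = i} = a)
    (i : Fin b) : ∃ p q : Ω, p ≠ q ∧ f p = i ∧ f q = i := by
  have h1 : 1 < Nat.card {x : Ω // f x = i} := by rw [hf i]; omega
  rw [Finite.one_lt_card_iff_nontrivial] at h1
  obtain ⟨⟨p, hp⟩, ⟨q, hq⟩, hpq⟩ := h1
  exact ⟨p, q, fun h => hpq (Subtype.ext h), hp, hq⟩

/-- Even lift of a block permutation. -/
theorem exists_even_perm (ha : 2 ≤ a) (f : Ω → Fin b)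
    (hf : ∀ i : Fin b, Nat.card {x : Ω // f x = i} = a) (σ : Perm (Fin b)) :
    ∃ k ∈ partSubgroup f ⊓ alternatingGroup Ω, ∀ x, f (k x) = σ (f x) := by
  obtain ⟨k, hkK, hk⟩ := exists_perm_of_perm f hf σ
  rcases Int.units_eq_one_or (Perm.sign k) with h1 | h1
  · exact ⟨k, ⟨hkK, Perm.mem_alternatingGroup.mpr h1⟩, hk⟩
  · by_cases hΩ : IsEmpty Ω
    · exfalso
      have : k = 1 := Subsingleton.elim _ _
      rw [this, Perm.sign_one] at h1
      exact absurd h1 (by decide)
    · rw [not_isEmpty_iff] at hΩ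
      obtain ⟨x0⟩ := hΩ
      obtain ⟨p, q, hpq, hp, hq⟩ := exists_pair ha f hf (f x0)
      have hfix : ∀ x, f (swap p q x) = f x := by
        intro x
        by_cases hxp : x = p
        · subst hxp; rw [swap_apply_left, hq, hp]
        · by_cases hxq : x = q
          · subst hxq; rw [swap_apply_right, hq, hp]
          · rw [swap_apply_of_ne_of_ne hxp hxq]
      refine ⟨k * swap p q, ⟨(partSubgroup f).mul_mem hkK (mem_of_fix f _ hfix), ?_⟩, ?_⟩
      · apply Perm.mem_alternatingGroup.mpr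
        rw [map_mul, h1, Perm.sign_swap hpq]
        decide
      · intro x
        rw [Perm.mul_apply, hk, hfix]

/-- For `a ≥ 3`, a third point in the block. -/
theorem exists_third (ha : 3 ≤ a) (f : Ω → Fin b)
    (hf : ∀ i : Fin b, Nat.card {x : Ω // f x = i} = a) (x y : Ω) (hxy : f x = f y) :
    ∃ z, z ≠ x ∧ z ≠ y ∧ f z = f x := by
  obtain ⟨e, he⟩ := exists_equiv_prod f hf
  obtain ⟨j, hj1, hj2⟩ : ∃ j : Fin a, j ≠ (e x).2 ∧ j ≠ (e y).2 := by
    by_cases h0 : ((e x).2 : ℕ) ≠ 0 ∧ ((e y).2 : ℕ) ≠ 0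
    · exact ⟨⟨0, by omega⟩, fun h => h0.1 (by rw [← h]), fun h => h0.2 (by rw [← h])⟩
    by_cases h1 : ((e x).2 : ℕ) ≠ 1 ∧ ((e y).2 : ℕ) ≠ 1
    · exact ⟨⟨1, by omega⟩, fun h => h1.1 (by rw [← h]), fun h => h1.2 (by rw [← h])⟩
    refine ⟨⟨2, by omega⟩, fun h => ?_, fun h => ?_⟩
    · have : ((e x).2 : ℕ) = 2 := by rw [← h]
      omega
    · have : ((e y).2 : ℕ) = 2 := by rw [← h]
      omega
  refine ⟨e.symm (f x, j), ?_, ?_, ?_⟩
  · intro h
    apply hj1
    rw [← h]
    simp
  · intro h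
    apply hj2
    rw [← h]
    simp
  · rw [← he]
    simp

/-- For `a = 2`, the partner map. -/
theorem exists_partner (f : Ω → Fin b) (hf : ∀ i : Fin b, Nat.card {x : Ω // f x = i} = 2) :
    ∃ p : Ω → Ω, (∀ x, p x ≠ x) ∧ (∀ x, f (p x) = f x) ∧ (∀ x y, f y = f x → y = x ∨ y = p x) := by
  obtain ⟨e, he⟩ := exists_equiv_prod f hf
  refine ⟨fun x => e.symm ((e x).1, (e x).2 + 1), ?_, ?_, ?_⟩
  · intro x h
    have : e (e.symm ((e x).1, (e x).2 + 1)) = e x := congrArg e h
    rw [Equiv.apply_symm_apply] at this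
    have h2 : (e x).2 + 1 = (e x).2 := congrArg Prod.snd this
    revert h2
    generalize (e x).2 = j
    revert j
    decide
  · intro x
    rw [← he, ← he]
    simp
  · intro x y hxy
    rw [← he, ← he] at hxy
    have hj : ∀ j k : Fin 2, k = j ∨ k = j + 1 := by decide
    rcases hj (e x).2 (e y).2 with h | h
    · left
      apply e.injective
      exact Prod.ext hxy h
    · right
      apply e.injective
      rw [Equiv.apply_symm_apply]
      exact Prod.ext hxy h


theorem rel3_univ (ha : 2 ≤ a) (f : Ω → Fin b) (hf : ∀ i : Fin b, Nat.card {x : Ω // f x = i} = a)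
    (L : Subgroup (Perm Ω)) (hKL : partSubgroup f ⊓ alternatingGroup Ω ≤ L)
    (H1 : ∀ x y, f x = f y → Rel3 L x y) (u v : Ω) (huv : f u ≠ f v) (hRuv : Rel3 L u v) :
    ∀ x y, Rel3 L x y := by
  have hall : ∀ w, Rel3 L u w := by
    intro w
    by_cases hwu : f w = f u
    · exact H1 u w hwu.symm
    by_cases hwv : f w = f v
    · exact hRuv.trans (H1 v w hwv.symm)
    obtain ⟨k, hkK, hk⟩ := exists_even_perm ha f hf (Equiv.swap (f v) (f w))
    have h1 : Rel3 L (k u) (k v) := hRuv.smul (hKL hkK)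
    have h2 : f (k u) = f u := by rw [hk u, swap_apply_of_ne_of_ne huv (fun h => hwu h.symm)]
    have h3 : f (k v) = f w := by rw [hk v, swap_apply_left]
    exact (H1 _ _ h2.symm).trans (h1.trans (H1 _ _ h3))
  exact fun x y => (hall x).symm.trans (hall y)

theorem exists_cross (f : Ω → Fin b) (L : Subgroup (Perm Ω))
    (H1 : ∀ x y, f x = f y → Rel3 L x y) (g : Perm Ω) (hgL : g ∈ L) (hgK : g ∉ partSubgroup f) :
    ∃ u v, f u ≠ f v ∧ Rel3 L u v := by
  rw [mem_partSubgroup] at hgK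
  simp only [not_forall] at hgK
  obtain ⟨x, y, hxy⟩ := hgK
  by_cases h1 : f x = f y
  · have h2 : f (g x) ≠ f (g y) := fun h => hxy ⟨fun _ => h, fun _ => h1⟩
    exact ⟨g x, g y, h2, (H1 x y h1).smul hgL⟩
  · have h2 : f (g x) = f (g y) := by
      by_contra h
      exact hxy ⟨fun h' => absurd h' h1, fun h' => absurd h' h⟩
    have := (H1 _ _ h2).smul (L.inv_mem hgL)
    simp only [Equiv.Perm.inv_def, Equiv.symm_apply_apply] at this
    exact ⟨x, y, h1, this⟩

theorem rel3_univ_of_three (ha : 3 ≤ a) (f : Ω → Fin b)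
    (hf : ∀ i : Fin b, Nat.card {x : Ω // f x = i} = a)
    (L : Subgroup (Perm Ω)) (hKL : partSubgroup f ⊓ alternatingGroup Ω ≤ L)
    (g : Perm Ω) (hgL : g ∈ L) (hgK : g ∉ partSubgroup f) : ∀ x y, Rel3 L x y := by
  have H1 : ∀ x y, f x = f y → Rel3 L x y := by
    intro x y hxy
    by_cases h : x = y
    · exact Or.inl h
    obtain ⟨z, hzx, hzy, hz⟩ := exists_third ha f hf x y hxy
    refine Or.inr ⟨z, hzx, hzy, hKL ⟨?_, ?_⟩⟩
    · exact (partSubgroup f).mul_mem (swap_mem_partSubgroup f hxy)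
        (swap_mem_partSubgroup f (hxy.symm.trans hz.symm))
    · exact Perm.mem_alternatingGroup.mpr (c3_sign h (Ne.symm hzy))
  obtain ⟨u, v, huv, hRuv⟩ := exists_cross f L H1 g hgL hgK
  exact rel3_univ (by omega) f hf L hKL H1 u v huv hRuv

theorem swap_comm_disj {p q r s : Ω} (hpr : p ≠ r) (hps : p ≠ s) (hqr : q ≠ r) (hqs : q ≠ s) :
    swap p q * swap r s = swap r s * swap p q := by
  have h := swap_apply_apply (swap r s) p q
  rw [swap_apply_of_ne_of_ne hpr hps, swap_apply_of_ne_of_ne hqr hqs] at h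
  have : swap p q * swap r s = swap r s * swap p q * (swap r s)⁻¹ * swap r s := by rw [← h]
  rw [this]
  group

theorem dswap_mem (f : Ω → Fin b) (L : Subgroup (Perm Ω))
    (hKL : partSubgroup f ⊓ alternatingGroup Ω ≤ L) {s s' t t' : Ω} (hs : f s = f s') (ht : f t = f t')
    (hss : s ≠ s') (htt : t ≠ t') : swap s s' * swap t t' ∈ L := by
  refine hKL ⟨(partSubgroup f).mul_mem (swap_mem_partSubgroup f hs) (swap_mem_partSubgroup f ht), ?_⟩
  apply Perm.mem_alternatingGroup.mpr
  rw [map_mul, Perm.sign_swap hss, Perm.sign_swap htt]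
  decide

theorem conj_dswap (g : Perm Ω) (s s' t t' : Ω) :
    g * (swap s s' * swap t t') * g⁻¹ = swap (g s) (g s') * swap (g t) (g t') := by
  rw [swap_apply_apply, swap_apply_apply]
  group

/-- The swap of two blocks. -/
theorem blockSwap_mem (f : Ω → Fin b) (p : Ω → Ω) (hp1 : ∀ x, p x ≠ x) (hp2 : ∀ x, f (p x) = f x)
    (hp3 : ∀ x y, f y = f x → y = x ∨ y = p x) (L : Subgroup (Perm Ω))
    (hKL : partSubgroup f ⊓ alternatingGroup Ω ≤ L) (x y : Ω) (hxy : f x ≠ f y) :
    swap x y * swap (p x) (p y) ∈ L := by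
  have hne : x ≠ y := fun h => hxy (by rw [h])
  have hne' : p x ≠ p y := fun h => hxy (by rw [← hp2 x, ← hp2 y, h])
  have hxpy : x ≠ p y := fun h => hxy (by rw [h, hp2])
  have hpxy : p x ≠ y := fun h => hxy (by rw [← h, hp2])
  refine hKL ⟨?_, ?_⟩
  · have key : ∀ u, f ((swap x y * swap (p x) (p y)) u) = swap (f x) (f y) (f u) := by
      intro u
      rw [Perm.mul_apply]
      by_cases hux : u = x
      · subst hux
        rw [swap_apply_of_ne_of_ne (hp1 u).symm hxpy, swap_apply_left, swap_apply_left]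
      by_cases huy : u = y
      · subst huy
        rw [swap_apply_of_ne_of_ne hpxy.symm (hp1 u).symm, swap_apply_right, swap_apply_right]
      by_cases hupx : u = p x
      · subst hupx
        rw [swap_apply_left, swap_apply_of_ne_of_ne hxpy.symm (hp1 y), hp2, hp2, swap_apply_left]
      by_cases hupy : u = p y
      · subst hupy
        rw [swap_apply_right, swap_apply_of_ne_of_ne (hp1 x) hpxy, hp2, hp2, swap_apply_right]
      have h1 : f u ≠ f x := fun h => by
        rcases hp3 x u h with h | h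
        · exact hux h
        · exact hupx h
      have h2 : f u ≠ f y := fun h => by
        rcases hp3 y u h with h | h
        · exact huy h
        · exact hupy h
      rw [swap_apply_of_ne_of_ne hupx hupy, swap_apply_of_ne_of_ne hux huy,
        swap_apply_of_ne_of_ne h1 h2]
    intro u v
    rw [key u, key v]
    exact (swap (f x) (f y)).injective.eq_iff.symm
  · apply Perm.mem_alternatingGroup.mpr
    rw [map_mul, Perm.sign_swap hne, Perm.sign_swap hne']
    decide

theorem exists_avoiding (f : Ω → Fin b) (hf : ∀ i : Fin b, Nat.card {x : Ω // f x = i} = 2)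
    (s : Finset (Fin b)) (hs : s.card < b) : ∃ z : Ω, f z ∉ s := by
  have : s.card < (Finset.univ : Finset (Fin b)).card := by rw [Finset.card_univ, Fintype.card_fin]; exact hs
  obtain ⟨i, _, hi⟩ := Finset.exists_mem_notMem_of_card_lt_card this
  obtain ⟨z, _, _, hz, _⟩ := exists_pair (le_refl 2) f hf i
  exact ⟨z, by rw [hz]; exact hi⟩


theorem exists_c3_core (hb3 : 3 ≤ b) (hb4 : b ≠ 4) (f : Ω → Fin b)
    (hf : ∀ i : Fin b, Nat.card {x : Ω // f x = i} = 2)
    (p : Ω → Ω) (hp1 : ∀ x, p x ≠ x) (hp2 : ∀ x, f (p x) = f x)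
    (hp3 : ∀ x y, f y = f x → y = x ∨ y = p x)
    (L : Subgroup (Perm Ω)) (hKL : partSubgroup f ⊓ alternatingGroup Ω ≤ L)
    (g : Perm Ω) (hgL : g ∈ L) (u : Ω) (hu : f (g u) ≠ f (g (p u))) :
    ∃ a1 a2 a3 : Ω, a1 ≠ a2 ∧ a1 ≠ a3 ∧ a2 ≠ a3 ∧ c3 a1 a2 a3 ∈ L := by
  obtain ⟨x, hx⟩ : ∃ x, x = g u := ⟨_, rfl⟩
  obtain ⟨y, hy⟩ : ∃ y, y = g (p u) := ⟨_, rfl⟩
  rw [← hx, ← hy] at hu
  have hxy : x ≠ y := fun h => hu (by rw [h])
  have hxpx : x ≠ p x := (hp1 x).symm
  have hypy : y ≠ p y := (hp1 y).symm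
  have hxpy : x ≠ p y := fun h => hu (by rw [h, hp2])
  have hpxy : p x ≠ y := fun h => hu (by rw [← h, hp2])
  have hpxpy : p x ≠ p y := fun h => hu (by rw [← hp2 x, ← hp2 y, h])
  -- q
  obtain ⟨q, hq⟩ : ∃ q, q = g⁻¹ (p x) := ⟨_, rfl⟩
  have hgq : g q = p x := by simp [hq]
  have hfq : f q ≠ f u := by
    intro h
    rcases hp3 u q h with h | h
    · apply hxpx; rw [← hgq, h, hx]
    · apply hpxy; rw [← hgq, h, hy]
  obtain ⟨w, hw⟩ : ∃ w, w = g (p q) := ⟨_, rfl⟩
  have hwpx : w ≠ p x := by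
    rw [← hgq, hw]
    exact fun h => hp1 q (g.injective h)
  have hpqu : p q ≠ u := fun h => hfq (by rw [← hp2 q, h])
  have hpqpu : p q ≠ p u := fun h => hfq (by rw [← hp2 q, h, hp2])
  have hwx : w ≠ x := by
    rw [hw, hx]
    exact fun h => hpqu (g.injective h)
  have hwy : w ≠ y := by
    rw [hw, hy]
    exact fun h => hpqpu (g.injective h)
  have hs : swap x y * swap (p x) w ∈ L := by
    have h1 : swap u (p u) * swap q (p q) ∈ L :=
      dswap_mem f L hKL (hp2 u).symm (hp2 q).symm (hp1 u).symm (hp1 q).symm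
    have h2 := L.mul_mem (L.mul_mem hgL h1) (L.inv_mem hgL)
    rw [conj_dswap, hgq, ← hx, ← hy, ← hw] at h2
    exact h2
  by_cases hwpy : w = p y
  swap
  · -- Case A
    refine ⟨w, p x, p y, hwpx, hwpy, hpxpy, ?_⟩
    have hm := blockSwap_mem f p hp1 hp2 hp3 L hKL x y hu
    have := L.mul_mem hs hm
    have e : swap x y * swap (p x) w * (swap x y * swap (p x) (p y)) = c3 w (p x) (p y) := by
      rw [swap_comm_disj hxpx hwx.symm hpxy.symm hwy.symm]
      unfold c3
      rw [swap_comm w (p x)]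
      rw [mul_assoc, ← mul_assoc (swap x y), swap_mul_self, one_mul]
    rw [e] at this
    exact this
  · -- Case B
    have hcard2 : ({f u, f q} : Finset (Fin b)).card < b :=
      lt_of_le_of_lt Finset.card_le_two (by omega)
    obtain ⟨r, hr⟩ := exists_avoiding f hf _ hcard2
    simp only [Finset.mem_insert, Finset.mem_singleton, not_or] at hr
    obtain ⟨hru, hrq⟩ := hr
    obtain ⟨v, hv⟩ : ∃ v, v = g r := ⟨_, rfl⟩
    obtain ⟨v2, hv2⟩ : ∃ v2, v2 = g (p r) := ⟨_, rfl⟩
    have hne : ∀ t, f t = f r → g t ≠ x ∧ g t ≠ y ∧ g t ≠ p x ∧ g t ≠ p y := by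
      intro t ht
      refine ⟨?_, ?_, ?_, ?_⟩
      · rw [hx]
        intro h
        have := g.injective h
        rw [this] at ht
        exact hru ht.symm
      · rw [hy]
        intro h
        have := g.injective h
        rw [this, hp2] at ht
        exact hru ht.symm
      · rw [← hgq]
        intro h
        have := g.injective h
        rw [this] at ht
        exact hrq ht.symm
      · rw [← hwpy, hw]
        intro h
        have := g.injective h
        rw [this, hp2] at ht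
        exact hrq ht.symm
    obtain ⟨hvx, hvy, hvpx, hvpy⟩ := hne r rfl
    obtain ⟨hv2x, hv2y, hv2px, hv2py⟩ := hne (p r) (hp2 r)
    rw [← hv] at hvx hvy hvpx hvpy
    rw [← hv2] at hv2x hv2y hv2px hv2py
    have hvv2 : v ≠ v2 := by
      rw [hv, hv2]
      exact fun h => hp1 r (g.injective h).symm
    have hs2 : swap x y * swap v v2 ∈ L := by
      have h1 : swap u (p u) * swap r (p r) ∈ L :=
        dswap_mem f L hKL (hp2 u).symm (hp2 r).symm (hp1 u).symm (hp1 r).symm
      have h2 := L.mul_mem (L.mul_mem hgL h1) (L.inv_mem hgL)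
      rw [conj_dswap, ← hx, ← hy, ← hv, ← hv2] at h2
      exact h2
    by_cases hfv : f v = f v2
    · -- Case B1
      refine ⟨y, x, p x, hxy.symm, hpxy.symm, hxpx, ?_⟩
      have he := dswap_mem f L hKL (hp2 x).symm hfv hxpx hvv2
      have := L.mul_mem hs2 he
      have e : swap x y * swap v v2 * (swap x (p x) * swap v v2) = c3 y x (p x) := by
        rw [swap_comm_disj hvx.symm hv2x.symm hvpx.symm hv2px.symm, mul_assoc, swap_mul_self_mul]
        unfold c3
        rw [swap_comm y x]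
      rw [e] at this
      exact this
    · -- Case B2
      have hfvx : f v ≠ f x := fun h => by
        rcases hp3 x v h with h | h
        · exact hvx h
        · exact hvpx h
      have hfvy : f v ≠ f y := fun h => by
        rcases hp3 y v h with h | h
        · exact hvy h
        · exact hvpy h
      have hfv2x : f v2 ≠ f x := fun h => by
        rcases hp3 x v2 h with h | h
        · exact hv2x h
        · exact hv2px h
      have hfv2y : f v2 ≠ f y := fun h => by
        rcases hp3 y v2 h with h | h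
        · exact hv2y h
        · exact hv2py h
      have h4 : ({f x, f y, f v, f v2} : Finset (Fin b)).card = 4 := by
        rw [Finset.card_insert_of_notMem, Finset.card_insert_of_notMem, Finset.card_pair hfv]
        · simp only [Finset.mem_insert, Finset.mem_singleton, not_or]
          exact ⟨hfvy.symm, hfv2y.symm⟩
        · simp only [Finset.mem_insert, Finset.mem_singleton, not_or]
          exact ⟨hu, hfvx.symm, hfv2x.symm⟩
      have hb5 : 5 ≤ b := by
        have := Finset.card_le_univ ({f x, f y, f v, f v2} : Finset (Fin b))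
        rw [h4, Fintype.card_fin] at this
        omega
      obtain ⟨z, hz⟩ := exists_avoiding f hf {f x, f y, f v, f v2} (by rw [h4]; omega)
      simp only [Finset.mem_insert, Finset.mem_singleton, not_or] at hz
      obtain ⟨hzx, hzy, hzv, hzv2⟩ := hz
      have hne2 : ∀ t, f t = f z → t ≠ x ∧ t ≠ y ∧ t ≠ v ∧ t ≠ v2 ∧ t ≠ p x := by
        intro t ht
        refine ⟨?_, ?_, ?_, ?_, ?_⟩
        · rintro rfl; exact hzx ht.symm
        · rintro rfl; exact hzy ht.symm
        · rintro rfl; exact hzv ht.symm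
        · rintro rfl; exact hzv2 ht.symm
        · rintro rfl; rw [hp2] at ht; exact hzx ht.symm
      obtain ⟨h1x, h1y, h1v, h1v2, h1px⟩ := hne2 z rfl
      obtain ⟨h2x, h2y, h2v, h2v2, h2px⟩ := hne2 (p z) (hp2 z)
      have he := dswap_mem f L hKL (hp2 x).symm (hp2 z).symm hxpx (hp1 z).symm
      have hconj := L.mul_mem (L.mul_mem he hs2) (L.inv_mem he)
      rw [conj_dswap] at hconj
      have ex : (swap x (p x) * swap z (p z)) x = p x := by
        rw [Perm.mul_apply, swap_apply_of_ne_of_ne h1x.symm h2x.symm, swap_apply_left]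
      have ey : (swap x (p x) * swap z (p z)) y = y := by
        rw [Perm.mul_apply, swap_apply_of_ne_of_ne h1y.symm h2y.symm,
          swap_apply_of_ne_of_ne hxy.symm hpxy.symm]
      have ev : (swap x (p x) * swap z (p z)) v = v := by
        rw [Perm.mul_apply, swap_apply_of_ne_of_ne h1v.symm h2v.symm,
          swap_apply_of_ne_of_ne hvx hvpx]
      have ev2 : (swap x (p x) * swap z (p z)) v2 = v2 := by
        rw [Perm.mul_apply, swap_apply_of_ne_of_ne h1v2.symm h2v2.symm,
          swap_apply_of_ne_of_ne hv2x hv2px]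
      rw [ex, ey, ev, ev2] at hconj
      refine ⟨x, y, p x, hxy, hxpx, hpxy.symm, ?_⟩
      have := L.mul_mem hs2 hconj
      have e : swap x y * swap v v2 * (swap (p x) y * swap v v2) = c3 x y (p x) := by
        rw [swap_comm_disj hvpx.symm hv2px.symm hvy.symm hv2y.symm, mul_assoc, swap_mul_self_mul]
        unfold c3
        rw [swap_comm (p x) y]
      rw [e] at this
      exact this


theorem exists_c3_of_two (hb3 : 3 ≤ b) (hb4 : b ≠ 4) (f : Ω → Fin b)
    (hf : ∀ i : Fin b, Nat.card {x : Ω // f x = i} = 2)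
    (L : Subgroup (Perm Ω)) (hKL : partSubgroup f ⊓ alternatingGroup Ω ≤ L)
    (g : Perm Ω) (hgL : g ∈ L) (hgK : g ∉ partSubgroup f) :
    ∃ a1 a2 a3 : Ω, a1 ≠ a2 ∧ a1 ≠ a3 ∧ a2 ≠ a3 ∧ c3 a1 a2 a3 ∈ L := by
  obtain ⟨p, hp1, hp2, hp3⟩ := exists_partner f hf
  rw [mem_partSubgroup] at hgK
  simp only [not_forall] at hgK
  obtain ⟨x, y, hxy⟩ := hgK
  by_cases h1 : f x = f y
  · have h2 : f (g x) ≠ f (g y) := fun h => hxy ⟨fun _ => h, fun _ => h1⟩
    rcases hp3 x y h1.symm with h | h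
    · rw [h] at h2
      exact absurd rfl h2
    · rw [h] at h2
      exact exists_c3_core hb3 hb4 f hf p hp1 hp2 hp3 L hKL g hgL x h2
  · have h2 : f (g x) = f (g y) := by
      by_contra h
      exact hxy ⟨fun h' => absurd h' h1, fun h' => absurd h' h⟩
    rcases hp3 (g x) (g y) h2.symm with h | h
    · exact absurd (congrArg f (g.injective h)).symm h1
    · apply exists_c3_core hb3 hb4 f hf p hp1 hp2 hp3 L hKL g⁻¹ (L.inv_mem hgL) (g x)
      rw [← h]
      simpa using h1

theorem rel3_univ_of_two (hb : 2 ≤ b) (f : Ω → Fin b)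
    (hf : ∀ i : Fin b, Nat.card {x : Ω // f x = i} = 2)
    (L : Subgroup (Perm Ω)) (hKL : partSubgroup f ⊓ alternatingGroup Ω ≤ L)
    (a1 a2 a3 : Ω) (h12 : a1 ≠ a2) (h13 : a1 ≠ a3) (h23 : a2 ≠ a3) (hc : c3 a1 a2 a3 ∈ L) :
    ∀ x y, Rel3 L x y := by
  obtain ⟨p, hp1, hp2, hp3⟩ := exists_partner f hf
  obtain ⟨r12, r23, r13⟩ := Rel3.of_mem h12 h13 h23 hc
  -- an in-block pair
  have hin : ∃ x0, Rel3 L x0 (p x0) := by
    by_cases e12 : f a1 = f a2
    · rcases hp3 a1 a2 e12.symm with h | h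
      · exact absurd h.symm h12
      · exact ⟨a1, h ▸ r12⟩
    by_cases e13 : f a1 = f a3
    · rcases hp3 a1 a3 e13.symm with h | h
      · exact absurd h.symm h13
      · exact ⟨a1, h ▸ r13⟩
    by_cases e23 : f a2 = f a3
    · rcases hp3 a2 a3 e23.symm with h | h
      · exact absurd h.symm h23
      · exact ⟨a2, h ▸ r23⟩
    have he := dswap_mem f L hKL (hp2 a1).symm (hp2 a2).symm (hp1 a1).symm (hp1 a2).symm
    have hconj := L.mul_mem (L.mul_mem he hc) (L.inv_mem he)
    rw [c3_conj] at hconj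
    have hpa2a1 : p a2 ≠ a1 := fun h => e12 (by rw [← h, hp2])
    have hpa1a2 : p a1 ≠ a2 := fun h => e12 (by rw [← h, hp2])
    have hpa1a3 : p a1 ≠ a3 := fun h => e13 (by rw [← h, hp2])
    have hpa2a3 : p a2 ≠ a3 := fun h => e23 (by rw [← h, hp2])
    have hpa1pa2 : p a1 ≠ p a2 := fun h => e12 (by rw [← hp2 a1, ← hp2 a2, h])
    have e1 : (swap a1 (p a1) * swap a2 (p a2)) a1 = p a1 := by
      rw [Perm.mul_apply, swap_apply_of_ne_of_ne h12 hpa2a1.symm, swap_apply_left]
    have e2 : (swap a1 (p a1) * swap a2 (p a2)) a2 = p a2 := by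
      rw [Perm.mul_apply, swap_apply_left, swap_apply_of_ne_of_ne hpa2a1 hpa1pa2.symm]
    have e3 : (swap a1 (p a1) * swap a2 (p a2)) a3 = a3 := by
      rw [Perm.mul_apply, swap_apply_of_ne_of_ne h23.symm hpa2a3.symm,
        swap_apply_of_ne_of_ne h13.symm hpa1a3.symm]
    rw [e1, e2, e3] at hconj
    obtain ⟨_, _, r13'⟩ := Rel3.of_mem hpa1pa2 hpa1a3 hpa2a3 hconj
    exact ⟨a1, r13.trans r13'.symm⟩
  obtain ⟨x0, hx0⟩ := hin
  have H1 : ∀ x y, f x = f y → Rel3 L x y := by
    intro x y hxy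
    rcases hp3 x y hxy.symm with h | h
    · exact Or.inl h.symm
    subst h
    obtain ⟨k, hkK, hk⟩ := exists_even_perm (le_refl 2) f hf (Equiv.swap (f x0) (f x))
    have hk1 : f (k x0) = f x := by rw [hk, swap_apply_left]
    have hk2 : f (k (p x0)) = f x := by rw [hk, hp2, swap_apply_left]
    have hk3 : k x0 ≠ k (p x0) := fun h => hp1 x0 (k.injective h).symm
    have hR := hx0.smul (hKL hkK)
    rcases hp3 x _ hk1 with h1 | h1 <;> rcases hp3 x _ hk2 with h2 | h2
    · exact absurd (h1.trans h2.symm) hk3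
    · rw [h1, h2] at hR; exact hR
    · rw [h1, h2] at hR; exact hR.symm
    · exact absurd (h1.trans h2.symm) hk3
  have cross : ∃ u v, f u ≠ f v ∧ Rel3 L u v := by
    by_cases e12 : f a1 = f a2
    · by_cases e13 : f a1 = f a3
      · exfalso
        rcases hp3 a1 a2 e12.symm with h | h
        · exact h12 h.symm
        rcases hp3 a1 a3 e13.symm with h' | h'
        · exact h13 h'.symm
        exact h23 (h.trans h'.symm)
      · exact ⟨a1, a3, e13, r13⟩
    · exact ⟨a1, a2, e12, r12⟩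
  obtain ⟨u, v, huv, hRuv⟩ := cross
  exact rel3_univ (le_refl 2) f hf L hKL H1 u v huv hRuv


theorem case_four (f : Ω → Fin 2) (hf : ∀ i : Fin 2, Nat.card {x : Ω // f x = i} = 2)
    (L : Subgroup (Perm Ω)) (hKL : partSubgroup f ⊓ alternatingGroup Ω < L)
    (hLA : L ≤ alternatingGroup Ω) : L = alternatingGroup Ω := by
  obtain ⟨p, hp1, hp2, hp3⟩ := exists_partner f hf
  obtain ⟨e, he⟩ := exists_equiv_prod f hf
  have hcard : Nat.card Ω = 4 := by
    rw [Nat.card_congr e]
    simp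
  have : Nontrivial Ω := by
    apply (Finite.one_lt_card_iff_nontrivial).mp
    omega
  have hA : Nat.card (alternatingGroup Ω) = 12 := by
    have := two_mul_nat_card_alternatingGroup (α := Ω)
    rw [Nat.card_perm, hcard] at this
    have h24 : Nat.factorial 4 = 24 := by decide
    omega
  obtain ⟨H, hH⟩ : ∃ H, H = partSubgroup f ⊓ alternatingGroup Ω := ⟨_, rfl⟩
  rw [← hH] at hKL
  have hHle : partSubgroup f ⊓ alternatingGroup Ω ≤ H := hH ▸ le_rfl
  obtain ⟨x, _, _, hx0, _⟩ := exists_pair (le_refl 2) f hf 0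
  obtain ⟨y, _, _, hy1, _⟩ := exists_pair (le_refl 2) f hf 1
  have hfxy : f x ≠ f y := by rw [hx0, hy1]; decide
  have hxy : x ≠ y := fun h => hfxy (by rw [h])
  have hxpy : x ≠ p y := fun h => hfxy (by rw [h, hp2])
  have hxppy : x ≠ p (p y) := fun h => hfxy (by rw [h, hp2, hp2])
  have hsurj : Function.Surjective (fun k : H => (k : Perm Ω) x) := by
    intro z
    by_cases hz : f z = f x
    · rcases hp3 x z hz with h | h
      · exact ⟨1, by simp [h]⟩
      · refine ⟨⟨_, dswap_mem f H hHle (hp2 x).symm (hp2 y).symm (hp1 x).symm (hp1 y).symm⟩, ?_⟩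
        show (swap x (p x) * swap y (p y)) x = z
        rw [Perm.mul_apply, swap_apply_of_ne_of_ne hxy hxpy, swap_apply_left, h]
    · have hz' : f z = f y := by
        have : ∀ i j k : Fin 2, i ≠ j → k ≠ i → k = j := by decide
        exact this _ _ _ hfxy hz
      rcases hp3 y z hz' with h | h
      · refine ⟨⟨_, blockSwap_mem f p hp1 hp2 hp3 H hHle x y hfxy⟩, ?_⟩
        show (swap x y * swap (p x) (p y)) x = z
        rw [Perm.mul_apply, swap_apply_of_ne_of_ne (hp1 x).symm hxpy, swap_apply_left, h]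
      · have hfxpy : f x ≠ f (p y) := by rw [hp2]; exact hfxy
        refine ⟨⟨_, blockSwap_mem f p hp1 hp2 hp3 H hHle x (p y) hfxpy⟩, ?_⟩
        show (swap x (p y) * swap (p x) (p (p y))) x = z
        rw [Perm.mul_apply, swap_apply_of_ne_of_ne (hp1 x).symm hxppy, swap_apply_left, h]
  have hH4 : 4 ≤ Nat.card H := by
    rw [← hcard]
    exact Nat.card_le_card_of_surjective _ hsurj
  have h1 : Nat.card H ∣ Nat.card L := Subgroup.card_dvd_of_le hKL.le
  have h2 : Nat.card L ∣ 12 := hA ▸ Subgroup.card_dvd_of_le hLA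
  have h3 : Nat.card H < Nat.card L := by
    by_contra hnot
    have := Subgroup.eq_of_le_of_card_ge hKL.le (not_lt.mp hnot)
    exact absurd this (ne_of_lt hKL)
  have key : ∀ l k : Fin 13, (k : ℕ) ∣ (l : ℕ) → (l : ℕ) ∣ 12 → (k : ℕ) < (l : ℕ) → 4 ≤ (k : ℕ) →
      (l : ℕ) = 12 := by decide
  have hl12 : Nat.card L ≤ 12 := Nat.le_of_dvd (by norm_num) h2
  have := key ⟨Nat.card L, by omega⟩ ⟨Nat.card H, by omega⟩ h1 h2 h3 hH4
  simp only at this
  exact Subgroup.eq_of_le_of_card_ge hLA (by rw [hA, this])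

theorem main (h8 : Fintype.card Ω ≠ 8) (ha : 2 ≤ a) (hb : 2 ≤ b)
    (f : Ω → Fin b) (hf : ∀ i : Fin b, Nat.card {x : Ω // f x = i} = a)
    (L : Subgroup (Perm Ω)) (hKL : partSubgroup f ⊓ alternatingGroup Ω < L)
    (hLA : L ≤ alternatingGroup Ω) : L = alternatingGroup Ω := by
  by_cases h22 : a = 2 ∧ b = 2
  · obtain ⟨rfl, rfl⟩ := h22
    exact case_four f hf L hKL hLA
  obtain ⟨g, hgL, hgH⟩ := SetLike.exists_of_lt hKL
  have hgK : g ∉ partSubgroup f := fun h => hgH ⟨h, hLA hgL⟩
  apply le_antisymm hLA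
  apply alternatingGroup_le_of_rel3
  by_cases ha3 : 3 ≤ a
  · exact rel3_univ_of_three ha3 f hf L hKL.le g hgL hgK
  have ha2 : a = 2 := by omega
  subst ha2
  have hcard : Fintype.card Ω = b * 2 := by
    obtain ⟨e, _⟩ := exists_equiv_prod f hf
    rw [Fintype.card_congr e]
    simp
  have hb3 : 3 ≤ b := by
    by_contra h
    exact h22 ⟨rfl, by omega⟩
  have hb4 : b ≠ 4 := by
    intro h
    rw [h] at hcard
    exact h8 hcard
  obtain ⟨a1, a2, a3, h12, h13, h23, hc⟩ := exists_c3_of_two hb3 hb4 f hf L hKL.le g hgL hgK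
  exact rel3_univ_of_two hb f hf L hKL.le a1 a2 a3 h12 h13 h23 hc

theorem not_top (ha : 2 ≤ a) (hb : 2 ≤ b)
    (f : Ω → Fin b) (hf : ∀ i : Fin b, Nat.card {x : Ω // f x = i} = a) :
    ¬ alternatingGroup Ω ≤ partSubgroup f := by
  intro hle
  obtain ⟨x, x', hxx', hx, hx'⟩ := exists_pair ha f hf ⟨0, by omega⟩
  obtain ⟨y, _, _, hy, _⟩ := exists_pair ha f hf ⟨1, by omega⟩
  have hfxy : f x ≠ f y := by
    rw [hx, hy]
    simp [Fin.ext_iff]
  have hxy : x ≠ y := fun h => hfxy (by rw [h])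
  have hx'y : x' ≠ y := fun h => hfxy (by rw [hx, ← hx', h])
  have hmem : c3 x x' y ∈ partSubgroup f :=
    hle (Perm.mem_alternatingGroup.mpr (c3_sign hxx' hx'y))
  have := (hmem x x').mp (hx.trans hx'.symm)
  rw [c3_a hxx' hxy, c3_b hx'y hxy, hx'] at this
  exact hfxy (hx.trans this)

theorem result {Ω : Type*} [Fintype Ω] [DecidableEq Ω] (h8 : Fintype.card Ω ≠ 8) (a b : ℕ) (ha : 2 ≤ a) (hb : 2 ≤ b)
    (f : Ω → Fin b) (hf : ∀ i : Fin b, Nat.card {x : Ω // f x = i} = a) :
    IsCoatom ((Subgroup.closure {g : Equiv.Perm Ω | ∀ x y : Ω, f x = f y ↔ f (g x) = f (g y)} ⊓ alternatingGroup Ω).subgroupOf (alternatingGroup Ω)) := by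
  rw [closure_partSet]
  refine ⟨?_, fun L' hL' => ?_⟩
  · intro h
    rw [Subgroup.subgroupOf_eq_top] at h
    exact not_top ha hb f hf (h.trans inf_le_left)
  · have hlt : partSubgroup f ⊓ alternatingGroup Ω < L'.map (alternatingGroup Ω).subtype := by
      have h1 : (partSubgroup f ⊓ alternatingGroup Ω) =
          ((partSubgroup f ⊓ alternatingGroup Ω).subgroupOf (alternatingGroup Ω)).map
            (alternatingGroup Ω).subtype := by
        rw [Subgroup.map_subgroupOf_eq_of_le inf_le_right]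
      rw [h1]
      exact (Subgroup.map_lt_map_iff_of_injective (Subgroup.subtype_injective _)).mpr hL'
    have hle : L'.map (alternatingGroup Ω).subtype ≤ alternatingGroup Ω := Subgroup.map_subtype_le _
    have := main h8 ha hb f hf _ hlt hle
    rw [eq_top_iff]
    intro g _
    have hg : (g : Perm Ω) ∈ L'.map (alternatingGroup Ω).subtype := by
      rw [this]
      exact g.2
    obtain ⟨g', hg', hgg'⟩ := Subgroup.mem_map.mp hg
    have : g' = g := Subtype.ext hgg'
    rw [← this]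
    exact hg'

end Cfsg.Agent.S5909
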