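import Cfsg.Statements.S5910
import Cfsg.Agent.Lib.Helper97.Partition

set_option autoImplicit false
open Cfsg Equiv Cfsg.Agent.Helper97

namespace Cfsg.Agent.S5910

/-- zero-sum quadruples in `F_2^2 = Fin 4` (xor). -/
def Z4 (i j k l : Fin 4) : Prop := (i.val ^^^ j.val ^^^ k.val ^^^ l.val = 0)

instance (i j k l : Fin 4) : Decidable (Z4 i j k l) := by unfold Z4; infer_instance

/-- zero-sum quadruples in `Fin 2`. -/
def Z2 (a b c d : Fin 2) : Prop := a + b + c + d = 0

instance (a b c d : Fin 2) : Decidable (Z2 a b c d) := by unfold Z2; infer_instance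

/-- zero-sum quadruples (affine planes, with degenerate ones) in `Fin 4 × Fin 2 = F_2^3`. -/
def ZS (p q r s : Fin 4 × Fin 2) : Prop := Z4 p.1 q.1 r.1 s.1 ∧ Z2 p.2 q.2 r.2 s.2

instance (p q r s : Fin 4 × Fin 2) : Decidable (ZS p q r s) := by unfold ZS; infer_instance

set_option maxRecDepth 100000 in
theorem D1 : ∀ π : Equiv.Perm (Fin 4), ∀ i j k l : Fin 4, Z4 i j k l → Z4 (π i) (π j) (π k) (π l) := by
  decide

set_option maxRecDepth 100000 in
theorem D2 : ∀ (δ : Fin 4 → Fin 2), δ 0 + δ 1 + δ 2 + δ 3 = 0 →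
    ∀ i j k l, Z4 i j k l → δ i + δ j + δ k + δ l = 0 := by
  decide

theorem perm2_apply : ∀ (ρ : Perm (Fin 2)) (t : Fin 2), ρ t = t + ρ 0 := by decide

/-- sign as a function of a bit -/
def sg (t : Fin 2) : ℤˣ := if t = 0 then 1 else -1

theorem perm2_sign : ∀ (ρ : Perm (Fin 2)), Perm.sign ρ = sg (ρ 0) := by decide

theorem sign4 : ∀ a b c d : Fin 2, (sg a * sg b * sg c * sg d = 1) → a + b + c + d = 0 := by decide

theorem rearr : ∀ t1 t2 t3 t4 d1 d2 d3 d4 : Fin 2,
    t1 + d1 + (t2 + d2) + (t3 + d3) + (t4 + d4) = (t1 + t2 + t3 + t4) + (d1 + d2 + d3 + d4) := by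
  decide

theorem decomp (g : Perm (Fin 4 × Fin 2))
    (hg : ∀ x y : Fin 4 × Fin 2, x.1 = y.1 ↔ (g x).1 = (g y).1) :
    ∃ (π : Perm (Fin 4)) (σ : Fin 4 → Perm (Fin 2)), ∀ i t, g (i, t) = (π i, σ i t) := by
  set π0 : Fin 4 → Fin 4 := fun i => (g (i, 0)).1 with hπ0
  have hπinj : Function.Injective π0 := by
    intro i j h
    exact (hg (i, 0) (j, 0)).mpr h
  have key : ∀ i t, (g (i, t)).1 = π0 i := fun i t => (hg (i, t) (i, 0)).mp rfl
  set σ0 : Fin 4 → Fin 2 → Fin 2 := fun i t => (g (i, t)).2 with hσ0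
  have hσinj : ∀ i, Function.Injective (σ0 i) := by
    intro i t t' h
    have h1 : g (i, t) = g (i, t') := Prod.ext ((key i t).trans (key i t').symm) h
    have h2 := g.injective h1
    exact (Prod.ext_iff.mp h2).2
  refine ⟨Equiv.ofBijective π0 (Finite.injective_iff_bijective.mp hπinj),
    fun i => Equiv.ofBijective (σ0 i) (Finite.injective_iff_bijective.mp (hσinj i)), fun i t => ?_⟩
  exact Prod.ext (key i t) rfl

theorem sign_of_decomp (g : Perm (Fin 4 × Fin 2)) (π : Perm (Fin 4)) (σ : Fin 4 → Perm (Fin 2))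
    (h : ∀ i t, g (i, t) = (π i, σ i t)) : Perm.sign g = ∏ i, Perm.sign (σ i) := by
  have hg : g = (Equiv.prodCongrLeft (fun _ : Fin 2 => π)) * (Equiv.prodCongrRight σ) := by
    ext ⟨i, t⟩ <;> simp [h i t, Equiv.prodCongrLeft, Equiv.prodCongrRight]
  rw [hg, Perm.sign_mul, Perm.sign_prodCongrLeft, Perm.sign_prodCongrRight]
  simp

theorem model_pres (g : Perm (Fin 4 × Fin 2))
    (hg : ∀ x y : Fin 4 × Fin 2, x.1 = y.1 ↔ (g x).1 = (g y).1) (hs : Perm.sign g = 1) :
    ∀ p q r s : Fin 4 × Fin 2, ZS p q r s → ZS (g p) (g q) (g r) (g s) := by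
  obtain ⟨π, σ, h⟩ := decomp g hg
  have hsign := sign_of_decomp g π σ h
  rw [hs, Fin.prod_univ_four, perm2_sign, perm2_sign, perm2_sign, perm2_sign] at hsign
  have hδ := sign4 _ _ _ _ hsign.symm
  rintro ⟨i1, t1⟩ ⟨i2, t2⟩ ⟨i3, t3⟩ ⟨i4, t4⟩ ⟨h4, h2⟩
  rw [h i1 t1, h i2 t2, h i3 t3, h i4 t4]
  refine ⟨D1 π _ _ _ _ h4, ?_⟩
  have e2 := D2 (fun i => σ i 0) hδ i1 i2 i3 i4 h4
  unfold Z2 at h2 ⊢
  simp only at h2 ⊢
  rw [perm2_apply (σ i1) t1, perm2_apply (σ i2) t2, perm2_apply (σ i3) t3, perm2_apply (σ i4) t4]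
  calc t1 + σ i1 0 + (t2 + σ i2 0) + (t3 + σ i3 0) + (t4 + σ i4 0)
      = (t1 + t2 + t3 + t4) + (σ i1 0 + σ i2 0 + σ i3 0 + σ i4 0) := rearr _ _ _ _ _ _ _ _
    _ = 0 := by rw [h2, e2]; rfl

/-- the affine even permutation not preserving pairs -/
def hX : Perm (Fin 4 × Fin 2) := swap (0, 1) (1, 0) * swap (2, 1) (3, 0)

/-- a three-cycle -/
def tX : Perm (Fin 4 × Fin 2) := swap (0, 0) (1, 0) * swap (1, 0) (2, 0)

set_option maxRecDepth 100000 in
theorem hX_affine : ∀ p q r s : Fin 4 × Fin 2, ZS p q r s ↔ ZS (hX p) (hX q) (hX r) (hX s) := by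
  decide

theorem hX_sign : Perm.sign hX = 1 := by
  simp [hX, Perm.sign_mul]

theorem tX_sign : Perm.sign tX = 1 := by
  simp [tX, Perm.sign_mul]

theorem tX_not_affine : ¬ (ZS (0, 0) (0, 1) (1, 0) (1, 1) ↔
    ZS (tX (0, 0)) (tX (0, 1)) (tX (1, 0)) (tX (1, 1))) := by
  decide

theorem result {Ω : Type*} [Fintype Ω] [DecidableEq Ω] (h8 : Fintype.card Ω = 8)
    (f : Ω → Fin 4) (hf : ∀ i : Fin 4, Nat.card {x : Ω // f x = i} = 2) :
    ¬ IsCoatom ((Subgroup.closure {g : Equiv.Perm Ω | ∀ x y : Ω, f x = f y ↔ f (g x) = f (g y)} ⊓ alternatingGroup Ω).subgroupOf (alternatingGroup Ω)) := by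
  rw [closure_partSet]
  obtain ⟨e, he⟩ := exists_equiv_prod f hf
  -- the affine group
  let J : Subgroup (Perm Ω) :=
    { carrier := {g | ∀ x y z w, ZS (e x) (e y) (e z) (e w) ↔ ZS (e (g x)) (e (g y)) (e (g z)) (e (g w))}
      mul_mem' := by
        intro a b ha hb x y z w
        rw [hb x y z w, ha (b x) (b y) (b z) (b w)]
        rfl
      one_mem' := by
        intro x y z w
        rfl
      inv_mem' := by
        intro a ha x y z w
        have := ha (a⁻¹ x) (a⁻¹ y) (a⁻¹ z) (a⁻¹ w)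
        simp only [Perm.inv_def, Equiv.apply_symm_apply] at this
        exact this.symm }
  have memJ : ∀ g : Perm Ω, g ∈ J ↔ ∀ x y z w, ZS (e x) (e y) (e z) (e w) ↔
      ZS (e (g x)) (e (g y)) (e (g z)) (e (g w)) := fun g => Iff.rfl
  -- F1
  have F1fwd : ∀ g ∈ partSubgroup f ⊓ alternatingGroup Ω, ∀ x y z w, ZS (e x) (e y) (e z) (e w) →
      ZS (e (g x)) (e (g y)) (e (g z)) (e (g w)) := by
    intro g hg x y z w hZ
    have hgK := (Subgroup.mem_inf.mp hg).1
    have hgA := (Subgroup.mem_inf.mp hg).2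
    rw [Perm.mem_alternatingGroup] at hgA
    have h1 : ∀ p q : Fin 4 × Fin 2, p.1 = q.1 ↔ ((e.permCongr g) p).1 = ((e.permCongr g) q).1 := by
      intro p q
      rw [Equiv.permCongr_apply, Equiv.permCongr_apply, he, he]
      rw [← (mem_partSubgroup f g).mp hgK (e.symm p) (e.symm q), ← he, ← he]
      simp
    have h2 : Perm.sign (e.permCongr g) = 1 := by rw [Perm.sign_permCongr, hgA]
    have := model_pres (e.permCongr g) h1 h2 (e x) (e y) (e z) (e w) hZ
    simpa [Equiv.permCongr_apply] using this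
  have F1 : partSubgroup f ⊓ alternatingGroup Ω ≤ J := by
    intro g hg
    rw [memJ]
    intro x y z w
    constructor
    · exact F1fwd g hg x y z w
    · intro h
      have := F1fwd g⁻¹ (Subgroup.inv_mem _ hg) (g x) (g y) (g z) (g w) h
      simpa using this
  -- F2
  set h : Perm Ω := e.symm.permCongr hX with hh
  have heh : ∀ x, e (h x) = hX (e x) := by
    intro x
    simp [hh, Equiv.permCongr_apply]
  have hhJ : h ∈ J := by
    rw [memJ]
    intro x y z w
    rw [heh, heh, heh, heh]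
    exact hX_affine _ _ _ _
  have hhA : h ∈ alternatingGroup Ω := by
    rw [Perm.mem_alternatingGroup, hh, Perm.sign_permCongr, hX_sign]
  have hhK : h ∉ partSubgroup f := by
    intro hK
    have := (mem_partSubgroup f h).mp hK (e.symm (0, 0)) (e.symm (0, 1))
    rw [← he, ← he, ← he, ← he, heh, heh] at this
    simp only [Equiv.apply_symm_apply] at this
    have h3 : (hX (0, 0)).1 = (hX (0, 1)).1 := this.mp trivial
    revert h3
    decide
  -- F3
  set t : Perm Ω := e.symm.permCongr tX with ht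
  have het : ∀ x, e (t x) = tX (e x) := by
    intro x
    simp [ht, Equiv.permCongr_apply]
  have htA : t ∈ alternatingGroup Ω := by
    rw [Perm.mem_alternatingGroup, ht, Perm.sign_permCongr, tX_sign]
  have htJ : t ∉ J := by
    intro hJ
    have := (memJ t).mp hJ (e.symm (0, 0)) (e.symm (0, 1)) (e.symm (1, 0)) (e.symm (1, 1))
    rw [het, het, het, het] at this
    simp only [Equiv.apply_symm_apply] at this
    exact tX_not_affine this
  -- conclusion
  intro hco
  have hlt : (partSubgroup f ⊓ alternatingGroup Ω).subgroupOf (alternatingGroup Ω) <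
      (J ⊓ alternatingGroup Ω).subgroupOf (alternatingGroup Ω) := by
    refine lt_of_le_of_ne (Subgroup.subgroupOf_mono _ (le_inf F1 inf_le_right)) ?_
    intro heq
    have h1 : (⟨h, hhA⟩ : alternatingGroup Ω) ∈ (J ⊓ alternatingGroup Ω).subgroupOf (alternatingGroup Ω) := by
      rw [Subgroup.mem_subgroupOf]
      exact ⟨hhJ, hhA⟩
    rw [← heq, Subgroup.mem_subgroupOf] at h1
    exact hhK h1.1
  have htop := hco.2 _ hlt
  rw [Subgroup.subgroupOf_eq_top] at htop
  exact htJ (htop htA).1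

end Cfsg.Agent.S5910
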