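import Cfsg.Statements.S5911
import Cfsg.Agent.Lib.Helper97.PointStab

set_option autoImplicit false
open Cfsg Equiv
open Cfsg.Agent.Helper97

namespace Cfsg.Agent.S5911

set_option linter.unusedSectionVars false
set_option linter.unusedVariables false

open Nat in
theorem fact_ineq : ∀ k : ℕ, 3 ≤ k → 2 ^ k * (k + 1)! < (2 * k)! := by
  intro k hk
  induction k, hk using Nat.le_induction with
  | base => decide
  | succ k hk ih =>
    have e1 : (2 * (k + 1))! = (2 * k + 2) * ((2 * k + 1) * (2 * k)!) := by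
      rw [show 2 * (k + 1) = (2 * k + 1) + 1 by ring, Nat.factorial_succ, Nat.factorial_succ]
    have e2 : (k + 1 + 1)! = (k + 2) * (k + 1)! := by
      rw [Nat.factorial_succ]
    rw [e1, e2, pow_succ]
    have h1 : 2 ^ k * 2 * ((k + 2) * (k + 1)!) = (2 * (k + 2)) * (2 ^ k * (k + 1)!) := by ring
    rw [h1]
    have h2 : (2 * k + 2) * ((2 * k + 1) * (2 * k)!) = ((2 * k + 2) * (2 * k + 1)) * (2 * k)! := by ring
    rw [h2]
    have h3 : 2 * (k + 2) ≤ (2 * k + 2) * (2 * k + 1) := by nlinarith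
    calc 2 * (k + 2) * (2 ^ k * (k + 1)!) ≤ (2 * k + 2) * (2 * k + 1) * (2 ^ k * (k + 1)!) :=
          Nat.mul_le_mul_right _ h3
      _ < (2 * k + 2) * (2 * k + 1) * (2 * k)! := by
          apply Nat.mul_lt_mul_of_pos_left ih
          positivity

open Nat in
theorem arith (n k : ℕ) (h6 : n ≠ 6) (hk : 2 * (k + 1) ≤ n)
    (h : (n - 2 * (k + 1))! * 2 ^ (k + 1) * (k + 1)! = (n - 2)! * 2) : k = 0 := by
  obtain ⟨m, rfl⟩ : ∃ m, n = m + 2 * (k + 1) := ⟨n - 2 * (k + 1), by omega⟩
  rw [show m + 2 * (k + 1) - 2 * (k + 1) = m by omega,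
    show m + 2 * (k + 1) - 2 = m + 2 * k by omega] at h
  by_contra hk0
  rcases Nat.lt_or_ge k 3 with hk3 | hk3
  · interval_cases k
    · exact hk0 rfl
    · -- k = 1
      have e : (m + 2 * 1)! = (m + 2) * ((m + 1) * m !) := by
        rw [show m + 2 * 1 = (m + 1) + 1 by ring, Nat.factorial_succ, Nat.factorial_succ]
      rw [e] at h
      have hm : 0 < m ! := Nat.factorial_pos m
      have : 4 * m ! = ((m + 2) * (m + 1)) * m ! := by
        have h' : m ! * 2 ^ (1 + 1) * (1 + 1)! = 2 * (4 * m !) := by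
          rw [show (1 + 1)! = 2 by decide]; ring
        rw [h'] at h
        nlinarith
      have h2 : 4 = (m + 2) * (m + 1) := Nat.eq_of_mul_eq_mul_right hm this
      have hm01 : m = 0 ∨ 1 ≤ m := by omega
      rcases hm01 with rfl | hm1
      · norm_num at h2
      · have : 3 * 2 ≤ (m + 2) * (m + 1) := Nat.mul_le_mul (by omega) (by omega)
        omega
    · -- k = 2
      have e : (m + 2 * 2)! = (m + 4) * ((m + 3) * ((m + 2) * ((m + 1) * m !))) := by
        rw [show m + 2 * 2 = (m + 3) + 1 by ring, Nat.factorial_succ, Nat.factorial_succ,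
          Nat.factorial_succ, Nat.factorial_succ]
      rw [e] at h
      have hm : 0 < m ! := Nat.factorial_pos m
      have : 24 * m ! = ((m + 4) * (m + 3) * (m + 2) * (m + 1)) * m ! := by
        have h' : m ! * 2 ^ (2 + 1) * (2 + 1)! = 2 * (24 * m !) := by
          rw [show (2 + 1)! = 6 by decide]; ring
        rw [h'] at h
        nlinarith
      have h2 : 24 = (m + 4) * (m + 3) * (m + 2) * (m + 1) := Nat.eq_of_mul_eq_mul_right hm this
      have hm0 : m = 0 := by
        by_contra hne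
        have : 1 ≤ m := Nat.one_le_iff_ne_zero.mpr hne
        have : 5 * 4 * 3 * 2 ≤ (m + 4) * (m + 3) * (m + 2) * (m + 1) := by
          apply Nat.mul_le_mul
          apply Nat.mul_le_mul
          apply Nat.mul_le_mul
          all_goals omega
        omega
      subst hm0
      exact h6 rfl
  · have h1 := fact_ineq k hk3
    have h2 : m ! * (2 * k)! ≤ (m + 2 * k)! :=
      Nat.le_of_dvd (Nat.factorial_pos _) (Nat.factorial_mul_factorial_dvd_factorial_add m (2 * k))
    have hm : 0 < m ! := Nat.factorial_pos m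
    have : m ! * 2 ^ (k + 1) * (k + 1)! = 2 * (m ! * (2 ^ k * (k + 1)!)) := by
      rw [pow_succ]; ring
    rw [this] at h
    have h3 : m ! * (2 ^ k * (k + 1)!) < m ! * (2 * k)! := Nat.mul_lt_mul_of_pos_left h1 hm
    omega


theorem isSwap_eq {α : Type*} [DecidableEq α] {σ : Perm α} (h : σ.IsSwap) {x : α} (hx : σ x ≠ x) :
    σ = swap x (σ x) := by
  obtain ⟨a, b, hab, rfl⟩ := h
  by_cases hxa : x = a
  · subst hxa; rw [swap_apply_left]
  by_cases hxb : x = b
  · subst hxb; rw [swap_apply_right, swap_comm]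
  exact absurd (swap_apply_of_ne_of_ne hxa hxb) hx

theorem swap_eq_swap {α : Type*} [DecidableEq α] {a b c d : α} (hcd : c ≠ d)
    (h : swap c d = swap a b) : (c = a ∧ d = b) ∨ (c = b ∧ d = a) := by
  have h1 : swap a b c = d := by rw [← h, swap_apply_left]
  by_cases hca : c = a
  · subst hca
    rw [swap_apply_left] at h1
    exact Or.inl ⟨rfl, h1.symm⟩
  by_cases hcb : c = b
  · subst hcb
    rw [swap_apply_right] at h1
    exact Or.inr ⟨rfl, h1.symm⟩
  rw [swap_apply_of_ne_of_ne hca hcb] at h1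
  exact absurd h1 hcd

variable {Ω : Type*} [Fintype Ω] [DecidableEq Ω]

theorem stab_le (H : Subgroup (Perm Ω)) (ω : Ω)
    (h : ∀ b c, b ≠ ω → c ≠ ω → b ≠ c → swap b c ∈ H) : MulAction.stabilizer (Perm Ω) ω ≤ H := by
  rw [← range_ofSubtype_ne, MonoidHom.range_eq_map, ← Equiv.Perm.closure_isSwap, MonoidHom.map_closure,
    Subgroup.closure_le]
  rintro _ ⟨σ, ⟨x, y, hxy, rfl⟩, rfl⟩
  rw [Equiv.Perm.ofSubtype_swap_eq]
  exact h x.1 y.1 x.2 y.2 (fun h => hxy (Subtype.ext h))

theorem pigeon (H : Subgroup (Perm Ω))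
    (hcount : Nat.card {τ : Perm Ω // τ.IsSwap ∧ τ ∉ H} + 1 ≤ Fintype.card Ω) :
    ∃ a : Ω, ∀ b c, b ≠ a → c ≠ a → swap a b ∉ H → swap a c ∉ H → b = c := by
  classical
  rw [Nat.card_eq_fintype_card, Fintype.card_subtype] at hcount
  by_contra hcon
  simp only [not_exists, not_forall] at hcon
  choose b c hb hc hbH hcH hbc using hcon
  set T := Finset.univ.filter (fun τ : Perm Ω => τ.IsSwap ∧ τ ∉ H) with hT
  set P : Finset (Ω × Ω) := Finset.univ.filter (fun q => q.2 ≠ q.1 ∧ swap q.1 q.2 ∉ H) with hP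
  -- lower bound
  have h1 : Fintype.card Ω * 2 ≤ P.card := by
    have : Fintype.card (Ω × Bool) = Fintype.card Ω * 2 := by simp
    rw [← this, ← Finset.card_univ]
    apply Finset.card_le_card_of_injOn (fun q : Ω × Bool => (q.1, if q.2 then b q.1 else c q.1))
    · intro q _
      simp only [hP, Finset.coe_filter, Finset.mem_univ, true_and, Set.mem_ofPred_eq]
      rcases q with ⟨a, i⟩
      cases i
      · exact ⟨hc a, hcH a⟩
      · exact ⟨hb a, hbH a⟩
    · rintro ⟨a, i⟩ _ ⟨a', i'⟩ _ heq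
      simp only [Prod.mk.injEq] at heq
      obtain ⟨rfl, h2⟩ := heq
      cases i <;> cases i'
      · rfl
      · exact absurd h2.symm (hbc a)
      · exact absurd h2 (hbc a)
      · rfl
  -- upper bound
  have h2 : P.card ≤ 2 * T.card := by
    have h3 : P.card ≤ 2 * (P.image (fun q => swap q.1 q.2)).card := by
      apply Finset.card_le_mul_card_image
      intro τ hτ
      rw [Finset.mem_image] at hτ
      obtain ⟨⟨a0, b0⟩, _, rfl⟩ := hτ
      have : (P.filter fun q => swap q.1 q.2 = swap a0 b0) ⊆ {(a0, b0), (b0, a0)} := by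
        intro q hq
        rw [Finset.mem_filter] at hq
        obtain ⟨hqP, hq2⟩ := hq
        simp only [hP, Finset.mem_filter, Finset.mem_univ, true_and] at hqP
        rcases swap_eq_swap hqP.1.symm hq2 with ⟨h1, h2⟩ | ⟨h1, h2⟩
        · simp [Prod.ext_iff, h1, h2]
        · simp [Prod.ext_iff, h1, h2]
      exact (Finset.card_le_card this).trans Finset.card_le_two
    have h4 : (P.image (fun q => swap q.1 q.2)) ⊆ T := by
      intro τ hτ
      rw [Finset.mem_image] at hτ
      obtain ⟨⟨a0, b0⟩, hq, rfl⟩ := hτ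
      simp only [hP, Finset.mem_filter, Finset.mem_univ, true_and] at hq
      simp only [hT, Finset.mem_filter, Finset.mem_univ, true_and]
      exact ⟨⟨a0, b0, hq.1.symm, rfl⟩, hq.2⟩
    exact h3.trans (Nat.mul_le_mul_left 2 (Finset.card_le_card h4))
  omega


theorem card_centralizer_swap {α : Type*} [Fintype α] [DecidableEq α] (τ : Perm α) (hτ : τ.IsSwap) :
    Nat.card (Subgroup.centralizer {τ}) = (Fintype.card α - 2).factorial * 2 := by
  rw [Equiv.Perm.nat_card_centralizer, Equiv.Perm.isSwap_iff_cycleType.mp hτ]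
  simp

theorem card_centralizer_invol {α : Type*} [Fintype α] [DecidableEq α] (σ : Perm α) (k : ℕ)
    (hσ : σ.cycleType = Multiset.replicate (k + 1) 2) :
    Nat.card (Subgroup.centralizer {σ}) =
      (Fintype.card α - 2 * (k + 1)).factorial * 2 ^ (k + 1) * (k + 1).factorial := by
  rw [Equiv.Perm.nat_card_centralizer, hσ]
  have h1 : (Multiset.replicate (k + 1) 2).toFinset = {2} := by
    rw [Multiset.toFinset_replicate, if_neg (Nat.succ_ne_zero k)]
  rw [h1, Multiset.sum_replicate, Multiset.prod_replicate, smul_eq_mul, Finset.prod_singleton,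
    Multiset.count_replicate_self, mul_comm (k + 1) 2]

theorem iso_swap {X : Type*} [Fintype X] [DecidableEq X] (hX : Fintype.card X = Fintype.card Ω)
    (h6 : Fintype.card Ω ≠ 6) (φ : Perm Ω →* Perm X) (hφ : Function.Injective φ)
    (τ : Perm Ω) (hτ : τ.IsSwap) : (φ τ).IsSwap := by
  have hbij : Function.Bijective φ := by
    rw [Fintype.bijective_iff_injective_and_card]
    refine ⟨hφ, ?_⟩
    rw [Fintype.card_perm, Fintype.card_perm, hX]
  have hmap : (Subgroup.centralizer {τ}).map φ = Subgroup.centralizer {φ τ} := by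
    ext σ
    rw [Subgroup.mem_map, Subgroup.mem_centralizer_singleton_iff]
    constructor
    · rintro ⟨g, hg, rfl⟩
      rw [Subgroup.mem_centralizer_singleton_iff] at hg
      rw [← map_mul, ← map_mul, hg]
    · intro h
      obtain ⟨g, rfl⟩ := hbij.2 σ
      refine ⟨g, ?_, rfl⟩
      rw [Subgroup.mem_centralizer_singleton_iff]
      apply hφ
      rw [map_mul, map_mul, h]
  have hcard : Nat.card (Subgroup.centralizer {φ τ}) = Nat.card (Subgroup.centralizer {τ}) := by
    rw [← hmap]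
    exact Subgroup.card_map_of_injective hφ
  have hτ1 : τ ≠ 1 := by
    obtain ⟨a, b, hab, rfl⟩ := hτ
    intro h
    have := congrArg (fun f : Perm Ω => f a) h
    simp only [swap_apply_left, Perm.one_apply] at this
    exact hab this.symm
  have hτ2 : τ ^ 2 = 1 := by
    obtain ⟨a, b, hab, rfl⟩ := hτ
    rw [pow_two, swap_mul_self]
  have hord : orderOf (φ τ) = 2 := by
    apply orderOf_eq_prime
    · rw [← map_pow, hτ2, map_one]
    · intro h
      apply hτ1
      apply hφ
      rw [h, map_one]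
  obtain ⟨k, hk⟩ := Equiv.Perm.cycleType_prime_order (σ := φ τ) (by rw [hord]; exact Nat.prime_two)
  rw [hord] at hk
  have hsum : 2 * (k + 1) ≤ Fintype.card Ω := by
    have := Equiv.Perm.sum_cycleType_le (φ τ)
    rw [hk, Multiset.sum_replicate, smul_eq_mul, hX] at this
    omega
  rw [card_centralizer_invol (φ τ) k hk, card_centralizer_swap τ hτ, hX] at hcard
  have hk0 := arith _ k h6 hsum hcard
  subst hk0
  rw [Equiv.Perm.isSwap_iff_cycleType, hk]
  rfl


theorem eq_of_stab_le (H : Subgroup (Perm Ω)) (hH : H.index = Fintype.card Ω) (ω : Ω)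
    (hle : MulAction.stabilizer (Perm Ω) ω ≤ H) : H = MulAction.stabilizer (Perm Ω) ω := by
  have h1 : (MulAction.stabilizer (Perm Ω) ω).index = Fintype.card Ω := by
    rw [MulAction.index_stabilizer_of_transitive, Nat.card_eq_fintype_card]
  have h2 := Subgroup.index_mul_card H
  have h3 := Subgroup.index_mul_card (MulAction.stabilizer (Perm Ω) ω)
  rw [hH] at h2
  rw [h1, ← h2] at h3
  have hn : 0 < Fintype.card Ω := Fintype.card_pos_iff.mpr ⟨ω⟩
  have h4 : Nat.card (MulAction.stabilizer (Perm Ω) ω) = Nat.card H := Nat.eq_of_mul_eq_mul_left hn h3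
  exact (Subgroup.eq_of_le_of_card_ge hle (by rw [h4])).symm

theorem eq_of_le_stab (H : Subgroup (Perm Ω)) (hH : H.index = Fintype.card Ω) (ω : Ω)
    (hle : H ≤ MulAction.stabilizer (Perm Ω) ω) : H = MulAction.stabilizer (Perm Ω) ω := by
  have h1 : (MulAction.stabilizer (Perm Ω) ω).index = Fintype.card Ω := by
    rw [MulAction.index_stabilizer_of_transitive, Nat.card_eq_fintype_card]
  have h2 := Subgroup.index_mul_card H
  have h3 := Subgroup.index_mul_card (MulAction.stabilizer (Perm Ω) ω)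
  rw [hH] at h2
  rw [h1, ← h2] at h3
  have hn : 0 < Fintype.card Ω := Fintype.card_pos_iff.mpr ⟨ω⟩
  have h4 : Nat.card (MulAction.stabilizer (Perm Ω) ω) = Nat.card H := Nat.eq_of_mul_eq_mul_left hn h3
  exact Subgroup.eq_of_le_of_card_ge hle (by rw [h4])

theorem main_of_core (h6 : Fintype.card Ω ≠ 6) (h2 : 2 ≤ Fintype.card Ω) (H : Subgroup (Perm Ω))
    (hH : H.index = Fintype.card Ω) (hcore : H.normalCore = ⊥) :
    ∃ x : Ω, H = MulAction.stabilizer (Perm Ω) x := by
  classical
  have : Fintype (Perm Ω ⧸ H) := Fintype.ofFinite _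
  have hX : Fintype.card (Perm Ω ⧸ H) = Fintype.card Ω := by
    rw [← Nat.card_eq_fintype_card]
    exact hH
  obtain ⟨φ, hφdef⟩ : ∃ φ, φ = MulAction.toPermHom (Perm Ω) (Perm Ω ⧸ H) := ⟨_, rfl⟩
  have hinj : Function.Injective φ := by
    rw [← MonoidHom.ker_eq_bot_iff, hφdef, ← Subgroup.normalCore_eq_ker]
    exact hcore
  have hswap := iso_swap hX h6 φ hinj
  obtain ⟨x0, hx0⟩ : ∃ x0 : Perm Ω ⧸ H, x0 = QuotientGroup.mk 1 := ⟨_, rfl⟩
  have hφx0 : ∀ τ : Perm Ω, φ τ x0 = QuotientGroup.mk τ := by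
    intro τ
    rw [hφdef, hx0]
    show τ • (QuotientGroup.mk 1 : Perm Ω ⧸ H) = _
    rw [MulAction.Quotient.smul_mk, smul_eq_mul, mul_one]
  have hne : ∀ τ : Perm Ω, τ ∉ H → (QuotientGroup.mk τ : Perm Ω ⧸ H) ≠ x0 := by
    intro τ hτ h
    rw [hx0, QuotientGroup.eq, mul_one, inv_mem_iff] at h
    exact hτ h
  have hcount : Nat.card {τ : Perm Ω // τ.IsSwap ∧ τ ∉ H} + 1 ≤ Fintype.card Ω := by
    have hinj2 : Function.Injective (fun τ : {τ : Perm Ω // τ.IsSwap ∧ τ ∉ H} =>
        (⟨QuotientGroup.mk τ.1, hne τ.1 τ.2.2⟩ : {y : Perm Ω ⧸ H // y ≠ x0})) := by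
      rintro ⟨τ, hτ1, hτ2⟩ ⟨τ', hτ'1, hτ'2⟩ h
      simp only [Subtype.mk.injEq] at h
      apply Subtype.ext
      apply hinj
      have e1 := isSwap_eq (hswap τ hτ1) (x := x0) (by rw [hφx0]; exact hne τ hτ2)
      have e2 := isSwap_eq (hswap τ' hτ'1) (x := x0) (by rw [hφx0]; exact hne τ' hτ'2)
      rw [e1, e2, hφx0, hφx0, h]
    have h1 := Nat.card_le_card_of_injective _ hinj2
    have h2 : Nat.card {y : Perm Ω ⧸ H // y ≠ x0} < Fintype.card (Perm Ω ⧸ H) := by
      rw [Nat.card_eq_fintype_card]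
      exact Fintype.card_subtype_lt (x := x0) (by simp)
    omega
  obtain ⟨a, ha⟩ := pigeon H hcount
  have : Nontrivial Ω := Fintype.one_lt_card_iff_nontrivial.mp (by omega)
  obtain ⟨ω, hωa, hω⟩ : ∃ ω, ω ≠ a ∧ ∀ b, b ≠ a → b ≠ ω → swap a b ∈ H := by
    by_cases hall : ∀ b, b ≠ a → swap a b ∈ H
    · obtain ⟨ω, hω⟩ := exists_ne a
      exact ⟨ω, hω, fun b hb _ => hall b hb⟩
    · simp only [not_forall] at hall
      obtain ⟨ω, hωa, hωH⟩ := hall
      exact ⟨ω, hωa, fun b hb hbω => by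
        by_contra h
        exact hbω (ha b ω hb hωa h hωH)⟩
  refine ⟨ω, eq_of_stab_le H hH ω (stab_le H ω ?_)⟩
  intro b c hb hc hbc
  by_cases hba : b = a
  · subst hba
    exact hω c (Ne.symm hbc) hc
  by_cases hca : c = a
  · subst hca
    rw [swap_comm]
    exact hω b hba hb
  have h1 := hω b hba hb
  have h2 := hω c hca hc
  have : swap b c = swap a b * swap a c * swap a b := by
    have := swap_mul_swap_mul_swap (x := c) (y := a) (z := b) hca (Ne.symm hbc)
    rw [swap_comm c a] at this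
    exact this.symm
  rw [this]
  exact H.mul_mem (H.mul_mem h1 h2) h1


theorem core_eq_bot (h5 : 5 ≤ Fintype.card Ω) (H : Subgroup (Perm Ω))
    (hH : H.index = Fintype.card Ω) : H.normalCore = ⊥ := by
  by_contra hne
  have hnt : Nontrivial H.normalCore := (Subgroup.nontrivial_iff_ne_bot _).mpr hne
  have hA := Equiv.Perm.alternatingGroup_le_of_normal
    (by rw [Nat.card_eq_fintype_card]; exact h5) hnt
  have hAH : alternatingGroup Ω ≤ H := hA.trans (Subgroup.normalCore_le H)
  have hd := Subgroup.index_dvd_of_le hAH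
  have : Nontrivial Ω := Fintype.one_lt_card_iff_nontrivial.mp (by omega)
  rw [alternatingGroup.index_eq_two, hH] at hd
  have := Nat.le_of_dvd (by norm_num) hd
  omega

theorem card_of_index (H : Subgroup (Perm Ω)) (hH : H.index = Fintype.card Ω)
    (hn : 0 < Fintype.card Ω) : Nat.card H = (Fintype.card Ω - 1).factorial := by
  have h2 := Subgroup.index_mul_card H
  rw [hH, Nat.card_eq_fintype_card (α := Perm Ω), Fintype.card_perm] at h2
  obtain ⟨m, hm⟩ : ∃ m, Fintype.card Ω = m + 1 := ⟨Fintype.card Ω - 1, by omega⟩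
  rw [hm, Nat.factorial_succ] at h2
  rw [hm, Nat.add_sub_cancel]
  exact Nat.eq_of_mul_eq_mul_left (by omega) h2

theorem small34 (hn : Fintype.card Ω = 3 ∨ Fintype.card Ω = 4) (H : Subgroup (Perm Ω))
    (hH : H.index = Fintype.card Ω) : ∃ x : Ω, H = MulAction.stabilizer (Perm Ω) x := by
  obtain ⟨n, hndef⟩ : ∃ n, n = Fintype.card Ω := ⟨_, rfl⟩
  rw [← hndef] at hn
  have hcardH : Nat.card H = (n - 1).factorial := by
    rw [hndef]
    exact card_of_index H hH (by omega)
  have hp : (n - 1).Prime := by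
    rcases hn with h | h <;> rw [h] <;> norm_num
  have hdvd : (n - 1) ∣ Nat.card H := by
    rw [hcardH]
    exact Nat.dvd_factorial hp.pos le_rfl
  have : Fact (n - 1).Prime := ⟨hp⟩
  obtain ⟨c, hc⟩ := exists_prime_orderOf_dvd_card' (G := H) (n - 1) hdvd
  have hc' : orderOf (c : Perm Ω) = n - 1 := by rw [Subgroup.orderOf_coe, hc]
  obtain ⟨k, hk⟩ := Equiv.Perm.cycleType_prime_order (σ := (c : Perm Ω)) (by rw [hc']; exact hp)
  rw [hc'] at hk
  have hk0 : k = 0 := by
    have := Equiv.Perm.sum_cycleType_le (c : Perm Ω)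
    rw [hk, Multiset.sum_replicate, smul_eq_mul, ← hndef] at this
    rcases hn with h | h <;> rw [h] at this <;> omega
  subst hk0
  have hsupp : (c : Perm Ω).support.card = n - 1 := by
    rw [← Equiv.Perm.sum_cycleType, hk]
    simp
  have hfix : ∃ ω, ∀ x, (c : Perm Ω) x = x ↔ x = ω := by
    have : ((c : Perm Ω).supportᶜ).card = 1 := by
      rw [Finset.card_compl, hsupp, ← hndef]
      omega
    obtain ⟨ω, hω⟩ := Finset.card_eq_one.mp this
    refine ⟨ω, fun x => ?_⟩
    have : x ∈ (c : Perm Ω).supportᶜ ↔ x ∈ ({ω} : Finset Ω) := by rw [hω]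
    rw [Finset.mem_singleton, Finset.mem_compl, Perm.mem_support, not_not] at this
    exact this
  obtain ⟨ω, hω⟩ := hfix
  refine ⟨ω, eq_of_le_stab H hH ω ?_⟩
  intro h hh
  rw [MulAction.mem_stabilizer_iff, Perm.smul_def]
  obtain ⟨P, hPdef⟩ : ∃ P : Subgroup H, P = Subgroup.zpowers c := ⟨_, rfl⟩
  have hPcard : Nat.card P = n - 1 := by rw [hPdef, Nat.card_zpowers, hc]
  have hPn : P.Normal := by
    have hic := Subgroup.index_mul_card P
    rw [hPcard, hcardH] at hic
    rcases hn with h | h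
    · rw [h] at hic
      have h1 : P.index = 1 := by
        have : (3 - 1).factorial = 2 := by decide
        rw [this] at hic
        omega
      rw [Subgroup.index_eq_one] at h1
      rw [h1]
      infer_instance
    · rw [h] at hic
      have h2 : P.index = 2 := by
        have : (4 - 1).factorial = 6 := by decide
        rw [this] at hic
        omega
      exact Subgroup.normal_of_index_eq_two h2
  have hconj : (⟨h, hh⟩ : H) * c * (⟨h, hh⟩ : H)⁻¹ ∈ P :=
    hPn.conj_mem c (by rw [hPdef]; exact Subgroup.mem_zpowers c) _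
  rw [hPdef] at hconj
  obtain ⟨j, hj⟩ := Subgroup.mem_zpowers_iff.mp hconj
  have hcω : (c : Perm Ω) ω = ω := (hω ω).mpr rfl
  have h1 : (h * (c : Perm Ω) * h⁻¹) ω = ω := by
    have e : ((c ^ j : H) : Perm Ω) = h * c * h⁻¹ := by rw [hj]; rfl
    rw [← e, Subgroup.coe_zpow]
    exact Equiv.Perm.zpow_apply_eq_self_of_apply_eq_self hcω j
  have h2 : (c : Perm Ω) (h⁻¹ ω) = h⁻¹ ω := by
    have := congrArg (h⁻¹ : Perm Ω) h1
    simpa using this
  have h3 := (hω _).mp h2
  calc h ω = h (h⁻¹ ω) := by rw [h3]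
    _ = ω := by simp

theorem result {Ω : Type*} [Fintype Ω] [DecidableEq Ω] (h6 : Fintype.card Ω ≠ 6)
    (H : Subgroup (Equiv.Perm Ω)) (hH : H.index = Fintype.card Ω) :
    ∃ x : Ω, H = MulAction.stabilizer (Equiv.Perm Ω) x := by
  rcases Nat.lt_or_ge (Fintype.card Ω) 5 with h5 | h5
  · have h0 : Fintype.card Ω ≠ 0 := by
      rw [← hH]
      exact Subgroup.index_ne_zero_of_finite
    rcases Nat.lt_or_ge (Fintype.card Ω) 3 with h3 | h3
    · -- n = 1, 2 : H = ⊥
      have hcardH := card_of_index H hH (by omega)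
      have h1 : Nat.card H = 1 := by
        rw [hcardH]
        have : Fintype.card Ω - 1 = 0 ∨ Fintype.card Ω - 1 = 1 := by omega
        rcases this with h | h <;> rw [h] <;> rfl
      have hbot : H = ⊥ := Subgroup.eq_bot_of_card_eq H h1
      have : Nonempty Ω := Fintype.card_pos_iff.mp (by omega)
      obtain ⟨x⟩ := this
      exact ⟨x, eq_of_le_stab H hH x (by rw [hbot]; exact bot_le)⟩
    · exact small34 (by omega) H hH
  · exact main_of_core h6 (by omega) H hH (core_eq_bot h5 H hH)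

end Cfsg.Agent.S5911
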