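import Cfsg.Statements.S5912
import Cfsg.Agent.Lib.Helper97.SymIndex

set_option autoImplicit false
open Cfsg Equiv
open Cfsg.Agent.Helper97

namespace Cfsg.Agent.S5912

set_option linter.unusedSectionVars false
set_option linter.unusedVariables false

section types
variable {Y : Type*} [Fintype Y] [DecidableEq Y]

theorem count1 (hY : Fintype.card Y = 6) :
    Fintype.card {g : Perm Y // g.cycleType = {2}} = 15 := by
  rw [Fintype.card_subtype, Equiv.Perm.card_of_cycleType, hY]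
  decide

theorem count3 (hY : Fintype.card Y = 6) :
    Fintype.card {g : Perm Y // g.cycleType = {2, 2, 2}} = 15 := by
  rw [Fintype.card_subtype, Equiv.Perm.card_of_cycleType, hY]
  decide

theorem invol_of_type {g : Perm Y} (h : g.cycleType = {2} ∨ g.cycleType = {2, 2, 2}) :
    g ≠ 1 ∧ g ^ 2 = 1 := by
  constructor
  · rintro rfl
    rw [Equiv.Perm.cycleType_one] at h
    rcases h with h | h <;> exact absurd h (by decide)
  · have : orderOf g = 2 := by
      rw [← Equiv.Perm.lcm_cycleType]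
      rcases h with h | h <;> rw [h] <;> decide
    rw [← this]
    exact pow_orderOf_eq_one g

theorem cent48 (hY : Fintype.card Y = 6) {g : Perm Y}
    (h : g.cycleType = {2} ∨ g.cycleType = {2, 2, 2}) :
    Nat.card (Subgroup.centralizer {g}) = 48 := by
  rcases h with h | h
  · rw [card_centralizer_invol g 0 (by rw [h]; rfl), hY]
    decide
  · rw [card_centralizer_invol g 2 (by rw [h]; rfl), hY]
    decide

theorem type_of_cent48 (hY : Fintype.card Y = 6) {ρ : Perm Y} (h1 : ρ ≠ 1) (h2 : ρ ^ 2 = 1)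
    (hc : Nat.card (Subgroup.centralizer {ρ}) = 48) :
    ρ.cycleType = {2} ∨ ρ.cycleType = {2, 2, 2} := by
  have hord : orderOf ρ = 2 := orderOf_eq_prime h2 h1
  obtain ⟨k, hk⟩ := Equiv.Perm.cycleType_prime_order (σ := ρ) (by rw [hord]; exact Nat.prime_two)
  rw [hord] at hk
  have hsum : 2 * (k + 1) ≤ 6 := by
    have := Equiv.Perm.sum_cycleType_le ρ
    rw [hk, Multiset.sum_replicate, smul_eq_mul, hY] at this
    omega
  rw [card_centralizer_invol ρ k hk, hY] at hc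
  have hk2 : k ≤ 2 := by omega
  interval_cases k
  · left; rw [hk]; rfl
  · exfalso; revert hc; decide
  · right; rw [hk]; rfl

end types


section maps
variable {Ω : Type*} [Fintype Ω] [DecidableEq Ω] {X : Type*} [Fintype X] [DecidableEq X]

theorem image_type (hΩ : Fintype.card Ω = 6) (hX : Fintype.card X = 6)
    (φ : Perm Ω →* Perm X) (hφ : Function.Injective φ) {σ : Perm Ω}
    (h : σ.cycleType = {2} ∨ σ.cycleType = {2, 2, 2}) :
    (φ σ).cycleType = {2} ∨ (φ σ).cycleType = {2, 2, 2} := by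
  obtain ⟨h1, h2⟩ := invol_of_type h
  apply type_of_cent48 hX
  · intro h'
    apply h1
    apply hφ
    rw [h', map_one]
  · rw [← map_pow, h2, map_one]
  · rw [card_centralizer_map (hX.trans hΩ.symm) φ hφ σ]
    exact cent48 hΩ h

theorem dichotomy (hΩ : Fintype.card Ω = 6) (hX : Fintype.card X = 6)
    (φ : Perm Ω →* Perm X) (hφ : Function.Injective φ) :
    (∀ τ : Perm Ω, τ.IsSwap → (φ τ).IsSwap) ∨
      (∀ τ : Perm Ω, τ.IsSwap → (φ τ).cycleType = {2, 2, 2}) := by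
  have : Nontrivial Ω := Fintype.one_lt_card_iff_nontrivial.mp (by omega)
  obtain ⟨a, b, hab⟩ := exists_pair_ne Ω
  have hconj : ∀ τ : Perm Ω, τ.IsSwap → (φ τ).cycleType = (φ (swap a b)).cycleType := by
    rintro τ ⟨c, d, hcd, rfl⟩
    obtain ⟨g, hg⟩ := isConj_iff.mp (Equiv.Perm.isConj_swap hab hcd)
    rw [← hg, map_mul, map_mul, map_inv, Equiv.Perm.cycleType_conj]
  rcases image_type hΩ hX φ hφ (σ := swap a b)
    (Or.inl (Equiv.Perm.isSwap_iff_cycleType.mp ⟨a, b, hab, rfl⟩)) with h | h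
  · left
    intro τ hτ
    rw [Equiv.Perm.isSwap_iff_cycleType, hconj τ hτ, h]
  · right
    intro τ hτ
    rw [hconj τ hτ, h]

/-- Consequences of the exotic type. -/
theorem typeB (hΩ : Fintype.card Ω = 6) (hX : Fintype.card X = 6)
    (φ : Perm Ω →* Perm X) (hφ : Function.Injective φ)
    (hB : ∀ τ : Perm Ω, τ.IsSwap → (φ τ).cycleType = {2, 2, 2}) :
    (∀ σ : Perm Ω, σ.cycleType = {2, 2, 2} → (φ σ).IsSwap) ∧
      (∀ s : Perm X, s.IsSwap → ∃ σ : Perm Ω, σ.cycleType = {2, 2, 2} ∧ φ σ = s) := by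
  -- swaps map onto the fixed-point-free involutions
  have hC0 : ∀ ρ : Perm X, ρ.cycleType = {2, 2, 2} → ∃ τ : Perm Ω, τ.IsSwap ∧ φ τ = ρ := by
    let f : {g : Perm Ω // g.cycleType = {2}} → {g : Perm X // g.cycleType = {2, 2, 2}} :=
      fun g => ⟨φ g.1, hB g.1 (Equiv.Perm.isSwap_iff_cycleType.mpr g.2)⟩
    have hf : Function.Injective f := by
      intro g g' h
      apply Subtype.ext
      apply hφ
      exact congrArg Subtype.val h
    have hbij : Function.Bijective f := by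
      rw [Fintype.bijective_iff_injective_and_card]
      exact ⟨hf, by rw [count1 hΩ, count3 hX]⟩
    intro ρ hρ
    obtain ⟨g, hg⟩ := hbij.2 ⟨ρ, hρ⟩
    exact ⟨g.1, Equiv.Perm.isSwap_iff_cycleType.mpr g.2, congrArg Subtype.val hg⟩
  have hC1 : ∀ σ : Perm Ω, σ.cycleType = {2, 2, 2} → (φ σ).IsSwap := by
    intro σ hσ
    rcases image_type hΩ hX φ hφ (Or.inr hσ) with h | h
    · exact Equiv.Perm.isSwap_iff_cycleType.mpr h
    · exfalso
      obtain ⟨τ, hτ, hτσ⟩ := hC0 _ h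
      have := hφ hτσ
      rw [← this, Equiv.Perm.isSwap_iff_cycleType.mp hτ] at hσ
      revert hσ
      decide
  refine ⟨hC1, ?_⟩
  let f : {g : Perm Ω // g.cycleType = {2, 2, 2}} → {g : Perm X // g.cycleType = {2}} :=
    fun g => ⟨φ g.1, Equiv.Perm.isSwap_iff_cycleType.mp (hC1 g.1 g.2)⟩
  have hf : Function.Injective f := by
    intro g g' h
    apply Subtype.ext
    apply hφ
    exact congrArg Subtype.val h
  have hbij : Function.Bijective f := by
    rw [Fintype.bijective_iff_injective_and_card]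
    exact ⟨hf, by rw [count3 hΩ, count1 hX]⟩
  intro s hs
  obtain ⟨g, hg⟩ := hbij.2 ⟨s, Equiv.Perm.isSwap_iff_cycleType.mp hs⟩
  exact ⟨g.1, g.2, congrArg Subtype.val hg⟩

end maps


section main
variable {Ω : Type*} [Fintype Ω] [DecidableEq Ω]

theorem typeA_stab (h2 : 2 ≤ Fintype.card Ω) (H : Subgroup (Perm Ω))
    (hH : H.index = Fintype.card Ω) [Fintype (Perm Ω ⧸ H)] [DecidableEq (Perm Ω ⧸ H)]
    (hinj : Function.Injective (MulAction.toPermHom (Perm Ω) (Perm Ω ⧸ H)))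
    (hA : ∀ τ : Perm Ω, τ.IsSwap → (MulAction.toPermHom (Perm Ω) (Perm Ω ⧸ H) τ).IsSwap) :
    ∃ x : Ω, H = MulAction.stabilizer (Perm Ω) x := by
  have hX : Fintype.card (Perm Ω ⧸ H) = Fintype.card Ω := by
    rw [← Nat.card_eq_fintype_card]
    exact hH
  apply stab_of_count h2 H hH
  have hne : ∀ τ : Perm Ω, τ ∉ H → (QuotientGroup.mk τ : Perm Ω ⧸ H) ≠ QuotientGroup.mk 1 :=
    fun τ hτ h => hτ ((mk_eq_mk_one_iff H τ).mp h)
  have hinj2 : Function.Injective (fun τ : {τ : Perm Ω // τ.IsSwap ∧ τ ∉ H} =>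
      (⟨QuotientGroup.mk τ.1, hne τ.1 τ.2.2⟩ :
        {y : Perm Ω ⧸ H // y ≠ QuotientGroup.mk 1})) := by
    rintro ⟨τ, hτ1, hτ2⟩ ⟨τ', hτ'1, hτ'2⟩ h
    simp only [Subtype.mk.injEq] at h
    apply Subtype.ext
    apply hinj
    have e1 := isSwap_eq (hA τ hτ1) (x := QuotientGroup.mk 1)
      (by rw [toPermHom_mk_one]; exact hne τ hτ2)
    have e2 := isSwap_eq (hA τ' hτ'1) (x := QuotientGroup.mk 1)
      (by rw [toPermHom_mk_one]; exact hne τ' hτ'2)
    rw [e1, e2, toPermHom_mk_one, toPermHom_mk_one, h]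
  have h1 := Nat.card_le_card_of_injective _ hinj2
  have h3 : Nat.card {y : Perm Ω ⧸ H // y ≠ QuotientGroup.mk 1} < Fintype.card (Perm Ω ⧸ H) := by
    rw [Nat.card_eq_fintype_card]
    exact Fintype.card_subtype_lt (x := QuotientGroup.mk 1) (by simp)
  omega

theorem typeB_conj (hΩ : Fintype.card Ω = 6) (H H' : Subgroup (Perm Ω))
    (hH : H.index = 6) (hH' : H'.index = 6)
    [Fintype (Perm Ω ⧸ H)] [DecidableEq (Perm Ω ⧸ H)]
    [Fintype (Perm Ω ⧸ H')] [DecidableEq (Perm Ω ⧸ H')]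
    (hinj : Function.Injective (MulAction.toPermHom (Perm Ω) (Perm Ω ⧸ H)))
    (hinj' : Function.Injective (MulAction.toPermHom (Perm Ω) (Perm Ω ⧸ H')))
    (hB : ∀ τ : Perm Ω, τ.IsSwap →
      (MulAction.toPermHom (Perm Ω) (Perm Ω ⧸ H) τ).cycleType = {2, 2, 2})
    (hB' : ∀ τ : Perm Ω, τ.IsSwap →
      (MulAction.toPermHom (Perm Ω) (Perm Ω ⧸ H') τ).cycleType = {2, 2, 2}) :
    ∃ g : Perm Ω, Subgroup.map (MulAut.conj g).toMonoidHom H = H' := by
  have hX : Fintype.card (Perm Ω ⧸ H) = 6 := by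
    rw [← Nat.card_eq_fintype_card]
    exact hH
  have hX' : Fintype.card (Perm Ω ⧸ H') = 6 := by
    rw [← Nat.card_eq_fintype_card]
    exact hH'
  obtain ⟨φ, hφdef⟩ : ∃ φ, φ = MulAction.toPermHom (Perm Ω) (Perm Ω ⧸ H) := ⟨_, rfl⟩
  obtain ⟨φ', hφ'def⟩ : ∃ φ', φ' = MulAction.toPermHom (Perm Ω) (Perm Ω ⧸ H') := ⟨_, rfl⟩
  rw [← hφdef] at hinj hB
  rw [← hφ'def] at hinj' hB'
  obtain ⟨_, hC2⟩ := typeB hΩ hX φ hinj hB
  obtain ⟨hC1', _⟩ := typeB hΩ hX' φ' hinj' hB'
  have hbij := bijective_of_injective (hX.trans hΩ.symm) φ hinj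
  -- the image of H' in Perm (G/H)
  obtain ⟨K, hKdef⟩ : ∃ K, K = H'.map φ := ⟨_, rfl⟩
  have hKindex : K.index = Fintype.card (Perm Ω ⧸ H) := by
    rw [hKdef, Subgroup.index_map_of_bijective hbij, hH', hX]
  have hcount : Nat.card {s : Perm (Perm Ω ⧸ H) // s.IsSwap ∧ s ∉ K} + 1 ≤
      Fintype.card (Perm Ω ⧸ H) := by
    choose! pre hpre1 hpre2 using hC2
    have hnot : ∀ s : Perm (Perm Ω ⧸ H), s.IsSwap → s ∉ K → pre s ∉ H' := by
      intro s hs hsK hmem
      apply hsK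
      rw [hKdef]
      exact ⟨pre s, hmem, hpre2 s hs⟩
    have hne : ∀ τ : Perm Ω, τ ∉ H' → (QuotientGroup.mk τ : Perm Ω ⧸ H') ≠ QuotientGroup.mk 1 :=
      fun τ hτ h => hτ ((mk_eq_mk_one_iff H' τ).mp h)
    have hinj2 : Function.Injective (fun s : {s : Perm (Perm Ω ⧸ H) // s.IsSwap ∧ s ∉ K} =>
        (⟨QuotientGroup.mk (pre s.1), hne _ (hnot s.1 s.2.1 s.2.2)⟩ :
          {y : Perm Ω ⧸ H' // y ≠ QuotientGroup.mk 1})) := by
      rintro ⟨s, hs1, hs2⟩ ⟨t, ht1, ht2⟩ h
      simp only [Subtype.mk.injEq] at h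
      apply Subtype.ext
      show s = t
      have hs3 := hC1' (pre s) (hpre1 s hs1)
      have ht3 := hC1' (pre t) (hpre1 t ht1)
      have e1 := isSwap_eq hs3 (x := QuotientGroup.mk 1)
        (by rw [hφ'def, toPermHom_mk_one]; exact hne _ (hnot s hs1 hs2))
      have e2 := isSwap_eq ht3 (x := QuotientGroup.mk 1)
        (by rw [hφ'def, toPermHom_mk_one]; exact hne _ (hnot t ht1 ht2))
      have e3 : φ' (pre s) = φ' (pre t) := by
        rw [e1, e2]
        rw [hφ'def, toPermHom_mk_one, toPermHom_mk_one, h]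
      have e4 := hinj' e3
      rw [← hpre2 s hs1, ← hpre2 t ht1, e4]
    have h1 := Nat.card_le_card_of_injective _ hinj2
    have h3 : Nat.card {y : Perm Ω ⧸ H' // y ≠ QuotientGroup.mk 1} <
        Fintype.card (Perm Ω ⧸ H') := by
      rw [Nat.card_eq_fintype_card]
      exact Fintype.card_subtype_lt (x := QuotientGroup.mk 1) (by simp)
    omega
  obtain ⟨y, hy⟩ := stab_of_count (by omega) K hKindex hcount
  obtain ⟨g, rfl⟩ := QuotientGroup.mk_surjective y
  refine ⟨g, ?_⟩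
  ext h
  rw [Subgroup.mem_map]
  have hiff : h ∈ H' ↔ g⁻¹ * h * g ∈ H := by
    have h1 : h ∈ H' ↔ φ h ∈ K := by
      rw [hKdef]
      exact (Subgroup.mem_map_iff_mem hinj).symm
    rw [h1, hy, MulAction.mem_stabilizer_iff, Perm.smul_def, hφdef, toPermHom_mk, QuotientGroup.eq]
    have : (h * g)⁻¹ * g = (g⁻¹ * h * g)⁻¹ := by group
    rw [this, inv_mem_iff]
  rw [hiff]
  constructor
  · rintro ⟨k, hk, rfl⟩
    simp only [MulEquiv.coe_toMonoidHom, MulAut.conj_apply]
    have : g⁻¹ * (g * k * g⁻¹) * g = k := by group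
    rw [this]
    exact hk
  · intro hk
    refine ⟨g⁻¹ * h * g, hk, ?_⟩
    simp only [MulEquiv.coe_toMonoidHom, MulAut.conj_apply]
    group

end main


section exotic

theorem card_sylow_five : Nat.card (Sylow 5 (Perm (Fin 5))) = 6 := by
  have : Fact (Nat.Prime 5) := ⟨by norm_num⟩
  obtain ⟨P⟩ : Nonempty (Sylow 5 (Perm (Fin 5))) := inferInstance
  have hG : Nat.card (Perm (Fin 5)) = 120 := by
    rw [Nat.card_eq_fintype_card, Fintype.card_perm, Fintype.card_fin]
    decide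
  have h1 : Nat.card (Sylow 5 (Perm (Fin 5))) ≡ 1 [MOD 5] := card_sylow_modEq_one 5 _
  have h2 : Nat.card (Sylow 5 (Perm (Fin 5))) ∣ (P : Subgroup (Perm (Fin 5))).index :=
    Sylow.card_dvd_index P
  have h3 : ¬ 5 ∣ (P : Subgroup (Perm (Fin 5))).index := Sylow.not_dvd_index P
  have h4 : (P : Subgroup (Perm (Fin 5))).index ∣ 120 := by
    rw [← hG]
    exact Subgroup.index_dvd_card _
  have h5 : (P : Subgroup (Perm (Fin 5))).index ∣ 24 := by
    have hc : Nat.Coprime (P : Subgroup (Perm (Fin 5))).index 5 :=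
      (Nat.Coprime.symm ((Nat.Prime.coprime_iff_not_dvd (by norm_num)).mpr h3))
    exact hc.dvd_of_dvd_mul_right (by norm_num at h4 ⊢; exact h4)
  have h6 : Nat.card (Sylow 5 (Perm (Fin 5))) ∣ 24 := h2.trans h5
  have h7 : Nat.card (Sylow 5 (Perm (Fin 5))) ≠ 1 := by
    intro hone
    have hsub : Subsingleton (Sylow 5 (Perm (Fin 5))) := by
      have : Finite (Sylow 5 (Perm (Fin 5))) := inferInstance
      exact (Nat.card_eq_one_iff_unique.mp hone).1
    have hn : (P : Subgroup (Perm (Fin 5))).Normal := Sylow.normal_of_subsingleton P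
    have hne : (P : Subgroup (Perm (Fin 5))) ≠ ⊥ := P.ne_bot_of_dvd_card (by rw [hG]; norm_num)
    have hnt : Nontrivial (P : Subgroup (Perm (Fin 5))) := (Subgroup.nontrivial_iff_ne_bot _).mpr hne
    have hA := Equiv.Perm.alternatingGroup_le_of_normal (α := Fin 5) (by simp) hnt
    have hd := Subgroup.card_dvd_of_le hA
    have hA60 : Nat.card (alternatingGroup (Fin 5)) = 60 := by
      have := two_mul_nat_card_alternatingGroup (α := Fin 5)
      rw [hG] at this
      omega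
    obtain ⟨k, hk⟩ := IsPGroup.iff_card.mp P.2
    rw [hA60, hk] at hd
    have h2 : 2 ∣ 5 ^ k := (by norm_num : 2 ∣ 60).trans hd
    have := (Nat.Prime.dvd_of_dvd_pow Nat.prime_two h2)
    omega
  have hle : Nat.card (Sylow 5 (Perm (Fin 5))) ≤ 24 := Nat.le_of_dvd (by norm_num) h6
  have key : ∀ n : Fin 25, (n : ℕ) ∣ 24 → (n : ℕ) % 5 = 1 % 5 → (n : ℕ) ≠ 1 → (n : ℕ) = 6 := by decide
  exact key ⟨Nat.card (Sylow 5 (Perm (Fin 5))), by omega⟩ h6 h1 h7

theorem exotic : ∃ (S : Type) (_ : Fintype S) (_ : DecidableEq S) (K : Subgroup (Perm S)),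
    Fintype.card S = 6 ∧ K.index = 6 ∧ ∀ s : S, ∃ k ∈ K, k s ≠ s := by
  classical
  have : Fact (Nat.Prime 5) := ⟨by norm_num⟩
  have hfin : Finite (Sylow 5 (Perm (Fin 5))) := inferInstance
  have hft : Fintype (Sylow 5 (Perm (Fin 5))) := Fintype.ofFinite _
  have hS : Fintype.card (Sylow 5 (Perm (Fin 5))) = 6 := by
    rw [← Nat.card_eq_fintype_card]
    exact card_sylow_five
  have hG : Nat.card (Perm (Fin 5)) = 120 := by
    rw [Nat.card_eq_fintype_card, Fintype.card_perm, Fintype.card_fin]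
    decide
  obtain ⟨ρ, hρ⟩ : ∃ ρ, ρ = MulAction.toPermHom (Perm (Fin 5)) (Sylow 5 (Perm (Fin 5))) := ⟨_, rfl⟩
  have hinj : Function.Injective ρ := by
    rw [← MonoidHom.ker_eq_bot_iff]
    by_contra hne
    have hnt : Nontrivial ρ.ker := (Subgroup.nontrivial_iff_ne_bot _).mpr hne
    have hA := Equiv.Perm.alternatingGroup_le_of_normal (α := Fin 5) (by simp) hnt
    obtain ⟨P⟩ : Nonempty (Sylow 5 (Perm (Fin 5))) := inferInstance
    have hker : ρ.ker ≤ MulAction.stabilizer (Perm (Fin 5)) P := by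
      intro g hg
      rw [MonoidHom.mem_ker] at hg
      rw [MulAction.mem_stabilizer_iff]
      have : ρ g P = P := by rw [hg]; rfl
      rw [hρ] at this
      exact this
    have h1 := Subgroup.index_dvd_of_le (hA.trans hker)
    rw [MulAction.index_stabilizer_of_transitive, card_sylow_five, alternatingGroup.index_eq_two] at h1
    have := Nat.le_of_dvd (by norm_num) h1
    omega
  refine ⟨Sylow 5 (Perm (Fin 5)), hft, inferInstance, ρ.range, hS, ?_, ?_⟩
  · have h1 : Nat.card ρ.range = 120 := by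
      rw [← hG]
      exact (Nat.card_congr (MonoidHom.ofInjective hinj).toEquiv).symm
    have h2 := Subgroup.index_mul_card ρ.range
    rw [h1, Nat.card_eq_fintype_card (α := Perm (Sylow 5 (Perm (Fin 5)))), Fintype.card_perm, hS] at h2
    have : Nat.factorial 6 = 720 := by decide
    omega
  · intro s
    have hnt : Nontrivial (Sylow 5 (Perm (Fin 5))) := Fintype.one_lt_card_iff_nontrivial.mp (by omega)
    obtain ⟨s', hs'⟩ := exists_ne s
    obtain ⟨g, hg⟩ := MulAction.exists_smul_eq (Perm (Fin 5)) s s'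
    refine ⟨ρ g, ⟨g, rfl⟩, ?_⟩
    rw [hρ]
    show g • s ≠ s
    rw [hg]
    exact hs'

end exotic


theorem result {Ω : Type*} [Fintype Ω] [DecidableEq Ω] (h6 : Fintype.card Ω = 6) :
    ∃ H₁ H₂ : Subgroup (Equiv.Perm Ω), H₁.index = 6 ∧ H₂.index = 6 ∧
      (¬ ∃ g : Equiv.Perm Ω, Subgroup.map (MulAut.conj g).toMonoidHom H₁ = H₂) ∧
      ∀ H : Subgroup (Equiv.Perm Ω), H.index = 6 →
        ∃ g : Equiv.Perm Ω, Subgroup.map (MulAut.conj g).toMonoidHom H₁ = H ∨ Subgroup.map (MulAut.conj g).toMonoidHom H₂ = H := by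
  classical
  have hne : Nonempty Ω := Fintype.card_pos_iff.mp (by omega)
  obtain ⟨x₁⟩ := hne
  obtain ⟨S, hSf, hSd, K, hS6, hK6, hKfix⟩ := exotic
  have e : Ω ≃ S := Fintype.equivOfCardEq (h6.trans hS6.symm)
  obtain ⟨H₂, hH₂def⟩ : ∃ H₂ : Subgroup (Perm Ω),
      H₂ = K.map (e.symm.permCongrHom : Perm S ≃* Perm Ω).toMonoidHom := ⟨_, rfl⟩
  have hH₂ : H₂.index = 6 := by
    rw [hH₂def]
    exact (Subgroup.index_map_equiv K e.symm.permCongrHom).trans hK6
  have hH₂fix : ∀ x : Ω, ∃ h ∈ H₂, h x ≠ x := by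
    intro x
    obtain ⟨k, hk, hkx⟩ := hKfix (e x)
    refine ⟨e.symm.permCongr k, ?_, ?_⟩
    · rw [hH₂def]
      exact ⟨k, hk, rfl⟩
    · rw [Equiv.permCongr_apply]
      intro h
      apply hkx
      have := congrArg e h
      simpa using this
  have hH₁ : (MulAction.stabilizer (Perm Ω) x₁).index = 6 := by
    rw [MulAction.index_stabilizer_of_transitive, Nat.card_eq_fintype_card, h6]
  refine ⟨MulAction.stabilizer (Perm Ω) x₁, H₂, hH₁, hH₂, ?_, ?_⟩
  · rintro ⟨g, hg⟩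
    obtain ⟨h, hh, hhx⟩ := hH₂fix (g x₁)
    rw [← hg] at hh
    obtain ⟨k, hk, rfl⟩ := hh
    apply hhx
    have hk' : k x₁ = x₁ := by
      have : k ∈ MulAction.stabilizer (Perm Ω) x₁ := hk
      rw [MulAction.mem_stabilizer_iff, Perm.smul_def] at this
      exact this
    simp only [MulEquiv.coe_toMonoidHom, MulAut.conj_apply, Perm.mul_apply, Perm.inv_def,
      Equiv.symm_apply_apply, hk']
  · intro H hH
    have hft : Fintype (Perm Ω ⧸ H) := Fintype.ofFinite _
    have hinj : Function.Injective (MulAction.toPermHom (Perm Ω) (Perm Ω ⧸ H)) := by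
      rw [← MonoidHom.ker_eq_bot_iff, ← Subgroup.normalCore_eq_ker]
      exact core_eq_bot (by omega) H (hH.trans h6.symm)
    have hX : Fintype.card (Perm Ω ⧸ H) = 6 := by
      rw [← Nat.card_eq_fintype_card]
      exact hH
    rcases dichotomy h6 hX _ hinj with hA | hB
    · obtain ⟨x, hx⟩ := typeA_stab (by omega) H (hH.trans h6.symm) hinj hA
      obtain ⟨g, hg⟩ := MulAction.exists_smul_eq (Perm Ω) x₁ x
      refine ⟨g, Or.inl ?_⟩
      rw [hx, ← hg, MulAction.stabilizer_smul_eq_stabilizer_map_conj]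
    · have hft₂ : Fintype (Perm Ω ⧸ H₂) := Fintype.ofFinite _
      have hinj₂ : Function.Injective (MulAction.toPermHom (Perm Ω) (Perm Ω ⧸ H₂)) := by
        rw [← MonoidHom.ker_eq_bot_iff, ← Subgroup.normalCore_eq_ker]
        exact core_eq_bot (by omega) H₂ (hH₂.trans h6.symm)
      have hX₂ : Fintype.card (Perm Ω ⧸ H₂) = 6 := by
        rw [← Nat.card_eq_fintype_card]
        exact hH₂
      rcases dichotomy h6 hX₂ _ hinj₂ with hA₂ | hB₂
      · exfalso
        obtain ⟨x, hx⟩ := typeA_stab (by omega) H₂ (hH₂.trans h6.symm) hinj₂ hA₂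
        obtain ⟨h, hh, hhx⟩ := hH₂fix x
        rw [hx, MulAction.mem_stabilizer_iff, Perm.smul_def] at hh
        exact hhx hh
      · obtain ⟨g, hg⟩ := typeB_conj h6 H₂ H hH₂ hH hinj₂ hinj hB₂ hB
        exact ⟨g, Or.inr hg⟩

end Cfsg.Agent.S5912
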