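import Cfsg.Statements.S5913

set_option autoImplicit false
open Cfsg

namespace Cfsg.Agent.S5913

/-- In a nonabelian simple group every nontrivial element fails to commute with something. -/
theorem exists_not_commute {S : Type*} [Group S] [IsSimpleGroup S] (hS : ¬ IsMulCommutative S)
    (a : S) (ha : a ≠ 1) : ∃ s : S, a * s * a⁻¹ * s⁻¹ ≠ 1 := by
  by_contra hcon
  simp only [not_exists, not_not] at hcon
  have hac : a ∈ Subgroup.center S := by
    rw [Subgroup.mem_center_iff]
    intro s
    have := hcon s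
    have h2 : a * s = s * a := by
      calc a * s = (a * s * a⁻¹ * s⁻¹) * (s * a) := by group
        _ = s * a := by rw [this, one_mul]
    exact h2.symm
  rcases (Subgroup.center S).normal_of_characteristic.eq_bot_or_eq_top with h | h
  · rw [h, Subgroup.mem_bot] at hac
    exact ha hac
  · apply hS
    refine ⟨⟨fun x y => ?_⟩⟩
    have hx : x ∈ Subgroup.center S := h ▸ Subgroup.mem_top x
    exact ((Subgroup.mem_center_iff.mp hx) y).symm

theorem mulSingle_mem {S : Type*} [Group S] [IsSimpleGroup S] (hS : ¬ IsMulCommutative S) (n : ℕ)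
    (N : Subgroup (Fin n → S)) [hN : N.Normal] (i : Fin n) (x : Fin n → S) (hx : x ∈ N) (hxi : x i ≠ 1)
    (s : S) : Pi.mulSingle i s ∈ N := by
  obtain ⟨t, ht⟩ := exists_not_commute hS (x i) hxi
  set y : Fin n → S := Pi.mulSingle i t with hy
  have hc : x * y * x⁻¹ * y⁻¹ ∈ N := by
    have h1 : y * x⁻¹ * y⁻¹ ∈ N := hN.conj_mem _ (N.inv_mem hx) y
    have h2 : x * (y * x⁻¹ * y⁻¹) ∈ N := N.mul_mem hx h1
    simpa [mul_assoc] using h2
  have hceq : x * y * x⁻¹ * y⁻¹ = Pi.mulSingle i (x i * t * (x i)⁻¹ * t⁻¹) := by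
    funext j
    by_cases hj : j = i
    · subst hj
      simp [hy]
    · simp [hy, Pi.mulSingle_eq_of_ne hj]
  rw [hceq] at hc
  set Ni : Subgroup S := N.comap (MonoidHom.mulSingle (fun _ : Fin n => S) i) with hNi
  have hNin : Ni.Normal := hN.comap _
  have hmem : x i * t * (x i)⁻¹ * t⁻¹ ∈ Ni := hc
  rcases hNin.eq_bot_or_eq_top with h | h
  · rw [h, Subgroup.mem_bot] at hmem
    exact absurd hmem ht
  · have : s ∈ Ni := h ▸ Subgroup.mem_top s
    exact this

theorem result {S : Type*} [Group S] [IsSimpleGroup S] (hS : ¬ IsMulCommutative S) (n : ℕ)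
    (N : Subgroup (Fin n → S)) [N.Normal] :
    ∃ T : Finset (Fin n), ∀ x : Fin n → S, x ∈ N ↔ ∀ i, i ∉ T → x i = 1 := by
  classical
  refine ⟨Finset.univ.filter (fun i => ∃ x ∈ N, x i ≠ 1), fun x => ⟨fun hx i hi => ?_, fun hx => ?_⟩⟩
  · by_contra hne
    apply hi
    simp only [Finset.mem_filter, Finset.mem_univ, true_and]
    exact ⟨x, hx, hne⟩
  · rw [← Finset.noncommProd_mulSingle x]
    apply Subgroup.noncommProd_mem
    intro i _
    by_cases hi : x i = 1
    · rw [hi, Pi.mulSingle_one]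
      exact N.one_mem
    · have hiT : i ∈ Finset.univ.filter (fun i => ∃ x ∈ N, x i ≠ 1) := by
        by_contra h
        exact hi (hx i h)
      simp only [Finset.mem_filter, Finset.mem_univ, true_and] at hiT
      obtain ⟨z, hz, hzi⟩ := hiT
      exact mulSingle_mem hS n N i z hz hzi (x i)

end Cfsg.Agent.S5913
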