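import Cfsg.Statements.S5914
import Cfsg.Agent.S5913

set_option autoImplicit false
open Cfsg

namespace Cfsg.Agent.S5914


/-- Transport of characteristic simplicity along an isomorphism. -/
theorem charSimple_of_equiv {G P : Type*} [Group G] [Group P] (ψ : G ≃* P)
    (hP : ∀ H : Subgroup P, H.Characteristic → H = ⊥ ∨ H = ⊤) :
    ∀ H : Subgroup G, H.Characteristic → H = ⊥ ∨ H = ⊤ := by
  intro H hH
  have hH' : (H.map ψ.toMonoidHom).Characteristic := by
    rw [Subgroup.characteristic_iff_map_le]
    intro φ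
    rw [Subgroup.map_map]
    have h1 := (Subgroup.characteristic_iff_map_eq.mp hH) ((ψ.trans φ).trans ψ.symm)
    intro y hy
    obtain ⟨x, hx, rfl⟩ := hy
    have h2 : ((ψ.trans φ).trans ψ.symm) x ∈ H := by
      rw [← h1]
      exact Subgroup.mem_map_of_mem _ hx
    refine ⟨((ψ.trans φ).trans ψ.symm) x, h2, ?_⟩
    simp
  rcases hP _ hH' with h | h
  · left
    rw [eq_bot_iff]
    intro x hx
    have : ψ x ∈ H.map ψ.toMonoidHom := Subgroup.mem_map_of_mem _ hx
    rw [h, Subgroup.mem_bot] at this
    rw [Subgroup.mem_bot]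
    exact ψ.injective (this.trans (map_one ψ).symm)
  · right
    rw [eq_top_iff]
    intro x _
    have : ψ x ∈ H.map ψ.toMonoidHom := h ▸ Subgroup.mem_top _
    obtain ⟨y, hy, hyx⟩ := this
    have := ψ.injective hyx
    rwa [← this]



/-- the coordinate swap automorphism -/
def swapAut {S : Type*} [Group S] {n : ℕ} (i j : Fin n) : (Fin n → S) ≃* (Fin n → S) :=
  MulEquiv.arrowCongr (Equiv.swap i j) (MulEquiv.refl S)

theorem swapAut_mulSingle {S : Type*} [Group S] {n : ℕ} (i j : Fin n) (s : S) :
    swapAut i j (Pi.mulSingle i s) = Pi.mulSingle j s := by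
  funext t
  simp only [swapAut, MulEquiv.arrowCongr_apply, MulEquiv.refl_apply, Equiv.symm_swap]
  by_cases ht : t = j
  · subst ht
    simp
  · rw [Pi.mulSingle_eq_of_ne ht, Pi.mulSingle_eq_of_ne]
    intro h
    apply ht
    have := congrArg (Equiv.swap i j) h
    rw [Equiv.swap_apply_self, Equiv.swap_apply_left] at this
    exact this

/-- The shear automorphism in the commutative case. -/
def shear {S : Type*} [Group S] (hcomm : ∀ a b : S, a * b = b * a) {n : ℕ} (i : Fin n) (m : Fin n → ℤ) :
    (Fin n → S) ≃* (Fin n → S) where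
  toFun y := fun j => if j = i then y i else y j * ((y i) ^ (m j))⁻¹
  invFun y := fun j => if j = i then y i else y j * (y i) ^ (m j)
  left_inv y := by
    funext j
    by_cases hj : j = i
    · subst hj; simp
    · simp [hj]
  right_inv y := by
    funext j
    by_cases hj : j = i
    · subst hj; simp
    · simp [hj]
  map_mul' y z := by
    funext j
    by_cases hj : j = i
    · subst hj; simp
    · simp only [hj, if_false, Pi.mul_apply]
      rw [(show Commute (y i) (z i) from hcomm _ _).mul_zpow, mul_inv_rev]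
      calc y j * z j * ((z i ^ m j)⁻¹ * (y i ^ m j)⁻¹)
          = y j * (z j * (z i ^ m j)⁻¹ * (y i ^ m j)⁻¹) := by simp only [mul_assoc]
        _ = y j * ((y i ^ m j)⁻¹ * (z j * (z i ^ m j)⁻¹)) := by
            rw [hcomm (z j * (z i ^ m j)⁻¹) ((y i ^ m j)⁻¹)]
        _ = y j * (y i ^ m j)⁻¹ * (z j * (z i ^ m j)⁻¹) := by simp only [mul_assoc]

theorem exists_zpow_eq {S : Type*} [Group S] [IsSimpleGroup S] (hcomm : ∀ a b : S, a * b = b * a)
    (g : S) (hg : g ≠ 1) (s : S) : ∃ k : ℤ, g ^ k = s := by
  have hN : (Subgroup.zpowers g).Normal := by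
    refine ⟨fun x hx a => ?_⟩
    rw [hcomm a x, mul_inv_cancel_right]
    exact hx
  rcases hN.eq_bot_or_eq_top with h | h
  · exfalso
    apply hg
    have : g ∈ Subgroup.zpowers g := Subgroup.mem_zpowers g
    rw [h, Subgroup.mem_bot] at this
    exact this
  · have : s ∈ Subgroup.zpowers g := h ▸ Subgroup.mem_top s
    exact Subgroup.mem_zpowers_iff.mp this

theorem char_mem_iff {P : Type*} [Group P] (H : Subgroup P) (hH : H.Characteristic) (φ : P ≃* P) (y : P) :
    φ y ∈ H ↔ y ∈ H := by
  have h1 : y ∈ H.comap φ.toMonoidHom ↔ y ∈ H := by rw [hH.fixed φ]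
  exact h1

theorem char_simple_pi {S : Type*} [Group S] [IsSimpleGroup S] (n : ℕ)
    (H : Subgroup (Fin n → S)) (hH : H.Characteristic) : H = ⊥ ∨ H = ⊤ := by
  classical
  by_cases hb : H = ⊥
  · exact Or.inl hb
  right
  obtain ⟨x, hxH, hx1⟩ : ∃ x ∈ H, x ≠ 1 := by
    by_contra hcon
    simp only [not_exists, not_and, not_not] at hcon
    exact hb (eq_bot_iff.mpr fun x hx => Subgroup.mem_bot.mpr (hcon x hx))
  obtain ⟨i, hi⟩ : ∃ i, x i ≠ 1 := by
    by_contra hcon
    simp only [not_exists, not_not] at hcon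
    exact hx1 (funext hcon)
  have key : ∀ s : S, Pi.mulSingle i s ∈ H := by
    by_cases hc : IsMulCommutative S
    · have hcomm : ∀ a b : S, a * b = b * a := fun a b => hc.is_comm.comm a b
      choose m hm using fun j => exists_zpow_eq hcomm (x i) hi (x j)
      have h1 : shear hcomm i m x = Pi.mulSingle i (x i) := by
        funext j
        by_cases hj : j = i
        · subst hj; simp [shear]
        · simp [shear, hj, hm j]
      have h2 : Pi.mulSingle i (x i) ∈ H := by
        rw [← h1, char_mem_iff H hH]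
        exact hxH
      intro s
      obtain ⟨k, hk⟩ := exists_zpow_eq hcomm (x i) hi s
      have h3 : (Pi.mulSingle i (x i) : Fin n → S) ^ k = Pi.mulSingle i s := by
        rw [← hk]
        exact (map_zpow (MonoidHom.mulSingle (fun _ : Fin n => S) i) (x i) k).symm
      rw [← h3]
      exact H.zpow_mem h2 k
    · have : H.Normal := Subgroup.normal_of_characteristic H
      exact fun s => Cfsg.Agent.S5913.mulSingle_mem hc n H i x hxH hi s
  have key2 : ∀ (j : Fin n) (s : S), Pi.mulSingle j s ∈ H := by
    intro j s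
    rw [← swapAut_mulSingle i j s, char_mem_iff H hH]
    exact key s
  rw [eq_top_iff]
  intro y _
  rw [← Finset.noncommProd_mulSingle y]
  apply Subgroup.noncommProd_mem
  intro j _
  exact key2 j (y j)



/-- A copy of `Fin m` without algebraic structure. -/
structure Model (m : ℕ) : Type where
  /-- the value -/
  val : Fin m

/-- `Model m ≃ Fin m`. -/
def Model.equiv (m : ℕ) : Model m ≃ Fin m := ⟨Model.val, Model.mk, fun _ => rfl, fun _ => rfl⟩

/-- `(Fin k → N) × N ≃* (Fin (k+1) → N)`. -/
def consMulEquiv (N : Type*) [Group N] (k : ℕ) : (Fin k → N) × N ≃* (Fin (k + 1) → N) where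
  toFun p := Fin.cons p.2 p.1
  invFun f := (Fin.tail f, f 0)
  left_inv p := by simp
  right_inv f := by simp
  map_mul' p q := by
    funext j
    refine Fin.cases ?_ (fun j' => ?_) j
    · simp
    · simp

/-- Product of two disjoint normal subgroups. -/
noncomputable def supEquivProd {G : Type*} [Group G] (K N' : Subgroup G) (hK : K.Normal) (hN' : N'.Normal)
    (hd : Disjoint K N') : K × N' ≃* (K ⊔ N' : Subgroup G) := by
  have comm : ∀ (a : K) (b : N'), Commute (K.subtype a) (N'.subtype b) := fun a b =>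
    Subgroup.commute_of_normal_of_disjoint K N' hK hN' hd a b a.2 b.2
  have hinj : Function.Injective (MonoidHom.noncommCoprod K.subtype N'.subtype comm) := by
    rw [MonoidHom.noncommCoprod_injective]
    refine ⟨K.subtype_injective, N'.subtype_injective, ?_⟩
    rw [Subgroup.range_subtype, Subgroup.range_subtype]
    exact hd
  have hrange : (MonoidHom.noncommCoprod K.subtype N'.subtype comm).range = K ⊔ N' := by
    rw [MonoidHom.noncommCoprod_range, Subgroup.range_subtype, Subgroup.range_subtype]
  exact (MonoidHom.ofInjective hinj).trans (MulEquiv.subgroupCongr hrange)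

theorem forward {G : Type*} [Group G] [Finite G] [Nontrivial G]
    (hchar : ∀ H : Subgroup G, H.Characteristic → H = ⊥ ∨ H = ⊤) :
    ∃ (S : Type) (_ : Group S) (_ : IsSimpleGroup S) (n : ℕ), 1 ≤ n ∧ Nonempty (G ≃* (Fin n → S)) := by
  classical
  -- Step 1: a nontrivial normal subgroup of minimal cardinality
  obtain ⟨N, ⟨hNn, hNb⟩, hNmin⟩ := Set.exists_min_image {N : Subgroup G | N.Normal ∧ N ≠ ⊥}
    (fun N => Nat.card N) (Set.toFinite _) ⟨⊤, inferInstance, top_ne_bot⟩
  -- Step 2: a maximal direct power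
  obtain ⟨K, ⟨hKn, k, ⟨eK⟩⟩, hKmax⟩ := Set.exists_max_image
    {K : Subgroup G | K.Normal ∧ ∃ k : ℕ, Nonempty (K ≃* (Fin k → N))}
    (fun K => Nat.card K) (Set.toFinite _)
    ⟨⊥, inferInstance, 0, ⟨MulEquiv.ofUnique⟩⟩
  -- Step 3: all automorphic images of N lie in K
  have hall : ∀ φ : G ≃* G, N.map φ.toMonoidHom ≤ K := by
    intro φ
    by_contra hle
    set N' := N.map φ.toMonoidHom with hN'
    have hN'n : N'.Normal := hNn.map φ.toMonoidHom φ.surjective
    have hcardN' : Nat.card N' = Nat.card N := Nat.card_congr (φ.subgroupMap N).symm.toEquiv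
    have hI : N' ⊓ K = ⊥ := by
      by_contra hI
      have hIn : (N' ⊓ K).Normal := inferInstance
      have h1 := hNmin (N' ⊓ K) ⟨hIn, hI⟩
      have h2 : N' ⊓ K = N' := by
        apply Subgroup.eq_of_le_of_card_ge inf_le_left
        rw [hcardN']
        exact h1
      exact hle (h2 ▸ inf_le_right)
    have hd : Disjoint K N' := by
      rw [disjoint_iff, inf_comm]
      exact hI
    have e1 : K × N' ≃* (K ⊔ N' : Subgroup G) := supEquivProd K N' hKn hN'n hd
    have e2 : K × N' ≃* (Fin k → N) × N := MulEquiv.prodCongr eK (φ.subgroupMap N).symm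
    have e3 : (K ⊔ N' : Subgroup G) ≃* (Fin (k + 1) → N) := (e1.symm.trans e2).trans (consMulEquiv N k)
    have h3 := hKmax (K ⊔ N') ⟨inferInstance, k + 1, ⟨e3⟩⟩
    have h4 : K = K ⊔ N' := Subgroup.eq_of_le_of_card_ge le_sup_left h3
    exact hle (h4 ▸ le_sup_right)
  -- Step 4: K = ⊤
  have hKtop : K = ⊤ := by
    set C : Subgroup G := ⨆ φ : G ≃* G, N.map φ.toMonoidHom with hC
    have hCK : C ≤ K := iSup_le hall
    have hCchar : C.Characteristic := by
      rw [Subgroup.characteristic_iff_map_le]
      intro ψ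
      rw [hC, Subgroup.map_iSup]
      apply iSup_le
      intro φ
      rw [Subgroup.map_map]
      exact le_iSup (fun φ : G ≃* G => N.map φ.toMonoidHom) (φ.trans ψ)
    have hNC : N ≤ C := by
      have h0 : N.map (MulEquiv.refl G).toMonoidHom = N := by
        ext y
        simp
      calc N = N.map (MulEquiv.refl G).toMonoidHom := h0.symm
        _ ≤ C := le_iSup (fun φ : G ≃* G => N.map φ.toMonoidHom) (MulEquiv.refl G)
    rcases hchar C hCchar with h | h
    · exact absurd (le_bot_iff.mp (h ▸ hNC)) hNb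
    · exact top_le_iff.mp (h ▸ hCK)
  -- Step 5: the isomorphism
  have ψ : G ≃* (Fin k → N) := (Subgroup.topEquiv.symm.trans (MulEquiv.subgroupCongr hKtop.symm)).trans eK
  have hk : 1 ≤ k := by
    rcases Nat.eq_zero_or_pos k with h | h
    · exfalso
      subst h
      have : Subsingleton G := ψ.toEquiv.subsingleton
      exact not_subsingleton G this
    · exact h
  -- Step 6: N is simple
  have hNnt : Nontrivial N := (Subgroup.nontrivial_iff_ne_bot N).mpr hNb
  have hNsimple : IsSimpleGroup N := by
    refine ⟨fun A hA => ?_⟩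
    by_contra hcon
    simp only [not_or] at hcon
    obtain ⟨hAb, hAt⟩ := hcon
    set i0 : Fin k := ⟨0, hk⟩ with hi0
    set A1 : Subgroup (Fin k → N) := A.map (MonoidHom.mulSingle (fun _ : Fin k => N) i0) with hA1
    have hA1n : A1.Normal := by
      refine ⟨fun y hy x => ?_⟩
      obtain ⟨a, ha, rfl⟩ := hy
      refine ⟨x i0 * a * (x i0)⁻¹, hA.conj_mem a ha (x i0), ?_⟩
      funext j
      by_cases hj : j = i0
      · subst hj
        simp
      · simp [Pi.mulSingle_eq_of_ne hj]
    have hA1card : Nat.card A1 = Nat.card A :=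
      Subgroup.card_map_of_injective (fun a b h => by
        have := congrFun h i0
        simpa using this)
    set A2 : Subgroup G := A1.map ψ.symm.toMonoidHom with hA2
    have hA2n : A2.Normal := hA1n.map ψ.symm.toMonoidHom ψ.symm.surjective
    have hA2card : Nat.card A2 = Nat.card A := by
      rw [← hA1card]
      exact Subgroup.card_map_of_injective ψ.symm.injective
    have hA2b : A2 ≠ ⊥ := by
      rw [Ne, Subgroup.eq_bot_iff_card, hA2card, ← Subgroup.eq_bot_iff_card]
      exact hAb
    have h1 := hNmin A2 ⟨hA2n, hA2b⟩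
    rw [hA2card] at h1
    have h2 : Nat.card A ≤ Nat.card N := Subgroup.card_le_card_group A
    exact hAt (Subgroup.eq_top_of_card_eq A (le_antisymm h2 h1))
  -- Step 7: universe-0 model
  let e : Model (Nat.card N) ≃ N := (Model.equiv (Nat.card N)).trans (Finite.equivFin N).symm
  letI : Group (Model (Nat.card N)) := e.group
  let eM : Model (Nat.card N) ≃* N := e.mulEquiv
  have : IsSimpleGroup (Model (Nat.card N)) := eM.isSimpleGroup
  exact ⟨Model (Nat.card N), inferInstance, inferInstance, k, hk,
    ⟨ψ.trans (MulEquiv.piCongrRight (fun _ => eM.symm))⟩⟩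


theorem result {G : Type*} [Group G] [Finite G] [Nontrivial G] :
    (∀ H : Subgroup G, H.Characteristic → H = ⊥ ∨ H = ⊤) ↔
    ∃ (S : Type) (_ : Group S) (_ : IsSimpleGroup S) (n : ℕ), 1 ≤ n ∧ Nonempty (G ≃* (Fin n → S)) := by
  constructor
  · exact forward
  · rintro ⟨S, _, _, n, _, ⟨ψ⟩⟩
    exact charSimple_of_equiv ψ (fun H hH => char_simple_pi n H hH)

end Cfsg.Agent.S5914
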