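import Cfsg.Statements.S5938
import Cfsg.Agent.S0799
import Cfsg.Agent.S0803
import Cfsg.Agent.Lib.Helper41.DicksonMax1
import Cfsg.Agent.Lib.Helper41.DicksonUse3

set_option autoImplicit false
open Cfsg

namespace Cfsg.Agent.S5938

open Cfsg.Agent.Helper41

/-- Let p be a prime with p ≡ ±1 (mod 8) and F a field with p elements. Then PSL_2(F) has a maximal subgroup isomorphic to the symmetric group S_4. -/
theorem result {F : Type*} [Field F] [Fintype F] (p : ℕ) [Fact p.Prime] (hF : Fintype.card F = p) (hp : p % 8 = 1 ∨ p % 8 = 7) : ∃ H : Subgroup (Matrix.ProjectiveSpecialLinearGroup (Fin 2) F), IsCoatom H ∧ Nonempty (H ≃* Equiv.Perm (Fin 4)) := by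
  classical
  have hpp : p.Prime := Fact.out
  obtain ⟨ch, hchar⟩ := CharP.exists F
  have hch : ch.Prime := CharP.char_is_prime F ch
  have hchp : ch = p := by
    obtain ⟨n, -, hn⟩ := FiniteField.card F ch
    rw [hF] at hn
    have : ch ∣ p := by rw [hn]; exact dvd_pow_self ch n.ne_zero
    exact (Nat.prime_dvd_prime_iff_eq hch hpp).mp this
  rw [hchp] at hchar
  have hp7 : 7 ≤ p := by
    have := hpp.one_lt
    omega
  have hodd : Odd p := by rw [Nat.odd_iff]; omega
  have hsq : p ^ 2 % 16 = 1 := by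
    have h16 : p % 16 = 1 ∨ p % 16 = 7 ∨ p % 16 = 9 ∨ p % 16 = 15 := by omega
    rw [Nat.pow_mod]
    rcases h16 with h | h | h | h <;> rw [h]
  obtain ⟨H0, ⟨e0⟩⟩ := (Cfsg.Agent.S0803.result hF).mpr hsq
  have hcard0 : Nat.card H0 = 24 := by rw [Nat.card_congr e0.toEquiv, card_perm_four]
  have hG := Cfsg.Agent.Helper98.PSL2Card.card_psl2_odd hF hodd
  have hbig : 336 ≤ (p ^ 2 - 1) * p := by
    have h1 : 7 ^ 2 ≤ p ^ 2 := Nat.pow_le_pow_left hp7 2
    calc 336 = (7 ^ 2 - 1) * 7 := by norm_num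
      _ ≤ (p ^ 2 - 1) * p := Nat.mul_le_mul (by omega) hp7
  refine ⟨H0, ⟨?_, ?_⟩, ⟨e0⟩⟩
  · intro htop
    rw [htop, Subgroup.card_top] at hcard0
    omega
  · intro M hM
    by_contra hMtop
    have hle : H0 ≤ M := hM.le
    have hD := Cfsg.Agent.S0799.result hF p M
    have hnotmetab : ¬ IsMetab M := fun h =>
      not_isMetab_perm4 (IsMetab.of_mulEquiv e0.symm
        (IsMetab.of_injective (Subgroup.inclusion hle) (Subgroup.inclusion_injective hle) h))
    have hdvd : 24 ∣ Nat.card M := by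
      rw [← hcard0]; exact Subgroup.card_dvd_of_le hle
    rcases hD with ⟨k, hk, hHk⟩ | ⟨P, K, hK, ⟨e⟩⟩ | ⟨⟨e⟩⟩ | ⟨⟨e⟩⟩ | ⟨⟨e⟩⟩ | ⟨K, _, _, m, hKm, hHK⟩
    · rcases hHk with ⟨hc, -⟩ | ⟨⟨e⟩⟩
      · have := hc
        exact hnotmetab isMetab_of_isCyclic
      · exact hnotmetab (IsMetab.of_mulEquiv e (isMetab_dihedral k))
    · exact hnotmetab (IsMetab.of_mulEquiv e
        (IsMetab.of_injective (Subgroup.inclusion hK) (Subgroup.inclusion_injective hK)
          (isMetab_normalizer_sylow p P)))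
    · rw [Nat.card_congr e.toEquiv, card_alternatingGroup_four] at hdvd
      omega
    · have h24 : Nat.card M = 24 := by rw [Nat.card_congr e.toEquiv, card_perm_four]
      have := Subgroup.eq_of_le_of_card_ge hle (by rw [h24, hcard0])
      exact hM.ne this
    · rw [Nat.card_congr e.toEquiv, card_alternatingGroup_five] at hdvd
      omega
    · have hk2 : 2 ≤ Fintype.card K := Fintype.one_lt_card
      have hm1 : Fintype.card K = p := by
        have hm0 : m ≠ 0 := by
          rintro rfl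
          rw [pow_zero] at hKm
          omega
        have hd : Fintype.card K ∣ p := by rw [← hKm]; exact dvd_pow_self _ hm0
        rcases (Nat.dvd_prime hpp).mp hd with h | h
        · omega
        · exact h
      have hpsl : Nat.card (Matrix.ProjectiveSpecialLinearGroup (Fin 2) K) =
          Nat.card (Matrix.ProjectiveSpecialLinearGroup (Fin 2) F) := by
        have h1 := Cfsg.Agent.Helper98.PSL2Card.card_psl2_odd hm1 hodd
        omega
      apply hMtop
      rw [← Subgroup.card_eq_iff_eq_top]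
      apply le_antisymm (Subgroup.card_le_card_group M)
      rcases hHK with ⟨⟨e⟩⟩ | ⟨⟨e⟩⟩
      · rw [Nat.card_congr e.toEquiv, hpsl]
      · rw [Nat.card_congr e.toEquiv, ← hpsl]; exact card_psl2_le_card_pgl2 K

end Cfsg.Agent.S5938
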