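import Cfsg.Statements.S5939
import Mathlib
import Cfsg.Agent.Lib.Helper42.PSL2Max

set_option autoImplicit false
open Cfsg
open Matrix Cfsg.Agent.Helper41 Cfsg.Agent.Helper42.PSL2Max

namespace Cfsg.Agent.S5939

/-- Let p be a prime and F a finite field of characteristic p such that either F has p elements and p ≡ ±1 (mod 10), or F has p² elements and p ≡ ±3 (mod 10). Then PSL_2(F) has a maximal subgroup isomorphic to the alternating group A_5. -/
theorem result {F : Type*} [Field F] [Fintype F] (p : ℕ) [Fact p.Prime] [CharP F p] (h : (Fintype.card F = p ∧ (p % 10 = 1 ∨ p % 10 = 9)) ∨ (Fintype.card F = p ^ 2 ∧ (p % 10 = 3 ∨ p % 10 = 7))) : ∃ H : Subgroup (Matrix.ProjectiveSpecialLinearGroup (Fin 2) F), IsCoatom H ∧ Nonempty (H ≃* alternatingGroup (Fin 5)) := by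
  classical
  have hp : p.Prime := Fact.out
  -- basic arithmetic on `q`
  have hq9 : 9 ≤ Fintype.card F ∧ Odd (Fintype.card F) ∧
      5 ∣ Fintype.card F * (Fintype.card F ^ 2 - 1) := by
    rcases h with ⟨hF, h10⟩ | ⟨hF, h10⟩
    · rw [hF]
      have hp2 := hp.two_le
      refine ⟨by omega, ?_, ?_⟩
      · rw [Nat.odd_iff]; omega
      · have h5 : p ^ 2 % 5 = 1 := by
          rw [Nat.pow_mod]
          have : p % 5 = 1 ∨ p % 5 = 4 := by omega
          rcases this with h | h <;> rw [h]
        exact Dvd.dvd.mul_left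
          (Nat.dvd_of_mod_eq_zero (Nat.sub_mod_eq_zero_of_mod_eq (by rw [h5]))) _
    · rw [hF]
      have hp2 := hp.two_le
      have hp3 : 3 ≤ p := by omega
      refine ⟨?_, ?_, ?_⟩
      · calc 9 = 3 ^ 2 := by norm_num
          _ ≤ p ^ 2 := Nat.pow_le_pow_left hp3 2
      · apply Odd.pow
        rw [Nat.odd_iff]; omega
      · have h5 : (p ^ 2) ^ 2 % 5 = 1 := by
          rw [← pow_mul, Nat.pow_mod]
          have : p % 5 = 3 ∨ p % 5 = 2 := by omega
          rcases this with h | h <;> rw [h]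
        exact Dvd.dvd.mul_left
          (Nat.dvd_of_mod_eq_zero (Nat.sub_mod_eq_zero_of_mod_eq (by rw [h5]))) _
  obtain ⟨hq9, hodd, h5⟩ := hq9
  obtain ⟨H, ⟨e⟩⟩ := (alt5_le_psl2_iff (F := F) rfl).mpr h5
  have hH60 : Nat.card H = 60 := by
    rw [Nat.card_congr e.toEquiv, card_alternatingGroup_five]
  have hG := Cfsg.Agent.Helper98.PSL2Card.card_psl2_odd (F := F) rfl hodd
  have hGbig : 60 < Nat.card (ProjectiveSpecialLinearGroup (Fin 2) F) := by
    have h1 : 81 ≤ Fintype.card F ^ 2 := by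
      calc 81 = 9 ^ 2 := by norm_num
        _ ≤ Fintype.card F ^ 2 := Nat.pow_le_pow_left hq9 2
    have h2 : 80 * 9 ≤ (Fintype.card F ^ 2 - 1) * Fintype.card F :=
      Nat.mul_le_mul (by omega) hq9
    omega
  refine ⟨H, ⟨?_, ?_⟩, ⟨e⟩⟩
  · intro hH
    rw [hH, Subgroup.card_top] at hH60
    omega
  · intro M hHM
    have hns := not_isSolvable_of_alt5_le hHM.le e
    have hD := Cfsg.Agent.S0799.result (F := F) rfl p M
    rcases hD with hab | hab | ⟨⟨e'⟩⟩ | ⟨⟨e'⟩⟩ | ⟨⟨e'⟩⟩ | ⟨K, _, _, m, hKm, hHK⟩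
    · exact absurd (isSolvable_of_dickson_ab p M (Or.inl hab)) hns
    · exact absurd (isSolvable_of_dickson_ab (q := Fintype.card F) p M (Or.inr hab)) hns
    · exact absurd (isSolvable_of_mulEquiv e' isSolvable_alt4) hns
    · exact absurd (isSolvable_of_mulEquiv e' isSolvable_perm4) hns
    · exfalso
      have hM60 : Nat.card M = 60 := by
        rw [Nat.card_congr e'.toEquiv, card_alternatingGroup_five]
      exact hHM.ne (Subgroup.eq_of_le_of_card_ge hHM.le (by rw [hM60, hH60]))
    · rcases h with ⟨hF, h10⟩ | ⟨hF, h10⟩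
      · rw [hF] at hKm
        have hK := card_eq_of_pow_eq_prime hp hKm
        exact eq_top_of_full (by rw [hK, hF]) M hHK
      · rw [hF] at hKm
        rcases card_eq_of_pow_eq_prime_sq hp hKm with hK | hK
        · exfalso
          have hd := card_dvd_of_subfield hK M hHK
          have hHd : Nat.card H ∣ Nat.card M := Subgroup.card_dvd_of_le hHM.le
          rw [hH60] at hHd
          have : p % 5 = 2 ∨ p % 5 = 3 := by omega
          exact five_not_dvd_of_mod this (Dvd.dvd.trans (by norm_num) (hHd.trans hd))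
        · exact eq_top_of_full (by rw [hK, hF]) M hHK

end Cfsg.Agent.S5939
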