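import Cfsg.Statements.S5940
import Mathlib
import Cfsg.Agent.S0802
import Cfsg.Agent.Lib.Helper42.PSL2Max

set_option autoImplicit false
open Cfsg
open Matrix Cfsg.Agent.Helper41 Cfsg.Agent.Helper42.PSL2Max

namespace Cfsg.Agent.S5940

/-- Let p ≥ 5 be a prime with p ≡ ±3 (mod 8) and p ≢ ±1 (mod 10), and F a field with p elements. Then PSL_2(F) has a maximal subgroup isomorphic to the alternating group A_4. -/
theorem result {F : Type*} [Field F] [Fintype F] (p : ℕ) [Fact p.Prime] (hF : Fintype.card F = p) (h5 : 5 ≤ p) (h8 : p % 8 = 3 ∨ p % 8 = 5) (h10 : p % 10 ≠ 1 ∧ p % 10 ≠ 9) : ∃ H : Subgroup (Matrix.ProjectiveSpecialLinearGroup (Fin 2) F), IsCoatom H ∧ Nonempty (H ≃* alternatingGroup (Fin 4)) := by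
  classical
  have hp : p.Prime := Fact.out
  haveI : CharP F p := charP_of_card_eq_prime hF
  have hodd : Odd p := by rw [Nat.odd_iff]; omega
  obtain ⟨H, ⟨e⟩⟩ := Cfsg.Agent.S0802.exists_A4_odd hF hodd
  have hH12 : Nat.card H = 12 := by
    rw [Nat.card_congr e.toEquiv, card_alternatingGroup_four]
  have hG := Cfsg.Agent.Helper98.PSL2Card.card_psl2_odd hF hodd
  obtain ⟨r, rfl⟩ := Nat.exists_eq_add_of_le h5
  have e1 : (5 + r) ^ 2 - 1 = (r + 4) * (r + 6) := by
    rw [show (5 + r) ^ 2 = (r + 4) * (r + 6) + 1 by ring]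
    simp
  rw [e1] at hG
  have hGbig : 60 ≤ Nat.card (ProjectiveSpecialLinearGroup (Fin 2) F) := by
    have : 4 * 6 * 5 ≤ (r + 4) * (r + 6) * (5 + r) :=
      Nat.mul_le_mul (Nat.mul_le_mul (by omega) (by omega)) (by omega)
    omega
  -- the embedding of `A₄` into any overgroup of `H`
  have hemb : ∀ M : Subgroup (ProjectiveSpecialLinearGroup (Fin 2) F), H ≤ M →
      ∃ f : alternatingGroup (Fin 4) →* M, Function.Injective f := by
    intro M hHM
    exact ⟨(Subgroup.inclusion hHM).comp e.symm.toMonoidHom,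
      (Subgroup.inclusion_injective hHM).comp e.symm.injective⟩
  refine ⟨H, ⟨?_, ?_⟩, ⟨e⟩⟩
  · intro hH
    rw [hH, Subgroup.card_top] at hH12
    omega
  · intro M hHM
    have hHd : 12 ∣ Nat.card M := by
      rw [← hH12]
      exact Subgroup.card_dvd_of_le hHM.le
    have hMd : Nat.card M ∣ Nat.card (ProjectiveSpecialLinearGroup (Fin 2) F) :=
      Subgroup.card_subgroup_dvd_card M
    obtain ⟨f, hf⟩ := hemb M hHM.le
    have hD := Cfsg.Agent.S0799.result (F := F) hF (5 + r) M
    rcases hD with ⟨k, -, hMk⟩ | ⟨P, K, hK, ⟨e'⟩⟩ | ⟨⟨e'⟩⟩ | ⟨⟨e'⟩⟩ | ⟨⟨e'⟩⟩ |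
      ⟨K, _, _, m, hKm, hHK⟩
    · exfalso
      rcases hMk with ⟨hc, -⟩ | ⟨⟨e'⟩⟩
      · haveI := hc
        refine alt4_not_embed_comm (A := M) (fun a b => ?_) f hf
        obtain ⟨g, hg⟩ := IsCyclic.exists_generator (α := M)
        obtain ⟨i, rfl⟩ := Subgroup.mem_zpowers_iff.mp (hg a)
        obtain ⟨j, rfl⟩ := Subgroup.mem_zpowers_iff.mp (hg b)
        rw [← _root_.zpow_add, ← _root_.zpow_add, add_comm]
      · exact alt4_not_embed_dihedral (e'.toMonoidHom.comp f) (e'.injective.comp hf)
    · exfalso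
      have hN := card_normalizer_sylow_mul (F := F) (5 + r) P
      rw [hF] at hN
      have hKd : Nat.card K ∣ Nat.card (Subgroup.normalizer
          ((P : Subgroup (ProjectiveSpecialLinearGroup (Fin 2) F)) :
            Set (ProjectiveSpecialLinearGroup (Fin 2) F))) := Subgroup.card_dvd_of_le hK
      rw [← Nat.card_congr e'.toEquiv] at hKd
      have h12 := hHd.trans hKd
      have hN2 : Nat.card (Subgroup.normalizer
          ((P : Subgroup (ProjectiveSpecialLinearGroup (Fin 2) F)) :
            Set (ProjectiveSpecialLinearGroup (Fin 2) F))) * 2 = (r + 4) * (5 + r) := by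
        have h3 : (Nat.card (Subgroup.normalizer
          ((P : Subgroup (ProjectiveSpecialLinearGroup (Fin 2) F)) :
            Set (ProjectiveSpecialLinearGroup (Fin 2) F))) * 2) * (r + 6) =
            ((r + 4) * (5 + r)) * (r + 6) := by
          rw [← hN] at hG
          rw [show 5 + r + 1 = r + 6 by ring] at hG
          linarith
        exact Nat.eq_of_mul_eq_mul_right (by omega) h3
      have h8' : 8 ∣ (r + 4) * (5 + r) := by
        rw [← hN2]
        exact Dvd.dvd.trans (by norm_num) (Nat.mul_dvd_mul_right h12 2)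
      have hcop : Nat.Coprime 8 (5 + r) := by
        rw [show (8 : ℕ) = 2 ^ 3 by norm_num]
        apply Nat.Coprime.pow_left
        rw [Nat.coprime_two_left]
        exact hodd
      have := hcop.dvd_of_dvd_mul_right h8'
      omega
    · exfalso
      have hM12 : Nat.card M = 12 := by
        rw [Nat.card_congr e'.toEquiv, card_alternatingGroup_four]
      exact hHM.ne (Subgroup.eq_of_le_of_card_ge hHM.le (by rw [hM12, hH12]))
    · exfalso
      have hM24 : Nat.card M = 24 := by
        rw [Nat.card_congr e'.toEquiv, card_perm_four]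
      rw [hM24] at hMd
      have h48 : 16 ∣ (r + 4) * (r + 6) * (5 + r) := by
        rw [← hG]
        exact Dvd.dvd.trans (by norm_num) (Nat.mul_dvd_mul_right hMd 2)
      have hcop : Nat.Coprime 16 (5 + r) := by
        rw [show (16 : ℕ) = 2 ^ 4 by norm_num]
        apply Nat.Coprime.pow_left
        rw [Nat.coprime_two_left]
        exact hodd
      have h16 := hcop.dvd_of_dvd_mul_right h48
      rw [← e1] at h16
      have hsq : (5 + r) ^ 2 % 16 = 9 := by
        rw [Nat.pow_mod]
        have : (5 + r) % 16 = 3 ∨ (5 + r) % 16 = 5 ∨ (5 + r) % 16 = 11 ∨ (5 + r) % 16 = 13 := by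
          omega
        rcases this with h | h | h | h <;> rw [h]
      omega
    · have hM60 : Nat.card M = 60 := by
        rw [Nat.card_congr e'.toEquiv, card_alternatingGroup_five]
      rw [hM60] at hMd
      have h5' : 5 ∣ ((5 + r) ^ 2 - 1) * (5 + r) := by
        rw [e1, ← hG]
        exact Dvd.dvd.trans (by norm_num) (Dvd.dvd.mul_right hMd 2)
      have hcases : (5 + r) % 5 = 0 ∨ ((5 + r) % 5 = 1 ∨ (5 + r) % 5 = 4) ∨
          ((5 + r) % 5 = 2 ∨ (5 + r) % 5 = 3) := by omega
      rcases hcases with h0 | h14 | h23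
      · have h5p : 5 ∣ 5 + r := Nat.dvd_of_mod_eq_zero h0
        have h5eq : 5 = 5 + r := ((Nat.dvd_prime hp).mp h5p).resolve_left (by norm_num)
        have hr : r = 0 := by omega
        subst hr
        apply Subgroup.eq_top_of_le_card
        rw [hM60]
        have hG' : Nat.card (ProjectiveSpecialLinearGroup (Fin 2) F) * 2 = 120 := by
          rw [hG]
        omega
      · exfalso
        have := hodd
        rw [Nat.odd_iff] at this
        omega
      · exact absurd h5' (five_not_dvd_of_mod h23)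
    · rw [← hF] at hKm
      have hp' : (Fintype.card F).Prime := by rw [hF]; exact hp
      have hK := card_eq_of_pow_eq_prime hp' hKm
      exact eq_top_of_full hK M hHK

end Cfsg.Agent.S5940
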