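import Cfsg.Statements.S5941
import Cfsg.Agent.Lib.Helper98.DicksonMax

set_option autoImplicit false
open Cfsg

namespace Cfsg.Agent.S5941

open Cfsg.Agent.Helper98.DMax Cfsg.Agent.Helper98

theorem arith1 (q : ℕ) (hq : 3 ≤ q) : (q ^ 2 - 1) * q * 2 < ((q ^ 2) ^ 2 - 1) * q ^ 2 := by
  obtain ⟨t, rfl⟩ : ∃ t, q = t + 3 := ⟨q - 3, by omega⟩
  have e1 : (t + 3) ^ 2 - 1 = t ^ 2 + 6 * t + 8 := by
    have : (t + 3) ^ 2 = t ^ 2 + 6 * t + 8 + 1 := by ring
    rw [this, Nat.add_sub_cancel]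
  have e2 : ((t + 3) ^ 2) ^ 2 - 1 = (t ^ 2 + 6 * t + 8) * ((t + 3) ^ 2 + 1) := by
    have : ((t + 3) ^ 2) ^ 2 = (t ^ 2 + 6 * t + 8) * ((t + 3) ^ 2 + 1) + 1 := by ring
    rw [this, Nat.add_sub_cancel]
  rw [e1, e2]
  nlinarith [Nat.zero_le t, Nat.zero_le (t ^ 2), Nat.zero_le (t ^ 3)]

/-- Let K and F be finite fields of odd characteristic with #F = (#K)². Then PSL_2(F) has a maximal subgroup isomorphic to PGL_2(K). -/
theorem result {F K : Type*} [Field F] [Fintype F] [Field K] [Fintype K] (q : ℕ) (hK : Fintype.card K = q) (hF : Fintype.card F = q ^ 2) (hq : Odd q) : ∃ H : Subgroup (Matrix.ProjectiveSpecialLinearGroup (Fin 2) F), IsCoatom H ∧ Nonempty (H ≃* Matrix.ProjGenLinGroup (Fin 2) K) := by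
  classical
  obtain ⟨p, hp⟩ := CharP.exists F
  haveI := hp
  haveI : Fact p.Prime := ⟨CharP.char_is_prime F p⟩
  haveI := finite_psl (F := F)
  have hq3 : 3 ≤ q := by
    have h2 : 2 ≤ q := by rw [← hK]; exact Fintype.one_lt_card
    obtain ⟨t, ht⟩ := hq
    omega
  have hoddF : Odd (q ^ 2) := hq.pow
  have hKF : Fintype.card K ^ 2 = q ^ 2 := by rw [hK]
  obtain ⟨-, hpgl⟩ := Cfsg.Agent.S0805.result (K := K) hF hoddF 2 (by norm_num) hKF
  obtain ⟨H0, ⟨e0⟩⟩ := hpgl.mpr (by decide)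
  obtain ⟨φ⟩ := Cfsg.Agent.S0805.exists_ringHom (K := K) (F := F) 2 (by rw [hK, hF])
  haveI : CharP K p := φ.charP φ.injective p
  refine ⟨H0, ?_, ⟨e0⟩⟩
  have hN0 : Nat.card H0 = (q ^ 2 - 1) * q := by
    rw [Nat.card_congr e0.toEquiv, card_pgl2, hK]
  have hNG := PSL2Card.card_psl2_odd hF hoddF
  have hpq : p ∣ q := by
    have h1 : p ∣ Fintype.card F := by
      obtain ⟨n, -, hn⟩ := FiniteField.card F p
      rw [hn]
      exact dvd_pow_self p n.ne_zero
    rw [hF] at h1
    exact (Fact.out : p.Prime).dvd_of_dvd_pow h1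
  have hp2 : p ≠ 2 := by
    rintro rfl
    obtain ⟨t, ht⟩ := hq
    omega
  have hpodd : ¬ p ∣ 2 := by
    intro h
    exact hp2 ((Nat.prime_dvd_prime_iff_eq (Fact.out : p.Prime) Nat.prime_two).mp h)
  have hA : 8 ≤ q ^ 2 - 1 := by
    have : 9 ≤ q ^ 2 := by nlinarith
    omega
  have h24 : 24 ≤ Nat.card H0 := by
    rw [hN0]
    nlinarith
  apply coatom_skeleton p H0
  · obtain ⟨x, y, hx, hy, hxy⟩ := exists_noncomm_pgl K p
    refine ⟨e0.symm x, e0.symm y, ?_, ?_, ?_⟩
    · rw [← map_pow, hx, map_one]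
    · rw [← map_pow, hy, map_one]
    · intro h
      rw [← map_mul, ← map_mul] at h
      exact hxy (e0.symm.injective h)
  · have := arith1 q hq3
    rw [hN0]
    omega
  · rw [hN0]
    exact Dvd.dvd.mul_left hpq _
  · intro n hpn hdvd
    apply hpn
    have h1 : p ∣ 2 * n := (hpq.mul_left _).trans (hN0 ▸ hdvd)
    rcases (Fact.out : p.Prime).dvd_mul.mp h1 with h | h
    · exact absurd h hpodd
    · exact h
  · rintro ⟨-, h⟩; omega
  · rintro ⟨-, h, -⟩; omega
  · rintro ⟨hd, h, -⟩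
    -- 24 ≤ N0 < 60, N0 ∣ 60 → N0 = 30, impossible
    rw [hN0] at hd h h24
    by_cases hq5 : 5 ≤ q
    · have : 24 ≤ q ^ 2 - 1 := by
        have : 25 ≤ q ^ 2 := by nlinarith
        omega
      nlinarith
    · have hq3' : q = 3 ∨ q = 4 := by omega
      rcases hq3' with rfl | rfl
      · norm_num at hd
      · obtain ⟨t, ht⟩ := hq
        omega
  · -- subfield type
    intro K' _ _ m hcard M hM hiso
    haveI : Finite M := inferInstance
    have hle : H0 ≤ M := hM.le
    have hlt' : Nat.card H0 < Nat.card M := by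
      by_contra hcon
      push Not at hcon
      exact hM.ne (Subgroup.eq_of_le_of_card_ge hle hcon)
    have hMG : Nat.card M ≤ Nat.card (Matrix.ProjectiveSpecialLinearGroup (Fin 2) F) :=
      Subgroup.card_le_card_group M
    set q' := Fintype.card K' with hq'
    rw [hF] at hcard
    have hMle : Nat.card M ≤ (q' ^ 2 - 1) * q' := by
      rcases hiso with ⟨⟨e⟩⟩ | ⟨⟨e⟩⟩
      · rw [Nat.card_congr e.toEquiv]
        exact (card_psl2_le_pgl2 K').trans (card_pgl2 K').le
      · rw [Nat.card_congr e.toEquiv]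
        exact (card_pgl2 K').le
    have hq'1 : 1 ≤ q' := Fintype.card_pos
    rcases m with _ | _ | m
    · -- m = 0
      rw [pow_zero] at hcard
      have : 9 ≤ q ^ 2 := by nlinarith
      omega
    · -- m = 1
      rw [zero_add, pow_one] at hcard
      rcases hiso with ⟨⟨e⟩⟩ | ⟨⟨e⟩⟩
      · rw [← Subgroup.card_eq_iff_eq_top]
        have h1 := PSL2Card.card_psl2_odd (F := K') hcard hoddF
        rw [← Nat.card_congr e.toEquiv] at h1
        omega
      · exfalso
        have h1 := card_pgl2 K'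
        rw [← Nat.card_congr e.toEquiv, ← hq', hcard] at h1
        have hpos : 0 < ((q ^ 2) ^ 2 - 1) * q ^ 2 := by
          have : 9 ≤ q ^ 2 := by nlinarith
          have : 81 ≤ (q ^ 2) ^ 2 := by nlinarith
          have : 0 < (q ^ 2) ^ 2 - 1 := by omega
          positivity
        omega
    · -- m ≥ 2
      exfalso
      have h1 : q' ^ 2 ≤ q ^ 2 := by
        rw [← hcard]
        exact Nat.pow_le_pow_right hq'1 (by omega)
      have h2 : q' ≤ q := by
        by_contra hcon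
        push Not at hcon
        have := Nat.pow_lt_pow_left hcon (n := 2) (by norm_num)
        omega
      have := card_mono h2
      omega

end Cfsg.Agent.S5941
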