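import Cfsg.Statements.S5942
import Cfsg.Agent.Lib.Helper98.DicksonMax

set_option autoImplicit false
set_option linter.style.haveILetI false
open Cfsg

namespace Cfsg.Agent.S5942

open Cfsg.Agent.Helper98.DMax Cfsg.Agent.Helper98 Cfsg.Agent.S0805

theorem nine_pow_mod (j : ℕ) : (9 ^ j % 16 = 1 ∨ 9 ^ j % 16 = 9) ∧ (9 ^ j % 5 = 1 ∨ 9 ^ j % 5 = 4) := by
  induction j with
  | zero => simp
  | succ j ih =>
    rw [pow_succ]
    obtain ⟨h1, h2⟩ := ih
    constructor
    · rcases h1 with h | h <;> omega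
    · rcases h2 with h | h <;> omega

theorem three_pow_odd (r : ℕ) (hr : Odd r) :
    (3 ^ r % 16 = 3 ∨ 3 ^ r % 16 = 11) ∧ (3 ^ r % 5 = 3 ∨ 3 ^ r % 5 = 2) := by
  obtain ⟨j, rfl⟩ := hr
  have e : 3 ^ (2 * j + 1) = 9 ^ j * 3 := by
    rw [pow_succ, pow_mul]
    norm_num
  rw [e]
  obtain ⟨h1, h2⟩ := nine_pow_mod j
  constructor
  · rcases h1 with h | h <;> omega
  · rcases h2 with h | h <;> omega

theorem not_dvd_three_pow (r : ℕ) (hr : Odd r) :
    ¬ 16 ∣ ((3 ^ r) ^ 2 - 1) * 3 ^ r ∧ ¬ 5 ∣ ((3 ^ r) ^ 2 - 1) * 3 ^ r := by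
  obtain ⟨h16, h5⟩ := three_pow_odd r hr
  set Q := 3 ^ r with hQ
  have hQ1 : 1 ≤ Q ^ 2 := Nat.one_le_pow _ _ (by positivity)
  constructor
  · intro h
    have hm : Q ^ 2 % 16 = 9 := by
      rw [sq, Nat.mul_mod]
      rcases h16 with h | h <;> rw [h]
    have hm1 : (Q ^ 2 - 1) % 16 = 8 := by omega
    have := Nat.mod_eq_zero_of_dvd h
    rw [Nat.mul_mod, hm1] at this
    rcases h16 with h | h <;> rw [h] at this <;> omega
  · intro h
    have hm : Q ^ 2 % 5 = 4 := by
      rw [sq, Nat.mul_mod]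
      rcases h5 with h | h <;> rw [h]
    have hm1 : (Q ^ 2 - 1) % 5 = 3 := by omega
    have := Nat.mod_eq_zero_of_dvd h
    rw [Nat.mul_mod, hm1] at this
    rcases h5 with h | h <;> rw [h] at this <;> omega

/-- Let K and F be finite fields of odd characteristic with #F = (#K)^r for an odd prime r. Then PSL_2(F) has a maximal subgroup isomorphic to PSL_2(K). -/
theorem result {F K : Type*} [Field F] [Fintype F] [Field K] [Fintype K] (q r : ℕ) (hK : Fintype.card K = q) (hF : Fintype.card F = q ^ r) (hq : Odd q) (hr : r.Prime) (hr2 : r ≠ 2) : ∃ H : Subgroup (Matrix.ProjectiveSpecialLinearGroup (Fin 2) F), IsCoatom H ∧ Nonempty (H ≃* Matrix.ProjectiveSpecialLinearGroup (Fin 2) K) := by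
  classical
  have hKF : Fintype.card K ^ r = Fintype.card F := by rw [hK, hF]
  obtain ⟨φ⟩ := exists_ringHom (K := K) (F := F) r hKF
  obtain ⟨p, hp⟩ := CharP.exists F
  haveI := hp
  haveI : Fact p.Prime := ⟨CharP.char_is_prime F p⟩
  haveI : CharP K p := φ.charP φ.injective p
  haveI := finite_psl (F := F)
  obtain ⟨b, -, hb⟩ := FiniteField.card K p
  rw [hK] at hb
  have hpq : p ∣ q := by
    rw [hb]
    exact dvd_pow_self p b.ne_zero
  have hp2 : p ≠ 2 := by
    rintro rfl
    obtain ⟨t, ht⟩ := hq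
    omega
  have hpodd : ¬ p ∣ 2 := by
    intro h
    exact hp2 ((Nat.prime_dvd_prime_iff_eq (Fact.out : p.Prime) Nat.prime_two).mp h)
  have hq3 : 3 ≤ q := by
    have h2 : 2 ≤ q := by rw [← hK]; exact Fintype.one_lt_card
    obtain ⟨t, ht⟩ := hq
    omega
  have hrodd : Odd r := hr.odd_of_ne_two hr2
  have hr2' : 2 ≤ r := hr.two_le
  have hoddF : Odd (q ^ r) := hq.pow
  set H0 := (pslMap φ).range with hH0
  have e0 : H0 ≃* Matrix.ProjectiveSpecialLinearGroup (Fin 2) K :=
    (MonoidHom.ofInjective (pslMap_injective φ)).symm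
  refine ⟨H0, ?_, ⟨e0⟩⟩
  have hN0 : Nat.card H0 * 2 = (q ^ 2 - 1) * q := by
    rw [Nat.card_congr e0.toEquiv]
    exact PSL2Card.card_psl2_odd hK hq
  have hNG := PSL2Card.card_psl2_odd hF hoddF
  have hA : 8 ≤ q ^ 2 - 1 := by
    have : 9 ≤ q ^ 2 := by nlinarith
    omega
  have h12 : 12 ≤ Nat.card H0 := by
    have : 24 ≤ (q ^ 2 - 1) * q := by nlinarith
    omega
  have hq5 : 5 ≤ q → 60 ≤ Nat.card H0 := by
    intro h5
    have : 24 ≤ q ^ 2 - 1 := by
      have : 25 ≤ q ^ 2 := by nlinarith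
      omega
    have : 120 ≤ (q ^ 2 - 1) * q := by nlinarith
    omega
  have hq3' : Nat.card H0 < 60 → q = 3 := by
    intro h
    by_contra hne
    have : 5 ≤ q := by
      obtain ⟨t, ht⟩ := hq
      omega
    have := hq5 this
    omega
  have hqQ : q + 1 ≤ q ^ r := by
    have : q ^ 2 ≤ q ^ r := Nat.pow_le_pow_right (by omega) hr2'
    nlinarith
  have hpN0 : p ∣ Nat.card H0 := by
    have h1 : p ∣ Nat.card H0 * 2 := by rw [hN0]; exact Dvd.dvd.mul_left hpq _
    rcases (Fact.out : p.Prime).dvd_mul.mp h1 with h | h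
    · exact h
    · exact absurd h hpodd
  apply coatom_skeleton p H0
  · obtain ⟨x, y, hx, hy, hxy⟩ := exists_noncomm_psl K p
    refine ⟨e0.symm x, e0.symm y, ?_, ?_, ?_⟩
    · rw [← map_pow, hx, map_one]
    · rw [← map_pow, hy, map_one]
    · intro h
      rw [← map_mul, ← map_mul] at h
      exact hxy (e0.symm.injective h)
  · have h1 := card_mono hqQ
    have h2 : (q ^ 2 - 1) * q < ((q + 1) ^ 2 - 1) * (q + 1) := by
      have : q ^ 2 - 1 ≤ (q + 1) ^ 2 - 1 :=
        Nat.sub_le_sub_right (Nat.pow_le_pow_left (by omega) 2) 1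
      have hpos : 0 < (q + 1) ^ 2 - 1 := by
        have : 1 < (q + 1) ^ 2 := by nlinarith
        omega
      calc (q ^ 2 - 1) * q ≤ ((q + 1) ^ 2 - 1) * q := Nat.mul_le_mul_right q this
        _ < ((q + 1) ^ 2 - 1) * (q + 1) := Nat.mul_lt_mul_of_pos_left (by omega) hpos
    omega
  · exact hpN0
  · intro n hpn hdvd
    apply hpn
    have h1 : p ∣ 2 * n := hpN0.trans hdvd
    rcases (Fact.out : p.Prime).dvd_mul.mp h1 with h | h
    · exact absurd h hpodd
    · exact h
  · rintro ⟨-, h⟩; omega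
  · rintro ⟨-, h, h24⟩
    have hq3'' := hq3' (by omega)
    subst hq3''
    have : 48 ∣ ((3 ^ r) ^ 2 - 1) * 3 ^ r := by
      rw [← hNG]
      exact Nat.mul_dvd_mul h24 (dvd_refl 2)
    exact (not_dvd_three_pow r hrodd).1 ((by norm_num : 16 ∣ 48).trans this)
  · rintro ⟨-, h, h60⟩
    have hq3'' := hq3' h
    subst hq3''
    have : 120 ∣ ((3 ^ r) ^ 2 - 1) * 3 ^ r := by
      rw [← hNG]
      exact Nat.mul_dvd_mul h60 (dvd_refl 2)
    exact (not_dvd_three_pow r hrodd).2 ((by norm_num : 5 ∣ 120).trans this)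
  · intro K' _ _ m hcard M hM hiso
    have hle : H0 ≤ M := hM.le
    have hdvd : Nat.card H0 ∣ Nat.card M := Subgroup.card_dvd_of_le hle
    have hlt' : Nat.card H0 < Nat.card M := by
      by_contra hcon
      push Not at hcon
      exact hM.ne (Subgroup.eq_of_le_of_card_ge hle hcon)
    have hMG : Nat.card M ≤ Nat.card (Matrix.ProjectiveSpecialLinearGroup (Fin 2) F) :=
      Subgroup.card_le_card_group M
    set q' := Fintype.card K' with hq'
    have hoddq' : Odd q' := by
      have hodd : Odd (q' ^ m) := by rw [hcard, hF]; exact hoddF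
      have hm0 : m ≠ 0 := by
        rintro rfl
        rw [pow_zero, hF] at hcard
        have : 2 ≤ q ^ r := by omega
        omega
      exact (Nat.odd_pow_iff hm0).mp hodd
    have hNM : Nat.card M * 2 = (q' ^ 2 - 1) * q' ∨ Nat.card M = (q' ^ 2 - 1) * q' := by
      rcases hiso with ⟨⟨e⟩⟩ | ⟨⟨e⟩⟩
      · left
        rw [Nat.card_congr e.toEquiv]
        exact PSL2Card.card_psl2_odd rfl hoddq'
      · right
        rw [Nat.card_congr e.toEquiv]
        exact card_pgl2 K'
    have hd2 : (Fintype.card K ^ 2 - 1) * Fintype.card K ∣ 2 * ((q' ^ 2 - 1) * q') := by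
      rw [hK, ← hN0]
      rcases hNM with h | h
      · rw [← h]
        have : Nat.card H0 * 2 ∣ Nat.card M * 2 := Nat.mul_dvd_mul hdvd (dvd_refl 2)
        exact this.trans (Dvd.intro_left 2 rfl)
      · rw [← h, mul_comm 2]
        exact Nat.mul_dvd_mul hdvd (dvd_refl 2)
    rcases subfield_cases r m hr hKF hcard hd2 with h | ⟨h, hm1⟩
    · exfalso
      rw [← hq', hK] at h
      rcases hNM with hNM | hNM
      · rw [h, ← hN0] at hNM
        omega
      · -- `PGL₂(K')` with `m = r` odd: impossible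
        have hmr : m = r := by
          rw [h, hF] at hcard
          exact Nat.pow_right_injective (by omega : 2 ≤ q) hcard
        rcases hiso with ⟨⟨e⟩⟩ | ⟨⟨e⟩⟩
        · have h1 := PSL2Card.card_psl2_odd (F := K') rfl hoddq'
          rw [← Nat.card_congr e.toEquiv, ← hq', h, ← hN0] at h1
          omega
        · have h1 := (Cfsg.Agent.S0805.result (K := K') hF hoddF m (by omega) (by rw [← hF]; exact hcard)).2
          have h2 : Even m := h1.mp ⟨M, ⟨e⟩⟩
          rw [hmr] at h2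
          exact (Nat.not_even_iff_odd.mpr hrodd) h2
    · rw [← hq', hF] at h
      rcases hNM with hNM | hNM
      · rw [← Subgroup.card_eq_iff_eq_top]
        rw [h, ← hNG] at hNM
        omega
      · exfalso
        rw [h, ← hNG] at hNM
        have : 0 < Nat.card (Matrix.ProjectiveSpecialLinearGroup (Fin 2) F) := Nat.card_pos
        omega

end Cfsg.Agent.S5942
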