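import Cfsg.Statements.S5943
import Cfsg.Agent.Lib.Helper98.DicksonMax

set_option autoImplicit false
set_option linter.style.haveILetI false
open Cfsg

namespace Cfsg.Agent.S5943

open Cfsg.Agent.Helper98.DMax Cfsg.Agent.Helper98 Cfsg.Agent.S0805

/-- Let K and F be finite fields of characteristic 2 with #K = q > 2 and #F = q^r for a prime r. Then PSL_2(F) has a maximal subgroup isomorphic to PSL_2(K) (which equals PGL_2(K) in characteristic 2). -/
theorem result {F K : Type*} [Field F] [Fintype F] [Field K] [Fintype K] (q r : ℕ) (hK : Fintype.card K = q) (hF : Fintype.card F = q ^ r) (hq : Even q) (hq2 : q ≠ 2) (hr : r.Prime) : ∃ H : Subgroup (Matrix.ProjectiveSpecialLinearGroup (Fin 2) F), IsCoatom H ∧ Nonempty (H ≃* Matrix.ProjectiveSpecialLinearGroup (Fin 2) K) := by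
  classical
  have hKF : Fintype.card K ^ r = Fintype.card F := by rw [hK, hF]
  obtain ⟨φ⟩ := exists_ringHom (K := K) (F := F) r hKF
  obtain ⟨p, hp⟩ := CharP.exists F
  haveI := hp
  haveI : Fact p.Prime := ⟨CharP.char_is_prime F p⟩
  haveI : CharP K p := φ.charP φ.injective p
  haveI := finite_psl (F := F)
  obtain ⟨b, -, hb⟩ := FiniteField.card K p
  rw [hK] at hb
  have hp2 : p = 2 := by
    have h2 : 2 ∣ p ^ (b : ℕ) := by rw [← hb]; exact hq.two_dvd
    have := Nat.prime_two.dvd_of_dvd_pow h2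
    exact ((Nat.prime_dvd_prime_iff_eq Nat.prime_two (Fact.out : p.Prime)).mp this).symm
  subst hp2
  have hb2 : 2 ≤ (b : ℕ) := by
    have hb1 : 1 ≤ (b : ℕ) := b.pos
    by_contra hcon
    have : (b : ℕ) = 1 := by omega
    rw [this, pow_one] at hb
    exact hq2 hb
  have h4q : 4 ∣ q := by
    rw [hb]
    exact pow_dvd_pow 2 hb2
  have hq4 : 4 ≤ q := Nat.le_of_dvd (by rw [hb]; positivity) h4q
  have hr2 : 2 ≤ r := hr.two_le
  have hevenF : Even (q ^ r) := (Nat.even_pow.mpr ⟨hq, by omega⟩)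
  set H0 := (pslMap φ).range with hH0
  have e0 : H0 ≃* Matrix.ProjectiveSpecialLinearGroup (Fin 2) K :=
    (MonoidHom.ofInjective (pslMap_injective φ)).symm
  refine ⟨H0, ?_, ⟨e0⟩⟩
  have hN0 : Nat.card H0 = (q ^ 2 - 1) * q := by
    rw [Nat.card_congr e0.toEquiv]
    exact PSL2Card.card_psl2_even hK hq
  have hNG := PSL2Card.card_psl2_even hF hevenF
  have hA : 15 ≤ q ^ 2 - 1 := by
    have : 16 ≤ q ^ 2 := by nlinarith
    omega
  have h60 : 60 ≤ Nat.card H0 := by
    rw [hN0]
    nlinarith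
  have hqQ : q + 1 ≤ q ^ r := by
    have : q ^ 2 ≤ q ^ r := Nat.pow_le_pow_right (by omega) hr2
    nlinarith
  apply coatom_skeleton 2 H0
  · obtain ⟨x, y, hx, hy, hxy⟩ := exists_noncomm_psl K 2
    refine ⟨e0.symm x, e0.symm y, ?_, ?_, ?_⟩
    · rw [← map_pow, hx, map_one]
    · rw [← map_pow, hy, map_one]
    · intro h
      rw [← map_mul, ← map_mul] at h
      exact hxy (e0.symm.injective h)
  · rw [hN0, hNG]
    have h1 := card_mono hqQ
    have h2 : (q ^ 2 - 1) * q < ((q + 1) ^ 2 - 1) * (q + 1) := by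
      have : q ^ 2 - 1 ≤ (q + 1) ^ 2 - 1 :=
        Nat.sub_le_sub_right (Nat.pow_le_pow_left (by omega) 2) 1
      have hpos : 0 < (q + 1) ^ 2 - 1 := by
        have : 1 < (q + 1) ^ 2 := by nlinarith
        omega
      calc (q ^ 2 - 1) * q ≤ ((q + 1) ^ 2 - 1) * q := Nat.mul_le_mul_right q this
        _ < ((q + 1) ^ 2 - 1) * (q + 1) := Nat.mul_lt_mul_of_pos_left (by omega) hpos
    omega
  · rw [hN0]
    exact Dvd.dvd.mul_left hq.two_dvd _
  · intro n hpn hdvd
    apply hpn
    rw [hN0] at hdvd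
    have h1 : 4 ∣ 2 * n := (h4q.mul_left _).trans hdvd
    omega
  · rintro ⟨-, h⟩; omega
  · rintro ⟨-, h, -⟩; omega
  · rintro ⟨-, h, -⟩; omega
  · intro K' _ _ m hcard M hM hiso
    have hle : H0 ≤ M := hM.le
    have hdvd : Nat.card H0 ∣ Nat.card M := Subgroup.card_dvd_of_le hle
    have hlt' : Nat.card H0 < Nat.card M := by
      by_contra hcon
      push Not at hcon
      exact hM.ne (Subgroup.eq_of_le_of_card_ge hle hcon)
    set q' := Fintype.card K' with hq'
    have hevq' : Even q' := by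
      have : Even (q' ^ m) := by rw [hcard, hF]; exact hevenF
      exact (Nat.even_pow.mp this).1
    have hNM : Nat.card M = (q' ^ 2 - 1) * q' := by
      rcases hiso with ⟨⟨e⟩⟩ | ⟨⟨e⟩⟩
      · rw [Nat.card_congr e.toEquiv]
        exact PSL2Card.card_psl2_even rfl hevq'
      · rw [Nat.card_congr e.toEquiv]
        exact card_pgl2 K'
    have hd2 : (Fintype.card K ^ 2 - 1) * Fintype.card K ∣ 2 * ((q' ^ 2 - 1) * q') := by
      rw [hK, ← hN0, ← hNM]
      exact Dvd.dvd.mul_left hdvd 2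
    rcases subfield_cases r m hr hKF hcard hd2 with h | ⟨h, -⟩
    · exfalso
      rw [← hq', hK] at h
      rw [hNM, hN0, h] at hlt'
      exact lt_irrefl _ hlt'
    · rw [← hq', hF] at h
      rw [← Subgroup.card_eq_iff_eq_top, hNM, hNG, h]

end Cfsg.Agent.S5943
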