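import Cfsg.Statements.S5945
import Cfsg.Agent.S5912
import Cfsg.Agent.Lib.Helper97.PointStab

set_option autoImplicit false
set_option linter.unusedSectionVars false
set_option linter.unusedVariables false
set_option linter.style.haveILetI false
open Cfsg

namespace Cfsg.Agent.S5945

open Equiv Cfsg.Agent.Helper97

section conjugates

variable {G : Type*} [Group G]

/-- The set of conjugates of a subgroup. -/
def conjSet (H : Subgroup G) : Set (Subgroup G) :=
  {K | ∃ g : G, H.map (MulAut.conj g).toMonoidHom = K}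

theorem map_conj_mul (H : Subgroup G) (a b : G) :
    H.map (MulAut.conj (a * b)).toMonoidHom =
      (H.map (MulAut.conj b).toMonoidHom).map (MulAut.conj a).toMonoidHom := by
  rw [Subgroup.map_map]
  congr 1
  ext x
  simp [mul_assoc]

theorem map_conj_eq_iff (H : Subgroup G) (a b : G) :
    H.map (MulAut.conj a).toMonoidHom = H.map (MulAut.conj b).toMonoidHom ↔
      a⁻¹ * b ∈ Subgroup.normalizer (H : Set G) := by
  rw [Subgroup.mem_normalizer_iff_map_conj_eq]
  constructor
  · intro h
    have h1 : H.map (MulAut.conj (a⁻¹ * b)).toMonoidHom = H := by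
      rw [map_conj_mul, ← h, ← map_conj_mul, inv_mul_cancel]
      ext x
      simp
    exact h1
  · intro h
    have h1 : H.map (MulAut.conj (a⁻¹ * b)).toMonoidHom = H := h
    have h2 : b = a * (a⁻¹ * b) := by group
    rw [h2, map_conj_mul, h1]

theorem ncard_conjSet [Finite G] (H : Subgroup G) :
    (conjSet H).ncard = (Subgroup.normalizer (H : Set G)).index := by
  classical
  let f : G ⧸ Subgroup.normalizer (H : Set G) → Subgroup G :=
    Quotient.lift (fun g : G => H.map (MulAut.conj g).toMonoidHom) (by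
      intro a b hab
      have : a⁻¹ * b ∈ Subgroup.normalizer (H : Set G) := QuotientGroup.leftRel_apply.mp hab
      exact (map_conj_eq_iff H a b).mpr this)
  have hf : ∀ g : G, f (QuotientGroup.mk g) = H.map (MulAut.conj g).toMonoidHom := fun g => rfl
  have hinj : Function.Injective f := by
    intro x y hxy
    induction x using QuotientGroup.induction_on with | _ a => ?_
    induction y using QuotientGroup.induction_on with | _ b => ?_
    rw [hf, hf, map_conj_eq_iff] at hxy
    exact QuotientGroup.eq.mpr hxy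
  have hrange : Set.range f = conjSet H := by
    ext K
    constructor
    · rintro ⟨x, rfl⟩
      induction x using QuotientGroup.induction_on with | _ a => ?_
      exact ⟨a, rfl⟩
    · rintro ⟨g, rfl⟩
      exact ⟨QuotientGroup.mk g, rfl⟩
  rw [← hrange, Set.ncard_range_of_injective hinj, Subgroup.index_eq_card]  -- placeholder

end conjugates

section six

/-- The coset action gives an isomorphism onto the symmetric group of the cosets. -/
theorem exists_iso (H : Subgroup (Perm (Fin 6))) (hH : H.index = 6)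
    [Fintype (Perm (Fin 6) ⧸ H)] [DecidableEq (Perm (Fin 6) ⧸ H)] :
    ∃ φ : Perm (Fin 6) ≃* Perm (Perm (Fin 6) ⧸ H),
      ∀ g, g ∈ H ↔ φ g (QuotientGroup.mk 1) = QuotientGroup.mk 1 := by
  have hinj : Function.Injective (MulAction.toPermHom (Perm (Fin 6)) (Perm (Fin 6) ⧸ H)) := by
    rw [← MonoidHom.ker_eq_bot_iff, ← Subgroup.normalCore_eq_ker]
    exact core_eq_bot (by simp) H (by simpa using hH)
  have hX : Fintype.card (Perm (Fin 6) ⧸ H) = Fintype.card (Fin 6) := by
    rw [← Nat.card_eq_fintype_card, Fintype.card_fin]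
    exact hH
  have hbij := bijective_of_injective hX _ hinj
  refine ⟨MulEquiv.ofBijective _ hbij, fun g => ?_⟩
  rw [MulEquiv.ofBijective_apply, toPermHom_mk_one, mk_eq_mk_one_iff]

theorem normalizer_eq (H : Subgroup (Perm (Fin 6))) (hH : H.index = 6) :
    Subgroup.normalizer (H : Set (Perm (Fin 6))) = H := by
  classical
  haveI : Fintype (Perm (Fin 6) ⧸ H) := Fintype.ofFinite _
  obtain ⟨φ, hφ⟩ := exists_iso H hH
  have hX : Fintype.card (Perm (Fin 6) ⧸ H) = 6 := by
    rw [← Nat.card_eq_fintype_card]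
    exact hH
  apply le_antisymm _ Subgroup.le_normalizer
  intro n hn
  by_contra hnH
  obtain ⟨pt, hpt⟩ : ∃ pt : Perm (Fin 6) ⧸ H, pt = QuotientGroup.mk 1 := ⟨_, rfl⟩
  rw [← hpt] at hφ
  have hx : φ n pt ≠ pt := fun h => hnH ((hφ n).mpr h)
  obtain ⟨z, hz1, hz2⟩ : ∃ z : Perm (Fin 6) ⧸ H, z ≠ pt ∧ z ≠ φ n pt := by
    by_contra hcon
    push Not at hcon
    have : Fintype.card (Perm (Fin 6) ⧸ H) ≤ 2 := by
      calc Fintype.card (Perm (Fin 6) ⧸ H) = (Finset.univ : Finset (Perm (Fin 6) ⧸ H)).card := rfl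
        _ ≤ ({pt, φ n pt} : Finset (Perm (Fin 6) ⧸ H)).card := Finset.card_le_card (fun y _ => by
            by_cases hy : y = pt
            · simp [hy]
            · simp [hcon y hy])
        _ ≤ 2 := Finset.card_le_two
    omega
  obtain ⟨h, hh⟩ := φ.surjective (swap (φ n pt) z)
  have hhH : h ∈ H := by
    rw [hφ, hh]
    exact swap_apply_of_ne_of_ne (Ne.symm hx) (Ne.symm hz1)
  have hk : n⁻¹ * h * n ∈ H := by
    have := (Subgroup.mem_normalizer_iff.mp (Subgroup.inv_mem _ hn) h).mp hhH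
    rwa [inv_inv] at this
  rw [hφ, map_mul, map_mul, map_inv, Perm.mul_apply, Perm.mul_apply, hh, swap_apply_left,
    Perm.inv_eq_iff_eq] at hk
  exact hz2 hk

theorem iso_five (H : Subgroup (Perm (Fin 6))) (hH : H.index = 6) :
    Nonempty (H ≃* Perm (Fin 5)) := by
  classical
  haveI : Fintype (Perm (Fin 6) ⧸ H) := Fintype.ofFinite _
  obtain ⟨φ, hφ⟩ := exists_iso H hH
  have hX : Fintype.card (Perm (Fin 6) ⧸ H) = 6 := by
    rw [← Nat.card_eq_fintype_card]
    exact hH
  obtain ⟨pt, hpt⟩ : ∃ pt : Perm (Fin 6) ⧸ H, pt = QuotientGroup.mk 1 := ⟨_, rfl⟩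
  rw [← hpt] at hφ
  have hmap : H.map φ.toMonoidHom = MulAction.stabilizer (Perm (Perm (Fin 6) ⧸ H)) pt := by
    ext y
    rw [Subgroup.mem_map, MulAction.mem_stabilizer_iff, Perm.smul_def]
    constructor
    · rintro ⟨g, hg, rfl⟩
      exact (hφ g).mp hg
    · intro hy
      obtain ⟨g, rfl⟩ := φ.surjective y
      exact ⟨g, (hφ g).mpr hy, rfl⟩
  have e1 : H ≃* MulAction.stabilizer (Perm (Perm (Fin 6) ⧸ H)) pt :=
    (φ.subgroupMap H).trans (MulEquiv.subgroupCongr hmap)
  have e2 : MulAction.stabilizer (Perm (Perm (Fin 6) ⧸ H)) pt ≃*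
      Perm {x : Perm (Fin 6) ⧸ H // x ≠ pt} := (pointStabEquiv pt).symm
  have hcard : Fintype.card {x : Perm (Fin 6) ⧸ H // x ≠ pt} = 5 := by
    rw [Fintype.card_subtype_compl, Fintype.card_subtype_eq, hX]
  have e3 : {x : Perm (Fin 6) ⧸ H // x ≠ pt} ≃ Fin 5 := Fintype.equivFinOfCardEq hcard
  exact ⟨(e1.trans e2).trans e3.permCongrHom⟩

end six

/-- The symmetric group S_6 has exactly 12 subgroups of index 6; each of them is isomorphic to S_5, and at least one of them is not the stabilizer of any point. -/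
theorem result : Nat.card {H : Subgroup (Equiv.Perm (Fin 6)) // H.index = 6} = 12 ∧ (∀ H : Subgroup (Equiv.Perm (Fin 6)), H.index = 6 → Nonempty (H ≃* Equiv.Perm (Fin 5))) ∧ ∃ H : Subgroup (Equiv.Perm (Fin 6)), H.index = 6 ∧ ∀ a : Fin 6, H ≠ MulAction.stabilizer (Equiv.Perm (Fin 6)) a := by
  obtain ⟨H₁, H₂, h1, h2, hnc, hall⟩ := Cfsg.Agent.S5912.result (Ω := Fin 6) (by simp)
  refine ⟨?_, iso_five, ?_⟩
  · -- the count
    have hset : {H : Subgroup (Perm (Fin 6)) | H.index = 6} = conjSet H₁ ∪ conjSet H₂ := by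
      ext H
      constructor
      · intro hH
        obtain ⟨g, hg | hg⟩ := hall H hH
        · exact Or.inl ⟨g, hg⟩
        · exact Or.inr ⟨g, hg⟩
      · rintro (⟨g, rfl⟩ | ⟨g, rfl⟩)
        · exact (Subgroup.index_map_equiv H₁ (MulAut.conj g)).trans h1
        · exact (Subgroup.index_map_equiv H₂ (MulAut.conj g)).trans h2
    have hdisj : Disjoint (conjSet H₁) (conjSet H₂) := by
      rw [Set.disjoint_left]
      rintro K ⟨g, rfl⟩ ⟨g', hg'⟩
      apply hnc
      refine ⟨g'⁻¹ * g, ?_⟩
      have := congrArg (Subgroup.map (MulAut.conj g'⁻¹).toMonoidHom) hg'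
      rw [← map_conj_mul, ← map_conj_mul, inv_mul_cancel] at this
      rw [← this]
      ext x
      simp
    have hc1 : (conjSet H₁).ncard = 6 := by
      rw [ncard_conjSet, normalizer_eq H₁ h1, h1]
    have hc2 : (conjSet H₂).ncard = 6 := by
      rw [ncard_conjSet, normalizer_eq H₂ h2, h2]
    have : Nat.card {H : Subgroup (Perm (Fin 6)) // H.index = 6} =
        ({H : Subgroup (Perm (Fin 6)) | H.index = 6}).ncard := rfl
    rw [this, hset, Set.ncard_union_eq hdisj (Set.toFinite _) (Set.toFinite _), hc1, hc2]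
  · by_contra hcon
    push Not at hcon
    obtain ⟨a₁, ha₁⟩ := hcon H₁ h1
    obtain ⟨a₂, ha₂⟩ := hcon H₂ h2
    apply hnc
    obtain ⟨g, hg⟩ := MulAction.exists_smul_eq (Perm (Fin 6)) a₁ a₂
    refine ⟨g, ?_⟩
    rw [ha₁, ha₂, ← hg, MulAction.stabilizer_smul_eq_stabilizer_map_conj]

end Cfsg.Agent.S5945
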