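import Cfsg.Statements.S5950
import Mathlib
import Cfsg.Agent.Lib.Helper42.Elusive15
import Cfsg.Agent.Lib.Helper42.Elusive17

set_option autoImplicit false
open scoped MatrixGroups
open Cfsg

namespace Cfsg.Agent.S5950

/-- Elements of prime order of PSL_n(q) fixing no decomposition `F^n = U ⊕ W` with `dim U = m`. Here `T = PSL_n(F)` for a field `F` with `q = p^f` elements (`n ≥ 2`, `(n, q) ≠ (2, 2), (2, 3)`); an element of `T` of prime order `r` is represented by a matrix `x` of determinant 1 with `x^r` scalar and `x` not scalar; `i` denotes the multiplicative order of `q` modulo `r` (when `r ≠ p`), and `(a)_r` the `r`-part of `a`. Let `n ≥ 3`, `1 ≤ m < n/2`, and let `r` be a prime dividing the number of such decompositions (unordered pairs `{U, W}` of complementary subspaces with `dim U = m`; since `m ≠ n − m` these are the ordered pairs with `dim U = m`). Then every element of `T` of order `r` fixes such a pair (fixes both `U` and `W` for some complementary `U, W` with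 `dim U = m`) if and only if one of: (i) `r = p > 2` and every partition of `n` into parts of size at most `p` contains, as a sub-multiset, a partition of `m`; (ii) `r = p = 2` and `n` is odd or `m` is even; (iii) `r ≠ p`, `i = 1`, and `r ∣ m` or `(q−1)_r ≥ (n)_r` (with `q ≡ 1 (mod 4)` required when `r = 2` and `n` is even); (iv) `r ≠ p`, `2 ≤ i ≤ m` and `n mod i ≥ m mod i`. -/
theorem result {F : Type*} [Field F] [Fintype F] {p : ℕ} [Fact p.Prime] [CharP F p] {q : ℕ} (hq : Fintype.card F = q)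
    (n m : ℕ) (hn : 3 ≤ n) (hm : 1 ≤ m) (hmn : 2 * m < n)
    (r : ℕ) [Fact r.Prime]
    (hrΩ : r ∣ Nat.card {P : Submodule F (Fin n → F) × Submodule F (Fin n → F) // IsCompl P.1 P.2 ∧ Module.finrank F ↥P.1 = m}) :
    (∀ x : Matrix.SpecialLinearGroup (Fin n) F,
      (∃ c : F, ((x ^ r : Matrix.SpecialLinearGroup (Fin n) F) : Matrix (Fin n) (Fin n) F) = c • (1 : Matrix (Fin n) (Fin n) F)) →
      (∀ c : F, (x : Matrix (Fin n) (Fin n) F) ≠ c • (1 : Matrix (Fin n) (Fin n) F)) →
      ∃ U W : Submodule F (Fin n → F), IsCompl U W ∧ Module.finrank F ↥U = m ∧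
        U.map (Matrix.toLin' (x : Matrix (Fin n) (Fin n) F)) ≤ U ∧ W.map (Matrix.toLin' (x : Matrix (Fin n) (Fin n) F)) ≤ W) ↔
    ((r = p ∧ 2 < p ∧ (∀ μ : Multiset ℕ, (∀ a ∈ μ, 0 < a ∧ a ≤ p) → μ.sum = n → ∃ ν : Multiset ℕ, ν ≤ μ ∧ ν.sum = m)) ∨
     (r = p ∧ p = 2 ∧ (Odd n ∨ Even m)) ∨
     (r ≠ p ∧
      ((orderOf (q : ZMod r) = 1 ∧ (r ∣ m ∨ (padicValNat r n ≤ padicValNat r (q - 1) ∧ (r = 2 → Even n → q % 4 = 1)))) ∨
       (2 ≤ orderOf (q : ZMod r) ∧ orderOf (q : ZMod r) ≤ m ∧ m % orderOf (q : ZMod r) ≤ n % orderOf (q : ZMod r))))) := by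
  subst hq
  refine Iff.trans (Cfsg.Agent.Helper42.Elusive.sl_forall_iff n r
    (fun f => ∃ U W : Submodule F (Fin n → F), IsCompl U W ∧ Module.finrank F ↥U = m ∧
      U.map f ≤ U ∧ W.map f ≤ W)) ?_
  by_cases hrp : r = p
  · subst hrp
    have hr : r.Prime := Fact.out
    have hcomb : (∀ f : Module.End F (Fin n → F), LinearMap.det f = 1 → (∃ c : F, f ^ r = c • 1) →
        (∀ c : F, f ≠ c • 1) → ∃ U W : Submodule F (Fin n → F), IsCompl U W ∧
          Module.finrank F ↥U = m ∧ U.map f ≤ U ∧ W.map f ≤ W) ↔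
        (∀ μ : Multiset ℕ, (∀ a ∈ μ, 0 < a ∧ a ≤ r) → μ.sum = n →
          ∃ ν : Multiset ℕ, ν ≤ μ ∧ ν.sum = m) := by
      constructor
      · intro hL μ hμ hsum
        exact Cfsg.Agent.Helper42.Elusive.unip_lhs_imp_rhs r n m (by omega) (by omega) hL μ hμ hsum
      · intro hc f hdet ⟨c, hf⟩ _
        exact Cfsg.Agent.Helper42.Elusive.unip_rhs_imp_lhs r n m (by omega) hc f hdet c hf
    rw [hcomb]
    constructor
    · intro h
      rcases hr.eq_two_or_odd' with h2 | hodd
      · right; left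
        refine ⟨rfl, h2, ?_⟩
        subst h2
        exact (Cfsg.Agent.Helper42.Elusive.comb_two_iff n m (by omega)).mp h
      · left
        refine ⟨rfl, ?_, h⟩
        have := hr.two_le
        rcases hodd with ⟨k, hk⟩
        omega
    · rintro (⟨_, _, h⟩ | ⟨_, h2, h⟩ | ⟨hne, _⟩)
      · exact h
      · subst h2
        exact (Cfsg.Agent.Helper42.Elusive.comb_two_iff n m (by omega)).mpr h
      · exact absurd rfl hne
  · constructor
    · intro hL
      right; right
      refine ⟨hrp, ?_⟩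
      have hG := Cfsg.Agent.Helper42.Elusive.dvd_card_grass_of_dvd_card_pairs p n m r hrp hrΩ
      have hL' : ∀ f : Module.End F (Fin n → F), LinearMap.det f = 1 → (∃ c : F, f ^ r = c • 1) →
          (∀ c : F, f ≠ c • 1) → ∃ W : Submodule F (Fin n → F), Module.finrank F ↥W = m ∧
            W.map f ≤ W := by
        intro f hdet hc hns
        obtain ⟨U, W, _, hUd, hU, _⟩ := hL f hdet hc hns
        exact ⟨U, hUd, hU⟩
      have hi0 := Cfsg.Agent.Helper42.Elusive.orderOf_card_pos (F := F) p r hrp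
      by_cases hi1 : orderOf ((Fintype.card F : ℕ) : ZMod r) = 1
      · left
        exact ⟨hi1, Cfsg.Agent.Helper42.Elusive.lhs_imp_rhs_one n m (by omega) r
          ((Cfsg.Agent.Helper42.Elusive.orderOf_eq_one_iff_dvd r _ Fintype.card_pos).mp hi1) hL'⟩
      · right
        have hi2 : 2 ≤ orderOf ((Fintype.card F : ℕ) : ZMod r) := by omega
        have hlt := Cfsg.Agent.Helper42.Elusive.mod_lt_of_dvd_card_grass (F := F) n m (by omega) r hG
        obtain ⟨h1, h2⟩ := Cfsg.Agent.Helper42.Elusive.lhs_imp_rhs_big p n m hm (by omega) r hrp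
          hi2 hlt hL'
        exact ⟨hi2, h1, h2⟩
    · rintro (⟨h, _⟩ | ⟨h, _⟩ | ⟨_, hR⟩) f hdet ⟨c, hc⟩ _
      · exact absurd h hrp
      · exact absurd h hrp
      · obtain ⟨U, hUd, hU⟩ := Cfsg.Agent.Helper42.Elusive.rhs_imp_lhs p n m (by omega) (by omega)
          r hrp hR f hdet c hc
        obtain ⟨W, hc', hW⟩ := Cfsg.Agent.Helper42.Elusive.exists_compl_of_pow_eq_smul p n
          (by omega) r hrp f hdet c hc U hU
        exact ⟨U, W, hc', hUd, hU, hW⟩

end Cfsg.Agent.S5950
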