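import Cfsg.Statements.S5951
import Mathlib
import Cfsg.Agent.Lib.Helper42.Elusive13

set_option autoImplicit false
open scoped MatrixGroups
open Cfsg

namespace Cfsg.Agent.S5951

/-- Elements of prime order of PSL_n(q) fixing no pair of subspaces `U < W` with `dim U = m`, `dim W = n − m`. Here `T = PSL_n(F)` for a field `F` with `q = p^f` elements (`n ≥ 2`, `(n, q) ≠ (2, 2), (2, 3)`); an element of `T` of prime order `r` is represented by a matrix `x` of determinant 1 with `x^r` scalar and `x` not scalar; `i` denotes the multiplicative order of `q` modulo `r` (when `r ≠ p`), and `(a)_r` the `r`-part of `a`. Let `1 ≤ m < n/2` and let `r` be a prime dividing the number of such pairs. Then every element of `T` of order `r` fixes such a pair (both `U` and `W`) if and only if `r ≠ p` and either (i) `i = 1` and (`r ∣ m`, or `(q−1)_r ≥ (n)_r` with `q ≡ 1 (mod 4)` required when `r = 2` and `n` is even), or (ii) `2 ≤ i ≤ m` and `n mod i ≥ 2 (m mod i)`.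 -/
theorem result {F : Type*} [Field F] [Fintype F] {p : ℕ} [Fact p.Prime] [CharP F p] {q : ℕ} (hq : Fintype.card F = q)
    (n m : ℕ) (hn : 2 ≤ n) (hT : (n, q) ≠ (2, 2) ∧ (n, q) ≠ (2, 3)) (hm : 1 ≤ m) (hmn : 2 * m < n)
    (r : ℕ) [Fact r.Prime]
    (hrΩ : r ∣ Nat.card {P : Submodule F (Fin n → F) × Submodule F (Fin n → F) //
        P.1 ≤ P.2 ∧ Module.finrank F ↥P.1 = m ∧ Module.finrank F ↥P.2 = n - m}) :
    (∀ x : Matrix.SpecialLinearGroup (Fin n) F,
      (∃ c : F, ((x ^ r : Matrix.SpecialLinearGroup (Fin n) F) : Matrix (Fin n) (Fin n) F) = c • (1 : Matrix (Fin n) (Fin n) F)) →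
      (∀ c : F, (x : Matrix (Fin n) (Fin n) F) ≠ c • (1 : Matrix (Fin n) (Fin n) F)) →
      ∃ U W : Submodule F (Fin n → F), U ≤ W ∧ Module.finrank F ↥U = m ∧ Module.finrank F ↥W = n - m ∧
        U.map (Matrix.toLin' (x : Matrix (Fin n) (Fin n) F)) ≤ U ∧ W.map (Matrix.toLin' (x : Matrix (Fin n) (Fin n) F)) ≤ W) ↔
    (r ≠ p ∧
      ((orderOf (q : ZMod r) = 1 ∧ (r ∣ m ∨ (padicValNat r n ≤ padicValNat r (q - 1) ∧ (r = 2 → Even n → q % 4 = 1)))) ∨
       (2 ≤ orderOf (q : ZMod r) ∧ orderOf (q : ZMod r) ≤ m ∧ 2 * (m % orderOf (q : ZMod r)) ≤ n % orderOf (q : ZMod r)))) := by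
  subst hq
  refine Iff.trans (Cfsg.Agent.Helper42.Elusive.sl_forall_iff n r
    (fun f => ∃ U W : Submodule F (Fin n → F), U ≤ W ∧ Module.finrank F ↥U = m ∧
      Module.finrank F ↥W = n - m ∧ U.map f ≤ U ∧ W.map f ≤ W)) ?_
  constructor
  · intro hL
    by_cases hrp : r = p
    · exfalso
      subst hrp
      exact Cfsg.Agent.Helper42.Elusive.not_dvd_card_flags_char r n m hmn hrΩ
    · refine ⟨hrp, ?_⟩
      have hi0 := Cfsg.Agent.Helper42.Elusive.orderOf_card_pos (F := F) p r hrp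
      by_cases hi1 : orderOf ((Fintype.card F : ℕ) : ZMod r) = 1
      · left
        refine ⟨hi1, Cfsg.Agent.Helper42.Elusive.lhs_imp_rhs_one n m hn r
          ((Cfsg.Agent.Helper42.Elusive.orderOf_eq_one_iff_dvd r _ Fintype.card_pos).mp hi1) ?_⟩
        intro f hdet hc hns
        obtain ⟨U, W, _, hUd, _, hU, _⟩ := hL f hdet hc hns
        exact ⟨U, hUd, hU⟩
      · right
        have hi2 : 2 ≤ orderOf ((Fintype.card F : ℕ) : ZMod r) := by omega
        have hΩ := Cfsg.Agent.Helper42.Elusive.cases_of_dvd_card_flags (F := F) n m hmn r hrΩ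
        obtain ⟨h1, h2⟩ := Cfsg.Agent.Helper42.Elusive.lhs_imp_rhs_big_flags p n m hm hmn r hrp
          hi2 hΩ hL
        exact ⟨hi2, h1, h2⟩
  · rintro ⟨hrp, hR⟩ f hdet ⟨c, hc⟩ _
    exact Cfsg.Agent.Helper42.Elusive.rhs_imp_lhs_flags p n m hn hmn r hrp hR f hdet c hc

end Cfsg.Agent.S5951
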