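import Cfsg.Statements.S5952
import Mathlib

set_option autoImplicit false
open Cfsg

namespace Cfsg.Agent.S5952

section aux
variable {F V : Type*} [Field F] [AddCommGroup V] [Module F V] [FiniteDimensional F V]

theorem exists_le_finrank_eq (E : Submodule F V) (d : ℕ) (hd : d ≤ Module.finrank F E) :
    ∃ E' : Submodule F V, E' ≤ E ∧ Module.finrank F E' = d := by
  let b := Module.finBasis F E
  let g : Fin d → V := fun i => (b (Fin.castLE hd i) : V)
  have hli : LinearIndependent F g := by
    have := b.linearIndependent.comp (Fin.castLE hd) (Fin.castLE_injective hd)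
    exact this.map' E.subtype (Submodule.ker_subtype E)
  refine ⟨Submodule.span F (Set.range g), ?_, ?_⟩
  · rw [Submodule.span_le]; rintro _ ⟨i, rfl⟩; exact (b _).2
  · rw [finrank_span_eq_card hli]; simp

theorem disjoint_biSup {ι : Type*} {A : ι → Submodule F V} (hA : iSupIndep A)
    (k : ι) (T : Finset ι) (hk : k ∉ T) : Disjoint (A k) (⨆ i ∈ T, A i) := by
  refine (hA k).mono_right ?_
  refine iSup₂_le fun i hi => ?_
  exact le_iSup₂_of_le i (fun h => hk (h ▸ hi)) le_rfl

theorem finrank_biSup {ι : Type*} [DecidableEq ι] {A : ι → Submodule F V} (hA : iSupIndep A)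
    (T : Finset ι) : Module.finrank F ↥(⨆ i ∈ T, A i) = ∑ i ∈ T, Module.finrank F (A i) := by
  induction T using Finset.induction_on with
  | empty => simp
  | insert k T hk ih =>
    rw [Finset.iSup_insert, Finset.sum_insert hk, ← ih]
    have h := Submodule.finrank_sup_add_finrank_inf_eq (A k) (⨆ i ∈ T, A i)
    rw [(disjoint_biSup hA k T hk).eq_bot] at h
    simpa using h

theorem filtration {ι : Type*} [DecidableEq ι] {A : ι → Submodule F V} (hA : iSupIndep A)
    (f : V →ₗ[F] V) (hAinv : ∀ i, (A i).map f ≤ A i) (T : Finset ι) :
    ∀ W : Submodule F V, W ≤ ⨆ i ∈ T, A i → W.map f ≤ W →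
      ∃ W' : ι → Submodule F V, (∀ i, W' i ≤ A i ∧ (W' i).map f ≤ W' i) ∧
        Module.finrank F W = ∑ i ∈ T, Module.finrank F (W' i) := by
  induction T using Finset.induction_on with
  | empty =>
    intro W hW _
    refine ⟨fun _ => ⊥, fun i => ⟨bot_le, by simp⟩, ?_⟩
    have : W = ⊥ := by simpa using hW
    subst this
    simp
  | insert k T hk ih =>
    intro W hW hWinv
    rw [Finset.iSup_insert] at hW
    set B := ⨆ i ∈ T, A i with hB
    have hBinv : B.map f ≤ B := by
      rw [hB, Submodule.map_iSup]
      refine iSup_le fun i => ?_
      rw [Submodule.map_iSup]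
      refine iSup_le fun hi => ?_
      exact le_iSup₂_of_le i hi (hAinv i)
    have hWBinv : (W ⊓ B).map f ≤ W ⊓ B :=
      le_inf ((Submodule.map_mono inf_le_left).trans hWinv)
        ((Submodule.map_mono inf_le_right).trans hBinv)
    obtain ⟨W'', hW''1, hW''2⟩ := ih (W ⊓ B) inf_le_right hWBinv
    set C := (W ⊔ B) ⊓ A k with hC
    have hCinv : C.map f ≤ C := by
      refine le_inf ((Submodule.map_mono inf_le_left).trans ?_)
        ((Submodule.map_mono inf_le_right).trans (hAinv k))
      rw [Submodule.map_sup]
      exact sup_le_sup hWinv hBinv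
    refine ⟨Function.update W'' k C, ?_, ?_⟩
    · intro i
      by_cases hik : i = k
      · subst hik
        simp only [Function.update_self]
        exact ⟨inf_le_right, hCinv⟩
      · simp only [Function.update_of_ne hik]
        exact hW''1 i
    · rw [Finset.sum_insert hk, Function.update_self]
      have hsum : ∑ i ∈ T, Module.finrank F (Function.update W'' k C i) =
          ∑ i ∈ T, Module.finrank F (W'' i) := by
        refine Finset.sum_congr rfl fun i hi => ?_
        have : i ≠ k := fun h => hk (h ▸ hi)
        rw [Function.update_of_ne this]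
      rw [hsum, ← hW''2]
      have hdisj : Disjoint (A k) B := disjoint_biSup hA k T hk
      have h1 := Submodule.finrank_sup_add_finrank_inf_eq W B
      have h2 := Submodule.finrank_sup_add_finrank_inf_eq C B
      have hCB : C ⊓ B = ⊥ := by
        refine le_bot_iff.mp ?_
        calc C ⊓ B ≤ A k ⊓ B := inf_le_inf_right _ inf_le_right
          _ = ⊥ := hdisj.eq_bot
      have hCB' : C ⊔ B = W ⊔ B := by
        rw [hC]
        -- modular law
        have : (W ⊔ B) ⊓ A k ⊔ B = (W ⊔ B) ⊓ (A k ⊔ B) := by
          have h := sup_inf_assoc_of_le (A k) (le_sup_right : B ≤ W ⊔ B)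
          rw [sup_comm, inf_comm, ← h, inf_comm, sup_comm B]
        rw [this]
        exact inf_eq_left.mpr (sup_le hW le_sup_right)
      rw [hCB, hCB'] at h2
      simp only [finrank_bot, add_zero] at h2
      omega

end aux

/-- Which dimensions of invariant subspaces a semisimple linear map has. Let `V` be a finite-dimensional vector space over a field `F` and `f` an invertible semisimple linear map of `V`. Suppose `V` is the internal direct sum of the fixed space `C_V(f)` (the eigenspace for 1) and subspaces `U_1, …, U_s`, each `f`-invariant of dimension `a ≥ 1` on which `f` acts irreducibly (no `f`-invariant subspaces other than 0 and `U_j`). Let `0 < m < dim V` and `ℓ = m mod a`. Then `f` leaves some `m`-dimensional subspace invariant if and only if `dim C_V(f) ≥ m`, or `a ≤ m` and `dim C_V(f) ≥ ℓ`. -/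
theorem result {F V : Type*} [Field F] [AddCommGroup V] [Module F V]
    [FiniteDimensional F V] (f : V →ₗ[F] V) (hf : Function.Bijective f) (hss : Module.End.IsSemisimple f)
    {s a : ℕ} (ha : 1 ≤ a) (U : Fin s → Submodule F V)
    (hUinv : ∀ j, (U j).map f ≤ U j) (hUdim : ∀ j, Module.finrank F ↥(U j) = a)
    (hUirr : ∀ j, ∀ W : Submodule F V, W ≤ U j → W.map f ≤ W → W = ⊥ ∨ W = U j)
    (hdec : DirectSum.IsInternal (fun o : Option (Fin s) => o.elim (Module.End.eigenspace f 1) U))
    (m : ℕ) (hm : 0 < m) (hmV : m < Module.finrank F V) :
    (∃ W : Submodule F V, Module.finrank F ↥W = m ∧ W.map f ≤ W) ↔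
    (m ≤ Module.finrank F ↥(Module.End.eigenspace f 1) ∨
      (a ≤ m ∧ m % a ≤ Module.finrank F ↥(Module.End.eigenspace f 1))) := by
  classical
  set E := Module.End.eigenspace f 1 with hE
  set A : Option (Fin s) → Submodule F V := fun o => o.elim E U with hAdef
  have hind : iSupIndep A := hdec.submodule_iSupIndep
  have htop : (⨆ i, A i) = ⊤ := hdec.submodule_iSup_eq_top
  have hEfix : ∀ x ∈ E, f x = x := by
    intro x hx
    simpa using Module.End.mem_eigenspace_iff.mp hx
  have hEinv : E.map f ≤ E := by
    rintro _ ⟨x, hx, rfl⟩
    rw [hEfix x hx]; exact hx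
  have hAinv : ∀ o, (A o).map f ≤ A o := by
    intro o
    cases o with
    | none => exact hEinv
    | some j => exact hUinv j
  have hdimV : Module.finrank F V = Module.finrank F E + a * s := by
    have h := finrank_biSup hind Finset.univ
    have e : (⨆ i ∈ Finset.univ, A i) = ⊤ := by simp [htop]
    rw [e, finrank_top, Fintype.sum_option] at h
    have hAsome : ∀ j, Module.finrank F (A (some j)) = a := fun j => hUdim j
    have hAnone : Module.finrank F (A none) = Module.finrank F E := rfl
    simp only [hAsome, hAnone, Finset.sum_const, Finset.card_univ, Fintype.card_fin,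
      smul_eq_mul] at h
    rw [h, mul_comm]
  constructor
  · rintro ⟨W, hWm, hWinv⟩
    obtain ⟨W', hW'1, hW'2⟩ := filtration hind f hAinv Finset.univ W (by simp [htop]) hWinv
    rw [Fintype.sum_option] at hW'2
    have ht : Module.finrank F (W' none) ≤ Module.finrank F E :=
      Submodule.finrank_mono (hW'1 none).1
    have hdvd : a ∣ ∑ j, Module.finrank F (W' (some j)) := by
      apply Finset.dvd_sum
      intro j _
      rcases hUirr j (W' (some j)) (hW'1 (some j)).1 (hW'1 (some j)).2 with h | h
      · rw [h]; simp
      · rw [h, hUdim]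
    obtain ⟨u, hu⟩ := hdvd
    rw [hu, hWm] at hW'2
    rcases Nat.eq_zero_or_pos u with rfl | hupos
    · left; omega
    · right
      constructor
      · nlinarith
      · calc m % a = (Module.finrank F (W' none) + a * u) % a := by rw [hW'2]
          _ = Module.finrank F (W' none) % a := Nat.add_mul_mod_self_left _ _ _
          _ ≤ Module.finrank F (W' none) := Nat.mod_le _ _
          _ ≤ _ := ht
  · intro h
    obtain ⟨j, d, hjs, hjd, hde⟩ : ∃ j d, j ≤ s ∧ a * j + d = m ∧ d ≤ Module.finrank F E := by
      rcases h with h | ⟨h1, h2⟩
      · exact ⟨0, m, Nat.zero_le _, by simp, h⟩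
      · by_cases hk : m / a ≤ s
        · exact ⟨m / a, m % a, hk, Nat.div_add_mod m a, h2⟩
        · have h3 : a * s ≤ m := by
            calc a * s ≤ a * (m / a) := Nat.mul_le_mul_left _ (by omega)
              _ ≤ m := Nat.mul_div_le m a
          exact ⟨s, m - a * s, le_rfl, by omega, by omega⟩
    obtain ⟨E', hE'le, hE'dim⟩ := exists_le_finrank_eq E d hde
    set B : Option (Fin s) → Submodule F V :=
      fun o => o.elim E' (fun i => if i.val < j then U i else ⊥) with hBdef
    have hBle : B ≤ A := by
      intro o
      cases o with
      | none => exact hE'le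
      | some i =>
        simp only [B, A, Option.elim]
        split_ifs
        · exact le_rfl
        · exact bot_le
    have hBind : iSupIndep B := hind.mono hBle
    refine ⟨⨆ o, B o, ?_, ?_⟩
    · have h := finrank_biSup hBind Finset.univ
      have e : (⨆ i ∈ Finset.univ, B i) = ⨆ i, B i := by simp
      rw [e] at h
      rw [h, Fintype.sum_option]
      have hBnone : Module.finrank F (B none) = d := hE'dim
      have hBsome : ∀ i : Fin s, Module.finrank F (B (some i)) =
          if i.val < j then a else 0 := by
        intro i
        show Module.finrank F ↥(if i.val < j then U i else ⊥) = _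
        by_cases hij : i.val < j
        · have e1 : (if i.val < j then U i else ⊥) = U i := if_pos hij
          rw [e1, if_pos hij]
          exact hUdim i
        · have e1 : (if i.val < j then U i else (⊥ : Submodule F V)) = ⊥ := if_neg hij
          rw [e1, if_neg hij]
          simp
      simp only [hBnone, hBsome]
      rw [Fin.sum_univ_eq_sum_range (fun i => if i < j then a else 0) s, Finset.sum_ite]
      have h5 : Finset.filter (fun i => i < j) (Finset.range s) = Finset.range j := by
        ext i
        simp only [Finset.mem_filter, Finset.mem_range]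
        omega
      rw [h5]
      simp only [Finset.sum_const, Finset.card_range, smul_eq_mul, mul_zero, add_zero]
      rw [mul_comm] at hjd
      omega
    · rw [Submodule.map_iSup]
      refine iSup_le fun o => le_iSup_of_le o ?_
      cases o with
      | none =>
        rintro _ ⟨x, hx, rfl⟩
        rw [hEfix x (hE'le hx)]
        exact hx
      | some i =>
        simp only [B, Option.elim]
        split_ifs
        · exact hUinv i
        · simp

end Cfsg.Agent.S5952
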