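import Cfsg.Statements.S5957
import Mathlib
import Cfsg.Agent.Lib.Helper96.InvolDecomp

set_option autoImplicit false
open scoped MatrixGroups
open Cfsg

namespace Cfsg.Agent.S5957

/-- Involutions of PSL_n(q) and imprimitive subgroups: every involution stabilizes a decomposition into
`t` subspaces of dimension `a`. (The parity hypothesis is not needed.) -/
theorem result {F : Type*} [Field F] [Fintype F] {p : ℕ} [Fact p.Prime] [CharP F p] {q : ℕ} (hq : Fintype.card F = q)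
    (n a t : ℕ) (hn : 2 ≤ n) (hT : (n, q) ≠ (2, 2) ∧ (n, q) ≠ (2, 3)) (hat : n = a * t) (ha : 1 ≤ a) (ht : 2 ≤ t)
    (hΩ : 2 ∣ Nat.card {D : Fin t → Submodule F (Fin n → F) // Cfsg.Geo.IsMDecomposition a D} / Nat.factorial t)
    (x : Matrix.SpecialLinearGroup (Fin n) F)
    (hx1 : ∃ z : F, ((x ^ 2 : Matrix.SpecialLinearGroup (Fin n) F) : Matrix (Fin n) (Fin n) F) = z • (1 : Matrix (Fin n) (Fin n) F))
    (hx2 : ∀ z : F, (x : Matrix (Fin n) (Fin n) F) ≠ z • (1 : Matrix (Fin n) (Fin n) F)) :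
    ∃ D : Fin t → Submodule F (Fin n → F), Cfsg.Geo.IsMDecomposition a D ∧
        ∃ σ : Equiv.Perm (Fin t), ∀ j, (D j).map (Matrix.toLin' (x : Matrix (Fin n) (Fin n) F)) = D (σ j) := by
  obtain ⟨z, hz⟩ := hx1
  have hz0 : z ≠ 0 := by
    rintro rfl
    rw [zero_smul] at hz
    have hdet : ((x ^ 2 : Matrix.SpecialLinearGroup (Fin n) F) : Matrix (Fin n) (Fin n) F).det = 1 :=
      (x ^ 2).2
    haveI : Nonempty (Fin n) := ⟨⟨0, by omega⟩⟩
    rw [hz, Matrix.det_zero] at hdet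
    exact zero_ne_one hdet
  have hmul : (x : Matrix (Fin n) (Fin n) F) * (x : Matrix (Fin n) (Fin n) F)
      = z • (1 : Matrix (Fin n) (Fin n) F) := by
    rw [← hz]; simp [pow_two]
  have hxx : ∀ v, Matrix.toLin' (x : Matrix (Fin n) (Fin n) F)
      (Matrix.toLin' (x : Matrix (Fin n) (Fin n) F) v) = z • v := by
    intro v
    rw [← LinearMap.comp_apply, ← Matrix.toLin'_mul, hmul]
    simp
  obtain ⟨D, hD1, hD2, hD3, σ, hσ⟩ :=
    Cfsg.Agent.Helper96.InvolDecomp.exists_decomposition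
      (Matrix.toLin' (x : Matrix (Fin n) (Fin n) F)) z hz0 hxx a t ha
      (by rw [Module.finrank_fin_fun, hat])
  exact ⟨D, ⟨ht, ha, hD1, hD2, hD3⟩, σ, hσ⟩

end Cfsg.Agent.S5957
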