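import Mathlib
import Cfsg.Prelude.Def_GeometricClasses
import Cfsg.Agent.Lib.Helper14.JType

set_option autoImplicit false
open scoped MatrixGroups

namespace Cfsg.Agent.S5959

open Module Cfsg.Agent.Helper42.Jordan Cfsg.Agent.Helper14.JType

theorem decomp_lemma {F : Type*} [Field F] {p : ℕ} [Fact p.Prime] [CharP F p]
    (n a t : ℕ) (X : Module.End F (Fin n → F)) (hXp : X ^ p = 1)
    (D : Fin t → Submodule F (Fin n → F)) (hD : Cfsg.Geo.IsMDecomposition a D)
    (σ : Equiv.Perm (Fin t)) (hσ : ∀ j, (D j).map X = D (σ j))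
    (μ : Multiset ℕ) (hμ0 : ∀ e ∈ μ, 0 < e) (hμp : ∀ e ∈ μ, e ≤ p)
    (hμ : ∀ k, rk (X - 1) k = rsum μ k) (hcount : μ.count p < a) :
    ∃ ν : Multiset ℕ, ν ≤ μ ∧ ν.sum = a := by
  have hp : p.Prime := Fact.out
  have hnil : IsNilpotent (X - 1) :=
    ⟨p, by rw [← rk_eq_zero_iff, hμ, rsum_eq_zero_of_le _ _ hμp]⟩
  have hXmem : ∀ j, ∀ x ∈ D j, X x ∈ D (σ j) := by
    intro j x hx
    rw [← hσ j]
    exact Submodule.mem_map_of_mem hx
  by_cases hfix : ∃ j, σ j = j
  · obtain ⟨j, hj⟩ := hfix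
    have hc : IsCompl (D j) (⨆ (k) (_ : k ≠ j), D k) := by
      refine ⟨hD.indep j, ?_⟩
      rw [codisjoint_iff, ← iSup_split_single, hD.iSup_eq_top]
    have hW : ∀ x ∈ D j, (X - 1) x ∈ D j := by
      intro x hx
      have h1 := hXmem j x hx
      rw [hj] at h1
      rw [LinearMap.sub_apply, Module.End.one_apply]
      exact Submodule.sub_mem _ h1 hx
    have hXW' : ∀ x ∈ (⨆ (k) (_ : k ≠ j), D k), X x ∈ (⨆ (k) (_ : k ≠ j), D k) := by
      have : (⨆ (k) (_ : k ≠ j), D k) ≤ (⨆ (k) (_ : k ≠ j), D k).comap X := by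
        apply iSup₂_le
        intro k hk x hx
        rw [Submodule.mem_comap]
        have hσk : σ k ≠ j := by
          intro h
          apply hk
          apply σ.injective
          rw [h, hj]
        exact le_iSup₂ (f := fun (k : Fin t) (_ : k ≠ j) => D k) (σ k) hσk (hXmem k x hx)
      exact fun x hx => this hx
    have hW' : ∀ x ∈ (⨆ (k) (_ : k ≠ j), D k), (X - 1) x ∈ (⨆ (k) (_ : k ≠ j), D k) := by
      intro x hx
      rw [LinearMap.sub_apply, Module.End.one_apply]
      exact Submodule.sub_mem _ (hXW' x hx) hx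
    obtain ⟨ν, hν, -, hνs, -⟩ := exists_sub_jtype (X - 1) hnil _ _ hc hW hW' μ hμ0 hμ
    exact ⟨ν, hν, by rw [hνs, hD.finrank_eq]⟩
  · exfalso
    have hnofix : ∀ j, σ j ≠ j := fun j hj => hfix ⟨j, hj⟩
    have ht := hD.two_le
    let j0 : Fin t := ⟨0, by omega⟩
    have hpow : ∀ (i : ℕ) (j : Fin t), (D j).map (X ^ i) = D ((σ ^ i) j) := by
      intro i
      induction i with
      | zero => intro j; simp [Module.End.one_eq_id]
      | succ i ih =>
        intro j
        rw [pow_succ, Module.End.mul_eq_comp, Submodule.map_comp, hσ, ih, pow_succ,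
          Equiv.Perm.mul_apply]
    have hDne : ∀ i, D i ≠ ⊥ := by
      intro i hi
      have := hD.finrank_eq i
      rw [hi, finrank_bot] at this
      have := hD.pos
      omega
    have hDinj : Function.Injective D := hD.indep.injective hDne
    have hper : (σ ^ p) j0 = j0 := by
      apply hDinj
      rw [← hpow, hXp, Module.End.one_eq_id, Submodule.map_id]
    have hne : ∀ i, 0 < i → i < p → (σ ^ i) j0 ≠ j0 := by
      intro i hi0 hip hij
      have h1 : Function.IsPeriodicPt σ p j0 := by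
        rw [Function.IsPeriodicPt, Function.IsFixedPt, Equiv.Perm.iterate_eq_pow]; exact hper
      have h2 : Function.IsPeriodicPt σ i j0 := by
        rw [Function.IsPeriodicPt, Function.IsFixedPt, Equiv.Perm.iterate_eq_pow]; exact hij
      have d1 := h1.minimalPeriod_dvd
      have d2 := h2.minimalPeriod_dvd
      rcases (Nat.dvd_prime hp).mp d1 with h | h
      · rw [Function.minimalPeriod_eq_one_iff_isFixedPt] at h
        exact hnofix j0 h
      · rw [h] at d2
        have := Nat.le_of_dvd hi0 d2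
        omega
    have hinj : ∀ v ∈ D j0, ((X - 1) ^ (p - 1)) v = 0 → v = 0 := by
      intro v hv h0
      rw [alg_sub_one_pow_pred (F := F) p X] at h0
      obtain ⟨p', hp'⟩ : ∃ p', p = p' + 1 := ⟨p - 1, by have := hp.one_le; omega⟩
      rw [hp', Finset.sum_range_succ', LinearMap.add_apply, pow_zero, Module.End.one_apply,
        LinearMap.sum_apply] at h0
      have hmem : ∑ i ∈ Finset.range p', (X ^ (i + 1)) v ∈ (⨆ (k) (_ : k ≠ j0), D k) := by
        apply Submodule.sum_mem
        intro i hi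
        rw [Finset.mem_range] at hi
        have h1 : (X ^ (i + 1)) v ∈ D ((σ ^ (i + 1)) j0) := by
          rw [← hpow]
          exact Submodule.mem_map_of_mem hv
        exact le_iSup₂ (f := fun (k : Fin t) (_ : k ≠ j0) => D k) _
          (hne (i + 1) (by omega) (by omega)) h1
      have hv' : v = -∑ i ∈ Finset.range p', (X ^ (i + 1)) v := by
        rw [eq_neg_iff_add_eq_zero, add_comm]; exact h0
      have hmem' : v ∈ (⨆ (k) (_ : k ≠ j0), D k) := by
        rw [hv']; exact Submodule.neg_mem _ hmem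
      exact (Submodule.disjoint_def.mp (hD.indep j0)) v hv hmem'
    have h1 := finrank_le_rk (X - 1) (p - 1) (D j0) hinj
    rw [hD.finrank_eq, hμ, rsum_pred_eq_count μ p hp.pos hμp] at h1
    omega

theorem result {F : Type*} [Field F] [Fintype F] {p : ℕ} [Fact p.Prime] [CharP F p] {q : ℕ} (hq : Fintype.card F = q)
    (n a t : ℕ) (hn : 2 ≤ n) (hT : (n, q) ≠ (2, 2) ∧ (n, q) ≠ (2, 3)) (hat : n = a * t) (ha : 1 ≤ a) (ht : 2 ≤ t)
    (hp : 2 < p) (hΩ : p ∣ Nat.card {D : Fin t → Submodule F (Fin n → F) // Cfsg.Geo.IsMDecomposition a D} / Nat.factorial t)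
    (h : ∀ x : Matrix.SpecialLinearGroup (Fin n) F,
      (∃ z : F, ((x ^ p : Matrix.SpecialLinearGroup (Fin n) F) : Matrix (Fin n) (Fin n) F) = z • (1 : Matrix (Fin n) (Fin n) F)) →
      (∀ z : F, (x : Matrix (Fin n) (Fin n) F) ≠ z • (1 : Matrix (Fin n) (Fin n) F)) →
      ∃ D : Fin t → Submodule F (Fin n → F), Cfsg.Geo.IsMDecomposition a D ∧
        ∃ σ : Equiv.Perm (Fin t), ∀ j, (D j).map (Matrix.toLin' (x : Matrix (Fin n) (Fin n) F)) = D (σ j)) :
    (∀ μ : Multiset ℕ, (∀ b ∈ μ, 0 < b ∧ b ≤ p) → μ.sum = n → μ.count p < a → ∃ ν : Multiset ℕ, ν ≤ μ ∧ ν.sum = a) := by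
  intro μ hμ hsum hcount
  have hpp : p.Prime := Fact.out
  by_cases hones : ∀ e ∈ μ, e ≤ 1
  · have h1 : ∀ e ∈ μ, e = 1 := fun e he => le_antisymm (hones e he) (hμ e he).1
    have h2 := Multiset.eq_replicate_card.mpr h1
    have h3 : Multiset.card μ = n := by
      rw [h2, Multiset.sum_replicate, smul_eq_mul, mul_one] at hsum
      exact hsum
    refine ⟨Multiset.replicate a 1, ?_, by simp⟩
    rw [h2, h3, Multiset.replicate_le_replicate]
    rw [hat]
    nlinarith
  · obtain ⟨N, hN⟩ := exists_matrix (K := F) n μ.toList (by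
      rw [← Multiset.sum_coe, Multiset.coe_toList, hsum])
    have hNr : ∀ k, rk (Matrix.toLin' N) k = rsum μ k := by
      intro k
      rw [hN k, rsum]
      conv_rhs => rw [← Multiset.coe_toList μ]
      rw [Multiset.map_coe, Multiset.sum_coe]
    have hNp : N ^ p = 0 := by
      rw [← mrk_eq_zero_iff, mrk, hNr, rsum_eq_zero_of_le _ _ (fun e he => (hμ e he).2)]
    have hxp : (1 + N) ^ p = 1 := by
      have := sub_one_pow_char p (1 + N) 1
      rw [pow_one, add_sub_cancel_left, hNp] at this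
      exact (sub_eq_zero.mp this.symm)
    have hdet : (1 + N).det = 1 := by
      have h1 : (1 + N).det ^ p = 1 := by rw [← Matrix.det_pow, hxp, Matrix.det_one]
      have h2 : ((1 + N).det - 1) ^ p = 0 := by rw [sub_pow_char, h1, one_pow, sub_self]
      exact sub_eq_zero.mp ((pow_eq_zero_iff hpp.pos.ne').mp h2)
    obtain ⟨x, hx⟩ : ∃ x : Matrix.SpecialLinearGroup (Fin n) F,
        (x : Matrix (Fin n) (Fin n) F) = 1 + N := ⟨⟨1 + N, hdet⟩, rfl⟩
    obtain ⟨D, hD, σ, hσ⟩ := h x ⟨1, by
      rw [Matrix.SpecialLinearGroup.coe_pow, hx]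
      simp only [one_smul]
      exact hxp⟩ (by
      intro z hz
      rw [hx] at hz
      have hNz : N = (z - 1) • (1 : Matrix (Fin n) (Fin n) F) := by
        rw [sub_smul, one_smul, ← hz]; abel
      have hz1 : z = 1 := by
        have h1 := hNp
        rw [hNz, smul_pow, one_pow] at h1
        have h2 := congrFun (congrFun h1 ⟨0, by omega⟩) ⟨0, by omega⟩
        simp only [Matrix.smul_apply, Matrix.one_apply_eq, smul_eq_mul, mul_one,
          Matrix.zero_apply] at h2
        exact sub_eq_zero.mp ((pow_eq_zero_iff hpp.pos.ne').mp h2)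
      have hN0 : N = 0 := by rw [hNz, hz1, sub_self, zero_smul]
      apply hones
      rw [← rsum_one_eq_zero_iff, ← hNr, hN0, rk_eq_zero_iff, map_zero, pow_one])
    rw [hx] at hσ
    apply decomp_lemma (p := p) n a t (Matrix.toLin' (1 + N)) ?_ D hD σ hσ μ
      (fun e he => (hμ e he).1) (fun e he => (hμ e he).2) ?_ hcount
    · rw [← Matrix.toLin'_pow, hxp, Matrix.toLin'_one]; rfl
    · intro k
      rw [← hNr k]
      congr 1
      rw [map_add, Matrix.toLin'_one]
      exact add_sub_cancel_left _ _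

end Cfsg.Agent.S5959
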