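import Cfsg.Statements.S5960
import Mathlib
import Cfsg.Agent.Lib.Helper96.SympDecompMain
import Cfsg.Agent.Lib.Helper13.SympGeom

set_option autoImplicit false
open scoped MatrixGroups
open Cfsg

namespace Cfsg.Agent.S5960

/-- Involutions of PSp_n(q) stabilize an orthogonal decomposition into `t` nondegenerate subspaces of
even dimension `a`. (The parity hypothesis is not needed; any characteristic.) -/
theorem result {F : Type*} [Field F] [Fintype F] {p : ℕ} [Fact p.Prime] [CharP F p] {q : ℕ} (hq : Fintype.card F = q)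
    (d : ℕ) (hd : 2 ≤ d) (hT : (d, q) ≠ (2, 2))
    (a t : ℕ) (hat : 2 * d = a * t) (ha : 2 ≤ a) (hae : Even a) (ht : 2 ≤ t) (hΩ : 2 ∣ Nat.card {D : Fin t → Submodule F (Fin d ⊕ Fin d → F) // (Cfsg.Geo.IsMDecomposition a D ∧ (∀ j, ∀ u ∈ D j, u ≠ 0 → ∃ v ∈ D j, Cfsg.sympForm d F u v ≠ 0) ∧
          (∀ j j', j ≠ j' → ∀ u ∈ D j, ∀ v ∈ D j', Cfsg.sympForm d F u v = 0))} / Nat.factorial t)
    (x : ↥(Matrix.symplecticGroup (Fin d) F))
    (hx1 : ∃ z : F, ((x ^ 2 : ↥(Matrix.symplecticGroup (Fin d) F)) : Matrix (Fin d ⊕ Fin d) (Fin d ⊕ Fin d) F) = z • (1 : Matrix (Fin d ⊕ Fin d) (Fin d ⊕ Fin d) F))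
    (hx2 : ∀ z : F, (x : Matrix (Fin d ⊕ Fin d) (Fin d ⊕ Fin d) F) ≠ z • (1 : Matrix (Fin d ⊕ Fin d) (Fin d ⊕ Fin d) F)) :
    ∃ D : Fin t → Submodule F (Fin d ⊕ Fin d → F), (Cfsg.Geo.IsMDecomposition a D ∧ (∀ j, ∀ u ∈ D j, u ≠ 0 → ∃ v ∈ D j, Cfsg.sympForm d F u v ≠ 0) ∧
          (∀ j j', j ≠ j' → ∀ u ∈ D j, ∀ v ∈ D j', Cfsg.sympForm d F u v = 0)) ∧
        ∃ σ : Equiv.Perm (Fin t), ∀ j, (D j).map (Matrix.toLin' (x : Matrix (Fin d ⊕ Fin d) (Fin d ⊕ Fin d) F)) = D (σ j) := by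
  obtain ⟨z, hz⟩ := hx1
  obtain ⟨b, hb⟩ := hae
  have hb0 : 0 < b := by omega
  have hab : a = 2 * b := by omega
  have hM : (x : Matrix (Fin d ⊕ Fin d) (Fin d ⊕ Fin d) F) ∈ Matrix.symplecticGroup (Fin d) F := x.2
  haveI : Nonempty (Fin d ⊕ Fin d) := ⟨Sum.inl ⟨0, by omega⟩⟩
  haveI : Nontrivial (Fin d ⊕ Fin d → F) := Function.nontrivial
  have hform : Cfsg.Agent.Helper96.SympInvol.AltForm (Cfsg.sympForm d F) :=
    ⟨Cfsg.Agent.Helper13.sympForm_add_left, Cfsg.Agent.Helper13.sympForm_smul_left,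
      Cfsg.Agent.Helper13.sympForm_add_right, Cfsg.Agent.Helper13.sympForm_smul_right,
      Cfsg.Agent.Helper13.sympForm_self⟩
  have hnd : ∀ u : Fin d ⊕ Fin d → F, u ≠ 0 → ∃ w, Cfsg.sympForm d F u w ≠ 0 := by
    intro u hu
    obtain ⟨w, hw⟩ := Cfsg.Agent.Helper13.exists_partner hu
    exact ⟨w, by rw [hw]; exact one_ne_zero⟩
  have hxf : ∀ u w, Cfsg.sympForm d F
      (Matrix.toLin' (x : Matrix (Fin d ⊕ Fin d) (Fin d ⊕ Fin d) F) u)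
      (Matrix.toLin' (x : Matrix (Fin d ⊕ Fin d) (Fin d ⊕ Fin d) F) w) = Cfsg.sympForm d F u w := by
    intro u w
    rw [Matrix.toLin'_apply, Matrix.toLin'_apply]
    exact Cfsg.Agent.Helper13.sympForm_mulVec hM u w
  have hmul : (x : Matrix (Fin d ⊕ Fin d) (Fin d ⊕ Fin d) F) * (x : Matrix (Fin d ⊕ Fin d) (Fin d ⊕ Fin d) F)
      = z • (1 : Matrix (Fin d ⊕ Fin d) (Fin d ⊕ Fin d) F) := by
    rw [← hz]; simp [pow_two]
  have hxx : ∀ v, Matrix.toLin' (x : Matrix (Fin d ⊕ Fin d) (Fin d ⊕ Fin d) F)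
      (Matrix.toLin' (x : Matrix (Fin d ⊕ Fin d) (Fin d ⊕ Fin d) F) v) = z • v := by
    intro v
    rw [← LinearMap.comp_apply, ← Matrix.toLin'_mul, hmul]
    simp
  have hdim : Module.finrank F (Fin d ⊕ Fin d → F) = 2 * b * t := by
    rw [Module.finrank_fintype_fun_eq_card, Fintype.card_sum, Fintype.card_fin, ← hab, ← hat]
    ring
  obtain ⟨D, hD1, hD2, hD3, hD4, hD5, σ, hσ⟩ :=
    Cfsg.Agent.Helper96.SympDecomp.exists_orth_decomposition (Cfsg.sympForm d F) hform hnd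
      (Matrix.toLin' (x : Matrix (Fin d ⊕ Fin d) (Fin d ⊕ Fin d) F)) hxf z hxx b t hb0 hdim
  refine ⟨D, ⟨⟨ht, by omega, fun i => by rw [hD1 i, hab], hD2, hD3⟩, hD4, hD5⟩, σ, hσ⟩

end Cfsg.Agent.S5960
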