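import Cfsg.Statements.S5963
import Mathlib
import Cfsg.Agent.Lib.Helper14.PolarPairs
import Cfsg.Agent.Lib.Helper14.PolarDerange

set_option autoImplicit false
open scoped MatrixGroups
open Cfsg

namespace Cfsg.Agent.S5963

open Cfsg.Agent.Helper14.PolarPairs Cfsg.Agent.Helper14.PolarDerange Cfsg.Agent.Helper13
open Cfsg.Agent.Helper42.SemiConj Cfsg.Agent.Helper44.StarInv

/-- Derangements of odd prime order of PSp_n(q), q odd, on pairs of complementary totally isotropic subspaces. Here `T = PSp_n(q)`, `n = 2d ≥ 4`, `q` odd, realised through the symplectic matrices over the field `F` with `q` elements; Ω is the set of unordered pairs `{U, W}` of complementary totally isotropic `d`-spaces (`F^n = U ⊕ W`), whose stabilizers are the subgroups of type GL_d(q).2 (maximal except in some small cases; maximality is not assumed); an element of `T` of prime order `r` (a symplectic matrix `x` with `x^r` scalar, `x` not scalar) fixes such a pair when it fixes or interchanges `U` and `W`. For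 every odd prime `r ≠ p` dividing the number of such pairs, some element of `T` of order `r` fixes no such pair (the action is never `r`-elusive for odd `r ≠ p`). -/
theorem result {F : Type*} [Field F] [Fintype F] {p : ℕ} [Fact p.Prime] [CharP F p] {q : ℕ} (hq : Fintype.card F = q)
    (d : ℕ) (hd : 2 ≤ d) (hT : (d, q) ≠ (2, 2)) (hodd : Odd q)
    (r : ℕ) [Fact r.Prime] (hr2 : r ≠ 2) (hrp : r ≠ p) (hΩ : r ∣ Nat.card {P : Submodule F (Fin d ⊕ Fin d → F) × Submodule F (Fin d ⊕ Fin d → F) // IsCompl P.1 P.2 ∧ (∀ u ∈ P.1, ∀ v ∈ P.1, Cfsg.sympForm d F u v = 0) ∧ (∀ u ∈ P.2, ∀ v ∈ P.2, Cfsg.sympForm d F u v = 0)} / 2) :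
    ∃ x : ↥(Matrix.symplecticGroup (Fin d) F),
      (∃ z : F, ((x ^ r : ↥(Matrix.symplecticGroup (Fin d) F)) : Matrix (Fin d ⊕ Fin d) (Fin d ⊕ Fin d) F) = z • (1 : Matrix (Fin d ⊕ Fin d) (Fin d ⊕ Fin d) F)) ∧
      (∀ z : F, (x : Matrix (Fin d ⊕ Fin d) (Fin d ⊕ Fin d) F) ≠ z • (1 : Matrix (Fin d ⊕ Fin d) (Fin d ⊕ Fin d) F)) ∧
      ¬ (∃ U W : Submodule F (Fin d ⊕ Fin d → F), IsCompl U W ∧ (∀ u ∈ U, ∀ v ∈ U, Cfsg.sympForm d F u v = 0) ∧ (∀ u ∈ W, ∀ v ∈ W, Cfsg.sympForm d F u v = 0) ∧
        ((U.map (Matrix.toLin' (x : Matrix (Fin d ⊕ Fin d) (Fin d ⊕ Fin d) F)) = U ∧ W.map (Matrix.toLin' (x : Matrix (Fin d ⊕ Fin d) (Fin d ⊕ Fin d) F)) = W) ∨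
         (U.map (Matrix.toLin' (x : Matrix (Fin d ⊕ Fin d) (Fin d ⊕ Fin d) F)) = W ∧ W.map (Matrix.toLin' (x : Matrix (Fin d ⊕ Fin d) (Fin d ⊕ Fin d) F)) = U))) := by
  classical
  have hr : r.Prime := Fact.out
  subst hq
  obtain ⟨j, _, hjd, hdvd⟩ := exists_dvd_pow_add_one (F := F) (d := d) (p := p) (by omega) r hr hrp hΩ
  obtain ⟨A, f₀, hA1, hf₀, hst, hkdi, hdeg2⟩ := exists_block (F := F) (p := p) (d := d) r hr hr2 hrp j hjd hdvd
  have hfp := mem_pow_of_mem_cyc r f₀ hf₀
  have hirr := powFactors_irr r f₀ hfp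
  set T := Matrix.toLin' (A : Matrix (Fin d ⊕ Fin d) (Fin d ⊕ Fin d) F) with hTdef
  have hiso : ∀ x y, Cfsg.sympForm d F (T x) (T y) = Cfsg.sympForm d F x y := by
    intro x y
    rw [hTdef, Matrix.toLin'_apply, Matrix.toLin'_apply, sympForm_mulVec A.2]
  have hAr : (A : Matrix (Fin d ⊕ Fin d) (Fin d ⊕ Fin d) F) ^ r = 1 := by
    have := congrArg Subtype.val hA1
    rw [SubmonoidClass.coe_pow] at this
    exact this
  have hT : T ^ r = 1 := by
    rw [hTdef, ← toLin_pow_i, hAr, Matrix.toLin'_one]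
    rfl
  have hdim : Module.finrank F (LinearMap.ker (Polynomial.aeval T f₀)) = f₀.natDegree := hkdi
  refine ⟨A, ⟨1, ?_⟩, ?_, ?_⟩
  · rw [hA1, one_smul]
    rfl
  · intro z hz
    have hTz : T = algebraMap F (Module.End F (Fin d ⊕ Fin d → F)) z := by
      rw [hTdef, hz, map_smul, Matrix.toLin'_one, Algebra.algebraMap_eq_smul_one]
      rfl
    rw [hTz, Polynomial.aeval_algebraMap_apply_eq_algebraMap_eval] at hdim
    by_cases h0 : f₀.eval z = 0
    · have h1 := Polynomial.degree_eq_one_of_irreducible_of_root hirr h0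
      have h2 : f₀.natDegree = 1 := Polynomial.natDegree_eq_of_degree_eq_some h1
      omega
    · have hker : LinearMap.ker (algebraMap F (Module.End F (Fin d ⊕ Fin d → F)) (f₀.eval z)) = ⊥ := by
        rw [LinearMap.ker_eq_bot']
        intro v hv
        rw [Module.algebraMap_end_apply] at hv
        exact (smul_eq_zero.mp hv).resolve_left h0
      rw [hker, finrank_bot] at hdim
      omega
  · rintro ⟨U, W, hc, hU, hW, h | h⟩
    · have hU' : ∀ u ∈ U, T u ∈ U := by
        intro u hu
        rw [← h.1]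
        exact Submodule.mem_map_of_mem hu
      have hW' : ∀ w ∈ W, T w ∈ W := by
        intro w hw
        rw [← h.2]
        exact Submodule.mem_map_of_mem hw
      exact no_invariant_polar (p := p) T hiso r hr hrp hT f₀ hfp hst hdim U W ⟨hc, hU, hW⟩ hU' hW'
    · have hpow : ∀ k : ℕ, U.map (T ^ (2 * k)) = U ∧ U.map (T ^ (2 * k + 1)) = W := by
        intro k
        induction k with
        | zero =>
          refine ⟨?_, ?_⟩
          · rw [Nat.mul_zero, pow_zero, Module.End.one_eq_id, Submodule.map_id]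
          · rw [Nat.mul_zero, zero_add, pow_one]
            exact h.1
        | succ k ih =>
          have e1 : 2 * (k + 1) = (2 * k + 1) + 1 := by ring
          have h1 : U.map (T ^ (2 * (k + 1))) = U := by
            rw [e1, pow_succ', Module.End.mul_eq_comp, Submodule.map_comp, ih.2]
            exact h.2
          refine ⟨h1, ?_⟩
          rw [pow_succ', Module.End.mul_eq_comp, Submodule.map_comp, h1]
          exact h.1
      obtain ⟨k, hk⟩ : ∃ k, r = 2 * k + 1 := by
        rcases hr.eq_two_or_odd with h2 | h2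
        · exact absurd h2 hr2
        · exact ⟨r / 2, by omega⟩
      have h1 := (hpow k).2
      rw [← hk, hT, Module.End.one_eq_id, Submodule.map_id] at h1
      have hpol : IsPolar U W := ⟨hc, hU, hW⟩
      have h2 := hc.disjoint
      rw [h1, disjoint_self] at h2
      have h3 := hpol.finrank_eq.2
      rw [h2, finrank_bot] at h3
      omega

end Cfsg.Agent.S5963
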