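import Cfsg.Statements.S5964
import Mathlib
import Cfsg.Agent.Lib.Helper42.SubfieldIdx1
import Cfsg.Agent.Lib.Helper42.SubfieldIdx2
import Cfsg.Agent.Lib.Helper42.SubfieldIdx5

set_option autoImplicit false
open scoped MatrixGroups
open Cfsg

namespace Cfsg.Agent.S5964

/-- Involutions of PSL_n(q) and subfield subgroups. Here `T = PSL_n(F)` for a field `F` with `q = p^f` elements (`n ≥ 2`, `(n, q) ≠ (2, 2), (2, 3)`), `F₀` is the subfield with `q₀` elements where `q = q₀^k` for a prime `k`, and `H` is the subgroup of matrices of determinant 1 lying in the subfield group of `F₀` (invertible matrices over `F₀` times scalars) — a maximal subgroup of type GL_n(q₀) (the case `n = 2`, `q₀ = 2` is excluded); Ω is the set of `T`-conjugates of `H` (cosets of `H`), so an element of `T` of prime order `r` (a matrix `x` of determinant 1 with `x^r` scalar, `x` not scalar) fixes a point of Ω when some conjugate of `x` by a matrix of determinant 1 lies in `H`. Suppose the index of `H` is even. Then every involution of `T` is conjugate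 in `T` into `H` if and only if either `q` is even, or `k = 2` and `(n)_2 ≤ (q − 1)_2`. (For `q` odd and `k` odd the index of `H` is odd, so that case does not arise.) -/
theorem result {F : Type*} [Field F] [Fintype F] {p : ℕ} [Fact p.Prime] [CharP F p] {q : ℕ} (hq : Fintype.card F = q)
    (n : ℕ) (hn : 2 ≤ n) (hT : (n, q) ≠ (2, 2) ∧ (n, q) ≠ (2, 3))
    (F₀ : Subfield F) (k q₀ : ℕ) (hk : k.Prime) (hF₀ : Nat.card ↥F₀ = q₀) (hqk : q = q₀ ^ k) (hC5 : ¬ (n = 2 ∧ q₀ = 2)) (hΩ : 2 ∣ ((Cfsg.Geo.subfieldSubgroup F₀ 1).comap (Matrix.SpecialLinearGroup.toGL : Matrix.SpecialLinearGroup (Fin n) F →* GL (Fin n) F)).index) :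
    (∀ x : Matrix.SpecialLinearGroup (Fin n) F,
      (∃ z : F, ((x ^ 2 : Matrix.SpecialLinearGroup (Fin n) F) : Matrix (Fin n) (Fin n) F) = z • (1 : Matrix (Fin n) (Fin n) F)) →
      (∀ z : F, (x : Matrix (Fin n) (Fin n) F) ≠ z • (1 : Matrix (Fin n) (Fin n) F)) →
      ∃ P : Matrix.SpecialLinearGroup (Fin n) F, P⁻¹ * x * P ∈ ((Cfsg.Geo.subfieldSubgroup F₀ 1).comap (Matrix.SpecialLinearGroup.toGL : Matrix.SpecialLinearGroup (Fin n) F →* GL (Fin n) F))) ↔
    (Odd q → (k = 2 ∧ padicValNat 2 n ≤ padicValNat 2 (q - 1))) := by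
  classical
  have hqk' : Fintype.card F = q₀ ^ k := by rw [hq, hqk]
  have hchar : ringChar F = p := ringChar.eq F p
  by_cases hodd : Odd q
  · -- odd characteristic
    have hF2 : ringChar F ≠ 2 := by
      intro h2
      rw [FiniteField.even_card_iff_char_two, hq] at h2
      rcases hodd with ⟨j, hj⟩
      omega
    have hk2 : k = 2 := by
      by_contra hk2
      have hkodd : Odd k := by
        rcases hk.eq_two_or_odd' with h | h
        · exact absurd h hk2
        · exact h
      have := Cfsg.Agent.Helper42.SubfieldIdx.odd_index n (by omega) F₀ k q₀ hkodd hF₀ hqk'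
        (by rw [hq]; exact hodd)
      rcases this with ⟨j, hj⟩
      rw [hj] at hΩ
      omega
    subst hk2
    have h4 : 4 ∣ Fintype.card F - 1 := by
      rw [hqk']
      have hq₀odd : Odd q₀ := by
        rw [hqk, sq] at hodd
        exact Nat.Odd.of_mul_right hodd
      rcases hq₀odd with ⟨j, rfl⟩
      refine ⟨j * j + j, ?_⟩
      have : (2 * j + 1) ^ 2 = 4 * (j * j + j) + 1 := by ring
      rw [this]
      omega
    constructor
    · intro h _
      refine ⟨rfl, ?_⟩
      by_contra hcon
      push Not at hcon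
      rw [← hq] at hcon
      obtain ⟨x, hx2, hxns, hxP⟩ :=
        Cfsg.Agent.Helper42.SubfieldIdx.exists_not_conj_of_sq_scalar (n := n) hF2 F₀ q₀ hF₀ hqk' h4
          hcon
      obtain ⟨P, hP⟩ := h x hx2 hxns
      exact hxP P hP
    · intro h x hx2 _
      obtain ⟨_, hw⟩ := h hodd
      obtain ⟨z, hz⟩ := hx2
      rw [← hq] at hw
      exact Cfsg.Agent.Helper42.SubfieldIdx.conj_of_sq_scalar hF2 (by omega) F₀ h4 hw x z hz
  · -- characteristic two
    have hp2 : p = 2 := by
      rw [← hchar, FiniteField.even_card_iff_char_two, hq]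
      rcases Nat.even_or_odd q with h | h
      · exact Nat.even_iff.mp h
      · exact absurd h hodd
    subst hp2
    constructor
    · intro _ h
      exact absurd h hodd
    · intro _ x hx2 _
      obtain ⟨z, hz⟩ := hx2
      exact Cfsg.Agent.Helper42.SubfieldIdx.conj_into_subfield_two hn F₀ x z hz

end Cfsg.Agent.S5964
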