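import Cfsg.Statements.S5967
import Mathlib
import Cfsg.Agent.Lib.Helper14.InvolSL

set_option autoImplicit false
open scoped MatrixGroups
open Cfsg

namespace Cfsg.Agent.S5967

open Cfsg.Agent.Helper14.InvolSL Cfsg.Agent.Helper14.SimForm

/-- Involutions of PSL_n(q) and the symplectic-type subgroups. Here `T = PSL_n(F)` for a field `F` with `q` elements, `n ≥ 4` even, `f` is a nondegenerate alternating form on `F^n`, and `H` is the subgroup of matrices of determinant 1 preserving `f` up to a scalar — a maximal subgroup of type Sp_n(q); Ω is the set of `T`-conjugates of `H` (cosets of `H`), so an element of `T` of prime order `r` (a matrix `x` of determinant 1 with `x^r` scalar, `x` not scalar) fixes a point of Ω when some conjugate of `x` by a matrix of determinant 1 preserves `f` up to a scalar. Suppose the index of `H` is even. Then every involution of `T` is conjugate in `T` into `H` if and only if `(q − 1)_2 ≤ (n)_2`. -/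
theorem result {F : Type*} [Field F] [Fintype F] {p : ℕ} [Fact p.Prime] [CharP F p] {q : ℕ} (hq : Fintype.card F = q)
    (n : ℕ) (hn : 4 ≤ n) (he : Even n) (f : (Fin n → F) → (Fin n → F) → F) (hf : Cfsg.Geo.IsSymplecticForm f)
    (hΩ : 2 ∣ ((Cfsg.Geo.similarityGroup f).comap (Matrix.SpecialLinearGroup.toGL : Matrix.SpecialLinearGroup (Fin n) F →* GL (Fin n) F)).index) :
    (∀ x : Matrix.SpecialLinearGroup (Fin n) F,
      (∃ z : F, ((x ^ 2 : Matrix.SpecialLinearGroup (Fin n) F) : Matrix (Fin n) (Fin n) F) = z • (1 : Matrix (Fin n) (Fin n) F)) →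
      (∀ z : F, (x : Matrix (Fin n) (Fin n) F) ≠ z • (1 : Matrix (Fin n) (Fin n) F)) →
      ∃ P : Matrix.SpecialLinearGroup (Fin n) F, P⁻¹ * x * P ∈ ((Cfsg.Geo.similarityGroup f).comap (Matrix.SpecialLinearGroup.toGL : Matrix.SpecialLinearGroup (Fin n) F →* GL (Fin n) F))) ↔
    padicValNat 2 (q - 1) ≤ padicValNat 2 n := by
  have hn0 : n ≠ 0 := by omega
  have hnpos : 0 < n := by omega
  obtain ⟨m, hm⟩ := he
  have hn2 : n = 2 * m := by omega
  subst hq
  constructor
  · -- every involution is conjugate into `H` ⇒ 2-adic condition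
    intro hall
    by_contra hlt
    push Not at hlt
    have h2 : (2 : F) ≠ 0 := by
      intro h2
      have hdvd : ringChar F ∣ 2 := ringChar.dvd (by exact_mod_cast h2)
      have hchar : ringChar F = 2 := by
        rcases (Nat.dvd_prime Nat.prime_two).mp hdvd with h | h
        · exact absurd h (CharP.ringChar_ne_one)
        · exact h
      have hev := FiniteField.even_card_of_char_two hchar
      have hodd : ¬ 2 ∣ Fintype.card F - 1 := by
        have := Fintype.card_pos (α := F)
        omega
      rw [padicValNat.eq_zero_of_not_dvd hodd] at hlt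
      omega
    obtain ⟨w, hw⟩ := exists_pow_eq_neg_one (F := F) n hn0 hlt
    have hw0 : w ≠ 0 := by
      rintro rfl
      rw [zero_pow hn0] at hw
      exact absurd hw.symm (by simp)
    let i₀ : Fin n := ⟨0, hnpos⟩
    let i₁ : Fin n := ⟨1, by omega⟩
    let d : Fin n → F := fun i => if i = i₀ then -w else w
    have hdd : ∀ i, d i = w * (if i = i₀ then -1 else 1) := by
      intro i
      simp only [d]
      split_ifs <;> ring
    have hdet : (Matrix.diagonal d).det = 1 := by
      rw [Matrix.det_diagonal]
      simp_rw [hdd]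
      rw [Finset.prod_mul_distrib, Finset.prod_const, Finset.card_univ, Fintype.card_fin,
        Finset.prod_ite_eq' Finset.univ i₀ (fun _ => (-1 : F)), hw]
      simp
    let x : Matrix.SpecialLinearGroup (Fin n) F := ⟨Matrix.diagonal d, hdet⟩
    have hx2 : ((x ^ 2 : Matrix.SpecialLinearGroup (Fin n) F) : Matrix (Fin n) (Fin n) F) =
        (w * w) • (1 : Matrix (Fin n) (Fin n) F) := by
      rw [pow_two, Matrix.SpecialLinearGroup.coe_mul]
      show Matrix.diagonal d * Matrix.diagonal d = _
      rw [Matrix.diagonal_mul_diagonal]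
      have : (fun i => d i * d i) = fun _ => w * w := by
        funext i
        simp only [d]
        split_ifs <;> ring
      rw [this]
      ext i j
      simp [Matrix.diagonal_apply, Matrix.one_apply]
    have hns : ∀ c : F, (x : Matrix (Fin n) (Fin n) F) ≠ c • (1 : Matrix (Fin n) (Fin n) F) := by
      intro c hc
      have h0 := congrFun (congrFun hc i₀) i₀
      have h1 := congrFun (congrFun hc i₁) i₁
      have hne : i₁ ≠ i₀ := by
        intro h
        have := congrArg Fin.val h
        simp [i₀, i₁] at this
      simp only [x, Matrix.diagonal_apply_eq, d, if_true, Matrix.smul_apply, Matrix.one_apply_eq,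
        smul_eq_mul, mul_one, if_neg hne] at h0 h1
      apply h2
      have : 2 * w = 0 := by linear_combination h1 - h0
      exact (mul_eq_zero.mp this).resolve_right hw0
    obtain ⟨P, hP⟩ := hall x ⟨w * w, hx2⟩ hns
    rw [Subgroup.mem_comap] at hP
    obtain ⟨c, hc⟩ := hP
    let g : Matrix (Fin n) (Fin n) F :=
      ((P⁻¹ * x * P : Matrix.SpecialLinearGroup (Fin n) F) : Matrix (Fin n) (Fin n) F)
    have hcg : ∀ u v, f (g.mulVec u) (g.mulVec v) = (c : F) * f u v := hc
    let b : Module.Basis (Fin n) F (Fin n → F) :=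
      (Pi.basisFun F (Fin n)).map (Matrix.SpecialLinearGroup.toLin' P⁻¹)
    have hbi : ∀ i, b i = (P⁻¹ : Matrix.SpecialLinearGroup (Fin n) F).1.mulVec (Pi.single i 1) := by
      intro i
      show ((Pi.basisFun F (Fin n)).map (Matrix.SpecialLinearGroup.toLin' P⁻¹)) i = _
      rw [Module.Basis.map_apply, Pi.basisFun_apply, Matrix.SpecialLinearGroup.toLin'_apply,
        Matrix.toLin'_apply]
    have hMb : ∀ i, Matrix.toLin' g (b i) = d i • b i := by
      intro i
      rw [hbi, Matrix.toLin'_apply, Matrix.mulVec_mulVec]
      have h1 : g * (P⁻¹ : Matrix.SpecialLinearGroup (Fin n) F).1 =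
          (P⁻¹ : Matrix.SpecialLinearGroup (Fin n) F).1 * Matrix.diagonal d := by
        simp only [g, Matrix.SpecialLinearGroup.coe_mul]
        rw [Matrix.mul_assoc, ← Matrix.SpecialLinearGroup.coe_mul P P⁻¹, mul_inv_cancel]
        simp [x]
      rw [h1, ← Matrix.mulVec_mulVec, Matrix.diagonal_mulVec_single, mul_one,
        ← Matrix.mulVec_smul]
      congr 1
      ext k
      simp [Pi.single_apply]
    refine no_sim_of_reflection (by omega) f hf w hw0 h2 (Matrix.toLin' g) b i₀ ?_ ?_ (c : F) ?_
    · rw [hMb]; simp [d]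
    · intro i hi
      rw [hMb]; simp [d, hi]
    · intro u v
      rw [Matrix.toLin'_apply, Matrix.toLin'_apply]
      exact hcg u v
  · -- 2-adic condition ⇒ every involution is conjugate into `H`
    intro hle x hx hns
    obtain ⟨z, hz⟩ := hx
    have hz0 := scalar_ne_zero hnpos x z hz
    set X := Matrix.toLin' (x : Matrix (Fin n) (Fin n) F) with hXdef
    have hX : ∀ v, X (X v) = z • v := toLin_sq x z hz
    have hfin : Module.finrank F (Fin n → F) = n := by
      rw [Module.finrank_pi, Fintype.card_fin]
    have heven : Even (Module.finrank F (Fin n → F)) := by rw [hfin]; exact ⟨m, hm⟩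
    have hsim : ∃ μ : F, μ ≠ 0 ∧ HasSim X μ := by
      by_cases h2 : (2 : F) = 0
      · exact ⟨-z, neg_ne_zero.mpr hz0, hasSim_neg z X hX heven (Or.inl h2)⟩
      · by_cases hsq : ∃ w : F, w * w = z
        · obtain ⟨w, rfl⟩ := hsq
          have hw0 : w ≠ 0 := by
            rintro rfl
            exact hz0 (by ring)
          obtain ⟨a, b, hab, hdet, hsim⟩ := eigen_data w hw0 h2 X hX
          have hdetX : LinearMap.det X = 1 := by
            rw [hXdef, LinearMap.det_toLin']
            exact x.2
          rw [hfin] at hab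
          have hb : Even b := by
            by_contra hodd
            rw [Nat.not_even_iff_odd] at hodd
            have h1 : w ^ a * (-w) ^ b = 1 := by rw [← hdet, hdetX]
            rw [neg_pow, hodd.neg_one_pow] at h1
            have h3 : w ^ n = -1 := by
              rw [← hab, pow_add]
              linear_combination -h1
            exact pow_ne_neg_one h2 n hn0 hle w h3
          have ha : Even a := by
            have hne : Even (a + b) := by rw [hab]; exact ⟨m, hm⟩
            exact (Nat.even_add.mp hne).mpr hb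
          exact ⟨w * w, hz0, hsim ha hb⟩
        · push Not at hsq
          exact ⟨-z, neg_ne_zero.mpr hz0, hasSim_neg z X hX heven (Or.inr hsq)⟩
    obtain ⟨μ, hμ0, hμ⟩ := hsim
    obtain ⟨A, hA⟩ := exists_conj_sim hn2 f hf X μ hμ
    obtain ⟨P, hP⟩ := exists_SL_conj hnpos x z hz hns A
    refine ⟨P, ?_⟩
    rw [Subgroup.mem_comap]
    refine ⟨Units.mk0 μ hμ0, ?_⟩
    intro u v
    show f (((P⁻¹ * x * P : Matrix.SpecialLinearGroup (Fin n) F) : Matrix (Fin n) (Fin n) F).mulVec u)
      (((P⁻¹ * x * P : Matrix.SpecialLinearGroup (Fin n) F) : Matrix (Fin n) (Fin n) F).mulVec v) =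
      μ * f u v
    rw [hP, hP]
    exact hA u v

end Cfsg.Agent.S5967
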