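import Cfsg.Statements.S5968
import Mathlib
import Cfsg.Agent.Lib.Helper14.SpDerange
import Cfsg.Agent.Lib.Helper14.SpIndex

set_option autoImplicit false
open scoped MatrixGroups
open Cfsg

namespace Cfsg.Agent.S5968

open Cfsg.Agent.Helper14.SpDerange Cfsg.Agent.Helper14.SpIndex

/-- Derangements of odd prime order of PSL_n(q) on the cosets of a symplectic-type subgroup. Here `T = PSL_n(F)` for a field `F` with `q` elements, `n ≥ 4` even, `f` is a nondegenerate alternating form on `F^n`, and `H` is the subgroup of matrices of determinant 1 preserving `f` up to a scalar — a maximal subgroup of type Sp_n(q); Ω is the set of `T`-conjugates of `H` (cosets of `H`), so an element of `T` of prime order `r` (a matrix `x` of determinant 1 with `x^r` scalar, `x` not scalar) fixes a point of Ω when some conjugate of `x` by a matrix of determinant 1 preserves `f` up to a scalar. For every odd prime `r` dividing the index of `H`, with `(n, r) ≠ (6, 3)`, there is an element of `T` of order `r` with no conjugate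 in `H`. (For `n = 6`, `r = 3` this can fail: when `(q − 1)_3 = 3` every element of order 3 is conjugate into `H`.) -/
theorem result {F : Type*} [Field F] [Fintype F] {p : ℕ} [Fact p.Prime] [CharP F p] {q : ℕ} (hq : Fintype.card F = q)
    (n : ℕ) (hn : 4 ≤ n) (he : Even n) (f : (Fin n → F) → (Fin n → F) → F) (hf : Cfsg.Geo.IsSymplecticForm f)
    (r : ℕ) [Fact r.Prime] (hr2 : r ≠ 2) (hgap : ¬ (n = 6 ∧ r = 3)) (hΩ : r ∣ ((Cfsg.Geo.similarityGroup f).comap (Matrix.SpecialLinearGroup.toGL : Matrix.SpecialLinearGroup (Fin n) F →* GL (Fin n) F)).index) :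
    ∃ x : Matrix.SpecialLinearGroup (Fin n) F,
      (∃ z : F, ((x ^ r : Matrix.SpecialLinearGroup (Fin n) F) : Matrix (Fin n) (Fin n) F) = z • (1 : Matrix (Fin n) (Fin n) F)) ∧
      (∀ z : F, (x : Matrix (Fin n) (Fin n) F) ≠ z • (1 : Matrix (Fin n) (Fin n) F)) ∧
      ∀ P : Matrix.SpecialLinearGroup (Fin n) F, P⁻¹ * x * P ∉ ((Cfsg.Geo.similarityGroup f).comap (Matrix.SpecialLinearGroup.toGL : Matrix.SpecialLinearGroup (Fin n) F →* GL (Fin n) F)) := by
  classical
  have hrp : r.Prime := Fact.out
  obtain ⟨m, hm⟩ := he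
  have hn2 : n = 2 * m := by omega
  subst hq
  rcases dvd_cases hn2 (by omega) f hf r hrp hΩ with h | ⟨i, hi, hdvd⟩
  · -- `r = p`
    have hrp' : r = p := by
      obtain ⟨k, _, hk⟩ := FiniteField.card F p
      rw [hk] at h
      exact (Nat.prime_dvd_prime_iff_eq hrp (Fact.out : p.Prime)).mp (hrp.dvd_of_dvd_pow h)
    subst hrp'
    exact derangement_unipotent hr2 (by omega) f hf
  · -- `r ∣ q ^ (2 i + 3) - 1`
    have hq1 : 1 ≤ Fintype.card F := Fintype.card_pos
    have hcast : ∀ k : ℕ, r ∣ Fintype.card F ^ k - 1 ↔ ((Fintype.card F : ℕ) : ZMod r) ^ k = 1 := by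
      intro k
      rw [← ZMod.natCast_eq_zero_iff, Nat.cast_sub (Nat.one_le_pow _ _ hq1), Nat.cast_pow,
        Nat.cast_one, sub_eq_zero]
    have hqj := (hcast (2 * i + 3)).mp hdvd
    have hej : orderOf ((Fintype.card F : ℕ) : ZMod r) ∣ 2 * i + 3 := orderOf_dvd_of_pow_eq_one hqj
    have hodd : Odd (orderOf ((Fintype.card F : ℕ) : ZMod r)) :=
      Odd.of_dvd_nat ⟨i + 1, by ring⟩ hej
    have hle : orderOf ((Fintype.card F : ℕ) : ZMod r) ≤ 2 * i + 3 := Nat.le_of_dvd (by omega) hej
    have hpos : 0 < orderOf ((Fintype.card F : ℕ) : ZMod r) := Nat.pos_of_dvd_of_pos hej (by omega)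
    by_cases h1 : r ∣ Fintype.card F - 1
    · exact derangement_diag hn ⟨m, hm⟩ f hf r hr2 hgap h1
    · have hre : r ∣ Fintype.card F ^ orderOf ((Fintype.card F : ℕ) : ZMod r) - 1 :=
        (hcast _).mpr (pow_orderOf_eq_one _)
      exact derangement_field f hf _ r hpos (by omega) hodd hre h1

end Cfsg.Agent.S5968
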