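import Cfsg.Statements.S5969
import Mathlib
import Cfsg.Agent.Lib.Helper14.ExtFieldInvol

set_option autoImplicit false
open scoped MatrixGroups
open Cfsg

namespace Cfsg.Agent.S5969

open Cfsg.Agent.Helper14.InvolSL Cfsg.Agent.Helper14.ExtFieldInvol

/-- Involutions of PSL_n(q) and extension-field subgroups of degree 2. Here `T = PSL_n(F)` for a field `F` with `q = p^f` elements (`n ≥ 2`, `(n, q) ≠ (2, 2), (2, 3)`), `k` is a prime dividing `n`, `K` is a subalgebra of the `n × n` matrices that is a field of degree `k` over `F` (an extension-field structure F_{q^k} on `F^n`), and `H` is the subgroup of matrices of determinant 1 normalizing `K` — a subgroup of type GL_{n/k}(q^k) (maximal except in some small cases; maximality is not assumed); Ω is the set of cosets of `H` in `T`, so an element of `T` of prime order `r` (a matrix `x` of determinant 1 with `x^r` scalar, `x` not scalar) fixes a point of Ω when some conjugate of `x` by a matrix of determinant 1 normalizes `K`. Take `k = 2` and suppose the index of `H` is even. Then every involution of `T` is conjugate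 in `T` into `H` if and only if `n = 2`, or `q` is odd and `(q − 1)_2 ≤ (n)_2`. -/
theorem result {F : Type*} [Field F] [Fintype F] {p : ℕ} [Fact p.Prime] [CharP F p] {q : ℕ} (hq : Fintype.card F = q)
    (n : ℕ) (hn : 2 ≤ n) (hT : (n, q) ≠ (2, 2) ∧ (n, q) ≠ (2, 3))
    (k : ℕ) (hk : k.Prime) (hkn : k ∣ n) (K : Subalgebra F (Matrix (Fin n) (Fin n) F)) (hK : Cfsg.Geo.IsFieldSubalgebra k K) (hk2 : k = 2) (hΩ : 2 ∣ ((Cfsg.Geo.subalgebraNormalizer K).comap (Matrix.SpecialLinearGroup.toGL : Matrix.SpecialLinearGroup (Fin n) F →* GL (Fin n) F)).index) :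
    (∀ x : Matrix.SpecialLinearGroup (Fin n) F,
      (∃ z : F, ((x ^ 2 : Matrix.SpecialLinearGroup (Fin n) F) : Matrix (Fin n) (Fin n) F) = z • (1 : Matrix (Fin n) (Fin n) F)) →
      (∀ z : F, (x : Matrix (Fin n) (Fin n) F) ≠ z • (1 : Matrix (Fin n) (Fin n) F)) →
      ∃ P : Matrix.SpecialLinearGroup (Fin n) F, P⁻¹ * x * P ∈ ((Cfsg.Geo.subalgebraNormalizer K).comap (Matrix.SpecialLinearGroup.toGL : Matrix.SpecialLinearGroup (Fin n) F →* GL (Fin n) F))) ↔
    (n = 2 ∨ (Odd q ∧ padicValNat 2 (q - 1) ≤ padicValNat 2 n)) := by
  have hnpos : 0 < n := by omega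
  have hn0 : n ≠ 0 := by omega
  subst hk2
  subst hq
  have hev : Even n := even_iff_two_dvd.mpr hkn
  have hodd_iff : Odd (Fintype.card F) ↔ (2 : F) ≠ 0 := by
    constructor
    · intro hodd h2
      have := FiniteField.even_card_of_char_two (ringChar_eq_two h2)
      rcases hodd with ⟨t, ht⟩
      omega
    · intro h2
      have := FiniteField.odd_card_of_char_ne_two (ringChar_ne_two h2)
      exact Nat.odd_iff.mpr this
  constructor
  · intro hall
    by_contra hcon
    push Not at hcon
    obtain ⟨hn2, hq'⟩ := hcon
    have hn4 : 4 ≤ n := by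
      rcases hev with ⟨t, ht⟩
      omega
    let i₀ : Fin n := ⟨0, hnpos⟩
    let i₁ : Fin n := ⟨1, by omega⟩
    have hne01 : i₀ ≠ i₁ := by
      intro h
      have := congrArg Fin.val h
      simp [i₀, i₁] at this
    by_cases h2 : (2 : F) = 0
    · -- characteristic 2: a transvection
      let x : Matrix.SpecialLinearGroup (Fin n) F :=
        ⟨Matrix.transvection i₀ i₁ 1, Matrix.det_transvection_of_ne i₀ i₁ hne01 1⟩
      have hx2 : ((x ^ 2 : Matrix.SpecialLinearGroup (Fin n) F) : Matrix (Fin n) (Fin n) F) =
          (1 : F) • (1 : Matrix (Fin n) (Fin n) F) := by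
        rw [pow_two, Matrix.SpecialLinearGroup.coe_mul]
        show Matrix.transvection i₀ i₁ 1 * Matrix.transvection i₀ i₁ 1 = _
        rw [Matrix.transvection_mul_transvection_same i₀ i₁ hne01, one_add_one_eq_two, h2,
          Matrix.transvection_zero, one_smul]
      have hxv : ∀ v : Fin n → F, (x : Matrix (Fin n) (Fin n) F).mulVec v =
          v + v i₁ • (Pi.single i₀ 1 : Fin n → F) := by
        intro v
        show (Matrix.transvection i₀ i₁ 1).mulVec v = _
        rw [Matrix.transvection, Matrix.add_mulVec, Matrix.one_mulVec, Matrix.single_mulVec]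
        congr 1
        ext k
        simp [Function.update_apply, Pi.single_apply]
      have hns : ∀ c : F, (x : Matrix (Fin n) (Fin n) F) ≠ c • (1 : Matrix (Fin n) (Fin n) F) := by
        intro c hc
        have := congrFun (hxv (Pi.single i₁ 1)) i₀
        rw [hc, Matrix.smul_mulVec, Matrix.one_mulVec] at this
        simp [Pi.single_apply, hne01] at this
      obtain ⟨P, hP⟩ := hall x ⟨1, hx2⟩ hns
      refine no_normalizer_of_rank_one (by omega) K hK x 1 one_ne_zero i₀ ?_ ?_ P hP
      · intro v
        exact ⟨v i₁, by rw [hxv, one_smul, add_sub_cancel_left]⟩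
      · refine ⟨Pi.single i₁ 1, ?_⟩
        intro h
        have := congrFun h i₀
        rw [hxv] at this
        simp [Pi.single_apply, hne01] at this
    · -- odd characteristic
      have hlt : padicValNat 2 n < padicValNat 2 (Fintype.card F - 1) := by
        have := hq' (hodd_iff.mpr h2)
        omega
      obtain ⟨w, hw⟩ := exists_pow_eq_neg_one (F := F) n hn0 hlt
      have hw0 : w ≠ 0 := by
        rintro rfl
        rw [zero_pow hn0] at hw
        exact absurd hw.symm (by simp)
      let d : Fin n → F := fun i => if i = i₀ then -w else w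
      have hdd : ∀ i, d i = w * (if i = i₀ then -1 else 1) := by
        intro i
        simp only [d]
        split_ifs <;> ring
      have hdet : (Matrix.diagonal d).det = 1 := by
        rw [Matrix.det_diagonal]
        simp_rw [hdd]
        rw [Finset.prod_mul_distrib, Finset.prod_const, Finset.card_univ, Fintype.card_fin,
          Finset.prod_ite_eq' Finset.univ i₀ (fun _ => (-1 : F)), hw]
        simp
      let x : Matrix.SpecialLinearGroup (Fin n) F := ⟨Matrix.diagonal d, hdet⟩
      have hx2 : ((x ^ 2 : Matrix.SpecialLinearGroup (Fin n) F) : Matrix (Fin n) (Fin n) F) =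
          (w * w) • (1 : Matrix (Fin n) (Fin n) F) := by
        rw [pow_two, Matrix.SpecialLinearGroup.coe_mul]
        show Matrix.diagonal d * Matrix.diagonal d = _
        rw [Matrix.diagonal_mul_diagonal]
        have : (fun i => d i * d i) = fun _ => w * w := by
          funext i
          simp only [d]
          split_ifs <;> ring
        rw [this]
        ext i j
        simp [Matrix.diagonal_apply, Matrix.one_apply]
      have hxv : ∀ v : Fin n → F, (x : Matrix (Fin n) (Fin n) F).mulVec v - w • v =
          (-2 * w * v i₀) • (Pi.single i₀ 1 : Fin n → F) := by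
        intro v
        show (Matrix.diagonal d).mulVec v - w • v = _
        ext k
        rw [Pi.sub_apply, Matrix.mulVec_diagonal, Pi.smul_apply, Pi.smul_apply, Pi.single_apply]
        simp only [d]
        by_cases hk : k = i₀
        · rw [if_pos hk, if_pos hk, hk]; simp only [smul_eq_mul]; ring
        · rw [if_neg hk, if_neg hk]; simp
      have hxne : ∃ v, (x : Matrix (Fin n) (Fin n) F).mulVec v ≠ w • v := by
        refine ⟨Pi.single i₀ 1, ?_⟩
        intro h
        have := congrFun (hxv (Pi.single i₀ 1)) i₀
        rw [h, sub_self] at this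
        simp only [Pi.zero_apply, Pi.single_eq_same, mul_one, Pi.smul_apply, smul_eq_mul] at this
        have h3 : (2 : F) * w = 0 := by linear_combination this
        exact (mul_eq_zero.mp h3).elim h2 hw0
      have hns : ∀ c : F, (x : Matrix (Fin n) (Fin n) F) ≠ c • (1 : Matrix (Fin n) (Fin n) F) := by
        intro c hc
        have h0 := congrFun (congrFun hc i₀) i₀
        have h1 := congrFun (congrFun hc i₁) i₁
        simp only [x, Matrix.diagonal_apply_eq, d, if_true, Matrix.smul_apply, Matrix.one_apply_eq,
          smul_eq_mul, mul_one, if_neg hne01.symm] at h0 h1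
        apply h2
        have : 2 * w = 0 := by linear_combination h1 - h0
        exact (mul_eq_zero.mp this).resolve_right hw0
      obtain ⟨P, hP⟩ := hall x ⟨w * w, hx2⟩ hns
      refine no_normalizer_of_rank_one (by omega) K hK x w hw0 i₀ ?_ hxne P hP
      intro v
      exact ⟨_, hxv v⟩
  · intro hcond x hx hns
    obtain ⟨z, hz⟩ := hx
    refine exists_SL_normalizing hn hev K hK ?_ x z hz hns
    rcases hcond with h | ⟨hodd, hle⟩
    · exact Or.inl h
    · exact Or.inr ⟨hodd_iff.mp hodd, hle⟩

end Cfsg.Agent.S5969
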