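import Cfsg.Statements.S5971
import Mathlib
import Cfsg.Agent.Lib.Helper42.Singer12

set_option autoImplicit false
open scoped MatrixGroups
open Cfsg

namespace Cfsg.Agent.S5971

/-- Elements of order 3 of PSL_3(q) and the normalizer of a Singer cycle. Here `T = PSL_n(F)` for a field `F` with `q = p^f` elements (`n ≥ 2`, `(n, q) ≠ (2, 2), (2, 3)`), `k` is a prime dividing `n`, `K` is a subalgebra of the `n × n` matrices that is a field of degree `k` over `F` (an extension-field structure F_{q^k} on `F^n`), and `H` is the subgroup of matrices of determinant 1 normalizing `K` — a subgroup of type GL_{n/k}(q^k) (maximal except in some small cases; maximality is not assumed); Ω is the set of cosets of `H` in `T`, so an element of `T` of prime order `r` (a matrix `x` of determinant 1 with `x^r` scalar, `x` not scalar) fixes a point of Ω when some conjugate of `x` by a matrix of determinant 1 normalizes `K`. Take `n = k = 3` and suppose 3 divides the index of `H`. Then every element of `T` of order 3 is conjugate in `T` into `H` if and only if `q ≡ 4, 7` or `8 (mod 9)`. -/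
theorem result {F : Type*} [Field F] [Fintype F] {p : ℕ} [Fact p.Prime] [CharP F p] {q : ℕ} (hq : Fintype.card F = q)
    (n : ℕ) (hn : n = 3) (k : ℕ) (hk : k.Prime) (hkn : k ∣ n) (K : Subalgebra F (Matrix (Fin n) (Fin n) F)) (hK : Cfsg.Geo.IsFieldSubalgebra k K) (hk3 : k = 3) (hΩ : 3 ∣ ((Cfsg.Geo.subalgebraNormalizer K).comap (Matrix.SpecialLinearGroup.toGL : Matrix.SpecialLinearGroup (Fin n) F →* GL (Fin n) F)).index) :
    (∀ x : Matrix.SpecialLinearGroup (Fin n) F,
      (∃ z : F, ((x ^ 3 : Matrix.SpecialLinearGroup (Fin n) F) : Matrix (Fin n) (Fin n) F) = z • (1 : Matrix (Fin n) (Fin n) F)) →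
      (∀ z : F, (x : Matrix (Fin n) (Fin n) F) ≠ z • (1 : Matrix (Fin n) (Fin n) F)) →
      ∃ P : Matrix.SpecialLinearGroup (Fin n) F, P⁻¹ * x * P ∈ ((Cfsg.Geo.subalgebraNormalizer K).comap (Matrix.SpecialLinearGroup.toGL : Matrix.SpecialLinearGroup (Fin n) F →* GL (Fin n) F))) ↔
    (q % 9 = 4 ∨ q % 9 = 7 ∨ q % 9 = 8) := by
  classical
  subst hq
  subst hk3
  subst hn
  have hq1 : 1 < Fintype.card F := Fintype.one_lt_card
  by_cases hp3 : p = 3
  · -- characteristic three
    subst hp3
    have h3q : 3 ∣ Fintype.card F := by
      have h0 := Nat.cast_card_eq_zero F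
      exact (CharP.cast_eq_zero_iff F 3 _).mp h0
    constructor
    · intro hL
      exfalso
      obtain ⟨x, hx3, hns, c, hc0, v, w, hv, hxv, hxw, hw⟩ :=
        Cfsg.Agent.Helper42.Singer.exists_bad_unipotent (F := F)
      obtain ⟨P, hP⟩ := hL x ⟨1, by rw [Matrix.SpecialLinearGroup.coe_pow]; exact hx3⟩ hns
      exact hns c (Cfsg.Agent.Helper42.Singer.eq_smul_of_conj_mem Nat.prime_three K hK x P hP c hc0
        v w hv hxv hxw hw)
    · intro h
      exfalso
      omega
  · by_cases h9 : 9 ∣ Fintype.card F - 1
    · constructor
      · intro hL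
        exfalso
        obtain ⟨x, ⟨z, hx3⟩, hns, c, hc0, v, w, hv, hxv, hxw, hw⟩ :=
          Cfsg.Agent.Helper42.Singer.exists_bad_diag_nine (F := F) h9
        obtain ⟨P, hP⟩ := hL x ⟨z, by rw [Matrix.SpecialLinearGroup.coe_pow]; exact hx3⟩ hns
        exact hns c (Cfsg.Agent.Helper42.Singer.eq_smul_of_conj_mem Nat.prime_three K hK x P hP c
          hc0 v w hv hxv hxw hw)
      · intro h
        exfalso
        omega
    · by_cases h3 : 3 ∣ Fintype.card F - 1
      · constructor
        · intro _
          omega
        · intro _ x hz hns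
          obtain ⟨z, hz⟩ := hz
          rw [Matrix.SpecialLinearGroup.coe_pow] at hz
          by_cases hz1 : z = 1
          · subst hz1
            rw [one_smul] at hz
            haveI : Fact (Nat.Prime 3) := ⟨Nat.prime_three⟩
            have hcard : 3 ∣ Fintype.card Fˣ := by rw [Fintype.card_units]; exact h3
            obtain ⟨u, hu⟩ := exists_prime_orderOf_dvd_card 3 hcard
            have hω3 : (u : F) ^ 3 = 1 := by
              rw [← Units.val_pow_eq_pow_val, ← hu, pow_orderOf_eq_one, Units.val_one]
            have hω1 : (u : F) ≠ 1 := by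
              intro h
              have : u = 1 := Units.ext h
              rw [this, orderOf_one] at hu
              norm_num at hu
            exact Cfsg.Agent.Helper42.Singer.exists_conj_of_cube_one (u : F) hω3 hω1 K hK x hz hns
          · exact Cfsg.Agent.Helper42.Singer.exists_conj_of_cube_ne_one h3 h9 K hK x z hz1 hz
      · have h3q : ¬ 3 ∣ Fintype.card F := by
          intro h
          obtain ⟨f, hpprime, hcard⟩ := FiniteField.card F p
          rw [hcard] at h
          have h' := Nat.prime_three.dvd_of_dvd_pow h
          exact hp3 ((Nat.prime_dvd_prime_iff_eq Nat.prime_three hpprime).mp h').symm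
        have hmod : Fintype.card F % 3 = 2 := by omega
        constructor
        · intro _
          by_contra hne
          have h25 : Fintype.card F % 9 = 2 ∨ Fintype.card F % 9 = 5 := by omega
          exact Cfsg.Agent.Helper42.Singer.not_nine_dvd_card_SL h25
            (Cfsg.Agent.Helper42.Singer.nine_dvd_card_SL h3 K hK hΩ)
        · intro _ x hz hns
          obtain ⟨z, hz⟩ := hz
          have hord : orderOf ((Fintype.card F : ℕ) : ZMod 3) = 3 - 1 := by
            have h2 : ((Fintype.card F : ℕ) : ZMod 3) = 2 := by
              rw [← ZMod.natCast_mod, hmod]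
              rfl
            rw [h2]
            haveI : Fact (Nat.Prime 2) := ⟨Nat.prime_two⟩
            apply orderOf_eq_prime <;> decide
          exact Cfsg.Agent.Helper42.Singer.exists_conj_into_normalizer p Nat.prime_three le_rfl
            (Ne.symm hp3) hord K hK x z hz hns

end Cfsg.Agent.S5971
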