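import Cfsg.Statements.S5979
import Mathlib
import Cfsg.Agent.Lib.Helper14.TensorStab
import Cfsg.Agent.Lib.Helper14.TensorMem
import Cfsg.Agent.Lib.Helper14.TensorDerange
import Cfsg.Agent.Lib.Helper14.TensorFix
import Cfsg.Agent.Lib.Helper14.PSpRank

set_option autoImplicit false
open scoped MatrixGroups
open Cfsg

namespace Cfsg.Agent.S5979

open Cfsg.Agent.Helper14.TensorStab Cfsg.Agent.Helper14.TensorMem
  Cfsg.Agent.Helper14.TensorDerange Cfsg.Agent.Helper14.TensorFix

/-- Elements of prime order of PSL_n(q) and the stabilizers of tensor decompositions with factors of different dimensions. Here `T = PSL_n(F)` for a field `F` with `q` elements and `n = a·b` with `2 ≤ a < b`; a tensor decomposition `F^n ≅ F^a ⊗ F^b` is given by a bijection `e` of index sets and a change of basis `P`, and `H` is the subgroup of matrices of determinant 1 in its stabilizer (the conjugate by `P` of the group of Kronecker products `g₁ ⊗ g₂`) — a subgroup of type GL_a(q) ⊗ GL_b(q) (maximality is not assumed); Ω is the set of cosets of `H` in `T`, so an element of `T` of prime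 order `r` (a matrix `x` of determinant 1 with `x^r` scalar, `x` not scalar) fixes a point of Ω exactly when some conjugate of `x` by a matrix of determinant 1 lies in `H`. Let `r` be a prime dividing the index of `H`. Then every element of `T` of order `r` fixes a point of Ω if and only if `r = 2`, `a = 2`, `q` is odd and `(q − 1)_2 ≤ (n)_2` (2-parts). -/
theorem result {F : Type*} [Field F] [Fintype F] {p : ℕ} [Fact p.Prime] [CharP F p] {q : ℕ} (hq : Fintype.card F = q)
    (n a b : ℕ) (hab : n = a * b) (ha : 2 ≤ a) (hlt : a < b) (e : Fin n ≃ Fin a × Fin b) (P : GL (Fin n) F)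
    (r : ℕ) [Fact r.Prime]
    (hΩ : r ∣ (Cfsg.Geo.tensorProductSubgroup a b e P).relIndex (Cfsg.Geo.specialLinear (Fin n) F)) :
    (∀ x ∈ Cfsg.Geo.specialLinear (Fin n) F, (∃ z : F, ((x ^ r : GL (Fin n) F) : Matrix (Fin n) (Fin n) F) = z • (1 : Matrix (Fin n) (Fin n) F)) →
      (∀ z : F, (x : Matrix (Fin n) (Fin n) F) ≠ z • (1 : Matrix (Fin n) (Fin n) F)) →
      ∃ g ∈ Cfsg.Geo.specialLinear (Fin n) F, g⁻¹ * x * g ∈ Cfsg.Geo.tensorProductSubgroup a b e P) ↔
    (r = 2 ∧ a = 2 ∧ Odd q ∧ padicValNat 2 (q - 1) ≤ padicValNat 2 n) := by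
  classical
  have hr : r.Prime := Fact.out
  subst hq
  have hb3 : 3 ≤ b := by omega
  have hn6 : 6 ≤ n := by nlinarith
  have hq2 : 2 ≤ Fintype.card F := Fintype.one_lt_card
  constructor
  · intro Hall
    have key : ¬ Derange n a b r F := by
      rintro ⟨x, hx, hxr, hns, hk⟩
      obtain ⟨g, hg, hmem⟩ := Hall x hx hxr hns
      exact hk (isKron_of_conj_mem e P x g hmem)
    by_cases hrp : r = p
    · subst hrp
      exact absurd (derange_transvection r hab ha (by omega)) key
    · have hdvdGL : r ∣ Nat.card (GL (Fin n) F) := by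
        have h1 : (Cfsg.Geo.tensorProductSubgroup a b e P).relIndex
            (Cfsg.Geo.specialLinear (Fin n) F) ∣ Nat.card (Cfsg.Geo.specialLinear (Fin n) F) :=
          Subgroup.index_dvd_card _
        have h2 : Nat.card (Cfsg.Geo.specialLinear (Fin n) F) ∣ Nat.card (GL (Fin n) F) :=
          Subgroup.card_subgroup_dvd_card _
        exact hΩ.trans (h1.trans h2)
      have hen := order_le_of_dvd_card_GL p r hr hrp n hdvdGL
      by_cases hd : r ∣ Fintype.card F - 1
      · by_cases hr2 : r = 2
        · subst hr2
          have h2 : (2 : F) ≠ 0 := by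
            intro h
            have h3 : ((2 : ℕ) : F) = 0 := by exact_mod_cast h
            rw [CharP.cast_eq_zero_iff F p 2] at h3
            exact hrp ((Nat.prime_dvd_prime_iff_eq (Fact.out : p.Prime) Nat.prime_two).mp h3).symm
          have hodd : Odd (Fintype.card F) := by
            obtain ⟨c, hc⟩ := hd
            exact ⟨c, by omega⟩
          by_cases ha2 : a = 2
          · subst ha2
            by_cases hpad : padicValNat 2 (Fintype.card F - 1) ≤ padicValNat 2 n
            · exact ⟨rfl, rfl, hodd, hpad⟩
            · obtain ⟨w, hw⟩ := Cfsg.Agent.Helper14.InvolSL.exists_pow_eq_neg_one (F := F) n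
                (by omega) (by omega)
              exact absurd (derange_invol_two hab (by omega) h2 w hw) key
          · exact absurd (derange_invol_ge hab (by omega) (by omega) h2) key
        · exact absurd (derange_root hab ha hb3 r hr2 hd) key
      · have hq0 : ((Fintype.card F : ℕ) : ZMod r) ≠ 0 := by
          rw [Ne, ZMod.natCast_eq_zero_iff]
          exact not_dvd_card p r hr hrp
        have hfin : IsOfFinOrder ((Fintype.card F : ℕ) : ZMod r) := by
          rw [isOfFinOrder_iff_pow_eq_one]
          exact ⟨r - 1, by have := hr.two_le; omega, ZMod.pow_card_sub_one_eq_one hq0⟩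
        have he0 : 0 < orderOf ((Fintype.card F : ℕ) : ZMod r) := orderOf_pos_iff.mpr hfin
        have he1 : orderOf ((Fintype.card F : ℕ) : ZMod r) ≠ 1 := by
          intro h
          rw [orderOf_eq_one_iff] at h
          apply hd
          have := (zmod_pow_eq_one_iff r (Fintype.card F) 1 (by omega)).mp (by rw [pow_one, h])
          rwa [pow_one] at this
        exact absurd (derange_field p hab ha hlt r hrp (by omega) hen) key
  · rintro ⟨rfl, rfl, hodd, hpad⟩ x hx ⟨z, hz⟩ hns
    have h2 : (2 : F) ≠ 0 := Cfsg.Agent.Helper14.PSpRank.two_ne_zero_of_odd' hodd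
    exact exists_conj_mem hab (by omega) h2 hpad e P x hx z hz hns

end Cfsg.Agent.S5979
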