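import Cfsg.Statements.S5980
import Cfsg.Agent.Lib.Helper14.TSPDirect
import Cfsg.Agent.Lib.Helper14.TSPC45
import Cfsg.Agent.Lib.Helper14.TSPECONV
import Cfsg.Agent.Lib.Helper74.TSPARITH
import Cfsg.Agent.Lib.Helper95.TSPC1
import Cfsg.Agent.Lib.Helper95.TSPC2
import Cfsg.Agent.Lib.Helper95.TSPC3

set_option autoImplicit false
open scoped MatrixGroups
open Cfsg

namespace Cfsg.Agent.S5980

open Matrix Polynomial Cfsg.Agent.Helper14.TSP Cfsg.Agent.Helper44.StarInv
  Cfsg.Agent.Helper14.TSPDirect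

/-- Elements of prime order of PSp_n(q), q odd, and the stabilizers of tensor decompositions Sp_a(q) ⊗ O_b(q). Here `T = PSp_{2d}(F)` for a field `F` with `q` elements, `q` odd, `d ≥ 2`, realised through the matrices preserving the standard alternating form `f`; `2d = a·b` with `a` even, `b ≥ 3`, and the bijection `e` and change of basis `P` exhibit `f` as a non-zero scalar multiple of the tensor product of a non-degenerate alternating form `f₁` on `F^a` and a non-degenerate symmetric bilinear form `f₂` on `F^b`; `H` is the subgroup of `T` stabilizing this tensor decomposition (the elements of `T` in the conjugate by `P` of the group of Kronecker products) — a subgroup of type Sp_a(q) ⊗ O^ε_b(q) (maximality is not assumed). Ω is the set of cosets of `H` in `T`, so an element of `T` of prime order `r` (`x ∈ T` with `x^r` scalar, `x` not scalar) fixes a point of Ω exactly when some `T`-conjugate of `x` lies in `H`. Let `r` be a prime dividing the index of `H`. Then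 every element of `T` of order `r` fixes a point of Ω if and only if `r = 2` and `a = 2`. -/
theorem result {F : Type*} [Field F] [Fintype F] {p : ℕ} [Fact p.Prime] [CharP F p] {q : ℕ} (hq : Fintype.card F = q)
    (hodd : Odd q) (d : ℕ) (hd : 2 ≤ d) (a b : ℕ) (hab : 2 * d = a * b) (ha : Even a) (ha2 : 2 ≤ a) (hb : 3 ≤ b)
    (e : (Fin d ⊕ Fin d) ≃ Fin a × Fin b) (P : GL (Fin d ⊕ Fin d) F)
    (f₁ : (Fin a → F) → (Fin a → F) → F) (f₂ : (Fin b → F) → (Fin b → F) → F)
    (hf₁ : Cfsg.Geo.IsSymplecticForm f₁) (hf₂ : Cfsg.Geo.IsSymmetricForm f₂)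
    (hS : Cfsg.Geo.IsTensorFormStructure id (Cfsg.sympForm d F) f₁ f₂ e P)
    (r : ℕ) [Fact r.Prime]
    (hΩ : r ∣ (Cfsg.Geo.tensorProductSubgroup a b e P).relIndex (Cfsg.spGL d F)) :
    (∀ x ∈ Cfsg.spGL d F, (∃ z : F, ((x ^ r : GL (Fin d ⊕ Fin d) F) : Matrix (Fin d ⊕ Fin d) (Fin d ⊕ Fin d) F) = z • (1 : Matrix (Fin d ⊕ Fin d) (Fin d ⊕ Fin d) F)) →
      (∀ z : F, (x : Matrix (Fin d ⊕ Fin d) (Fin d ⊕ Fin d) F) ≠ z • (1 : Matrix (Fin d ⊕ Fin d) (Fin d ⊕ Fin d) F)) →
      ∃ g ∈ Cfsg.spGL d F, g⁻¹ * x * g ∈ Cfsg.Geo.tensorProductSubgroup a b e P) ↔ (r = 2 ∧ a = 2) := by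
  classical
  subst hq
  have hr : r.Prime := Fact.out
  have hp : p.Prime := Fact.out
  have hcardι : Fintype.card (Fin d ⊕ Fin d) = a * b := by
    rw [Fintype.card_sum, Fintype.card_fin, ← hab]; ring
  have h2d : 2 * d = Fintype.card (Fin d ⊕ Fin d) := by
    rw [Fintype.card_sum, Fintype.card_fin]; ring
  have h2F : (2 : F) ≠ 0 := by
    intro h
    have h1 : ((2 : ℕ) : F) = 0 := by exact_mod_cast h
    rw [CharP.cast_eq_zero_iff F p] at h1
    have hp2 : p = 2 := (Nat.prime_dvd_prime_iff_eq hp Nat.prime_two).mp h1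
    obtain ⟨k, -, hk⟩ := FiniteField.card F p
    rw [hk, hp2] at hodd
    rcases Nat.eq_zero_or_pos (k : ℕ) with h0 | h0
    · exact absurd h0 k.pos.ne'
    · exact (Nat.not_even_iff_odd.mpr hodd) (Nat.even_pow.mpr ⟨even_two, h0.ne'⟩)
  constructor
  · intro h
    by_contra hne
    -- a derangement
    suffices hder : ∃ x : GL (Fin d ⊕ Fin d) F, x ∈ Cfsg.spGL d F ∧ x.val ^ r = 1 ∧
        (∀ z : F, x.val ≠ z • (1 : Matrix (Fin d ⊕ Fin d) (Fin d ⊕ Fin d) F)) ∧
        ¬ IsKronS a b x.val by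
      obtain ⟨x, hx, hxr, hns, hnk⟩ := hder
      obtain ⟨g, -, hg⟩ := h x hx ⟨1, by rw [Units.val_pow_eq_pow_val, hxr, one_smul]⟩ hns
      exact hnk (isKronS_of_conj_mem e P x g hg)
    by_cases hr2 : r = 2
    · -- involutions, `a ≥ 4`
      have ha4 : 4 ≤ a := by
        obtain ⟨k, hk⟩ := ha
        have : a ≠ 2 := fun h' => hne ⟨hr2, h'⟩
        omega
      obtain ⟨x, hx, hx2, hk1, hk2⟩ := Cfsg.Agent.Helper95.TSP.exists_involution h2F d hd
      refine ⟨x, hx, by rw [hr2]; exact hx2, ?_, ?_⟩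
      · exact not_scalar_of_kdi x.val (by omega) (by omega)
      · apply not_isKronS_of_large hcardι x.val 1 (by omega) (X - C (-1))
          (Polynomial.irreducible_X_sub_C _)
        rw [Polynomial.natDegree_X_sub_C, mul_one, hk2]
        intro hdvd
        have := Nat.le_of_dvd (by norm_num) hdvd
        omega
    by_cases hrp : r = p
    · -- transvections
      obtain ⟨x, hx, hxp, hk1⟩ := Cfsg.Agent.Helper95.TSP.exists_transvection (F := F) p d (by omega)
      refine ⟨x, hx, by rw [hrp]; exact hxp, ?_, ?_⟩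
      · exact not_scalar_of_kdi x.val (by omega) (by omega)
      · apply not_isKronS_of_large hcardι x.val 1 (by omega) (X - C 1)
          (Polynomial.irreducible_X_sub_C _)
        rw [Polynomial.natDegree_X_sub_C, mul_one]
        intro hdvd
        have h1 : a ∣ kdi x.val (X - C 1) + 1 := by rw [hk1, hab]; exact dvd_mul_right a b
        have h3 : a ∣ 1 := (Nat.dvd_add_right hdvd).mp h1
        have := Nat.le_of_dvd one_pos h3
        omega
    by_cases hr1 : r ∣ Fintype.card F - 1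
    · -- diagonal elements of order `r`
      obtain ⟨x, hx, l, hxr, hk1, hk2⟩ := Cfsg.Agent.Helper95.TSP.exists_root_elt d hd r hr hr2 hr1
      refine ⟨x, hx, hxr, ?_, ?_⟩
      · exact not_scalar_of_kdi x.val (by omega) (by omega)
      · apply not_isKronS_of_large hcardι x.val 1 (by omega) (X - C l)
          (Polynomial.irreducible_X_sub_C _)
        rw [Polynomial.natDegree_X_sub_C, mul_one, hk2]
        intro hdvd
        have := Nat.le_of_dvd one_pos hdvd
        omega
    · -- minimal support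
      have hrF : (r : F) ≠ 0 := by
        intro h0
        rw [CharP.cast_eq_zero_iff F p] at h0
        exact hrp ((Nat.prime_dvd_prime_iff_eq hp hr).mp h0).symm
      have hdvd : r ∣ Nat.card (Cfsg.spGL d F) := by
        refine dvd_trans hΩ ?_
        exact Subgroup.relIndex_dvd_card _ _
      have hi1 : orderOf ((Fintype.card F : ℕ) : ZMod r) ≠ 1 := by
        intro h1
        apply hr1
        have h3 : ((Fintype.card F : ℕ) : ZMod r) = 1 := orderOf_eq_one_iff.mp h1
        rw [← ZMod.natCast_eq_zero_iff, Nat.cast_sub Fintype.card_pos, h3, Nat.cast_one, sub_self]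
      have key : ∃ x : GL (Fin d ⊕ Fin d) F, x ∈ Cfsg.spGL d F ∧ ∃ f₀ : F[X], x.val ^ r = 1 ∧
          Irreducible f₀ ∧ f₀.natDegree = orderOf ((Fintype.card F : ℕ) : ZMod r) ∧
          kdi x.val f₀ = f₀.natDegree ∧
          (kdi x.val (X - C 1) + f₀.natDegree = Fintype.card (Fin d ⊕ Fin d) ∨
            (Odd f₀.natDegree ∧
              kdi x.val (X - C 1) + 2 * f₀.natDegree = Fintype.card (Fin d ⊕ Fin d))) := by
        rcases Cfsg.Agent.Helper74.TSP.arith_cases (F := F) p d r hr hrp hr2 hdvd with ⟨j, hjd, hj⟩ | ⟨hodd', hle⟩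
        · obtain ⟨x, hx, f₀, h1, h2, h3, h4, h5⟩ := Cfsg.Agent.Helper14.TSPC45.exists_block_even (F := F) p d r hr hr2 hrp j hjd hj
          exact ⟨x, hx, f₀, h1, h2, h3, h4, Or.inl (by rw [h5, h2d])⟩
        · obtain ⟨x, hx, f₀, h1, h2, h3, h4, h5⟩ := Cfsg.Agent.Helper14.TSPC45.exists_block_odd (F := F) p d r hr hr2 hrp hodd' hle
          exact ⟨x, hx, f₀, h1, h2, h3, h4, Or.inr ⟨by rw [h3]; exact hodd', by rw [h5, h2d]⟩⟩
      obtain ⟨x, hx, f₀, hxr, hirr, hdeg, hkd₀, hkd₁⟩ := key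
      have hi0 : 0 < f₀.natDegree := Polynomial.natDegree_pos_iff_degree_pos.mpr
        (Polynomial.degree_pos_of_irreducible hirr)
      have hi2 : 2 ≤ f₀.natDegree := by
        rw [hdeg] at hi0 ⊢
        omega
      refine ⟨x, hx, hxr, ?_, ?_⟩
      · exact not_scalar_of_kdi_irr x.val f₀ hirr hi2 (by rw [hkd₀]; exact hi0)
      · exact not_isKronS_of_minimal hcardι ha ha2 hb x.val r hr hrF hr1 hxr f₀ hirr hdeg hi2
          hkd₀ hkd₁
  · rintro ⟨hr2, ha2'⟩
    subst ha2'
    intro x hx hz _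
    obtain ⟨z, hz⟩ := hz
    have hz' : x.val ^ 2 = z • (1 : Matrix (Fin d ⊕ Fin d) (Fin d ⊕ Fin d) F) := by
      rw [← Units.val_pow_eq_pow_val, ← hr2]
      exact hz
    exact Cfsg.Agent.Helper14.TSPECONV.conj_mem_tensor_two h2F d b (by omega) hab e P f₁ f₂ hf₁ hf₂ hS x hx z hz'

end Cfsg.Agent.S5980
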