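import Cfsg.Statements.S5985
import Mathlib
import Cfsg.Agent.S2597
import Cfsg.Agent.S2562
import Cfsg.Agent.S0832

set_option autoImplicit false
open scoped MatrixGroups
open Cfsg

namespace Cfsg.Agent.S5985

section aux

open Matrix Module Cfsg.Agent.Helper36 Cfsg.Agent.Helper36.PlusOrth

universe u

variable {F : Type u} [Field F] [Fintype F] [CharP F 2] {m : ℕ}

omit [Fintype F] in
theorem sq_eq_one_char2 (c : F) (hc : c ^ 2 = 1) : c = 1 := by
  have h2 : (2 : F) = 0 := CharP.cast_eq_zero F 2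
  have : (c - 1) ^ 2 = 0 := by linear_combination hc + (1 - c) * h2
  exact sub_eq_zero.1 (pow_eq_zero_iff (two_ne_zero) |>.1 this)

omit [Fintype F] in
/-- a scalar isometry is trivial -/
theorem scalar_eq_one (hm : 1 ≤ m) (t : OPlus m F) (z : F)
    (h : ((t.1 : GL (Fin m ⊕ Fin m) F) : Matrix (Fin m ⊕ Fin m) (Fin m ⊕ Fin m) F) = z • 1) :
    z = 1 := by
  have h1 := Q_act t (Cfsg.Agent.S2597.a0 hm)
  rw [actHom_apply, h, smul_mulVec, one_mulVec, Cfsg.Agent.S0832.Q_smul,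
    Cfsg.Agent.S2597.Q_a0, mul_one] at h1
  exact sq_eq_one_char2 z h1

omit [Fintype F] in
/-- an invariant nonsingular line is spanned by a fixed vector -/
theorem fixed_of_invariant (t : OPlus m F) (W : Submodule F (Fin m ⊕ Fin m → F))
    (hW : finrank F W = 1) (v : Fin m ⊕ Fin m → F) (hv : v ∈ W)
    (hQ : Cfsg.quadFormPlus m F v ≠ 0)
    (hinv : W.map (Matrix.toLin'
      ((t.1 : GL (Fin m ⊕ Fin m) F) : Matrix (Fin m ⊕ Fin m) (Fin m ⊕ Fin m) F)) ≤ W) :
    ((t.1 : GL (Fin m ⊕ Fin m) F) : Matrix (Fin m ⊕ Fin m) (Fin m ⊕ Fin m) F) *ᵥ v = v := by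
  have hv0 : v ≠ 0 := by
    rintro rfl
    apply hQ
    unfold Cfsg.quadFormPlus
    simp
  have hxv : ((t.1 : GL (Fin m ⊕ Fin m) F) : Matrix (Fin m ⊕ Fin m) (Fin m ⊕ Fin m) F) *ᵥ v ∈ W := by
    apply hinv
    exact Submodule.mem_map.2 ⟨v, hv, Matrix.toLin'_apply _ _⟩
  have hv0' : (⟨v, hv⟩ : W) ≠ 0 := by
    intro h
    exact hv0 (congrArg Subtype.val h)
  obtain ⟨c, hc⟩ := (finrank_eq_one_iff_of_nonzero' (⟨v, hv⟩ : W) hv0').1 hW ⟨_, hxv⟩
  have hc' : c • v = ((t.1 : GL (Fin m ⊕ Fin m) F) : Matrix (Fin m ⊕ Fin m) (Fin m ⊕ Fin m) F) *ᵥ v :=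
    congrArg Subtype.val hc
  have h1 := Q_act t v
  rw [actHom_apply, ← hc', Cfsg.Agent.S0832.Q_smul] at h1
  have h2 : c ^ 2 = 1 := by
    have : (c ^ 2 - 1) * Cfsg.quadFormPlus m F v = 0 := by linear_combination h1
    rcases mul_eq_zero.1 this with h | h
    · exact sub_eq_zero.1 h
    · exact absurd h hQ
  rw [← hc', sq_eq_one_char2 c h2, one_smul]

/-- elements of odd order lie in `Ω` -/
theorem mem_Omega_of_odd_pow (hm : 1 ≤ m) (h : Fintype.card F ≠ 2 ∨ m ≠ 2) (t : OPlus m F)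
    (r : ℕ) (hr : Odd r) (htr : t ^ r = 1) : t ∈ Cfsg.Omega F (Cfsg.quadFormPlus m F) := by
  rw [Cfsg.Agent.S2630.mem_Omega_iff_dnat hm h t]
  have h1 : (delta m F t) ^ r = 1 := by rw [← map_pow, htr, map_one]
  have h2 : (delta m F t) ^ 2 = 1 := by
    have : ∀ x : Multiplicative (ZMod 2), x ^ 2 = 1 := by decide
    exact this _
  have h3 : delta m F t = 1 := by
    obtain ⟨k, hk⟩ := hr
    rw [hk, pow_succ, pow_mul, h2, one_pow, one_mul] at h1
    exact h1
  rw [delta_apply] at h3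
  have h4 : ((dnat t : ℕ) : ZMod 2) = 0 := by
    have := congrArg Multiplicative.toAdd h3
    simpa using this
  exact (ZMod.natCast_eq_zero_iff_even).mp h4

end aux

section fixpart

open Matrix Module Cfsg.Agent.Helper36 Cfsg.Agent.Helper36.PlusOrth

universe u

variable {F : Type u} [Field F] [Fintype F] [CharP F 2] {m : ℕ}

theorem fix_exists (hm : 4 ≤ m) (hodd : Odd m) (t : OPlus m F)
    (ht : t ∈ Cfsg.Omega F (Cfsg.quadFormPlus m F)) (htt : t * t = 1) :
    ∃ v : Fin m ⊕ Fin m → F, Cfsg.quadFormPlus m F v ≠ 0 ∧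
      ((t.1 : GL (Fin m ⊕ Fin m) F) : Matrix (Fin m ⊕ Fin m) (Fin m ⊕ Fin m) F) *ᵥ v = v := by
  have heven := (Cfsg.Agent.S2597.mem_Omega_iff_even_plus (by omega) (Or.inr (by omega)) t htt).1 ht
  obtain ⟨N, hN⟩ : ∃ N, N = ((t.1 : GL (Fin m ⊕ Fin m) F) :
      Matrix (Fin m ⊕ Fin m) (Fin m ⊕ Fin m) F) - 1 := ⟨_, rfl⟩
  rw [← hN] at heven
  have hsq : ((t.1 : GL (Fin m ⊕ Fin m) F) : Matrix (Fin m ⊕ Fin m) (Fin m ⊕ Fin m) F) *
      ((t.1 : GL (Fin m ⊕ Fin m) F) : Matrix (Fin m ⊕ Fin m) (Fin m ⊕ Fin m) F) = 1 := by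
    have := congrArg (fun s : OPlus m F => ((s.1 : GL (Fin m ⊕ Fin m) F) :
      Matrix (Fin m ⊕ Fin m) (Fin m ⊕ Fin m) F)) htt
    simpa using this
  have hNN : N * N = 0 := by
    rw [hN, sub_mul, mul_sub, mul_sub, hsq, one_mul, mul_one, mul_one]
    have h2 : ∀ X : Matrix (Fin m ⊕ Fin m) (Fin m ⊕ Fin m) F, X + X = 0 := by
      intro X; ext i j; exact CharTwo.add_self_eq_zero (X i j)
    have h3 := h2 ((t.1 : GL (Fin m ⊕ Fin m) F) : Matrix (Fin m ⊕ Fin m) (Fin m ⊕ Fin m) F)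
    have h1 := h2 (1 : Matrix (Fin m ⊕ Fin m) (Fin m ⊕ Fin m) F)
    have h4 : ∀ X : Matrix (Fin m ⊕ Fin m) (Fin m ⊕ Fin m) F,
        1 - X - (X - 1) = (1 + 1) - (X + X) := by intro X; abel
    rw [h4, h1, h3, sub_self]
  have hrk := Matrix.rank_add_rank_le_card_of_mul_eq_zero hNN
  rw [Fintype.card_sum, Fintype.card_fin] at hrk
  have hrk2 : N.rank + 1 ≤ m := by
    obtain ⟨a, ha⟩ := heven
    obtain ⟨b, hb⟩ := hodd
    omega
  by_contra hcon
  simp only [not_exists, not_and] at hcon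
  have hker : ∀ u ∈ LinearMap.ker N.mulVecLin, Cfsg.quadFormPlus m F u = 0 := by
    intro u hu
    by_contra hne
    apply hcon u hne
    have : N *ᵥ u = 0 := hu
    rw [hN, sub_mulVec, one_mulVec, sub_eq_zero] at this
    exact this
  have hb := Cfsg.Agent.S2562.plus_bound m _ hker
  have hrn := LinearMap.finrank_range_add_finrank_ker N.mulVecLin
  rw [Module.finrank_fintype_fun_eq_card, Fintype.card_sum, Fintype.card_fin] at hrn
  have : N.rank = finrank F (LinearMap.range N.mulVecLin) := rfl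
  omega

end fixpart

section evencase

open Matrix Module Cfsg.Agent.Helper36 Cfsg.Agent.Helper36.PlusOrth

universe u

variable {F : Type u} [Field F] [Fintype F] [CharP F 2] {m : ℕ}

/-- a fixed-point-free involution of `Fin m`, `m` even -/
def sig (m : ℕ) (hm : Even m) (i : Fin m) : Fin m :=
  ⟨if i.val % 2 = 0 then i.val + 1 else i.val - 1, by
    have := i.2
    obtain ⟨k, hk⟩ := hm
    split_ifs <;> omega⟩

theorem sig_sig (hm : Even m) (i : Fin m) : sig m hm (sig m hm i) = i := by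
  apply Fin.ext
  simp only [sig]
  split_ifs <;> omega

theorem sig_ne (hm : Even m) (i : Fin m) : sig m hm i ≠ i := by
  intro h
  have := congrArg Fin.val h
  simp only [sig] at this
  split_ifs at this <;> omega

/-- the permutation matrix of `sig` -/
def Smat (F : Type u) [Field F] (m : ℕ) (hm : Even m) : Matrix (Fin m) (Fin m) F :=
  Matrix.of fun i j => if j = sig m hm i then 1 else 0

omit [Fintype F] [CharP F 2] in
theorem Smat_mulVec (hm : Even m) (y : Fin m → F) :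
    Smat F m hm *ᵥ y = fun i => y (sig m hm i) := by
  funext i
  simp [Smat, mulVec, dotProduct]

omit [Fintype F] in
theorem Smat_alt (hm : Even m) : IsAltM (Smat F m hm) := by
  intro y
  rw [Smat_mulVec]
  unfold dotProduct
  apply Finset.sum_ninvolution (sig m hm)
  · intro a
    show y a * y (sig m hm a) + y (sig m hm a) * y (sig m hm (sig m hm a)) = 0
    rw [sig_sig, mul_comm (y (sig m hm a))]
    exact CharTwo.add_self_eq_zero _
  · intro a _
    exact sig_ne hm a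
  · intro a
    exact Finset.mem_univ _
  · intro a
    exact sig_sig hm a

omit [Fintype F] [CharP F 2] in
theorem Smat_inj (hm : Even m) (y : Fin m → F) (h : Smat F m hm *ᵥ y = 0) : y = 0 := by
  rw [Smat_mulVec] at h
  funext i
  have := congrFun h (sig m hm i)
  rw [sig_sig] at this
  exact this

omit [Fintype F] [CharP F 2] in
theorem Smat_rank (hm : Even m) : (Smat F m hm).rank = m := by
  have hinj : Function.Injective (Smat F m hm).mulVecLin := by
    rw [← LinearMap.ker_eq_bot, LinearMap.ker_eq_bot']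
    intro y hy
    exact Smat_inj hm y hy
  have := LinearMap.finrank_range_of_inj hinj
  rw [Module.finrank_fintype_fun_eq_card, Fintype.card_fin] at this
  exact this

theorem even_counter (hm : 4 ≤ m) (hev : Even m) :
    ∃ t : OPlus m F, t ∈ Cfsg.Omega F (Cfsg.quadFormPlus m F) ∧ t * t = 1 ∧
      (∀ z : F, ((t.1 : GL (Fin m ⊕ Fin m) F) : Matrix (Fin m ⊕ Fin m) (Fin m ⊕ Fin m) F) ≠ z • 1) ∧
      ∀ v : Fin m ⊕ Fin m → F,
        ((t.1 : GL (Fin m ⊕ Fin m) F) : Matrix (Fin m ⊕ Fin m) (Fin m ⊕ Fin m) F) *ᵥ v = v →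
          Cfsg.quadFormPlus m F v = 0 := by
  refine ⟨uS (Smat F m hev) (Smat_alt hev), ?_, uS_mul_self _ _, ?_, ?_⟩
  · rw [Cfsg.Agent.S2597.mem_Omega_iff_even_plus (by omega) (Or.inr (by omega)) _ (uS_mul_self _ _),
      rank_uS, Smat_rank]
    exact hev
  · intro z hz
    have h1 := scalar_eq_one (by omega) _ z hz
    rw [h1, one_smul] at hz
    have h2 := rank_uS (Smat F m hev) (Smat_alt hev)
    rw [hz, sub_self, Matrix.rank_zero, Smat_rank] at h2
    omega
  · intro v hv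
    have hval : ((uS (Smat F m hev) (Smat_alt hev)).1 : Matrix (Fin m ⊕ Fin m) (Fin m ⊕ Fin m) F) =
        fromBlocks 1 (Smat F m hev) 0 1 := rfl
    rw [hval, fromBlocks_mulVec] at hv
    have h1 : Smat F m hev *ᵥ (v ∘ Sum.inr) = 0 := by
      funext i
      have := congrFun hv (Sum.inl i)
      simp only [Sum.elim_inl, Pi.add_apply, one_mulVec, Function.comp] at this
      have h2 : (Smat F m hev *ᵥ (v ∘ Sum.inr)) i = 0 := by
        have h3 : v (Sum.inl i) + (Smat F m hev *ᵥ (v ∘ Sum.inr)) i = v (Sum.inl i) := this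
        exact add_eq_left.1 h3
      exact h2
    have h2 := Smat_inj hev _ h1
    unfold Cfsg.quadFormPlus
    apply Finset.sum_eq_zero
    intro i _
    have : v (Sum.inr i) = 0 := congrFun h2 i
    rw [this, mul_zero]

end evencase

section oddcase

open Matrix Module Cfsg.Agent.Helper36 Cfsg.Agent.Helper36.PlusOrth

universe u

variable {F : Type u} [Field F] [Fintype F] [CharP F 2] {m : ℕ}

theorem exists_mat (hm : 1 ≤ m) (r : ℕ) [Fact r.Prime] (hr : r ∣ Fintype.card F ^ m - 1) :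
    ∃ A : Matrix (Fin m) (Fin m) F, A ^ r = 1 ∧ ∀ y : Fin m → F, A *ᵥ y = y → y = 0 := by
  have : NeZero m := ⟨by omega⟩
  have : Fact (Nat.Prime 2) := ⟨Nat.prime_two⟩
  obtain ⟨L, _, _, _, hfr, hcard⟩ : ∃ (L : Type) (_ : Field L) (_ : Finite L) (_ : Algebra F L),
      finrank F L = m ∧ Nat.card L = Fintype.card F ^ m :=
    ⟨FiniteField.Extension F 2 m, inferInstance, inferInstance, inferInstance,
      FiniteField.finrank_extension F 2 m, by
        rw [FiniteField.natCard_extension, Nat.card_eq_fintype_card]⟩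
  have hunits : Nat.card Lˣ = Fintype.card F ^ m - 1 := by rw [Nat.card_units, hcard]
  obtain ⟨ζ, hζ⟩ := exists_prime_orderOf_dvd_card' (G := Lˣ) r (by rw [hunits]; exact hr)
  have : Module.Finite F L := Module.Finite.of_finite
  let b : Basis (Fin m) F L := Module.finBasisOfFinrankEq F L hfr
  refine ⟨Algebra.leftMulMatrix b (ζ : L), ?_, ?_⟩
  · rw [← map_pow, ← Units.val_pow_eq_pow_val, ← hζ, pow_orderOf_eq_one, Units.val_one, map_one]
  · intro y hy
    obtain ⟨ℓ, hℓ⟩ : ∃ ℓ : L, b.equivFun ℓ = y := ⟨b.equivFun.symm y, LinearEquiv.apply_symm_apply _ _⟩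
    have h1 := Algebra.leftMulMatrix_mulVec_repr b (ζ : L) ℓ
    have h2 : ⇑(b.repr ℓ) = y := hℓ
    rw [h2, hy] at h1
    have h3 : b.equivFun ((ζ : L) * ℓ) = b.equivFun ℓ := by
      rw [hℓ]; exact h1.symm
    have h4 : (ζ : L) * ℓ = ℓ := b.equivFun.injective h3
    have h5 : ((ζ : L) - 1) * ℓ = 0 := by rw [sub_mul, one_mul, h4, sub_self]
    have hζ1 : (ζ : L) - 1 ≠ 0 := by
      intro h
      have : ζ = 1 := Units.ext (sub_eq_zero.1 h)
      rw [this, orderOf_one] at hζ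
      exact (Fact.out : r.Prime).one_lt.ne hζ
    have h6 : ℓ = 0 := (mul_eq_zero.1 h5).resolve_left hζ1
    rw [← hℓ, h6, map_zero]

end oddcase

section oddcase2

open Matrix Module Cfsg.Agent.Helper36 Cfsg.Agent.Helper36.PlusOrth

universe u

variable {F : Type u} [Field F] [Fintype F] [CharP F 2] {m : ℕ}

omit [Fintype F] [CharP F 2] in
theorem fromBlocks_diag_pow (A D : Matrix (Fin m) (Fin m) F) (k : ℕ) :
    (fromBlocks A 0 0 D) ^ k = fromBlocks (A ^ k) 0 0 (D ^ k) := by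
  induction k with
  | zero => rw [pow_zero, pow_zero, pow_zero, fromBlocks_one]
  | succ k ih =>
    rw [pow_succ, ih, fromBlocks_multiply, pow_succ, pow_succ]
    simp

theorem odd_counter (hm : 4 ≤ m) (r : ℕ) [Fact r.Prime] (hr2 : r ≠ 2)
    (hr : r ∣ Fintype.card F ^ m - 1) :
    ∃ t : OPlus m F, t ∈ Cfsg.Omega F (Cfsg.quadFormPlus m F) ∧ t ^ r = 1 ∧
      (∀ z : F, ((t.1 : GL (Fin m ⊕ Fin m) F) : Matrix (Fin m ⊕ Fin m) (Fin m ⊕ Fin m) F) ≠ z • 1) ∧
      ∀ v : Fin m ⊕ Fin m → F,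
        ((t.1 : GL (Fin m ⊕ Fin m) F) : Matrix (Fin m ⊕ Fin m) (Fin m ⊕ Fin m) F) *ᵥ v = v →
          Cfsg.quadFormPlus m F v = 0 := by
  obtain ⟨A, hAr, hAfix⟩ := exists_mat (F := F) (by omega : 1 ≤ m) r hr
  have hrpos : 1 ≤ r := (Fact.out : r.Prime).one_lt.le
  have h1 : A * A ^ (r - 1) = 1 := by
    rw [← pow_succ', Nat.sub_add_cancel hrpos, hAr]
  have h2 : A ^ (r - 1) * A = 1 := by
    rw [← pow_succ, Nat.sub_add_cancel hrpos, hAr]
  have hval : ((lA A (A ^ (r - 1)) h1 h2).1 : Matrix (Fin m ⊕ Fin m) (Fin m ⊕ Fin m) F) =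
      fromBlocks A 0 0 (A ^ (r - 1))ᵀ := rfl
  have htr : (lA A (A ^ (r - 1)) h1 h2) ^ r = 1 := by
    apply Subtype.ext
    apply Units.ext
    show ((lA A (A ^ (r - 1)) h1 h2).1 : Matrix (Fin m ⊕ Fin m) (Fin m ⊕ Fin m) F) ^ r = 1
    rw [hval, fromBlocks_diag_pow, hAr, ← transpose_pow, ← pow_mul, mul_comm, pow_mul, hAr, one_pow,
      transpose_one, fromBlocks_one]
  refine ⟨lA A (A ^ (r - 1)) h1 h2, ?_, htr, ?_, ?_⟩
  · exact mem_Omega_of_odd_pow (by omega) (Or.inr (by omega)) _ r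
      ((Fact.out : r.Prime).odd_of_ne_two hr2) htr
  · intro z hz
    have hz1 := scalar_eq_one (by omega) _ z hz
    rw [hz1, one_smul, hval, ← fromBlocks_one] at hz
    have hA1 : A = 1 := (fromBlocks_inj.1 hz).1
    have h0 := hAfix (Pi.single (⟨0, by omega⟩ : Fin m) 1) (by rw [hA1, one_mulVec])
    have := congrFun h0 (⟨0, by omega⟩ : Fin m)
    simp at this
  · intro v hv
    rw [hval, fromBlocks_mulVec] at hv
    have h3 : A *ᵥ (v ∘ Sum.inl) = v ∘ Sum.inl := by
      funext i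
      have := congrFun hv (Sum.inl i)
      simpa using this
    have h4 := hAfix _ h3
    unfold Cfsg.quadFormPlus
    apply Finset.sum_eq_zero
    intro i _
    have : v (Sum.inl i) = 0 := congrFun h4 i
    rw [this, zero_mul]

end oddcase2

section counting

open Matrix Module

universe u

variable {F : Type u} [Field F] [Fintype F] {m : ℕ}

omit [Fintype F] in
theorem Q_zero : Cfsg.quadFormPlus m F 0 = 0 := by
  unfold Cfsg.quadFormPlus
  simp

theorem card_lines_mul :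
    Nat.card {W : Submodule F (Fin m ⊕ Fin m → F) //
        finrank F ↥W = 1 ∧ ∃ v ∈ W, Cfsg.quadFormPlus m F v ≠ 0} * (Fintype.card F - 1) =
      Nat.card {v : Fin m ⊕ Fin m → F // Cfsg.quadFormPlus m F v ≠ 0} := by
  classical
  have hne : ∀ v : {v : Fin m ⊕ Fin m → F // Cfsg.quadFormPlus m F v ≠ 0}, v.1 ≠ 0 := by
    rintro ⟨v, hv⟩ h
    apply hv
    show Cfsg.quadFormPlus m F v = 0
    have : v = 0 := h
    rw [this, Q_zero]
  let f : {v : Fin m ⊕ Fin m → F // Cfsg.quadFormPlus m F v ≠ 0} →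
      {W : Submodule F (Fin m ⊕ Fin m → F) //
        finrank F ↥W = 1 ∧ ∃ v ∈ W, Cfsg.quadFormPlus m F v ≠ 0} :=
    fun v => ⟨Submodule.span F {v.1}, finrank_span_singleton (hne v), v.1,
      Submodule.mem_span_singleton_self _, v.2⟩
  have hfib : ∀ y, Nat.card {x // f x = y} = Fintype.card F - 1 := by
    rintro ⟨W, hW1, v₀, hv₀W, hQ₀⟩
    have hv₀ : v₀ ≠ 0 := by
      rintro rfl
      exact hQ₀ Q_zero
    have hWspan : Submodule.span F {v₀} = W :=
      Submodule.eq_of_le_of_finrank_eq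
        ((Submodule.span_singleton_le_iff_mem v₀ W).2 hv₀W)
        (by rw [finrank_span_singleton hv₀, hW1])
    rw [← Fintype.card_units (α := F), ← Nat.card_eq_fintype_card]
    symm
    have hQc : ∀ c : Fˣ, Cfsg.quadFormPlus m F ((c : F) • v₀) ≠ 0 := by
      intro c
      rw [Cfsg.Agent.S0832.Q_smul]
      exact mul_ne_zero (pow_ne_zero 2 c.ne_zero) hQ₀
    have hfc : ∀ c : Fˣ, f ⟨(c : F) • v₀, hQc c⟩ = ⟨W, hW1, v₀, hv₀W, hQ₀⟩ := by
      intro c
      apply Subtype.ext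
      show Submodule.span F {(c : F) • v₀} = W
      rw [Submodule.span_singleton_smul_eq c.isUnit, hWspan]
    apply Nat.card_eq_of_bijective (fun c : Fˣ => (⟨⟨(c : F) • v₀, hQc c⟩, hfc c⟩ :
      {x // f x = ⟨W, hW1, v₀, hv₀W, hQ₀⟩}))
    constructor
    · intro c c' h
      have h1 : (c : F) • v₀ = (c' : F) • v₀ := congrArg (fun z => z.1.1) h
      exact Units.ext (smul_left_injective F hv₀ h1)
    · rintro ⟨⟨x, hQx⟩, hfx⟩
      have h1 : Submodule.span F {x} = W := congrArg Subtype.val hfx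
      have h2 : x ∈ Submodule.span F {v₀} := by
        rw [hWspan, ← h1]
        exact Submodule.mem_span_singleton_self x
      obtain ⟨c, hc⟩ := Submodule.mem_span_singleton.1 h2
      have hc0 : c ≠ 0 := by
        rintro rfl
        rw [zero_smul] at hc
        rw [← hc] at hQx
        exact hQx Q_zero
      refine ⟨Units.mk0 c hc0, ?_⟩
      apply Subtype.ext
      apply Subtype.ext
      exact hc
  have : Fintype {W : Submodule F (Fin m ⊕ Fin m → F) //
        finrank F ↥W = 1 ∧ ∃ v ∈ W, Cfsg.quadFormPlus m F v ≠ 0} := Fintype.ofFinite _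
  rw [← Nat.card_congr (Equiv.sigmaFiberEquiv f), Nat.card_sigma]
  simp only [hfib, Finset.sum_const, Finset.card_univ, smul_eq_mul, Nat.card_eq_fintype_card]

end counting

section numeric

open Matrix Module

universe u

variable {F : Type u} [Field F] [Fintype F] [CharP F 2] {m : ℕ}

omit [CharP F 2] in
theorem card_nonsing_mul :
    Nat.card {v : Fin m ⊕ Fin m → F // Cfsg.quadFormPlus m F v ≠ 0} * Fintype.card F =
      Fintype.card F ^ m * ((Fintype.card F - 1) * (Fintype.card F ^ m - 1)) := by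
  classical
  have hs := Cfsg.Agent.S0832.card_singular (F := F) m
  have hN : Nat.card {v : Fin m ⊕ Fin m → F // Cfsg.quadFormPlus m F v ≠ 0} +
      (Finset.univ.filter (fun v : Fin m ⊕ Fin m → F => Cfsg.quadFormPlus m F v = 0)).card =
      Fintype.card F ^ (2 * m) := by
    rw [Nat.card_eq_fintype_card, Fintype.card_subtype, add_comm,
      Finset.card_filter_add_card_filter_not, Finset.card_univ, Fintype.card_fun,
      Fintype.card_sum, Fintype.card_fin, two_mul]
  obtain ⟨a, ha⟩ : ∃ a, Fintype.card F = a + 1 :=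
    ⟨Fintype.card F - 1, (Nat.sub_add_cancel Fintype.card_pos).symm⟩
  obtain ⟨b, hb⟩ : ∃ b, Fintype.card F ^ m = b + 1 :=
    ⟨Fintype.card F ^ m - 1, (Nat.sub_add_cancel (Nat.pos_of_ne_zero (pow_ne_zero m Fintype.card_ne_zero))).symm⟩
  generalize Nat.card {v : Fin m ⊕ Fin m → F // Cfsg.quadFormPlus m F v ≠ 0} = N at hN ⊢
  generalize (Finset.univ.filter (fun v : Fin m ⊕ Fin m → F =>
    Cfsg.quadFormPlus m F v = 0)).card = s at hN hs
  rw [pow_succ, mul_comm 2 m, pow_mul, hb, ha] at hs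
  rw [mul_comm 2 m, pow_mul, hb] at hN
  rw [hb, ha, Nat.add_sub_cancel, Nat.add_sub_cancel]
  zify at hs hN ⊢
  linear_combination ((a : ℤ) + 1) * hN - hs

theorem dvd_pow_sub_one (r : ℕ) [Fact r.Prime] (hr2 : r ≠ 2)
    (hr : r ∣ Nat.card {W : Submodule F (Fin m ⊕ Fin m → F) //
        finrank F ↥W = 1 ∧ ∃ v ∈ W, Cfsg.quadFormPlus m F v ≠ 0}) :
    r ∣ Fintype.card F ^ m - 1 := by
  have hrp : r.Prime := Fact.out
  have h1 : r ∣ Fintype.card F ^ m * ((Fintype.card F - 1) * (Fintype.card F ^ m - 1)) := by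
    rw [← card_nonsing_mul, ← card_lines_mul]
    exact Dvd.dvd.mul_right (Dvd.dvd.mul_right hr _) _
  rcases (Nat.Prime.dvd_mul hrp).1 h1 with h | h
  · exfalso
    have h2 := hrp.dvd_of_dvd_pow h
    obtain ⟨n, _, hn⟩ := FiniteField.card F 2
    rw [hn] at h2
    have h3 := hrp.dvd_of_dvd_pow h2
    exact hr2 ((Nat.prime_dvd_prime_iff_eq hrp Nat.prime_two).1 h3)
  · rcases (Nat.Prime.dvd_mul hrp).1 h with h | h
    · have := Nat.sub_dvd_pow_sub_pow (Fintype.card F) 1 m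
      rw [one_pow] at this
      exact h.trans this
    · exact h

end numeric

/-- Elements of prime order of Ω⁺_n(q), q even, with no fixed nonsingular 1-space. Here `T = PΩ⁺_n(F)`, `n = 2d ≥ 8`, realised through `Ω⁺_n(q)`, the commutator subgroup of the isometry group of `Q = Σ xᵢyᵢ` over the field `F` with `q` elements; an element of `T` of prime order `r` is an element `x` of `Ω⁺_n(q)` with `x^r` scalar and `x` not scalar; `q` is even (so the centre is trivial). Let Ω be the set of 1-dimensional subspaces spanned by a vector `v` with `Q(v) ≠ 0`, and let `r` be a prime dividing their number. Then every element of `T` of order `r` fixes some nonsingular 1-space if and only if `r = 2` and `n ≡ 2 (mod 4)` (that is, `d` is odd). -/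
theorem result {F : Type*} [Field F] [Fintype F] {p : ℕ} [Fact p.Prime] [CharP F p] {q : ℕ} (hq : Fintype.card F = q)
    (hp : p = 2) (d : ℕ) (hd : 4 ≤ d) (r : ℕ) [Fact r.Prime]
    (hrΩ : r ∣ Nat.card {W : Submodule F (Fin d ⊕ Fin d → F) // Module.finrank F ↥W = 1 ∧ ∃ v ∈ W, Cfsg.quadFormPlus d F v ≠ 0}) :
    (∀ x : GL (Fin d ⊕ Fin d) F, x ∈ Cfsg.Geo.omegaGL (Cfsg.quadFormPlus d F) →
      (∃ z : F, ((x ^ r : GL (Fin d ⊕ Fin d) F) : Matrix (Fin d ⊕ Fin d) (Fin d ⊕ Fin d) F) = z • (1 : Matrix (Fin d ⊕ Fin d) (Fin d ⊕ Fin d) F)) →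
      (∀ z : F, (x : Matrix (Fin d ⊕ Fin d) (Fin d ⊕ Fin d) F) ≠ z • (1 : Matrix (Fin d ⊕ Fin d) (Fin d ⊕ Fin d) F)) →
      ∃ W : Submodule F (Fin d ⊕ Fin d → F), (Module.finrank F ↥W = 1 ∧ ∃ v ∈ W, Cfsg.quadFormPlus d F v ≠ 0) ∧ W.map (Matrix.toLin' (x : Matrix (Fin d ⊕ Fin d) (Fin d ⊕ Fin d) F)) ≤ W) ↔ (r = 2 ∧ Odd d) := by
  classical
  subst hp
  constructor
  · intro H
    by_cases hr2 : r = 2
    · refine ⟨hr2, ?_⟩
      by_contra hodd
      have hev : Even d := Nat.not_odd_iff_even.1 hodd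
      obtain ⟨t, htΩ, htt, hns, hfix⟩ := even_counter (F := F) hd hev
      have hsq := Cfsg.Agent.Helper36.PlusOrth.coe_mul_self t htt
      obtain ⟨W, ⟨hW1, v, hvW, hQv⟩, hinv⟩ := H t.1 (Subgroup.mem_map.2 ⟨t, htΩ, rfl⟩)
        ⟨1, by rw [hr2, one_smul, Units.val_pow_eq_pow_val, pow_two]; exact hsq⟩ hns
      exact hQv (hfix v (fixed_of_invariant t W hW1 v hvW hQv hinv))
    · exfalso
      have hdvd := dvd_pow_sub_one (F := F) (m := d) r hr2 hrΩ
      obtain ⟨t, htΩ, htr, hns, hfix⟩ := odd_counter (F := F) hd r hr2 hdvd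
      have hpow : ((t.1 ^ r : GL (Fin d ⊕ Fin d) F) : Matrix (Fin d ⊕ Fin d) (Fin d ⊕ Fin d) F) = 1 := by
        have := congrArg (fun s : Cfsg.Agent.Helper36.PlusOrth.OPlus d F =>
          ((s.1 : GL (Fin d ⊕ Fin d) F) : Matrix (Fin d ⊕ Fin d) (Fin d ⊕ Fin d) F)) htr
        simpa using this
      obtain ⟨W, ⟨hW1, v, hvW, hQv⟩, hinv⟩ := H t.1 (Subgroup.mem_map.2 ⟨t, htΩ, rfl⟩)
        ⟨1, by rw [one_smul]; exact hpow⟩ hns
      exact hQv (hfix v (fixed_of_invariant t W hW1 v hvW hQv hinv))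
  · rintro ⟨rfl, hodd⟩ x hx ⟨z, hz⟩ hns
    obtain ⟨t, ht, rfl⟩ := Subgroup.mem_map.1 hx
    have hz1 : z = 1 := scalar_eq_one (by omega) (t ^ 2) z hz
    rw [hz1, one_smul] at hz
    have htt : t * t = 1 := by
      apply Subtype.ext
      apply Units.ext
      rw [← pow_two]
      exact hz
    obtain ⟨v, hQ, hfix⟩ := fix_exists hd hodd t ht htt
    have hv0 : v ≠ 0 := by
      rintro rfl
      exact hQ Q_zero
    refine ⟨Submodule.span F {v}, ⟨finrank_span_singleton hv0, v,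
      Submodule.mem_span_singleton_self v, hQ⟩, ?_⟩
    rw [Submodule.map_span, Set.image_singleton, Matrix.toLin'_apply]
    show Submodule.span F {Matrix.mulVec ((t.1 : GL (Fin d ⊕ Fin d) F) :
      Matrix (Fin d ⊕ Fin d) (Fin d ⊕ Fin d) F) v} ≤ _
    rw [hfix]

end Cfsg.Agent.S5985
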