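import Cfsg.Statements.S5986
import Mathlib
import Cfsg.Agent.S2598
import Cfsg.Agent.Lib.Helper44.OTransfer
import Cfsg.Agent.Lib.Helper44.OTypes

set_option autoImplicit false
open scoped MatrixGroups
open Cfsg

namespace Cfsg.Agent.S5986

section aux

open Matrix Module Cfsg.Agent.Helper36 Cfsg.Agent.Helper36.QuadInv Cfsg.Agent.S2170
  Cfsg.Agent.S2171 Cfsg.Agent.Helper36.OmegaChar2

universe u

variable {F : Type u} [Field F] [Fintype F] [CharP F 2] {k : ℕ}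

omit [Fintype F] in
theorem sq_eq_one_char2 (c : F) (hc : c ^ 2 = 1) : c = 1 := by
  have h2 : (2 : F) = 0 := CharP.cast_eq_zero F 2
  have : (c - 1) ^ 2 = 0 := by linear_combination hc + (1 - c) * h2
  exact sub_eq_zero.1 (pow_eq_zero_iff (two_ne_zero) |>.1 this)

/-- anisotropy of the binary part forces the middle coefficient to be nonzero -/
theorem a_ne_zero (a b : F)
    (hab : ∀ x y : F, x ^ 2 + a * x * y + b * y ^ 2 = 0 → x = 0 ∧ y = 0) : a ≠ 0 := by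
  rintro rfl
  obtain ⟨s, hs⟩ := FiniteField.isSquare_of_char_two (ringChar.eq F 2) b
  have h := hab s 1 (by
    rw [hs]
    have := CharTwo.add_self_eq_zero (s * s)
    linear_combination this)
  exact one_ne_zero h.2

omit [Fintype F] in
/-- a scalar isometry is trivial -/
theorem scalar_eq_one (a b : F) (t : OG F (Cfsg.quadFormMinus k F a b)) (z : F)
    (h : ((t.1 : GL ((Fin k ⊕ Fin k) ⊕ Fin 2) F) :
      Matrix ((Fin k ⊕ Fin k) ⊕ Fin 2) ((Fin k ⊕ Fin k) ⊕ Fin 2) F) = z • 1) :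
    z = 1 := by
  have hQ := isQuad_minus (F := F) (k := k) a b
  have h1 := Q_act t (Cfsg.Agent.S2596.u0 k F)
  rw [actHom_apply, h, smul_mulVec, one_mulVec, hQ.smul, Cfsg.Agent.S2596.Q_u0, mul_one] at h1
  exact sq_eq_one_char2 z (by rw [pow_two]; exact h1)

omit [Fintype F] in
/-- an invariant nonsingular line is spanned by a fixed vector -/
theorem fixed_of_invariant (a b : F) (t : OG F (Cfsg.quadFormMinus k F a b))
    (W : Submodule F ((Fin k ⊕ Fin k) ⊕ Fin 2 → F))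
    (hW : finrank F W = 1) (v : (Fin k ⊕ Fin k) ⊕ Fin 2 → F) (hv : v ∈ W)
    (hQv : Cfsg.quadFormMinus k F a b v ≠ 0)
    (hinv : W.map (Matrix.toLin'
      ((t.1 : GL ((Fin k ⊕ Fin k) ⊕ Fin 2) F) :
        Matrix ((Fin k ⊕ Fin k) ⊕ Fin 2) ((Fin k ⊕ Fin k) ⊕ Fin 2) F)) ≤ W) :
    ((t.1 : GL ((Fin k ⊕ Fin k) ⊕ Fin 2) F) :
      Matrix ((Fin k ⊕ Fin k) ⊕ Fin 2) ((Fin k ⊕ Fin k) ⊕ Fin 2) F) *ᵥ v = v := by
  have hQ := isQuad_minus (F := F) (k := k) a b
  have hQ0 : Cfsg.quadFormMinus k F a b 0 = 0 := by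
    have := hQ.smul 0 0
    rw [zero_smul, zero_mul, zero_mul] at this
    exact this
  have hv0 : v ≠ 0 := by
    rintro rfl
    exact hQv hQ0
  have hxv : ((t.1 : GL ((Fin k ⊕ Fin k) ⊕ Fin 2) F) :
      Matrix ((Fin k ⊕ Fin k) ⊕ Fin 2) ((Fin k ⊕ Fin k) ⊕ Fin 2) F) *ᵥ v ∈ W := by
    apply hinv
    exact Submodule.mem_map.2 ⟨v, hv, Matrix.toLin'_apply _ _⟩
  have hv0' : (⟨v, hv⟩ : W) ≠ 0 := by
    intro h
    exact hv0 (congrArg Subtype.val h)
  obtain ⟨c, hc⟩ := (finrank_eq_one_iff_of_nonzero' (⟨v, hv⟩ : W) hv0').1 hW ⟨_, hxv⟩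
  have hc' : c • v = ((t.1 : GL ((Fin k ⊕ Fin k) ⊕ Fin 2) F) :
      Matrix ((Fin k ⊕ Fin k) ⊕ Fin 2) ((Fin k ⊕ Fin k) ⊕ Fin 2) F) *ᵥ v :=
    congrArg Subtype.val hc
  have h1 := Q_act t v
  rw [actHom_apply, ← hc', hQ.smul] at h1
  have h2 : c ^ 2 = 1 := by
    have : (c ^ 2 - 1) * Cfsg.quadFormMinus k F a b v = 0 := by linear_combination h1
    rcases mul_eq_zero.1 this with h | h
    · exact sub_eq_zero.1 h
    · exact absurd h hQv
  rw [← hc', sq_eq_one_char2 c h2, one_smul]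

/-- elements of odd order lie in `Ω` -/
theorem mem_Omega_of_odd_pow (a b : F)
    (hab : ∀ x y : F, x ^ 2 + a * x * y + b * y ^ 2 = 0 → x = 0 ∧ y = 0)
    (t : OG F (Cfsg.quadFormMinus k F a b))
    (r : ℕ) (hr : Odd r) (htr : t ^ r = 1) : t ∈ Cfsg.Omega F (Cfsg.quadFormMinus k F a b) := by
  have ha := a_ne_zero a b hab
  have hQ := isQuad_minus (F := F) (k := k) a b
  have hnd := Bm_nondeg (F := F) (k := k) a ha
  have hcount := Cfsg.Agent.S2596.count_ne_minus' (F := F) (k := k) a b hab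
  have hcd := Cfsg.Agent.S2598.hasCD_minus (F := F) (k := k) a b hab ha
  have h₀ : Cfsg.quadFormMinus k F a b (Cfsg.Agent.S2596.u0 k F) ≠ 0 :=
    Cfsg.Agent.S2596.Q_u0_ne a b
  rw [mem_Omega_iff_of]
  rcases of_cases' hQ hnd hcount hcd _ h₀ t with h | h
  · exact h
  · have h1 : (Abelianization.of t : Abelianization (OG F (Cfsg.quadFormMinus k F a b))) ^ r = 1 := by
      rw [← map_pow, htr, map_one]
    have h2 := of_refl_sq (F := F) hQ (Cfsg.Agent.S2596.u0 k F) h₀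
    rw [← h] at h2
    obtain ⟨j, hj⟩ := hr
    rw [hj, pow_succ, pow_mul, pow_two, h2, one_pow, one_mul] at h1
    exact h1

end aux

section oddcase

open Polynomial Module QuadraticMap Matrix
open Cfsg.Agent.Helper42.SemiConj Cfsg.Agent.Helper44.StarInv Cfsg.Agent.Helper44.SpBlocks
open Cfsg.Agent.Helper44.QF Cfsg.Agent.Helper43 Cfsg.Agent.Helper44.OBlocks

universe u

variable {F : Type u} [Field F] [Fintype F] [CharP F 2]

/-- an isometry of odd prime order `r ∣ q ^ m + 1` of the minus-type space of dimension `2 m`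
without non-zero fixed vectors -/
theorem exists_free (m : ℕ) (a c : F)
    (hac : ∀ z₁ z₂ : F, z₁ ^ 2 + a * z₁ * z₂ + c * z₂ ^ 2 = 0 → z₁ = 0 ∧ z₂ = 0)
    (r : ℕ) (hr : r.Prime) (hr2 : r ≠ 2) (hdvd : r ∣ Fintype.card F ^ m + 1) :
    ∃ A : ↥(Cfsg.isometryGroup F (Cfsg.quadFormMinus (m - 1) F a c)), A ^ r = 1 ∧
      ∀ v : (Fin (m - 1) ⊕ Fin (m - 1)) ⊕ Fin 2 → F,
        ((A : Matrix.GeneralLinearGroup ((Fin (m - 1) ⊕ Fin (m - 1)) ⊕ Fin 2) F) :
          Matrix ((Fin (m - 1) ⊕ Fin (m - 1)) ⊕ Fin 2) ((Fin (m - 1) ⊕ Fin (m - 1)) ⊕ Fin 2) F) *ᵥ v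
            = v → v = 0 := by
  classical
  have : Fact (Nat.Prime 2) := ⟨Nat.prime_two⟩
  have : Fact r.Prime := ⟨hr⟩
  set i := orderOf ((Fintype.card F : ℕ) : ZMod r) with hi
  have hq : ((Fintype.card F : ℕ) : ZMod r) ^ m = -1 := by
    have h0 : ((Fintype.card F ^ m + 1 : ℕ) : ZMod r) = 0 := (ZMod.natCast_eq_zero_iff _ _).2 hdvd
    push_cast at h0
    exact eq_neg_of_add_eq_zero_left h0
  have hq2 : ((Fintype.card F : ℕ) : ZMod r) ^ (2 * m) = 1 := by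
    rw [mul_comm, pow_mul, hq]
    ring
  have hi2 : i ∣ 2 * m := orderOf_dvd_of_pow_eq_one hq2
  have hneg : (-1 : ZMod r) ≠ 1 := neg_one_ne_one_zmod r hr hr2
  have him : ¬ i ∣ m := by
    rintro ⟨e, he⟩
    have h1 : ((Fintype.card F : ℕ) : ZMod r) ^ m = 1 := by
      rw [he, pow_mul, hi, pow_orderOf_eq_one, one_pow]
    rw [hq] at h1
    exact hneg h1
  have hie : Even i := by
    by_contra hodd
    rw [Nat.not_even_iff_odd] at hodd
    exact him (Nat.Coprime.dvd_of_dvd_mul_left (Odd.coprime_two_right hodd) hi2)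
  obtain ⟨K, hK⟩ := hi2
  have hcard := cyc_card (F := F) (p := 2) r hr hr2
  have hne : (cycFactors F r).Nonempty := by
    rw [← Finset.card_pos]
    by_contra h0
    have h1 : (cycFactors F r).card = 0 := by omega
    rw [h1, zero_mul] at hcard
    have := hr.two_le
    omega
  obtain ⟨f₀, hf₀⟩ := hne
  set mm : F[X] → ℕ := fun f => if f = f₀ then K else 0 with hmm
  have hsym : ∀ f ∈ cycFactors F r, mm (star r f) = mm f := by
    intro f hf
    rw [star_eq_self_of_even (p := 2) r hr hr2 f hf hie]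
  have h1 := oReal_cyc (p := 2) r hr hr2 hr2 mm hsym
  have h2 := sum_cyc_deg (p := 2) r hr hr2 hr2 mm hsym
  have hsum : ∑ f ∈ cycFactors F r, mm f = K := by
    rw [hmm, Finset.sum_ite_eq' (cycFactors F r) f₀ (fun _ => K), if_pos hf₀]
  obtain ⟨ε, hε, hpow, hT⟩ := orealT_of_free (p := 2) r hr hr2 _ h1 (by rw [if_pos rfl]) m
    (by rw [h2.1, hsum, ← hi, ← hK])
  have hεm : ε = -1 := by
    rcases hε with rfl | rfl
    · exfalso
      rw [hq] at hpow
      push_cast at hpow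
      exact hneg hpow
    · rfl
  subst hεm
  obtain ⟨A, hAr, hA⟩ := exists_Ominus r hr _ m a c hac hT
  refine ⟨A, hAr, ?_⟩
  intro v hv
  have h0 := hA (X - 1) (X_sub_one_mem_pow r)
  rw [if_pos rfl] at h0
  unfold kdi at h0
  have hker := Submodule.finrank_eq_zero.mp h0
  have hmem : v ∈ LinearMap.ker (aeval (Matrix.toLin'
      ((A : Matrix.GeneralLinearGroup ((Fin (m - 1) ⊕ Fin (m - 1)) ⊕ Fin 2) F) :
        Matrix ((Fin (m - 1) ⊕ Fin (m - 1)) ⊕ Fin 2) ((Fin (m - 1) ⊕ Fin (m - 1)) ⊕ Fin 2) F))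
      (X - 1 : F[X])) := by
    rw [LinearMap.mem_ker, map_sub, aeval_X, map_one, LinearMap.sub_apply, Matrix.toLin'_apply, hv]
    simp
  rw [hker] at hmem
  exact (Submodule.mem_bot F).mp hmem

end oddcase

section counting

open Matrix Module Cfsg.Agent.S2170 Cfsg.Agent.Helper36

universe u

variable {F : Type u} [Field F] [Fintype F] [CharP F 2] {k : ℕ}

omit [Fintype F] in
theorem Q_zero (a b : F) : Cfsg.quadFormMinus k F a b 0 = 0 := by
  have hQ := isQuad_minus (F := F) (k := k) a b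
  have := hQ.smul 0 0
  rw [zero_smul, zero_mul, zero_mul] at this
  exact this

theorem card_lines_mul (a b : F) :
    Nat.card {W : Submodule F ((Fin k ⊕ Fin k) ⊕ Fin 2 → F) //
        finrank F ↥W = 1 ∧ ∃ v ∈ W, Cfsg.quadFormMinus k F a b v ≠ 0} * (Fintype.card F - 1) =
      Nat.card {v : (Fin k ⊕ Fin k) ⊕ Fin 2 → F // Cfsg.quadFormMinus k F a b v ≠ 0} := by
  classical
  have hQ := isQuad_minus (F := F) (k := k) a b
  have hne : ∀ v : {v : (Fin k ⊕ Fin k) ⊕ Fin 2 → F // Cfsg.quadFormMinus k F a b v ≠ 0},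
      v.1 ≠ 0 := by
    rintro ⟨v, hv⟩ h
    apply hv
    show Cfsg.quadFormMinus k F a b v = 0
    have : v = 0 := h
    rw [this, Q_zero]
  let f : {v : (Fin k ⊕ Fin k) ⊕ Fin 2 → F // Cfsg.quadFormMinus k F a b v ≠ 0} →
      {W : Submodule F ((Fin k ⊕ Fin k) ⊕ Fin 2 → F) //
        finrank F ↥W = 1 ∧ ∃ v ∈ W, Cfsg.quadFormMinus k F a b v ≠ 0} :=
    fun v => ⟨Submodule.span F {v.1}, finrank_span_singleton (hne v), v.1,
      Submodule.mem_span_singleton_self _, v.2⟩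
  have hfib : ∀ y, Nat.card {x // f x = y} = Fintype.card F - 1 := by
    rintro ⟨W, hW1, v₀, hv₀W, hQ₀⟩
    have hv₀ : v₀ ≠ 0 := by
      rintro rfl
      exact hQ₀ (Q_zero a b)
    have hWspan : Submodule.span F {v₀} = W :=
      Submodule.eq_of_le_of_finrank_eq
        ((Submodule.span_singleton_le_iff_mem v₀ W).2 hv₀W)
        (by rw [finrank_span_singleton hv₀, hW1])
    rw [← Fintype.card_units (α := F), ← Nat.card_eq_fintype_card]
    symm
    have hQc : ∀ c : Fˣ, Cfsg.quadFormMinus k F a b ((c : F) • v₀) ≠ 0 := by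
      intro c
      rw [hQ.smul]
      exact mul_ne_zero (mul_ne_zero c.ne_zero c.ne_zero) hQ₀
    have hfc : ∀ c : Fˣ, f ⟨(c : F) • v₀, hQc c⟩ = ⟨W, hW1, v₀, hv₀W, hQ₀⟩ := by
      intro c
      apply Subtype.ext
      show Submodule.span F {(c : F) • v₀} = W
      rw [Submodule.span_singleton_smul_eq c.isUnit, hWspan]
    apply Nat.card_eq_of_bijective (fun c : Fˣ => (⟨⟨(c : F) • v₀, hQc c⟩, hfc c⟩ :
      {x // f x = ⟨W, hW1, v₀, hv₀W, hQ₀⟩}))
    constructor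
    · intro c c' h
      have h1 : (c : F) • v₀ = (c' : F) • v₀ := congrArg (fun z => z.1.1) h
      exact Units.ext (smul_left_injective F hv₀ h1)
    · rintro ⟨⟨x, hQx⟩, hfx⟩
      have h1 : Submodule.span F {x} = W := congrArg Subtype.val hfx
      have h2 : x ∈ Submodule.span F {v₀} := by
        rw [hWspan, ← h1]
        exact Submodule.mem_span_singleton_self x
      obtain ⟨c, hc⟩ := Submodule.mem_span_singleton.1 h2
      have hc0 : c ≠ 0 := by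
        rintro rfl
        rw [zero_smul] at hc
        rw [← hc] at hQx
        exact hQx (Q_zero a b)
      refine ⟨Units.mk0 c hc0, ?_⟩
      apply Subtype.ext
      apply Subtype.ext
      exact hc
  have : Fintype {W : Submodule F ((Fin k ⊕ Fin k) ⊕ Fin 2 → F) //
        finrank F ↥W = 1 ∧ ∃ v ∈ W, Cfsg.quadFormMinus k F a b v ≠ 0} := Fintype.ofFinite _
  rw [← Nat.card_congr (Equiv.sigmaFiberEquiv f), Nat.card_sigma]
  simp only [hfib, Finset.sum_const, Finset.card_univ, smul_eq_mul, Nat.card_eq_fintype_card]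

theorem card_nonsing_mul (a b : F)
    (hab : ∀ x y : F, x ^ 2 + a * x * y + b * y ^ 2 = 0 → x = 0 ∧ y = 0) :
    Nat.card {v : (Fin k ⊕ Fin k) ⊕ Fin 2 → F // Cfsg.quadFormMinus k F a b v ≠ 0} *
        Fintype.card F =
      (Fintype.card F - 1) * (Fintype.card F ^ (k + 1) * (Fintype.card F ^ (k + 1) + 1)) := by
  classical
  have hT := Cfsg.Agent.Helper44.QF.hasType_minus (F := F) k a b hab 0
  rw [if_pos rfl] at hT
  unfold Cfsg.Agent.Helper44.QF.rep at hT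
  have hN : Nat.card {v : (Fin k ⊕ Fin k) ⊕ Fin 2 → F // Cfsg.quadFormMinus k F a b v ≠ 0} +
      Nat.card {v : (Fin k ⊕ Fin k) ⊕ Fin 2 → F // Cfsg.quadFormMinus k F a b v = 0} =
      Fintype.card F ^ (2 * (k + 1)) := by
    rw [Nat.card_eq_fintype_card, Nat.card_eq_fintype_card, Fintype.card_subtype,
      Fintype.card_subtype, add_comm,
      Finset.card_filter_add_card_filter_not, Finset.card_univ, Fintype.card_fun,
      Fintype.card_sum, Fintype.card_sum, Fintype.card_fin, Fintype.card_fin]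
    congr 1
    ring
  obtain ⟨c, hc⟩ : ∃ c, Fintype.card F = c + 1 :=
    ⟨Fintype.card F - 1, (Nat.sub_add_cancel Fintype.card_pos).symm⟩
  generalize Nat.card {v : (Fin k ⊕ Fin k) ⊕ Fin 2 → F // Cfsg.quadFormMinus k F a b v ≠ 0} = N
    at hN ⊢
  generalize Nat.card {v : (Fin k ⊕ Fin k) ⊕ Fin 2 → F // Cfsg.quadFormMinus k F a b v = 0} = S
    at hN hT
  rw [hc] at hN hT ⊢
  rw [Nat.add_sub_cancel]
  zify at hN ⊢
  push_cast at hT
  have e1 : ((c : ℤ) + 1) ^ (2 * (k + 1)) = (((c : ℤ) + 1) ^ (k + 1)) ^ 2 := by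
    rw [← pow_mul, mul_comm]
  have e2 : ((c : ℤ) + 1) ^ (k + 1 + 1) = ((c : ℤ) + 1) ^ (k + 1) * ((c : ℤ) + 1) := pow_succ _ _
  rw [e1] at hN hT
  rw [e2] at hT
  linear_combination ((c : ℤ) + 1) * hN - hT

theorem dvd_pow_add_one (a b : F)
    (hab : ∀ x y : F, x ^ 2 + a * x * y + b * y ^ 2 = 0 → x = 0 ∧ y = 0)
    (r : ℕ) (hrp : r.Prime) (hr2 : r ≠ 2)
    (hr : r ∣ Nat.card {W : Submodule F ((Fin k ⊕ Fin k) ⊕ Fin 2 → F) //
        finrank F ↥W = 1 ∧ ∃ v ∈ W, Cfsg.quadFormMinus k F a b v ≠ 0}) :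
    r ∣ Fintype.card F ^ (k + 1) + 1 := by
  have hq2 : 2 ≤ Fintype.card F := Fintype.one_lt_card
  have h0 : Nat.card {W : Submodule F ((Fin k ⊕ Fin k) ⊕ Fin 2 → F) //
        finrank F ↥W = 1 ∧ ∃ v ∈ W, Cfsg.quadFormMinus k F a b v ≠ 0} * Fintype.card F =
      Fintype.card F ^ (k + 1) * (Fintype.card F ^ (k + 1) + 1) := by
    have h1 := card_nonsing_mul (k := k) a b hab
    rw [← card_lines_mul] at h1
    have hpos : 0 < Fintype.card F - 1 := by omega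
    apply Nat.eq_of_mul_eq_mul_right hpos
    generalize Fintype.card F - 1 = c at h1 ⊢
    generalize Nat.card {W : Submodule F ((Fin k ⊕ Fin k) ⊕ Fin 2 → F) //
        finrank F ↥W = 1 ∧ ∃ v ∈ W, Cfsg.quadFormMinus k F a b v ≠ 0} = L at h1 ⊢
    calc L * Fintype.card F * c = L * c * Fintype.card F := by ring
      _ = c * (Fintype.card F ^ (k + 1) * (Fintype.card F ^ (k + 1) + 1)) := h1
      _ = Fintype.card F ^ (k + 1) * (Fintype.card F ^ (k + 1) + 1) * c := by ring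
  have h1 : r ∣ Fintype.card F ^ (k + 1) * (Fintype.card F ^ (k + 1) + 1) := by
    rw [← h0]
    exact Dvd.dvd.mul_right hr _
  rcases (Nat.Prime.dvd_mul hrp).1 h1 with h | h
  · exfalso
    have h2 := hrp.dvd_of_dvd_pow h
    have : Fact (Nat.Prime 2) := ⟨Nat.prime_two⟩
    obtain ⟨n, _, hn⟩ := FiniteField.card F 2
    rw [hn] at h2
    have h3 := hrp.dvd_of_dvd_pow h2
    exact hr2 ((Nat.prime_dvd_prime_iff_eq hrp Nat.prime_two).1 h3)
  · exact h

end counting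

/-- Elements of prime order of Ω⁻_n(q), q even, with no fixed nonsingular 1-space. Here `T = PΩ⁻_n(F)`, `n = 2d ≥ 8`, realised through `Ω⁻_n(q)`, the commutator subgroup of the isometry group of `Q = Σ_{i<d−1} xᵢyᵢ + z₁² + a z₁z₂ + b z₂²` with `z₁² + a z₁z₂ + b z₂²` anisotropic, over the field `F` with `q` elements; an element of `T` of prime order `r` is an element `x` of `Ω⁻_n(q)` with `x^r` scalar and `x` not scalar; `q` is even (so the centre is trivial). Let Ω be the set of 1-dimensional subspaces spanned by a vector `v` with `Q(v) ≠ 0`, and let `r` be a prime dividing their number. Then every element of `T` of order `r` fixes some nonsingular 1-space if and only if `r = 2`. -/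
theorem result {F : Type*} [Field F] [Fintype F] {p : ℕ} [Fact p.Prime] [CharP F p] {q : ℕ} (hq : Fintype.card F = q)
    (hp : p = 2) (d : ℕ) (hd : 4 ≤ d) (a b : F) (hab : ∀ x y : F, x ^ 2 + a * x * y + b * y ^ 2 = 0 → x = 0 ∧ y = 0) (r : ℕ) [Fact r.Prime]
    (hrΩ : r ∣ Nat.card {W : Submodule F ((Fin (d - 1) ⊕ Fin (d - 1)) ⊕ Fin 2 → F) // Module.finrank F ↥W = 1 ∧ ∃ v ∈ W, Cfsg.quadFormMinus (d - 1) F a b v ≠ 0}) :
    (∀ x : GL ((Fin (d - 1) ⊕ Fin (d - 1)) ⊕ Fin 2) F, x ∈ Cfsg.Geo.omegaGL (Cfsg.quadFormMinus (d - 1) F a b) →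
      (∃ z : F, ((x ^ r : GL ((Fin (d - 1) ⊕ Fin (d - 1)) ⊕ Fin 2) F) : Matrix ((Fin (d - 1) ⊕ Fin (d - 1)) ⊕ Fin 2) ((Fin (d - 1) ⊕ Fin (d - 1)) ⊕ Fin 2) F) = z • (1 : Matrix ((Fin (d - 1) ⊕ Fin (d - 1)) ⊕ Fin 2) ((Fin (d - 1) ⊕ Fin (d - 1)) ⊕ Fin 2) F)) →
      (∀ z : F, (x : Matrix ((Fin (d - 1) ⊕ Fin (d - 1)) ⊕ Fin 2) ((Fin (d - 1) ⊕ Fin (d - 1)) ⊕ Fin 2) F) ≠ z • (1 : Matrix ((Fin (d - 1) ⊕ Fin (d - 1)) ⊕ Fin 2) ((Fin (d - 1) ⊕ Fin (d - 1)) ⊕ Fin 2) F)) →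
      ∃ W : Submodule F ((Fin (d - 1) ⊕ Fin (d - 1)) ⊕ Fin 2 → F), (Module.finrank F ↥W = 1 ∧ ∃ v ∈ W, Cfsg.quadFormMinus (d - 1) F a b v ≠ 0) ∧ W.map (Matrix.toLin' (x : Matrix ((Fin (d - 1) ⊕ Fin (d - 1)) ⊕ Fin 2) ((Fin (d - 1) ⊕ Fin (d - 1)) ⊕ Fin 2) F)) ≤ W) ↔ r = 2 := by
  classical
  subst hp
  have ha := a_ne_zero a b hab
  have hd1 : d - 1 + 1 = d := by omega
  constructor
  · intro H
    by_contra hr2
    have hrp : r.Prime := Fact.out
    have hdvd := dvd_pow_add_one (F := F) (k := d - 1) a b hab r hrp hr2 hrΩ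
    rw [hd1] at hdvd
    obtain ⟨t, htr, hfix⟩ := exists_free (F := F) d a b hab r hrp hr2 hdvd
    have htΩ : t ∈ Cfsg.Omega F (Cfsg.quadFormMinus (d - 1) F a b) :=
      mem_Omega_of_odd_pow a b hab t r (hrp.odd_of_ne_two hr2) htr
    have hpow : ((t.1 ^ r : GL ((Fin (d - 1) ⊕ Fin (d - 1)) ⊕ Fin 2) F) :
        Matrix ((Fin (d - 1) ⊕ Fin (d - 1)) ⊕ Fin 2) ((Fin (d - 1) ⊕ Fin (d - 1)) ⊕ Fin 2) F) = 1 := by
      have := congrArg (fun s : ↥(Cfsg.isometryGroup F (Cfsg.quadFormMinus (d - 1) F a b)) =>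
        ((s.1 : GL ((Fin (d - 1) ⊕ Fin (d - 1)) ⊕ Fin 2) F) :
          Matrix ((Fin (d - 1) ⊕ Fin (d - 1)) ⊕ Fin 2) ((Fin (d - 1) ⊕ Fin (d - 1)) ⊕ Fin 2) F)) htr
      simpa using this
    have hns : ∀ z : F, ((t.1 : GL ((Fin (d - 1) ⊕ Fin (d - 1)) ⊕ Fin 2) F) :
        Matrix ((Fin (d - 1) ⊕ Fin (d - 1)) ⊕ Fin 2) ((Fin (d - 1) ⊕ Fin (d - 1)) ⊕ Fin 2) F) ≠
          z • (1 : Matrix ((Fin (d - 1) ⊕ Fin (d - 1)) ⊕ Fin 2) ((Fin (d - 1) ⊕ Fin (d - 1)) ⊕ Fin 2) F) := by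
      intro z hz
      have hz1 := scalar_eq_one a b t z hz
      rw [hz1, one_smul] at hz
      have h0 := hfix (Cfsg.Agent.S2596.u0 (d - 1) F) (by rw [hz, Matrix.one_mulVec])
      have h1 := Cfsg.Agent.S2596.Q_u0_ne (k := d - 1) (F := F) a b
      rw [h0, Q_zero] at h1
      exact h1 rfl
    obtain ⟨W, ⟨hW1, v, hvW, hQv⟩, hinv⟩ := H t.1 (Subgroup.mem_map.2 ⟨t, htΩ, rfl⟩)
      ⟨1, by rw [one_smul]; exact hpow⟩ hns
    have hv := hfix v (fixed_of_invariant a b t W hW1 v hvW hQv hinv)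
    rw [hv, Q_zero] at hQv
    exact hQv rfl
  · rintro rfl x hx ⟨z, hz⟩ hns
    obtain ⟨t, ht, rfl⟩ := Subgroup.mem_map.1 hx
    have hz1 : z = 1 := scalar_eq_one a b (t ^ 2) z hz
    rw [hz1, one_smul] at hz
    have htt : t * t = 1 := by
      apply Subtype.ext
      apply Units.ext
      rw [← pow_two]
      exact hz
    have hno := Cfsg.Agent.S2171.noTS (F := F) (k := d - 1) a b hab ha
    obtain ⟨v, hfix, hQ⟩ := Cfsg.Agent.Helper36.QuadInv.exists_fixed_nonsingular hno t htt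
    have hv0 : v ≠ 0 := by
      rintro rfl
      exact hQ (Q_zero a b)
    refine ⟨Submodule.span F {v}, ⟨finrank_span_singleton hv0, v,
      Submodule.mem_span_singleton_self v, hQ⟩, ?_⟩
    rw [Submodule.map_span, Set.image_singleton, Matrix.toLin'_apply]
    rw [Cfsg.Agent.Helper36.QuadInv.actHom_apply] at hfix
    show Submodule.span F {Matrix.mulVec ((t.1 : GL ((Fin (d - 1) ⊕ Fin (d - 1)) ⊕ Fin 2) F) :
      Matrix ((Fin (d - 1) ⊕ Fin (d - 1)) ⊕ Fin 2) ((Fin (d - 1) ⊕ Fin (d - 1)) ⊕ Fin 2) F) v} ≤ _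
    rw [hfix]

end Cfsg.Agent.S5986
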