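import Mathlib
import Cfsg.Prelude.Def_GeometricClasses
import Cfsg.Prelude.Def_Classical
import Cfsg.Agent.Lib.Helper14.UnipOmega
import Cfsg.Agent.Lib.Helper43.OrthMinus

set_option autoImplicit false
open scoped MatrixGroups

namespace Cfsg.Agent.S5994

open Module Cfsg.Agent.Helper42.Jordan Cfsg.Agent.Helper14.JType Cfsg.Agent.Helper14.UnipQuad
  Cfsg.Agent.Helper14.UnipWitt Cfsg.Agent.Helper14.UnipOmega Cfsg.Agent.Helper43

universe u

section iso

variable {F : Type u} [Field F] {k : ℕ}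

/-- reindexing -/
def e₂ : Unit ⊕ Unit ≃ Fin 2 where
  toFun := Sum.elim (fun _ => 0) (fun _ => 1)
  invFun := fun i => if i = 0 then Sum.inl () else Sum.inr ()
  left_inv := by rintro (_ | _) <;> simp
  right_inv := by intro i; fin_cases i <;> simp

def shear (k : ℕ) (t : F) : ((Fin k ⊕ Fin k) ⊕ Fin 2 → F) ≃ₗ[F] ((Fin k ⊕ Fin k) ⊕ Fin 2 → F) where
  toFun c := Function.update c (Sum.inr 0) (c (Sum.inr 0) + t * c (Sum.inr 1))
  invFun c := Function.update c (Sum.inr 0) (c (Sum.inr 0) - t * c (Sum.inr 1))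
  map_add' c c' := by
    funext j
    by_cases hj : j = Sum.inr 0
    · subst hj; simp; ring
    · simp [Function.update_of_ne hj]
  map_smul' s c := by
    funext j
    by_cases hj : j = Sum.inr 0
    · subst hj; simp; ring
    · simp [Function.update_of_ne hj]
  left_inv c := by
    funext j
    by_cases hj : j = Sum.inr 0
    · subst hj; simp
    · simp [Function.update_of_ne hj]
  right_inv c := by
    funext j
    by_cases hj : j = Sum.inr 0
    · subst hj; simp
    · simp [Function.update_of_ne hj]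

theorem shear_zero (t : F) (c : (Fin k ⊕ Fin k) ⊕ Fin 2 → F) :
    shear k t c (Sum.inr 0) = c (Sum.inr 0) + t * c (Sum.inr 1) := by
  simp [shear]

theorem shear_one (t : F) (c : (Fin k ⊕ Fin k) ⊕ Fin 2 → F) :
    shear k t c (Sum.inr 1) = c (Sum.inr 1) := by
  simp [shear]

theorem shear_inl (t : F) (c : (Fin k ⊕ Fin k) ⊕ Fin 2 → F) (x : Fin k ⊕ Fin k) :
    shear k t c (Sum.inl x) = c (Sum.inl x) := by
  simp [shear]

/-- a minus-type model in standard coordinates -/
theorem exists_minus_iso (h2 : (2 : F) ≠ 0) (d : ℕ) (a b : F)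
    (hab : ∀ x y : F, x ^ 2 + a * x * y + b * y ^ 2 = 0 → x = 0 ∧ y = 0) (μ : Multiset ℕ)
    (hadm : ∀ e : ℕ, Even e → Even (μ.count e)) (hsum : μ.sum = 2 * d)
    (hodd : ∃ e ∈ μ, Odd e) :
    ∃ M : QuadModel F, (∀ i, rk (M.A - 1) i = rsum μ i) ∧
      ∃ ψ : ((Fin (d - 1) ⊕ Fin (d - 1)) ⊕ Fin 2 → F) ≃ₗ[F] M.V,
        ∀ c, M.Q (ψ c) = stdMinus F (d - 1) a b c := by
  obtain ⟨t, ht2⟩ : ∃ t : F, 2 * t = a := ⟨a * 2⁻¹, by field_simp⟩
  have hδ : b - t ^ 2 ≠ 0 := by
    intro h0
    have := hab (-t) 1 (by linear_combination h0 + t * ht2)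
    exact one_ne_zero this.2
  obtain ⟨M, hM, hdim, U, w, hU, hts, hw, hwU, hww⟩ :=
    minus_real h2 (1 : F) (b - t ^ 2) one_ne_zero hδ μ hadm d hsum hodd
  obtain ⟨φ, hφ⟩ := Cfsg.Agent.Helper14.WittIso.exists_std_iso M.Q h2 M.nondeg hdim U hU hts w
    hwU hww (fun l => by
      rw [hw]
      rcases l with _ | _
      · simpa using one_ne_zero
      · simpa using hδ)
  refine ⟨M, hM, (shear (d - 1) t).trans ((LinearEquiv.funCongrLeft F F
    (Equiv.sumCongr (Equiv.refl (Fin (d - 1) ⊕ Fin (d - 1))) e₂)).trans φ), ?_⟩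
  intro c
  rw [LinearEquiv.trans_apply, LinearEquiv.trans_apply, hφ, stdMinus_apply]
  unfold Cfsg.quadFormMinus
  simp only [LinearEquiv.funCongrLeft_apply, LinearMap.funLeft_apply, Equiv.sumCongr_apply,
    Sum.map_inl, Sum.map_inr, Equiv.refl_apply, Fintype.sum_sum_type, Finset.univ_unique,
    Finset.sum_singleton, hw, Sum.elim_inl, Sum.elim_inr, shear_inl]
  have e0 : e₂ (Sum.inl default) = 0 := rfl
  have e1 : e₂ (Sum.inr default) = 1 := rfl
  rw [e0, e1, shear_zero, shear_one]
  linear_combination (c (Sum.inr 0) * c (Sum.inr 1)) * ht2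

end iso

section comb

theorem sum_two_values (ν : Multiset ℕ) (a b : ℕ) (hab : a ≠ b) (h : ∀ e ∈ ν, e = a ∨ e = b) :
    ν.sum = a * ν.count a + b * ν.count b := by
  induction ν using Multiset.induction_on with
  | empty => simp
  | cons x ν ih =>
    have ih' := ih (fun e he => h e (Multiset.mem_cons_of_mem he))
    rw [Multiset.sum_cons, ih', Multiset.count_cons, Multiset.count_cons]
    rcases h x (Multiset.mem_cons_self x ν) with rfl | rfl
    · rw [if_pos rfl, if_neg hab.symm]; ring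
    · rw [if_neg hab, if_pos rfl]; ring

theorem sum_three_values (ν : Multiset ℕ) (a b c : ℕ) (hab : a ≠ b) (hac : a ≠ c) (hbc : b ≠ c)
    (h : ∀ e ∈ ν, e = a ∨ e = b ∨ e = c) :
    ν.sum = a * ν.count a + b * ν.count b + c * ν.count c := by
  induction ν using Multiset.induction_on with
  | empty => simp
  | cons x ν ih =>
    have ih' := ih (fun e he => h e (Multiset.mem_cons_of_mem he))
    rw [Multiset.sum_cons, ih', Multiset.count_cons, Multiset.count_cons, Multiset.count_cons]
    rcases h x (Multiset.mem_cons_self x ν) with rfl | rfl | rfl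
    · rw [if_pos rfl, if_neg hab.symm, if_neg hac.symm]; ring
    · rw [if_neg hab, if_pos rfl, if_neg hbc.symm]; ring
    · rw [if_neg hac, if_neg hbc, if_pos rfl]; ring

/-- all parts even: move to a neighbouring type with odd parts and back -/
theorem transfer_even (μ : Multiset ℕ) (p : ℕ) (hpodd : Odd p) (hμ : ∀ e ∈ μ, 0 < e ∧ e ≤ p)
    (hadm : ∀ e : ℕ, Even e → Even (μ.count e)) (hall : ∀ e ∈ μ, Even e) (hne : μ ≠ 0) (m : ℕ)
    (hme : Even m)
    (H : ∀ μ' : Multiset ℕ, (∀ e ∈ μ', 0 < e ∧ e ≤ p) → (∀ e : ℕ, Even e → Even (μ'.count e)) →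
      μ'.sum = μ.sum → (∃ e ∈ μ', Odd e) → (¬ ∀ e ∈ μ', e ≤ 1) →
      ∃ ν' : Multiset ℕ, ν' ≤ μ' ∧ ν'.sum = m ∧ ∀ e : ℕ, Even e → Even (ν'.count e)) :
    ∃ ν : Multiset ℕ, ν ≤ μ ∧ ν.sum = m ∧ ∀ e : ℕ, Even e → Even (ν.count e) := by
  obtain ⟨e, he⟩ := Multiset.exists_mem_of_ne_zero hne
  have hee := hall e he
  have he0 := (hμ e he).1
  have hep := (hμ e he).2
  have he2 : 2 ≤ e := by
    obtain ⟨j, hj⟩ := hee
    omega
  have hcnt : 2 ≤ μ.count e := by
    have h1 := hadm e hee
    have h2 := Multiset.count_pos.mpr he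
    obtain ⟨j, hj⟩ := h1
    omega
  obtain ⟨t₁, rfl⟩ := Multiset.exists_cons_of_mem he
  rw [Multiset.count_cons_self] at hcnt
  have hmem₁ : e ∈ t₁ := Multiset.count_pos.mp (by omega)
  obtain ⟨t, rfl⟩ := Multiset.exists_cons_of_mem hmem₁
  have ht_even : ∀ x ∈ t, Even x := fun x hx =>
    hall x (Multiset.mem_cons_of_mem (Multiset.mem_cons_of_mem hx))
  have ho1 : Odd (e + 1) := hee.add_one
  have ho2 : Odd (e - 1) := by
    obtain ⟨j, hj⟩ := hee
    exact ⟨j - 1, by omega⟩
  have hne12 : e + 1 ≠ e - 1 := by omega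
  have hep' : e + 1 ≤ p := by
    obtain ⟨j, hj⟩ := hee
    obtain ⟨i, hi⟩ := hpodd
    omega
  have hnot1 : e + 1 ∉ t := fun h => by
    have := ht_even _ h
    rw [← Nat.not_odd_iff_even] at this
    exact this ho1
  have hnot2 : e - 1 ∉ t := fun h => by
    have := ht_even _ h
    rw [← Nat.not_odd_iff_even] at this
    exact this ho2
  obtain ⟨ν', hν'le, hν's, hν'adm⟩ := H ((e + 1) ::ₘ (e - 1) ::ₘ t) (by
      intro x hx
      rw [Multiset.mem_cons, Multiset.mem_cons] at hx
      rcases hx with rfl | rfl | hx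
      · exact ⟨by omega, hep'⟩
      · exact ⟨by omega, by omega⟩
      · exact hμ x (Multiset.mem_cons_of_mem (Multiset.mem_cons_of_mem hx))) (by
      intro x hx
      have hx1 : ¬ x = e + 1 := by
        rintro rfl
        rw [← Nat.not_odd_iff_even] at hx
        exact hx ho1
      have hx2 : ¬ x = e - 1 := by
        rintro rfl
        rw [← Nat.not_odd_iff_even] at hx
        exact hx ho2
      rw [Multiset.count_cons, if_neg hx1, Multiset.count_cons, if_neg hx2]
      have := hadm x hx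
      rw [Multiset.count_cons, Multiset.count_cons] at this
      by_cases hxe : x = e
      · rw [if_pos hxe] at this
        obtain ⟨j, hj⟩ := this
        exact ⟨j - 1, by omega⟩
      · rw [if_neg hxe] at this
        simpa using this) (by
      simp only [Multiset.sum_cons]
      omega) ⟨e + 1, Multiset.mem_cons_self _ _, ho1⟩ (by
      intro hcon
      have := hcon (e + 1) (Multiset.mem_cons_self _ _)
      omega)
  -- split `ν'` into even and odd parts
  set νe := ν'.filter (fun x => Even x) with hνe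
  set νo := ν'.filter (fun x => ¬ Even x) with hνo
  have hsplit : νe + νo = ν' := Multiset.filter_add_not _ _
  have hνe_le : νe ≤ t := by
    have h1 : νe ≤ ((e + 1) ::ₘ (e - 1) ::ₘ t).filter (fun x => Even x) :=
      Multiset.filter_le_filter _ hν'le
    rw [Multiset.filter_cons_of_neg _ (by rw [Nat.not_even_iff_odd]; exact ho1),
      Multiset.filter_cons_of_neg _ (by rw [Nat.not_even_iff_odd]; exact ho2),
      Multiset.filter_eq_self.mpr ht_even] at h1
    exact h1
  have hνo_mem : ∀ x ∈ νo, x = e + 1 ∨ x = e - 1 := by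
    intro x hx
    rw [hνo, Multiset.mem_filter] at hx
    have := Multiset.mem_of_le hν'le hx.1
    rw [Multiset.mem_cons, Multiset.mem_cons] at this
    rcases this with h | h | h
    · exact Or.inl h
    · exact Or.inr h
    · exact absurd (ht_even x h) hx.2
  have hcx : νo.count (e + 1) ≤ 1 := by
    have h1 : νo.count (e + 1) ≤ ν'.count (e + 1) := Multiset.count_le_of_le _ (Multiset.filter_le _ _)
    have h2 := Multiset.count_le_of_le (e + 1) hν'le
    rw [Multiset.count_cons_self, Multiset.count_cons, if_neg hne12,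
      Multiset.count_eq_zero_of_notMem hnot1] at h2
    omega
  have hcy : νo.count (e - 1) ≤ 1 := by
    have h1 : νo.count (e - 1) ≤ ν'.count (e - 1) := Multiset.count_le_of_le _ (Multiset.filter_le _ _)
    have h2 := Multiset.count_le_of_le (e - 1) hν'le
    rw [Multiset.count_cons, if_neg hne12.symm, Multiset.count_cons_self,
      Multiset.count_eq_zero_of_notMem hnot2] at h2
    omega
  have hso := sum_two_values νo (e + 1) (e - 1) hne12 hνo_mem
  have hse : Even νe.sum := even_sum_of_all_even νe (fun x hx => by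
    rw [hνe, Multiset.mem_filter] at hx
    exact hx.2)
  have hm : m = νe.sum + νo.sum := by
    rw [← hν's, ← hsplit, Multiset.sum_add]
  have hxy : νo.count (e + 1) = νo.count (e - 1) := by
    obtain ⟨s, hs⟩ := hse
    obtain ⟨m', hm'⟩ := hme
    obtain ⟨j, hj⟩ := hee
    have hx : νo.count (e + 1) = 0 ∨ νo.count (e + 1) = 1 := by omega
    have hy : νo.count (e - 1) = 0 ∨ νo.count (e - 1) = 1 := by omega
    rcases hx with hx | hx <;> rcases hy with hy | hy <;> rw [hx, hy] at hso ⊢ <;> omega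
  refine ⟨Multiset.replicate (νo.count (e + 1) + νo.count (e - 1)) e + νe, ?_, ?_, ?_⟩
  · have : e ::ₘ e ::ₘ t = Multiset.replicate 2 e + t := by
      rw [show (2 : ℕ) = 1 + 1 from rfl, Multiset.replicate_succ, Multiset.replicate_one,
        Multiset.cons_add, Multiset.singleton_add]
    rw [this]
    apply add_le_add _ hνe_le
    rw [Multiset.replicate_le_replicate]
    omega
  · rw [Multiset.sum_add, Multiset.sum_replicate, smul_eq_mul, hm, hso, ← hxy]
    have hx : νo.count (e + 1) = 0 ∨ νo.count (e + 1) = 1 := by omega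
    rcases hx with hx | hx <;> rw [hx] <;> omega
  · intro x hx
    rw [Multiset.count_add, Multiset.count_replicate]
    have h1 : νe.count x = ν'.count x := by
      rw [hνe, Multiset.count_filter_of_pos hx]
    rw [h1]
    have h2 := hν'adm x hx
    split_ifs
    · rw [← hxy]
      exact (Even.add_self _).add h2
    · simpa using h2

end comb

theorem result {F : Type*} [Field F] [Fintype F] {p : ℕ} [Fact p.Prime] [CharP F p] {q : ℕ} (hq : Fintype.card F = q) (hqodd : Odd q)
    (d m : ℕ) (hd : 4 ≤ d) (hm : 2 ≤ m) (hme : Even m) (hmn : m + 2 ≤ 2 * d) (a b : F) (hab : ∀ x y : F, x ^ 2 + a * x * y + b * y ^ 2 = 0 → x = 0 ∧ y = 0)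
    (hpΩ : p ∣ Nat.card {W : Submodule F ((Fin (d - 1) ⊕ Fin (d - 1)) ⊕ Fin 2 → F) // Module.finrank F ↥W = m ∧ Cfsg.Geo.IsNondegenerateOn (QuadraticMap.polar (Cfsg.quadFormMinus (d - 1) F a b)) W ∧ ¬ Cfsg.Geo.IsPlusTypeOn (Cfsg.quadFormMinus (d - 1) F a b) W}) :
    (∀ x : GL ((Fin (d - 1) ⊕ Fin (d - 1)) ⊕ Fin 2) F, x ∈ Cfsg.Geo.omegaGL (Cfsg.quadFormMinus (d - 1) F a b) →
      (∃ z : F, ((x ^ p : GL ((Fin (d - 1) ⊕ Fin (d - 1)) ⊕ Fin 2) F) : Matrix ((Fin (d - 1) ⊕ Fin (d - 1)) ⊕ Fin 2) ((Fin (d - 1) ⊕ Fin (d - 1)) ⊕ Fin 2) F) = z • (1 : Matrix ((Fin (d - 1) ⊕ Fin (d - 1)) ⊕ Fin 2) ((Fin (d - 1) ⊕ Fin (d - 1)) ⊕ Fin 2) F)) →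
      (∀ z : F, (x : Matrix ((Fin (d - 1) ⊕ Fin (d - 1)) ⊕ Fin 2) ((Fin (d - 1) ⊕ Fin (d - 1)) ⊕ Fin 2) F) ≠ z • (1 : Matrix ((Fin (d - 1) ⊕ Fin (d - 1)) ⊕ Fin 2) ((Fin (d - 1) ⊕ Fin (d - 1)) ⊕ Fin 2) F)) →
      ∃ W : Submodule F ((Fin (d - 1) ⊕ Fin (d - 1)) ⊕ Fin 2 → F), (Module.finrank F ↥W = m ∧ Cfsg.Geo.IsNondegenerateOn (QuadraticMap.polar (Cfsg.quadFormMinus (d - 1) F a b)) W ∧ ¬ Cfsg.Geo.IsPlusTypeOn (Cfsg.quadFormMinus (d - 1) F a b) W) ∧ W.map (Matrix.toLin' (x : Matrix ((Fin (d - 1) ⊕ Fin (d - 1)) ⊕ Fin 2) ((Fin (d - 1) ⊕ Fin (d - 1)) ⊕ Fin 2) F)) ≤ W) →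
    ((2 * d) % 4 = m % 4 ∧ (∀ μ : Multiset ℕ, (∀ e ∈ μ, 0 < e ∧ e ≤ p) → (∀ e : ℕ, Even e → Even (μ.count e)) → μ.sum = 2 * d →
        ∃ ν : Multiset ℕ, ν ≤ μ ∧ ν.sum = m ∧ ∀ e : ℕ, Even e → Even (ν.count e))) := by
  intro h
  obtain ⟨h2, hpodd⟩ := two_ne_zero_of_odd (K := F) (p := p) (by rw [hq]; exact hqodd)
  have hpp : p.Prime := Fact.out
  have hp3 : 3 ≤ p := by
    have := hpp.two_le
    obtain ⟨k, hk⟩ := hpodd
    omega
  -- the key step, for types with an odd part
  have key : ∀ μ : Multiset ℕ, (∀ e ∈ μ, 0 < e ∧ e ≤ p) → (∀ e : ℕ, Even e → Even (μ.count e)) →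
      μ.sum = 2 * d → (∃ e ∈ μ, Odd e) → (¬ ∀ e ∈ μ, e ≤ 1) →
      ∃ ν : Multiset ℕ, ν ≤ μ ∧ ν.sum = m ∧ (∀ e : ℕ, Even e → Even (ν.count e)) ∧
        (rsum ν 2 = 0 → 2 * rsum ν 1 = m → False) := by
    intro μ hμ hadm hsum hodd hones
    obtain ⟨M, hM, ψ, hψ⟩ := exists_minus_iso (F := F) h2 d a b hab μ hadm hsum hodd
    have : Nonempty ((Fin (d - 1) ⊕ Fin (d - 1)) ⊕ Fin 2) := ⟨Sum.inr 0⟩
    obtain ⟨g, hgΩ, hg, hgp, hns, hμr⟩ := core h2 hpodd (stdMinus F (d - 1) a b) μ
      (fun e he => (hμ e he).2) hones M hM ψ hψ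
    rw [coe_stdMinus F (d - 1) a b] at hgΩ
    obtain ⟨W, ⟨hWdim, hWnd, hWminus⟩, hWinv⟩ := h g hgΩ ⟨1, by rw [hgp]; simp⟩ hns
    obtain ⟨ν, hνle, hνs, hνadm, hW, hνr⟩ := sub_type_matrix h2 (stdMinus F (d - 1) a b) g hg μ
      (fun e he => (hμ e he).1) hμr W hWinv (by rw [coe_stdMinus F (d - 1) a b]; exact hWnd)
    refine ⟨ν, hνle, by rw [hνs, hWdim], hνadm, ?_⟩
    intro hν2 hν1
    apply hWminus
    have := plus_of_sq_zero h2 (stdMinus F (d - 1) a b) g hg W hW ν hνr hν2 (by rw [hν1, hWdim])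
    rwa [coe_stdMinus F (d - 1) a b] at this
  have hall : ∀ μ : Multiset ℕ, (∀ e ∈ μ, 0 < e ∧ e ≤ p) → (∀ e : ℕ, Even e → Even (μ.count e)) →
      μ.sum = 2 * d →
      ∃ ν : Multiset ℕ, ν ≤ μ ∧ ν.sum = m ∧ ∀ e : ℕ, Even e → Even (ν.count e) := by
    intro μ hμ hadm hsum
    by_cases hones : ∀ e ∈ μ, e ≤ 1
    · exact ones_case μ (fun e he => (hμ e he).1) hones m (by omega)
    · by_cases hodd : ∃ e ∈ μ, Odd e
      · obtain ⟨ν, h1, h2', h3, -⟩ := key μ hμ hadm hsum hodd hones
        exact ⟨ν, h1, h2', h3⟩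
      · have hall_even : ∀ e ∈ μ, Even e := by
          intro e he
          rw [← Nat.not_odd_iff_even]
          exact fun ho => hodd ⟨e, he, ho⟩
        have hne : μ ≠ 0 := by
          rintro rfl
          simp at hsum
          omega
        apply transfer_even μ p hpodd hμ hadm hall_even hne m hme
        intro μ' hμ' hadm' hsum' hodd' hones'
        obtain ⟨ν, h1, h2', h3, -⟩ := key μ' hμ' hadm' (hsum'.trans hsum) hodd' hones'
        exact ⟨ν, h1, h2', h3⟩
  refine ⟨?_, hall⟩
  rcases Nat.even_or_odd d with ⟨k, hk⟩ | ⟨k, hk⟩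
  · -- `2 d ≡ 0 (mod 4)`: type `(3, 1, 2^(d-2))`
    obtain ⟨ν, hνle, hνs, hνadm⟩ := hall (3 ::ₘ 1 ::ₘ Multiset.replicate (d - 2) 2) (by
        intro e he
        rw [Multiset.mem_cons, Multiset.mem_cons] at he
        rcases he with rfl | rfl | he
        · exact ⟨by omega, hp3⟩
        · exact ⟨by omega, by omega⟩
        · rw [Multiset.eq_of_mem_replicate he]
          exact ⟨by omega, by omega⟩) (by
        intro e he
        have he3 : ¬ e = 3 := by
          rintro rfl
          exact absurd he (by decide)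
        have he1 : ¬ e = 1 := by
          rintro rfl
          exact absurd he (by decide)
        rw [Multiset.count_cons, if_neg he3, Multiset.count_cons, if_neg he1,
          Multiset.count_replicate]
        split_ifs
        · exact ⟨k - 1, by omega⟩
        · exact ⟨0, rfl⟩) (by
        simp only [Multiset.sum_cons, Multiset.sum_replicate, smul_eq_mul]; omega)
    have hmem : ∀ e ∈ ν, e = 3 ∨ e = 1 ∨ e = 2 := by
      intro e he
      have := Multiset.mem_of_le hνle he
      rw [Multiset.mem_cons, Multiset.mem_cons] at this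
      rcases this with h | h | h
      · exact Or.inl h
      · exact Or.inr (Or.inl h)
      · exact Or.inr (Or.inr (Multiset.eq_of_mem_replicate h))
    have hs := sum_three_values ν 3 1 2 (by decide) (by decide) (by decide) hmem
    have hc3 : ν.count 3 ≤ 1 := by
      have := Multiset.count_le_of_le 3 hνle
      rw [Multiset.count_cons_self, Multiset.count_cons, if_neg (by decide),
        Multiset.count_replicate, if_neg (by decide)] at this
      omega
    have hc1 : ν.count 1 ≤ 1 := by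
      have := Multiset.count_le_of_le 1 hνle
      rw [Multiset.count_cons, if_neg (by decide), Multiset.count_cons_self,
        Multiset.count_replicate, if_neg (by decide)] at this
      omega
    obtain ⟨c, hc⟩ := hνadm 2 (by decide)
    obtain ⟨m', hm'⟩ := hme
    have hx : ν.count 3 = 0 ∨ ν.count 3 = 1 := by omega
    have hy : ν.count 1 = 0 ∨ ν.count 1 = 1 := by omega
    rcases hx with hx | hx <;> rcases hy with hy | hy <;> rw [hx, hy] at hs <;> omega
  · -- `2 d ≡ 2 (mod 4)`: type `(1, 1, 2^(d-1))`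
    obtain ⟨ν, hνle, hνs, hνadm, hnot⟩ := key (1 ::ₘ 1 ::ₘ Multiset.replicate (d - 1) 2) (by
        intro e he
        rw [Multiset.mem_cons, Multiset.mem_cons] at he
        rcases he with rfl | rfl | he
        · exact ⟨by omega, by omega⟩
        · exact ⟨by omega, by omega⟩
        · rw [Multiset.eq_of_mem_replicate he]
          exact ⟨by omega, by omega⟩) (by
        intro e he
        have he1 : ¬ e = 1 := by
          rintro rfl
          exact absurd he (by decide)
        rw [Multiset.count_cons, if_neg he1, Multiset.count_cons, if_neg he1,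
          Multiset.count_replicate]
        split_ifs
        · exact ⟨k, by omega⟩
        · exact ⟨0, rfl⟩) (by
        simp only [Multiset.sum_cons, Multiset.sum_replicate, smul_eq_mul]; omega)
      ⟨1, Multiset.mem_cons_self _ _, ⟨0, rfl⟩⟩ (by
        intro hcon
        have := hcon 2 (Multiset.mem_cons_of_mem (Multiset.mem_cons_of_mem
          (Multiset.mem_replicate.mpr ⟨by omega, rfl⟩)))
        omega)
    have hmem : ∀ e ∈ ν, e = 1 ∨ e = 2 := by
      intro e he
      have := Multiset.mem_of_le hνle he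
      rw [Multiset.mem_cons, Multiset.mem_cons] at this
      rcases this with h | h | h
      · exact Or.inl h
      · exact Or.inl h
      · exact Or.inr (Multiset.eq_of_mem_replicate h)
    have hs := sum_two_values ν 1 2 (by decide) hmem
    have hc1 : ν.count 1 ≤ 2 := by
      have := Multiset.count_le_of_le 1 hνle
      rw [Multiset.count_cons_self, Multiset.count_cons_self, Multiset.count_replicate,
        if_neg (by decide)] at this
      omega
    obtain ⟨c, hc⟩ := hνadm 2 (by decide)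
    obtain ⟨m', hm'⟩ := hme
    by_contra hmod
    have hm4 : m % 4 = 0 := by omega
    have hc10 : ν.count 1 = 0 := by omega
    apply hnot
    · apply rsum_eq_zero_of_le
      intro e he
      rcases hmem e he with rfl | rfl <;> omega
    · have hall2 : ∀ e ∈ ν, e = 2 := by
        intro e he
        rcases hmem e he with rfl | rfl
        · exact absurd (Multiset.count_pos.mpr he) (by omega)
        · rfl
      have hrep := Multiset.eq_replicate_card.mpr hall2
      rw [← hνs]
      conv_lhs => rw [hrep]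
      conv_rhs => rw [hrep]
      simp [rsum, Multiset.sum_replicate]
      ring

end Cfsg.Agent.S5994
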