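import Mathlib
import Cfsg.Prelude.Def_GeometricClasses
import Cfsg.Prelude.Def_Classical
import Cfsg.Agent.Lib.Helper14.UnipOmega
import Cfsg.Agent.Lib.Helper43.OrthOdd

set_option autoImplicit false
open scoped MatrixGroups

namespace Cfsg.Agent.S5995

open Module Cfsg.Agent.Helper42.Jordan Cfsg.Agent.Helper14.JType Cfsg.Agent.Helper14.UnipQuad
  Cfsg.Agent.Helper14.UnipWitt Cfsg.Agent.Helper14.UnipOmega Cfsg.Agent.Helper43

universe u

/-- an odd-dimensional model in standard coordinates -/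
theorem exists_odd_iso {F : Type u} [Field F] (h2 : (2 : F) ≠ 0) (d : ℕ) (μ : Multiset ℕ)
    (hadm : ∀ e : ℕ, Even e → Even (μ.count e)) (hsum : μ.sum = 2 * d + 1) :
    ∃ M : QuadModel F, (∀ i, rk (M.A - 1) i = rsum μ i) ∧
      ∃ ψ : (Unit ⊕ (Fin d ⊕ Fin d) → F) ≃ₗ[F] M.V, ∀ c, M.Q (ψ c) = stdOdd F d c := by
  obtain ⟨M, hM, hdim, U, w, hU, hts, hw, hwU, hww⟩ := odd_real h2 (1 : F) one_ne_zero μ hadm d hsum
  obtain ⟨φ, hφ⟩ := Cfsg.Agent.Helper14.WittIso.exists_std_iso M.Q h2 M.nondeg hdim U hU hts w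
    hwU hww (fun l => by rw [hw]; exact one_ne_zero)
  refine ⟨M, hM, (LinearEquiv.funCongrLeft F F (Equiv.sumComm (Fin d ⊕ Fin d) Unit)).trans φ, ?_⟩
  intro c
  rw [LinearEquiv.trans_apply, hφ, stdOdd_apply]
  unfold Cfsg.quadFormOdd
  simp only [LinearEquiv.funCongrLeft_apply, LinearMap.funLeft_apply, Equiv.sumComm_apply,
    Sum.swap_inl, Sum.swap_inr, hw, one_mul, Finset.univ_unique, Finset.sum_singleton]
  ring

theorem sum_two_values (ν : Multiset ℕ) (a b : ℕ) (hab : a ≠ b) (h : ∀ e ∈ ν, e = a ∨ e = b) :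
    ν.sum = a * ν.count a + b * ν.count b := by
  induction ν using Multiset.induction_on with
  | empty => simp
  | cons x ν ih =>
    have ih' := ih (fun e he => h e (Multiset.mem_cons_of_mem he))
    rw [Multiset.sum_cons, ih', Multiset.count_cons, Multiset.count_cons]
    rcases h x (Multiset.mem_cons_self x ν) with rfl | rfl
    · rw [if_pos rfl, if_neg hab.symm]; ring
    · rw [if_neg hab, if_pos rfl]; ring

/-- sub-multisets of `a, 2, 2, …, 2` (`a` odd) of even sum with `2` of even multiplicity have sum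
divisible by four -/
theorem mod_four (a k : ℕ) (ha : Odd a) (ν : Multiset ℕ) (hν : ν ≤ a ::ₘ Multiset.replicate k 2)
    (hadm : ∀ e : ℕ, Even e → Even (ν.count e)) (hsum : Even ν.sum) : ν.sum % 4 = 0 := by
  have ha2 : a ≠ 2 := by
    rintro rfl
    exact absurd ha (by decide)
  have hmem : ∀ e ∈ ν, e = a ∨ e = 2 := by
    intro e he
    have := Multiset.mem_of_le hν he
    rw [Multiset.mem_cons] at this
    rcases this with h | h
    · exact Or.inl h
    · exact Or.inr (Multiset.eq_of_mem_replicate h)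
  have hs := sum_two_values ν a 2 ha2 hmem
  have hca : ν.count a ≤ 1 := by
    have := Multiset.le_iff_count.mp hν a
    rw [Multiset.count_cons_self, Multiset.count_replicate, if_neg (Ne.symm ha2)] at this
    exact this
  obtain ⟨c, hc⟩ := hadm 2 (by decide)
  obtain ⟨a', ha'⟩ := ha
  obtain ⟨s, hs'⟩ := hsum
  have : ν.count a = 0 ∨ ν.count a = 1 := by omega
  rcases this with h0 | h1
  · rw [h0] at hs
    omega
  · rw [h1] at hs
    omega

theorem result {F : Type*} [Field F] [Fintype F] {p : ℕ} [Fact p.Prime] [CharP F p] {q : ℕ} (hq : Fintype.card F = q) (hqodd : Odd q)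
    (d m : ℕ) (hd : 3 ≤ d) (hm : 2 ≤ m) (hme : Even m) (hmn : m ≤ 2 * d)
    (hpΩ : p ∣ Nat.card {W : Submodule F (Unit ⊕ (Fin d ⊕ Fin d) → F) // Module.finrank F ↥W = m ∧ Cfsg.Geo.IsNondegenerateOn (QuadraticMap.polar (Cfsg.quadFormOdd d F)) W ∧ Cfsg.Geo.IsPlusTypeOn (Cfsg.quadFormOdd d F) W}) :
    (∀ x : GL (Unit ⊕ (Fin d ⊕ Fin d)) F, x ∈ Cfsg.Geo.omegaGL (Cfsg.quadFormOdd d F) → orderOf x = p →
      ∃ W : Submodule F (Unit ⊕ (Fin d ⊕ Fin d) → F), (Module.finrank F ↥W = m ∧ Cfsg.Geo.IsNondegenerateOn (QuadraticMap.polar (Cfsg.quadFormOdd d F)) W ∧ Cfsg.Geo.IsPlusTypeOn (Cfsg.quadFormOdd d F) W) ∧ W.map (Matrix.toLin' (x : Matrix (Unit ⊕ (Fin d ⊕ Fin d)) (Unit ⊕ (Fin d ⊕ Fin d)) F)) ≤ W) →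
    (m % 4 = 0 ∧ (∀ μ : Multiset ℕ, (∀ e ∈ μ, 0 < e ∧ e ≤ p) → (∀ e : ℕ, Even e → Even (μ.count e)) → μ.sum = 2 * d + 1 →
        ∃ ν : Multiset ℕ, ν ≤ μ ∧ ν.sum = m ∧ ∀ e : ℕ, Even e → Even (ν.count e))) := by
  intro h
  obtain ⟨h2, hpodd⟩ := two_ne_zero_of_odd (K := F) (p := p) (by rw [hq]; exact hqodd)
  have hpp : p.Prime := Fact.out
  have hp3 : 3 ≤ p := by
    have := hpp.two_le
    obtain ⟨k, hk⟩ := hpodd
    omega
  have hall : ∀ μ : Multiset ℕ, (∀ e ∈ μ, 0 < e ∧ e ≤ p) → (∀ e : ℕ, Even e → Even (μ.count e)) →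
      μ.sum = 2 * d + 1 →
      ∃ ν : Multiset ℕ, ν ≤ μ ∧ ν.sum = m ∧ ∀ e : ℕ, Even e → Even (ν.count e) := by
    intro μ hμ hadm hsum
    by_cases hones : ∀ e ∈ μ, e ≤ 1
    · exact ones_case μ (fun e he => (hμ e he).1) hones m (by omega)
    · obtain ⟨M, hM, ψ, hψ⟩ := exists_odd_iso (F := F) h2 d μ hadm hsum
      have : Nonempty (Unit ⊕ (Fin d ⊕ Fin d)) := ⟨Sum.inl ()⟩
      obtain ⟨g, hgΩ, hg, hgp, hns, hμr⟩ := core h2 hpodd (stdOdd F d) μ (fun e he => (hμ e he).2)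
        hones M hM ψ hψ
      rw [coe_stdOdd F d] at hgΩ
      obtain ⟨W, ⟨hWdim, hWnd, -⟩, hWinv⟩ := h g hgΩ (orderOf_eq_of_core g hgp hns)
      obtain ⟨ν, hνle, hνs, hνadm, -⟩ := sub_type_matrix h2 (stdOdd F d) g hg μ
        (fun e he => (hμ e he).1) hμr W hWinv (by rw [coe_stdOdd F d]; exact hWnd)
      exact ⟨ν, hνle, by rw [hνs, hWdim], hνadm⟩
  refine ⟨?_, hall⟩
  -- the congruence
  rcases Nat.even_or_odd d with ⟨k, hk⟩ | ⟨k, hk⟩
  · obtain ⟨ν, hνle, hνs, hνadm⟩ := hall (1 ::ₘ Multiset.replicate d 2) (by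
        intro e he
        rw [Multiset.mem_cons] at he
        rcases he with rfl | he
        · exact ⟨Nat.one_pos, by omega⟩
        · rw [Multiset.eq_of_mem_replicate he]
          exact ⟨by omega, by omega⟩) (by
        intro e he
        rw [Multiset.count_cons, Multiset.count_replicate]
        have he1 : e ≠ 1 := by
          rintro rfl
          exact absurd he (by decide)
        rw [if_neg he1, add_zero]
        split_ifs
        · exact ⟨k, hk⟩
        · exact ⟨0, rfl⟩) (by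
        rw [Multiset.sum_cons, Multiset.sum_replicate, smul_eq_mul]; ring)
    rw [← hνs]
    exact mod_four 1 d ⟨0, rfl⟩ ν hνle hνadm (by rw [hνs]; exact hme)
  · obtain ⟨ν, hνle, hνs, hνadm⟩ := hall (3 ::ₘ Multiset.replicate (d - 1) 2) (by
        intro e he
        rw [Multiset.mem_cons] at he
        rcases he with rfl | he
        · exact ⟨by omega, hp3⟩
        · rw [Multiset.eq_of_mem_replicate he]
          exact ⟨by omega, by omega⟩) (by
        intro e he
        rw [Multiset.count_cons, Multiset.count_replicate]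
        have he1 : e ≠ 3 := by
          rintro rfl
          exact absurd he (by decide)
        rw [if_neg he1, add_zero]
        split_ifs
        · exact ⟨k, by omega⟩
        · exact ⟨0, rfl⟩) (by
        rw [Multiset.sum_cons, Multiset.sum_replicate, smul_eq_mul]; omega)
    rw [← hνs]
    exact mod_four 3 (d - 1) ⟨1, rfl⟩ ν hνle hνadm (by rw [hνs]; exact hme)

end Cfsg.Agent.S5995
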