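import Mathlib
import Cfsg.Prelude.Def_GeometricClasses
import Cfsg.Prelude.Def_Classical
import Cfsg.Agent.Lib.Helper14.UnipOmega
import Cfsg.Agent.Lib.Helper43.OrthPlus

set_option autoImplicit false
open scoped MatrixGroups

namespace Cfsg.Agent.S5996

open Module Cfsg.Agent.Helper42.Jordan Cfsg.Agent.Helper14.JType Cfsg.Agent.Helper14.UnipQuad
  Cfsg.Agent.Helper14.UnipWitt Cfsg.Agent.Helper14.UnipOmega Cfsg.Agent.Helper43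

universe u

/-- a plus-type model in standard coordinates -/
theorem exists_plus_iso {F : Type u} [Field F] (h2 : (2 : F) ≠ 0) (d : ℕ) (μ : Multiset ℕ)
    (hadm : ∀ e : ℕ, Even e → Even (μ.count e)) (hsum : μ.sum = 2 * d) :
    ∃ M : QuadModel F, (∀ i, rk (M.A - 1) i = rsum μ i) ∧
      ∃ ψ : (Fin d ⊕ Fin d → F) ≃ₗ[F] M.V, ∀ c, M.Q (ψ c) = stdPlus F d c := by
  have h1 := plus_real h2 _ μ rfl hadm ⟨d, by rw [hsum]; ring⟩
  have h1' : WReal F μ d (Empty.elim : Empty → F) := wreal_of_eq h1 rfl (by omega)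
  obtain ⟨M, hM, hdim, U, w, hU, hts, hw, hwU, hww⟩ := h1'
  obtain ⟨φ, hφ⟩ := Cfsg.Agent.Helper14.WittIso.exists_std_iso M.Q h2 M.nondeg hdim U hU hts w
    hwU hww (fun l => l.elim)
  refine ⟨M, hM, (LinearEquiv.funCongrLeft F F (Equiv.sumEmpty (Fin d ⊕ Fin d) Empty)).trans φ, ?_⟩
  intro c
  rw [LinearEquiv.trans_apply, hφ, stdPlus_apply]
  unfold Cfsg.quadFormPlus
  simp [LinearEquiv.funCongrLeft_apply, LinearMap.funLeft_apply]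

theorem result {F : Type*} [Field F] [Fintype F] {p : ℕ} [Fact p.Prime] [CharP F p] {q : ℕ} (hq : Fintype.card F = q) (hqodd : Odd q)
    (d m : ℕ) (hd : 4 ≤ d) (hm : 2 ≤ m) (hme : Even m) (hmd : m < d)
    (hpΩ : p ∣ Nat.card {W : Submodule F (Fin d ⊕ Fin d → F) // Module.finrank F ↥W = m ∧ Cfsg.Geo.IsNondegenerateOn (QuadraticMap.polar (Cfsg.quadFormPlus d F)) W ∧ Cfsg.Geo.IsPlusTypeOn (Cfsg.quadFormPlus d F) W}) :
    (∀ x : GL (Fin d ⊕ Fin d) F, x ∈ Cfsg.Geo.omegaGL (Cfsg.quadFormPlus d F) →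
      (∃ z : F, ((x ^ p : GL (Fin d ⊕ Fin d) F) : Matrix (Fin d ⊕ Fin d) (Fin d ⊕ Fin d) F) = z • (1 : Matrix (Fin d ⊕ Fin d) (Fin d ⊕ Fin d) F)) →
      (∀ z : F, (x : Matrix (Fin d ⊕ Fin d) (Fin d ⊕ Fin d) F) ≠ z • (1 : Matrix (Fin d ⊕ Fin d) (Fin d ⊕ Fin d) F)) →
      ∃ W : Submodule F (Fin d ⊕ Fin d → F), (Module.finrank F ↥W = m ∧ Cfsg.Geo.IsNondegenerateOn (QuadraticMap.polar (Cfsg.quadFormPlus d F)) W ∧ Cfsg.Geo.IsPlusTypeOn (Cfsg.quadFormPlus d F) W) ∧ W.map (Matrix.toLin' (x : Matrix (Fin d ⊕ Fin d) (Fin d ⊕ Fin d) F)) ≤ W) →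
    (∀ μ : Multiset ℕ, (∀ e ∈ μ, 0 < e ∧ e ≤ p) → (∀ e : ℕ, Even e → Even (μ.count e)) → μ.sum = 2 * d →
        ∃ ν : Multiset ℕ, ν ≤ μ ∧ ν.sum = m ∧ ∀ e : ℕ, Even e → Even (ν.count e)) := by
  intro h μ hμ hadm hsum
  obtain ⟨h2, hpodd⟩ := two_ne_zero_of_odd (K := F) (p := p) (by rw [hq]; exact hqodd)
  by_cases hones : ∀ e ∈ μ, e ≤ 1
  · exact ones_case μ (fun e he => (hμ e he).1) hones m (by omega)
  · obtain ⟨M, hM, ψ, hψ⟩ := exists_plus_iso (F := F) h2 d μ hadm hsum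
    have : Nonempty (Fin d ⊕ Fin d) := ⟨Sum.inl ⟨0, by omega⟩⟩
    obtain ⟨g, hgΩ, hg, hgp, hns, hμr⟩ := core h2 hpodd (stdPlus F d) μ (fun e he => (hμ e he).2)
      hones M hM ψ hψ
    obtain ⟨W, ⟨hWdim, hWnd, -⟩, hWinv⟩ := h g hgΩ ⟨1, by rw [hgp]; simp⟩ hns
    obtain ⟨ν, hνle, hνs, hνadm, -⟩ := sub_type_matrix h2 (stdPlus F d) g hg μ
      (fun e he => (hμ e he).1) hμr W hWinv hWnd
    exact ⟨ν, hνle, by rw [hνs, hWdim], hνadm⟩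

end Cfsg.Agent.S5996
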