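import Cfsg.Statements.S5997
import Mathlib

set_option autoImplicit false
open scoped MatrixGroups
open Cfsg

namespace Cfsg.Agent.S5997

variable {F : Type*} [Field F]


variable {F : Type*} [Field F]

theorem ch2 (A : Matrix (Fin 2) (Fin 2) F) :
    A * A = A.trace • A - A.det • (1 : Matrix (Fin 2) (Fin 2) F) := by
  ext i j
  fin_cases i <;> fin_cases j <;>
    simp [Matrix.mul_apply, Fin.sum_univ_two, Matrix.det_fin_two, Matrix.trace_fin_two] <;> ring

theorem smul_one_inj {a b : F} (h : a • (1 : Matrix (Fin 2) (Fin 2) F) = b • 1) : a = b := by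
  have := congr_fun (congr_fun h 0) 0
  simpa using this

/-- A non-scalar matrix with square `-1` has trace `0` and determinant `1`. -/
theorem tr_det_of_sq (A : Matrix (Fin 2) (Fin 2) F) (hA : A * A = -1)
    (hns : ∀ z : F, A ≠ z • (1 : Matrix (Fin 2) (Fin 2) F)) : A.trace = 0 ∧ A.det = 1 := by
  have h := ch2 A
  rw [hA] at h
  have htr : A.trace = 0 := by
    by_contra ht
    apply hns ((A.det - 1) / A.trace)
    have : A.trace • A = (A.det - 1) • (1 : Matrix (Fin 2) (Fin 2) F) := by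
      rw [sub_smul, one_smul]
      have h' : A.trace • A = -1 + A.det • (1 : Matrix (Fin 2) (Fin 2) F) := by
        rw [h]; abel
      rw [h']; abel
    calc A = (A.trace)⁻¹ • (A.trace • A) := by rw [smul_smul, inv_mul_cancel₀ ht, one_smul]
      _ = ((A.det - 1) / A.trace) • (1 : Matrix (Fin 2) (Fin 2) F) := by
          rw [this, smul_smul]; congr 1; field_simp
  refine ⟨htr, ?_⟩
  rw [htr, zero_smul, zero_sub] at h
  have h' : (1 : Matrix (Fin 2) (Fin 2) F) = A.det • 1 := neg_inj.mp h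
  have : (1 : F) • (1 : Matrix (Fin 2) (Fin 2) F) = A.det • 1 := by
    rw [one_smul]; exact h'
  exact (smul_one_inj this).symm

theorem nonscalar_of_anticomm (h2 : (2 : F) ≠ 0) (A B : Matrix (Fin 2) (Fin 2) F)
    (hA : A * A = -1) (hB : B * B = -1) (hBA : B * A = -(A * B)) :
    ∀ z : F, A ≠ z • (1 : Matrix (Fin 2) (Fin 2) F) := by
  intro z hz
  have hcomm : B * A = A * B := by
    rw [hz]; simp
  have h0 : (2 : F) • (A * B) = 0 := by
    rw [two_smul]
    nth_rewrite 1 [← hcomm]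
    rw [hBA]; abel
  have hAB : A * B = 0 := by
    rcases smul_eq_zero.mp h0 with h | h
    · exact absurd h h2
    · exact h
  have : (1 : Matrix (Fin 2) (Fin 2) F) = 0 := by
    calc (1 : Matrix (Fin 2) (Fin 2) F) = (A * A) * (B * B) := by rw [hA, hB]; simp
      _ = A * (A * B) * B := by simp only [Matrix.mul_assoc]
      _ = 0 := by rw [hAB]; simp
  exact one_ne_zero this


section ring
variable {A : Type*} [Ring A]
theorem q1 (I J : A) (hI : I * I = -1) (hJ : J * J = -1) (hJI : J * I = -(I * J)) :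
    (I * J) * (I * J) = -1 := by
  calc (I * J) * (I * J) = I * (J * I) * J := by noncomm_ring
    _ = I * (-(I * J)) * J := by rw [hJI]
    _ = -((I * I) * (J * J)) := by noncomm_ring
    _ = -1 := by rw [hI, hJ]; noncomm_ring

theorem q_iji (I J : A) (hI : I * I = -1) (hJI : J * I = -(I * J)) : I * J * I = J := by
  calc I * J * I = I * (J * I) := by noncomm_ring
    _ = I * (-(I * J)) := by rw [hJI]
    _ = -((I * I) * J) := by noncomm_ring
    _ = J := by rw [hI]; noncomm_ring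

theorem q_jij (I J : A) (hJ : J * J = -1) (hJI : J * I = -(I * J)) : J * (I * J) = I := by
  calc J * (I * J) = (J * I) * J := by noncomm_ring
    _ = (-(I * J)) * J := by rw [hJI]
    _ = -(I * (J * J)) := by noncomm_ring
    _ = I := by rw [hJ]; noncomm_ring
theorem q4 (I J : A) (hI : I * I = -1) (hJ : J * J = -1) (hJI : J * I = -(I * J)) :
    (1 + I + J + I * J) * (1 + I + J + I * J) =
      (1 + I + J + I * J) + (1 + I + J + I * J) - (1 + 1 + 1 + 1) := by
  have h1 := q_iji I J hI hJI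
  have h2 := q_jij I J hJ hJI
  have h3 : I * J * J = -I := by rw [mul_assoc, hJ]; noncomm_ring
  have h4 : I * J * (I * J) = -1 := q1 I J hI hJ hJI
  have h6 : I * (I * J) = -J := by rw [← mul_assoc, hI]; noncomm_ring
  simp only [add_mul, mul_add, one_mul, mul_one, hI, hJ, hJI, h1, h2, h3, h4, h6]
  abel

theorem q2 (I J : A) (hI : I * I = -1) (hJ : J * J = -1) (hJI : J * I = -(I * J)) :
    (1 + I + J + I * J) * I = J * (1 + I + J + I * J) := by
  have h1 := q_iji I J hI hJI
  have h2 := q_jij I J hJ hJI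
  simp only [add_mul, mul_add, one_mul, mul_one, hI, hJ, hJI, h1, h2]
  abel

theorem q3 (I J : A) (hI : I * I = -1) (hJ : J * J = -1) (hJI : J * I = -(I * J)) :
    (1 + I + J + I * J) * J = (I * J) * (1 + I + J + I * J) := by
  have h1 := q_iji I J hI hJI
  have h3 : I * J * J = -I := by rw [mul_assoc, hJ]; noncomm_ring
  have h4 : I * J * (I * J) = -1 := q1 I J hI hJ hJI
  have h5 : I * J * I = J := h1
  simp only [add_mul, mul_add, one_mul, mul_one, hI, hJ, hJI, h1, h3, h4]
  abel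


end ring

theorem nonscalar_entries (Y : Matrix (Fin 2) (Fin 2) F)
    (hY : ∀ z : F, Y ≠ z • (1 : Matrix (Fin 2) (Fin 2) F)) :
    Y 0 1 ≠ 0 ∨ Y 1 0 ≠ 0 ∨ Y 0 0 ≠ Y 1 1 := by
  by_contra h
  push Not at h
  apply hY (Y 0 0)
  ext i j; fin_cases i <;> fin_cases j <;> simp [h.1, h.2.1, h.2.2]

theorem comm_of_comm_nonscalar (A B Y : Matrix (Fin 2) (Fin 2) F)
    (hY : ∀ z : F, Y ≠ z • (1 : Matrix (Fin 2) (Fin 2) F))
    (hA : A * Y = Y * A) (hB : B * Y = Y * B) : A * B = B * A := by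
  have hA00 := congr_fun (congr_fun hA 0) 0
  have hA01 := congr_fun (congr_fun hA 0) 1
  have hA10 := congr_fun (congr_fun hA 1) 0
  have hB00 := congr_fun (congr_fun hB 0) 0
  have hB01 := congr_fun (congr_fun hB 0) 1
  have hB10 := congr_fun (congr_fun hB 1) 0
  simp only [Matrix.mul_apply, Fin.sum_univ_two] at hA00 hA01 hA10 hB00 hB01 hB10
  have hns := nonscalar_entries Y hY
  ext i j
  fin_cases i <;> fin_cases j <;> simp only [Matrix.mul_apply, Fin.sum_univ_two, Fin.zero_eta, Fin.mk_one] <;>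
    rcases hns with h | h | h <;> grind

theorem quat_rel (I J : GL (Fin 2) F) (hI4 : I ^ 4 = 1) (hI2 : I ^ 2 ≠ 1)
    (hJ2 : J ^ 2 = I ^ 2) (hJI : J * I * J⁻¹ = I⁻¹) :
    (I : Matrix (Fin 2) (Fin 2) F) * (I : Matrix (Fin 2) (Fin 2) F) = -1 ∧
    (J : Matrix (Fin 2) (Fin 2) F) * (J : Matrix (Fin 2) (Fin 2) F) = -1 ∧
    (J : Matrix (Fin 2) (Fin 2) F) * (I : Matrix (Fin 2) (Fin 2) F) =
      -((I : Matrix (Fin 2) (Fin 2) F) * (J : Matrix (Fin 2) (Fin 2) F)) := by
  -- Z = I^2 is central and of order two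
  have hZZ : ((I ^ 2 : GL (Fin 2) F) : Matrix (Fin 2) (Fin 2) F) * ((I ^ 2 : GL (Fin 2) F) : Matrix (Fin 2) (Fin 2) F) = 1 := by
    rw [← Units.val_mul, ← pow_add, hI4, Units.val_one]
  have hZI : (I : Matrix (Fin 2) (Fin 2) F) * ((I ^ 2 : GL (Fin 2) F) : Matrix (Fin 2) (Fin 2) F)
      = ((I ^ 2 : GL (Fin 2) F) : Matrix (Fin 2) (Fin 2) F) * (I : Matrix (Fin 2) (Fin 2) F) := by
    rw [← Units.val_mul, ← Units.val_mul, ← pow_succ, ← pow_succ']
  have hZJ : (J : Matrix (Fin 2) (Fin 2) F) * ((I ^ 2 : GL (Fin 2) F) : Matrix (Fin 2) (Fin 2) F)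
      = ((I ^ 2 : GL (Fin 2) F) : Matrix (Fin 2) (Fin 2) F) * (J : Matrix (Fin 2) (Fin 2) F) := by
    rw [← hJ2, ← Units.val_mul, ← Units.val_mul, ← pow_succ, ← pow_succ']
  have hnc : I * J ≠ J * I := by
    intro h
    apply hI2
    have : J * I * J⁻¹ = I := by rw [← h]; group
    rw [this] at hJI
    calc I ^ 2 = I * I := sq I
      _ = I * I⁻¹ := by rw [← hJI]
      _ = 1 := mul_inv_cancel I
  have hZs : ∃ z : F, ((I ^ 2 : GL (Fin 2) F) : Matrix (Fin 2) (Fin 2) F) = z • (1 : Matrix (Fin 2) (Fin 2) F) := by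
    by_contra hcon
    push Not at hcon
    apply hnc
    apply Units.ext
    rw [Units.val_mul, Units.val_mul]
    exact comm_of_comm_nonscalar _ _ _ hcon hZI hZJ
  obtain ⟨z, hz⟩ := hZs
  have hz2 : z * z = 1 := by
    have := congr_fun (congr_fun hZZ 0) 0
    rw [hz] at this
    simpa using this
  have hz1 : z ≠ 1 := by
    intro h
    apply hI2
    apply Units.ext
    rw [hz, h, one_smul, Units.val_one]
  have hzm : z = -1 := by
    have : (z - 1) * (z + 1) = 0 := by linear_combination hz2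
    rcases mul_eq_zero.mp this with h | h
    · exact absurd (sub_eq_zero.mp h) hz1
    · exact eq_neg_of_add_eq_zero_left h
  have hII : (I : Matrix (Fin 2) (Fin 2) F) * (I : Matrix (Fin 2) (Fin 2) F) = -1 := by
    rw [← Units.val_mul, ← sq, hz, hzm, neg_smul, one_smul]
  have hJJ : (J : Matrix (Fin 2) (Fin 2) F) * (J : Matrix (Fin 2) (Fin 2) F) = -1 := by
    rw [← Units.val_mul, ← sq, hJ2, hz, hzm, neg_smul, one_smul]
  refine ⟨hII, hJJ, ?_⟩
  have hinv : ((I⁻¹ : GL (Fin 2) F) : Matrix (Fin 2) (Fin 2) F) = -(I : Matrix (Fin 2) (Fin 2) F) := by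
    calc ((I⁻¹ : GL (Fin 2) F) : Matrix (Fin 2) (Fin 2) F)
        = ((I⁻¹ : GL (Fin 2) F) : Matrix (Fin 2) (Fin 2) F) * (-((I : Matrix (Fin 2) (Fin 2) F) * (I : Matrix (Fin 2) (Fin 2) F))) := by
          rw [hII, neg_neg, Matrix.mul_one]
      _ = -(((I⁻¹ * I : GL (Fin 2) F) : Matrix (Fin 2) (Fin 2) F) * (I : Matrix (Fin 2) (Fin 2) F)) := by
          rw [Units.val_mul, Matrix.mul_neg, Matrix.mul_assoc]
      _ = -(I : Matrix (Fin 2) (Fin 2) F) := by rw [inv_mul_cancel, Units.val_one, Matrix.one_mul]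
  have hJI' : J * I = I⁻¹ * J := by
    rw [← hJI]; group
  calc (J : Matrix (Fin 2) (Fin 2) F) * (I : Matrix (Fin 2) (Fin 2) F)
      = ((J * I : GL (Fin 2) F) : Matrix (Fin 2) (Fin 2) F) := by rw [Units.val_mul]
    _ = ((I⁻¹ * J : GL (Fin 2) F) : Matrix (Fin 2) (Fin 2) F) := by rw [hJI']
    _ = -((I : Matrix (Fin 2) (Fin 2) F) * (J : Matrix (Fin 2) (Fin 2) F)) := by
        rw [Units.val_mul, hinv, Matrix.neg_mul]


open Polynomial in
theorem binary_universal [Fintype F] (hodd : Fintype.card F % 2 = 1) (h2 : (2 : F) ≠ 0)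
    (α β γ : F) (h : β ^ 2 - 4 * α * γ ≠ 0) :
    ∃ u v : F, α * u ^ 2 + β * u * v + γ * v ^ 2 = 1 := by
  by_cases hα : α = 0
  · subst hα
    have hβ : β ≠ 0 := by
      intro hβ; apply h; rw [hβ]; ring
    refine ⟨(1 - γ) / β, 1, ?_⟩
    field_simp
    ring
  · have h4 : (4 : F) ≠ 0 := by
      have : (4 : F) = 2 * 2 := by norm_num
      rw [this]; exact mul_ne_zero h2 h2
    have hκ0 : (4 * α * γ - β ^ 2) / (4 * α) ≠ 0 := by
      apply div_ne_zero
      · intro h'; apply h; linear_combination -h'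
      · exact mul_ne_zero h4 hα
    have hf : (C α * X ^ 2 + C 0 * X + C (-1) : F[X]).degree = 2 := degree_quadratic hα
    have hg : (C ((4 * α * γ - β ^ 2) / (4 * α)) * X ^ 2 + C 0 * X + C 0 : F[X]).degree = 2 :=
      degree_quadratic hκ0
    obtain ⟨a, b, hab⟩ := FiniteField.exists_root_sum_quadratic hf hg hodd
    simp only [eval_add, eval_mul, eval_C, eval_pow, eval_X] at hab
    have hab' : α * a ^ 2 + (4 * α * γ - β ^ 2) / (4 * α) * b ^ 2 = 1 := by
      linear_combination hab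
    refine ⟨a - β * b / (2 * α), b, ?_⟩
    rw [← hab']
    field_simp
    ring

/-- A cyclic basis with determinant one. -/
theorem exists_companion_basis [Fintype F] (hodd : Fintype.card F % 2 = 1) (h2 : (2 : F) ≠ 0)
    (X : Matrix (Fin 2) (Fin 2) F) (hdisc : X.trace ^ 2 - 4 * X.det ≠ 0) :
    ∃ P : Matrix (Fin 2) (Fin 2) F, P.det = 1 ∧ X * P = P * !![0, -X.det; 1, X.trace] := by
  have hd : (X 1 1 - X 0 0) ^ 2 - 4 * (X 1 0) * (-(X 0 1)) ≠ 0 := by
    intro h'
    apply hdisc
    rw [Matrix.trace_fin_two, Matrix.det_fin_two]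
    linear_combination h'
  obtain ⟨u, v, huv⟩ := binary_universal hodd h2 (X 1 0) (X 1 1 - X 0 0) (-(X 0 1)) hd
  refine ⟨!![u, X 0 0 * u + X 0 1 * v; v, X 1 0 * u + X 1 1 * v], ?_, ?_⟩
  · rw [Matrix.det_fin_two_of]
    linear_combination huv
  · ext i j
    fin_cases i <;> fin_cases j <;>
      simp [Matrix.mul_apply, Fin.sum_univ_two, Matrix.det_fin_two, Matrix.trace_fin_two] <;> ring

theorem conj_SL2 [Fintype F] (hodd : Fintype.card F % 2 = 1) (h2 : (2 : F) ≠ 0)
    (X Y : Matrix (Fin 2) (Fin 2) F) (ht : X.trace = Y.trace) (hd : X.det = Y.det)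
    (hdisc : X.trace ^ 2 - 4 * X.det ≠ 0) :
    ∃ G : Matrix (Fin 2) (Fin 2) F, G.det = 1 ∧ X * G = G * Y := by
  obtain ⟨P, hP, hXP⟩ := exists_companion_basis hodd h2 X hdisc
  obtain ⟨Q, hQ, hYQ⟩ := exists_companion_basis hodd h2 Y (by rw [← ht, ← hd]; exact hdisc)
  rw [← ht, ← hd] at hYQ
  refine ⟨P * Q.adjugate, ?_, ?_⟩
  · rw [Matrix.det_mul, Matrix.det_adjugate, hP, hQ]; simp
  · have h1 : Q.adjugate * Q = 1 := by rw [Matrix.adjugate_mul, hQ, one_smul]
    have h2' : Q * Q.adjugate = 1 := by rw [Matrix.mul_adjugate, hQ, one_smul]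
    calc X * (P * Q.adjugate) = (X * P) * Q.adjugate := by rw [Matrix.mul_assoc]
      _ = P * !![0, -X.det; 1, X.trace] * Q.adjugate := by rw [hXP]
      _ = P * (Q.adjugate * Q) * !![0, -X.det; 1, X.trace] * Q.adjugate := by rw [h1, Matrix.mul_one]
      _ = P * Q.adjugate * (Q * !![0, -X.det; 1, X.trace]) * Q.adjugate := by
            simp only [Matrix.mul_assoc]
      _ = P * Q.adjugate * (Y * Q) * Q.adjugate := by rw [hYQ]
      _ = P * Q.adjugate * Y * (Q * Q.adjugate) := by simp only [Matrix.mul_assoc]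
      _ = P * Q.adjugate * Y := by rw [h2', Matrix.mul_one]




section act
variable {G : Type*} [Group G]

/-- conjugation action of the powers of a normalizing element -/
@[reducible]
def conjAction (R : Subgroup G) (y : G) (hy : y ∈ Subgroup.normalizer (R : Set G)) :
    MulAction (Subgroup.zpowers y) R where
  smul k h := ⟨(k : G) * h * (k : G)⁻¹,
    (Subgroup.mem_normalizer_iff.mp ((Subgroup.zpowers_le.mpr hy) k.2) h).mp h.2⟩
  one_smul h := by
    apply Subtype.ext
    show ((1 : Subgroup.zpowers y) : G) * h * ((1 : Subgroup.zpowers y) : G)⁻¹ = h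
    simp
  mul_smul a b h := by
    apply Subtype.ext
    show ((a * b : Subgroup.zpowers y) : G) * h * ((a * b : Subgroup.zpowers y) : G)⁻¹
      = (a : G) * ((b : G) * h * (b : G)⁻¹) * (a : G)⁻¹
    simp [mul_assoc]

theorem centralizes_of_prime_order (R : Subgroup G) [Finite R] (hR : Nat.card R = 8)
    (y : G) (hy : y ∈ Subgroup.normalizer (R : Set G)) (r : ℕ) [Fact r.Prime] (hr : 5 ≤ r)
    (hyr : orderOf y = r) (c : G) (hcR : c ∈ R) (hc1 : c ≠ 1) (hcy : y * c = c * y) :
    ∀ h ∈ R, y * h = h * y := by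
  let _ := conjAction R y hy
  have hP : IsPGroup r (Subgroup.zpowers y) :=
    IsPGroup.of_card (n := 1) (by rw [Nat.card_zpowers, hyr, pow_one])
  have hmod := hP.card_modEq_card_fixedPoints R
  let C : Subgroup R := (Subgroup.centralizer {y}).subgroupOf R
  have hfix : MulAction.fixedPoints (Subgroup.zpowers y) R = (C : Set R) := by
    ext h
    simp only [MulAction.mem_fixedPoints, SetLike.mem_coe]
    constructor
    · intro hf
      have h1 := hf ⟨y, Subgroup.mem_zpowers y⟩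
      have h2 : y * (h : G) * y⁻¹ = h := congrArg Subtype.val h1
      show (h : G) ∈ Subgroup.centralizer {y}
      rw [Subgroup.mem_centralizer_iff]
      intro m hm
      rw [Set.mem_singleton_iff] at hm
      subst hm
      calc m * (h : G) = (m * h * m⁻¹) * m := by group
        _ = h * m := by rw [h2]
    · intro hC k
      have hC' : (h : G) ∈ Subgroup.centralizer {y} := hC
      have hk : (k : G) ∈ Subgroup.centralizer {(h : G)} := by
        have : Subgroup.zpowers y ≤ Subgroup.centralizer {(h : G)} := by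
          rw [Subgroup.zpowers_le, Subgroup.mem_centralizer_iff]
          intro m hm
          rw [Set.mem_singleton_iff] at hm
          subst hm
          exact ((Subgroup.mem_centralizer_iff.mp hC') y rfl).symm
        exact this k.2
      apply Subtype.ext
      show (k : G) * h * (k : G)⁻¹ = h
      have := (Subgroup.mem_centralizer_iff.mp hk) h rfl
      calc (k : G) * h * (k : G)⁻¹ = (h * k) * (k : G)⁻¹ := by rw [this]
        _ = h := by group
  have hcard : Nat.card (MulAction.fixedPoints (Subgroup.zpowers y) R) = Nat.card C := by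
    rw [hfix]; rfl
  rw [hcard, hR] at hmod
  have hdvd : Nat.card C ∣ 8 := hR ▸ Subgroup.card_subgroup_dvd_card C
  have hcC : (⟨c, hcR⟩ : R) ∈ C := by
    show c ∈ Subgroup.centralizer {y}
    rw [Subgroup.mem_centralizer_iff]
    intro m hm
    rw [Set.mem_singleton_iff] at hm
    subst hm
    exact hcy
  have hCtop : C = ⊤ := by
    have h8 : (8 : ℕ) = 2 ^ 3 := by norm_num
    rw [h8] at hdvd
    obtain ⟨k, hk, hk'⟩ := (Nat.dvd_prime_pow Nat.prime_two).mp hdvd
    have hrp : r.Prime := Fact.out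
    interval_cases k
    · exfalso
      have : C = ⊥ := Subgroup.card_eq_one.mp (by rw [hk']; norm_num)
      rw [this, Subgroup.mem_bot] at hcC
      apply hc1
      exact congrArg Subtype.val hcC
    · exfalso
      rw [hk'] at hmod
      have : r ∣ 8 - 2 := (Nat.modEq_iff_dvd' (by norm_num)).mp hmod.symm
      have hle : r ≤ 6 := Nat.le_of_dvd (by norm_num) this
      have h56 : r = 5 ∨ r = 6 := by omega
      rcases h56 with h5 | h6
      · rw [h5] at this; omega
      · rw [h6] at hrp; exact absurd hrp (by norm_num)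
    · exfalso
      rw [hk'] at hmod
      have : r ∣ 8 - 4 := (Nat.modEq_iff_dvd' (by norm_num)).mp hmod.symm
      have hle : r ≤ 4 := Nat.le_of_dvd (by norm_num) this
      omega
    · apply (Subgroup.card_eq_iff_eq_top C).mp
      rw [hk', hR]; norm_num
  intro h hh
  have : (⟨h, hh⟩ : R) ∈ C := by rw [hCtop]; exact Subgroup.mem_top _
  have this' : h ∈ Subgroup.centralizer {y} := this
  exact (Subgroup.mem_centralizer_iff.mp this') y rfl

end act


theorem q8_elems (q : QuaternionGroup 2) :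
    ∃ k : ℕ, q = QuaternionGroup.a 1 ^ k ∨ q = QuaternionGroup.xa 0 * QuaternionGroup.a 1 ^ k := by
  rcases q with m | m
  · refine ⟨m.val, Or.inl ?_⟩
    rw [QuaternionGroup.a_one_pow, ZMod.natCast_zmod_val]
  · refine ⟨m.val, Or.inr ?_⟩
    rw [QuaternionGroup.a_one_pow, ZMod.natCast_zmod_val, QuaternionGroup.xa_mul_a, zero_add]

theorem q8_rel : (QuaternionGroup.a 1 : QuaternionGroup 2) ^ 4 = 1 ∧
    (QuaternionGroup.a 1 : QuaternionGroup 2) ^ 2 ≠ 1 ∧
    (QuaternionGroup.xa 0 : QuaternionGroup 2) ^ 2 = (QuaternionGroup.a 1 : QuaternionGroup 2) ^ 2 ∧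
    (QuaternionGroup.xa 0 : QuaternionGroup 2) * QuaternionGroup.a 1 * (QuaternionGroup.xa 0)⁻¹
      = (QuaternionGroup.a 1 : QuaternionGroup 2)⁻¹ := by
  decide


theorem mem_normalizer_of (R : Subgroup (GL (Fin 2) F)) [Finite R] (I J W : GL (Fin 2) F)
    (hgen : ∀ h ∈ R, ∃ k : ℕ, h = I ^ k ∨ h = J * I ^ k)
    (h1 : W * I * W⁻¹ ∈ R) (h2 : W * J * W⁻¹ ∈ R) :
    W ∈ Subgroup.normalizer (R : Set (GL (Fin 2) F)) := by
  apply Subgroup.mem_normalizer_fintype
  intro n hn
  obtain ⟨k, hk | hk⟩ := hgen n hn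
  · rw [hk, ← conj_pow]
    exact R.pow_mem h1 k
  · have : W * n * W⁻¹ = (W * J * W⁻¹) * (W * I * W⁻¹) ^ k := by
      rw [hk, conj_pow]; group
    rw [this]
    exact R.mul_mem h2 (R.pow_mem h1 k)



theorem exists_conj [Fintype F] (hodd : Fintype.card F % 2 = 1) (h2 : (2 : F) ≠ 0)
    (N : Subgroup (GL (Fin 2) F)) (x y : GL (Fin 2) F) (hy : y ∈ N)
    (ht : (x : Matrix (Fin 2) (Fin 2) F).trace = (y : Matrix (Fin 2) (Fin 2) F).trace)
    (hdx : (x : Matrix (Fin 2) (Fin 2) F).det = 1) (hdy : (y : Matrix (Fin 2) (Fin 2) F).det = 1)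
    (hdisc : (x : Matrix (Fin 2) (Fin 2) F).trace ^ 2 - 4 ≠ 0) :
    ∃ g ∈ Cfsg.Geo.specialLinear (Fin 2) F, g⁻¹ * x * g ∈ N := by
  obtain ⟨G, hG, hXG⟩ := conj_SL2 hodd h2 (x : Matrix (Fin 2) (Fin 2) F) (y : Matrix (Fin 2) (Fin 2) F) ht
    (by rw [hdx, hdy]) (by rw [hdx, mul_one]; exact hdisc)
  let g : GL (Fin 2) F := Matrix.GeneralLinearGroup.mkOfDetNeZero G (by rw [hG]; exact one_ne_zero)
  have hgv : (g : Matrix (Fin 2) (Fin 2) F) = G := rfl
  refine ⟨g, ?_, ?_⟩
  · show g ∈ (Matrix.GeneralLinearGroup.det : GL (Fin 2) F →* Fˣ).ker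
    rw [MonoidHom.mem_ker]
    apply Units.ext
    rw [Matrix.GeneralLinearGroup.val_det_apply, hgv, hG]; rfl
  · have h : x * g = g * y := Units.ext (by rw [Units.val_mul, Units.val_mul, hgv]; exact hXG)
    have : g⁻¹ * x * g = y := by rw [mul_assoc, h, ← mul_assoc, inv_mul_cancel, one_mul]
    rw [this]; exact hy

theorem mem_specialLinear_iff (x : GL (Fin 2) F) :
    x ∈ Cfsg.Geo.specialLinear (Fin 2) F ↔ (x : Matrix (Fin 2) (Fin 2) F).det = 1 := by
  show x ∈ (Matrix.GeneralLinearGroup.det : GL (Fin 2) F →* Fˣ).ker ↔ _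
  rw [MonoidHom.mem_ker, Units.ext_iff, Matrix.GeneralLinearGroup.val_det_apply]
  rfl

theorem result {F : Type*} [Field F] [Fintype F] {p : ℕ} [Fact p.Prime] [CharP F p] (hF : Fintype.card F = p) (hp : 5 ≤ p)
    (R : Subgroup (GL (Fin 2) F)) (hR : Nonempty (↥R ≃* QuaternionGroup 2))
    (r : ℕ) [Fact r.Prime]
    (hΩ : r ∣ (Cfsg.Geo.subgroupNormalizer R).relIndex (Cfsg.Geo.specialLinear (Fin 2) F)) :
    (∀ x ∈ Cfsg.Geo.specialLinear (Fin 2) F, (∃ z : F, ((x ^ r : GL (Fin 2) F) : Matrix (Fin 2) (Fin 2) F) = z • (1 : Matrix (Fin 2) (Fin 2) F)) →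
      (∀ z : F, (x : Matrix (Fin 2) (Fin 2) F) ≠ z • (1 : Matrix (Fin 2) (Fin 2) F)) →
      ∃ g ∈ Cfsg.Geo.specialLinear (Fin 2) F, g⁻¹ * x * g ∈ Cfsg.Geo.subgroupNormalizer R) ↔ (r = 2 ∨ r = 3) := by
  classical
  have hpp : p.Prime := Fact.out
  have hrp : r.Prime := Fact.out
  have h2 : (2 : F) ≠ 0 := by
    intro h
    have h' : ((2 : ℕ) : F) = 0 := by exact_mod_cast h
    rw [CharP.cast_eq_zero_iff F p] at h'
    have := Nat.le_of_dvd (by norm_num) h'
    omega
  have h3 : (3 : F) ≠ 0 := by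
    intro h
    have h' : ((3 : ℕ) : F) = 0 := by exact_mod_cast h
    rw [CharP.cast_eq_zero_iff F p] at h'
    have := Nat.le_of_dvd (by norm_num) h'
    omega
  have h4 : (4 : F) ≠ 0 := by
    have : (4 : F) = 2 * 2 := by norm_num
    rw [this]; exact mul_ne_zero h2 h2
  have hodd : Fintype.card F % 2 = 1 := by
    rw [hF]
    rcases hpp.eq_two_or_odd with h | h
    · omega
    · exact h
  obtain ⟨φ⟩ := hR
  have : Finite R := inferInstance
  have hRcard : Nat.card R = 8 := by
    rw [Nat.card_congr φ.toEquiv, Nat.card_eq_fintype_card, QuaternionGroup.card]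
  obtain ⟨e4, e2, ej2, eji⟩ := q8_rel
  -- the generators
  obtain ⟨I, hI⟩ : ∃ I : GL (Fin 2) F, I = ((φ.symm (QuaternionGroup.a 1) : R) : GL (Fin 2) F) := ⟨_, rfl⟩
  obtain ⟨J, hJ⟩ : ∃ J : GL (Fin 2) F, J = ((φ.symm (QuaternionGroup.xa 0) : R) : GL (Fin 2) F) := ⟨_, rfl⟩
  have hIR : I ∈ R := by rw [hI]; exact Subtype.property _
  have hJR : J ∈ R := by rw [hJ]; exact Subtype.property _
  have hI4 : I ^ 4 = 1 := by
    rw [hI, ← Subgroup.coe_pow, ← map_pow, e4, map_one, Subgroup.coe_one]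
  have hI2 : I ^ 2 ≠ 1 := by
    intro h
    apply e2
    rw [hI, ← Subgroup.coe_pow, ← map_pow] at h
    have h' : φ.symm (QuaternionGroup.a 1 ^ 2) = 1 := Subtype.ext (by rw [h, Subgroup.coe_one])
    have := congrArg φ h'
    rwa [MulEquiv.apply_symm_apply, map_one] at this
  have hJ2 : J ^ 2 = I ^ 2 := by
    rw [hI, hJ, ← Subgroup.coe_pow, ← Subgroup.coe_pow, ← map_pow, ← map_pow, ej2]
  have hJI : J * I * J⁻¹ = I⁻¹ := by
    rw [hI, hJ, ← Subgroup.coe_mul, ← Subgroup.coe_inv, ← Subgroup.coe_mul, ← Subgroup.coe_inv,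
      ← map_mul, ← map_inv, ← map_mul, ← map_inv, eji]
  have hgen : ∀ h ∈ R, ∃ k : ℕ, h = I ^ k ∨ h = J * I ^ k := by
    intro h hh
    obtain ⟨k, hk | hk⟩ := q8_elems (φ ⟨h, hh⟩)
    · refine ⟨k, Or.inl ?_⟩
      have := congrArg φ.symm hk
      rw [MulEquiv.symm_apply_apply, map_pow] at this
      have := congrArg Subtype.val this
      rw [Subgroup.coe_pow] at this
      rw [hI]; exact this
    · refine ⟨k, Or.inr ?_⟩
      have := congrArg φ.symm hk
      rw [MulEquiv.symm_apply_apply, map_mul, map_pow] at this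
      have := congrArg Subtype.val this
      rw [Subgroup.coe_mul, Subgroup.coe_pow] at this
      rw [hI, hJ]; exact this
  obtain ⟨hII, hJJ, hJIm⟩ := quat_rel I J hI4 hI2 hJ2 hJI
  -- notation for the matrices
  obtain ⟨Im, hIm⟩ : ∃ Im : Matrix (Fin 2) (Fin 2) F, Im = (I : Matrix (Fin 2) (Fin 2) F) := ⟨_, rfl⟩
  obtain ⟨Jm, hJm⟩ : ∃ Jm : Matrix (Fin 2) (Fin 2) F, Jm = (J : Matrix (Fin 2) (Fin 2) F) := ⟨_, rfl⟩
  rw [← hIm] at hII hJIm
  rw [← hJm] at hJJ hJIm
  have hIns := nonscalar_of_anticomm h2 Im Jm hII hJJ hJIm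
  have hJns := nonscalar_of_anticomm h2 Jm Im hJJ hII (by rw [hJIm, neg_neg])
  have hKK : (Im * Jm) * (Im * Jm) = -1 := q1 Im Jm hII hJJ hJIm
  have hKns := nonscalar_of_anticomm h2 (Im * Jm) Im hKK hII (by
    rw [q_iji Im Jm hII hJIm, ← Matrix.mul_assoc, hII]; simp)
  obtain ⟨htrI, hdetI⟩ := tr_det_of_sq Im hII hIns
  obtain ⟨htrJ, hdetJ⟩ := tr_det_of_sq Jm hJJ hJns
  obtain ⟨htrK, hdetK⟩ := tr_det_of_sq (Im * Jm) hKK hKns
  have hncomm : Im * Jm ≠ Jm * Im := by
    intro h
    rw [hJIm] at h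
    have h0 : (2 : F) • (Im * Jm) = 0 := by
      rw [two_smul]; nth_rewrite 1 [h]; abel
    rcases smul_eq_zero.mp h0 with h' | h'
    · exact h2 h'
    · apply hKns 0
      rw [h', zero_smul]
  constructor
  · -- every element of order r fixes a point → r ∈ {2, 3}
    intro hall
    by_contra hr
    push Not at hr
    have hr5 : 5 ≤ r := by
      have := hrp.two_le
      rcases Nat.lt_or_ge r 5 with h | h
      · interval_cases r
        · exact absurd rfl hr.1
        · exact absurd rfl hr.2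
        · exact absurd hrp (by norm_num)
      · exact h
    have hdvd : r ∣ Nat.card (Cfsg.Geo.specialLinear (Fin 2) F) :=
      dvd_trans hΩ (Subgroup.relIndex_dvd_card _ _)
    obtain ⟨x, hx⟩ := exists_prime_orderOf_dvd_card' r hdvd
    have hxo : orderOf (x : GL (Fin 2) F) = r := by rw [Subgroup.orderOf_coe]; exact hx
    have hxr : (x : GL (Fin 2) F) ^ r = 1 := by rw [← hxo]; exact pow_orderOf_eq_one _
    have hdetx : ((x : GL (Fin 2) F) : Matrix (Fin 2) (Fin 2) F).det = 1 :=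
      (mem_specialLinear_iff _).mp x.2
    have hns : ∀ z : F, ((x : GL (Fin 2) F) : Matrix (Fin 2) (Fin 2) F) ≠ z • (1 : Matrix (Fin 2) (Fin 2) F) := by
      intro z hz
      have hzz : z * z = 1 := by
        have := hdetx
        rw [hz, Matrix.det_smul, Matrix.det_one, Fintype.card_fin] at this
        linear_combination this
      have hx2 : (x : GL (Fin 2) F) ^ 2 = 1 := by
        apply Units.ext
        rw [sq, Units.val_mul, hz, Units.val_one]
        rw [Matrix.smul_mul, Matrix.one_mul, smul_smul, hzz, one_smul]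
      have : r ∣ 2 := by rw [← hxo]; exact orderOf_dvd_of_pow_eq_one hx2
      have := Nat.le_of_dvd (by norm_num) this
      omega
    obtain ⟨g, hg, hmem⟩ := hall x x.2 ⟨1, by rw [hxr, Units.val_one, one_smul]⟩ hns
    obtain ⟨y, hy⟩ : ∃ y : GL (Fin 2) F, y = g⁻¹ * x * g := ⟨_, rfl⟩
    rw [← hy] at hmem
    have hyo : orderOf y = r := by
      rw [hy, ← hxo]
      have : g⁻¹ * (x : GL (Fin 2) F) * g = MulAut.conj g⁻¹ (x : GL (Fin 2) F) := by
        rw [MulAut.conj_apply, inv_inv]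
      rw [this, MulEquiv.orderOf_eq]
    -- a nontrivial central element of R
    have hcR : I ^ 2 ∈ R := R.pow_mem hIR 2
    have hcy : y * I ^ 2 = I ^ 2 * y := by
      apply Units.ext
      rw [Units.val_mul, Units.val_mul, sq, Units.val_mul, ← hIm, hII]
      simp
    have hcent := centralizes_of_prime_order R hRcard y hmem r hr5 hyo (I ^ 2) hcR hI2 hcy
    have hys : ∃ z : F, (y : Matrix (Fin 2) (Fin 2) F) = z • (1 : Matrix (Fin 2) (Fin 2) F) := by
      by_contra hcon
      push Not at hcon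
      apply hncomm
      apply comm_of_comm_nonscalar Im Jm (y : Matrix (Fin 2) (Fin 2) F) hcon
      · rw [hIm, ← Units.val_mul, ← Units.val_mul, hcent I hIR]
      · rw [hJm, ← Units.val_mul, ← Units.val_mul, hcent J hJR]
    obtain ⟨z, hz⟩ := hys
    apply hns z
    have hxy : (x : GL (Fin 2) F) = g * y * g⁻¹ := by rw [hy]; group
    rw [hxy, Units.val_mul, Units.val_mul, hz, Matrix.mul_smul, Matrix.mul_one, Matrix.smul_mul,
      ← Units.val_mul, mul_inv_cancel, Units.val_one]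
  · rintro (rfl | rfl)
    · -- r = 2
      intro x hx ⟨z, hz⟩ hns
      have hdetx := (mem_specialLinear_iff x).mp hx
      have hxx : (x : Matrix (Fin 2) (Fin 2) F) * (x : Matrix (Fin 2) (Fin 2) F) = z • 1 := by
        rw [← hz, sq, Units.val_mul]
      have htr : (x : Matrix (Fin 2) (Fin 2) F).trace = 0 := by
        by_contra ht
        have h := ch2 (x : Matrix (Fin 2) (Fin 2) F)
        rw [hxx, hdetx] at h
        apply hns ((z + 1) / (x : Matrix (Fin 2) (Fin 2) F).trace)
        have h' : (x : Matrix (Fin 2) (Fin 2) F).trace • (x : Matrix (Fin 2) (Fin 2) F)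
            = (z + 1) • (1 : Matrix (Fin 2) (Fin 2) F) := by
          rw [add_smul, h]; abel
        calc (x : Matrix (Fin 2) (Fin 2) F)
            = ((x : Matrix (Fin 2) (Fin 2) F).trace)⁻¹ • ((x : Matrix (Fin 2) (Fin 2) F).trace • (x : Matrix (Fin 2) (Fin 2) F)) := by
              rw [smul_smul, inv_mul_cancel₀ ht, one_smul]
          _ = ((z + 1) / (x : Matrix (Fin 2) (Fin 2) F).trace) • (1 : Matrix (Fin 2) (Fin 2) F) := by
              rw [h', smul_smul]; congr 1; field_simp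
      apply exists_conj hodd h2 _ x I (Subgroup.le_normalizer hIR)
      · rw [htr, ← hIm, htrI]
      · exact hdetx
      · rw [← hIm]; exact hdetI
      · rw [htr]; intro h; apply h4; linear_combination -h
    · -- r = 3
      intro x hx ⟨z, hz⟩ hns
      have hdetx := (mem_specialLinear_iff x).mp hx
      obtain ⟨X, hX⟩ : ∃ X : Matrix (Fin 2) (Fin 2) F, X = (x : Matrix (Fin 2) (Fin 2) F) := ⟨_, rfl⟩
      rw [← hX] at hdetx hns
      have hxxx : X * X * X = z • 1 := by
        rw [← hz, hX, pow_succ, pow_succ, pow_one, Units.val_mul, Units.val_mul]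
      obtain ⟨t, ht⟩ : ∃ t : F, t = X.trace := ⟨_, rfl⟩
      have hch := ch2 X
      rw [hdetx, ← ht, one_smul] at hch
      have hcube : (t ^ 2 - 1) • X = (z + t) • (1 : Matrix (Fin 2) (Fin 2) F) := by
        have : X * X * X = (t ^ 2 - 1) • X - t • (1 : Matrix (Fin 2) (Fin 2) F) := by
          rw [hch, Matrix.sub_mul, Matrix.smul_mul, hch, Matrix.one_mul, smul_sub, smul_smul, sub_smul, one_smul, sq]
          abel
        rw [hxxx] at this
        rw [add_smul, this]; abel
      have ht2 : t ^ 2 = 1 := by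
        by_contra hne
        have hne' : t ^ 2 - 1 ≠ 0 := fun h => hne (sub_eq_zero.mp h)
        apply hns ((z + t) / (t ^ 2 - 1))
        calc X = (t ^ 2 - 1)⁻¹ • ((t ^ 2 - 1) • X) := by
              rw [smul_smul, inv_mul_cancel₀ hne', one_smul]
          _ = ((z + t) / (t ^ 2 - 1)) • (1 : Matrix (Fin 2) (Fin 2) F) := by
              rw [hcube, smul_smul]; congr 1; field_simp
      -- the Hurwitz unit
      obtain ⟨W, hW⟩ : ∃ W : Matrix (Fin 2) (Fin 2) F, W = 1 + Im + Jm + Im * Jm := ⟨_, rfl⟩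
      obtain ⟨Y, hY⟩ : ∃ Y : Matrix (Fin 2) (Fin 2) F, Y = (t * 2⁻¹) • W := ⟨_, rfl⟩
      have hWI : W * Im = Jm * W := by rw [hW]; exact q2 Im Jm hII hJJ hJIm
      have hWJ : W * Jm = (Im * Jm) * W := by rw [hW]; exact q3 Im Jm hII hJJ hJIm
      have hWW : W * W = W + W - (1 + 1 + 1 + 1) := by rw [hW]; exact q4 Im Jm hII hJJ hJIm
      have hYI : Y * Im = Jm * Y := by rw [hY, Matrix.smul_mul, hWI, Matrix.mul_smul]
      have hYJ : Y * Jm = (Im * Jm) * Y := by rw [hY, Matrix.smul_mul, hWJ, Matrix.mul_smul]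
      have htrW : W.trace = 2 := by
        rw [hW, Matrix.trace_add, Matrix.trace_add, Matrix.trace_add, htrI, htrJ, htrK, Matrix.trace_one]
        simp
      have htrY : Y.trace = t := by
        rw [hY, Matrix.trace_smul, htrW, smul_eq_mul, mul_assoc, inv_mul_cancel₀ h2, mul_one]
      have hYY : Y * Y = t • Y - (1 : Matrix (Fin 2) (Fin 2) F) := by
        rw [hY, Matrix.smul_mul, Matrix.mul_smul, hWW, smul_smul, smul_smul]
        have e1 : (1 : Matrix (Fin 2) (Fin 2) F) + 1 + 1 + 1 = (4 : F) • (1 : Matrix (Fin 2) (Fin 2) F) := by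
          rw [show (4 : F) = 1 + 1 + 1 + 1 by norm_num, add_smul, add_smul, add_smul, one_smul]
        have e2 : W + W = (2 : F) • W := by rw [two_smul]
        rw [e1, e2, smul_sub, smul_smul, smul_smul]
        have c1 : t * 2⁻¹ * (t * 2⁻¹) * 2 = t * (t * 2⁻¹) := by field_simp
        have c2 : t * 2⁻¹ * (t * 2⁻¹) * 4 = 1 := by
          field_simp; rw [ht2]; norm_num
        rw [c1, c2, one_smul]
      have hdetY : Y.det = 1 := by
        have h := ch2 Y
        rw [hYY, htrY] at h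
        have h' : (1 : F) • (1 : Matrix (Fin 2) (Fin 2) F) = Y.det • 1 := by
          rw [one_smul]
          exact sub_right_injective h
        exact (smul_one_inj h').symm
      let y : GL (Fin 2) F := Matrix.GeneralLinearGroup.mkOfDetNeZero Y (by rw [hdetY]; exact one_ne_zero)
      have hyv : (y : Matrix (Fin 2) (Fin 2) F) = Y := rfl
      have hyN : y ∈ Cfsg.Geo.subgroupNormalizer R := by
        apply mem_normalizer_of R I J y hgen
        · have : y * I = J * y := Units.ext (by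
            rw [Units.val_mul, Units.val_mul, hyv, ← hIm, ← hJm]; exact hYI)
          rw [this, mul_assoc, mul_inv_cancel, mul_one]; exact hJR
        · have : y * J = (I * J) * y := Units.ext (by
            rw [Units.val_mul, Units.val_mul, Units.val_mul, hyv, ← hIm, ← hJm]; exact hYJ)
          rw [this, mul_assoc, mul_inv_cancel, mul_one]; exact R.mul_mem hIR hJR
      apply exists_conj hodd h2 _ x y hyN
      · rw [← hX, ← ht, hyv, htrY]
      · rw [← hX]; exact hdetx
      · rw [hyv]; exact hdetY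
      · rw [← hX, ← ht, ht2]; intro h; apply h3; linear_combination -h

end Cfsg.Agent.S5997
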