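import Cfsg.Statements.S5998
import Mathlib

set_option autoImplicit false
open scoped MatrixGroups Matrix
open Cfsg

namespace Cfsg.Agent.S5998

variable {F : Type*} [Field F]

/-- projection onto the `μ`-eigenspace of a matrix with cube one -/
def proj (μ : F) (X : Matrix (Fin 3) (Fin 3) F) : Matrix (Fin 3) (Fin 3) F :=
  (3 : F)⁻¹ • (1 + μ ^ 2 • X + μ • (X * X))

theorem mul_proj (μ : F) (hμ : μ ^ 3 = 1) (X : Matrix (Fin 3) (Fin 3) F) (hX : X * X * X = 1) :
    X * proj μ X = μ • proj μ X := by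
  unfold proj
  have h1 : X * (X * X) = 1 := by rw [← Matrix.mul_assoc]; exact hX
  rw [Matrix.mul_smul, Matrix.mul_add, Matrix.mul_add, Matrix.mul_one, Matrix.mul_smul, Matrix.mul_smul, h1]
  rw [smul_comm μ]
  congr 1
  rw [smul_add, smul_add, smul_smul, smul_smul]
  have : μ * μ ^ 2 = 1 := by rw [← hμ]; ring
  rw [this, one_smul, show μ * μ = μ ^ 2 by ring]
  abel

theorem proj_sum (h3 : (3 : F) ≠ 0) (ω : F) (hω : ω ^ 2 + ω + 1 = 0) (X : Matrix (Fin 3) (Fin 3) F) :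
    proj 1 X + proj ω X + proj (ω ^ 2) X = 1 := by
  unfold proj
  rw [← smul_add, ← smul_add]
  have hω3 : ω ^ 3 = 1 := by linear_combination (ω - 1) * hω
  have e : (1 : Matrix (Fin 3) (Fin 3) F) + (1:F) ^ 2 • X + (1:F) • (X * X) + (1 + ω ^ 2 • X + ω • (X * X)) +
      (1 + (ω ^ 2) ^ 2 • X + ω ^ 2 • (X * X)) = (3 : F) • (1 : Matrix (Fin 3) (Fin 3) F) := by
    have e1 : (ω ^ 2) ^ 2 = ω := by linear_combination ω * hω3
    rw [e1]
    have e2 : (1:F) ^ 2 • X + ω ^ 2 • X + ω • X = 0 := by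
      rw [← add_smul, ← add_smul]
      have : (1:F) ^ 2 + ω ^ 2 + ω = 0 := by linear_combination hω
      rw [this, zero_smul]
    have e3 : (1:F) • (X * X) + ω • (X * X) + ω ^ 2 • (X * X) = 0 := by
      rw [← add_smul, ← add_smul]
      have : (1:F) + ω + ω ^ 2 = 0 := by linear_combination hω
      rw [this, zero_smul]
    have e4 : (3 : F) • (1 : Matrix (Fin 3) (Fin 3) F) = 1 + 1 + 1 := by
      rw [show (3 : F) = 1 + 1 + 1 by norm_num, add_smul, add_smul, one_smul]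
    rw [e4]
    calc (1 : Matrix (Fin 3) (Fin 3) F) + (1:F) ^ 2 • X + (1:F) • (X * X) + (1 + ω ^ 2 • X + ω • (X * X)) +
      (1 + ω • X + ω ^ 2 • (X * X))
        = (1 + 1 + 1) + ((1:F) ^ 2 • X + ω ^ 2 • X + ω • X) + ((1:F) • (X * X) + ω • (X * X) + ω ^ 2 • (X * X)) := by abel
      _ = 1 + 1 + 1 := by rw [e2, e3, add_zero, add_zero]
  rw [e, smul_smul, inv_mul_cancel₀ h3, one_smul]

theorem proj_comm (μ : F) (X Y : Matrix (Fin 3) (Fin 3) F) (h : Y * X = X * Y) :
    Y * proj μ X = proj μ X * Y := by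
  unfold proj
  rw [Matrix.mul_smul, Matrix.smul_mul, Matrix.mul_add, Matrix.mul_add, Matrix.add_mul, Matrix.add_mul,
    Matrix.mul_one, Matrix.one_mul, Matrix.mul_smul, Matrix.mul_smul, Matrix.smul_mul, Matrix.smul_mul, h]
  congr 3
  rw [← Matrix.mul_assoc, h, Matrix.mul_assoc, h, Matrix.mul_assoc]

theorem cube_root_cases (ω : F) (hω : ω ^ 2 + ω + 1 = 0) (u : F) (hu : u ^ 3 = 1) :
    u = 1 ∨ u = ω ∨ u = ω ^ 2 := by
  have h : (u - 1) * ((u - ω) * (u - ω ^ 2)) = 0 := by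
    linear_combination hu + (-u ^ 2 + u + (ω - 1) * (u - 1)) * hω
  rcases mul_eq_zero.mp h with h | h
  · exact Or.inl (sub_eq_zero.mp h)
  · rcases mul_eq_zero.mp h with h | h
    · exact Or.inr (Or.inl (sub_eq_zero.mp h))
    · exact Or.inr (Or.inr (sub_eq_zero.mp h))

/-- eigenvector decomposition for a matrix of cube one -/
theorem exists_eigen_component (h3 : (3 : F) ≠ 0) (ω : F) (hω : ω ^ 2 + ω + 1 = 0)
    (X : Matrix (Fin 3) (Fin 3) F) (hX : X * X * X = 1) (w : Fin 3 → F) (hw : w ≠ 0) :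
    ∃ μ : F, (μ = 1 ∨ μ = ω ∨ μ = ω ^ 2) ∧ proj μ X *ᵥ w ≠ 0 := by
  by_contra hcon
  push Not at hcon
  apply hw
  have hs := proj_sum h3 ω hω X
  have : w = (proj 1 X + proj ω X + proj (ω ^ 2) X) *ᵥ w := by rw [hs, Matrix.one_mulVec]
  rw [this, Matrix.add_mulVec, Matrix.add_mulVec, hcon 1 (Or.inl rfl), hcon ω (Or.inr (Or.inl rfl)),
    hcon (ω ^ 2) (Or.inr (Or.inr rfl))]
  simp

theorem exists_common_eigenvector (h3 : (3 : F) ≠ 0) (ω₀ : F) (hω₀ : ω₀ ^ 2 + ω₀ + 1 = 0)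
    (am zm : Matrix (Fin 3) (Fin 3) F) (ha3 : am * am * am = 1) (hz3 : zm * zm * zm = 1) (hz1 : zm ≠ 1)
    (hza : zm * am = am * zm) :
    ∃ (lam μ : F) (v : Fin 3 → F), lam ^ 2 + lam + 1 = 0 ∧ μ ^ 3 = 1 ∧ v ≠ 0 ∧
      zm *ᵥ v = lam • v ∧ am *ᵥ v = μ • v := by
  have hω3 : ω₀ ^ 3 = 1 := by linear_combination (ω₀ - 1) * hω₀
  -- a vector not fixed by zm
  obtain ⟨u, hu⟩ : ∃ u : Fin 3 → F, zm *ᵥ u ≠ u := by
    by_contra hcon
    push Not at hcon
    apply hz1
    ext i j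
    have := congr_fun (hcon (Pi.single j 1)) i
    rw [Matrix.mulVec_single_one] at this
    rw [Matrix.one_apply]
    simpa [Pi.single_apply, eq_comm] using this
  -- a component with eigenvalue ≠ 1
  obtain ⟨lam, hlam, w, hw0, hzw⟩ : ∃ lam : F, lam ^ 2 + lam + 1 = 0 ∧ ∃ w : Fin 3 → F, w ≠ 0 ∧
      zm *ᵥ w = lam • w := by
    by_cases h1 : proj ω₀ zm *ᵥ u = 0
    · by_cases h2 : proj (ω₀ ^ 2) zm *ᵥ u = 0
      · exfalso
        apply hu
        have hs := proj_sum h3 ω₀ hω₀ zm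
        have e : u = proj 1 zm *ᵥ u := by
          conv_lhs => rw [← Matrix.one_mulVec u, ← hs, Matrix.add_mulVec, Matrix.add_mulVec, h1, h2]
          simp
        rw [e, Matrix.mulVec_mulVec, mul_proj 1 (by norm_num) zm hz3, one_smul]
      · refine ⟨ω₀ ^ 2, by linear_combination (ω₀ ^ 2 - ω₀ + 1) * hω₀, _, h2, ?_⟩
        rw [Matrix.mulVec_mulVec, mul_proj _ (by rw [← pow_mul]; linear_combination (ω₀ ^ 3 + 1) * hω3) zm hz3,
          Matrix.smul_mulVec]
    · refine ⟨ω₀, hω₀, _, h1, ?_⟩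
      rw [Matrix.mulVec_mulVec, mul_proj _ hω3 zm hz3, Matrix.smul_mulVec]
  have hlam3 : lam ^ 3 = 1 := by linear_combination (lam - 1) * hlam
  obtain ⟨μ, hμ, hv⟩ := exists_eigen_component h3 lam hlam am ha3 w hw0
  have hμ3 : μ ^ 3 = 1 := by
    rcases hμ with rfl | rfl | rfl
    · norm_num
    · exact hlam3
    · rw [← pow_mul]; linear_combination (lam ^ 3 + 1) * hlam3
  refine ⟨lam, μ, proj μ am *ᵥ w, hlam, hμ3, hv, ?_, ?_⟩
  · rw [Matrix.mulVec_mulVec, proj_comm μ am zm hza, ← Matrix.mulVec_mulVec, hzw, Matrix.mulVec_smul]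
  · rw [Matrix.mulVec_mulVec, mul_proj μ hμ3 am ha3, Matrix.smul_mulVec]

/-- the standard diagonal generator -/
def A₀ (ω : F) : Matrix (Fin 3) (Fin 3) F := Matrix.diagonal ![1, ω, ω ^ 2]

/-- the standard cyclic shift -/
def B₀ (F : Type*) [Field F] : Matrix (Fin 3) (Fin 3) F := !![0, 0, 1; 1, 0, 0; 0, 1, 0]

theorem mulVec_ne_zero_of_cube (bm : Matrix (Fin 3) (Fin 3) F) (hb3 : bm * bm * bm = 1)
    (w : Fin 3 → F) (hw : w ≠ 0) : bm *ᵥ w ≠ 0 := by
  intro h
  apply hw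
  have : w = (bm * bm * bm) *ᵥ w := by rw [hb3, Matrix.one_mulVec]
  rw [this, ← Matrix.mulVec_mulVec, h, Matrix.mulVec_zero]

/-- the shifted vector is again a common eigenvector -/
theorem shift_eigen (am bm zm : Matrix (Fin 3) (Fin 3) F)
    (hzb : zm * bm = bm * zm) (hab : am * bm = zm * bm * am)
    (lam ν : F) (w : Fin 3 → F) (hz : zm *ᵥ w = lam • w) (ha : am *ᵥ w = ν • w) :
    zm *ᵥ (bm *ᵥ w) = lam • (bm *ᵥ w) ∧ am *ᵥ (bm *ᵥ w) = (ν * lam) • (bm *ᵥ w) := by
  constructor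
  · rw [Matrix.mulVec_mulVec, hzb, ← Matrix.mulVec_mulVec, hz, Matrix.mulVec_smul]
  · calc am *ᵥ (bm *ᵥ w) = (am * bm) *ᵥ w := by rw [Matrix.mulVec_mulVec]
      _ = (zm * bm * am) *ᵥ w := by rw [hab]
      _ = (zm * bm) *ᵥ (am *ᵥ w) := by rw [Matrix.mulVec_mulVec]
      _ = ν • ((zm * bm) *ᵥ w) := by rw [ha, Matrix.mulVec_smul]
      _ = ν • ((bm * zm) *ᵥ w) := by rw [hzb]
      _ = ν • (bm *ᵥ (zm *ᵥ w)) := by rw [Matrix.mulVec_mulVec]
      _ = ν • (lam • (bm *ᵥ w)) := by rw [hz, Matrix.mulVec_smul]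
      _ = (ν * lam) • (bm *ᵥ w) := by rw [smul_smul]

theorem exists_normalized_eigenvector (h3 : (3 : F) ≠ 0) (ω₀ : F) (hω₀ : ω₀ ^ 2 + ω₀ + 1 = 0)
    (am bm zm : Matrix (Fin 3) (Fin 3) F) (ha3 : am * am * am = 1) (hb3 : bm * bm * bm = 1)
    (hz3 : zm * zm * zm = 1) (hz1 : zm ≠ 1)
    (hza : zm * am = am * zm) (hzb : zm * bm = bm * zm) (hab : am * bm = zm * bm * am) :
    ∃ (lam : F) (v : Fin 3 → F), lam ^ 2 + lam + 1 = 0 ∧ v ≠ 0 ∧ zm *ᵥ v = lam • v ∧ am *ᵥ v = v := by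
  obtain ⟨lam, μ, v, hlam, hμ, hv0, hzv, hav⟩ :=
    exists_common_eigenvector h3 ω₀ hω₀ am zm ha3 hz3 hz1 hza
  have hlam3 : lam ^ 3 = 1 := by linear_combination (lam - 1) * hlam
  obtain ⟨hz1', ha1'⟩ := shift_eigen am bm zm hzb hab lam μ v hzv hav
  obtain ⟨hz2', ha2'⟩ := shift_eigen am bm zm hzb hab lam (μ * lam) (bm *ᵥ v) hz1' ha1'
  rcases cube_root_cases lam hlam μ hμ with h | h | h
  · refine ⟨lam, v, hlam, hv0, hzv, ?_⟩
    rw [hav, h, one_smul]
  · refine ⟨lam, bm *ᵥ (bm *ᵥ v), hlam, mulVec_ne_zero_of_cube bm hb3 _ (mulVec_ne_zero_of_cube bm hb3 _ hv0),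
      hz2', ?_⟩
    rw [ha2', h, show lam * lam * lam = 1 by linear_combination hlam3, one_smul]
  · refine ⟨lam, bm *ᵥ v, hlam, mulVec_ne_zero_of_cube bm hb3 _ hv0, hz1', ?_⟩
    rw [ha1', h, show lam ^ 2 * lam = 1 by linear_combination hlam3, one_smul]

theorem std_form (h3 : (3 : F) ≠ 0) (ω₀ : F) (hω₀ : ω₀ ^ 2 + ω₀ + 1 = 0)
    (am bm zm : Matrix (Fin 3) (Fin 3) F) (ha3 : am * am * am = 1) (hb3 : bm * bm * bm = 1)
    (hz3 : zm * zm * zm = 1) (hz1 : zm ≠ 1)
    (hza : zm * am = am * zm) (hzb : zm * bm = bm * zm) (hab : am * bm = zm * bm * am) :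
    ∃ (ω : F) (P : Matrix (Fin 3) (Fin 3) F), ω ^ 2 + ω + 1 = 0 ∧ IsUnit P.det ∧ zm = ω • 1 ∧
      am * P = P * A₀ ω ∧ bm * P = P * B₀ F := by
  obtain ⟨lam, v, hlam, hv0, hzv, hav⟩ :=
    exists_normalized_eigenvector h3 ω₀ hω₀ am bm zm ha3 hb3 hz3 hz1 hza hzb hab
  have hlam3 : lam ^ 3 = 1 := by linear_combination (lam - 1) * hlam
  have hlam1 : lam ≠ 1 := by
    intro h; rw [h] at hlam; apply h3; linear_combination hlam
  obtain ⟨hz1', ha1'⟩ := shift_eigen am bm zm hzb hab lam 1 v hzv (by rw [hav, one_smul])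
  obtain ⟨hz2', ha2'⟩ := shift_eigen am bm zm hzb hab lam (1 * lam) (bm *ᵥ v) hz1' ha1'
  obtain ⟨v₁, hv₁⟩ : ∃ v₁, v₁ = bm *ᵥ v := ⟨_, rfl⟩
  obtain ⟨v₂, hv₂⟩ : ∃ v₂, v₂ = bm *ᵥ v₁ := ⟨_, rfl⟩
  rw [← hv₁] at hz1' ha1' hz2' ha2'
  rw [← hv₂] at hz2' ha2'
  rw [one_mul] at ha1' ha2'
  have hv₁0 : v₁ ≠ 0 := by rw [hv₁]; exact mulVec_ne_zero_of_cube bm hb3 _ hv0
  have hv₂0 : v₂ ≠ 0 := by rw [hv₂]; exact mulVec_ne_zero_of_cube bm hb3 _ hv₁0
  have hbv₂ : bm *ᵥ v₂ = v := by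
    rw [hv₂, hv₁, Matrix.mulVec_mulVec, Matrix.mulVec_mulVec, hb3, Matrix.one_mulVec]
  -- the matrix of the basis
  obtain ⟨P, hP⟩ : ∃ P : Matrix (Fin 3) (Fin 3) F, P = Matrix.of (fun i j => (![v, v₁, v₂] j) i) := ⟨_, rfl⟩
  have hcol : ∀ j, P.col j = ![v, v₁, v₂] j := by
    intro j; ext i; rw [hP]; rfl
  have hmulcol : ∀ (X : Matrix (Fin 3) (Fin 3) F) (j : Fin 3), (X * P).col j = X *ᵥ (P.col j) := by
    intro X j; ext i
    simp [Matrix.mul_apply, Matrix.mulVec, dotProduct, Matrix.col]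
  -- independence
  have h01 : (1 : F) ≠ lam := fun h => hlam1 h.symm
  have h02 : (1 : F) ≠ lam * lam := by
    intro h
    apply hlam1
    have h' : lam * lam * lam = 1 := by linear_combination hlam3
    rw [← h, one_mul] at h'
    exact h'
  have h12 : lam ≠ lam * lam := by
    intro h
    have h0 : lam * (lam - 1) = 0 := by linear_combination -h
    rcases mul_eq_zero.mp h0 with h' | h'
    · rw [h'] at hlam; simp at hlam
    · exact hlam1 (sub_eq_zero.mp h')
  have hli : LinearIndependent F P.col := by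
    have := Module.End.eigenvectors_linearIndependent' (Matrix.toLin' am) ![1, lam, lam * lam]
      (by
        intro i j hij
        fin_cases i <;> fin_cases j <;> first | rfl | (exfalso; revert hij; simp [h01, h02, h12, h01.symm, h02.symm, h12.symm])
        )
      ![v, v₁, v₂]
      (by
        intro j
        fin_cases j
        · refine ⟨?_, hv0⟩
          rw [Module.End.mem_eigenspace_iff]
          simpa using hav
        · refine ⟨?_, hv₁0⟩
          rw [Module.End.mem_eigenspace_iff]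
          simpa using ha1'
        · refine ⟨?_, hv₂0⟩
          rw [Module.End.mem_eigenspace_iff]
          simpa using ha2')
    have e : P.col = ![v, v₁, v₂] := funext hcol
    rw [e]; exact this
  have hPu : IsUnit P := Matrix.linearIndependent_cols_iff_isUnit.mp hli
  have hPdet : IsUnit P.det := (Matrix.isUnit_iff_isUnit_det P).mp hPu
  have colext : ∀ X Y : Matrix (Fin 3) (Fin 3) F, (∀ j, X.col j = Y.col j) → X = Y := by
    intro X Y h; ext i j; exact congr_fun (h j) i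
  have haP : am * P = P * A₀ lam := by
    apply colext
    intro j
    rw [hmulcol, hcol]
    ext i
    fin_cases j
    · simp [hav, A₀, Matrix.mul_apply, Fin.sum_univ_three, Matrix.col, hP, Matrix.diagonal]
    · simp [ha1', A₀, Matrix.mul_apply, Fin.sum_univ_three, Matrix.col, hP, Matrix.diagonal, mul_comm]
    · simp [ha2', A₀, Matrix.mul_apply, Fin.sum_univ_three, Matrix.col, hP, Matrix.diagonal, mul_comm, sq]
  have hbP : bm * P = P * B₀ F := by
    apply colext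
    intro j
    rw [hmulcol, hcol]
    ext i
    fin_cases j
    · simp [← hv₁, B₀, Matrix.mul_apply, Fin.sum_univ_three, Matrix.col, hP]
    · simp [← hv₂, B₀, Matrix.mul_apply, Fin.sum_univ_three, Matrix.col, hP]
    · simp [hbv₂, B₀, Matrix.mul_apply, Fin.sum_univ_three, Matrix.col, hP]
  have hzP : zm * P = lam • P := by
    apply colext
    intro j
    rw [hmulcol, hcol]
    ext i
    fin_cases j
    · simp [hzv, Matrix.col, hP]
    · simp [hz1', Matrix.col, hP]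
    · simp [hz2', Matrix.col, hP]
  refine ⟨lam, P, hlam, hPdet, ?_, haP, hbP⟩
  have hinv : P * P⁻¹ = 1 := Matrix.mul_nonsing_inv P hPdet
  calc zm = zm * (P * P⁻¹) := by rw [hinv, Matrix.mul_one]
    _ = (zm * P) * P⁻¹ := by rw [Matrix.mul_assoc]
    _ = lam • (P * P⁻¹) := by rw [hzP, Matrix.smul_mul]
    _ = lam • 1 := by rw [hinv]

theorem noncomm_card_27 {K : Type*} [Group K] [Finite K] (a b : K) (hab : a * b ≠ b * a)
    (hdvd : Nat.card K ∣ 27) : Nat.card K = 27 := by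
  have : Fact (Nat.Prime 3) := ⟨Nat.prime_three⟩
  have h27 : (27 : ℕ) = 3 ^ 3 := by norm_num
  rw [h27] at hdvd
  obtain ⟨j, hj, hj'⟩ := (Nat.dvd_prime_pow Nat.prime_three).mp hdvd
  interval_cases j
  · exfalso
    have : Subsingleton K := (Nat.card_eq_one_iff_unique.mp (by rw [hj']; norm_num)).1
    exact hab (Subsingleton.elim _ _)
  · exfalso
    have hc : IsCyclic K := isCyclic_of_prime_card (p := 3) (by rw [hj']; norm_num)
    obtain ⟨g, hg⟩ := hc.exists_generator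
    obtain ⟨m, rfl⟩ := Subgroup.mem_zpowers_iff.mp (hg a)
    obtain ⟨n, rfl⟩ := Subgroup.mem_zpowers_iff.mp (hg b)
    exact hab (by rw [← zpow_add, ← zpow_add, add_comm])
  · exfalso
    have := IsPGroup.isMulCommutative_of_card_eq_prime_sq (p := 3) hj'
    exact hab (this.is_comm.comm a b)
  · rw [hj']; norm_num

theorem exists_gens {G : Type*} [Group G] (R : Subgroup G) [Finite R] (hcard : Nat.card R = 27)
    (hna : ¬ IsMulCommutative R) :
    ∃ a b : G, a ∈ R ∧ b ∈ R ∧ a * b ≠ b * a ∧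
      (∀ h ∈ R, (a * b * a⁻¹ * b⁻¹) * h = h * (a * b * a⁻¹ * b⁻¹)) ∧ R = Subgroup.closure {a, b} := by
  have : Fact (Nat.Prime 3) := ⟨Nat.prime_three⟩
  obtain ⟨a, b, hab⟩ : ∃ a b : R, a * b ≠ b * a := by
    by_contra h
    push Not at h
    exact hna ⟨⟨h⟩⟩
  have hcard' : Nat.card R = 3 ^ 3 := by rw [hcard]; norm_num
  obtain ⟨k, hk0, hk⟩ := IsPGroup.card_center_eq_prime_pow hcard' (by norm_num)
  have hkle : k ≤ 3 := by
    have := Subgroup.card_subgroup_dvd_card (Subgroup.center R)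
    rw [hk, hcard'] at this
    exact (Nat.pow_dvd_pow_iff_le_right (by norm_num)).mp this
  have hidx : 3 ^ k * Nat.card (R ⧸ Subgroup.center R) = 3 ^ 3 := by
    have := (Subgroup.center R).card_mul_index
    rw [hk, hcard', Subgroup.index_eq_card] at this
    exact this
  have hcentral : a * b * a⁻¹ * b⁻¹ ∈ Subgroup.center R := by
    interval_cases k
    · have hq : Nat.card (R ⧸ Subgroup.center R) = 3 ^ 2 := by omega
      have hc := IsPGroup.isMulCommutative_of_card_eq_prime_sq hq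
      rw [← QuotientGroup.eq_one_iff]
      simp only [QuotientGroup.mk_mul, QuotientGroup.mk_inv]
      have := hc.is_comm.comm (a : R ⧸ Subgroup.center R) (b : R ⧸ Subgroup.center R)
      rw [this]; group
    · exfalso
      have hq : Nat.card (R ⧸ Subgroup.center R) = 3 := by omega
      have : IsCyclic (R ⧸ Subgroup.center R) := isCyclic_of_prime_card hq
      exact hna (isMulCommutative_of_isCyclic_quotient_center_self R)
    · exfalso
      have htop : Subgroup.center R = ⊤ :=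
        (Subgroup.card_eq_iff_eq_top _).mp (by rw [hk, hcard'])
      have hb : b ∈ Subgroup.center R := by rw [htop]; exact Subgroup.mem_top b
      exact hab (Subgroup.mem_center_iff.mp hb a)
  refine ⟨a, b, a.2, b.2, ?_, ?_, ?_⟩
  · intro h
    apply hab
    exact Subtype.ext (by simpa using h)
  · intro h hh
    have := Subgroup.mem_center_iff.mp hcentral ⟨h, hh⟩
    have := congrArg Subtype.val this
    simpa using this.symm
  · -- the closure has order 27
    have hle : Subgroup.closure {(a : G), (b : G)} ≤ R := by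
      rw [Subgroup.closure_le]
      rintro x (rfl | rfl)
      · exact a.2
      · exact b.2
    have hfin : Finite (Subgroup.closure {(a : G), (b : G)}) :=
      Finite.of_injective (Subgroup.inclusion hle) (Subgroup.inclusion_injective hle)
    have hdvd : Nat.card (Subgroup.closure {(a : G), (b : G)}) ∣ 27 := by
      rw [← hcard]; exact Subgroup.card_dvd_of_le hle
    have hc27 := noncomm_card_27
      (⟨a, Subgroup.subset_closure (by simp)⟩ : Subgroup.closure {(a : G), (b : G)})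
      ⟨b, Subgroup.subset_closure (by simp)⟩
      (by
        intro h
        apply hab
        have := congrArg Subtype.val h
        exact Subtype.ext (by simpa using this)) hdvd
    symm
    apply Subgroup.eq_of_le_of_card_ge hle
    rw [hc27, hcard]

theorem cube_mat (g : GL (Fin 3) F) (h : g ^ 3 = 1) :
    (g : Matrix (Fin 3) (Fin 3) F) * (g : Matrix (Fin 3) (Fin 3) F) * (g : Matrix (Fin 3) (Fin 3) F) = 1 := by
  rw [← Units.val_mul, ← Units.val_mul, ← Units.val_one, ← h, pow_succ, pow_succ, pow_one]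

theorem setup (h3 : (3 : F) ≠ 0) (ω₀ : F) (hω₀ : ω₀ ^ 2 + ω₀ + 1 = 0) (R : Subgroup (GL (Fin 3) F))
    [Finite R] (hR : Nat.card R = 27) (hRe : Monoid.exponent R = 3) (hRna : ¬ IsMulCommutative R) :
    ∃ (ω : F) (P : Matrix (Fin 3) (Fin 3) F) (a b z : GL (Fin 3) F), ω ^ 2 + ω + 1 = 0 ∧ IsUnit P.det ∧
      a ∈ R ∧ b ∈ R ∧ z ∈ R ∧ R = Subgroup.closure {a, b} ∧
      (z : Matrix (Fin 3) (Fin 3) F) = ω • (1 : Matrix (Fin 3) (Fin 3) F) ∧
      (a : Matrix (Fin 3) (Fin 3) F) * P = P * A₀ ω ∧ (b : Matrix (Fin 3) (Fin 3) F) * P = P * B₀ F := by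
  obtain ⟨a, b, haR, hbR, hab, hcent, hcl⟩ := exists_gens R hR hRna
  have hcube : ∀ g ∈ R, g ^ 3 = 1 := by
    intro g hg
    have := Monoid.pow_exponent_eq_one (⟨g, hg⟩ : R)
    rw [hRe] at this
    have := congrArg Subtype.val this
    simpa using this
  obtain ⟨z, hz⟩ : ∃ z : GL (Fin 3) F, z = a * b * a⁻¹ * b⁻¹ := ⟨_, rfl⟩
  rw [← hz] at hcent
  have hzR : z ∈ R := by
    rw [hz]; exact R.mul_mem (R.mul_mem (R.mul_mem haR hbR) (R.inv_mem haR)) (R.inv_mem hbR)
  have hz1 : z ≠ 1 := by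
    intro h
    apply hab
    rw [hz] at h
    calc a * b = (a * b * a⁻¹ * b⁻¹) * (b * a) := by group
      _ = b * a := by rw [h, one_mul]
  have hzm1 : (z : Matrix (Fin 3) (Fin 3) F) ≠ 1 := by
    intro h; apply hz1; exact Units.ext (by rw [h, Units.val_one])
  have hza : (z : Matrix (Fin 3) (Fin 3) F) * (a : Matrix (Fin 3) (Fin 3) F)
      = (a : Matrix (Fin 3) (Fin 3) F) * (z : Matrix (Fin 3) (Fin 3) F) := by
    rw [← Units.val_mul, ← Units.val_mul, hcent a haR]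
  have hzb : (z : Matrix (Fin 3) (Fin 3) F) * (b : Matrix (Fin 3) (Fin 3) F)
      = (b : Matrix (Fin 3) (Fin 3) F) * (z : Matrix (Fin 3) (Fin 3) F) := by
    rw [← Units.val_mul, ← Units.val_mul, hcent b hbR]
  have habm : (a : Matrix (Fin 3) (Fin 3) F) * (b : Matrix (Fin 3) (Fin 3) F)
      = (z : Matrix (Fin 3) (Fin 3) F) * (b : Matrix (Fin 3) (Fin 3) F) * (a : Matrix (Fin 3) (Fin 3) F) := by
    rw [← Units.val_mul, ← Units.val_mul, ← Units.val_mul]
    congr 1
    rw [hz]; group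
  obtain ⟨ω, P, hω, hP, hzs, haP, hbP⟩ := std_form h3 ω₀ hω₀ _ _ _ (cube_mat a (hcube a haR))
    (cube_mat b (hcube b hbR)) (cube_mat z (hcube z hzR)) hzm1 hza hzb habm
  exact ⟨ω, P, a, b, z, hω, hP, haR, hbR, hzR, hcl, hzs, haP, hbP⟩

/-- criterion for membership in the normalizer -/
theorem mem_normalizer_of_gens (R : Subgroup (GL (Fin 3) F)) [Finite R] (a b : GL (Fin 3) F)
    (hcl : R = Subgroup.closure {a, b}) (g : GL (Fin 3) F)
    (h1 : g * a * g⁻¹ ∈ R) (h2 : g * b * g⁻¹ ∈ R) :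
    g ∈ Cfsg.Geo.subgroupNormalizer R := by
  apply Subgroup.mem_normalizer_fintype
  have hle : R ≤ R.comap (MulAut.conj g).toMonoidHom := by
    conv_lhs => rw [hcl]
    rw [Subgroup.closure_le]
    rintro x (rfl | rfl)
    · simpa using h1
    · simpa using h2
  intro n hn
  have := hle hn
  simpa using this

/-- normalizer membership from matrix identities in the standard basis -/
theorem mem_normalizer_of_matrix (R : Subgroup (GL (Fin 3) F)) [Finite R] (a b : GL (Fin 3) F)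
    (hcl : R = Subgroup.closure {a, b}) (ω : F) (P : Matrix (Fin 3) (Fin 3) F) (hP : IsUnit P.det)
    (haP : (a : Matrix (Fin 3) (Fin 3) F) * P = P * A₀ ω)
    (hbP : (b : Matrix (Fin 3) (Fin 3) F) * P = P * B₀ F)
    (g : GL (Fin 3) F) (Dm : Matrix (Fin 3) (Fin 3) F) (hg : (g : Matrix (Fin 3) (Fin 3) F) * P = P * Dm)
    (wa wb : GL (Fin 3) F) (hwa : wa ∈ R) (hwb : wb ∈ R) (Wa Wb : Matrix (Fin 3) (Fin 3) F)
    (hWa : (wa : Matrix (Fin 3) (Fin 3) F) * P = P * Wa) (hWb : (wb : Matrix (Fin 3) (Fin 3) F) * P = P * Wb)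
    (h1 : Dm * A₀ ω = Wa * Dm) (h2 : Dm * B₀ F = Wb * Dm) :
    g ∈ Cfsg.Geo.subgroupNormalizer R := by
  have hinv : P * P⁻¹ = 1 := Matrix.mul_nonsing_inv P hP
  have cancel : ∀ X Y : Matrix (Fin 3) (Fin 3) F, X * P = Y * P → X = Y := by
    intro X Y h
    calc X = X * (P * P⁻¹) := by rw [hinv, Matrix.mul_one]
      _ = (X * P) * P⁻¹ := by rw [Matrix.mul_assoc]
      _ = (Y * P) * P⁻¹ := by rw [h]
      _ = Y * (P * P⁻¹) := by rw [Matrix.mul_assoc]
      _ = Y := by rw [hinv, Matrix.mul_one]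
  have e1 : g * a = wa * g := by
    apply Units.ext
    rw [Units.val_mul, Units.val_mul]
    apply cancel
    calc (g : Matrix (Fin 3) (Fin 3) F) * (a : Matrix (Fin 3) (Fin 3) F) * P
        = (g : Matrix (Fin 3) (Fin 3) F) * (P * A₀ ω) := by rw [Matrix.mul_assoc, haP]
      _ = P * (Dm * A₀ ω) := by rw [← Matrix.mul_assoc, hg, Matrix.mul_assoc]
      _ = (P * Wa) * Dm := by rw [h1, Matrix.mul_assoc]
      _ = (wa : Matrix (Fin 3) (Fin 3) F) * (P * Dm) := by rw [← hWa, Matrix.mul_assoc]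
      _ = (wa : Matrix (Fin 3) (Fin 3) F) * (g : Matrix (Fin 3) (Fin 3) F) * P := by
          rw [← hg, Matrix.mul_assoc]
  have e2 : g * b = wb * g := by
    apply Units.ext
    rw [Units.val_mul, Units.val_mul]
    apply cancel
    calc (g : Matrix (Fin 3) (Fin 3) F) * (b : Matrix (Fin 3) (Fin 3) F) * P
        = (g : Matrix (Fin 3) (Fin 3) F) * (P * B₀ F) := by rw [Matrix.mul_assoc, hbP]
      _ = P * (Dm * B₀ F) := by rw [← Matrix.mul_assoc, hg, Matrix.mul_assoc]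
      _ = (P * Wb) * Dm := by rw [h2, Matrix.mul_assoc]
      _ = (wb : Matrix (Fin 3) (Fin 3) F) * (P * Dm) := by rw [← hWb, Matrix.mul_assoc]
      _ = (wb : Matrix (Fin 3) (Fin 3) F) * (g : Matrix (Fin 3) (Fin 3) F) * P := by
          rw [← hg, Matrix.mul_assoc]
  apply mem_normalizer_of_gens R a b hcl g
  · rw [e1, mul_assoc, mul_inv_cancel, mul_one]; exact hwa
  · rw [e2, mul_assoc, mul_inv_cancel, mul_one]; exact hwb

theorem mem_specialLinear_iff (x : GL (Fin 3) F) :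
    x ∈ Cfsg.Geo.specialLinear (Fin 3) F ↔ (x : Matrix (Fin 3) (Fin 3) F).det = 1 := by
  show x ∈ (Matrix.GeneralLinearGroup.det : GL (Fin 3) F →* Fˣ).ker ↔ _
  rw [MonoidHom.mem_ker, Units.ext_iff, Matrix.GeneralLinearGroup.val_det_apply]
  rfl

theorem conj_of_diag (N : Subgroup (GL (Fin 3) F)) (x y : GL (Fin 3) F) (hy : y ∈ N)
    (Q P : Matrix (Fin 3) (Fin 3) F) (hQ : IsUnit Q.det) (hP : IsUnit P.det) (d : Fin 3 → F)
    (hx : (x : Matrix (Fin 3) (Fin 3) F) * Q = Q * Matrix.diagonal d)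
    (hyP : (y : Matrix (Fin 3) (Fin 3) F) * P = P * Matrix.diagonal d) :
    ∃ g ∈ Cfsg.Geo.specialLinear (Fin 3) F, g⁻¹ * x * g ∈ N := by
  have hQ0 : Q.det ≠ 0 := hQ.ne_zero
  have hP0 : P.det ≠ 0 := hP.ne_zero
  have hPinv : P * P⁻¹ = 1 := Matrix.mul_nonsing_inv P hP
  have hPinv' : P⁻¹ * P = 1 := Matrix.nonsing_inv_mul P hP
  obtain ⟨C, hC⟩ : ∃ C : Matrix (Fin 3) (Fin 3) F, C = Matrix.diagonal ![P.det / Q.det, 1, 1] := ⟨_, rfl⟩
  have hCD : Matrix.diagonal d * C = C * Matrix.diagonal d := by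
    rw [hC, Matrix.diagonal_mul_diagonal, Matrix.diagonal_mul_diagonal]
    congr 1; funext i; exact mul_comm _ _
  have hDP : Matrix.diagonal d * P⁻¹ = P⁻¹ * (y : Matrix (Fin 3) (Fin 3) F) := by
    calc Matrix.diagonal d * P⁻¹ = (P⁻¹ * P) * Matrix.diagonal d * P⁻¹ := by rw [hPinv', Matrix.one_mul]
      _ = P⁻¹ * (P * Matrix.diagonal d) * P⁻¹ := by rw [Matrix.mul_assoc P⁻¹]
      _ = P⁻¹ * ((y : Matrix (Fin 3) (Fin 3) F) * P) * P⁻¹ := by rw [hyP]
      _ = P⁻¹ * (y : Matrix (Fin 3) (Fin 3) F) * (P * P⁻¹) := by simp only [Matrix.mul_assoc]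
      _ = P⁻¹ * (y : Matrix (Fin 3) (Fin 3) F) := by rw [hPinv, Matrix.mul_one]
  obtain ⟨G, hG⟩ : ∃ G : Matrix (Fin 3) (Fin 3) F, G = Q * C * P⁻¹ := ⟨_, rfl⟩
  have hGdet : G.det = 1 := by
    rw [hG, Matrix.det_mul, Matrix.det_mul, hC, Matrix.det_diagonal, Fin.prod_univ_three,
      Matrix.det_nonsing_inv, Ring.inverse_eq_inv']
    simp
    field_simp
  have hxG : (x : Matrix (Fin 3) (Fin 3) F) * G = G * (y : Matrix (Fin 3) (Fin 3) F) := by
    calc (x : Matrix (Fin 3) (Fin 3) F) * G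
        = ((x : Matrix (Fin 3) (Fin 3) F) * Q) * C * P⁻¹ := by rw [hG]; simp only [Matrix.mul_assoc]
      _ = Q * (Matrix.diagonal d * C) * P⁻¹ := by rw [hx]; simp only [Matrix.mul_assoc]
      _ = Q * C * (Matrix.diagonal d * P⁻¹) := by rw [hCD]; simp only [Matrix.mul_assoc]
      _ = G * (y : Matrix (Fin 3) (Fin 3) F) := by rw [hDP, hG]; simp only [Matrix.mul_assoc]
  let g : GL (Fin 3) F := Matrix.GeneralLinearGroup.mkOfDetNeZero G (by rw [hGdet]; exact one_ne_zero)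
  have hgv : (g : Matrix (Fin 3) (Fin 3) F) = G := rfl
  refine ⟨g, (mem_specialLinear_iff g).mpr (by rw [hgv, hGdet]), ?_⟩
  have h : x * g = g * y := Units.ext (by rw [Units.val_mul, Units.val_mul, hgv]; exact hxG)
  have : g⁻¹ * x * g = y := by rw [mul_assoc, h, ← mul_assoc, inv_mul_cancel, one_mul]
  rw [this]; exact hy

theorem exists_basis_fin_of_span {s : Set (Fin 3 → F)} (hs : ⊤ ≤ Submodule.span F s) :
    ∃ B : Module.Basis (Fin 3) F (Fin 3 → F), ∀ j, B j ∈ s := by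
  have key : ∀ {ι : Type _} (B : Module.Basis ι F (Fin 3 → F)), (∀ i, B i ∈ s) →
      ∃ B' : Module.Basis (Fin 3) F (Fin 3 → F), ∀ j, B' j ∈ s := by
    intro ι B hB
    classical
    have : Fintype ι := FiniteDimensional.fintypeBasisIndex B
    have hcard : Fintype.card ι = 3 := by
      rw [← Module.finrank_eq_card_basis B, Module.finrank_fin_fun]
    refine ⟨B.reindex (Fintype.equivFinOfCardEq hcard), fun j => ?_⟩
    rw [Module.Basis.reindex_apply]; exact hB _
  exact key (Module.Basis.ofSpan hs)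
    (fun i => Module.Basis.ofSpan_subset hs (Set.mem_range_self i))

theorem exists_diag (X : Matrix (Fin 3) (Fin 3) F) (p : F → Prop)
    (hspan : ∀ w : Fin 3 → F, w ∈ Submodule.span F {v : Fin 3 → F | ∃ μ, p μ ∧ X *ᵥ v = μ • v}) :
    ∃ (Q : Matrix (Fin 3) (Fin 3) F) (d : Fin 3 → F), IsUnit Q.det ∧ (∀ i, p (d i)) ∧
      X * Q = Q * Matrix.diagonal d := by
  have hs : (⊤ : Submodule F (Fin 3 → F)) ≤ Submodule.span F {v : Fin 3 → F | ∃ μ, p μ ∧ X *ᵥ v = μ • v} :=
    fun w _ => hspan w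
  obtain ⟨B', hmem⟩ := exists_basis_fin_of_span hs
  choose d hd using hmem
  obtain ⟨Q, hQ⟩ : ∃ Q : Matrix (Fin 3) (Fin 3) F, Q = Matrix.of (fun i j => B' j i) := ⟨_, rfl⟩
  have hcol : Q.col = fun j => B' j := by
    funext j; ext i; rw [hQ]; rfl
  have hli : LinearIndependent F Q.col := by rw [hcol]; exact B'.linearIndependent
  have hQu : IsUnit Q.det := (Matrix.isUnit_iff_isUnit_det Q).mp (Matrix.linearIndependent_cols_iff_isUnit.mp hli)
  refine ⟨Q, d, hQu, fun i => (hd i).1, ?_⟩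
  ext i j
  have h1 : (X * Q) i j = (X *ᵥ (B' j)) i := by
    rw [hQ]; simp [Matrix.mul_apply, Matrix.mulVec, dotProduct]
  rw [h1, (hd j).2, Matrix.mul_diagonal, hQ]
  simp [mul_comm]

theorem span_cube (h3 : (3 : F) ≠ 0) (ω : F) (hω : ω ^ 2 + ω + 1 = 0) (X : Matrix (Fin 3) (Fin 3) F)
    (κ : F) (hκ : κ ≠ 0) (hX : X * X * X = (κ ^ 3) • (1 : Matrix (Fin 3) (Fin 3) F)) (w : Fin 3 → F) :
    w ∈ Submodule.span F {v : Fin 3 → F | ∃ μ, μ ^ 3 = κ ^ 3 ∧ X *ᵥ v = μ • v} := by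
  have hω3 : ω ^ 3 = 1 := by linear_combination (ω - 1) * hω
  obtain ⟨X', hX'⟩ : ∃ X' : Matrix (Fin 3) (Fin 3) F, X' = κ⁻¹ • X := ⟨_, rfl⟩
  have hXX' : X = κ • X' := by rw [hX', smul_smul, mul_inv_cancel₀ hκ, one_smul]
  have hX'3 : X' * X' * X' = 1 := by
    have e : (κ⁻¹ • X) * (κ⁻¹ • X) * (κ⁻¹ • X) = (κ⁻¹ * κ⁻¹ * κ⁻¹) • (X * X * X) := by
      simp only [Matrix.smul_mul, Matrix.mul_smul, smul_smul]
      congr 1; ring
    rw [hX', e, hX, smul_smul]
    have : κ⁻¹ * κ⁻¹ * κ⁻¹ * κ ^ 3 = 1 := by field_simp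
    rw [this, one_smul]
  have hmem : ∀ μ : F, μ ^ 3 = 1 → proj μ X' *ᵥ w ∈
      Submodule.span F {v : Fin 3 → F | ∃ μ, μ ^ 3 = κ ^ 3 ∧ X *ᵥ v = μ • v} := by
    intro μ hμ
    apply Submodule.subset_span
    refine ⟨κ * μ, by rw [mul_pow, hμ, mul_one], ?_⟩
    rw [hXX', Matrix.smul_mulVec, Matrix.mulVec_mulVec, mul_proj μ hμ X' hX'3, Matrix.smul_mulVec, smul_smul]
  have hs := proj_sum h3 ω hω X'
  have : w = proj 1 X' *ᵥ w + proj ω X' *ᵥ w + proj (ω ^ 2) X' *ᵥ w := by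
    rw [← Matrix.add_mulVec, ← Matrix.add_mulVec, hs, Matrix.one_mulVec]
  rw [this]
  exact Submodule.add_mem _ (Submodule.add_mem _ (hmem 1 (by norm_num)) (hmem ω hω3))
    (hmem (ω ^ 2) (by rw [← pow_mul]; linear_combination (ω ^ 3 + 1) * hω3))

theorem span_square (h2 : (2 : F) ≠ 0) (X : Matrix (Fin 3) (Fin 3) F)
    (e : F) (he : e ≠ 0) (hX : X * X = (e ^ 2) • (1 : Matrix (Fin 3) (Fin 3) F)) (w : Fin 3 → F) :
    w ∈ Submodule.span F {v : Fin 3 → F | ∃ μ, (μ = e ∨ μ = -e) ∧ X *ᵥ v = μ • v} := by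
  have hXXw : X *ᵥ (X *ᵥ w) = (e ^ 2) • w := by
    rw [Matrix.mulVec_mulVec, hX, Matrix.smul_mulVec, Matrix.one_mulVec]
  have h1 : w + e⁻¹ • (X *ᵥ w) ∈ Submodule.span F {v : Fin 3 → F | ∃ μ, (μ = e ∨ μ = -e) ∧ X *ᵥ v = μ • v} := by
    apply Submodule.subset_span
    refine ⟨e, Or.inl rfl, ?_⟩
    rw [Matrix.mulVec_add, Matrix.mulVec_smul, hXXw, smul_add, smul_smul, smul_smul]
    have e1 : e⁻¹ * e ^ 2 = e := by field_simp
    have e2 : e * e⁻¹ = 1 := mul_inv_cancel₀ he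
    rw [e1, e2, one_smul, add_comm]
  have h2' : w - e⁻¹ • (X *ᵥ w) ∈ Submodule.span F {v : Fin 3 → F | ∃ μ, (μ = e ∨ μ = -e) ∧ X *ᵥ v = μ • v} := by
    apply Submodule.subset_span
    refine ⟨-e, Or.inr rfl, ?_⟩
    rw [Matrix.mulVec_sub, Matrix.mulVec_smul, hXXw, smul_sub, smul_smul, smul_smul]
    have e1 : e⁻¹ * e ^ 2 = e := by field_simp
    have e2 : -e * e⁻¹ = -1 := by rw [neg_mul, mul_inv_cancel₀ he]
    rw [e1, e2, neg_smul, neg_smul, one_smul]
    abel
  have : w = (2 : F)⁻¹ • ((w + e⁻¹ • (X *ᵥ w)) + (w - e⁻¹ • (X *ᵥ w))) := by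
    rw [add_add_sub_cancel, ← two_smul F w, smul_smul, inv_mul_cancel₀ h2, one_smul]
  rw [this]
  exact Submodule.smul_mem _ _ (Submodule.add_mem _ h1 h2')

/-- the data of a standard form of `R` -/
structure Std (R : Subgroup (GL (Fin 3) F)) (ω : F) (P : Matrix (Fin 3) (Fin 3) F)
    (a b z : GL (Fin 3) F) : Prop where
  hω : ω ^ 2 + ω + 1 = 0
  hP : IsUnit P.det
  ha : a ∈ R
  hb : b ∈ R
  hz : z ∈ R
  hcl : R = Subgroup.closure {a, b}
  hzs : (z : Matrix (Fin 3) (Fin 3) F) = ω • (1 : Matrix (Fin 3) (Fin 3) F)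
  haP : (a : Matrix (Fin 3) (Fin 3) F) * P = P * A₀ ω
  hbP : (b : Matrix (Fin 3) (Fin 3) F) * P = P * B₀ F

theorem conjP_exists (P : Matrix (Fin 3) (Fin 3) F) (hP : IsUnit P.det) (Dm : Matrix (Fin 3) (Fin 3) F)
    (hD : Dm.det ≠ 0) : ∃ y : GL (Fin 3) F, (y : Matrix (Fin 3) (Fin 3) F) * P = P * Dm := by
  have hPinv' : P⁻¹ * P = 1 := Matrix.nonsing_inv_mul P hP
  have hdet : (P * Dm * P⁻¹).det ≠ 0 := by
    rw [Matrix.det_mul, Matrix.det_mul, Matrix.det_nonsing_inv, Ring.inverse_eq_inv']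
    exact mul_ne_zero (mul_ne_zero hP.ne_zero hD) (inv_ne_zero hP.ne_zero)
  refine ⟨Matrix.GeneralLinearGroup.mkOfDetNeZero (P * Dm * P⁻¹) hdet, ?_⟩
  show (P * Dm * P⁻¹) * P = P * Dm
  rw [Matrix.mul_assoc, hPinv', Matrix.mul_one]

variable {R : Subgroup (GL (Fin 3) F)} {ω : F} {P : Matrix (Fin 3) (Fin 3) F} {a b z : GL (Fin 3) F}

theorem Std.word_a (S : Std R ω P a b z) (s : F) (hs : s ^ 3 = 1) :
    ∃ ws ∈ R, (ws : Matrix (Fin 3) (Fin 3) F) * P = P * Matrix.diagonal ![1, s, s ^ 2] := by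
  rcases cube_root_cases ω S.hω s hs with rfl | rfl | rfl
  · refine ⟨1, R.one_mem, ?_⟩
    have : Matrix.diagonal ![(1 : F), 1, 1 ^ 2] = 1 := by
      ext i j; fin_cases i <;> fin_cases j <;> simp
    rw [this, Units.val_one, Matrix.one_mul, Matrix.mul_one]
  · exact ⟨a, S.ha, S.haP⟩
  · refine ⟨a * a, R.mul_mem S.ha S.ha, ?_⟩
    have : Matrix.diagonal ![(1 : F), ω ^ 2, (ω ^ 2) ^ 2] = A₀ ω * A₀ ω := by
      unfold A₀
      rw [Matrix.diagonal_mul_diagonal]
      congr 1; funext i; fin_cases i <;> simp <;> ring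
    rw [this, Units.val_mul, Matrix.mul_assoc, S.haP, ← Matrix.mul_assoc, S.haP, Matrix.mul_assoc]

theorem Std.word_z (S : Std R ω P a b z) (u : F) (hu : u ^ 3 = 1) :
    ∃ wz ∈ R, (wz : Matrix (Fin 3) (Fin 3) F) = u • (1 : Matrix (Fin 3) (Fin 3) F) := by
  rcases cube_root_cases ω S.hω u hu with rfl | rfl | rfl
  · exact ⟨1, R.one_mem, by rw [Units.val_one, one_smul]⟩
  · exact ⟨z, S.hz, S.hzs⟩
  · refine ⟨z * z, R.mul_mem S.hz S.hz, ?_⟩
    rw [Units.val_mul, S.hzs, Matrix.smul_mul, Matrix.one_mul, smul_smul, sq]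

theorem Std.diag_mem_normalizer [Finite R] (S : Std R ω P a b z) (d : Fin 3 → F) (c : F) (hc : c ≠ 0)
    (hd : ∀ i, d i ^ 3 = c) :
    ∃ y ∈ Cfsg.Geo.subgroupNormalizer R,
      (y : Matrix (Fin 3) (Fin 3) F) * P = P * Matrix.diagonal d := by
  have hd0 : ∀ i, d i ≠ 0 := by
    intro i h
    have := hd i
    rw [h] at this
    apply hc; rw [← this]; ring
  have hdet : (Matrix.diagonal d).det ≠ 0 := by
    rw [Matrix.det_diagonal, Fin.prod_univ_three]
    exact mul_ne_zero (mul_ne_zero (hd0 0) (hd0 1)) (hd0 2)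
  obtain ⟨y, hy⟩ := conjP_exists P S.hP (Matrix.diagonal d) hdet
  refine ⟨y, ?_, hy⟩
  obtain ⟨u, hu⟩ : ∃ u : F, u = d 0 / d 2 := ⟨_, rfl⟩
  obtain ⟨s, hs⟩ : ∃ s : F, s = d 1 * d 2 / (d 0) ^ 2 := ⟨_, rfl⟩
  have hu3 : u ^ 3 = 1 := by
    rw [hu, div_pow, hd 0, hd 2, div_self hc]
  have hs3 : s ^ 3 = 1 := by
    rw [hs, div_pow, mul_pow, hd 1, hd 2, ← pow_mul, mul_comm 2 3, pow_mul, hd 0]
    field_simp
  obtain ⟨ws, hwsR, hws⟩ := S.word_a s hs3
  obtain ⟨wz, hwzR, hwz⟩ := S.word_z u hu3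
  apply mem_normalizer_of_matrix R a b S.hcl ω P S.hP S.haP S.hbP y (Matrix.diagonal d) hy
    a (wz * ws * b) S.ha (R.mul_mem (R.mul_mem hwzR hwsR) S.hb) (A₀ ω)
    (u • (Matrix.diagonal ![1, s, s ^ 2] * B₀ F)) S.haP
  · rw [Units.val_mul, Units.val_mul, hwz, Matrix.smul_mul, Matrix.one_mul, Matrix.smul_mul, Matrix.smul_mul,
      Matrix.mul_assoc, S.hbP, ← Matrix.mul_assoc, hws, Matrix.mul_smul, Matrix.mul_assoc]
  · unfold A₀
    rw [Matrix.diagonal_mul_diagonal, Matrix.diagonal_mul_diagonal]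
    congr 1; funext i; exact mul_comm _ _
  · have h10 : d 1 ^ 3 = d 0 ^ 3 := by rw [hd 1, hd 0]
    have hd0' := hd0 0
    have hd1' := hd0 1
    have hd2' := hd0 2
    ext i j
    fin_cases i <;> fin_cases j <;>
      simp [B₀, Matrix.mul_apply, Fin.sum_univ_three, Matrix.diagonal, hu, hs] <;> field_simp
    exact h10.symm

/-- the involution `-Π` -/
def S₀ (F : Type*) [Field F] : Matrix (Fin 3) (Fin 3) F := !![-1, 0, 0; 0, 0, -1; 0, -1, 0]

/-- eigenbases of `S₀` -/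
def Q₂ (F : Type*) [Field F] (k : Fin 3) : Matrix (Fin 3) (Fin 3) F :=
  (![!![0, 1, 0; 1, 0, 1; -1, 0, 1], !![1, 0, 0; 0, 1, 1; 0, -1, 1], !![1, 0, 0; 0, 1, 1; 0, 1, -1]] :
    Fin 3 → Matrix (Fin 3) (Fin 3) F) k

theorem Q₂_det (h2 : (2 : F) ≠ 0) (k : Fin 3) : (Q₂ F k).det ≠ 0 := by
  have h2' : (-2 : F) ≠ 0 := neg_ne_zero.mpr h2
  fin_cases k
  · have : (Q₂ F 0).det = -2 := by
      simp [Q₂, Matrix.det_fin_three]; norm_num
    show (Q₂ F 0).det ≠ 0
    rw [this]; exact h2'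
  · have : (Q₂ F 1).det = 2 := by
      simp [Q₂, Matrix.det_fin_three]; norm_num
    show (Q₂ F 1).det ≠ 0
    rw [this]; exact h2
  · have : (Q₂ F 2).det = -2 := by
      simp [Q₂, Matrix.det_fin_three]; norm_num
    show (Q₂ F 2).det ≠ 0
    rw [this]; exact h2'

theorem S₀_Q₂ (k : Fin 3) :
    S₀ F * Q₂ F k = Q₂ F k * Matrix.diagonal (fun i => if i = k then (1 : F) else -1) := by
  fin_cases k <;> ext i j <;> fin_cases i <;> fin_cases j <;>
    simp [S₀, Q₂, Matrix.mul_apply, Fin.sum_univ_three, Matrix.diagonal]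

theorem Std.invol_mem_normalizer [Finite R] (S : Std R ω P a b z) (h2 : (2 : F) ≠ 0) (e' : F) (he' : e' ≠ 0)
    (k : Fin 3) :
    ∃ y ∈ Cfsg.Geo.subgroupNormalizer R, ∃ P' : Matrix (Fin 3) (Fin 3) F, IsUnit P'.det ∧
      (y : Matrix (Fin 3) (Fin 3) F) * P' = P' * Matrix.diagonal (fun i => if i = k then e' else -e') := by
  have hω3 : ω ^ 3 = 1 := by linear_combination (ω - 1) * S.hω
  have hS₀det : (S₀ F).det = 1 := by
    simp [S₀, Matrix.det_fin_three]
  have hdet : (e' • S₀ F).det ≠ 0 := by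
    rw [Matrix.det_smul, hS₀det, mul_one]
    exact pow_ne_zero _ he'
  obtain ⟨y, hy⟩ := conjP_exists P S.hP (e' • S₀ F) hdet
  refine ⟨y, ?_, P * Q₂ F k, ?_, ?_⟩
  · apply mem_normalizer_of_matrix R a b S.hcl ω P S.hP S.haP S.hbP y (e' • S₀ F) hy
      (a * a) (b * b) (R.mul_mem S.ha S.ha) (R.mul_mem S.hb S.hb) (A₀ ω * A₀ ω) (B₀ F * B₀ F)
    · rw [Units.val_mul, Matrix.mul_assoc, S.haP, ← Matrix.mul_assoc, S.haP, Matrix.mul_assoc]
    · rw [Units.val_mul, Matrix.mul_assoc, S.hbP, ← Matrix.mul_assoc, S.hbP, Matrix.mul_assoc]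
    · rw [Matrix.smul_mul, Matrix.mul_smul]
      congr 1
      ext i j
      fin_cases i <;> fin_cases j <;>
        simp [S₀, A₀, Matrix.mul_apply, Fin.sum_univ_three, Matrix.diagonal]
      all_goals first | ring1 | linear_combination (-ω) * hω3
    · rw [Matrix.smul_mul, Matrix.mul_smul]
      congr 1
      ext i j
      fin_cases i <;> fin_cases j <;>
        simp [S₀, B₀, Matrix.mul_apply, Fin.sum_univ_three]
  · rw [Matrix.det_mul]
    exact IsUnit.mul S.hP (isUnit_iff_ne_zero.mpr (Q₂_det h2 k))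
  · rw [← Matrix.mul_assoc, hy, Matrix.mul_assoc, Matrix.smul_mul, S₀_Q₂, ← Matrix.mul_smul, Matrix.mul_assoc]
    congr 2
    rw [← Matrix.diagonal_smul]
    congr 1
    funext i
    by_cases h : i = k <;> simp [h]

theorem card_SL3 [Fintype F] :
    Nat.card (Cfsg.Geo.specialLinear (Fin 3) F) * (Fintype.card F - 1) =
      (Fintype.card F ^ 3 - 1) * (Fintype.card F ^ 3 - Fintype.card F) *
        (Fintype.card F ^ 3 - Fintype.card F ^ 2) := by
  have h1 := Subgroup.card_mul_index (Cfsg.Geo.specialLinear (Fin 3) F)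
  have h2 : (Cfsg.Geo.specialLinear (Fin 3) F).index = Fintype.card F - 1 := by
    show (Matrix.GeneralLinearGroup.det : GL (Fin 3) F →* Fˣ).ker.index = _
    rw [Subgroup.index_ker, MonoidHom.range_eq_top.mpr Matrix.GeneralLinearGroup.det_surjective,
      Subgroup.card_top, Nat.card_units, Nat.card_eq_fintype_card]
  rw [h2, Matrix.card_GL_field, Fin.prod_univ_three] at h1
  rw [h1]
  simp

theorem not_81_dvd (t S : ℕ) (ht : t % 3 ≠ 0)
    (hS : S * (3 * t + 1 - 1) = ((3 * t + 1) ^ 3 - 1) * ((3 * t + 1) ^ 3 - (3 * t + 1)) *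
      ((3 * t + 1) ^ 3 - (3 * t + 1) ^ 2)) : ¬ 81 ∣ S := by
  have ht0 : 0 < t := Nat.pos_of_ne_zero (fun h => ht (by rw [h]))
  have e1 : (3 * t + 1) ^ 3 - 1 = 3 * t * (3 * (3 * t ^ 2 + 3 * t + 1)) := by
    apply Nat.sub_eq_of_eq_add; ring
  have e2 : (3 * t + 1) ^ 3 - (3 * t + 1) = 3 * t * ((3 * t + 1) * (3 * t + 2)) := by
    apply Nat.sub_eq_of_eq_add; ring
  have e3 : (3 * t + 1) ^ 3 - (3 * t + 1) ^ 2 = 3 * t * ((3 * t + 1) ^ 2) := by
    apply Nat.sub_eq_of_eq_add; ring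
  rw [e1, e2, e3, Nat.add_sub_cancel] at hS
  have hS' : S = 27 * (t ^ 2 * (3 * t ^ 2 + 3 * t + 1) * (3 * t + 1) ^ 3 * (3 * t + 2)) := by
    have h3t : 0 < 3 * t := by omega
    apply Nat.eq_of_mul_eq_mul_right h3t
    rw [hS]; ring
  intro h81
  rw [hS'] at h81
  have h3 : 3 ∣ t ^ 2 * (3 * t ^ 2 + 3 * t + 1) * (3 * t + 1) ^ 3 * (3 * t + 2) := by
    have : (81 : ℕ) = 27 * 3 := by norm_num
    rw [this] at h81
    exact Nat.dvd_of_mul_dvd_mul_left (by norm_num) h81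
  have p3 := Nat.prime_three
  rcases (Nat.Prime.dvd_mul p3).mp h3 with h | h
  · rcases (Nat.Prime.dvd_mul p3).mp h with h | h
    · rcases (Nat.Prime.dvd_mul p3).mp h with h | h
      · have := Nat.Prime.dvd_of_dvd_pow p3 h
        omega
      · omega
    · have := Nat.Prime.dvd_of_dvd_pow p3 h
      omega
  · omega

section act

variable {G : Type*} [Group G]

/-- conjugation action of the powers of a normalizing element -/
@[reducible]
def conjAction (R : Subgroup G) (y : G) (hy : y ∈ Subgroup.normalizer (R : Set G)) :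
    MulAction (Subgroup.zpowers y) R where
  smul k h := ⟨(k : G) * h * (k : G)⁻¹,
    (Subgroup.mem_normalizer_iff.mp ((Subgroup.zpowers_le.mpr hy) k.2) h).mp h.2⟩
  one_smul h := by
    apply Subtype.ext
    show ((1 : Subgroup.zpowers y) : G) * h * ((1 : Subgroup.zpowers y) : G)⁻¹ = h
    simp
  mul_smul a b h := by
    apply Subtype.ext
    show ((a * b : Subgroup.zpowers y) : G) * h * ((a * b : Subgroup.zpowers y) : G)⁻¹
      = (a : G) * ((b : G) * h * (b : G)⁻¹) * (a : G)⁻¹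
    simp [mul_assoc]

theorem centralizes_of_prime_order (R : Subgroup G) [Finite R] (hR : Nat.card R = 27)
    (y : G) (hy : y ∈ Subgroup.normalizer (R : Set G)) (r : ℕ) [Fact r.Prime] (hr : 5 ≤ r)
    (hyr : orderOf y = r) (c : G) (hcR : c ∈ R) (hc1 : c ≠ 1) (hcy : y * c = c * y) :
    ∀ h ∈ R, y * h = h * y := by
  let _ := conjAction R y hy
  have hP : IsPGroup r (Subgroup.zpowers y) :=
    IsPGroup.of_card (n := 1) (by rw [Nat.card_zpowers, hyr, pow_one])
  have hmod := hP.card_modEq_card_fixedPoints R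
  let C : Subgroup R := (Subgroup.centralizer {y}).subgroupOf R
  have hfix : MulAction.fixedPoints (Subgroup.zpowers y) R = (C : Set R) := by
    ext h
    simp only [MulAction.mem_fixedPoints, SetLike.mem_coe]
    constructor
    · intro hf
      have h1 := hf ⟨y, Subgroup.mem_zpowers y⟩
      have h2 : y * (h : G) * y⁻¹ = h := congrArg Subtype.val h1
      show (h : G) ∈ Subgroup.centralizer {y}
      rw [Subgroup.mem_centralizer_iff]
      intro m hm
      rw [Set.mem_singleton_iff] at hm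
      subst hm
      calc m * (h : G) = (m * h * m⁻¹) * m := by group
        _ = h * m := by rw [h2]
    · intro hC k
      have hC' : (h : G) ∈ Subgroup.centralizer {y} := hC
      have hk : (k : G) ∈ Subgroup.centralizer {(h : G)} := by
        have : Subgroup.zpowers y ≤ Subgroup.centralizer {(h : G)} := by
          rw [Subgroup.zpowers_le, Subgroup.mem_centralizer_iff]
          intro m hm
          rw [Set.mem_singleton_iff] at hm
          subst hm
          exact ((Subgroup.mem_centralizer_iff.mp hC') y rfl).symm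
        exact this k.2
      apply Subtype.ext
      show (k : G) * h * (k : G)⁻¹ = h
      have := (Subgroup.mem_centralizer_iff.mp hk) h rfl
      calc (k : G) * h * (k : G)⁻¹ = (h * k) * (k : G)⁻¹ := by rw [this]
        _ = h := by group
  have hcard : Nat.card (MulAction.fixedPoints (Subgroup.zpowers y) R) = Nat.card C := by
    rw [hfix]; rfl
  rw [hcard, hR] at hmod
  have hdvd : Nat.card C ∣ 27 := hR ▸ Subgroup.card_subgroup_dvd_card C
  have hcC : (⟨c, hcR⟩ : R) ∈ C := by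
    show c ∈ Subgroup.centralizer {y}
    rw [Subgroup.mem_centralizer_iff]
    intro m hm
    rw [Set.mem_singleton_iff] at hm
    subst hm
    exact hcy
  have hrp : r.Prime := Fact.out
  have hr2 : ¬ r ∣ 2 := fun h => by have := Nat.le_of_dvd (by norm_num) h; omega
  have hr3 : ¬ r ∣ 3 := fun h => by have := Nat.le_of_dvd (by norm_num) h; omega
  have hCtop : C = ⊤ := by
    have h27 : (27 : ℕ) = 3 ^ 3 := by norm_num
    rw [h27] at hdvd
    obtain ⟨k, hk, hk'⟩ := (Nat.dvd_prime_pow Nat.prime_three).mp hdvd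
    interval_cases k
    · exfalso
      have : C = ⊥ := Subgroup.card_eq_one.mp (by rw [hk']; norm_num)
      rw [this, Subgroup.mem_bot] at hcC
      apply hc1
      exact congrArg Subtype.val hcC
    · exfalso
      rw [hk'] at hmod
      have h24 : r ∣ 27 - 3 ^ 1 := (Nat.modEq_iff_dvd' (by norm_num)).mp hmod.symm
      have e : (27 - 3 ^ 1 : ℕ) = 2 ^ 3 * 3 := by norm_num
      rw [e] at h24
      rcases (Nat.Prime.dvd_mul hrp).mp h24 with h | h
      · exact hr2 (Nat.Prime.dvd_of_dvd_pow hrp h)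
      · exact hr3 h
    · exfalso
      rw [hk'] at hmod
      have h18 : r ∣ 27 - 3 ^ 2 := (Nat.modEq_iff_dvd' (by norm_num)).mp hmod.symm
      have e : (27 - 3 ^ 2 : ℕ) = 2 * 3 ^ 2 := by norm_num
      rw [e] at h18
      rcases (Nat.Prime.dvd_mul hrp).mp h18 with h | h
      · exact hr2 h
      · exact hr3 (Nat.Prime.dvd_of_dvd_pow hrp h)
    · apply (Subgroup.card_eq_iff_eq_top C).mp
      rw [hk', hR]; norm_num
  intro h hh
  have : (⟨h, hh⟩ : R) ∈ C := by rw [hCtop]; exact Subgroup.mem_top _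
  have this' : h ∈ Subgroup.centralizer {y} := this
  exact (Subgroup.mem_centralizer_iff.mp this') y rfl

end act

theorem omega_ne (h3 : (3 : F) ≠ 0) (ω : F) (hω : ω ^ 2 + ω + 1 = 0) :
    ω ≠ 1 ∧ ω ^ 2 ≠ 1 ∧ ω ^ 2 ≠ ω := by
  have hω3 : ω ^ 3 = 1 := by linear_combination (ω - 1) * hω
  have h1 : ω ≠ 1 := by
    intro h; rw [h] at hω; apply h3; linear_combination hω
  refine ⟨h1, ?_, ?_⟩
  · intro h
    apply h1
    have : ω ^ 3 = ω := by rw [pow_succ, h, one_mul]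
    rw [hω3] at this; exact this.symm
  · intro h
    have h0 : ω * (ω - 1) = 0 := by linear_combination h
    rcases mul_eq_zero.mp h0 with h' | h'
    · rw [h'] at hω; simp at hω
    · exact h1 (sub_eq_zero.mp h')

theorem scalar_of_comm (h3 : (3 : F) ≠ 0) (ω : F) (hω : ω ^ 2 + ω + 1 = 0) (Y : Matrix (Fin 3) (Fin 3) F)
    (h1 : Y * A₀ ω = A₀ ω * Y) (h2 : Y * B₀ F = B₀ F * Y) :
    ∃ c : F, Y = c • (1 : Matrix (Fin 3) (Fin 3) F) := by
  obtain ⟨hω1, hω21, hω2ω⟩ := omega_ne h3 ω hω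
  have e01 := congr_fun (congr_fun h1 0) 1
  have e02 := congr_fun (congr_fun h1 0) 2
  have e10 := congr_fun (congr_fun h1 1) 0
  have e12 := congr_fun (congr_fun h1 1) 2
  have e20 := congr_fun (congr_fun h1 2) 0
  have e21 := congr_fun (congr_fun h1 2) 1
  have f10 := congr_fun (congr_fun h2 1) 0
  have f21 := congr_fun (congr_fun h2 2) 1
  simp [A₀, Matrix.mul_apply, Fin.sum_univ_three, Matrix.diagonal] at e01 e02 e10 e12 e20 e21
  simp [B₀, Matrix.mul_apply, Fin.sum_univ_three] at f10 f21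
  have z01 : Y 0 1 = 0 := by
    have : Y 0 1 * (ω - 1) = 0 := by linear_combination e01
    exact (mul_eq_zero.mp this).resolve_right (sub_ne_zero.mpr hω1)
  have z02 : Y 0 2 = 0 := by
    have : Y 0 2 * (ω ^ 2 - 1) = 0 := by linear_combination e02
    exact (mul_eq_zero.mp this).resolve_right (sub_ne_zero.mpr hω21)
  have z10 : Y 1 0 = 0 := by
    have : Y 1 0 * (ω - 1) = 0 := by linear_combination -e10
    exact (mul_eq_zero.mp this).resolve_right (sub_ne_zero.mpr hω1)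
  have z12 : Y 1 2 = 0 := by
    have : Y 1 2 * (ω ^ 2 - ω) = 0 := by linear_combination e12
    exact (mul_eq_zero.mp this).resolve_right (sub_ne_zero.mpr hω2ω)
  have z20 : Y 2 0 = 0 := by
    have : Y 2 0 * (ω ^ 2 - 1) = 0 := by linear_combination -e20
    exact (mul_eq_zero.mp this).resolve_right (sub_ne_zero.mpr hω21)
  have z21 : Y 2 1 = 0 := by
    have : Y 2 1 * (ω ^ 2 - ω) = 0 := by linear_combination -e21
    exact (mul_eq_zero.mp this).resolve_right (sub_ne_zero.mpr hω2ω)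
  refine ⟨Y 0 0, ?_⟩
  ext i j
  fin_cases i <;> fin_cases j <;> simp [z01, z02, z10, z12, z20, z21]
  · exact f10
  · rw [f21, f10]

theorem sign_pattern (e : F) (d : Fin 3 → F) (hd : ∀ i, d i = e ∨ d i = -e) :
    (∀ i, d i = d 0) ∨ ∃ (e' : F) (k : Fin 3), (e' = e ∨ e' = -e) ∧ d = fun i => if i = k then e' else -e' := by
  rcases hd 0 with h0 | h0 <;> rcases hd 1 with h1 | h1 <;> rcases hd 2 with h2 | h2
  · left; intro i; fin_cases i <;> simp [h0, h1, h2]
  · right; exact ⟨-e, 2, Or.inr rfl, by funext i; fin_cases i <;> simp [h0, h1, h2]⟩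
  · right; exact ⟨-e, 1, Or.inr rfl, by funext i; fin_cases i <;> simp [h0, h1, h2]⟩
  · right; exact ⟨e, 0, Or.inl rfl, by funext i; fin_cases i <;> simp [h0, h1, h2]⟩
  · right; exact ⟨-e, 0, Or.inr rfl, by funext i; fin_cases i <;> simp [h0, h1, h2]⟩
  · right; exact ⟨e, 1, Or.inl rfl, by funext i; fin_cases i <;> simp [h0, h1, h2]⟩
  · right; exact ⟨e, 2, Or.inl rfl, by funext i; fin_cases i <;> simp [h0, h1, h2]⟩
  · left; intro i; fin_cases i <;> simp [h0, h1, h2]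

theorem exists_omega [Fintype F] (h : 3 ∣ Fintype.card F - 1) : ∃ ω : F, ω ^ 2 + ω + 1 = 0 := by
  classical
  have hc : Nat.card Fˣ = Fintype.card F - 1 := by rw [Nat.card_units, Nat.card_eq_fintype_card]
  have : Fact (Nat.Prime 3) := ⟨Nat.prime_three⟩
  obtain ⟨u, hu⟩ := exists_prime_orderOf_dvd_card' (G := Fˣ) 3 (by rw [hc]; exact h)
  have hu3 : (u : F) ^ 3 = 1 := by
    have := pow_orderOf_eq_one u
    rw [hu] at this
    have := congrArg Units.val this
    simpa using this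
  have hu1 : (u : F) ≠ 1 := by
    intro h1
    have : u = 1 := Units.ext h1
    rw [this, orderOf_one] at hu
    norm_num at hu
  refine ⟨u, ?_⟩
  have : ((u : F) - 1) * ((u : F) ^ 2 + u + 1) = 0 := by linear_combination hu3
  exact (mul_eq_zero.mp this).resolve_left (sub_ne_zero.mpr hu1)

theorem exists_cube_root [Fintype F] (h9 : 9 ∣ Fintype.card F - 1) (c : F) (hc : c ^ 3 = 1) :
    ∃ κ : F, κ ≠ 0 ∧ κ ^ 3 = c := by
  classical
  have hcard : Nat.card Fˣ = Fintype.card F - 1 := by rw [Nat.card_units, Nat.card_eq_fintype_card]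
  have hc0 : c ≠ 0 := by
    intro h; rw [h] at hc; simp at hc
  obtain ⟨g, hg⟩ := IsCyclic.exists_generator (α := Fˣ)
  have hog : orderOf g = Fintype.card F - 1 := by
    rw [← hcard]; exact orderOf_eq_card_of_forall_mem_zpowers hg
  have hmem := hg (Units.mk0 c hc0)
  rw [← mem_powers_iff_mem_zpowers] at hmem
  obtain ⟨m, hm⟩ := hmem
  have hm' : g ^ m = Units.mk0 c hc0 := hm
  have h1 : g ^ (m * 3) = 1 := by
    rw [pow_mul, hm']
    apply Units.ext
    simpa using hc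
  have hdvd : Fintype.card F - 1 ∣ m * 3 := by rw [← hog]; exact orderOf_dvd_of_pow_eq_one h1
  obtain ⟨n, hn⟩ := h9
  rw [hn] at hdvd
  have h3m : 3 ∣ m := by
    have : 9 * n ∣ m * 3 := hdvd
    have h93 : 3 * 3 ∣ m * 3 := Dvd.dvd.trans (Dvd.intro n rfl) this
    exact Nat.dvd_of_mul_dvd_mul_right (by norm_num) h93
  obtain ⟨m', rfl⟩ := h3m
  refine ⟨((g ^ m' : Fˣ) : F), Units.ne_zero _, ?_⟩
  have : (g ^ m') ^ 3 = Units.mk0 c hc0 := by rw [← pow_mul, mul_comm]; exact hm'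
  have := congrArg Units.val this
  simpa using this


theorem det_eq_of_conj (x : GL (Fin 3) F) (P D : Matrix (Fin 3) (Fin 3) F) (hP : IsUnit P.det)
    (h : (x : Matrix (Fin 3) (Fin 3) F) * P = P * D) : (x : Matrix (Fin 3) (Fin 3) F).det = D.det := by
  have := congrArg Matrix.det h
  rw [Matrix.det_mul, Matrix.det_mul, mul_comm] at this
  exact mul_left_cancel₀ hP.ne_zero this

theorem Std.le_specialLinear (S : Std R ω P a b z) : R ≤ Cfsg.Geo.specialLinear (Fin 3) F := by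
  have hω3 : ω ^ 3 = 1 := by linear_combination (ω - 1) * S.hω
  conv_lhs => rw [S.hcl]
  rw [Subgroup.closure_le]
  rintro x (rfl | rfl)
  · show x ∈ Cfsg.Geo.specialLinear (Fin 3) F
    rw [mem_specialLinear_iff, det_eq_of_conj x P _ S.hP S.haP]
    unfold A₀
    rw [Matrix.det_diagonal, Fin.prod_univ_three]
    simp
    linear_combination hω3
  · show x ∈ Cfsg.Geo.specialLinear (Fin 3) F
    rw [mem_specialLinear_iff, det_eq_of_conj x P _ S.hP S.hbP]
    simp [B₀, Matrix.det_fin_three]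

theorem Std.scalar_of_centralizes (S : Std R ω P a b z) (h3 : (3 : F) ≠ 0) (y : GL (Fin 3) F)
    (hya : y * a = a * y) (hyb : y * b = b * y) :
    ∃ c : F, (y : Matrix (Fin 3) (Fin 3) F) = c • (1 : Matrix (Fin 3) (Fin 3) F) := by
  have hPinv : P * P⁻¹ = 1 := Matrix.mul_nonsing_inv P S.hP
  have hPinv' : P⁻¹ * P = 1 := Matrix.nonsing_inv_mul P S.hP
  obtain ⟨Y, hY⟩ : ∃ Y : Matrix (Fin 3) (Fin 3) F, Y = P⁻¹ * (y : Matrix (Fin 3) (Fin 3) F) * P := ⟨_, rfl⟩
  have hyY : (y : Matrix (Fin 3) (Fin 3) F) * P = P * Y := by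
    rw [hY, ← Matrix.mul_assoc, ← Matrix.mul_assoc, hPinv, Matrix.one_mul]
  have key : ∀ (w : GL (Fin 3) F) (W : Matrix (Fin 3) (Fin 3) F),
      (w : Matrix (Fin 3) (Fin 3) F) * P = P * W → y * w = w * y → Y * W = W * Y := by
    intro w W hw hc
    have hcm : (y : Matrix (Fin 3) (Fin 3) F) * (w : Matrix (Fin 3) (Fin 3) F)
        = (w : Matrix (Fin 3) (Fin 3) F) * (y : Matrix (Fin 3) (Fin 3) F) := by
      rw [← Units.val_mul, ← Units.val_mul, hc]
    have e : P * (Y * W) = P * (W * Y) := by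
      calc P * (Y * W) = (P * Y) * W := by rw [Matrix.mul_assoc]
        _ = (y : Matrix (Fin 3) (Fin 3) F) * (P * W) := by rw [← hyY, Matrix.mul_assoc]
        _ = (y : Matrix (Fin 3) (Fin 3) F) * (w : Matrix (Fin 3) (Fin 3) F) * P := by
            rw [← hw, Matrix.mul_assoc]
        _ = (w : Matrix (Fin 3) (Fin 3) F) * (P * Y) := by rw [hcm, Matrix.mul_assoc, hyY]
        _ = P * (W * Y) := by rw [← Matrix.mul_assoc, hw, Matrix.mul_assoc]
    calc Y * W = (P⁻¹ * P) * (Y * W) := by rw [hPinv', Matrix.one_mul]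
      _ = P⁻¹ * (P * (Y * W)) := by rw [Matrix.mul_assoc]
      _ = P⁻¹ * (P * (W * Y)) := by rw [e]
      _ = W * Y := by rw [← Matrix.mul_assoc, hPinv', Matrix.one_mul]
  obtain ⟨c, hc⟩ := scalar_of_comm h3 ω S.hω Y (key a _ S.haP hya) (key b _ S.hbP hyb)
  refine ⟨c, ?_⟩
  calc (y : Matrix (Fin 3) (Fin 3) F) = (y : Matrix (Fin 3) (Fin 3) F) * (P * P⁻¹) := by
        rw [hPinv, Matrix.mul_one]
    _ = (P * Y) * P⁻¹ := by rw [← Matrix.mul_assoc, hyY]
    _ = c • (1 : Matrix (Fin 3) (Fin 3) F) := by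
        rw [hc, Matrix.mul_smul, Matrix.mul_one, Matrix.smul_mul, hPinv]

theorem result {F : Type*} [Field F] [Fintype F] {p : ℕ} [Fact p.Prime] [CharP F p] (hF : Fintype.card F = p) (hp3 : p % 3 = 1)
    (R : Subgroup (GL (Fin 3) F)) (hR : Nat.card R = 27) (hRe : Monoid.exponent R = 3) (hRna : ¬ IsMulCommutative R)
    (r : ℕ) [Fact r.Prime]
    (hΩ : r ∣ (Cfsg.Geo.subgroupNormalizer R).relIndex (Cfsg.Geo.specialLinear (Fin 3) F)) :
    (∀ x ∈ Cfsg.Geo.specialLinear (Fin 3) F, (∃ z : F, ((x ^ r : GL (Fin 3) F) : Matrix (Fin 3) (Fin 3) F) = z • (1 : Matrix (Fin 3) (Fin 3) F)) →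
      (∀ z : F, (x : Matrix (Fin 3) (Fin 3) F) ≠ z • (1 : Matrix (Fin 3) (Fin 3) F)) →
      ∃ g ∈ Cfsg.Geo.specialLinear (Fin 3) F, g⁻¹ * x * g ∈ Cfsg.Geo.subgroupNormalizer R) ↔ (r = 2 ∨ (r = 3 ∧ p % 9 = 1)) := by
  classical
  have hpp : p.Prime := Fact.out
  have hrp : r.Prime := Fact.out
  have hp7 : 7 ≤ p := by
    have h2 := hpp.two_le
    rcases Nat.lt_or_ge p 7 with h | h
    · interval_cases p
      all_goals first | omega | exact absurd hpp (by norm_num)
    · exact h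
  have hne : ∀ n : ℕ, 0 < n → n < 7 → ((n : ℕ) : F) ≠ 0 := by
    intro n hn0 hn7 h
    rw [CharP.cast_eq_zero_iff F p] at h
    have := Nat.le_of_dvd hn0 h
    omega
  have h2 : (2 : F) ≠ 0 := by exact_mod_cast hne 2 (by norm_num) (by norm_num)
  have h3 : (3 : F) ≠ 0 := by exact_mod_cast hne 3 (by norm_num) (by norm_num)
  obtain ⟨ω₀, hω₀⟩ : ∃ ω₀ : F, ω₀ ^ 2 + ω₀ + 1 = 0 := by
    apply exists_omega
    rw [hF]; omega
  have hfinR : Finite R := inferInstance
  obtain ⟨ω, P, a, b, z, hω, hP, ha, hb, hz, hcl, hzs, haP, hbP⟩ := setup h3 ω₀ hω₀ R hR hRe hRna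
  have S : Std R ω P a b z := ⟨hω, hP, ha, hb, hz, hcl, hzs, haP, hbP⟩
  constructor
  · intro hall
    by_contra hcon
    push Not at hcon
    obtain ⟨hr2, hr3⟩ := hcon
    by_cases hr3' : r = 3
    · -- number theory: 3 does not divide the index
      have hp9 := hr3 hr3'
      rw [hr3'] at hΩ
      have hRSL : R ≤ Cfsg.Geo.specialLinear (Fin 3) F := S.le_specialLinear
      have hRN : R ≤ Cfsg.Geo.subgroupNormalizer R := Subgroup.le_normalizer
      have h27 : 27 ∣ Nat.card ((Cfsg.Geo.subgroupNormalizer R).subgroupOf (Cfsg.Geo.specialLinear (Fin 3) F)) := by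
        have h1 : Nat.card (R.subgroupOf (Cfsg.Geo.specialLinear (Fin 3) F)) = 27 := by
          rw [Nat.card_congr (Subgroup.subgroupOfEquivOfLe hRSL).toEquiv, hR]
        rw [← h1]
        exact Subgroup.card_dvd_of_le (Subgroup.subgroupOf_mono _ hRN)
      have hmul := Subgroup.card_mul_index
        ((Cfsg.Geo.subgroupNormalizer R).subgroupOf (Cfsg.Geo.specialLinear (Fin 3) F))
      have h81 : 81 ∣ Nat.card (Cfsg.Geo.specialLinear (Fin 3) F) := by
        rw [← hmul]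
        have : (81 : ℕ) = 27 * 3 := by norm_num
        rw [this]
        exact Nat.mul_dvd_mul h27 hΩ
      have hcardSL := card_SL3 (F := F)
      rw [hF] at hcardSL
      obtain ⟨t, ht⟩ : ∃ t, p = 3 * t + 1 := ⟨p / 3, by omega⟩
      have ht3 : t % 3 ≠ 0 := by omega
      rw [ht] at hcardSL
      exact not_81_dvd t _ ht3 hcardSL h81
    · -- r ≥ 5
      have hr5 : 5 ≤ r := by
        have := hrp.two_le
        rcases Nat.lt_or_ge r 5 with h | h
        · interval_cases r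
          · exact absurd rfl hr2
          · exact absurd rfl hr3'
          · exact absurd hrp (by norm_num)
        · exact h
      have hdvd : r ∣ Nat.card (Cfsg.Geo.specialLinear (Fin 3) F) :=
        dvd_trans hΩ (Subgroup.relIndex_dvd_card _ _)
      obtain ⟨x, hx⟩ := exists_prime_orderOf_dvd_card' r hdvd
      have hxo : orderOf (x : GL (Fin 3) F) = r := by rw [Subgroup.orderOf_coe]; exact hx
      have hxr : (x : GL (Fin 3) F) ^ r = 1 := by rw [← hxo]; exact pow_orderOf_eq_one _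
      have hdetx : ((x : GL (Fin 3) F) : Matrix (Fin 3) (Fin 3) F).det = 1 :=
        (mem_specialLinear_iff _).mp x.2
      have hns : ∀ c : F, ((x : GL (Fin 3) F) : Matrix (Fin 3) (Fin 3) F) ≠ c • (1 : Matrix (Fin 3) (Fin 3) F) := by
        intro c hc
        have hc3 : c ^ 3 = 1 := by
          have := hdetx
          rw [hc, Matrix.det_smul, Matrix.det_one, Fintype.card_fin, mul_one] at this
          exact this
        have hx3 : (x : GL (Fin 3) F) ^ 3 = 1 := by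
          apply Units.ext
          rw [Units.val_pow_eq_pow_val, hc, smul_pow, one_pow, hc3, one_smul, Units.val_one]
        have : r ∣ 3 := by rw [← hxo]; exact orderOf_dvd_of_pow_eq_one hx3
        have := Nat.le_of_dvd (by norm_num) this
        omega
      obtain ⟨g, hg, hmem⟩ := hall x x.2 ⟨1, by rw [hxr, Units.val_one, one_smul]⟩ hns
      obtain ⟨y, hy⟩ : ∃ y : GL (Fin 3) F, y = g⁻¹ * x * g := ⟨_, rfl⟩
      rw [← hy] at hmem
      have hyo : orderOf y = r := by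
        rw [hy, ← hxo]
        have : g⁻¹ * (x : GL (Fin 3) F) * g = MulAut.conj g⁻¹ (x : GL (Fin 3) F) := by
          rw [MulAut.conj_apply, inv_inv]
        rw [this, MulEquiv.orderOf_eq]
      have hz1 : z ≠ 1 := by
        intro h
        have := hzs
        rw [h, Units.val_one] at this
        have h1 : (1 : F) • (1 : Matrix (Fin 3) (Fin 3) F) = ω • 1 := by rw [one_smul]; exact this
        have := congr_fun (congr_fun h1 0) 0
        simp at this
        exact (omega_ne h3 ω hω).1 this.symm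
      have hcy : y * z = z * y := by
        apply Units.ext
        rw [Units.val_mul, Units.val_mul, hzs]
        simp
      have hcent := centralizes_of_prime_order R hR y hmem r hr5 hyo z hz hz1 hcy
      obtain ⟨c, hc⟩ := S.scalar_of_centralizes h3 y (hcent a ha) (hcent b hb)
      apply hns c
      have hxy : (x : GL (Fin 3) F) = g * y * g⁻¹ := by rw [hy]; group
      rw [hxy, Units.val_mul, Units.val_mul, hc, Matrix.mul_smul, Matrix.mul_one, Matrix.smul_mul,
        ← Units.val_mul, mul_inv_cancel, Units.val_one]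
  · rintro (rfl | ⟨rfl, hp9⟩)
    · -- r = 2
      intro x hx ⟨c, hc⟩ hns
      have hdetx := (mem_specialLinear_iff x).mp hx
      obtain ⟨X, hX⟩ : ∃ X : Matrix (Fin 3) (Fin 3) F, X = (x : Matrix (Fin 3) (Fin 3) F) := ⟨_, rfl⟩
      rw [← hX] at hdetx hns
      have hXX : X * X = c • 1 := by rw [← hc, hX, sq, Units.val_mul]
      have hc3 : c ^ 3 = 1 := by
        have := congrArg Matrix.det hXX
        rw [Matrix.det_mul, hdetx, Matrix.det_smul, Matrix.det_one, Fintype.card_fin, mul_one, mul_one] at this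
        exact this.symm
      have hc0 : c ≠ 0 := by
        intro h; rw [h] at hc3; simp at hc3
      have he : c ^ 2 ≠ 0 := pow_ne_zero _ hc0
      have hXX' : X * X = ((c ^ 2) ^ 2) • (1 : Matrix (Fin 3) (Fin 3) F) := by
        rw [hXX]; congr 1; linear_combination (-c) * hc3
      obtain ⟨Q, d, hQ, hd, hXQ⟩ := exists_diag X (fun μ => μ = c ^ 2 ∨ μ = -c ^ 2)
        (span_square h2 X (c ^ 2) he hXX')
      rcases sign_pattern (c ^ 2) d hd with hall | ⟨e', k, he', hdk⟩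
      · exfalso
        apply hns (d 0)
        have hdiag : Matrix.diagonal d = (d 0) • (1 : Matrix (Fin 3) (Fin 3) F) := by
          ext i j
          by_cases hij : i = j
          · subst hij; simp [hall i]
          · simp [hij, Matrix.one_apply_ne hij]
        have hQinv : Q * Q⁻¹ = 1 := Matrix.mul_nonsing_inv Q hQ
        calc X = X * (Q * Q⁻¹) := by rw [hQinv, Matrix.mul_one]
          _ = (X * Q) * Q⁻¹ := by rw [Matrix.mul_assoc]
          _ = (d 0) • (1 : Matrix (Fin 3) (Fin 3) F) := by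
              rw [hXQ, hdiag, Matrix.mul_smul, Matrix.mul_one, Matrix.smul_mul, hQinv]
      · have he'0 : e' ≠ 0 := by
          rcases he' with h | h
          · rw [h]; exact he
          · rw [h]; exact neg_ne_zero.mpr he
        obtain ⟨y, hyN, P', hP', hyP'⟩ := S.invol_mem_normalizer h2 e' he'0 k
        rw [hX] at hXQ
        exact conj_of_diag _ x y hyN Q P' hQ hP' d hXQ (by rw [hdk]; exact hyP')
    · -- r = 3
      intro x hx ⟨c, hc⟩ _
      have hdetx := (mem_specialLinear_iff x).mp hx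
      obtain ⟨X, hX⟩ : ∃ X : Matrix (Fin 3) (Fin 3) F, X = (x : Matrix (Fin 3) (Fin 3) F) := ⟨_, rfl⟩
      rw [← hX] at hdetx
      have hXXX : X * X * X = c • 1 := by
        rw [← hc, hX, pow_succ, pow_succ, pow_one, Units.val_mul, Units.val_mul]
      have hc3 : c ^ 3 = 1 := by
        have := congrArg Matrix.det hXXX
        rw [Matrix.det_mul, Matrix.det_mul, hdetx, Matrix.det_smul, Matrix.det_one, Fintype.card_fin, mul_one,
          mul_one, mul_one] at this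
        exact this.symm
      have hc0 : c ≠ 0 := by
        intro h; rw [h] at hc3; simp at hc3
      obtain ⟨κ, hκ0, hκ⟩ := exists_cube_root (F := F) (by rw [hF]; omega) c hc3
      rw [← hκ] at hXXX
      obtain ⟨Q, d, hQ, hd, hXQ⟩ := exists_diag X (fun μ => μ ^ 3 = κ ^ 3)
        (span_cube h3 ω hω X κ hκ0 hXXX)
      obtain ⟨y, hyN, hyP⟩ := S.diag_mem_normalizer d (κ ^ 3) (pow_ne_zero _ hκ0) hd
      rw [hX] at hXQ
      exact conj_of_diag _ x y hyN Q P hQ S.hP d hXQ hyP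

end Cfsg.Agent.S5998
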