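import Cfsg.Statements.S5999
import Cfsg.Agent.S5998
import Mathlib

set_option autoImplicit false
open scoped MatrixGroups Matrix
open Cfsg Cfsg.Agent.S5998

namespace Cfsg.Agent.S5999

variable {F : Type*} [Field F]

/-- unitary matrices with respect to a ring endomorphism `σ` -/
def IsU (σ : F →+* F) (M : Matrix (Fin 3) (Fin 3) F) : Prop := Mᵀ * M.map σ = 1

/-- conjugate transpose -/
def ct (σ : F →+* F) (M : Matrix (Fin 3) (Fin 3) F) : Matrix (Fin 3) (Fin 3) F := (M.map σ)ᵀ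

variable {σ : F →+* F} {A B : Matrix (Fin 3) (Fin 3) F}

theorem IsU.mul (hA : IsU σ A) (hB : IsU σ B) : IsU σ (A * B) := by
  unfold IsU at *
  rw [Matrix.transpose_mul, Matrix.map_mul, Matrix.mul_assoc, ← Matrix.mul_assoc Aᵀ, hA, Matrix.one_mul, hB]

theorem IsU.one : IsU σ (1 : Matrix (Fin 3) (Fin 3) F) := by
  unfold IsU
  rw [Matrix.transpose_one, Matrix.one_mul]
  ext i j
  by_cases h : i = j
  · subst h; simp
  · simp [Matrix.one_apply_ne h]

theorem IsU.det_norm (hA : IsU σ A) : A.det * σ A.det = 1 := by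
  have := congrArg Matrix.det hA
  rw [Matrix.det_mul, Matrix.det_transpose, Matrix.det_one] at this
  rw [RingHom.map_det, RingHom.mapMatrix_apply]; exact this

theorem IsU.isUnit_det (hA : IsU σ A) : IsUnit A.det :=
  IsUnit.of_mul_eq_one _ hA.det_norm

theorem map_map_invol (hσ : ∀ x, σ (σ x) = x) (M : Matrix (Fin 3) (Fin 3) F) : (M.map σ).map σ = M := by
  ext i j; simp [hσ]

theorem IsU.ct_mul (hσ : ∀ x, σ (σ x) = x) (hA : IsU σ A) : ct σ A * A = 1 := by
  unfold IsU at hA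
  have := congrArg (fun M : Matrix (Fin 3) (Fin 3) F => M.map σ) hA
  rw [Matrix.map_mul, map_map_invol hσ, Matrix.transpose_map] at this
  unfold ct
  rw [this]
  ext i j
  by_cases h : i = j
  · subst h; simp
  · simp [Matrix.one_apply_ne h]

theorem IsU.mul_ct (hσ : ∀ x, σ (σ x) = x) (hA : IsU σ A) : A * ct σ A = 1 :=
  _root_.mul_eq_one_comm.mp (hA.ct_mul hσ)

theorem IsU.ct (hσ : ∀ x, σ (σ x) = x) (hA : IsU σ A) : IsU σ (ct σ A) := by
  unfold IsU Cfsg.Agent.S5999.ct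
  rw [Matrix.transpose_transpose, Matrix.transpose_map, map_map_invol hσ]
  exact _root_.mul_eq_one_comm.mp hA

theorem herm_eq (p : ℕ) [Fact p.Prime] [CharP F p] (u v : Fin 3 → F) :
    Cfsg.hermForm 3 F p u v = u ⬝ᵥ (frobenius F p ∘ v) := by
  unfold Cfsg.hermForm dotProduct
  simp [frobenius_def]

theorem herm_mulVec (M : Matrix (Fin 3) (Fin 3) F) (u v : Fin 3 → F) :
    (M *ᵥ u) ⬝ᵥ (σ ∘ (M *ᵥ v)) = u ⬝ᵥ ((Mᵀ * M.map σ) *ᵥ (σ ∘ v)) := by
  have h1 : σ ∘ (M *ᵥ v) = M.map σ *ᵥ (σ ∘ v) := by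
    funext i
    exact RingHom.map_mulVec σ M v i
  rw [h1, ← Matrix.mulVec_mulVec, Matrix.dotProduct_mulVec u, Matrix.vecMul_transpose]

theorem mem_GU_iff (p : ℕ) [Fact p.Prime] [CharP F p] (x : GL (Fin 3) F) :
    x ∈ Cfsg.GU 3 F p ↔ IsU (frobenius F p) (x : Matrix (Fin 3) (Fin 3) F) := by
  show (∀ u v, Cfsg.hermForm 3 F p ((x : Matrix (Fin 3) (Fin 3) F) *ᵥ u) ((x : Matrix (Fin 3) (Fin 3) F) *ᵥ v)
    = Cfsg.hermForm 3 F p u v) ↔ _
  constructor
  · intro h
    unfold IsU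
    ext i j
    have := h (Pi.single i 1) (Pi.single j 1)
    rw [herm_eq, herm_eq, herm_mulVec] at this
    have e : (frobenius F p) ∘ (Pi.single j (1 : F)) = Pi.single j 1 := by
      funext k
      by_cases hk : k = j
      · subst hk; simp
      · simp [Pi.single_eq_of_ne hk]
    rw [e, single_one_dotProduct, Matrix.mulVec_single_one, single_one_dotProduct] at this
    rw [Matrix.one_apply, ← Pi.single_apply, ← this]
    rfl
  · intro h u v
    rw [herm_eq, herm_eq, herm_mulVec, h, Matrix.one_mulVec]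

variable {σ : F →+* F} {A B : Matrix (Fin 3) (Fin 3) F}

/-- an involutive field automorphism with surjective norm -/
structure Inv (σ : F →+* F) : Prop where
  invol : ∀ x, σ (σ x) = x
  surj : ∀ t, t ≠ 0 → σ t = t → ∃ l, l * σ l = t

theorem IsU.submatrix (π : Equiv.Perm (Fin 3)) (hA : IsU σ A) : IsU σ (A.submatrix π id) := by
  unfold IsU at *
  ext j k
  have := congr_fun (congr_fun hA j) k
  rw [Matrix.mul_apply] at this
  rw [Matrix.mul_apply, ← this]
  exact Equiv.sum_comp π (fun i => Aᵀ j i * A.map σ i k)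

theorem ext_aux (hσ : Inv σ) (a0 a1 a2 : F) (h1 : a0 * σ a0 + a1 * σ a1 + a2 * σ a2 = 1)
    (h01 : a0 * σ a0 + a1 * σ a1 ≠ 0) :
    ∃ Q : Matrix (Fin 3) (Fin 3) F, IsU σ Q ∧ Q 0 2 = a0 ∧ Q 1 2 = a1 ∧ Q 2 2 = a2 := by
  obtain ⟨b0, hb0⟩ : ∃ b0, b0 = σ a0 := ⟨_, rfl⟩
  obtain ⟨b1, hb1⟩ : ∃ b1, b1 = σ a1 := ⟨_, rfl⟩
  obtain ⟨b2, hb2⟩ : ∃ b2, b2 = σ a2 := ⟨_, rfl⟩
  have ha0 : σ b0 = a0 := by rw [hb0, hσ.invol]
  have ha1 : σ b1 = a1 := by rw [hb1, hσ.invol]
  have ha2 : σ b2 = a2 := by rw [hb2, hσ.invol]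
  rw [← hb0, ← hb1, ← hb2] at h1
  rw [← hb0, ← hb1] at h01
  have hn : σ (a0 * b0 + a1 * b1)⁻¹ = (a0 * b0 + a1 * b1)⁻¹ := by
    rw [map_inv₀, map_add, map_mul, map_mul, ha0, ha1, ← hb0, ← hb1, mul_comm b0, mul_comm b1]
  obtain ⟨l, hl⟩ := hσ.surj _ (inv_ne_zero h01) hn
  obtain ⟨m, hm⟩ : ∃ m, m = σ l := ⟨_, rfl⟩
  have hlm : σ m = l := by rw [hm, hσ.invol]
  rw [← hm] at hl
  have h2 : l * m * (a0 * b0 + a1 * b1) = 1 := by
    rw [hl, inv_mul_cancel₀ h01]
  refine ⟨!![-l * b1, m * (-b2 * a0), a0; l * b0, m * (-b2 * a1), a1; 0, m * (a0 * b0 + a1 * b1), a2], ?_,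
    rfl, rfl, rfl⟩
  have hmap : (!![-l * b1, m * (-b2 * a0), a0; l * b0, m * (-b2 * a1), a1;
        0, m * (a0 * b0 + a1 * b1), a2] : Matrix (Fin 3) (Fin 3) F).map σ
      = !![-m * a1, l * (-a2 * b0), b0; m * a0, l * (-a2 * b1), b1; 0, l * (a0 * b0 + a1 * b1), b2] := by
    ext i j
    fin_cases i <;> fin_cases j <;>
      simp [-mul_eq_mul_left_iff, ha0, ha1, ha2, hlm, ← hb0, ← hb1, ← hb2, ← hm] <;> ring
  unfold IsU
  rw [hmap]
  ext i j
  fin_cases i <;> fin_cases j <;> simp [Matrix.mul_apply, Fin.sum_univ_three]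
  · linear_combination h2
  · ring
  · ring
  · ring
  · linear_combination (a2 * b2 + a0 * b0 + a1 * b1) * h2 + h1
  · ring
  · ring
  · ring
  · linear_combination h1

theorem ext_unit (hσ : Inv σ) (h2 : (2 : F) ≠ 0) (v : Fin 3 → F) (hv : ∑ i, v i * σ (v i) = 1) :
    ∃ Q : Matrix (Fin 3) (Fin 3) F, IsU σ Q ∧ ∀ i, Q i 2 = v i := by
  rw [Fin.sum_univ_three] at hv
  by_cases h01 : v 0 * σ (v 0) + v 1 * σ (v 1) ≠ 0
  · obtain ⟨Q, hQ, e0, e1, e2⟩ := ext_aux hσ (v 0) (v 1) (v 2) hv h01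
    refine ⟨Q, hQ, fun i => ?_⟩
    fin_cases i
    · exact e0
    · exact e1
    · exact e2
  by_cases h02 : v 0 * σ (v 0) + v 2 * σ (v 2) ≠ 0
  · obtain ⟨Q, hQ, e0, e1, e2⟩ := ext_aux hσ (v 0) (v 2) (v 1) (by linear_combination hv) h02
    refine ⟨Q.submatrix (Equiv.swap (1 : Fin 3) 2) id, hQ.submatrix _, fun i => ?_⟩
    fin_cases i
    · exact e0
    · exact e2
    · exact e1
  by_cases h12 : v 1 * σ (v 1) + v 2 * σ (v 2) ≠ 0
  · obtain ⟨Q, hQ, e0, e1, e2⟩ := ext_aux hσ (v 1) (v 2) (v 0) (by linear_combination hv) h12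
    refine ⟨Q.submatrix ((Equiv.swap (0 : Fin 3) 1 * Equiv.swap (0 : Fin 3) 2 : Equiv.Perm (Fin 3))) id, hQ.submatrix _, fun i => ?_⟩
    fin_cases i
    · exact e2
    · exact e0
    · exact e1
  exfalso
  push Not at h01 h02 h12
  apply h2
  linear_combination h01 + h02 + h12 - 2 * hv

variable {σ : F →+* F} {A B : Matrix (Fin 3) (Fin 3) F}

theorem gram_conj (X Q D : Matrix (Fin 3) (Fin 3) F) (hX : IsU σ X) (h : X * Q = Q * D) :
    Qᵀ * Q.map σ = Dᵀ * (Qᵀ * Q.map σ) * D.map σ := by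
  have e : (X * Q)ᵀ * (X * Q).map σ = Qᵀ * Q.map σ := by
    rw [Matrix.transpose_mul, Matrix.map_mul, Matrix.mul_assoc, ← Matrix.mul_assoc Xᵀ, hX, Matrix.one_mul]
  conv_lhs => rw [← e, h, Matrix.transpose_mul, Matrix.map_mul]
  simp only [Matrix.mul_assoc]

theorem gram_diag_fix (Q : Matrix (Fin 3) (Fin 3) F) (hσ : ∀ x, σ (σ x) = x) (k : Fin 3) :
    σ ((Qᵀ * Q.map σ) k k) = (Qᵀ * Q.map σ) k k := by
  rw [Matrix.mul_apply, map_sum]
  apply Finset.sum_congr rfl
  intro i _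
  rw [map_mul, Matrix.transpose_apply, Matrix.map_apply, hσ, mul_comm]

theorem gram_det (Q : Matrix (Fin 3) (Fin 3) F) (hQ : IsUnit Q.det) : (Qᵀ * Q.map σ).det ≠ 0 := by
  rw [Matrix.det_mul, Matrix.det_transpose]
  have : (Q.map σ).det = σ Q.det := by rw [RingHom.map_det, RingHom.mapMatrix_apply]
  rw [this]
  exact mul_ne_zero hQ.ne_zero ((map_ne_zero σ).mpr hQ.ne_zero)

theorem gram_orth (X Q : Matrix (Fin 3) (Fin 3) F) (d : Fin 3 → F) (hX : IsU σ X)
    (h : X * Q = Q * Matrix.diagonal d) (hd : ∀ i, d i * σ (d i) = 1) (l k : Fin 3) (hlk : d l ≠ d k) :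
    (Qᵀ * Q.map σ) l k = 0 := by
  have e := gram_conj X Q (Matrix.diagonal d) hX h
  have e' := congr_fun (congr_fun e l) k
  rw [Matrix.diagonal_transpose, Matrix.diagonal_map (map_zero σ), Matrix.mul_diagonal, Matrix.diagonal_mul] at e'
  obtain ⟨g, hg⟩ : ∃ g, g = (Qᵀ * Q.map σ) l k := ⟨_, rfl⟩
  rw [← hg] at e' ⊢
  have : g * (d k - d l) = 0 := by
    have hk := hd k
    linear_combination (d k) * e' + (d l * g) * hk
  exact (mul_eq_zero.mp this).resolve_right (sub_ne_zero.mpr (Ne.symm hlk))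

theorem three_cases (d : Fin 3 → F) : (∀ i, d i = d 0) ∨ (∀ i j, i ≠ j → d i ≠ d j) ∨
    ∃ (k : Fin 3) (e : F), (∀ l, l ≠ k → d l = e) ∧ e ≠ d k := by
  by_cases h01 : d 0 = d 1
  · by_cases h02 : d 0 = d 2
    · left; intro i; fin_cases i
      · rfl
      · exact h01.symm
      · exact h02.symm
    · right; right
      refine ⟨2, d 0, ?_, h02⟩
      intro l hl; fin_cases l
      · rfl
      · exact h01.symm
      · exact absurd rfl hl
  · by_cases h02 : d 0 = d 2
    · right; right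
      refine ⟨1, d 0, ?_, h01⟩
      intro l hl; fin_cases l
      · rfl
      · exact absurd rfl hl
      · exact h02.symm
    · by_cases h12 : d 1 = d 2
      · right; right
        refine ⟨0, d 1, ?_, fun h => h01 h.symm⟩
        intro l hl; fin_cases l
        · exact absurd rfl hl
        · rfl
        · exact h12.symm
      · right; left
        intro i j hij
        fin_cases i <;> fin_cases j <;> first | exact absurd rfl hij | assumption | (intro h; simp_all)

theorem exists_diag_unitary (hσ : Inv σ) (h2 : (2 : F) ≠ 0) (X : Matrix (Fin 3) (Fin 3) F) (hX : IsU σ X)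
    (p : F → Prop) (hp : ∀ μ, p μ → μ * σ μ = 1)
    (hspan : ∀ w : Fin 3 → F, w ∈ Submodule.span F {v : Fin 3 → F | ∃ μ, p μ ∧ X *ᵥ v = μ • v}) :
    ∃ (Q : Matrix (Fin 3) (Fin 3) F) (d : Fin 3 → F), IsU σ Q ∧ (∀ i, p (d i)) ∧
      X * Q = Q * Matrix.diagonal d := by
  obtain ⟨Q0, d0, hQ0, hd0, hXQ0⟩ := exists_diag X p hspan
  obtain ⟨G, hG⟩ : ∃ G, G = Q0ᵀ * Q0.map σ := ⟨_, rfl⟩
  have hGorth : ∀ l k, d0 l ≠ d0 k → G l k = 0 := by
    intro l k hlk; rw [hG]
    exact gram_orth X Q0 d0 hX hXQ0 (fun i => hp _ (hd0 i)) l k hlk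
  have hGdet : G.det ≠ 0 := by rw [hG]; exact gram_det Q0 hQ0
  have hGfix : ∀ k, σ (G k k) = G k k := by
    intro k; rw [hG]; exact gram_diag_fix Q0 hσ.invol k
  have hQ0inv : Q0 * Q0⁻¹ = 1 := Matrix.mul_nonsing_inv Q0 hQ0
  have hQ0inv' : Q0⁻¹ * Q0 = 1 := Matrix.nonsing_inv_mul Q0 hQ0
  rcases three_cases d0 with hall | hdist | ⟨k, e, hke, hek⟩
  · -- scalar
    refine ⟨1, d0, IsU.one, hd0, ?_⟩
    have hdiag : Matrix.diagonal d0 = (d0 0) • (1 : Matrix (Fin 3) (Fin 3) F) := by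
      ext i j
      by_cases hij : i = j
      · subst hij; simp [hall i]
      · simp [hij, Matrix.one_apply_ne hij]
    rw [Matrix.mul_one, Matrix.one_mul]
    calc X = X * (Q0 * Q0⁻¹) := by rw [hQ0inv, Matrix.mul_one]
      _ = (X * Q0) * Q0⁻¹ := by rw [Matrix.mul_assoc]
      _ = Matrix.diagonal d0 := by
          rw [hXQ0, hdiag, Matrix.mul_smul, Matrix.mul_one, Matrix.smul_mul, hQ0inv]
  · -- distinct eigenvalues
    have hGd : G = Matrix.diagonal (fun k => G k k) := by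
      ext l k
      by_cases hlk : l = k
      · subst hlk; simp
      · rw [Matrix.diagonal_apply_ne _ hlk]; exact hGorth l k (hdist l k hlk)
    have hg0 : ∀ k, G k k ≠ 0 := by
      intro k hk
      apply hGdet
      rw [hGd, Matrix.det_diagonal]
      exact Finset.prod_eq_zero (Finset.mem_univ k) hk
    have hex : ∀ k, ∃ l, l * σ l = (G k k)⁻¹ := by
      intro k
      exact hσ.surj _ (inv_ne_zero (hg0 k)) (by rw [map_inv₀, hGfix])
    choose lam hlam using hex
    refine ⟨Q0 * Matrix.diagonal lam, d0, ?_, hd0, ?_⟩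
    · unfold IsU
      rw [Matrix.transpose_mul, Matrix.map_mul, Matrix.mul_assoc, ← Matrix.mul_assoc Q0ᵀ, ← hG, hGd,
        Matrix.diagonal_transpose, Matrix.diagonal_map (map_zero σ), Matrix.diagonal_mul_diagonal,
        Matrix.diagonal_mul_diagonal, ← Matrix.diagonal_one]
      congr 1
      funext k
      have := hlam k
      have hg := hg0 k
      show lam k * (G k k * σ (lam k)) = 1
      rw [mul_comm (G k k), ← mul_assoc, this, inv_mul_cancel₀ hg]
    · rw [← Matrix.mul_assoc, hXQ0, Matrix.mul_assoc, Matrix.mul_assoc, Matrix.diagonal_mul_diagonal,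
        Matrix.diagonal_mul_diagonal]
      congr 2
      funext i; exact mul_comm _ _
  · -- exactly two equal eigenvalues
    have hGlk : ∀ l, l ≠ k → G l k = 0 := by
      intro l hl
      apply hGorth
      rw [hke l hl]; exact hek
    have hgk : G k k ≠ 0 := by
      intro h0
      apply hGdet
      apply Matrix.det_eq_zero_of_column_eq_zero k
      intro l
      by_cases hl : l = k
      · rw [hl]; exact h0
      · exact hGlk l hl
    obtain ⟨lam, hlam⟩ := hσ.surj _ (inv_ne_zero hgk) (by rw [map_inv₀, hGfix])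
    have hlam0 : σ lam ≠ 0 := by
      intro h
      rw [h, mul_zero] at hlam
      exact inv_ne_zero hgk hlam.symm
    have hGkk : G k k = ∑ i, Q0 i k * σ (Q0 i k) := by
      rw [hG, Matrix.mul_apply]; rfl
    obtain ⟨Q1, hQ1, hQ1v⟩ := ext_unit hσ h2 (fun i => lam * Q0 i k) (by
      have : ∀ i, lam * Q0 i k * σ (lam * Q0 i k) = (lam * σ lam) * (Q0 i k * σ (Q0 i k)) := by
        intro i; rw [map_mul]; ring
      simp only [this]
      rw [← Finset.mul_sum, ← hGkk, hlam, inv_mul_cancel₀ hgk])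
    obtain ⟨C, hC⟩ : ∃ C, C = Q0⁻¹ * Q1 := ⟨_, rfl⟩
    have hQ1C : Q1 = Q0 * C := by rw [hC, ← Matrix.mul_assoc, hQ0inv, Matrix.one_mul]
    have hC2 : ∀ m, C m 2 = lam * (1 : Matrix (Fin 3) (Fin 3) F) m k := by
      intro m
      rw [← hQ0inv', hC, Matrix.mul_apply, Matrix.mul_apply, Finset.mul_sum]
      apply Finset.sum_congr rfl
      intro i _
      rw [hQ1v i]; ring
    have hCk : ∀ j, j ≠ 2 → C k j = 0 := by
      intro j hj
      have h0 : (Q1ᵀ * Q1.map σ) j 2 = 0 := by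
        rw [hQ1, Matrix.one_apply_ne hj]
      have h1 : (Q1ᵀ * Q1.map σ) j 2 = σ lam * (Q1ᵀ * Q0.map σ) j k := by
        rw [Matrix.mul_apply, Matrix.mul_apply, Finset.mul_sum]
        apply Finset.sum_congr rfl
        intro i _
        rw [Matrix.map_apply, hQ1v i, map_mul, Matrix.map_apply]; ring
      have h2' : (Q1ᵀ * Q0.map σ) j k = C k j * G k k := by
        rw [hQ1C, Matrix.transpose_mul, Matrix.mul_assoc, ← hG, Matrix.mul_apply]
        rw [Finset.sum_eq_single k]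
        · rfl
        · intro m _ hm
          rw [hGlk m hm, mul_zero]
        · intro h; exact absurd (Finset.mem_univ k) h
      rw [h1, h2'] at h0
      rcases mul_eq_zero.mp h0 with h | h
      · exact absurd h hlam0
      · exact (mul_eq_zero.mp h).resolve_right hgk
    obtain ⟨l0, hl0⟩ : ∃ l0 : Fin 3, l0 ≠ k := ⟨k + 1, by fin_cases k <;> decide⟩
    have hpe : p e := by rw [← hke l0 hl0]; exact hd0 l0
    refine ⟨Q1, ![e, e, d0 k], hQ1, ?_, ?_⟩
    · intro i; fin_cases i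
      · exact hpe
      · exact hpe
      · exact hd0 k
    · have hcomm : Matrix.diagonal d0 * C = C * Matrix.diagonal ![e, e, d0 k] := by
        ext m j
        rw [Matrix.diagonal_mul, Matrix.mul_diagonal]
        by_cases hj : j = 2
        · subst hj
          rw [hC2 m]
          by_cases hm : m = k
          · subst hm; simp; ring
          · rw [Matrix.one_apply_ne hm]; simp
        · have hdj : (![e, e, d0 k] : Fin 3 → F) j = e := by
            fin_cases j
            · rfl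
            · rfl
            · exact absurd rfl hj
          rw [hdj]
          by_cases hm : m = k
          · subst hm; rw [hCk j hj]; ring
          · rw [hke m hm]; ring
      rw [hQ1C, ← Matrix.mul_assoc, hXQ0, Matrix.mul_assoc, hcomm, Matrix.mul_assoc]

variable {σ : F →+* F} {A B : Matrix (Fin 3) (Fin 3) F}

theorem IsU.diagonal (d : Fin 3 → F) (hd : ∀ i, d i * σ (d i) = 1) : IsU σ (Matrix.diagonal d) := by
  unfold IsU
  rw [Matrix.diagonal_transpose, Matrix.diagonal_map (map_zero σ), Matrix.diagonal_mul_diagonal,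
    ← Matrix.diagonal_one]
  congr 1
  funext i; exact hd i

variable {R : Subgroup (GL (Fin 3) F)} {ω : F} {P : Matrix (Fin 3) (Fin 3) F} {a b z : GL (Fin 3) F}

theorem std_unitary (S : Std R ω P a b z) (hσ : Inv σ) (h3 : (3 : F) ≠ 0) (hσω : σ ω = ω ^ 2)
    (ha : IsU σ (a : Matrix (Fin 3) (Fin 3) F)) (hb : IsU σ (b : Matrix (Fin 3) (Fin 3) F)) :
    ∃ P' : Matrix (Fin 3) (Fin 3) F, Std R ω P' a b z ∧ IsU σ P' := by
  have hω3 : ω ^ 3 = 1 := by linear_combination (ω - 1) * S.hω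
  obtain ⟨G, hG⟩ : ∃ G, G = Pᵀ * P.map σ := ⟨_, rfl⟩
  have hGA : G = (A₀ ω)ᵀ * G * (A₀ ω).map σ := by rw [hG]; exact gram_conj _ P _ ha S.haP
  have hGB : G = (B₀ F)ᵀ * G * (B₀ F).map σ := by rw [hG]; exact gram_conj _ P _ hb S.hbP
  have hA1 : (A₀ ω).map σ * A₀ ω = 1 := by
    unfold A₀
    rw [Matrix.diagonal_map (map_zero σ), Matrix.diagonal_mul_diagonal, ← Matrix.diagonal_one]
    congr 1
    funext i
    fin_cases i
    · simp
    · simp [hσω]; linear_combination hω3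
    · simp [hσω]; linear_combination (ω ^ 3 + 1) * hω3
  have hAt : (A₀ ω)ᵀ = A₀ ω := by unfold A₀; rw [Matrix.diagonal_transpose]
  have hBm : (B₀ F).map σ = B₀ F := by
    ext i j; fin_cases i <;> fin_cases j <;> simp [B₀]
  have hB1 : B₀ F * (B₀ F)ᵀ = 1 := by
    ext i j; fin_cases i <;> fin_cases j <;> simp [B₀, Matrix.mul_apply, Fin.sum_univ_three]
  have c1 : G * A₀ ω = A₀ ω * G := by
    conv_lhs => rw [hGA, hAt, Matrix.mul_assoc, hA1, Matrix.mul_one]
  have c2 : G * B₀ F = B₀ F * G := by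
    conv_rhs => rw [hGB, hBm, ← Matrix.mul_assoc, ← Matrix.mul_assoc, hB1, Matrix.one_mul]
  obtain ⟨γ, hγ⟩ := scalar_of_comm h3 ω S.hω G c1 c2
  have hGdet : G.det ≠ 0 := by rw [hG]; exact gram_det P S.hP
  have hγ0 : γ ≠ 0 := by
    intro h
    apply hGdet
    rw [hγ, h, zero_smul]; simp
  have hγfix : σ γ = γ := by
    have := gram_diag_fix (σ := σ) P hσ.invol 0
    rw [← hG, hγ] at this
    simpa using this
  obtain ⟨lam, hlam⟩ := hσ.surj _ (inv_ne_zero hγ0) (by rw [map_inv₀, hγfix])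
  have hlam0 : lam ≠ 0 := by
    intro h
    rw [h, zero_mul] at hlam
    exact inv_ne_zero hγ0 hlam.symm
  refine ⟨lam • P, ⟨S.hω, ?_, S.ha, S.hb, S.hz, S.hcl, S.hzs, ?_, ?_⟩, ?_⟩
  · rw [Matrix.det_smul]
    exact IsUnit.mul (isUnit_iff_ne_zero.mpr (pow_ne_zero _ hlam0)) S.hP
  · rw [Matrix.mul_smul, Matrix.smul_mul, S.haP]
  · rw [Matrix.mul_smul, Matrix.smul_mul, S.hbP]
  · unfold IsU
    have : (lam • P).map σ = σ lam • P.map σ := by
      ext i j; simp
    rw [this, Matrix.transpose_smul, Matrix.smul_mul, Matrix.mul_smul, smul_smul, ← hG, hγ, smul_smul,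
      hlam, inv_mul_cancel₀ hγ0, one_smul]

theorem conj_of_diag_unitary (hσ : ∀ x, σ (σ x) = x) (N : Subgroup (GL (Fin 3) F)) (x y : GL (Fin 3) F)
    (hy : y ∈ N) (Q P : Matrix (Fin 3) (Fin 3) F) (hQ : IsU σ Q) (hP : IsU σ P) (d : Fin 3 → F)
    (hx : (x : Matrix (Fin 3) (Fin 3) F) * Q = Q * Matrix.diagonal d)
    (hyP : (y : Matrix (Fin 3) (Fin 3) F) * P = P * Matrix.diagonal d) :
    ∃ g : GL (Fin 3) F, IsU σ (g : Matrix (Fin 3) (Fin 3) F) ∧ g ∈ Cfsg.Geo.specialLinear (Fin 3) F ∧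
      g⁻¹ * x * g ∈ N := by
  have hQ0 : Q.det ≠ 0 := hQ.isUnit_det.ne_zero
  have hP0 : P.det ≠ 0 := hP.isUnit_det.ne_zero
  have hPinv : P * ct σ P = 1 := hP.mul_ct hσ
  have hPinv' : ct σ P * P = 1 := hP.ct_mul hσ
  obtain ⟨C, hC⟩ : ∃ C : Matrix (Fin 3) (Fin 3) F, C = Matrix.diagonal ![P.det / Q.det, 1, 1] := ⟨_, rfl⟩
  have hCU : IsU σ C := by
    rw [hC]
    apply IsU.diagonal
    intro i
    fin_cases i
    · show P.det / Q.det * σ (P.det / Q.det) = 1
      rw [map_div₀]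
      have h1 := hP.det_norm
      have h2 := hQ.det_norm
      have hσQ : σ Q.det ≠ 0 := (map_ne_zero σ).mpr hQ0
      field_simp
      rw [h1]
      linear_combination -h2
    · simp
    · simp
  have hCD : Matrix.diagonal d * C = C * Matrix.diagonal d := by
    rw [hC, Matrix.diagonal_mul_diagonal, Matrix.diagonal_mul_diagonal]
    congr 1; funext i; exact mul_comm _ _
  have hDP : Matrix.diagonal d * ct σ P = ct σ P * (y : Matrix (Fin 3) (Fin 3) F) := by
    calc Matrix.diagonal d * ct σ P = (ct σ P * P) * Matrix.diagonal d * ct σ P := by rw [hPinv', Matrix.one_mul]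
      _ = ct σ P * (P * Matrix.diagonal d) * ct σ P := by rw [Matrix.mul_assoc (ct σ P)]
      _ = ct σ P * ((y : Matrix (Fin 3) (Fin 3) F) * P) * ct σ P := by rw [hyP]
      _ = ct σ P * (y : Matrix (Fin 3) (Fin 3) F) * (P * ct σ P) := by simp only [Matrix.mul_assoc]
      _ = ct σ P * (y : Matrix (Fin 3) (Fin 3) F) := by rw [hPinv, Matrix.mul_one]
  obtain ⟨G, hG⟩ : ∃ G : Matrix (Fin 3) (Fin 3) F, G = Q * C * ct σ P := ⟨_, rfl⟩
  have hGU : IsU σ G := by rw [hG]; exact (hQ.mul hCU).mul (hP.ct hσ)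
  have hctdet : (ct σ P).det = P.det⁻¹ := by
    have := congrArg Matrix.det hPinv'
    rw [Matrix.det_mul, Matrix.det_one] at this
    exact eq_inv_of_mul_eq_one_left this
  have hGdet : G.det = 1 := by
    rw [hG, Matrix.det_mul, Matrix.det_mul, hC, Matrix.det_diagonal, Fin.prod_univ_three, hctdet]
    simp
    field_simp
  have hxG : (x : Matrix (Fin 3) (Fin 3) F) * G = G * (y : Matrix (Fin 3) (Fin 3) F) := by
    calc (x : Matrix (Fin 3) (Fin 3) F) * G
        = ((x : Matrix (Fin 3) (Fin 3) F) * Q) * C * ct σ P := by rw [hG]; simp only [Matrix.mul_assoc]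
      _ = Q * (Matrix.diagonal d * C) * ct σ P := by rw [hx]; simp only [Matrix.mul_assoc]
      _ = Q * C * (Matrix.diagonal d * ct σ P) := by rw [hCD]; simp only [Matrix.mul_assoc]
      _ = G * (y : Matrix (Fin 3) (Fin 3) F) := by rw [hDP, hG]; simp only [Matrix.mul_assoc]
  let g : GL (Fin 3) F := Matrix.GeneralLinearGroup.mkOfDetNeZero G (by rw [hGdet]; exact one_ne_zero)
  have hgv : (g : Matrix (Fin 3) (Fin 3) F) = G := rfl
  refine ⟨g, by rw [hgv]; exact hGU, (mem_specialLinear_iff g).mpr (by rw [hgv, hGdet]), ?_⟩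
  have h : x * g = g * y := Units.ext (by rw [Units.val_mul, Units.val_mul, hgv]; exact hxG)
  have : g⁻¹ * x * g = y := by rw [mul_assoc, h, ← mul_assoc, inv_mul_cancel, one_mul]
  rw [this]; exact hy

variable {σ : F →+* F} {A B : Matrix (Fin 3) (Fin 3) F}

theorem std_invol_mem_normalizer' [Finite R] (S : Std R ω P a b z) (e' : F) (he' : e' ≠ 0)
    (k : Fin 3) :
    ∃ y ∈ Cfsg.Geo.subgroupNormalizer R,
      (y : Matrix (Fin 3) (Fin 3) F) * (P * Q₂ F k) =
        (P * Q₂ F k) * Matrix.diagonal (fun i => if i = k then e' else -e') := by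
  have hω3 : ω ^ 3 = 1 := by linear_combination (ω - 1) * S.hω
  have hS₀det : (S₀ F).det = 1 := by
    simp [S₀, Matrix.det_fin_three]
  have hdet : (e' • S₀ F).det ≠ 0 := by
    rw [Matrix.det_smul, hS₀det, mul_one]
    exact pow_ne_zero _ he'
  obtain ⟨y, hy⟩ := conjP_exists P S.hP (e' • S₀ F) hdet
  refine ⟨y, ?_, ?_⟩
  · apply mem_normalizer_of_matrix R a b S.hcl ω P S.hP S.haP S.hbP y (e' • S₀ F) hy
      (a * a) (b * b) (R.mul_mem S.ha S.ha) (R.mul_mem S.hb S.hb) (A₀ ω * A₀ ω) (B₀ F * B₀ F)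
    · rw [Units.val_mul, Matrix.mul_assoc, S.haP, ← Matrix.mul_assoc, S.haP, Matrix.mul_assoc]
    · rw [Units.val_mul, Matrix.mul_assoc, S.hbP, ← Matrix.mul_assoc, S.hbP, Matrix.mul_assoc]
    · rw [Matrix.smul_mul, Matrix.mul_smul]
      congr 1
      ext i j
      fin_cases i <;> fin_cases j <;>
        simp [S₀, A₀, Matrix.mul_apply, Fin.sum_univ_three, Matrix.diagonal]
      all_goals first | ring1 | linear_combination (-ω) * hω3
    · rw [Matrix.smul_mul, Matrix.mul_smul]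
      congr 1
      ext i j
      fin_cases i <;> fin_cases j <;>
        simp [S₀, B₀, Matrix.mul_apply, Fin.sum_univ_three]
  · rw [← Matrix.mul_assoc, hy, Matrix.mul_assoc, Matrix.smul_mul, S₀_Q₂, ← Matrix.mul_smul, Matrix.mul_assoc]
    congr 2
    rw [← Matrix.diagonal_smul]
    congr 1
    funext i
    by_cases h : i = k <;> simp [h]

/-- scaling factors making the columns of `Q₂` unit vectors -/
def mm (l : F) (k : Fin 3) : Fin 3 → F := (![![l, 1, l], ![1, l, l], ![1, l, l]] : Fin 3 → Fin 3 → F) k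

/-- squared lengths of the columns of `Q₂` -/
def nn (F : Type*) [Field F] (k : Fin 3) : Fin 3 → F :=
  (![![2, 1, 2], ![1, 2, 2], ![1, 2, 2]] : Fin 3 → Fin 3 → F) k

theorem Q₂_map (k : Fin 3) : (Q₂ F k).map σ = Q₂ F k := by
  fin_cases k <;> ext i j <;> fin_cases i <;> fin_cases j <;> simp [Q₂]

theorem Q₂_gram (k : Fin 3) : (Q₂ F k)ᵀ * Q₂ F k = Matrix.diagonal (nn F k) := by
  fin_cases k <;> ext i j <;> fin_cases i <;> fin_cases j <;>
    simp [Q₂, nn, Matrix.mul_apply, Fin.sum_univ_three] <;> norm_num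

theorem Q₂_unitary (l : F) (hl : l * σ l * 2 = 1) (k : Fin 3) :
    IsU σ (Q₂ F k * Matrix.diagonal (mm l k)) := by
  unfold IsU
  rw [Matrix.transpose_mul, Matrix.map_mul, Q₂_map, Matrix.mul_assoc, ← Matrix.mul_assoc (Q₂ F k)ᵀ, Q₂_gram,
    Matrix.diagonal_transpose, Matrix.diagonal_map (map_zero σ), Matrix.diagonal_mul_diagonal,
    Matrix.diagonal_mul_diagonal, ← Matrix.diagonal_one]
  congr 1
  funext i
  fin_cases k <;> fin_cases i <;> simp [mm, nn] <;> linear_combination hl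

theorem std_invol_unitary [Finite R] (S : Std R ω P a b z) (hσ : Inv σ) (hP : IsU σ P) (h2 : (2 : F) ≠ 0)
    (e' : F) (he' : e' ≠ 0) (k : Fin 3) :
    ∃ y ∈ Cfsg.Geo.subgroupNormalizer R, ∃ P' : Matrix (Fin 3) (Fin 3) F, IsU σ P' ∧
      (y : Matrix (Fin 3) (Fin 3) F) * P' = P' * Matrix.diagonal (fun i => if i = k then e' else -e') := by
  obtain ⟨y, hyN, hy⟩ := std_invol_mem_normalizer' S e' he' k
  obtain ⟨l, hl⟩ := hσ.surj (2 : F)⁻¹ (inv_ne_zero h2) (by rw [map_inv₀, map_ofNat])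
  have hl' : l * σ l * 2 = 1 := by rw [hl, inv_mul_cancel₀ h2]
  refine ⟨y, hyN, P * (Q₂ F k * Matrix.diagonal (mm l k)), hP.mul (Q₂_unitary l hl' k), ?_⟩
  have hcomm : Matrix.diagonal (fun i => if i = k then e' else -e') * Matrix.diagonal (mm l k)
      = Matrix.diagonal (mm l k) * Matrix.diagonal (fun i => if i = k then e' else -e') := by
    rw [Matrix.diagonal_mul_diagonal, Matrix.diagonal_mul_diagonal]
    congr 1
    funext i; exact mul_comm _ _
  calc (y : Matrix (Fin 3) (Fin 3) F) * (P * (Q₂ F k * Matrix.diagonal (mm l k)))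
      = ((y : Matrix (Fin 3) (Fin 3) F) * (P * Q₂ F k)) * Matrix.diagonal (mm l k) := by
        simp only [Matrix.mul_assoc]
    _ = P * Q₂ F k * (Matrix.diagonal (fun i => if i = k then e' else -e') * Matrix.diagonal (mm l k)) := by
        rw [hy, Matrix.mul_assoc]
    _ = P * (Q₂ F k * Matrix.diagonal (mm l k)) * Matrix.diagonal (fun i => if i = k then e' else -e') := by
        rw [hcomm]; simp only [Matrix.mul_assoc]

section frob

variable [Fintype F] {p : ℕ} [Fact p.Prime] [CharP F p]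

theorem frob_inv (hF : Fintype.card F = p ^ 2) : Inv (frobenius F p) := by
  classical
  have hpp : p.Prime := Fact.out
  constructor
  · intro x
    rw [frobenius_def, frobenius_def, ← pow_mul, ← sq, ← hF, FiniteField.pow_card]
  · intro t ht0 ht
    rw [frobenius_def] at ht
    have hcard : Nat.card Fˣ = Fintype.card F - 1 := by rw [Nat.card_units, Nat.card_eq_fintype_card]
    obtain ⟨g, hg⟩ := IsCyclic.exists_generator (α := Fˣ)
    have hog : orderOf g = p ^ 2 - 1 := by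
      rw [← hF, ← hcard]; exact orderOf_eq_card_of_forall_mem_zpowers hg
    have hmem := hg (Units.mk0 t ht0)
    rw [← mem_powers_iff_mem_zpowers] at hmem
    obtain ⟨m, hm⟩ := hmem
    have hm' : g ^ m = Units.mk0 t ht0 := hm
    have hp1 : 1 ≤ p := hpp.one_lt.le
    have ht1 : t ^ (p - 1) = 1 := by
      have : t ^ (p - 1) * t = 1 * t := by
        rw [← pow_succ, Nat.sub_add_cancel hp1, ht, one_mul]
      exact mul_right_cancel₀ ht0 this
    have h1 : g ^ (m * (p - 1)) = 1 := by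
      rw [pow_mul, hm']
      apply Units.ext
      simpa using ht1
    have hdvd : p ^ 2 - 1 ∣ m * (p - 1) := by rw [← hog]; exact orderOf_dvd_of_pow_eq_one h1
    have hfac : p ^ 2 - 1 = (p + 1) * (p - 1) := by
      obtain ⟨k, rfl⟩ : ∃ k, p = k + 1 := ⟨p - 1, by omega⟩
      rw [Nat.add_sub_cancel]
      apply Nat.sub_eq_of_eq_add; ring
    rw [hfac] at hdvd
    have hpos : 0 < p - 1 := by have := hpp.two_le; omega
    have hdvd' : p + 1 ∣ m := Nat.dvd_of_mul_dvd_mul_right hpos hdvd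
    obtain ⟨m', rfl⟩ := hdvd'
    refine ⟨((g ^ m' : Fˣ) : F), ?_⟩
    rw [frobenius_def, ← pow_succ']
    have : (g ^ m') ^ (p + 1) = Units.mk0 t ht0 := by rw [← pow_mul, mul_comm]; exact hm'
    have := congrArg Units.val this
    simpa using this

theorem frob_omega (hp3 : p % 3 = 2) (ω : F) (hω3 : ω ^ 3 = 1) : frobenius F p ω = ω ^ 2 := by
  rw [frobenius_def]
  conv_lhs => rw [← Nat.div_add_mod p 3, hp3, pow_add, pow_mul, hω3, one_pow, one_mul]

theorem frob_norm_of_pow (n : ℕ) (hn : n ∣ p + 1) (μ : F) (hμ : μ ^ n = 1) : μ * frobenius F p μ = 1 := by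
  obtain ⟨k, hk⟩ := hn
  rw [frobenius_def, ← pow_succ', hk, pow_mul, hμ, one_pow]

end frob

theorem result {F : Type*} [Field F] [Fintype F] {p : ℕ} [Fact p.Prime] [CharP F p] (hF : Fintype.card F = p ^ 2) (hp : 5 ≤ p) (hp3 : p % 3 = 2)
    (R : Subgroup (GL (Fin 3) F)) (hRU : R ≤ Cfsg.GU 3 F p) (hR : Nat.card R = 27) (hRe : Monoid.exponent R = 3) (hRna : ¬ IsMulCommutative R)
    (r : ℕ) [Fact r.Prime]
    (hΩ : r ∣ (Cfsg.Geo.subgroupNormalizer R).relIndex (Cfsg.GU 3 F p ⊓ Cfsg.Geo.specialLinear (Fin 3) F)) :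
    (∀ x ∈ Cfsg.GU 3 F p ⊓ Cfsg.Geo.specialLinear (Fin 3) F, (∃ z : F, ((x ^ r : GL (Fin 3) F) : Matrix (Fin 3) (Fin 3) F) = z • (1 : Matrix (Fin 3) (Fin 3) F)) →
      (∀ z : F, (x : Matrix (Fin 3) (Fin 3) F) ≠ z • (1 : Matrix (Fin 3) (Fin 3) F)) →
      ∃ g ∈ Cfsg.GU 3 F p ⊓ Cfsg.Geo.specialLinear (Fin 3) F, g⁻¹ * x * g ∈ Cfsg.Geo.subgroupNormalizer R) ↔ (r = 2 ∨ (r = 3 ∧ p % 9 = 8)) := by
  classical
  have hpp : p.Prime := Fact.out
  have hrp : r.Prime := Fact.out
  have hne : ∀ n : ℕ, 0 < n → n < 5 → ((n : ℕ) : F) ≠ 0 := by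
    intro n hn0 hn5 h
    rw [CharP.cast_eq_zero_iff F p] at h
    have := Nat.le_of_dvd hn0 h
    omega
  have h2 : (2 : F) ≠ 0 := by exact_mod_cast hne 2 (by norm_num) (by norm_num)
  have h3 : (3 : F) ≠ 0 := by exact_mod_cast hne 3 (by norm_num) (by norm_num)
  obtain ⟨σ, hσdef⟩ : ∃ σ : F →+* F, σ = frobenius F p := ⟨_, rfl⟩
  have hσ : Inv σ := by rw [hσdef]; exact frob_inv hF
  have hGU : ∀ x : GL (Fin 3) F, x ∈ Cfsg.GU 3 F p ↔ IsU σ (x : Matrix (Fin 3) (Fin 3) F) := by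
    intro x; rw [hσdef]; exact mem_GU_iff p x
  have h3p1 : 3 ∣ p + 1 := by omega
  obtain ⟨ω₀, hω₀⟩ : ∃ ω₀ : F, ω₀ ^ 2 + ω₀ + 1 = 0 := by
    apply exists_omega
    rw [hF]
    obtain ⟨k, hk⟩ : ∃ k, p = 3 * k + 2 := ⟨p / 3, by omega⟩
    refine ⟨3 * k ^ 2 + 4 * k + 1, ?_⟩
    apply Nat.sub_eq_of_eq_add
    rw [hk]; ring
  have hfinR : Finite R := inferInstance
  obtain ⟨ω, P₀, a, b, z, hω, hP₀, ha, hb, hz, hcl, hzs, haP₀, hbP₀⟩ := setup h3 ω₀ hω₀ R hR hRe hRna
  have S₀' : Std R ω P₀ a b z := ⟨hω, hP₀, ha, hb, hz, hcl, hzs, haP₀, hbP₀⟩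
  have hω3 : ω ^ 3 = 1 := by linear_combination (ω - 1) * hω
  obtain ⟨P, S, hPU⟩ := std_unitary S₀' hσ h3 (by rw [hσdef]; exact frob_omega hp3 ω hω3)
    ((hGU a).mp (hRU ha)) ((hGU b).mp (hRU hb))
  have hnorm3 : ∀ c : F, c ^ 3 = 1 → c * σ c = 1 := by
    intro c hc; rw [hσdef]; exact frob_norm_of_pow 3 h3p1 c hc
  constructor
  · intro hall
    by_contra hcon
    push Not at hcon
    obtain ⟨hr2, hr3⟩ := hcon
    by_cases hr3' : r = 3
    · -- number theory: 3 does not divide the index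
      have hp9 := hr3 hr3'
      rw [hr3'] at hΩ
      have hRT : R ≤ Cfsg.GU 3 F p ⊓ Cfsg.Geo.specialLinear (Fin 3) F := le_inf hRU S.le_specialLinear
      have hRN : R ≤ Cfsg.Geo.subgroupNormalizer R := Subgroup.le_normalizer
      have h27 : 27 ∣ Nat.card ((Cfsg.Geo.subgroupNormalizer R).subgroupOf
          (Cfsg.GU 3 F p ⊓ Cfsg.Geo.specialLinear (Fin 3) F)) := by
        have h1 : Nat.card (R.subgroupOf (Cfsg.GU 3 F p ⊓ Cfsg.Geo.specialLinear (Fin 3) F)) = 27 := by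
          rw [Nat.card_congr (Subgroup.subgroupOfEquivOfLe hRT).toEquiv, hR]
        rw [← h1]
        exact Subgroup.card_dvd_of_le (Subgroup.subgroupOf_mono _ hRN)
      have hmul := Subgroup.card_mul_index
        ((Cfsg.Geo.subgroupNormalizer R).subgroupOf (Cfsg.GU 3 F p ⊓ Cfsg.Geo.specialLinear (Fin 3) F))
      have h81 : 81 ∣ Nat.card (Cfsg.Geo.specialLinear (Fin 3) F) := by
        refine dvd_trans ?_ (Subgroup.card_dvd_of_le
          (inf_le_right : Cfsg.GU 3 F p ⊓ Cfsg.Geo.specialLinear (Fin 3) F ≤ _))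
        rw [← hmul]
        have : (81 : ℕ) = 27 * 3 := by norm_num
        rw [this]
        exact Nat.mul_dvd_mul h27 hΩ
      have hcardSL := card_SL3 (F := F)
      rw [hF] at hcardSL
      have hq9 : p ^ 2 % 9 = 4 ∨ p ^ 2 % 9 = 7 := by
        have h : p % 9 = 2 ∨ p % 9 = 5 := by omega
        rcases h with h | h
        · left; rw [Nat.pow_mod, h]
        · right; rw [Nat.pow_mod, h]
      obtain ⟨q, hq⟩ : ∃ q, q = p ^ 2 := ⟨_, rfl⟩
      rw [← hq] at hcardSL hq9
      obtain ⟨t, ht⟩ : ∃ t, q = 3 * t + 1 := ⟨q / 3, by omega⟩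
      have ht3 : t % 3 ≠ 0 := by omega
      rw [ht] at hcardSL
      exact not_81_dvd t _ ht3 hcardSL h81
    · -- r ≥ 5
      have hr5 : 5 ≤ r := by
        have := hrp.two_le
        rcases Nat.lt_or_ge r 5 with h | h
        · interval_cases r
          · exact absurd rfl hr2
          · exact absurd rfl hr3'
          · exact absurd hrp (by norm_num)
        · exact h
      have hdvd : r ∣ Nat.card (Cfsg.GU 3 F p ⊓ Cfsg.Geo.specialLinear (Fin 3) F : Subgroup (GL (Fin 3) F)) :=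
        dvd_trans hΩ (Subgroup.relIndex_dvd_card _ _)
      obtain ⟨x, hx⟩ := exists_prime_orderOf_dvd_card' r hdvd
      have hxo : orderOf (x : GL (Fin 3) F) = r := by rw [Subgroup.orderOf_coe]; exact hx
      have hxr : (x : GL (Fin 3) F) ^ r = 1 := by rw [← hxo]; exact pow_orderOf_eq_one _
      have hdetx : ((x : GL (Fin 3) F) : Matrix (Fin 3) (Fin 3) F).det = 1 :=
        (mem_specialLinear_iff _).mp x.2.2
      have hns : ∀ c : F, ((x : GL (Fin 3) F) : Matrix (Fin 3) (Fin 3) F) ≠ c • (1 : Matrix (Fin 3) (Fin 3) F) := by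
        intro c hc
        have hc3 : c ^ 3 = 1 := by
          have := hdetx
          rw [hc, Matrix.det_smul, Matrix.det_one, Fintype.card_fin, mul_one] at this
          exact this
        have hx3 : (x : GL (Fin 3) F) ^ 3 = 1 := by
          apply Units.ext
          rw [Units.val_pow_eq_pow_val, hc, smul_pow, one_pow, hc3, one_smul, Units.val_one]
        have : r ∣ 3 := by rw [← hxo]; exact orderOf_dvd_of_pow_eq_one hx3
        have := Nat.le_of_dvd (by norm_num) this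
        omega
      obtain ⟨g, hg, hmem⟩ := hall x x.2 ⟨1, by rw [hxr, Units.val_one, one_smul]⟩ hns
      obtain ⟨y, hy⟩ : ∃ y : GL (Fin 3) F, y = g⁻¹ * x * g := ⟨_, rfl⟩
      rw [← hy] at hmem
      have hyo : orderOf y = r := by
        rw [hy, ← hxo]
        have : g⁻¹ * (x : GL (Fin 3) F) * g = MulAut.conj g⁻¹ (x : GL (Fin 3) F) := by
          rw [MulAut.conj_apply, inv_inv]
        rw [this, MulEquiv.orderOf_eq]
      have hz1 : z ≠ 1 := by
        intro h
        have := hzs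
        rw [h, Units.val_one] at this
        have h1 : (1 : F) • (1 : Matrix (Fin 3) (Fin 3) F) = ω • 1 := by rw [one_smul]; exact this
        have := congr_fun (congr_fun h1 0) 0
        simp at this
        exact (omega_ne h3 ω hω).1 this.symm
      have hcy : y * z = z * y := by
        apply Units.ext
        rw [Units.val_mul, Units.val_mul, hzs]
        simp
      have hcent := centralizes_of_prime_order R hR y hmem r hr5 hyo z hz hz1 hcy
      obtain ⟨c, hc⟩ := S.scalar_of_centralizes h3 y (hcent a ha) (hcent b hb)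
      apply hns c
      have hxy : (x : GL (Fin 3) F) = g * y * g⁻¹ := by rw [hy]; group
      rw [hxy, Units.val_mul, Units.val_mul, hc, Matrix.mul_smul, Matrix.mul_one, Matrix.smul_mul,
        ← Units.val_mul, mul_inv_cancel, Units.val_one]
  · rintro (rfl | ⟨rfl, hp9⟩)
    · -- r = 2
      intro x hx ⟨c, hc⟩ hns
      have hdetx := (mem_specialLinear_iff x).mp hx.2
      have hxU := (hGU x).mp hx.1
      obtain ⟨X, hX⟩ : ∃ X : Matrix (Fin 3) (Fin 3) F, X = (x : Matrix (Fin 3) (Fin 3) F) := ⟨_, rfl⟩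
      rw [← hX] at hdetx hns hxU
      have hXX : X * X = c • 1 := by rw [← hc, hX, sq, Units.val_mul]
      have hc3 : c ^ 3 = 1 := by
        have := congrArg Matrix.det hXX
        rw [Matrix.det_mul, hdetx, Matrix.det_smul, Matrix.det_one, Fintype.card_fin, mul_one, mul_one] at this
        exact this.symm
      have hc0 : c ≠ 0 := by
        intro h; rw [h] at hc3; simp at hc3
      have he : c ^ 2 ≠ 0 := pow_ne_zero _ hc0
      have hXX' : X * X = ((c ^ 2) ^ 2) • (1 : Matrix (Fin 3) (Fin 3) F) := by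
        rw [hXX]; congr 1; linear_combination (-c) * hc3
      have hc23 : (c ^ 2) ^ 3 = 1 := by rw [← pow_mul, mul_comm, pow_mul, hc3, one_pow]
      have hpn : ∀ μ : F, (μ = c ^ 2 ∨ μ = -c ^ 2) → μ * σ μ = 1 := by
        rintro μ (rfl | rfl)
        · exact hnorm3 _ hc23
        · rw [map_neg, neg_mul_neg]; exact hnorm3 _ hc23
      obtain ⟨Q, d, hQ, hd, hXQ⟩ := exists_diag_unitary hσ h2 X hxU (fun μ => μ = c ^ 2 ∨ μ = -c ^ 2) hpn
        (span_square h2 X (c ^ 2) he hXX')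
      rcases sign_pattern (c ^ 2) d hd with hall | ⟨e', k, he', hdk⟩
      · exfalso
        apply hns (d 0)
        have hdiag : Matrix.diagonal d = (d 0) • (1 : Matrix (Fin 3) (Fin 3) F) := by
          ext i j
          by_cases hij : i = j
          · subst hij; simp [hall i]
          · simp [hij, Matrix.one_apply_ne hij]
        have hQinv : Q * ct σ Q = 1 := hQ.mul_ct hσ.invol
        calc X = X * (Q * ct σ Q) := by rw [hQinv, Matrix.mul_one]
          _ = (X * Q) * ct σ Q := by rw [Matrix.mul_assoc]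
          _ = (d 0) • (1 : Matrix (Fin 3) (Fin 3) F) := by
              rw [hXQ, hdiag, Matrix.mul_smul, Matrix.mul_one, Matrix.smul_mul, hQinv]
      · have he'0 : e' ≠ 0 := by
          rcases he' with h | h
          · rw [h]; exact he
          · rw [h]; exact neg_ne_zero.mpr he
        obtain ⟨y, hyN, P', hP', hyP'⟩ := std_invol_unitary S hσ hPU h2 e' he'0 k
        rw [hX] at hXQ
        obtain ⟨g, hgU, hgSL, hmem⟩ := conj_of_diag_unitary hσ.invol _ x y hyN Q P' hQ hP' d hXQ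
          (by rw [hdk]; exact hyP')
        exact ⟨g, ⟨(hGU g).mpr hgU, hgSL⟩, hmem⟩
    · -- r = 3
      intro x hx ⟨c, hc⟩ _
      have hdetx := (mem_specialLinear_iff x).mp hx.2
      have hxU := (hGU x).mp hx.1
      obtain ⟨X, hX⟩ : ∃ X : Matrix (Fin 3) (Fin 3) F, X = (x : Matrix (Fin 3) (Fin 3) F) := ⟨_, rfl⟩
      rw [← hX] at hdetx hxU
      have hXXX : X * X * X = c • 1 := by
        rw [← hc, hX, pow_succ, pow_succ, pow_one, Units.val_mul, Units.val_mul]
      have hc3 : c ^ 3 = 1 := by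
        have := congrArg Matrix.det hXXX
        rw [Matrix.det_mul, Matrix.det_mul, hdetx, Matrix.det_smul, Matrix.det_one, Fintype.card_fin, mul_one,
          mul_one, mul_one] at this
        exact this.symm
      have hc0 : c ≠ 0 := by
        intro h; rw [h] at hc3; simp at hc3
      have h9 : 9 ∣ Fintype.card F - 1 := by
        rw [hF]
        obtain ⟨k, hk⟩ : ∃ k, p = 9 * k + 8 := ⟨p / 9, by omega⟩
        refine ⟨9 * k ^ 2 + 16 * k + 7, ?_⟩
        apply Nat.sub_eq_of_eq_add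
        rw [hk]; ring
      obtain ⟨κ, hκ0, hκ⟩ := exists_cube_root (F := F) h9 c hc3
      rw [← hκ] at hXXX
      have h9p1 : 9 ∣ p + 1 := by omega
      have hpn : ∀ μ : F, μ ^ 3 = κ ^ 3 → μ * σ μ = 1 := by
        intro μ hμ
        rw [hσdef]
        apply frob_norm_of_pow 9 h9p1
        have : μ ^ 9 = (μ ^ 3) ^ 3 := by rw [← pow_mul]
        rw [this, hμ, hκ, hc3]
      obtain ⟨Q, d, hQ, hd, hXQ⟩ := exists_diag_unitary hσ h2 X hxU (fun μ => μ ^ 3 = κ ^ 3) hpn
        (span_cube h3 ω hω X κ hκ0 hXXX)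
      obtain ⟨y, hyN, hyP⟩ := S.diag_mem_normalizer d (κ ^ 3) (pow_ne_zero _ hκ0) hd
      rw [hX] at hXQ
      obtain ⟨g, hgU, hgSL, hmem⟩ := conj_of_diag_unitary hσ.invol _ x y hyN Q P hQ hPU d hXQ hyP
      exact ⟨g, ⟨(hGU g).mpr hgU, hgSL⟩, hmem⟩

end Cfsg.Agent.S5999
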